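import Cfsg.Prelude.Def_EvenType

/-!
# Elementary consequences of having a strongly `p`-embedded subgroup
-/

namespace CfsgLib.Fusion

open Cfsg
open scoped Pointwise

variable {X : Type*} [Group X] [Finite X] {p : ℕ} [Fact p.Prime] {E : Subgroup X}

theorem not_pRankLE_zero {A : Subgroup X} (hA : IsPGroup p A) (hne : A ≠ ⊥) : ¬ PRankLE p 0 A := by
  obtain ⟨n, hn⟩ := IsPGroup.iff_card.mp hA
  have hp : p ∣ Nat.card A := by
    rw [hn]
    refine dvd_pow_self p fun h0 => hne (Subgroup.card_eq_one.mp ?_)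
    rw [hn, h0, pow_zero]
  obtain ⟨a, ha⟩ := exists_prime_orderOf_dvd_card' p hp
  intro h
  have h1 := h (Subgroup.zpowers a) inferInstance fun b hb =>
    orderOf_dvd_iff_pow_eq_one.mp (ha ▸ orderOf_dvd_of_mem_zpowers hb)
  rw [pow_zero, Nat.card_zpowers, ha] at h1
  exact absurd h1 (Fact.out : p.Prime).one_lt.not_ge

/-- A subgroup `E` containing the normalizers of all nontrivial subgroups of the Sylow group `R`. -/
structure EmbeddingData (p : ℕ) (R : Sylow p X) (E : Subgroup X) : Prop where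
  le : (R : Subgroup X) ≤ E
  normalizer_le : ∀ A : Subgroup X, A ≤ R → A ≠ ⊥ → Subgroup.normalizer (A : Set X) ≤ E

theorem exists_embeddingData (h : IsStronglyPEmbedded p E) : ∃ R : Sylow p X, EmbeddingData p R E := by
  obtain ⟨hp, -, R, hR⟩ := h
  have hn : ∀ A : Subgroup X, A ≤ R → A ≠ ⊥ → Subgroup.normalizer (A : Set X) ≤ E :=
    fun A hA hne =>
      (le_iSup (fun Q : {Q : Subgroup X // Q ≤ (R : Subgroup X) ∧ ¬ PRankLE p (1 - 1) Q} =>
        Subgroup.normalizer ((Q : Subgroup X) : Set X)) ⟨A, hA, by simpa using not_pRankLE_zero (R.2.to_le hA) hne⟩).trans hR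
  exact ⟨R, Subgroup.le_normalizer.trans (hn _ le_rfl (R.ne_bot_of_dvd_card hp)), hn⟩

/-- Conjugating `R` by an element of `E` keeps the data. -/
theorem EmbeddingData.smul {R : Sylow p X} (h : EmbeddingData p R E) {e : X} (he : e ∈ E) :
    EmbeddingData p (e • R) E := by
  have hmem : ∀ x, x ∈ ((e • R : Sylow p X) : Subgroup X) ↔ e⁻¹ * x * e ∈ (R : Subgroup X) := by
    intro x
    rw [Sylow.coe_subgroup_smul, Subgroup.mem_pointwise_smul_iff_inv_smul_mem]
    simp [MulAut.smul_def, MulAut.conj_inv_apply]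
  refine ⟨fun x hx => ?_, fun A hA hne n hn => ?_⟩
  · have := E.mul_mem (E.mul_mem he (h.le ((hmem x).mp hx))) (E.inv_mem he)
    simpa [mul_assoc] using this
  · set B := A.map (MulAut.conj e⁻¹).toMonoidHom
    have hB : B ≤ (R : Subgroup X) := by
      rintro _ ⟨x, hx, rfl⟩
      simpa using (hmem x).mp (hA hx)
    have hBne : B ≠ ⊥ := fun h0 => hne <| by
      exact (Subgroup.map_eq_bot_iff_of_injective A (f := (MulAut.conj e⁻¹).toMonoidHom)
        (MulAut.conj e⁻¹).injective).mp h0
    have hn' : (MulAut.conj e⁻¹) n ∈ Subgroup.normalizer (B : Set X) := by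
      rw [← Subgroup.map_normalizer_eq_of_bijective A (f := (MulAut.conj e⁻¹).toMonoidHom)
        (MulAut.conj e⁻¹).bijective]
      exact ⟨n, hn, rfl⟩
    have := E.mul_mem (E.mul_mem he (h.normalizer_le B hB hBne hn')) (E.inv_mem he)
    simpa [mul_assoc] using this

/-- Transporting the data by conjugation. -/
theorem EmbeddingData.map_conj {R : Sylow p X} (h : EmbeddingData p R E) (x : X) :
    EmbeddingData p (x • R) (E.map (MulAut.conj x).toMonoidHom) := by
  refine ⟨?_, fun A hA hne => ?_⟩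
  · rw [Sylow.coe_subgroup_smul]; exact Subgroup.map_mono h.le
  · have hinj : Function.Injective (MulAut.conj x).toMonoidHom := (MulAut.conj x).injective
    have hA' : A ≤ (R : Subgroup X).map (MulAut.conj x).toMonoidHom := by
      rw [Sylow.coe_subgroup_smul] at hA; exact hA
    obtain ⟨B, hB, rfl⟩ : ∃ B ≤ (R : Subgroup X), B.map (MulAut.conj x).toMonoidHom = A :=
      ⟨A.comap (MulAut.conj x).toMonoidHom, fun y hy => (Subgroup.mem_map_iff_mem hinj).mp (hA' hy),
        Subgroup.map_comap_eq_self (by rw [MonoidHom.range_eq_top.mpr (MulAut.conj x).surjective]; exact le_top)⟩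
    rw [← Subgroup.map_normalizer_eq_of_bijective B (f := (MulAut.conj x).toMonoidHom)
      (MulAut.conj x).bijective]
    exact Subgroup.map_mono (h.normalizer_le B hB fun h0 => hne (by rw [h0, Subgroup.map_bot]))

/-- Every nontrivial `p`-subgroup of `E` has its normalizer in `E`. -/
theorem EmbeddingData.normalizer_le' {R : Sylow p X} (h : EmbeddingData p R E) {U : Subgroup X}
    (hU : U ≤ E) (hUp : IsPGroup p U) (hne : U ≠ ⊥) : Subgroup.normalizer (U : Set X) ≤ E := by
  obtain ⟨T, hT⟩ := (hUp.comap_subtype (K := E)).exists_le_sylow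
  obtain ⟨e, he⟩ := MulAction.exists_smul_eq E (R.subtype h.le) T
  refine (h.smul e.2).normalizer_le U (fun x hx => ?_) hne
  have hxT : (⟨x, hU hx⟩ : E) ∈ (T : Subgroup E) := hT hx
  rw [← he, Sylow.coe_subgroup_smul, Subgroup.mem_pointwise_smul_iff_inv_smul_mem] at hxT
  rw [Sylow.coe_subgroup_smul, Subgroup.mem_pointwise_smul_iff_inv_smul_mem]
  exact hxT

/-- Fusion inside a strongly embedded subgroup. -/
theorem EmbeddingData.mem_of_conj {R : Sylow p X} (h : EmbeddingData p R E) {A : Subgroup X}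
    (hA : A ≤ E) (hAp : IsPGroup p A) (hne : A ≠ ⊥) {x : X} (hx : ∀ a ∈ A, x * a * x⁻¹ ∈ E) :
    x ∈ E := by
  -- the subgroup of `E` carried into `E` by `x`
  set D := E ⊓ E.comap (MulAut.conj x).toMonoidHom with hD
  have hAD : A ≤ D := fun a ha => ⟨hA ha, hx a ha⟩
  obtain ⟨T, hT⟩ := (hAp.comap_subtype (K := D)).exists_le_sylow
  set U := (T : Subgroup D).map D.subtype with hU
  have hUp : IsPGroup p U := T.2.map _
  have hUD : U ≤ D := Subgroup.map_subtype_le _
  have hAU : A ≤ U := fun a ha => ⟨⟨a, hAD ha⟩, hT ha, rfl⟩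
  have hUne : U ≠ ⊥ := fun h0 => hne (le_bot_iff.mp (h0 ▸ hAU))
  have hinj : Function.Injective (MulAut.conj x).toMonoidHom := (MulAut.conj x).injective
  have hN₁ := h.normalizer_le' (hUD.trans inf_le_left) hUp hUne
  have hN₂ := h.normalizer_le' (U := U.map (MulAut.conj x).toMonoidHom)
    (Subgroup.map_le_iff_le_comap.mpr (hUD.trans inf_le_right)) (hUp.map _)
    (fun h0 => hUne ((Subgroup.map_eq_bot_iff_of_injective U hinj).mp h0))
  rw [← Subgroup.map_normalizer_eq_of_bijective U (f := (MulAut.conj x).toMonoidHom)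
    (MulAut.conj x).bijective, Subgroup.map_le_iff_le_comap] at hN₂
  obtain ⟨T', hT'⟩ := hUp.exists_le_sylow
  have hUT : U = T' := by
    refine (lt_or_eq_of_le hT').resolve_left fun hlt => ?_
    have hne' : U.subgroupOf (T' : Subgroup X) < ⊤ := lt_top_iff_ne_top.mpr fun he =>
      hlt.not_ge fun y hy => (Subgroup.mem_subgroupOf (h := ⟨y, hy⟩)).mp (he ▸ Subgroup.mem_top _)
    have : Group.IsNilpotent (T' : Subgroup X) := T'.2.isNilpotent
    obtain ⟨g, hg, hgU⟩ := Set.exists_of_ssubset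
      (Group.normalizerCondition_of_isNilpotent (G := (T' : Subgroup X)) _ hne')
    -- `⟨U, g⟩` is a larger `p`-subgroup of `D`
    have hgN : (g : X) ∈ Subgroup.normalizer (U : Set X) := by
      rw [Subgroup.mem_normalizer_iff]
      intro y
      constructor
      · exact fun hy => ((Subgroup.mem_normalizer_iff.mp hg) ⟨y, hT' hy⟩).mp hy
      · intro hy
        have hyT : y ∈ (T' : Subgroup X) := by
          have := T'.mul_mem (T'.mul_mem (inv_mem g.2) (hT' hy)) g.2
          simpa [mul_assoc] using this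
        exact ((Subgroup.mem_normalizer_iff.mp hg) ⟨y, hyT⟩).mpr hy
    have hgD : (g : X) ∈ D := ⟨hN₁ hgN, hN₂ hgN⟩
    have hmax := T.3 (Q := (T' : Subgroup X).subgroupOf D) (T'.2.comap_subtype)
      fun d hd => hT' ⟨d, hd, rfl⟩
    exact hgU ⟨⟨g, hgD⟩, hmax.le (Subgroup.mem_subgroupOf.mpr g.2), rfl⟩
  -- `U` and its conjugate are Sylow subgroups inside `E`
  have h₁ : ((x • T' : Sylow p X) : Subgroup X) ≤ E := by
    rw [Sylow.coe_subgroup_smul, ← hUT]
    exact Subgroup.map_le_iff_le_comap.mpr (hUD.trans inf_le_right)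
  have h₂ : (T' : Subgroup X) ≤ E := hUT ▸ hUD.trans inf_le_left
  obtain ⟨e, he⟩ := MulAction.exists_smul_eq E (T'.subtype h₂) ((x • T').subtype h₁)
  rw [Sylow.smul_subtype] at he
  have he' := Sylow.subtype_injective he
  have hmem : (e : X)⁻¹ * x ∈ Subgroup.normalizer (((T' : Sylow p X) : Subgroup X) : Set X) := by
    refine Sylow.smul_eq_iff_mem_normalizer.mp ?_
    rw [mul_smul, ← he']
    exact inv_smul_smul (e : X) T'
  have := E.mul_mem e.2 (hN₁ (hUT ▸ hmem))
  simpa using this

theorem pCore_eq_bot_of_embedded (h : IsStronglyPEmbedded p E) : pCore p X = ⊥ := by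
  obtain ⟨R, hR⟩ := exists_embeddingData h
  by_contra hne
  refine h.2.1 (top_le_iff.mp ?_)
  have hn : (pCore p X).Normal := Subgroup.sSup_normal _ fun _ hN => hN.1
  have hp : IsPGroup p (pCore p X) := Sylow.sSup_of_normal _ (fun _ hN => hN.2) fun _ hN => hN.1
  have := hR.normalizer_le _ (hp.le_sylow_of_normal R) hne
  rwa [Subgroup.normalizer_eq_top] at this

end CfsgLib.Fusion
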