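import Cfsg.Agent.Lib.Fusion.Aut

/-!
# Saturated fusion systems: equivalent axiom sets
-/

namespace CfsgLib.Fusion

open Cfsg Cfsg.FusionSystem

variable {Ω : Type*} [Group Ω] {S : Subgroup Ω} {F : FusionSystem S} {P Q R N M : Subgroup Ω}

theorem finite_mulAut [Finite S] (hP : P ≤ S) : Finite (MulAut P) := by
  have := finite_of_le hP
  exact Finite.of_injective (fun a : MulAut P => ⇑a) DFunLike.coe_injective

theorem isPGroup_autInducedBy {p : ℕ} (hS : IsPGroup p S) (P : Subgroup Ω) :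
    IsPGroup p (autInducedBy S P) := by
  rw [autInducedBy_eq_map]
  exact (hS.comap_subtype (K := Subgroup.normalizer (P : Set Ω))).map _

theorem card_le_of_map [Finite S] {φ : P →* Ω} (hφ : φ ∈ F.Hom P) (hM : M ≤ S)
    (h : ∀ x : P, φ x ∈ M) : Nat.card P ≤ Nat.card M := by
  have := finite_of_le hM
  exact Nat.card_le_card_of_injective (fun x => (⟨φ x, h x⟩ : M))
    fun a b e => F.injective_of_mem hφ (congrArg Subtype.val e)

theorem range_eq_of_card_le [Finite S] {φ : P →* Ω} (hφ : φ ∈ F.Hom P) (hM : M ≤ S)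
    (h : ∀ x : P, φ x ∈ M) (hc : Nat.card M ≤ Nat.card P) : φ.range = M := by
  have := finite_of_le hM
  refine eq_of_le_of_card_le (fun y hy => ?_) (by rwa [card_range hφ])
  obtain ⟨x, rfl⟩ := hy
  exact h x

/-- Elements of a finite subgroup mapped into itself by conjugation normalize it. -/
theorem mem_normalizer_of_forall [Finite P] {g : Ω} (h : ∀ x ∈ P, g * x * g⁻¹ ∈ P) :
    g ∈ Subgroup.normalizer (P : Set Ω) := by
  let f : P → P := fun x => ⟨g * x * g⁻¹, h x x.2⟩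
  have hinj : Function.Injective f := fun a b e =>
    Subtype.ext (mul_left_cancel (mul_right_cancel (congrArg Subtype.val e)))
  rw [Subgroup.mem_normalizer_iff]
  refine fun x => ⟨h x, fun hx => ?_⟩
  obtain ⟨y, hy⟩ := Finite.surjective_of_injective hinj ⟨_, hx⟩
  have : x = y := (mul_left_cancel (mul_right_cancel (congrArg Subtype.val hy))).symm
  rw [this]; exact y.2

/-! ### Extensions -/

theorem exists_extension {φ : P →* Ω} (hQ : F.IsReceptive Q) (hφ : φ ∈ F.Hom P)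
    (hr : φ.range = Q) (hPN : P ≤ N) (hN : N ≤ extender S P φ) :
    ∃ ψ ∈ F.Hom N, ∀ x : P, ψ ⟨x, hPN x.2⟩ = φ x := by
  obtain ⟨ψ, hψ, h⟩ := hQ.2 P φ hφ hr
  exact ⟨_, restrict_mem hN hψ, fun x => h x x.2 (hN (hPN x.2))⟩

theorem extension_conj {φ : P →* Ω} {ψ : N →* Ω} (hPN : P ≤ N)
    (h : ∀ x : P, ψ ⟨x, hPN x.2⟩ = φ x) (g : N) (x : P) (hx : (g : Ω) * x * (g : Ω)⁻¹ ∈ P) :
    φ ⟨_, hx⟩ = ψ g * φ x * (ψ g)⁻¹ := by
  rw [← h, ← h, ← map_inv ψ, ← map_mul ψ, ← map_mul ψ]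
  exact apply_eq_of_coe_eq rfl

theorem extension_mem_normalizerIn [Finite S] {φ : P →* Ω} {ψ : N →* Ω} (hφ : φ ∈ F.Hom P)
    (hψ : ψ ∈ F.Hom N) (hr : φ.range = Q) (hPN : P ≤ N) (h : ∀ x : P, ψ ⟨x, hPN x.2⟩ = φ x) (g : N)
    (hg : (g : Ω) ∈ Subgroup.normalizer (P : Set Ω)) : ψ g ∈ normalizerIn S Q := by
  have := finite_of_le (hr ▸ range_le_S hφ : Q ≤ S)
  refine ⟨apply_mem_S hψ g, mem_normalizer_of_forall ?_⟩
  intro y hy
  obtain ⟨x, rfl⟩ := hr.ge hy
  rw [← extension_conj hPN h g x ((Subgroup.mem_normalizer_iff.mp hg x).mp x.2), ← hr]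
  exact ⟨_, rfl⟩

theorem extension_mem_centralizerIn {φ : P →* Ω} {ψ : N →* Ω} (hψ : ψ ∈ F.Hom N)
    (hr : φ.range = Q) (hPN : P ≤ N) (h : ∀ x : P, ψ ⟨x, hPN x.2⟩ = φ x) (g : N)
    (hg : (g : Ω) ∈ centralizerIn S P) : ψ g ∈ centralizerIn S Q := by
  refine mem_centralizerIn'.mpr ⟨apply_mem_S hψ g, fun y => ?_⟩
  obtain ⟨x, hx⟩ := hr.ge y.2
  have e := (mem_centralizerIn'.mp hg).2 x
  have hm : (g : Ω) * x * (g : Ω)⁻¹ ∈ P := by rw [e]; exact x.2
  rw [← hx, ← extension_conj hPN h g x hm]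
  exact apply_eq_of_coe_eq e

/-- A receptive subgroup is fully centralized. -/
theorem fullyCentralized_of_receptive [Finite S] (hP : F.IsReceptive P) : F.IsFullyCentralized P := by
  refine ⟨hP.1, fun Q hQ => ?_⟩
  obtain ⟨φ, hφ, hr⟩ := isConj_symm hQ
  have hQS : Q ≤ S := le_S hφ
  have hN : Q ⊔ centralizerIn S Q ≤ extender S Q φ :=
    sup_le (le_extender hQS (apply_mem_S hφ)) centralizerIn_le_extender
  obtain ⟨ψ, hψ, h⟩ := exists_extension hP hφ hr le_sup_left hN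
  exact card_le_of_map (restrict_mem (le_sup_right : centralizerIn S Q ≤ _) hψ) centralizerIn_le
    fun g => extension_mem_centralizerIn hψ hr le_sup_left h ⟨g, le_sup_right (a := Q) g.2⟩ g.2

/-! ### Fully automized subgroups -/

theorem fullyAutomized_iff [Finite S] {p : ℕ} [Fact p.Prime] :
    F.IsFullyAutomized p P ↔ P ≤ S ∧
      Nat.card (autInducedBy S P) = p ^ (Nat.card (F.autGroup P)).factorization p := by
  refine and_congr_right fun hP => ?_
  have := finite_mulAut hP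
  have e : Nat.card ((autInducedBy S P).subgroupOf (F.autGroup P)) = Nat.card (autInducedBy S P) :=
    Nat.card_congr (Subgroup.subgroupOfEquivOfLe (autInducedBy_le_autGroup hP)).toEquiv
  constructor
  · rintro ⟨R, hR⟩
    have h1 := R.card_eq_multiplicity
    rw [← e, ← hR]; exact h1
  · intro h
    exact ⟨Sylow.ofCard _ (e.trans h), Sylow.coe_ofCard _ _⟩

/-- In a fully automized subgroup, every `p`-subgroup of `Aut_F(P)` is conjugate into `Aut_S(P)`. -/
theorem FullyAutomized.exists_conj [Finite S] {p : ℕ} [Fact p.Prime]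
    (hP : F.IsFullyAutomized p P) {A : Subgroup (MulAut P)} (hA : A ≤ F.autGroup P)
    (hAp : IsPGroup p A) :
    ∃ α ∈ F.autGroup P, ∀ a ∈ A, α * a * α⁻¹ ∈ autInducedBy S P := by
  obtain ⟨hPS, T, hT⟩ := hP
  have := finite_mulAut hPS
  obtain ⟨T', hT'⟩ := (hAp.comap_subtype (K := F.autGroup P)).exists_le_sylow
  obtain ⟨g, hg⟩ := MulAction.exists_smul_eq (F.autGroup P) T' T
  refine ⟨g, g.2, fun a ha => ?_⟩
  have h2 : g * ⟨a, hA ha⟩ * g⁻¹ ∈ (T : Subgroup (F.autGroup P)) := by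
    rw [← hg, Sylow.coe_subgroup_smul]
    exact Subgroup.smul_mem_pointwise_smul _ (MulAut.conj g) _ (hT' ha)
  rw [hT] at h2
  exact h2

/-- If `P` is fully automized and receptive, every conjugate `Q` has a map `N_S(Q) → N_S(P)`
carrying `Q` onto `P`. -/
theorem exists_normalizer_hom [Finite S] {p : ℕ} [Fact p.Prime] (hS : IsPGroup p S)
    (h₁ : F.IsFullyAutomized p P) (h₂ : F.IsReceptive P) (hQ : F.IsConj Q P) :
    ∃ φ ∈ F.Hom (normalizerIn S Q), (∀ x, φ x ∈ normalizerIn S P) ∧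
      (Q.subgroupOf (normalizerIn S Q)).map φ = P := by
  obtain ⟨φ₀, hφ₀, hr₀⟩ := hQ
  have hQS : Q ≤ S := le_S hφ₀
  obtain ⟨e, he⟩ := exists_equiv hφ₀ hr₀
  obtain ⟨α, hα, hαA⟩ := FullyAutomized.exists_conj h₁
    (A := (autInducedBy S Q).map (MulAut.congr e).toMonoidHom)
    ((Subgroup.map_mono (autInducedBy_le_autGroup hQS)).trans (map_autGroup hφ₀ he).le)
    ((isPGroup_autInducedBy hS Q).map _)
  obtain ⟨αm, hαm, hαr, hαe⟩ := exists_map_of_mem_autGroup h₁.1 hα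
  obtain ⟨φ, hφ, hφe⟩ := exists_comp hφ₀ hαm (fun x => hr₀.le ⟨x, rfl⟩)
  have hφ' : ∀ x : Q, φ x = ((α (e x) : P) : Ω) := fun x => by
    rw [hφe, hαe]; congr 2; exact Subtype.ext (he x).symm
  have hr : φ.range = P := by
    ext y
    constructor
    · rintro ⟨x, rfl⟩; rw [hφ']; exact (α (e x)).2
    · intro hy; exact ⟨e.symm (α.symm ⟨y, hy⟩), by rw [hφ']; simp⟩
  have hN : normalizerIn S Q ≤ extender S Q φ := by
    rintro g ⟨hgS, hgN⟩
    obtain ⟨a, ha, hae⟩ := exists_autInducedBy (K := S) hgS hgN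
    obtain ⟨h, hh, hhe⟩ := mem_autInducedBy.mp (hαA _ ⟨a, ha, rfl⟩)
    refine mem_extender.mpr ⟨hgS, hgN, h, hh, fun x hx => ?_⟩
    have h3 := hhe (α (e x))
    rw [hφ', hφ', ← h3]
    have hx' : (⟨g * x * g⁻¹, hx⟩ : Q) = a x := Subtype.ext (hae x).symm
    rw [hx']
    simp [MulAut.congr]
  obtain ⟨ψ, hψ, h⟩ := exists_extension h₂ hφ hr (le_normalizerIn hQS) hN
  refine ⟨ψ, hψ, fun g => extension_mem_normalizerIn hφ hψ hr (le_normalizerIn hQS) h g g.2.2, ?_⟩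
  ext y
  rw [mem_map_subgroupOf]
  constructor
  · rintro ⟨x, hx, rfl⟩; rw [← hr]; exact ⟨⟨x, hx⟩, (h ⟨x, hx⟩).symm⟩
  · intro hy
    obtain ⟨x, rfl⟩ := hr.ge hy
    exact ⟨⟨x, le_normalizerIn hQS x.2⟩, x.2, h x⟩

theorem fullyNormalized_of_fullyAutomized_receptive [Finite S] {p : ℕ} [Fact p.Prime]
    (hS : IsPGroup p S) (h₁ : F.IsFullyAutomized p P) (h₂ : F.IsReceptive P) :
    F.IsFullyNormalized P := by
  refine ⟨h₁.1, fun Q hQ => ?_⟩
  obtain ⟨φ, hφ, hm, -⟩ := exists_normalizer_hom hS h₁ h₂ (isConj_symm hQ)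
  exact card_le_of_map hφ normalizerIn_le hm

/-- Every subgroup of `S` has a fully normalized conjugate. -/
theorem exists_fullyNormalized [Finite S] (hP : P ≤ S) :
    ∃ Q, F.IsConj P Q ∧ F.IsFullyNormalized Q := by
  have : Finite {R : Subgroup Ω // R ≤ S} :=
    Finite.of_injective (fun R => (R : Subgroup Ω).subgroupOf S) fun a b h =>
      Subtype.ext ((inf_of_le_left a.2).symm.trans ((Subgroup.subgroupOf_inj.mp h).trans
        (inf_of_le_left b.2)))
  have : Nonempty {R : {R : Subgroup Ω // R ≤ S} // F.IsConj P R} := ⟨⟨⟨P, hP⟩, isConj_refl hP⟩⟩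
  obtain ⟨⟨Q, hQ⟩, hmax⟩ := Finite.exists_max
    fun R : {R : {R : Subgroup Ω // R ≤ S} // F.IsConj P R} => Nat.card (normalizerIn S (R.1 : Subgroup Ω))
  exact ⟨Q, hQ, Q.2, fun R hR =>
    hmax ⟨⟨R, IsConj.le_right hR⟩, isConj_trans hQ hR⟩⟩

section saturated

variable [Finite S] {p : ℕ} [Fact p.Prime]

/-- A saturated system supplies, for every `P`, a normalizer map to a fully automized receptive
conjugate. -/
theorem exists_good_conj (hS : IsPGroup p S) (hF : F.IsSaturated p) (hP : P ≤ S) :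
    ∃ Q, F.IsFullyAutomized p Q ∧ F.IsReceptive Q ∧ F.IsConj P Q ∧
      ∃ φ ∈ F.Hom (normalizerIn S P), (∀ x, φ x ∈ normalizerIn S Q) ∧
        (P.subgroupOf (normalizerIn S P)).map φ = Q := by
  obtain ⟨Q, hQ, ha, hr⟩ := hF P hP
  exact ⟨Q, ha, hr, hQ, exists_normalizer_hom hS ha hr hQ⟩

/-- Fully centralized subgroups of a saturated system are receptive. -/
theorem receptive_of_fullyCentralized (hS : IsPGroup p S) (hF : F.IsSaturated p)
    (hP : F.IsFullyCentralized P) : F.IsReceptive P := by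
  obtain ⟨Q, -, hQr, hQc, χ, hχ, hχm, hχP⟩ := exists_good_conj hS hF hP.1
  obtain ⟨χ₀, hχ₀, hχ₀r, hχ₀e⟩ := exists_restrict hχ (le_normalizerIn hP.1) hχP
  have hC : ∀ g : centralizerIn S P, χ ⟨g, centralizerIn_le_normalizerIn g.2⟩ ∈ centralizerIn S Q :=
    fun g => extension_mem_centralizerIn hχ hχ₀r (le_normalizerIn hP.1)
      (fun x => (hχ₀e x).symm) _ g.2
  have hCeq := range_eq_of_card_le (restrict_mem centralizerIn_le_normalizerIn hχ) centralizerIn_le hC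
    (hP.2 Q hQc)
  have hCr : centralizerIn S Q ≤ χ.range := by
    rw [← hCeq]; rintro _ ⟨x, rfl⟩; exact ⟨_, rfl⟩
  obtain ⟨χi, hχi, -, hχi₁, hχi₂⟩ := exists_inv hχ (rfl : χ.range = χ.range)
  refine ⟨hP.1, fun R φ hφ hφr => ?_⟩
  obtain ⟨φ', hφ', hφ'e⟩ := exists_comp hφ hχ₀ fun x => hφr.le ⟨x, rfl⟩
  have hφ'r : φ'.range = Q := by
    rw [← hχ₀r]; ext y
    constructor
    · rintro ⟨x, rfl⟩; exact ⟨_, (hφ'e x).symm⟩
    · rintro ⟨z, rfl⟩
      obtain ⟨x, hx⟩ := hφr.ge z.2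
      exact ⟨x, by rw [hφ'e]; exact apply_eq_of_coe_eq hx⟩
  have hφ'χ : ∀ x : R, φ' x = χ ⟨φ x, le_normalizerIn hP.1 (hφr.le ⟨x, rfl⟩)⟩ :=
    fun x => by rw [hφ'e, hχ₀e]
  have key : ∀ g, g ∈ extender S R φ → ∃ h, ∃ hn : h ∈ normalizerIn S P,
      ∀ (x : R) (hx : g * (x : Ω) * g⁻¹ ∈ R), φ' ⟨_, hx⟩ = χ ⟨h, hn⟩ * φ' x * (χ ⟨h, hn⟩)⁻¹ := by
    intro g hg
    obtain ⟨-, hgN, h, hh, he⟩ := mem_extender.mp hg
    have := finite_of_le hP.1
    have hn : h ∈ normalizerIn S P := ⟨hh, mem_normalizer_of_forall fun y hy => by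
      obtain ⟨x, rfl⟩ := hφr.ge hy
      rw [← he x ((Subgroup.mem_normalizer_iff.mp hgN x).mp x.2), ← hφr]; exact ⟨_, rfl⟩⟩
    refine ⟨h, hn, fun x hx => ?_⟩
    rw [hφ'χ, hφ'χ, ← map_inv χ, ← map_mul χ, ← map_mul χ]
    exact apply_eq_of_coe_eq (he x hx)
  have hN : extender S R φ ≤ extender S R φ' := fun g hg => by
    obtain ⟨hgS, hgN, -⟩ := mem_extender.mp hg
    obtain ⟨h, hn, he⟩ := key g hg
    exact mem_extender.mpr ⟨hgS, hgN, _, apply_mem_S hχ ⟨h, hn⟩, he⟩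
  have hRN : R ≤ extender S R φ := le_extender (le_S hφ) (apply_mem_S hφ)
  obtain ⟨ρ, hρ, hρe⟩ := exists_extension hQr hφ' hφ'r hRN hN
  have hρm : ∀ g : extender S R φ, ρ g ∈ χ.range := by
    intro g
    obtain ⟨h, hn, he⟩ := key g g.2
    have hgN := (mem_extender.mp g.2).2.1
    have : (χ ⟨h, hn⟩)⁻¹ * ρ g ∈ centralizerIn S Q := by
      refine mem_centralizerIn'.mpr
        ⟨S.mul_mem (S.inv_mem (apply_mem_S hχ _)) (apply_mem_S hρ g), fun y => ?_⟩
      obtain ⟨x, hx⟩ := hφ'r.ge y.2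
      have hm := (Subgroup.mem_normalizer_iff.mp hgN x).mp x.2
      have h1 := extension_conj hRN hρe g x hm
      have h2 := he x hm
      rw [h2] at h1
      rw [← hx]
      calc _ = (χ ⟨h, hn⟩)⁻¹ * (ρ g * φ' x * (ρ g)⁻¹) * χ ⟨h, hn⟩ := by group
        _ = _ := by rw [← h1]; group
    have h3 := χ.range.mul_mem ⟨⟨h, hn⟩, rfl⟩ (hCr this)
    rwa [mul_inv_cancel_left] at h3
  obtain ⟨ψ, hψ, hψe⟩ := exists_comp hρ hχi hρm
  refine ⟨ψ, hψ, fun x hx hxN => ?_⟩
  rw [hψe]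
  refine Eq.trans (apply_eq_of_coe_eq ?_) (hχi₁ ⟨φ ⟨x, hx⟩, le_normalizerIn hP.1 (hφr.le ⟨_, rfl⟩)⟩
    ⟨_, rfl⟩)
  show ρ ⟨x, hxN⟩ = _
  exact (hρe ⟨x, hx⟩).trans (hφ'χ _)

/-- Fully normalized subgroups of a saturated system are fully automized and receptive. -/
theorem fullyNormalized_good (hS : IsPGroup p S) (hF : F.IsSaturated p)
    (hP : F.IsFullyNormalized P) : F.IsFullyAutomized p P ∧ F.IsReceptive P := by
  obtain ⟨Q, hQa, hQr, hQc, χ, hχ, hχm, hχP⟩ := exists_good_conj hS hF hP.1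
  have hNN : Nat.card (normalizerIn S Q) = Nat.card (normalizerIn S P) :=
    le_antisymm (hP.2 Q hQc) (card_le_of_map hχ normalizerIn_le hχm)
  obtain ⟨χi, hχi, hχir, hχi₁, -⟩ := exists_inv hχ
    (range_eq_of_card_le hχ normalizerIn_le hχm hNN.le)
  obtain ⟨χ₀, hχ₀, hχ₀r, hχ₀e⟩ := exists_restrict hχ (le_normalizerIn hP.1) hχP
  have hC : Nat.card (centralizerIn S Q) ≤ Nat.card (centralizerIn S P) := by
    have hQle : Q ≤ normalizerIn S Q := le_normalizerIn hQa.1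
    obtain ⟨φi, hφi, hφir, hφi₁, -⟩ := exists_inv hχ₀ hχ₀r
    refine card_le_of_map (restrict_mem centralizerIn_le_normalizerIn hχi) centralizerIn_le fun g =>
      extension_mem_centralizerIn hχi hφir hQle (fun y => ?_) _ g.2
    obtain ⟨x, hx⟩ := hχ₀r.ge y.2
    have h1 : χ ⟨x, le_normalizerIn hP.1 x.2⟩ = y := (hχ₀e x).symm.trans hx
    calc χi ⟨y, hQle y.2⟩ = χi ⟨χ ⟨x, le_normalizerIn hP.1 x.2⟩, hχm _⟩ :=
          apply_eq_of_coe_eq h1.symm
      _ = x := hχi₁ _ _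
      _ = φi ⟨χ₀ x, hχ₀r.le ⟨x, rfl⟩⟩ := (hφi₁ _ _).symm
      _ = φi y := apply_eq_of_coe_eq hx
  have hQcl := fullyCentralized_of_receptive hQr
  have hPc : F.IsFullyCentralized P :=
    ⟨hP.1, fun R hR => (hQcl.2 R (isConj_trans (isConj_symm hQc) hR)).trans hC⟩
  refine ⟨fullyAutomized_iff.mpr ⟨hP.1, ?_⟩, receptive_of_fullyCentralized hS hF hPc⟩
  have hcc : Nat.card (centralizerIn S Q) = Nat.card (centralizerIn S P) :=
    le_antisymm hC (hQcl.2 P (isConj_symm hQc))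
  rw [card_normalizerIn, card_normalizerIn, hcc] at hNN
  have := finite_of_le (centralizerIn_le (S := S) (P := P))
  rw [← card_autGroup_eq hQc, ← (fullyAutomized_iff.mp hQa).2]
  exact (Nat.eq_of_mul_eq_mul_left Nat.card_pos hNN).symm

/-- Saturation in terms of the Sylow and extension axioms. -/
theorem saturated_iff_axioms (hS : IsPGroup p S) :
    F.IsSaturated p ↔ (∀ P, F.IsFullyNormalized P → F.IsFullyCentralized P ∧ F.IsFullyAutomized p P) ∧
      ∀ P, F.IsFullyCentralized P → F.IsReceptive P := by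
  refine ⟨fun hF => ⟨fun P hP => ?_, fun P => receptive_of_fullyCentralized hS hF⟩, fun h P hP => ?_⟩
  · exact ⟨fullyCentralized_of_receptive (fullyNormalized_good hS hF hP).2,
      (fullyNormalized_good hS hF hP).1⟩
  · obtain ⟨Q, hQ, hn⟩ := exists_fullyNormalized (F := F) hP
    exact ⟨Q, hQ, (h.1 Q hn).2, h.2 Q (h.1 Q hn).1⟩

/-! ### Growth of normalizers -/

theorem lt_normalizerIn (hS : IsPGroup p S) (hK : N ≤ S) (hPK : P < N) : P < normalizerIn N P := by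
  have := finite_of_le hK
  have : Group.IsNilpotent N := (hS.to_le hK).isNilpotent
  refine lt_of_le_of_ne (le_normalizerIn hPK.le) fun h => ?_
  have hne : P.subgroupOf N < ⊤ := by
    refine lt_top_iff_ne_top.mpr fun he => hPK.not_ge fun x hx => ?_
    exact (Subgroup.mem_subgroupOf (h := ⟨x, hx⟩)).mp (he ▸ Subgroup.mem_top _)
  obtain ⟨g, hg, hgP⟩ := Set.exists_of_ssubset (Group.normalizerCondition_of_isNilpotent (G := N) _ hne)
  have := finite_of_le (hPK.le.trans hK)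
  refine hgP (Subgroup.mem_subgroupOf.mpr (h.ge ⟨g.2, mem_normalizer_of_forall fun x hx => ?_⟩))
  exact ((Subgroup.mem_normalizer_iff.mp hg) ⟨x, hPK.le hx⟩).mp hx

/-- The axioms of Roberts and Shpectorov suffice for saturation. -/
theorem saturated_of_top_and_receptive (hS : IsPGroup p S) (hA : F.IsFullyAutomized p S)
    (hR : ∀ P, F.IsFullyNormalized P → F.IsReceptive P) : F.IsSaturated p := by
  suffices h : ∀ (n : ℕ) (P : Subgroup Ω), Nat.card S - Nat.card P < n → F.IsFullyNormalized P →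
      F.IsFullyAutomized p P by
    intro P hP
    obtain ⟨Q, hQ, hn⟩ := exists_fullyNormalized (F := F) hP
    exact ⟨Q, hQ, h _ Q (Nat.lt_succ_self _) hn, hR Q hn⟩
  intro n
  induction n with
  | zero => intro P h; omega
  | succ n ih =>
  intro P hn hP
  by_cases hPS : P = S
  · rw [hPS]; exact hA
  have hlt : P < S := lt_of_le_of_ne hP.1 hPS
  have := finite_mulAut hP.1
  have hPQ : P ≤ normalizerIn S P := le_normalizerIn hP.1
  obtain ⟨T, hT⟩ :=
    ((isPGroup_autInducedBy hS P).comap_subtype (K := F.autGroup P)).exists_le_sylow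
  by_cases hTe : (autInducedBy S P).subgroupOf (F.autGroup P) = T
  · exact ⟨hP.1, T, hTe.symm⟩
  exfalso
  -- a `p`-element normalizing `Aut_S(P)` outside it
  have hBT : ((autInducedBy S P).subgroupOf (F.autGroup P)).subgroupOf (T : Subgroup (F.autGroup P)) < ⊤ := by
    refine lt_top_iff_ne_top.mpr fun h => hTe (le_antisymm hT fun x hx => ?_)
    exact (Subgroup.mem_subgroupOf (h := ⟨x, hx⟩)).mp (h ▸ Subgroup.mem_top _)
  have : Group.IsNilpotent (T : Subgroup (F.autGroup P)) := T.2.isNilpotent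
  obtain ⟨t, htN, htB⟩ := Set.exists_of_ssubset
    (Group.normalizerCondition_of_isNilpotent (G := (T : Subgroup (F.autGroup P))) _ hBT)
  obtain ⟨k, hk⟩ := T.2 t
  set α : MulAut P := ((t : F.autGroup P) : MulAut P) with hα
  have hαB : α ∉ autInducedBy S P := fun h => htB h
  have hαn : ∀ a ∈ autInducedBy S P, α * a * α⁻¹ ∈ autInducedBy S P := fun a ha =>
    (Subgroup.mem_normalizer_iff.mp htN
      ⟨⟨a, autInducedBy_le_autGroup hP.1 ha⟩, hT ha⟩).mp ha
  have hαk : α ^ p ^ k = 1 := congrArg (fun x : T => ((x : F.autGroup P) : MulAut P)) hk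
  obtain ⟨φ, hφ, hφr, hφe⟩ := exists_map_of_mem_autGroup hP.1 (t : F.autGroup P).2
  have hN : normalizerIn S P ≤ extender S P φ := by
    rintro g ⟨hgS, hgN⟩
    obtain ⟨a, ha, hae⟩ := exists_autInducedBy (K := S) hgS hgN
    obtain ⟨h, hh, hhe⟩ := mem_autInducedBy.mp (hαn a ha)
    refine mem_extender.mpr ⟨hgS, hgN, h, hh, fun x hx => ?_⟩
    have h3 := hhe (α x)
    rw [hφe, hφe, ← hα, ← h3]
    simp [← hae x]
  obtain ⟨ψ, hψ, hψe⟩ := exists_extension (hR P hP) hφ hφr hPQ hN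
  obtain ⟨β, hβ, hβe⟩ := exists_aut hψ (range_eq_of_card_le hψ normalizerIn_le
    (fun g => extension_mem_normalizerIn hφ hψ hφr hPQ hψe g g.2.2) le_rfl)
  have hpow : ∀ (m : ℕ) (x : P), (((β ^ m) ⟨x, hPQ x.2⟩ : normalizerIn S P) : Ω) = ((α ^ m) x : P) := by
    intro m
    induction m with
    | zero => intro x; simp
    | succ m ihm =>
      intro x
      have hb : β ⟨x, hPQ x.2⟩ = ⟨((α x : P) : Ω), hPQ (α x).2⟩ :=
        Subtype.ext (by rw [hβe, hψe, hφe])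
      rw [pow_succ, pow_succ, MulAut.mul_apply, MulAut.mul_apply, hb]
      exact ihm (α x)
  have := finite_mulAut (normalizerIn_le (S := S) (P := P))
  have hp : p.Prime := Fact.out
  obtain ⟨a, m, hm, hord⟩ :=
    Nat.exists_eq_pow_mul_and_not_dvd (orderOf_pos β).ne' p hp.ne_one
  obtain ⟨c, hc₁, hc₂⟩ :=
    Nat.chineseRemainder (((hp.coprime_iff_not_dvd).mpr hm).pow_left k) 1 0
  obtain ⟨d, rfl⟩ : m ∣ c := Nat.modEq_zero_iff_dvd.mp hc₂
  have hαc : α ^ (m * d) = α := by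
    have : α ^ (m * d) = α ^ 1 :=
      pow_eq_pow_iff_modEq.mpr (hc₁.of_dvd (orderOf_dvd_of_pow_eq_one hαk))
    rwa [pow_one] at this
  have hγp : IsPGroup p (Subgroup.zpowers (β ^ (m * d))) := by
    refine IsPGroup.of_card (n := ?_) ?_
    · exact (Nat.dvd_prime_pow hp).mp (orderOf_dvd_of_pow_eq_one (x := β ^ (m * d)) (n := p ^ a)
        (by rw [← pow_mul]; exact orderOf_dvd_iff_pow_eq_one.mp ⟨d, by rw [hord]; ring⟩)) |>.choose
    · rw [Nat.card_zpowers]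
      exact ((Nat.dvd_prime_pow hp).mp (orderOf_dvd_of_pow_eq_one (x := β ^ (m * d)) (n := p ^ a)
        (by rw [← pow_mul]; exact orderOf_dvd_iff_pow_eq_one.mp ⟨d, by rw [hord]; ring⟩))).choose_spec.2
  -- a fully normalized conjugate of the normalizer
  obtain ⟨Q', hQ'c, hQ'n⟩ := exists_fullyNormalized (F := F) (normalizerIn_le (S := S) (P := P))
  have hcardQ : Nat.card Q' = Nat.card (normalizerIn S P) := IsConj.card_eq hQ'c
  have hgrow : Nat.card P < Nat.card (normalizerIn S P) := by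
    have := finite_of_le (normalizerIn_le (S := S) (P := P))
    refine lt_of_not_ge fun hle => ?_
    exact (lt_normalizerIn hS le_rfl hlt).ne (eq_of_le_of_card_le hPQ hle)
  have hcardS : Nat.card Q' ≤ Nat.card S := card_le_of_map (subtype_mem (F := F) hQ'n.1) le_rfl fun x => hQ'n.1 x.2
  have hQ'a := ih Q' (by omega) hQ'n
  obtain ⟨θ, hθ, hθr⟩ := hQ'c
  obtain ⟨e, he⟩ := exists_equiv hθ hθr
  obtain ⟨δ, hδ, hδA⟩ := FullyAutomized.exists_conj hQ'a
    (A := (Subgroup.zpowers (β ^ (m * d))).map (MulAut.congr e).toMonoidHom)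
    ((Subgroup.map_mono (Subgroup.zpowers_le.mpr (Subgroup.pow_mem _ hβ _))).trans
      (map_autGroup hθ he).le)
    (hγp.map _)
  obtain ⟨s, hs, hse⟩ := mem_autInducedBy.mp (hδA _ ⟨_, Subgroup.mem_zpowers _, rfl⟩)
  obtain ⟨δm, hδm, -, hδe⟩ := exists_map_of_mem_autGroup hQ'n.1 hδ
  obtain ⟨η, hη, hηe⟩ := exists_comp hθ hδm fun x => hθr.le ⟨x, rfl⟩
  have hη' : ∀ x : normalizerIn S P, η x = ((δ (e x) : Q') : Ω) := fun x => by
    rw [hηe, hδe]; congr 2; exact Subtype.ext (he x).symm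
  -- the image of `P`
  have hP' := isConj_map hη hPQ
  set P' := (P.subgroupOf (normalizerIn S P)).map η with hP'def
  have hP'S : P' ≤ S := IsConj.le_right hP'
  have := finite_of_le hP'S
  have hsP' : s ∈ normalizerIn S P' := by
    refine ⟨hs, mem_normalizer_of_forall ?_⟩
    rintro _ ⟨x, hx, rfl⟩
    refine mem_map_subgroupOf.mpr ⟨(β ^ (m * d)) x, ?_, ?_⟩
    · have := hpow (m * d) ⟨x, hx⟩
      rw [show (⟨((⟨x, hx⟩ : P) : Ω), hPQ hx⟩ : normalizerIn S P) = x from rfl] at this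
      rw [this]; exact Subtype.mem _
    · rw [hη', hη', ← hse]; simp [MulAut.congr]
  have hle : ∀ g : normalizerIn S P, η g ∈ normalizerIn S P' := fun g =>
    extension_mem_normalizerIn (restrict_mem hPQ hη) hη
      (by
        rw [hP'def]; ext y
        constructor
        · rintro ⟨x, rfl⟩; exact ⟨⟨x, hPQ x.2⟩, x.2, rfl⟩
        · rintro ⟨x, hx, rfl⟩; exact ⟨⟨x, hx⟩, rfl⟩)
      hPQ (fun _ => rfl) g g.2.2
  have hrange := range_eq_of_card_le hη normalizerIn_le hle (hP.2 P' hP')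
  obtain ⟨g, hg⟩ := hrange.ge hsP'
  refine hαB (mem_autInducedBy.mpr ⟨g, g.2.1, fun x => ?_⟩)
  have h1 := hpow (m * d) x
  rw [hαc] at h1
  rw [← h1]
  have h2 : η ((β ^ (m * d)) ⟨x, hPQ x.2⟩) = η (g * ⟨x, hPQ x.2⟩ * g⁻¹) := by
    rw [map_mul, map_mul, map_inv, hg, hη', hη', ← hse]; simp [MulAut.congr]
  exact congrArg Subtype.val (F.injective_of_mem hη h2)

theorem saturated_iff_top_and_receptive (hS : IsPGroup p S) :
    F.IsSaturated p ↔ F.IsFullyAutomized p S ∧ ∀ P, F.IsFullyNormalized P → F.IsReceptive P := by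
  refine ⟨fun hF => ⟨?_, fun P hP => (fullyNormalized_good hS hF hP).2⟩,
    fun h => saturated_of_top_and_receptive hS h.1 h.2⟩
  obtain ⟨Q, hQ, ha, -⟩ := hF S le_rfl
  rwa [eq_of_le_of_card_le (IsConj.le_right hQ) (IsConj.card_eq hQ).ge] at ha

end saturated

end CfsgLib.Fusion
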