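import Cfsg.Prelude.Def_FusionSystem

/-!
Joins of central and of normal subgroups of a fusion system.
-/

set_option autoImplicit false

namespace CfsgLib.FusionExt

open Cfsg Cfsg.FusionSystem

variable {Ω : Type*} [Group Ω] {S : Subgroup Ω}

theorem transport_source (F : FusionSystem S) {P P' : Subgroup Ω} (e : P = P') {φ : P →* Ω}
    (hφ : φ ∈ F.Hom P) :
    ∃ ψ ∈ F.Hom P', ∀ (x : Ω) (hx : x ∈ P) (hx' : x ∈ P'), ψ ⟨x, hx'⟩ = φ ⟨x, hx⟩ := by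
  subst e
  exact ⟨φ, hφ, fun x _ _ => rfl⟩

theorem isCentral_bot (F : FusionSystem S) : F.IsCentral ⊥ := by
  refine ⟨bot_le, fun P φ hφ => ?_⟩
  obtain ⟨ψ, hψ, h⟩ := transport_source F (sup_bot_eq P).symm hφ
  refine ⟨ψ, hψ, fun x => h x x.2 _, fun x => ?_⟩
  obtain ⟨x, hx⟩ := x
  rw [Subgroup.mem_bot] at hx
  subst hx
  exact map_one ψ

theorem isCentral_sup (F : FusionSystem S) {Q₁ Q₂ : Subgroup Ω} (h₁ : F.IsCentral Q₁)
    (h₂ : F.IsCentral Q₂) : F.IsCentral (Q₁ ⊔ Q₂) := by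
  refine ⟨sup_le h₁.1 h₂.1, fun P φ hφ => ?_⟩
  obtain ⟨ψ₁, hψ₁, e₁, f₁⟩ := h₁.2 P φ hφ
  obtain ⟨ψ₂, hψ₂, e₂, f₂⟩ := h₂.2 _ ψ₁ hψ₁
  obtain ⟨ψ, hψ, e⟩ := transport_source F (sup_assoc P Q₁ Q₂) hψ₂
  refine ⟨ψ, hψ, fun x => ?_, ?_⟩
  · exact ((e x (Subgroup.mem_sup_left (Subgroup.mem_sup_left x.2)) _).trans (e₂ ⟨x, Subgroup.mem_sup_left x.2⟩)).trans (e₁ x)
  · have key : Q₁ ⊔ Q₂ ≤ (ψ.eqLocus (P ⊔ (Q₁ ⊔ Q₂)).subtype).map (P ⊔ (Q₁ ⊔ Q₂)).subtype := by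
      refine sup_le (fun q hq => ⟨⟨q, Subgroup.mem_sup_right (Subgroup.mem_sup_left hq)⟩, ?_, rfl⟩)
        (fun q hq => ⟨⟨q, Subgroup.mem_sup_right (Subgroup.mem_sup_right hq)⟩, ?_, rfl⟩)
      · exact ((e q (Subgroup.mem_sup_left (Subgroup.mem_sup_right hq)) _).trans (e₂ ⟨q, Subgroup.mem_sup_right hq⟩)).trans (f₁ ⟨q, hq⟩)
      · exact (e q (Subgroup.mem_sup_right hq) _).trans (f₂ ⟨q, hq⟩)
    intro x
    obtain ⟨y, hy, hyx⟩ := key x.2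
    have hy' : y = Subgroup.inclusion le_sup_right x := Subtype.ext hyx
    subst hy'
    exact hy

theorem finite_setOf_le [Finite S] (C : Subgroup Ω → Prop) (hC : ∀ Q, C Q → Q ≤ S) :
    {Q | C Q}.Finite := by
  apply Set.Finite.of_finite_image (f := fun Q : Subgroup Ω => Q.subgroupOf S) (Set.toFinite _)
  intro A hA B hB h
  have h' := congrArg (Subgroup.map S.subtype) h
  simpa [inf_eq_left.mpr (hC A hA), inf_eq_left.mpr (hC B hB)] using h'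

theorem sSup_of_finite {C : Subgroup Ω → Prop} (hbot : C ⊥) (hsup : ∀ A B, C A → C B → C (A ⊔ B))
    {s : Set (Subgroup Ω)} (hs : s.Finite) (h : ∀ Q ∈ s, C Q) : C (sSup s) := by
  induction s, hs using Set.Finite.induction_on with
  | empty => simpa using hbot
  | @insert a t ha ht ih =>
    rw [sSup_insert]
    exact hsup _ _ (h a (Set.mem_insert _ _)) (ih fun Q hQ => h Q (Set.mem_insert_of_mem _ hQ))

theorem isCentral_center [Finite S] (F : FusionSystem S) : F.IsCentral F.center :=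
  sSup_of_finite (isCentral_bot F) (fun _ _ => isCentral_sup F)
    (finite_setOf_le _ fun _ h => h.1) (fun _ h => h)

theorem isNormal_bot (F : FusionSystem S) : F.IsNormal ⊥ := by
  refine ⟨bot_le, fun P φ hφ => ?_⟩
  obtain ⟨ψ, hψ, h⟩ := transport_source F (sup_bot_eq P).symm hφ
  exact ⟨ψ, hψ, fun x => h x x.2 _, by simp⟩

theorem map_subgroupOf_transport {A B Q : Subgroup Ω} {φ : A →* Ω} {ψ : B →* Ω} (hA : Q ≤ A) (hB : Q ≤ B)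
    (h : ∀ x (hx : x ∈ Q), ψ ⟨x, hB hx⟩ = φ ⟨x, hA hx⟩) :
    (Q.subgroupOf B).map ψ = (Q.subgroupOf A).map φ := by
  ext z
  constructor
  · rintro ⟨⟨x, _⟩, hx, rfl⟩
    exact ⟨⟨x, hA hx⟩, hx, (h x hx).symm⟩
  · rintro ⟨⟨x, _⟩, hx, rfl⟩
    exact ⟨⟨x, hB hx⟩, hx, h x hx⟩

theorem isNormal_sup (F : FusionSystem S) {Q₁ Q₂ : Subgroup Ω} (h₁ : F.IsNormal Q₁)
    (h₂ : F.IsNormal Q₂) : F.IsNormal (Q₁ ⊔ Q₂) := by
  refine ⟨sup_le h₁.1 h₂.1, fun P φ hφ => ?_⟩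
  obtain ⟨ψ₁, hψ₁, e₁, f₁⟩ := h₁.2 P φ hφ
  obtain ⟨ψ₂, hψ₂, e₂, f₂⟩ := h₂.2 _ ψ₁ hψ₁
  obtain ⟨ψ, hψ, e⟩ := transport_source F (sup_assoc P Q₁ Q₂) hψ₂
  refine ⟨ψ, hψ, fun x => ?_, ?_⟩
  · exact ((e x (Subgroup.mem_sup_left (Subgroup.mem_sup_left x.2)) _).trans (e₂ ⟨x, Subgroup.mem_sup_left x.2⟩)).trans (e₁ x)
  · rw [Subgroup.subgroupOf_sup ((le_sup_left : Q₁ ≤ Q₁ ⊔ Q₂).trans le_sup_right)
        ((le_sup_right : Q₂ ≤ Q₁ ⊔ Q₂).trans le_sup_right), Subgroup.map_sup]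
    congr 1
    · refine (map_subgroupOf_transport (φ := ψ₁) le_sup_right
        ((le_sup_left : Q₁ ≤ Q₁ ⊔ Q₂).trans le_sup_right) fun x hx => ?_).trans f₁
      exact (e x (Subgroup.mem_sup_left (Subgroup.mem_sup_right hx)) _).trans (e₂ ⟨x, Subgroup.mem_sup_right hx⟩)
    · exact (map_subgroupOf_transport (φ := ψ₂) le_sup_right
        ((le_sup_right : Q₂ ≤ Q₁ ⊔ Q₂).trans le_sup_right) fun x hx => e x (Subgroup.mem_sup_right hx) _).trans f₂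

theorem isNormal_core [Finite S] (F : FusionSystem S) : F.IsNormal F.core :=
  sSup_of_finite (isNormal_bot F) (fun _ _ => isNormal_sup F)
    (finite_setOf_le _ fun _ h => h.1) (fun _ h => h)

end CfsgLib.FusionExt
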