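import Cfsg.Agent.Lib.Fusion.Alperin

/-!
# Automorphisms stabilising a series
-/

namespace CfsgLib.Fusion

open Cfsg Cfsg.FusionSystem
open scoped Pointwise

variable {Ω : Type*} [Group Ω] {S : Subgroup Ω} {F : FusionSystem S} {P Q : Subgroup Ω}

theorem coe_pow_apply_of_fixed {X : Type*} [Group X] {α : MulAut X} {x : X}
    (h : α (x⁻¹ * α x) = x⁻¹ * α x) (m : ℕ) : (α ^ m) x = x * (x⁻¹ * α x) ^ m := by
  induction m with
  | zero => simp
  | succ m ih =>
    rw [pow_succ', MulAut.mul_apply, ih, map_mul, map_pow, h, pow_succ', ← mul_assoc, ← mul_assoc,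
      mul_inv_cancel, one_mul]

/-- An automorphism of a `p`-group that stabilises a series, and whose restriction to the bottom
term has `p`-power order, has `p`-power order. -/
theorem exists_pow_eq_one_of_stabilizes {X : Type*} [Group X] [Finite X] {p : ℕ} (hX : IsPGroup p X)
    {n : ℕ} (L : ℕ → Subgroup X) (hmono : ∀ i < n, L i ≤ L (i + 1)) (hn : L n = ⊤) {α : MulAut X}
    (h0 : ∃ k, ∀ x ∈ L 0, (α ^ p ^ k) x = x) (h : ∀ i < n, ∀ x ∈ L (i + 1), x⁻¹ * α x ∈ L i) :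
    ∃ k, α ^ p ^ k = 1 := by
  suffices hi : ∀ i ≤ n, ∃ k, ∀ x ∈ L i, (α ^ p ^ k) x = x by
    obtain ⟨k, hk⟩ := hi n le_rfl
    exact ⟨k, MulEquiv.ext fun x => hk x (hn ▸ Subgroup.mem_top x)⟩
  intro i
  induction i with
  | zero => exact fun _ => h0
  | succ i ih =>
    intro hin
    obtain ⟨k, hk⟩ := ih (by omega)
    have hstep : ∀ (m : ℕ), ∀ x ∈ L (i + 1), x⁻¹ * (α ^ m) x ∈ L i ∧ (α ^ m) x ∈ L (i + 1) := by
      intro m
      induction m with
      | zero => intro x hx; exact ⟨by simp, by simpa using hx⟩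
      | succ m ihm =>
        intro x hx
        obtain ⟨h1, h2⟩ := ihm x hx
        have h3 : x⁻¹ * (α ^ (m + 1)) x ∈ L i := by
          have := (L i).mul_mem h1 (h i (by omega) _ h2)
          rwa [mul_assoc, mul_inv_cancel_left, ← MulAut.mul_apply, ← pow_succ'] at this
        exact ⟨h3, by simpa using (L (i + 1)).mul_mem hx (hmono i (by omega) h3)⟩
    obtain ⟨l, hl⟩ : ∃ l, ∀ y : X, y ^ p ^ l = 1 := by
      have : Fintype X := Fintype.ofFinite X
      choose f hf using hX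
      exact ⟨Finset.univ.sup f, fun y => orderOf_dvd_iff_pow_eq_one.mp
        ((orderOf_dvd_of_pow_eq_one (hf y)).trans (pow_dvd_pow _ (Finset.le_sup (Finset.mem_univ y))))⟩
    refine ⟨k + l, fun x hx => ?_⟩
    rw [pow_add, pow_mul, coe_pow_apply_of_fixed (hk _ (hstep _ x hx).1), hl, mul_one]

/-- A `p`-group of automorphisms normalised by `Aut_F(P)` is inner when `P` is radical. -/
theorem le_inn_of_radical {p : ℕ} (hr : F.IsRadical p P) {A : Subgroup (MulAut P)}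
    (hA : A ≤ F.autGroup P) (hAp : IsPGroup p A)
    (hn : ∀ a ∈ A, ∀ b ∈ F.autGroup P, b * a * b⁻¹ ∈ A) : A ≤ Inn P := by
  have hle : A.subgroupOf (F.autGroup P) ≤ pCore p (F.autGroup P) :=
    le_sSup ⟨⟨fun a ha b => hn _ ha _ b.2⟩, hAp.comap_subtype⟩
  intro a ha
  rw [← hr.2]
  exact ⟨⟨a, hA ha⟩, hle ha, rfl⟩

/-- The automorphisms in `Aut_F(P)` stabilising a series of invariant subgroups. -/
def seriesStabilizer (F : FusionSystem S) (P : Subgroup Ω) (n : ℕ) (L : ℕ → Subgroup P)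
    (hinv : ∀ i ≤ n, ∀ a ∈ F.autGroup P, ∀ x ∈ L i, a x ∈ L i) : Subgroup (MulAut P) where
  carrier := {a | a ∈ F.autGroup P ∧ ∀ i < n, ∀ x ∈ L (i + 1), x⁻¹ * a x ∈ L i}
  one_mem' := ⟨Subgroup.one_mem _, fun i _ x _ => by simp⟩
  mul_mem' := by
    rintro a b ⟨ha, ha'⟩ ⟨hb, hb'⟩
    refine ⟨Subgroup.mul_mem _ ha hb, fun i hi x hx => ?_⟩
    have := (L i).mul_mem (hb' i hi x hx) (ha' i hi _ (hinv (i + 1) hi b hb x hx))
    rwa [mul_assoc, mul_inv_cancel_left] at this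
  inv_mem' := by
    rintro a ⟨ha, ha'⟩
    refine ⟨Subgroup.inv_mem _ ha, fun i hi x hx => ?_⟩
    have := (L i).inv_mem (ha' i hi _ (hinv (i + 1) hi a⁻¹ (Subgroup.inv_mem _ ha) x hx))
    rw [MulAut.apply_inv_self, mul_inv_rev, inv_inv] at this
    exact this

theorem mem_seriesStabilizer {n : ℕ} {L : ℕ → Subgroup P}
    {hinv : ∀ i ≤ n, ∀ a ∈ F.autGroup P, ∀ x ∈ L i, a x ∈ L i} {a : MulAut P} :
    a ∈ seriesStabilizer F P n L hinv ↔
      a ∈ F.autGroup P ∧ ∀ i < n, ∀ x ∈ L (i + 1), x⁻¹ * a x ∈ L i := Iff.rfl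

theorem seriesStabilizer_conj_mem {n : ℕ} {L : ℕ → Subgroup P}
    {hinv : ∀ i ≤ n, ∀ a ∈ F.autGroup P, ∀ x ∈ L i, a x ∈ L i} {a b : MulAut P}
    (ha : a ∈ seriesStabilizer F P n L hinv) (hb : b ∈ F.autGroup P) :
    b * a * b⁻¹ ∈ seriesStabilizer F P n L hinv := by
  refine ⟨Subgroup.mul_mem _ (Subgroup.mul_mem _ hb ha.1) (Subgroup.inv_mem _ hb), fun i hi x hx => ?_⟩
  have h1 := ha.2 i hi _ (hinv (i + 1) hi b⁻¹ (Subgroup.inv_mem _ hb) x hx)
  have h2 := hinv i hi.le b hb _ h1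
  rw [map_mul, map_inv, MulAut.apply_inv_self] at h2
  exact h2

/-- A centric radical subgroup contains every subgroup that is normal in `S` and acts on it through
a `p`-group normalised by `Aut_F(P)`. -/
theorem le_of_centric_radical [Finite S] {p : ℕ} [Fact p.Prime] (hS : IsPGroup p S)
    (hc : F.IsCentric P) (hr : F.IsRadical p P) (hQS : Q ≤ S)
    (hQn : S ≤ Subgroup.normalizer (Q : Set Ω)) {A : Subgroup (MulAut P)} (hA : A ≤ F.autGroup P)
    (hAp : IsPGroup p A) (hn : ∀ a ∈ A, ∀ b ∈ F.autGroup P, b * a * b⁻¹ ∈ A)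
    (h : ∀ q ∈ Q, ∀ a : MulAut P, (∀ x : P, ((a x : P) : Ω) = q * (x : Ω) * q⁻¹) → a ∈ A) : Q ≤ P := by
  by_contra hQP
  have hlt : P < P ⊔ Q := lt_of_le_of_ne le_sup_left fun he => hQP (by rw [he]; exact le_sup_right)
  obtain ⟨g, hg, hgP⟩ := SetLike.exists_of_lt (lt_normalizerIn hS (sup_le hc.1 hQS) hlt)
  have hg' : g ∈ ((P : Set Ω) * (Q : Set Ω) : Set Ω) := by
    have he := Subgroup.coe_mul_of_left_le_normalizer_right P Q (hc.1.trans hQn)
    exact (Set.ext_iff.mp he g).mp hg.1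
  obtain ⟨x, hx, q, hq, rfl⟩ := hg'
  have hqN : q ∈ Subgroup.normalizer (P : Set Ω) := by
    have := Subgroup.mul_mem _ (Subgroup.inv_mem _ (Subgroup.le_normalizer hx)) hg.2
    rwa [inv_mul_cancel_left] at this
  obtain ⟨a, -, ha⟩ := exists_autInducedBy (K := S) (hQS hq) hqN
  exact hgP (P.mul_mem hx
    ((mem_inn_iff_mem hc.1 (IsCentric.centralizerIn_le' hc) (hQS hq) ha).mp
      (le_inn_of_radical hr hA hAp hn (h q hq a ha))))

end CfsgLib.Fusion
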