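import Cfsg.Agent.Lib.Fusion.ExtSystem
import Cfsg.Agent.Lib.Fusion.Stabilizer
import Mathlib.GroupTheory.Nilpotent

/-!
# Normal, central and strongly closed subgroups
-/

namespace CfsgLib.Fusion

open Cfsg Cfsg.FusionSystem
open scoped Pointwise commutatorElement

variable {Ω : Type*} [Group Ω] {S : Subgroup Ω} {F : FusionSystem S} {P Q R U : Subgroup Ω}

theorem StronglyClosed.apply_mem (hQ : F.StronglyClosed Q) {φ : P →* Ω} (hφ : φ ∈ F.Hom P) (x : P)
    (hx : (x : Ω) ∈ Q) : φ x ∈ Q :=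
  hQ.2 (P ⊓ Q) inf_le_right _ (restrict_mem inf_le_left hφ) ⟨x, x.2, hx⟩

theorem StronglyClosed.le_normalizer [Finite S] (hQ : F.StronglyClosed Q) :
    S ≤ Subgroup.normalizer (Q : Set Ω) := fun g hg => by
  have := finite_of_le hQ.1
  exact mem_normalizer_of_forall fun x hx =>
    StronglyClosed.apply_mem hQ (F.conj_mem le_rfl hg) ⟨x, hQ.1 hx⟩ hx

theorem StronglyClosed.aut_mem (hQ : F.StronglyClosed Q) (hP : P ≤ S) {α : MulAut P}
    (hα : α ∈ F.autGroup P) (x : P) (hx : (x : Ω) ∈ Q) : ((α x : P) : Ω) ∈ Q :=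
  StronglyClosed.apply_mem hQ ((mem_autGroup hP).mp hα) x hx

theorem StronglyClosed.map_eq (hQ : F.StronglyClosed Q) (hP : P ≤ S) {α : MulAut P}
    (hα : α ∈ F.autGroup P) : (Q.subgroupOf P).map α.toMonoidHom = Q.subgroupOf P := by
  ext x
  constructor
  · rintro ⟨y, hy, rfl⟩; exact StronglyClosed.aut_mem hQ hP hα y hy
  · intro hx
    exact ⟨α⁻¹ x, StronglyClosed.aut_mem hQ hP (Subgroup.inv_mem _ hα) x hx, MulAut.apply_inv_self _ _ _⟩

theorem stronglyClosed_bot (F : FusionSystem S) : F.StronglyClosed ⊥ := by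
  refine ⟨bot_le, fun R hR φ _ x => ?_⟩
  have : x = 1 := Subtype.ext (Subgroup.mem_bot.mp (hR x.2))
  rw [this, map_one]
  exact Subgroup.one_mem _

theorem IsNormal.stronglyClosed (hQ : F.IsNormal Q) : F.StronglyClosed Q := by
  refine ⟨hQ.1, fun R hR φ hφ x => ?_⟩
  obtain ⟨ψ, hψ, hψe, hψQ⟩ := hQ.2 R φ hφ
  rw [← hψQ, ← hψe]
  exact ⟨_, hR x.2, rfl⟩

theorem IsNormal.exists_ext (hQ : F.IsNormal Q) {φ : P →* Ω} (hφ : φ ∈ F.Hom P) :
    ∃ ψ ∈ F.Hom (P ⊔ Q), (∀ x : P, ψ ⟨x, Subgroup.mem_sup_left x.2⟩ = φ x) ∧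
      ∀ q (hq : q ∈ Q), ψ ⟨q, Subgroup.mem_sup_right hq⟩ ∈ Q := by
  obtain ⟨ψ, hψ, hψe, hψQ⟩ := hQ.2 P φ hφ
  refine ⟨ψ, hψ, hψe, fun q hq => ?_⟩
  exact hψQ.le ⟨_, hq, rfl⟩

/-- A normal subgroup lies in every centric radical subgroup. -/
theorem IsNormal.le_centric_radical [Finite S] {p : ℕ} [Fact p.Prime] (hS : IsPGroup p S)
    (hQ : F.IsNormal Q) (hc : F.IsCentric P) (hr : F.IsRadical p P) : Q ≤ P := by
  refine le_of_centric_radical hS hc hr hQ.1 (StronglyClosed.le_normalizer (IsNormal.stronglyClosed hQ))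
    (A := autInducedBy Q P) ((autInducedBy_mono hQ.1 P).trans (autInducedBy_le_autGroup hc.1))
    (isPGroup_autInducedBy (hS.to_le hQ.1) P) ?_ (fun q hq a ha => mem_autInducedBy.mpr ⟨q, hq, ha⟩)
  intro a ha b hb
  obtain ⟨q, hq, hqe⟩ := mem_autInducedBy.mp ha
  obtain ⟨ψ, hψ, hψe, hψQ⟩ := IsNormal.exists_ext hQ ((mem_autGroup hc.1).mp hb)
  refine mem_autInducedBy.mpr ⟨_, hψQ q hq, fun y => ?_⟩
  obtain ⟨w, rfl⟩ := b.surjective y
  show ((b (a (b⁻¹ (b w))) : P) : Ω) = _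
  rw [MulAut.inv_apply_self, ← autMap_apply, ← hψe, ← autMap_apply b w, ← hψe, ← map_inv ψ, ← map_mul ψ,
    ← map_mul ψ]
  exact apply_eq_of_coe_eq (hqe w)

/-- Characteristic subgroups of normal subgroups are normal. -/
theorem IsNormal.of_characteristic (hQ : F.IsNormal Q) (hUQ : U ≤ Q) (hU : (U.subgroupOf Q).Characteristic) :
    F.IsNormal U := by
  refine ⟨hUQ.trans hQ.1, fun P φ hφ => ?_⟩
  obtain ⟨ψ, hψ, hψe, hψQ⟩ := hQ.2 P φ hφ
  obtain ⟨κ, hκ⟩ := (map_eq_iff_exists_aut hψ).mp hψQ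
  refine ⟨_, restrict_mem (sup_le_sup_left hUQ P) hψ, fun x => hψe x, ?_⟩
  ext y
  rw [mem_map_subgroupOf]
  constructor
  · rintro ⟨x, hx, rfl⟩
    rw [show (ψ.comp (Subgroup.inclusion (sup_le_sup_left hUQ P))) x = ((κ ⟨x, hUQ hx⟩ : Q) : Ω) from hκ ⟨x, hUQ hx⟩]
    exact (hU.fixed κ).ge (Subgroup.mem_subgroupOf.mpr hx)
  · intro hy
    have hz : ((κ.symm ⟨y, hUQ hy⟩ : Q) : Ω) ∈ U :=
      (hU.fixed κ.symm).ge (Subgroup.mem_subgroupOf.mpr hy : (⟨y, hUQ hy⟩ : Q) ∈ U.subgroupOf Q)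
    refine ⟨⟨_, Subgroup.mem_sup_right hz⟩, hz, ?_⟩
    have e := hκ (κ.symm ⟨y, hUQ hy⟩)
    rw [MulEquiv.apply_symm_apply] at e
    exact e

section saturated

variable [Finite S] {p : ℕ} [Fact p.Prime]

/-- Normality from the essential subgroups. -/
theorem isNormal_of_essential (hS : IsPGroup p S) (hF : F.IsSaturated p)
    (h : ∀ P : Subgroup Ω, (P = S ∨ F.IsEssential p P) →
      (Q ≤ P ∧ ∀ α ∈ F.autGroup P, ∀ x : P, (x : Ω) ∈ Q → ((α x : P) : Ω) ∈ Q)) : F.IsNormal Q := by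
  obtain ⟨hQS, hQinv⟩ := h S (Or.inl rfl)
  have := finite_of_le hQS
  have hN : S ≤ Subgroup.normalizer (Q : Set Ω) := fun g hg => mem_normalizer_of_forall fun x hx => by
    obtain ⟨α, hα, hαe⟩ := exists_autInducedBy (K := S) hg (Subgroup.le_normalizer (H := S) hg)
    rw [← hαe ⟨x, hQS hx⟩]
    exact hQinv α (autInducedBy_le_autGroup le_rfl hα) _ hx
  refine isNormal_of_extHom hQS fun P φ hφ => ?_
  refine alperin hS hF (extSystem F hQS ⊤ S (isKNormalizer_top_self hN)) ?_ P hφ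
  intro P hP α hα
  obtain ⟨hQP, hinv⟩ := h P hP
  have hPS : P ≤ S := by
    rcases hP with rfl | hP
    · exact le_rfl
    · exact hP.1.1
  have hm := (mem_autGroup hPS).mp hα
  refine Subgroup.subset_closure ⟨hm, hPS, fun x => apply_mem_S hm x, _,
    restrict_mem (sup_le le_rfl hQP) hm, fun x => rfl, ?_⟩
  obtain ⟨χ, hχ, hχe⟩ : ∃ χ ∈ F.Hom Q, ∀ x : Q, χ x = ((α ⟨x, hQP x.2⟩ : P) : Ω) :=
    ⟨_, restrict_mem hQP hm, fun _ => rfl⟩
  obtain ⟨κ, -, hκe⟩ := exists_aut hχ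
    (range_eq_of_card_le hχ hQS (fun x => by rw [hχe]; exact hinv α hα _ x.2) le_rfl)
  exact ⟨κ, Subgroup.mem_top _, fun x => ((hκe x).trans (hχe x)).symm⟩

theorem isNormal_iff_stronglyClosed_le (hS : IsPGroup p S) (hF : F.IsSaturated p) :
    F.IsNormal Q ↔ F.StronglyClosed Q ∧ ∀ P, F.IsCentric P → F.IsRadical p P → Q ≤ P := by
  refine ⟨fun h => ⟨IsNormal.stronglyClosed h, fun P hc hr => IsNormal.le_centric_radical hS h hc hr⟩,
    fun ⟨hsc, hle⟩ => isNormal_of_essential hS hF fun P hP => ⟨?_, fun α hα =>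
      StronglyClosed.aut_mem hsc ?_ hα⟩⟩
  · rcases hP with rfl | hP
    · exact hsc.1
    · exact hle P hP.1 (radical_of_essential hP hS)
  · rcases hP with rfl | hP
    · exact le_rfl
    · exact hP.1.1

theorem isNormal_iff_essential (hS : IsPGroup p S) (hF : F.IsSaturated p) :
    F.IsNormal Q ↔ ∀ P : Subgroup Ω, (P = S ∨ F.IsEssential p P) →
      (Q ≤ P ∧ ∀ α ∈ F.autGroup P, (Q.subgroupOf P).map α.toMonoidHom = Q.subgroupOf P) := by
  refine ⟨fun h P hP => ?_, fun h => isNormal_of_essential hS hF fun P hP => ⟨(h P hP).1,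
    fun α hα x hx => ?_⟩⟩
  · rcases hP with rfl | hP
    · exact ⟨h.1, fun α hα => StronglyClosed.map_eq (IsNormal.stronglyClosed h) le_rfl hα⟩
    · exact ⟨IsNormal.le_centric_radical hS h hP.1 (radical_of_essential hP hS),
        fun α hα => StronglyClosed.map_eq (IsNormal.stronglyClosed h) hP.1.1 hα⟩
  · exact ((h P hP).2 α hα).le ⟨x, hx, rfl⟩

/-- A strongly closed subgroup with a series of strongly closed subgroups centralised stepwise by it
is normal. -/
theorem isNormal_of_series (hS : IsPGroup p S) (hF : F.IsSaturated p) (n : ℕ) (L : ℕ → Subgroup Ω)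
    (h0 : L 0 = ⊥) (hn : L n = Q) (hmono : Monotone L) (hsc : ∀ i ≤ n, F.StronglyClosed (L i))
    (hcomm : ∀ i < n, ⁅Q, L (i + 1)⁆ ≤ L i) : F.IsNormal Q := by
  have hQ : F.StronglyClosed Q := hn ▸ hsc n le_rfl
  refine (isNormal_iff_stronglyClosed_le hS hF).mpr ⟨hQ, fun P hc hr => ?_⟩
  have := finite_of_le hc.1
  let M : ℕ → Subgroup P := fun i => if i ≤ n then (L i).subgroupOf P else ⊤
  have hMle : ∀ {i}, i ≤ n → M i = (L i).subgroupOf P := fun h => if_pos h
  have hMtop : M (n + 1) = ⊤ := if_neg (by omega)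
  have hinv : ∀ i ≤ n + 1, ∀ a ∈ F.autGroup P, ∀ x ∈ M i, a x ∈ M i := by
    intro i hi a ha x hx
    rcases hi.lt_or_eq with hlt | rfl
    · rw [hMle (by omega)] at hx ⊢
      exact StronglyClosed.aut_mem (hsc i (by omega)) hc.1 ha x hx
    · rw [hMtop]; exact Subgroup.mem_top _
  refine le_of_centric_radical hS hc hr hQ.1 (StronglyClosed.le_normalizer hQ)
    (A := seriesStabilizer F P (n + 1) M hinv) (fun a ha => ha.1) ?_
    (fun a ha b hb => seriesStabilizer_conj_mem ha hb) ?_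
  · rintro ⟨a, ha⟩
    obtain ⟨k, hk⟩ := exists_pow_eq_one_of_stabilizes (hS.to_le hc.1) M (n := n + 1) (fun i hi => by
        rcases (show i + 1 ≤ n ∨ i = n by omega) with h | rfl
        · rw [hMle (by omega), hMle h]; exact Subgroup.comap_mono (hmono (by omega))
        · rw [hMtop]; exact le_top)
      hMtop (α := a) ⟨0, fun x hx => by
        rw [hMle (Nat.zero_le _), h0] at hx
        have : x = 1 := Subtype.ext (Subgroup.mem_bot.mp hx)
        rw [this, map_one]⟩ ha.2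
    exact ⟨k, Subtype.ext hk⟩
  · intro q hq a ha
    refine ⟨autInducedBy_le_autGroup hc.1 (mem_autInducedBy.mpr ⟨q, hQ.1 hq, ha⟩), fun i hi x hx => ?_⟩
    rw [hMle (by omega), Subgroup.mem_subgroupOf, Subgroup.coe_mul, Subgroup.coe_inv, ha]
    rcases (show i < n ∨ i = n by omega) with h | rfl
    · rw [hMle h, Subgroup.mem_subgroupOf] at hx
      have h1 := Subgroup.commutator_mem_commutator hq ((L (i + 1)).inv_mem hx)
      have h2 : (x : Ω)⁻¹ * (q * x * q⁻¹) = ⁅q, (x : Ω)⁻¹⁆⁻¹ := by rw [commutatorElement_def]; group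
      rw [commutatorElement_def] at h1
      have h3 := (L i).inv_mem (hcomm i h h1)
      have h4 : (q * (x : Ω)⁻¹ * q⁻¹ * ((x : Ω)⁻¹)⁻¹)⁻¹ = (x : Ω)⁻¹ * (q * x * q⁻¹) := by group
      rwa [h4] at h3
    · rw [hn]
      have h1 := (Subgroup.mem_normalizer_iff.mp
        (S.inv_mem (hc.1 x.2) |> fun h => StronglyClosed.le_normalizer hQ h) q).mp hq
      have h2 := Q.mul_mem h1 (Q.inv_mem hq)
      have h3 : (x : Ω)⁻¹ * q * ((x : Ω)⁻¹)⁻¹ * q⁻¹ = (x : Ω)⁻¹ * (q * x * q⁻¹) := by group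
      rwa [h3] at h2

theorem isNormal_iff_series (hS : IsPGroup p S) (hF : F.IsSaturated p) :
    F.IsNormal Q ↔ ∃ (n : ℕ) (Qs : Fin (n + 1) → Subgroup Ω), Qs 0 = ⊥ ∧ Qs (Fin.last n) = Q ∧
      Monotone Qs ∧ ∀ i : Fin n, F.StronglyClosed (Qs i.succ) ∧ ⁅Q, Qs i.succ⁆ ≤ Qs (Fin.castSucc i) := by
  constructor
  · intro hQ
    have := finite_of_le hQ.1
    have : Group.IsNilpotent Q := (hS.to_le hQ.1).isNilpotent
    obtain ⟨n, hn⟩ := Group.IsNilpotent.nilpotent' (G := Q)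
    refine ⟨n, fun i => (Subgroup.upperCentralSeries Q i).map Q.subtype, by simp, ?_, fun i j hij => ?_,
      fun i => ⟨?_, ?_⟩⟩
    · show (Subgroup.upperCentralSeries Q n).map Q.subtype = Q
      rw [hn, ← MonoidHom.range_eq_map, Subgroup.range_subtype]
    · exact Subgroup.map_mono (Subgroup.upperCentralSeries_mono Q hij)
    · refine IsNormal.stronglyClosed (IsNormal.of_characteristic hQ (Subgroup.map_subtype_le _) ?_)
      rw [Subgroup.subgroupOf, Subgroup.comap_map_eq_self_of_injective Q.subtype_injective]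
      infer_instance
    · rw [Subgroup.commutator_le]
      rintro q hq _ ⟨z, hz, rfl⟩
      have h1 := Subgroup.mem_upperCentralSeries_succ_iff.mp hz ⟨q, hq⟩
      refine ⟨⁅z, (⟨q, hq⟩ : _)⁆⁻¹, Subgroup.inv_mem _ h1, ?_⟩
      simp [commutatorElement_def, mul_assoc]
  · rintro ⟨n, Qs, h0, hn, hm, h⟩
    refine isNormal_of_series hS hF n (fun i => Qs ⟨min i n, by omega⟩) ?_ ?_ ?_ ?_ ?_
    · simpa using h0
    · simpa [Fin.last] using hn
    · intro i j hij
      exact hm (Fin.mk_le_mk.mpr (min_le_min hij le_rfl))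
    · intro i hi
      rcases i with _ | i
      · have e : (⟨min 0 n, by omega⟩ : Fin (n + 1)) = 0 := Fin.ext (by simp)
        rw [e, h0]; exact stronglyClosed_bot F
      · have e : (⟨min (i + 1) n, by omega⟩ : Fin (n + 1)) = (⟨i, by omega⟩ : Fin n).succ :=
          Fin.ext (show min (i + 1) n = i + 1 by omega)
        rw [e]; exact (h _).1
    · intro i hi
      have e : (⟨min (i + 1) n, by omega⟩ : Fin (n + 1)) = (⟨i, hi⟩ : Fin n).succ :=
        Fin.ext (show min (i + 1) n = i + 1 by omega)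
      have e' : (⟨min i n, by omega⟩ : Fin (n + 1)) = Fin.castSucc (⟨i, hi⟩ : Fin n) :=
        Fin.ext (show min i n = i by omega)
      rw [e, e']; exact (h _).2

theorem isCentral_iff (hS : IsPGroup p S) (hF : F.IsSaturated p) :
    F.IsCentral Q ↔ Q ≤ S ∧ ∀ x ∈ Q, ∀ y : Ω, F.IsConjElt x y → y = x := by
  constructor
  · refine fun h => ⟨h.1, ?_⟩
    rintro x hx y ⟨φ, hφ, rfl⟩
    obtain ⟨ψ, hψ, hψe, hψQ⟩ := h.2 _ φ hφ
    rw [← hψe]
    exact (apply_eq_of_coe_eq rfl).trans (hψQ ⟨x, hx⟩)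
  · rintro ⟨hQS, h⟩
    have hfix : ∀ (P : Subgroup Ω) (φ : P →* Ω), φ ∈ F.Hom P → ∀ x : P, (x : Ω) ∈ Q → φ x = x :=
      fun P φ hφ x hx => h _ hx _ ⟨_, restrict_mem ((Subgroup.zpowers_le).mpr x.2) hφ, apply_eq_of_coe_eq rfl⟩
    have hC : S ≤ Subgroup.centralizer (Q : Set Ω) := fun g hg x hx => by
      have := hfix _ _ (F.conj_mem le_rfl hg) ⟨x, hQS hx⟩ hx
      rw [conjHom_apply, mul_inv_eq_iff_eq_mul] at this
      exact this.symm
    refine isCentral_of_extHom hQS fun P φ hφ => ?_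
    refine alperin hS hF (extSystem F hQS ⊥ S (isKNormalizer_bot_self hC)) ?_ P hφ
    intro P hP α hα
    have hPS : P ≤ S := by
      rcases hP with rfl | hP
      · exact le_rfl
      · exact hP.1.1
    have hQP : Q ≤ P := by
      rcases hP with rfl | hP
      · exact hQS
      · exact fun x hx => IsCentric.centralizerIn_le' hP.1
          ⟨hQS hx, fun y hy => (Subgroup.mem_centralizer_iff.mp (hC (hPS hy)) x hx).symm⟩
    have hm := (mem_autGroup hPS).mp hα
    exact Subgroup.subset_closure ⟨hm, hPS, fun x => apply_mem_S hm x, _,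
      restrict_mem (sup_le le_rfl hQP) hm, fun x => rfl, 1, Subgroup.one_mem _,
      fun x => hfix _ _ hm _ x.2⟩

theorem isNormal_iff_maps_extend (hS : IsPGroup p S) (hF : F.IsSaturated p) (hR : R ≤ S) :
    F.IsNormal R ↔ ∀ (P : Subgroup Ω) (hPR : P ≤ R) (φ : P →* Ω), φ ∈ F.Hom P →
      ∃ α ∈ F.autGroup R, ∀ x : P, ((α (Subgroup.inclusion hPR x) : R) : Ω) = φ x := by
  constructor
  · intro h P hPR φ hφ
    obtain ⟨ψ, hψ, hψe, hψR⟩ := h.2 P φ hφ
    obtain ⟨χ, hχ, hχr, hχe⟩ := exists_restrict hψ le_sup_right hψR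
    obtain ⟨α, hα, hαe⟩ := exists_aut hχ hχr
    refine ⟨α, hα, fun x => ?_⟩
    rw [hαe, hχe, ← hψe]
    rfl
  · intro h
    have hsc : ∀ U ≤ R, (U.subgroupOf R).Characteristic → F.StronglyClosed U := by
      refine fun U hUR hU => ⟨hUR.trans hR, fun W hW φ hφ x => ?_⟩
      obtain ⟨α, -, hαe⟩ := h W (hW.trans hUR) φ hφ
      rw [← hαe]
      exact (hU.fixed α).ge (Subgroup.mem_subgroupOf.mpr (hW x.2))
    have := finite_of_le hR
    have : Group.IsNilpotent R := (hS.to_le hR).isNilpotent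
    obtain ⟨n, hn⟩ := Group.IsNilpotent.nilpotent' (G := R)
    refine isNormal_of_series hS hF n (fun i => (Subgroup.upperCentralSeries R i).map R.subtype) (by simp)
      (by show (Subgroup.upperCentralSeries R n).map R.subtype = R
          rw [hn, ← MonoidHom.range_eq_map, Subgroup.range_subtype])
      (fun i j hij => Subgroup.map_mono (Subgroup.upperCentralSeries_mono R hij)) (fun i _ => ?_) fun i _ => ?_
    · refine hsc _ (Subgroup.map_subtype_le _) ?_
      rw [Subgroup.subgroupOf, Subgroup.comap_map_eq_self_of_injective R.subtype_injective]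
      infer_instance
    · rw [Subgroup.commutator_le]
      rintro q hq _ ⟨z, hz, rfl⟩
      have h1 := Subgroup.mem_upperCentralSeries_succ_iff.mp hz ⟨q, hq⟩
      refine ⟨⁅z, (⟨q, hq⟩ : _)⁆⁻¹, Subgroup.inv_mem _ h1, ?_⟩
      simp [commutatorElement_def, mul_assoc]

theorem core_ne_bot_iff (hS : IsPGroup p S) (hF : F.IsSaturated p) :
    F.core ≠ ⊥ ↔ ∃ Q : Subgroup Ω, Q ≠ ⊥ ∧ IsMulCommutative Q ∧ F.StronglyClosed Q := by
  constructor
  · intro h
    rw [FusionSystem.core, Ne, sSup_eq_bot] at h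
    push Not at h
    obtain ⟨Q, hQ, hne⟩ := h
    have := finite_of_le hQ.1
    have : Nontrivial Q := (Subgroup.nontrivial_iff_ne_bot Q).mpr hne
    have hp : IsPGroup p Q := hS.to_le hQ.1
    have := hp.center_nontrivial
    refine ⟨(Subgroup.center Q).map Q.subtype, ?_, inferInstance,
      IsNormal.stronglyClosed (IsNormal.of_characteristic hQ (Subgroup.map_subtype_le _) ?_)⟩
    · rw [Ne, Subgroup.map_eq_bot_iff_of_injective _ Q.subtype_injective]
      exact (Subgroup.nontrivial_iff_ne_bot _).mp this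
    · rw [Subgroup.subgroupOf, Subgroup.comap_map_eq_self_of_injective Q.subtype_injective]
      infer_instance
  · rintro ⟨Q, hne, hab, hsc⟩
    have hn : F.IsNormal Q := by
      refine isNormal_of_series hS hF 1 (fun i => if i = 0 then ⊥ else Q) rfl rfl ?_ ?_ ?_
      · intro i j hij; rcases i with _ | i
        · simp
        · rcases j with _ | j
          · omega
          · simp
      · intro i _; rcases i with _ | i
        · exact stronglyClosed_bot F
        · exact hsc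
      · intro i hi
        obtain rfl : i = 0 := by omega
        rw [Subgroup.commutator_le]
        intro a ha b hb
        show ⁅a, b⁆ ∈ (⊥ : Subgroup Ω)
        rw [Subgroup.mem_bot, commutatorElement_eq_one_iff_commute]
        exact congrArg Subtype.val (hab.is_comm.comm ⟨a, ha⟩ ⟨b, hb⟩)
    exact fun h => hne (le_bot_iff.mp (h ▸ le_sSup hn))

end saturated

end CfsgLib.Fusion
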