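import Cfsg.Agent.Lib.Fusion.Factor
import Cfsg.Agent.Lib.Fusion.Ext
import Cfsg.Agent.Lib.FusionNormal.Inner

/-!
# Transport of fusion systems along an isomorphism of subgroups

`Emb T T'` is an isomorphism between a subgroup `T` and a subgroup `T'` (possibly of another group), written with
functions on the ambient groups. `Rel e X X'` says that `e` carries the system `X` to the system `X'`. Saturation,
normality, simplicity, the hyperfocal subgroup and the centre are transported.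
-/

set_option autoImplicit false

namespace CfsgLib.FusionTransport

open Cfsg Cfsg.FusionSystem CfsgLib.Fusion CfsgLib.FusionNormal

variable {Ω : Type*} [Group Ω] {Ω' : Type*} [Group Ω']

/-- An isomorphism between two subgroups, as functions on the ambient groups. -/
structure Emb (T : Subgroup Ω) (T' : Subgroup Ω') where
  /-- the isomorphism -/
  f : Ω → Ω'
  /-- its inverse -/
  g : Ω' → Ω
  f_mem : ∀ x ∈ T, f x ∈ T'
  g_mem : ∀ y ∈ T', g y ∈ T
  gf : ∀ x ∈ T, g (f x) = x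
  fg : ∀ y ∈ T', f (g y) = y
  f_mul : ∀ x ∈ T, ∀ y ∈ T, f (x * y) = f x * f y

namespace Emb

variable {T : Subgroup Ω} {T' : Subgroup Ω'} (e : Emb T T')

theorem f_one : e.f 1 = 1 := by
  have h := e.f_mul 1 T.one_mem 1 T.one_mem
  rw [mul_one] at h
  exact left_eq_mul.mp h

theorem f_inj {x y : Ω} (hx : x ∈ T) (hy : y ∈ T) (h : e.f x = e.f y) : x = y := by
  rw [← e.gf x hx, h, e.gf y hy]

theorem f_inv {x : Ω} (hx : x ∈ T) : e.f x⁻¹ = (e.f x)⁻¹ := by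
  refine eq_inv_of_mul_eq_one_left ?_
  rw [← e.f_mul _ (T.inv_mem hx) _ hx, inv_mul_cancel, e.f_one]

theorem f_conj {a x : Ω} (ha : a ∈ T) (hx : x ∈ T) :
    e.f (a * x * a⁻¹) = e.f a * e.f x * (e.f a)⁻¹ := by
  rw [e.f_mul _ (T.mul_mem ha hx) _ (T.inv_mem ha), e.f_mul _ ha _ hx, e.f_inv ha]

theorem g_mul {x y : Ω'} (hx : x ∈ T') (hy : y ∈ T') : e.g (x * y) = e.g x * e.g y := by
  refine e.f_inj (e.g_mem _ (T'.mul_mem hx hy)) (T.mul_mem (e.g_mem x hx) (e.g_mem y hy)) ?_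
  rw [e.f_mul _ (e.g_mem x hx) _ (e.g_mem y hy), e.fg _ hx, e.fg _ hy,
    e.fg _ (T'.mul_mem hx hy)]

/-- The inverse isomorphism. -/
def symm : Emb T' T where
  f := e.g
  g := e.f
  f_mem := e.g_mem
  g_mem := e.f_mem
  gf := e.fg
  fg := e.gf
  f_mul _ hx _ hy := e.g_mul hx hy

theorem g_one : e.g 1 = 1 := e.symm.f_one

theorem g_inv {x : Ω'} (hx : x ∈ T') : e.g x⁻¹ = (e.g x)⁻¹ := e.symm.f_inv hx

/-- The image of a subgroup. -/
def img (P : Subgroup Ω) : Subgroup Ω' where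
  carrier := {y | y ∈ T' ∧ e.g y ∈ P}
  one_mem' := ⟨T'.one_mem, by rw [e.g_one]; exact P.one_mem⟩
  mul_mem' := fun ha hb => ⟨T'.mul_mem ha.1 hb.1, by rw [e.g_mul ha.1 hb.1]; exact P.mul_mem ha.2 hb.2⟩
  inv_mem' := fun ha => ⟨T'.inv_mem ha.1, by rw [e.g_inv ha.1]; exact P.inv_mem ha.2⟩

theorem mem_img {P : Subgroup Ω} {y : Ω'} : y ∈ e.img P ↔ y ∈ T' ∧ e.g y ∈ P := Iff.rfl

theorem img_le (P : Subgroup Ω) : e.img P ≤ T' := fun _ h => h.1

theorem f_mem_img {P : Subgroup Ω} (hP : P ≤ T) {x : Ω} (hx : x ∈ P) : e.f x ∈ e.img P :=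
  ⟨e.f_mem x (hP hx), by rw [e.gf x (hP hx)]; exact hx⟩

theorem img_mono {P R : Subgroup Ω} (h : P ≤ R) : e.img P ≤ e.img R := fun _ hy => ⟨hy.1, h hy.2⟩

theorem img_self : e.img T = T' :=
  le_antisymm (e.img_le T) fun y hy => ⟨hy, e.g_mem y hy⟩

theorem img_symm {Q : Subgroup Ω'} (hQ : Q ≤ T') : e.img (e.symm.img Q) = Q := by
  ext y
  refine ⟨fun ⟨hy, _, h⟩ => ?_, fun hy => ⟨hQ hy, e.g_mem y (hQ hy), ?_⟩⟩
  · exact (e.fg y hy) ▸ h
  · show e.f (e.g y) ∈ Q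
    rw [e.fg y (hQ hy)]; exact hy

theorem symm_img {P : Subgroup Ω} (hP : P ≤ T) : e.symm.img (e.img P) = P := e.symm.img_symm hP

theorem image_eq {P : Subgroup Ω} (hP : P ≤ T) : e.f '' P = (e.img P : Set Ω') := by
  ext y
  refine ⟨?_, fun hy => ⟨e.g y, hy.2, e.fg y hy.1⟩⟩
  rintro ⟨x, hx, rfl⟩
  exact e.f_mem_img hP hx

theorem img_sup {A B : Subgroup Ω} (hA : A ≤ T) (hB : B ≤ T) :
    e.img (A ⊔ B) = e.img A ⊔ e.img B := by
  refine le_antisymm ?_ (sup_le (e.img_mono le_sup_left) (e.img_mono le_sup_right))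
  have h : A ⊔ B ≤ e.symm.img (e.img A ⊔ e.img B) := by
    refine sup_le (fun x hx => ⟨hA hx, ?_⟩) (fun x hx => ⟨hB hx, ?_⟩)
    · exact Subgroup.mem_sup_left (e.f_mem_img hA hx)
    · exact Subgroup.mem_sup_right (e.f_mem_img hB hx)
  exact (e.img_mono h).trans (e.img_symm (sup_le (e.img_le A) (e.img_le B))).le

theorem img_bot : e.img ⊥ = ⊥ := by
  refine le_bot_iff.mp fun y hy => ?_
  rw [Subgroup.mem_bot]
  have h1 : e.g y = 1 := Subgroup.mem_bot.mp hy.2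
  rw [← e.fg y hy.1, h1, e.f_one]

theorem commute_iff {a x : Ω} (ha : a ∈ T) (hx : x ∈ T) :
    e.f x * e.f a = e.f a * e.f x ↔ x * a = a * x := by
  rw [← e.f_mul _ hx _ ha, ← e.f_mul _ ha _ hx]
  exact ⟨e.f_inj (T.mul_mem hx ha) (T.mul_mem ha hx), congrArg e.f⟩

theorem img_centralizerIn {V U : Subgroup Ω} (hV : V ≤ T) (hU : U ≤ T) :
    e.img (centralizerIn V U) = centralizerIn (e.img V) (e.img U) := by
  ext y
  simp only [e.mem_img, Fusion.mem_centralizerIn]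
  constructor
  · rintro ⟨hy, hyV, hc⟩
    refine ⟨⟨hy, hyV⟩, fun z hz => ?_⟩
    have h := (e.commute_iff (e.g_mem y hy) (e.g_mem z hz.1)).mpr (hc _ hz.2)
    rwa [e.fg y hy, e.fg z hz.1] at h
  · rintro ⟨⟨hy, hyV⟩, hc⟩
    refine ⟨hy, hyV, fun z hz => ?_⟩
    refine (e.commute_iff (e.g_mem y hy) (hU hz)).mp ?_
    rw [e.fg y hy]
    exact hc _ (e.f_mem_img hU hz)

/-- The isomorphism restricted to a subgroup, as a homomorphism. -/
def hom {U : Subgroup Ω} (hU : U ≤ T) : U →* Ω' where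
  toFun x := e.f x
  map_one' := e.f_one
  map_mul' x y := e.f_mul _ (hU x.2) _ (hU y.2)

theorem range_hom {U : Subgroup Ω} (hU : U ≤ T) : (e.hom hU).range = e.img U := by
  ext y
  exact ⟨fun ⟨x, hx⟩ => hx ▸ e.f_mem_img hU x.2, fun hy => ⟨⟨e.g y, hy.2⟩, e.fg y hy.1⟩⟩

theorem hom_eq_one {U : Subgroup Ω} (hU : U ≤ T) (s : U) : e.hom hU s = 1 ↔ (s : Ω) ∈ (⊥ : Subgroup Ω) := by
  rw [Subgroup.mem_bot]
  constructor
  · intro h
    refine e.f_inj (hU s.2) T.one_mem ?_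
    rw [e.f_one]; exact h
  · intro h
    show e.f s = 1
    rw [h, e.f_one]

theorem preimageAlong_hom {U : Subgroup Ω} (hU : U ≤ T) {Q : Subgroup Ω'} (hQ : Q ≤ e.img U) :
    preimageAlong (e.hom hU) Q = e.symm.img Q := by
  ext x
  rw [FusionFactor.mem_preimageAlong]
  refine ⟨fun ⟨h, h'⟩ => ⟨hU h, h'⟩, fun ⟨h, h'⟩ => ?_⟩
  obtain ⟨-, h2⟩ : e.f x ∈ e.img U := hQ h'
  rw [e.gf x h] at h2
  exact ⟨h2, h'⟩

/-- The isomorphism as a `MulEquiv` on a subgroup. -/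
def equiv {P : Subgroup Ω} (hP : P ≤ T) : P ≃* e.img P where
  toFun x := ⟨e.f x, e.f_mem_img hP x.2⟩
  invFun y := ⟨e.g y, y.2.2⟩
  left_inv x := Subtype.ext (e.gf x (hP x.2))
  right_inv y := Subtype.ext (e.fg y y.2.1)
  map_mul' x y := Subtype.ext (e.f_mul _ (hP x.2) _ (hP y.2))

end Emb

/-- An isomorphism between subgroups given by an injective homomorphism on the source. -/
theorem exists_emb_of_hom {T : Subgroup Ω} (θ : T →* Ω') (hθ : Function.Injective θ) :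
    ∃ e : Emb T θ.range, ∀ x : T, θ x = e.f x := by
  classical
  have hg : ∀ y : Ω', ∃ x : Ω, ∀ hy : y ∈ θ.range, ∃ h : x ∈ T, θ ⟨x, h⟩ = y := by
    intro y
    by_cases hy : y ∈ θ.range
    · obtain ⟨x, hx⟩ := hy
      exact ⟨x, fun _ => ⟨x.2, hx⟩⟩
    · exact ⟨1, fun h => absurd h hy⟩
  choose g hg using hg
  refine ⟨{ f := fun x => if h : x ∈ T then θ ⟨x, h⟩ else 1
            g := g
            f_mem := fun x hx => by rw [dif_pos hx]; exact ⟨_, rfl⟩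
            g_mem := fun y hy => (hg y hy).1
            gf := fun x hx => ?_
            fg := fun y hy => ?_
            f_mul := fun x hx y hy => ?_ }, fun x => ?_⟩
  · rw [dif_pos hx]
    obtain ⟨h, he⟩ := hg (θ ⟨x, hx⟩) ⟨_, rfl⟩
    exact congrArg Subtype.val (hθ he)
  · obtain ⟨h, he⟩ := hg y hy
    rw [dif_pos h]; exact he
  · rw [dif_pos hx, dif_pos hy, dif_pos (T.mul_mem hx hy)]
    exact map_mul θ ⟨x, hx⟩ ⟨y, hy⟩
  · show θ x = if h : (x : Ω) ∈ T then θ ⟨x, h⟩ else 1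
    rw [dif_pos x.2]

/-- `e` carries the system `X` to the system `X'`. -/
structure Rel {T : Subgroup Ω} {T' : Subgroup Ω'} (e : Emb T T') {U : Subgroup Ω} (X : FusionSystem U)
    {U' : Subgroup Ω'} (X' : FusionSystem U') : Prop where
  le : U ≤ T
  eq : e.img U = U'
  fwd : ∀ {P : Subgroup Ω} {k : Ω → Ω}, MapFn X P k → MapFn X' (e.img P) (e.f ∘ k ∘ e.g)
  bwd : ∀ {Q : Subgroup Ω'} {k : Ω' → Ω'}, MapFn X' Q k → MapFn X (e.symm.img Q) (e.g ∘ k ∘ e.f)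

variable {T : Subgroup Ω} {T' : Subgroup Ω'} {e : Emb T T'}
  {U : Subgroup Ω} {X : FusionSystem U} {U' : Subgroup Ω'} {X' : FusionSystem U'}
  {V : Subgroup Ω} {Y : FusionSystem V} {V' : Subgroup Ω'} {Y' : FusionSystem V'}

theorem Rel.le' (h : Rel e X X') : U' ≤ T' := h.eq ▸ e.img_le U

theorem Rel.symm (h : Rel e X X') : Rel e.symm X' X :=
  ⟨h.le', by rw [← h.eq]; exact e.symm_img h.le, h.bwd, h.fwd⟩

theorem Rel.image_fwd {P Q : Subgroup Ω} {k : Ω → Ω} (hP : P ≤ T) (hQ : Q ≤ T)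
    (hk : k '' P = (Q : Set Ω)) : (e.f ∘ k ∘ e.g) '' (e.img P : Set Ω') = (e.img Q : Set Ω') := by
  rw [← e.image_eq hQ, ← hk, ← e.image_eq hP, Set.image_image, Set.image_image]
  refine Set.image_congr fun x hx => ?_
  show e.f (k (e.g (e.f x))) = e.f (k x)
  rw [e.gf x (hP hx)]

/-- The transported system. -/
def sys (e : Emb T T') (X : FusionSystem U) (hU : U ≤ T) : FusionSystem (e.img U) where
  Hom Q := {φ | Q ≤ e.img U ∧ ∃ k, MapFn X (e.symm.img Q) k ∧ ∀ y : Q, φ y = e.f (k (e.g y))}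
  le_of_mem := by
    rintro Q φ ⟨hQ, k, hk, he⟩
    refine ⟨hQ, fun y => ?_⟩
    rw [he]
    refine e.f_mem_img hU (hk.mem_S ⟨e.g_mem y (hQ y.2).1, ?_⟩)
    show e.f (e.g y) ∈ Q
    rw [e.fg y (hQ y.2).1]; exact y.2
  injective_of_mem := by
    rintro Q φ ⟨hQ, k, hk, he⟩ a b hab
    have hm : ∀ y : Q, e.g y ∈ e.symm.img Q := fun y => ⟨e.g_mem y (hQ y.2).1, by
      show e.f (e.g y) ∈ Q
      rw [e.fg y (hQ y.2).1]; exact y.2⟩
    rw [he, he] at hab
    have h1 := hk.injOn (hm a) (hm b) (e.f_inj (hU (hk.mem_S (hm a))) (hU (hk.mem_S (hm b))) hab)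
    exact Subtype.ext (e.symm.f_inj (hQ a.2).1 (hQ b.2).1 h1)
  conj_mem := by
    rintro Q c hQ hc
    have hQU : e.symm.img Q ≤ U := (e.symm.img_mono hQ).trans (e.symm_img hU).le
    refine ⟨hQ, fun x => e.g c * x * (e.g c)⁻¹, mapFn_conj hQU hc.2, fun y => ?_⟩
    show c * (y : Ω') * c⁻¹ = e.f (e.g c * e.g y * (e.g c)⁻¹)
    rw [e.f_conj (e.g_mem c hc.1) (e.g_mem y (hQ y.2).1), e.fg c hc.1, e.fg y (hQ y.2).1]
  comp_mem := by
    rintro Q R φ ψ ⟨hQ, k, hk, he⟩ ⟨hR, l, hl, hle⟩ h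
    have hm : ∀ x ∈ e.symm.img Q, k x ∈ e.symm.img R := by
      intro x hx
      refine ⟨hU (hk.mem_S hx), ?_⟩
      show e.f (k x) ∈ R
      have := h ⟨e.f x, hx.2⟩
      rw [he] at this
      simpa only [e.gf x hx.1] using this
    refine ⟨hQ, l ∘ k, hk.comp hl hm, fun y => ?_⟩
    show ψ _ = _
    rw [hle]
    show e.f (l (e.g (φ y))) = e.f (l (k (e.g y)))
    rw [he, e.gf _ (hU (hk.mem_S ⟨e.g_mem y (hQ y.2).1, ?_⟩))]
    show e.f (e.g y) ∈ Q
    rw [e.fg y (hQ y.2).1]; exact y.2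
  inv_mem := by
    rintro Q φ ⟨hQ, k, hk, he⟩
    have hQT : Q ≤ T' := hQ.trans (e.img_le U)
    obtain ⟨R, hRU, hR⟩ := hk.exists_image
    obtain ⟨l, hl, -, hlk, -⟩ := hk.exists_inv hR
    have hrange : φ.range = e.img R := by
      apply SetLike.coe_injective
      rw [← Rel.image_fwd (k := k) (e.symm.img_le Q) (hRU.trans hU) hR, e.img_symm hQT]
      exact (MapFn.image_eq_range he).symm
    have hlrange : MapFn X (e.symm.img φ.range) l := by
      rw [hrange, e.symm_img (hRU.trans hU)]; exact hl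
    let ψ : φ.range →* Ω' :=
      { toFun := fun y => e.f (l (e.g y))
        map_one' := by
          show e.f (l (e.g 1)) = 1
          rw [e.g_one, hl.map_one, e.f_one]
        map_mul' := fun a b => by
          show e.f (l (e.g ((a : Ω') * b))) = _
          have ha : (a : Ω') ∈ e.img R := hrange.le a.2
          have hb : (b : Ω') ∈ e.img R := hrange.le b.2
          rw [e.g_mul ha.1 hb.1, hl.map_mul ha.2 hb.2,
            e.f_mul _ (hU (hl.mem_S ha.2)) _ (hU (hl.mem_S hb.2))] }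
    refine ⟨ψ, ⟨hrange.le.trans (e.img_mono hRU), l, hlrange, fun _ => rfl⟩, fun y => ?_⟩
    show e.f (l (e.g (φ y))) = y
    have hy : e.g y ∈ e.symm.img Q := ⟨e.g_mem y (hQT y.2), by
      show e.f (e.g y) ∈ Q
      rw [e.fg y (hQT y.2)]; exact y.2⟩
    rw [he, e.gf _ (hU (hk.mem_S hy)), hlk _ hy, e.fg y (hQT y.2)]

theorem rel_sys (e : Emb T T') (X : FusionSystem U) (hU : U ≤ T) : Rel e X (sys e X hU) := by
  refine ⟨hU, rfl, fun {P k} hk => ?_, fun {Q k} hk => ?_⟩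
  · have hPU := hk.le_S
    have hPT : P ≤ T := hPU.trans hU
    have hkU : ∀ {y : Ω'}, y ∈ e.img P → k (e.g y) ∈ T := fun hy => hU (hk.mem_S hy.2)
    let φ : e.img P →* Ω' :=
      { toFun := fun y => e.f (k (e.g y))
        map_one' := by
          show e.f (k (e.g 1)) = 1
          rw [e.g_one, hk.map_one, e.f_one]
        map_mul' := fun a b => by
          show e.f (k (e.g ((a : Ω') * b))) = _
          rw [e.g_mul a.2.1 b.2.1, hk.map_mul a.2.2 b.2.2, e.f_mul _ (hkU a.2) _ (hkU b.2)] }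
    exact ⟨φ, ⟨e.img_mono hPU, k, (e.symm_img hPT).symm ▸ hk, fun _ => rfl⟩, fun _ => rfl⟩
  · obtain ⟨φ, ⟨hQ, l, hl, hle⟩, he⟩ := hk
    refine hl.congr fun x hx => ?_
    show l x = e.g (k (e.f x))
    rw [← he ⟨e.f x, hx.2⟩, hle]
    show l x = e.g (e.f (l (e.g (e.f x))))
    rw [e.gf x hx.1, e.gf _ (hU (hl.mem_S hx))]

theorem Rel.unique {X'' : FusionSystem U'} (h : Rel e X X') (h' : Rel e X X'') : X' = X'' := by
  refine ext_hom fun Q => hom_eq_iff_mapFn.mpr fun k => ?_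
  have key : ∀ {A B : FusionSystem U'}, Rel e X A → Rel e X B → MapFn A Q k → MapFn B Q k := by
    intro A B hA hB hk
    have hQ : Q ≤ T' := hk.le_S.trans hA.le'
    have h1 := hB.fwd (hA.bwd hk)
    rw [e.img_symm hQ] at h1
    refine h1.congr fun y hy => ?_
    show e.f (e.g (k (e.f (e.g y)))) = k y
    rw [e.fg y (hQ hy), e.fg _ (hA.le' (hk.mem_S hy))]
  exact ⟨key h h', key h' h⟩

theorem Rel.mapFn_sub (h : Rel e X X') (hY : Rel e Y Y') (hsub : X.IsSubsystemOf Y) :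
    X'.IsSubsystemOf Y' := fun Q => by
  refine hom_subset_iff_mapFn.mpr fun k hk => ?_
  have hQ : Q ≤ T' := hk.le_S.trans h.le'
  have h1 := hY.fwd (mapFn_of_sub hsub (h.bwd hk))
  rw [e.img_symm hQ] at h1
  refine h1.congr fun y hy => ?_
  show e.f (e.g (k (e.f (e.g y)))) = k y
  rw [e.fg y (hQ hy), e.fg _ (h.le' (hk.mem_S hy))]

theorem Rel.stronglyClosed (hY : Rel e Y Y') {W : Subgroup Ω} (hW : Y.StronglyClosed W) :
    Y'.StronglyClosed (e.img W) := by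
  refine ⟨hY.eq ▸ e.img_mono hW.1, fun R hR φ hφ y => ?_⟩
  obtain ⟨k, hk, hke⟩ := mapFn_of_hom hφ
  have h1 := hY.bwd hk
  obtain ⟨ψ, hψ, hψe⟩ := h1
  have hRW : e.symm.img R ≤ W := (e.symm.img_mono hR).trans (e.symm_img (hW.1.trans hY.le)).le
  have hyT : (y : Ω') ∈ T' := (hR y.2).1
  have hmem : e.g y ∈ e.symm.img R := ⟨e.g_mem y hyT, by
    show e.f (e.g y) ∈ R
    rw [e.fg y hyT]; exact y.2⟩
  have h2 := hW.2 _ hRW ψ hψ ⟨e.g y, hmem⟩
  rw [hψe] at h2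
  change e.g (k (e.f (e.g y))) ∈ W at h2
  rw [e.fg y hyT, ← hke] at h2
  exact ⟨hY.le' ((Y'.le_of_mem hφ).2 y), h2⟩

/-- A factor system modulo the trivial subgroup, as a relation. -/
theorem rel_of_factor (θ : U →* Ω') (hθ : ∀ x : U, θ x = e.f x) (hU : U ≤ T) (hU' : θ.range = U')
    (hE : X.IsFactorSystem ⊥ θ X') : Rel e X X' := by
  obtain rfl : θ = e.hom hU := MonoidHom.ext hθ
  have heq : e.img U = U' := by rw [← hU', e.range_hom hU]
  obtain ⟨-, hk0, -, hHom⟩ := hE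
  have hsc : X.StronglyClosed ⊥ :=
    ⟨bot_le, fun R hR φ _ x => by
      have hx : x = 1 := Subtype.ext (Subgroup.mem_bot.mp (hR x.2))
      rw [hx, map_one]; exact Subgroup.one_mem _⟩
  refine ⟨hU, heq, fun {P k} hk => ?_, fun {Q k} hk => ?_⟩
  · have hPT : P ≤ T := hk.le_S.trans hU
    have hpre : preimageAlong (e.hom hU) (e.img P) = P := by
      rw [e.preimageAlong_hom hU (e.img_mono hk.le_S), e.symm_img hPT]
    have hk' : MapFn X (preimageAlong (e.hom hU) (e.img P)) k := by rw [hpre]; exact hk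
    obtain ⟨φ, hφ, he⟩ := hk'
    have hr : e.img P ≤ (e.hom hU).range := by rw [e.range_hom hU]; exact e.img_mono hk.le_S
    obtain ⟨φ', hφ'⟩ := FusionFactor.exists_induced hk0 hsc hr hφ
    refine ⟨φ', (hHom _ _).mpr ⟨hU' ▸ hr, φ, hφ, hφ'⟩, fun y => ?_⟩
    obtain ⟨hP', hφU, hm, hi⟩ := hφ'
    have hmem : e.g y ∈ preimageAlong (e.hom hU) (e.img P) := by rw [hpre]; exact y.2.2
    have hy : y = ⟨e.hom hU ⟨e.g y, hP' hmem⟩, hm ⟨e.g y, hmem⟩⟩ :=
      Subtype.ext (e.fg y y.2.1).symm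
    conv_lhs => rw [hy]
    rw [hi ⟨e.g y, hmem⟩]
    show e.f (φ ⟨e.g y, hmem⟩) = e.f (k (e.g y))
    rw [he]
  · obtain ⟨φ', hφ', he⟩ := hk
    obtain ⟨hQ, φ, hφ, hP', hφU, hm, hi⟩ := (hHom _ _).mp hφ'
    have hpre := e.preimageAlong_hom hU (Q := Q) (heq ▸ hQ)
    obtain ⟨l, hl, hle⟩ := mapFn_of_hom hφ
    rw [hpre] at hl
    refine hl.congr fun x hx => ?_
    have hx' : x ∈ preimageAlong (e.hom hU) Q := hpre.symm ▸ hx
    have h1 := hi ⟨x, hx'⟩
    rw [he] at h1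
    change k (e.f x) = e.f (φ ⟨x, hx'⟩) at h1
    show l x = e.g (k (e.f x))
    rw [h1, e.gf _ (hU (hφU _)), hle]

theorem Rel.isFactorSystem (h : Rel e X X') : X.IsFactorSystem ⊥ (e.hom h.le) X' := by
  refine ⟨bot_le, e.hom_eq_one h.le, by rw [e.range_hom h.le, h.eq], fun Q φ' => ?_⟩
  constructor
  · intro hφ'
    obtain ⟨k, hk, hke⟩ := mapFn_of_hom hφ'
    have hQ : Q ≤ U' := hk.le_S
    have hQU : Q ≤ e.img U := h.eq.symm ▸ hQ
    obtain ⟨φ, hφ, hφe⟩ := (e.preimageAlong_hom h.le hQU).symm ▸ h.bwd hk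
    refine ⟨hQ, φ, hφ, FusionFactor.preimageAlong_le Q, (X.le_of_mem hφ).2,
      fun x => FusionFactor.map_mem_of_mem_preimageAlong x.2 _, fun x => ?_⟩
    show φ' _ = e.f (φ x)
    rw [hke, hφe]
    show k (e.f x) = e.f (e.g (k (e.f x)))
    rw [e.fg _ (h.le' (hk.mem_S ?_))]
    exact FusionFactor.map_mem_of_mem_preimageAlong x.2 (FusionFactor.preimageAlong_le Q x.2)
  · rintro ⟨hQ, φ, hφ, hP', hφU, hm, hi⟩
    have hQU : Q ≤ e.img U := h.eq.symm ▸ hQ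
    obtain ⟨l, hl, hle⟩ := mapFn_of_hom hφ
    have h1 := h.fwd hl
    rw [e.preimageAlong_hom h.le hQU, e.img_symm (hQ.trans h.le')] at h1
    refine h1.mem fun y => ?_
    have hyU : e.g y ∈ U := (hQU y.2).2
    have hyT : (y : Ω') ∈ T' := (hQU y.2).1
    have hmem : e.g y ∈ preimageAlong (e.hom h.le) Q :=
      FusionFactor.mem_preimageAlong.mpr ⟨hyU, by
        show e.f (e.g y) ∈ Q
        rw [e.fg y hyT]; exact y.2⟩
    have hy : y = ⟨e.hom h.le ⟨e.g y, hP' hmem⟩, hm ⟨e.g y, hmem⟩⟩ := Subtype.ext (e.fg y hyT).symm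
    conv_lhs => rw [hy]
    rw [hi ⟨e.g y, hmem⟩]
    show e.f (φ ⟨e.g y, hmem⟩) = e.f (l (e.g y))
    rw [hle]

theorem Rel.isSaturated [Finite T] {p : ℕ} [Fact p.Prime] (hT : IsPGroup p T) (h : Rel e X X')
    (hX : X.IsSaturated p) : X'.IsSaturated p := by
  haveI : Finite U := finite_of_le h.le
  refine FusionFactor.isSaturated_factor (hT.to_le h.le) hX ?_ h.isFactorSystem
  exact ⟨bot_le, fun R hR φ _ x => by
    have hx : x = 1 := Subtype.ext (Subgroup.mem_bot.mp (hR x.2))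
    rw [hx, map_one]; exact Subgroup.one_mem _⟩

end CfsgLib.FusionTransport
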