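import Cfsg.Agent.Lib.Fusion.Stabilizer
import Cfsg.Agent.Lib.TwoGroups.WreathedAut

/-!
# Automorphisms of dihedral and quaternion 2-groups; the top automizer
-/

namespace CfsgLib.Fusion

open Cfsg Cfsg.FusionSystem

theorem isPGroup_mulAut_of_index_two {X : Type*} [Group X] [Finite X] (hX : IsPGroup 2 X) (x : X)
    (h8 : 8 ≤ orderOf x) (hi : (Subgroup.zpowers x).index = 2)
    (hout : ∀ y, y ∉ Subgroup.zpowers x → orderOf y ≤ 4) : IsPGroup 2 (MulAut X) := by
  refine CfsgLib.TwoGroups.OddAut.isPGroup_mulAut fun φ hφ => ?_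
  have hx : φ x ∈ Subgroup.zpowers x := by
    by_contra h
    have := hout _ h
    rw [MulEquiv.orderOf_eq] at this
    omega
  have hinv : ∀ u ∈ Subgroup.zpowers x, φ u ∈ Subgroup.zpowers x := by
    rintro _ ⟨j, rfl⟩
    show φ (x ^ j) ∈ _
    rw [map_zpow]; exact Subgroup.zpow_mem _ hx j
  have hfix := CfsgLib.TwoGroups.OddAut.fixed_subgroup hX hφ (Subgroup.zpowers x) hinv
  obtain ⟨k, hk⟩ := exists_pow_eq_one_of_stabilizes hX (n := 1)
    (fun i => if i = 0 then Subgroup.zpowers x else ⊤) (fun i _ => by simp) (by simp) (α := φ)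
    ⟨0, fun u hu => by rw [pow_zero, pow_one]; exact hfix u (by simpa using hu)⟩
    (fun i hi' y _ => by
      obtain rfl : i = 0 := by omega
      simp only [↓reduceIte]
      rw [Subgroup.mul_mem_iff_of_index_two hi, inv_mem_iff]
      refine ⟨fun h => hinv y h, fun h => ?_⟩
      exact (show y = φ y from φ.injective (hfix _ h).symm) ▸ h)
  have h1 : orderOf φ ∣ 2 ^ k := orderOf_dvd_of_pow_eq_one hk
  exact orderOf_eq_one_iff.mp
    (Nat.eq_one_of_dvd_coprimes (((Nat.coprime_two_right.mpr hφ)).pow_right k) dvd_rfl h1)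

theorem index_zpowers_eq_two {X : Type*} [Group X] (x : X) {m : ℕ} (hm : 0 < m)
    (hx : orderOf x = m) (hc : Nat.card X = 2 * m) : (Subgroup.zpowers x).index = 2 := by
  have h := (Subgroup.zpowers x).card_mul_index
  rw [Nat.card_zpowers, hx, hc, mul_comm] at h
  exact Nat.eq_of_mul_eq_mul_right hm h

theorem isPGroup_mulAut_dihedral (k : ℕ) (hk : 3 ≤ k) : IsPGroup 2 (MulAut (DihedralGroup (2 ^ k))) := by
  haveI : NeZero (2 ^ k) := ⟨(pow_pos two_pos k).ne'⟩
  have hc : Nat.card (DihedralGroup (2 ^ k)) = 2 * 2 ^ k := by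
    rw [Nat.card_eq_fintype_card, DihedralGroup.card]
  refine isPGroup_mulAut_of_index_two (IsPGroup.of_card (n := k + 1) (by rw [hc, pow_succ']))
    (DihedralGroup.r 1) ?_ (index_zpowers_eq_two _ (pow_pos two_pos k) DihedralGroup.orderOf_r_one hc) ?_
  · rw [DihedralGroup.orderOf_r_one]
    calc 8 = 2 ^ 3 := rfl
      _ ≤ 2 ^ k := Nat.pow_le_pow_right two_pos hk
  · rintro (i | i) hy
    · exact absurd ⟨(i.val : ℤ), by simp [DihedralGroup.r_one_zpow]⟩ hy
    · rw [DihedralGroup.orderOf_sr]; omega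

theorem isPGroup_mulAut_quaternion (k : ℕ) (hk : 2 ≤ k) :
    IsPGroup 2 (MulAut (QuaternionGroup (2 ^ k))) := by
  haveI : NeZero (2 ^ k) := ⟨(pow_pos two_pos k).ne'⟩
  haveI : NeZero (2 * 2 ^ k) := ⟨by positivity⟩
  have hc : Nat.card (QuaternionGroup (2 ^ k)) = 2 * (2 * 2 ^ k) := by
    rw [Nat.card_eq_fintype_card, QuaternionGroup.card]; ring
  refine isPGroup_mulAut_of_index_two (IsPGroup.of_card (n := k + 2) (by rw [hc]; ring))
    (QuaternionGroup.a 1) ?_ (index_zpowers_eq_two _ (by positivity) QuaternionGroup.orderOf_a_one hc) ?_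
  · rw [QuaternionGroup.orderOf_a_one]
    calc 8 = 2 * 2 ^ 2 := rfl
      _ ≤ 2 * 2 ^ k := Nat.mul_le_mul le_rfl (Nat.pow_le_pow_right two_pos hk)
  · rintro (i | i) hy
    · exact absurd ⟨(i.val : ℤ), by show _ ^ (i.val : ℤ) = _; rw [zpow_natCast, QuaternionGroup.a_one_pow, ZMod.natCast_zmod_val]⟩ hy
    · rw [QuaternionGroup.orderOf_xa]

theorem autGroup_top_eq_inn {Ω : Type*} [Group Ω] {S : Subgroup Ω} [Finite S] {p : ℕ} [Fact p.Prime]
    {F : FusionSystem S} (hF : F.IsFullyAutomized p S) (h : IsPGroup p (MulAut S)) :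
    F.autGroup S = Inn S := by
  have := finite_mulAut (le_refl S)
  obtain ⟨-, T, hT⟩ := hF
  have htop : (T : Subgroup (F.autGroup S)) = ⊤ :=
    (T.3 ((h.to_subgroup (F.autGroup S)).to_subgroup ⊤) le_top).symm
  refine le_antisymm (fun α hα => ?_) (inn_le_autGroup le_rfl)
  have h1 : α ∈ autInducedBy S S := hT.le (htop.ge (Subgroup.mem_top ⟨α, hα⟩))
  rwa [autInducedBy_self] at h1

end CfsgLib.Fusion
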