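import Cfsg.Agent.Lib.Fusion.Saturated
import Cfsg.Agent.Lib.Fusion.PEmbedded

/-!
# Extendable automorphisms, essential subgroups and the fusion theorem of Alperin and Goldschmidt
-/

namespace CfsgLib.Fusion

open Cfsg Cfsg.FusionSystem
open scoped Pointwise

variable {Ω : Type*} [Group Ω] {S : Subgroup Ω} {F : FusionSystem S} {P Q R : Subgroup Ω}

/-- The automorphisms of `P` generated by those extending to a strictly larger subgroup. -/
def extGroup (F : FusionSystem S) (P : Subgroup Ω) : Subgroup (MulAut P) :=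
  Subgroup.closure {α : MulAut P | ∃ (Q : Subgroup Ω) (hPQ : P < Q) (φ : Q →* Ω),
    φ ∈ F.Hom Q ∧ ∀ x : P, φ (Subgroup.inclusion hPQ.le x) = α x}

theorem extGroup_le (F : FusionSystem S) (P : Subgroup Ω) : extGroup F P ≤ F.autGroup P := by
  rw [extGroup, Subgroup.closure_le]
  rintro α ⟨Q, hPQ, φ, hφ, h⟩
  exact Subgroup.subset_closure (restrict_of hPQ.le hφ fun x => (h x).symm)

theorem autInducedBy_le_extGroup [Finite S] {p : ℕ} [Fact p.Prime] (hS : IsPGroup p S) (hP : P < S) :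
    autInducedBy S P ≤ extGroup F P := by
  intro α hα
  obtain ⟨g, hg, h⟩ := mem_autInducedBy.mp hα
  exact Subgroup.subset_closure
    ⟨normalizerIn S P, lt_normalizerIn hS le_rfl hP, _, F.conj_mem normalizerIn_le hg, fun x => (h x).symm⟩

/-- An automorphism whose extender is larger than `P` extends. -/
theorem mem_extGroup_of_mem_extender (hP : F.IsReceptive P) {α : MulAut P} (hα : α ∈ F.autGroup P) {g : Ω}
    (hg : g ∈ extender S P (P.subtype.comp α.toMonoidHom)) (hgP : g ∉ P) : α ∈ extGroup F P := by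
  have hm := (mem_autGroup hP.1).mp hα
  have hlt : P < extender S P (P.subtype.comp α.toMonoidHom) :=
    lt_of_le_of_ne (le_extender hP.1 (apply_mem_S hm)) fun he => hgP (he ▸ hg)
  obtain ⟨ψ, hψ, h⟩ := exists_extension hP hm (autMap_range α) hlt.le le_rfl
  exact Subgroup.subset_closure ⟨_, hlt, ψ, hψ, h⟩

theorem mem_extGroup_of_conj (hP : F.IsReceptive P) {α : MulAut P} (hα : α ∈ F.autGroup P) {g : Ω}
    (hg : g ∈ S) (hgP : g ∉ P) {a : MulAut P} (ha : ∀ x : P, ((a x : P) : Ω) = g * (x : Ω) * g⁻¹)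
    (hc : α * a * α⁻¹ ∈ autInducedBy S P) : α ∈ extGroup F P := by
  refine mem_extGroup_of_mem_extender hP hα ?_ hgP
  obtain ⟨h, hh, hhe⟩ := mem_autInducedBy.mp hc
  refine mem_extender.mpr ⟨hg, mem_normalizer_of_aut ha, h, hh, fun x hx => ?_⟩
  rw [autMap_apply, autMap_apply, ← hhe]
  simp [← ha x]

/-- A fully centralized subgroup containing its centralizer in `S` is centric. -/
theorem centric_of_fullyCentralized [Finite S] (hP : F.IsFullyCentralized P)
    (hC : centralizerIn S P ≤ P) : F.IsCentric P := by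
  refine ⟨hP.1, fun Q hQ => ?_⟩
  obtain ⟨φ, hφ, hr⟩ := hQ
  have hm : ∀ z : centralizerIn S P, φ ⟨z, hC z.2⟩ ∈ centralizerIn S Q := by
    intro z
    refine ⟨apply_mem_S hφ _, Subgroup.mem_centralizer_iff.mpr fun y hy => ?_⟩
    obtain ⟨x, rfl⟩ := hr.ge hy
    rw [← map_mul, ← map_mul]
    exact apply_eq_of_coe_eq (Subgroup.mem_centralizer_iff.mp z.2.2 x x.2)
  rw [← range_eq_of_card_le (restrict_mem hC hφ) centralizerIn_le hm (hP.2 Q ⟨φ, hφ, hr⟩)]
  rintro _ ⟨z, rfl⟩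
  exact hr.le ⟨_, rfl⟩

theorem IsCentric.centralizerIn_le' (hP : F.IsCentric P) : centralizerIn S P ≤ P :=
  hP.2 P (isConj_refl hP.1)

theorem IsCentric.of_le (hP : F.IsCentric P) (hPQ : P ≤ Q) (hQ : Q ≤ S) : F.IsCentric Q := by
  refine ⟨hQ, fun Q' hQ' => ?_⟩
  obtain ⟨φ, hφ, hr⟩ := hQ'
  intro z hz
  have hP' := isConj_map hφ hPQ
  have hle : (P.subgroupOf Q).map φ ≤ Q' := hr ▸ Subgroup.map_le_range φ _
  exact hle (hP.2 _ hP' ⟨hz.1, Subgroup.centralizer_le hle hz.2⟩)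

theorem normal_inn_subgroupOf (F : FusionSystem S) (P : Subgroup Ω) :
    ((Inn P).subgroupOf (F.autGroup P)).Normal :=
  (innNormal P).subgroupOf _

section dichotomy

variable [Finite S] {p : ℕ} [Fact p.Prime]

theorem sylow_out (hP : F.IsFullyAutomized p P) [((Inn P).subgroupOf (F.autGroup P)).Normal] :
    ∃ T : Sylow p (F.autGroup P ⧸ (Inn P).subgroupOf (F.autGroup P)),
      (T.toSubgroup = ((autInducedBy S P).subgroupOf (F.autGroup P)).map
        (QuotientGroup.mk' ((Inn P).subgroupOf (F.autGroup P)))) := by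
  obtain ⟨hPS, T, hT⟩ := hP
  have := finite_mulAut hPS
  refine ⟨T.mapSurjective (f := QuotientGroup.mk' ((Inn P).subgroupOf (F.autGroup P)))
    (QuotientGroup.mk'_surjective _), ?_⟩
  rw [Sylow.coe_mapSurjective, hT]

/-- A representative in `Aut_S(P)` of an element of its image in `Out_F(P)`. -/
theorem mem_autInducedBy_of_map_mk (hP : P ≤ S) [((Inn P).subgroupOf (F.autGroup P)).Normal]
    {a : F.autGroup P}
    (h : (a : F.autGroup P ⧸ (Inn P).subgroupOf (F.autGroup P)) ∈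
      ((autInducedBy S P).subgroupOf (F.autGroup P)).map
        (QuotientGroup.mk' ((Inn P).subgroupOf (F.autGroup P)))) :
    (a : MulAut P) ∈ autInducedBy S P := by
  obtain ⟨b, hb, hbe⟩ := h
  rw [QuotientGroup.mk'_apply, QuotientGroup.eq] at hbe
  have hb' : (b : MulAut P) ∈ autInducedBy S P := hb
  have hbe' : (b : MulAut P)⁻¹ * a ∈ Inn P := hbe
  have h' := Subgroup.mul_mem _ hb' (inn_le_autInducedBy hP hbe')
  rwa [mul_inv_cancel_left] at h'

theorem mem_inn_iff_mem (hP : P ≤ S) (hC : centralizerIn S P ≤ P) {g : Ω} (hg : g ∈ S) {a : MulAut P}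
    (ha : ∀ x : P, ((a x : P) : Ω) = g * (x : Ω) * g⁻¹) : a ∈ Inn P ↔ g ∈ P := by
  refine ⟨fun h => ?_, fun h => inn_eq_autInducedBy (P := P) ▸ mem_autInducedBy.mpr ⟨g, h, ha⟩⟩
  obtain ⟨z, hz⟩ := mem_inn.mp h
  have hc : (z : Ω)⁻¹ * g ∈ Subgroup.centralizer (P : Set Ω) := by
    intro x hx
    have h1 := ha ⟨x, hx⟩
    rw [hz] at h1
    calc x * ((z : Ω)⁻¹ * g) = (z : Ω)⁻¹ * ((z : Ω) * x * (z : Ω)⁻¹) * g := by group
      _ = (z : Ω)⁻¹ * (g * x * g⁻¹) * g := by rw [← h1]; rfl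
      _ = (z : Ω)⁻¹ * g * x := by group
  simpa using P.mul_mem z.2 (hC ⟨S.mul_mem (S.inv_mem (hP z.2)) hg, hc⟩)

/-- If some automorphism does not extend, `P` is centric and the image of the extendable ones is
strongly `p`-embedded. -/
theorem embedded_of_extGroup_ne (hS : IsPGroup p S) (hF : F.IsSaturated p) (hP : P < S)
    (hn : F.IsFullyNormalized P) (hne : extGroup F P ≠ F.autGroup P)
    [((Inn P).subgroupOf (F.autGroup P)).Normal] :
    F.IsCentric P ∧ IsStronglyPEmbedded p (((extGroup F P).subgroupOf (F.autGroup P)).map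
      (QuotientGroup.mk' ((Inn P).subgroupOf (F.autGroup P)))) := by
  obtain ⟨hA, hR⟩ := fullyNormalized_good hS hF hn
  have hC : centralizerIn S P ≤ P := fun g hg => by
    by_contra hgP
    exact hne (le_antisymm (extGroup_le F P) fun α hα =>
      mem_extGroup_of_mem_extender hR hα (centralizerIn_le_extender hg) hgP)
  refine ⟨centric_of_fullyCentralized (fullyCentralized_of_receptive hR) hC, ?_⟩
  have := finite_mulAut hn.1
  obtain ⟨T, hT⟩ := sylow_out hA
  have hTne : T.toSubgroup ≠ ⊥ := by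
    obtain ⟨g, hg, hgP⟩ := SetLike.exists_of_lt (lt_normalizerIn hS le_rfl hP)
    obtain ⟨a, ha, hae⟩ := exists_autInducedBy (K := S) hg.1 hg.2
    intro h0
    have h1 : ((⟨a, autInducedBy_le_autGroup hn.1 ha⟩ : F.autGroup P) :
        F.autGroup P ⧸ (Inn P).subgroupOf (F.autGroup P)) ∈ T.toSubgroup := by
      rw [hT]; exact ⟨⟨a, _⟩, ha, rfl⟩
    rw [h0, Subgroup.mem_bot, QuotientGroup.eq_one_iff] at h1
    exact hgP ((mem_inn_iff_mem hn.1 hC hg.1 hae).mp h1)
  refine ⟨?_, ?_, T, iSup_le ?_⟩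
  · obtain ⟨n, hn'⟩ := IsPGroup.iff_card.mp T.2
    refine dvd_trans ?_ (Subgroup.card_subgroup_dvd_card T.toSubgroup)
    rw [hn']
    exact dvd_pow_self p fun h0 => hTne (Subgroup.card_eq_one.mp (by rw [hn', h0, pow_zero]))
  · intro htop
    refine hne (le_antisymm (extGroup_le F P) fun α hα => ?_)
    obtain ⟨b, hb, hbe⟩ := htop.ge (Subgroup.mem_top
      ((⟨α, hα⟩ : F.autGroup P) : F.autGroup P ⧸ (Inn P).subgroupOf (F.autGroup P)))
    rw [QuotientGroup.mk'_apply, QuotientGroup.eq] at hbe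
    have hb' : (b : MulAut P) ∈ extGroup F P := hb
    have hbe' : (b : MulAut P)⁻¹ * α ∈ Inn P := hbe
    have h' := Subgroup.mul_mem _ hb' (autInducedBy_le_extGroup hS hP (inn_le_autInducedBy hn.1 hbe'))
    rwa [mul_inv_cancel_left] at h'
  · rintro ⟨U, hUT, hUr⟩
    have hUne : U ≠ ⊥ := by
      rintro rfl
      refine hUr fun B _ _ => ?_
      rw [Nat.sub_self, pow_zero]
      exact Finite.card_le_one_iff_subsingleton.mpr ⟨fun x y => Subtype.ext (Subsingleton.elim _ _)⟩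
    intro x hx
    obtain ⟨α, rfl⟩ := QuotientGroup.mk'_surjective _ x
    obtain ⟨u, hu, hu1⟩ : ∃ u ∈ U, u ≠ 1 := (Subgroup.bot_or_exists_ne_one U).resolve_left hUne
    obtain ⟨a, ha, rfl⟩ := hT.le (hUT hu)
    obtain ⟨g, hg, hge⟩ := mem_autInducedBy.mp (ha : (a : MulAut P) ∈ autInducedBy S P)
    have hgP : g ∉ P := fun h => hu1 ((QuotientGroup.eq_one_iff a).mpr
      ((mem_inn_iff_mem hn.1 hC hg hge).mpr h))
    have hc := hT.le (hUT ((Subgroup.mem_normalizer_iff.mp hx _).mp hu))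
    rw [← map_inv, ← map_mul, ← map_mul, QuotientGroup.mk'_apply] at hc
    exact ⟨α, mem_extGroup_of_conj hR α.2 hg hgP hge (mem_autInducedBy_of_map_mk hn.1 hc), rfl⟩

/-- If `P` is essential, not all automorphisms are generated by extendable ones. -/
theorem extGroup_ne_of_essential (hS : IsPGroup p S) (hF : F.IsSaturated p) (hP : P < S)
    (he : F.IsEssential p P) : extGroup F P ≠ F.autGroup P := by
  obtain ⟨hc, hn, hN, E, hE⟩ := he
  intro heq
  have := finite_mulAut hn.1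
  obtain ⟨T, hT⟩ := sylow_out (fullyNormalized_good hS hF hn).1
  obtain ⟨T₀, hT₀⟩ := exists_embeddingData hE
  obtain ⟨x, rfl⟩ := MulAction.exists_smul_eq (F.autGroup P ⧸ (Inn P).subgroupOf (F.autGroup P)) T₀ T
  have hd := hT₀.map_conj x
  set E' := E.map (MulAut.conj x).toMonoidHom with hE'
  have hle : F.autGroup P ≤ (E'.comap (QuotientGroup.mk' ((Inn P).subgroupOf (F.autGroup P)))).map
      (F.autGroup P).subtype := by
    refine heq.ge.trans ?_
    rw [extGroup, Subgroup.closure_le]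
    rintro α ⟨R, hPR, φ, hφ, h⟩
    have hαA : α ∈ F.autGroup P :=
      extGroup_le F P (Subgroup.subset_closure ⟨R, hPR, φ, hφ, h⟩)
    refine ⟨⟨α, hαA⟩, ?_, rfl⟩
    set A := ((autInducedBy R P).subgroupOf (F.autGroup P)).map
      (QuotientGroup.mk' ((Inn P).subgroupOf (F.autGroup P))) with hA
    have hAT : A ≤ ((x • T₀ : Sylow p _) : Subgroup _) :=
      hT ▸ Subgroup.map_mono (Subgroup.comap_mono (autInducedBy_mono (le_S hφ) P))
    have hAne : A ≠ ⊥ := by
      obtain ⟨g, hg, hgP⟩ := SetLike.exists_of_lt (lt_normalizerIn hS (le_S hφ) hPR)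
      obtain ⟨a, ha, hae⟩ := exists_autInducedBy (K := R) hg.1 hg.2
      intro h0
      have h1 : ((⟨a, autInducedBy_le_autGroup hn.1 (autInducedBy_mono (le_S hφ) P ha)⟩ : F.autGroup P) :
          F.autGroup P ⧸ (Inn P).subgroupOf (F.autGroup P)) ∈ A := ⟨⟨a, _⟩, ha, rfl⟩
      rw [h0, Subgroup.mem_bot, QuotientGroup.eq_one_iff] at h1
      exact hgP ((mem_inn_iff_mem hn.1 (IsCentric.centralizerIn_le' hc) (le_S hφ hg.1) hae).mp h1)
    refine hd.mem_of_conj (A := A) (hAT.trans hd.le) ((x • T₀).2.to_le hAT) hAne ?_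
    rintro _ ⟨a, ha, rfl⟩
    obtain ⟨g, hg, hge⟩ := mem_autInducedBy.mp (ha : (a : MulAut P) ∈ autInducedBy R P)
    refine hd.le (hT.ge ⟨⟨α, hαA⟩ * a * ⟨α, hαA⟩⁻¹,
      mem_autInducedBy.mpr ⟨φ ⟨g, hg⟩, apply_mem_S hφ _, fun y => ?_⟩, rfl⟩)
    obtain ⟨w, rfl⟩ := α.surjective y
    show ((α ((a : MulAut P) (α⁻¹ (α w))) : P) : Ω) = _
    rw [MulAut.inv_apply_self, ← h, ← h, ← map_inv φ, ← map_mul φ, ← map_mul φ]
    exact apply_eq_of_coe_eq (hge w)
  refine hE.2.1 ?_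
  have hinj : Function.Injective (MulAut.conj x).toMonoidHom := (MulAut.conj x).injective
  rw [eq_top_iff]
  intro y _
  obtain ⟨α, hα⟩ := QuotientGroup.mk'_surjective _ ((MulAut.conj x).toMonoidHom y)
  obtain ⟨b, hb, hbe⟩ := hle α.2
  obtain rfl : b = α := Subtype.ext hbe
  have hb' : (MulAut.conj x).toMonoidHom y ∈ E' := hα ▸ hb
  exact (Subgroup.mem_map_iff_mem hinj).mp hb'

/-- Maps of a fusion system generated by automorphisms of `S` and of essential subgroups. -/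
theorem alperin (hS : IsPGroup p S) (hF : F.IsSaturated p) (E : FusionSystem S)
    (hE : ∀ P : Subgroup Ω, (P = S ∨ F.IsEssential p P) → F.autGroup P ≤ E.autGroup P) : F ≤ E := by
  suffices h : ∀ (n : ℕ) (P : Subgroup Ω), Nat.card S - Nat.card P < n → F.Hom P ⊆ E.Hom P from
    fun P => h _ P (Nat.lt_succ_self _)
  intro n
  induction n with
  | zero => intro P h; omega
  | succ n ih =>
  intro P hn φ hφ
  have hPS := le_S hφ
  by_cases hP : P = S
  · subst hP
    obtain ⟨α, hα, hαe⟩ := exists_aut hφ (range_eq_of_card_le hφ le_rfl (apply_mem_S hφ) le_rfl)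
    exact restrict_of le_rfl ((mem_autGroup le_rfl).mp (hE P (Or.inl rfl) hα)) fun x => (hαe x).symm
  have hlt : P < S := lt_of_le_of_ne hPS hP
  obtain ⟨Q, hQc, hQn⟩ := exists_fullyNormalized (F := F) hPS
  obtain ⟨hQa, hQr⟩ := fullyNormalized_good hS hF hQn
  have hcardQ : Nat.card Q = Nat.card P := IsConj.card_eq hQc
  have hgrow : ∀ {A B : Subgroup Ω}, B ≤ S → A < B → Nat.card A = Nat.card P →
      F.Hom B ⊆ E.Hom B := by
    intro A B hB hAB hcard
    refine ih B ?_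
    have := finite_of_le hB
    have h1 : Nat.card A < Nat.card B :=
      lt_of_not_ge fun hge => hAB.ne (eq_of_le_of_card_le hAB.le hge)
    have h2 : Nat.card B ≤ Nat.card S :=
      card_le_of_map (subtype_mem (F := F) hB) le_rfl fun x => hB x.2
    omega
  have hstep : ∀ R : Subgroup Ω, F.IsConj R Q → R < S → ∃ θ, θ ∈ E.Hom R ∧ θ ∈ F.Hom R ∧ θ.range = Q := by
    intro R hR hRS
    obtain ⟨χ, hχ, -, hχR⟩ := exists_normalizer_hom hS hQa hQr hR
    have hχE := hgrow normalizerIn_le (lt_normalizerIn hS le_rfl hRS)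
      ((IsConj.card_eq hR).symm.trans hcardQ) hχ
    obtain ⟨θ, hθ, hθr, hθe⟩ := exists_restrict hχ (le_normalizerIn hRS.le) hχR
    exact ⟨θ, restrict_of (le_normalizerIn hRS.le) hχE hθe, hθ, hθr⟩
  have hconj : F.IsConj P φ.range := ⟨φ, hφ, rfl⟩
  have hP'S : φ.range < S := lt_of_le_of_ne (range_le_S hφ) fun he => hP <| by
    refine eq_of_le_of_card_le hPS ?_
    rw [← card_range hφ, he]
  obtain ⟨θ₁, hθ₁E, hθ₁, hθ₁r⟩ := hstep P hQc hlt
  obtain ⟨θ₂, hθ₂E, hθ₂, hθ₂r⟩ := hstep φ.range (isConj_trans (isConj_symm hconj) hQc) hP'S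
  obtain ⟨θi, hθi, hθir, hθi₁, -⟩ := exists_inv hθ₁ hθ₁r
  obtain ⟨θj, hθjE, hθjr, hθj₁, -⟩ := exists_inv hθ₂E hθ₂r
  obtain ⟨μ, hμ, hμe⟩ := exists_comp hθi hφ fun y => hθir.le ⟨y, rfl⟩
  obtain ⟨ν, hν, hνe⟩ := exists_comp hμ hθ₂ fun y => by rw [hμe]; exact ⟨_, rfl⟩
  have hνr : ν.range = Q := by
    refine range_eq_of_card_le hν hQn.1 (fun y => ?_) le_rfl
    rw [hνe]; exact hθ₂r.le ⟨_, rfl⟩
  obtain ⟨α, hα, hαe⟩ := exists_aut hν hνr
  have hQS : Q < S := lt_of_le_of_ne hQn.1 fun he => hP <| eq_of_le_of_card_le hPS (by rw [← hcardQ, he])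
  have hαE : α ∈ E.autGroup Q := by
    by_cases hess : F.IsEssential p Q
    · exact hE Q (Or.inr hess) hα
    have heq : extGroup F Q = F.autGroup Q := by
      by_contra hne
      have := normal_inn_subgroupOf F Q
      obtain ⟨h₁, h₂⟩ := embedded_of_extGroup_ne hS hF hQS hQn hne
      exact hess ⟨h₁, hQn, normal_inn_subgroupOf F Q, _, h₂⟩
    have hsub : extGroup F Q ≤ E.autGroup Q := by
      rw [extGroup, Subgroup.closure_le]
      rintro β ⟨B, hQB, ψ, hψ, hψe⟩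
      exact Subgroup.subset_closure
        (restrict_of hQB.le (hgrow (le_S hψ) hQB hcardQ hψ) fun x => (hψe x).symm)
    exact hsub (heq.ge hα)
  obtain ⟨φ₁, hφ₁, hφ₁e⟩ := exists_comp hθ₁E ((mem_autGroup hQn.1).mp hαE) fun x => hθ₁r.le ⟨x, rfl⟩
  refine comp_of hφ₁ hθjE (fun x => by rw [hφ₁e]; exact Subtype.mem _) fun x => ?_
  have h1 : φ₁ x = θ₂ ⟨φ x, ⟨x, rfl⟩⟩ := by
    rw [hφ₁e, autMap_apply, hαe, hνe]
    refine apply_eq_of_coe_eq ?_
    show μ _ = φ x
    rw [hμe]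
    exact apply_eq_of_coe_eq (hθi₁ x _)
  rw [eq_comm]
  exact (apply_eq_of_coe_eq (φ := θj) h1).trans (hθj₁ ⟨φ x, ⟨x, rfl⟩⟩ (hθ₂r.le ⟨_, rfl⟩))

/-- Essential subgroups are radical. -/
theorem radical_of_essential (hP : F.IsEssential p P) (hS : IsPGroup p S) : F.IsRadical p P := by
  obtain ⟨hc, hn, hN, E, hE⟩ := hP
  have := finite_mulAut hn.1
  refine ⟨hn.1, le_antisymm ?_ fun α hα => ?_⟩
  · have hbot := pCore_eq_bot_of_embedded hE
    rintro _ ⟨a, ha, rfl⟩
    have hmap : (pCore p (F.autGroup P)).map (QuotientGroup.mk' ((Inn P).subgroupOf (F.autGroup P))) ≤ ⊥ := by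
      rw [← hbot]
      refine le_sSup ⟨?_, ?_⟩
      · exact (Subgroup.sSup_normal _ fun _ h => h.1).map _ (QuotientGroup.mk'_surjective _)
      · exact (Sylow.sSup_of_normal _ (fun _ h => h.2) fun _ h => h.1).map _
    exact (QuotientGroup.eq_one_iff a).mp (hmap ⟨a, ha, rfl⟩)
  · refine ⟨⟨α, inn_le_autGroup hn.1 hα⟩, ?_, rfl⟩
    exact (le_sSup ⟨hN, ((hS.to_le hn.1).of_surjective (MulAut.conj : P →* MulAut P).rangeRestrict
      (MulAut.conj : P →* MulAut P).rangeRestrict_surjective).comap_subtype (K := F.autGroup P)⟩ :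
      _ ≤ pCore p (F.autGroup P)) hα

end dichotomy

end CfsgLib.Fusion
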