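import Cfsg.Agent.Lib.Fusion.Alperin
import Cfsg.Agent.Lib.Transfer.Basic

/-!
# Relations invariant under a fusion system; focal and hyperfocal subgroups
-/

namespace CfsgLib.Fusion

open Cfsg Cfsg.FusionSystem
open scoped commutatorElement

variable {Ω : Type*} [Group Ω] {S : Subgroup Ω} {F : FusionSystem S} {P Q : Subgroup Ω} {p : ℕ}

/-- The subsystem of the maps relating every element to its image. -/
def relSystem (F : FusionSystem S) (r : Ω → Ω → Prop) (hr : Equivalence r)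
    (hconj : ∀ g ∈ S, ∀ x ∈ S, r x (g * x * g⁻¹)) : FusionSystem S where
  Hom P := {φ | φ ∈ F.Hom P ∧ ∀ x : P, r x (φ x)}
  le_of_mem h := F.le_of_mem h.1
  injective_of_mem h := F.injective_of_mem h.1
  conj_mem hP hg := ⟨F.conj_mem hP hg, fun x => hconj _ hg x (hP x.2)⟩
  comp_mem := by
    rintro P Q φ ψ ⟨hφ, h1⟩ ⟨hψ, h2⟩ h
    exact ⟨F.comp_mem hφ hψ h, fun x => hr.trans (h1 x) (h2 ⟨φ x, h x⟩)⟩
  inv_mem := by
    rintro P φ ⟨hφ, h1⟩
    obtain ⟨ψ, hψ, he⟩ := F.inv_mem hφ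
    refine ⟨ψ, ⟨hψ, ?_⟩, he⟩
    rintro ⟨_, x, rfl⟩
    rw [he]; exact hr.symm (h1 x)

/-- A relation kept by the automorphism groups of `S` and of the essential subgroups is kept by all
maps. -/
theorem rel_of_mem [Finite S] [Fact p.Prime] (hS : IsPGroup p S) (hF : F.IsSaturated p)
    {r : Ω → Ω → Prop} (hr : Equivalence r) (hconj : ∀ g ∈ S, ∀ x ∈ S, r x (g * x * g⁻¹))
    (h : ∀ P : Subgroup Ω, (P = S ∨ F.IsEssential p P) → P ≤ S → F.IsFullyAutomized p P →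
      ∀ α ∈ F.autGroup P, ∀ x : P, r x (α x : P))
    {φ : P →* Ω} (hφ : φ ∈ F.Hom P) (x : P) : r x (φ x) := by
  refine (alperin hS hF (relSystem F r hr hconj) ?_ P hφ).2 x
  intro R hR α hα
  obtain ⟨hRS, ha⟩ : R ≤ S ∧ F.IsFullyAutomized p R := by
    rcases hR with rfl | hR
    · exact ⟨le_rfl, ((saturated_iff_top_and_receptive hS).mp hF).1⟩
    · exact ⟨hR.1.1, (fullyNormalized_good hS hF hR.2.1).1⟩
  exact Subgroup.subset_closure ⟨(mem_autGroup hRS).mp hα, h R hR hRS ha α hα⟩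

/-- A fully automized automorphism group is generated by `O^p` and `Aut_S(P)`. -/
theorem FullyAutomized.exists_mul [Finite S] [Fact p.Prime] (hP : F.IsFullyAutomized p P)
    {α : MulAut P} (hα : α ∈ F.autGroup P) :
    ∃ a : F.autGroup P, a ∈ pResidual p (F.autGroup P) ∧ ∃ g ∈ S, ∃ b : MulAut P,
      α = (a : MulAut P) * b ∧ ∀ x : P, ((b x : P) : Ω) = g * (x : Ω) * g⁻¹ := by
  obtain ⟨hPS, T, hT⟩ := hP
  have := finite_mulAut hPS
  have hn := CfsgLib.Transfer.pResidual_normal (G := F.autGroup P) (p := p)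
  have htop : pResidual p (F.autGroup P) ⊔ T.toSubgroup = ⊤ :=
    CfsgLib.Transfer.eq_top_of_pResidual_le le_sup_left fun hd =>
      T.not_dvd_index (hd.trans (Subgroup.index_dvd_of_le le_sup_right))
  have hmem : (⟨α, hα⟩ : F.autGroup P) ∈ pResidual p (F.autGroup P) ⊔ T.toSubgroup :=
    htop ▸ Subgroup.mem_top _
  rw [Subgroup.mem_sup_of_normal_left] at hmem
  obtain ⟨a, ha, b, hb, hab⟩ := hmem
  obtain ⟨g, hg, hge⟩ := mem_autInducedBy.mp (hT.le hb : (b : MulAut P) ∈ autInducedBy S P)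
  exact ⟨a, ha, g, hg, b, (congrArg Subtype.val hab).symm, hge⟩

theorem hyperfocal_le (F : FusionSystem S) (p : ℕ) : F.hyperfocalSubgroup p ≤ S := by
  rw [FusionSystem.hyperfocalSubgroup, Subgroup.closure_le]
  rintro _ ⟨P, α, x, hP, -, rfl⟩
  exact S.mul_mem (S.inv_mem (hP x.2)) (hP (Subtype.mem _))

theorem mem_hyperfocal (hP : P ≤ S) {α : F.autGroup P} (hα : α ∈ pResidual p (F.autGroup P)) (x : P) :
    (x : Ω)⁻¹ * ((α : MulAut P) x : P) ∈ F.hyperfocalSubgroup p :=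
  Subgroup.subset_closure ⟨P, α, x, hP, hα, rfl⟩

/-- The hyperfocal subgroup is invariant under maps defined on the whole of `S`. -/
theorem map_hyperfocal_mem {φ : S →* Ω} (hφ : φ ∈ F.Hom S) {y : Ω}
    (hy : y ∈ F.hyperfocalSubgroup p) : φ ⟨y, hyperfocal_le F p hy⟩ ∈ F.hyperfocalSubgroup p := by
  suffices h : F.hyperfocalSubgroup p ≤ ((F.hyperfocalSubgroup p).comap φ).map S.subtype by
    obtain ⟨z, hz, he⟩ := h hy
    rw [← show z = ⟨y, hyperfocal_le F p hy⟩ from Subtype.ext he]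
    exact hz
  rw [FusionSystem.hyperfocalSubgroup, Subgroup.closure_le]
  rintro _ ⟨P, α, x, hP, hα, rfl⟩
  refine ⟨⟨(x : Ω)⁻¹ * ((α : MulAut P) x : P), S.mul_mem (S.inv_mem (hP x.2)) (hP (Subtype.mem _))⟩, ?_, rfl⟩
  obtain ⟨χ, hχ, hχe⟩ : ∃ χ ∈ F.Hom P, ∀ z : P, χ z = φ ⟨z, hP z.2⟩ :=
    ⟨_, restrict_mem hP hφ, fun _ => rfl⟩
  obtain ⟨e, he⟩ := exists_equiv hχ rfl
  have hQS : χ.range ≤ S := range_le_S hχ
  let f : F.autGroup P →* F.autGroup χ.range :=
    ((MulAut.congr e).toMonoidHom.comp (F.autGroup P).subtype).codRestrict _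
      fun a => autGroup_congr_mem hχ he a.2
  have hfa := CfsgLib.Transfer.map_pResidual_le (p := p) f ⟨α, hα, rfl⟩
  have h1 := mem_hyperfocal hQS hfa (e x)
  have h2 : ((f α : MulAut χ.range) (e x) : Ω) = φ ⟨_, hP ((α : MulAut P) x).2⟩ := by
    show ((e ((α : MulAut P) (e.symm (e x))) : χ.range) : Ω) = _
    rw [MulEquiv.symm_apply_apply, he, hχe]
  rw [h2, he, hχe, ← map_inv φ, ← map_mul φ] at h1
  exact h1

theorem hyperfocal_conj_mem {g y : Ω} (hg : g ∈ S) (hy : y ∈ F.hyperfocalSubgroup p) :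
    g * y * g⁻¹ ∈ F.hyperfocalSubgroup p :=
  map_hyperfocal_mem (F.conj_mem le_rfl hg) hy

theorem hyperfocal_conj_mem_iff {g y : Ω} (hg : g ∈ S) :
    g * y * g⁻¹ ∈ F.hyperfocalSubgroup p ↔ y ∈ F.hyperfocalSubgroup p := by
  refine ⟨fun h => ?_, hyperfocal_conj_mem hg⟩
  have := hyperfocal_conj_mem (S.inv_mem hg) h
  rwa [show g⁻¹ * (g * y * g⁻¹) * g⁻¹⁻¹ = y by group] at this

theorem stronglyClosed_hyperfocal [Finite S] [Fact p.Prime] (hS : IsPGroup p S) (hF : F.IsSaturated p) :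
    F.StronglyClosed (F.hyperfocalSubgroup p) := by
  refine ⟨hyperfocal_le F p, fun R hR φ hφ x => ?_⟩
  refine (rel_of_mem hS hF (r := fun a b => a ∈ F.hyperfocalSubgroup p ↔ b ∈ F.hyperfocalSubgroup p)
    ⟨fun _ => Iff.rfl, Iff.symm, Iff.trans⟩ (fun g hg y _ => (hyperfocal_conj_mem_iff hg).symm) ?_ hφ x).mp (hR x.2)
  intro P _ hP ha α hα x
  obtain ⟨a, haR, g, hg, b, rfl, hb⟩ := FullyAutomized.exists_mul ha hα
  have h1 := mem_hyperfocal hP haR (b x)
  rw [MulAut.mul_apply, ← hyperfocal_conj_mem_iff hg, ← hb]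
  constructor
  · intro h
    simpa using Subgroup.mul_mem _ h h1
  · intro h
    have := Subgroup.mul_mem _ h (Subgroup.inv_mem _ h1)
    simpa using this

theorem hyperfocal_le_focal (F : FusionSystem S) (p : ℕ) : F.hyperfocalSubgroup p ≤ F.focalSubgroup := by
  rw [FusionSystem.hyperfocalSubgroup, Subgroup.closure_le]
  rintro _ ⟨P, α, x, hP, -, rfl⟩
  exact Subgroup.subset_closure ⟨P, _, x, (mem_autGroup hP).mp α.2, rfl⟩

theorem commutator_le_focal (F : FusionSystem S) : ⁅S, S⁆ ≤ F.focalSubgroup := by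
  rw [Subgroup.commutator_le]
  intro a ha b hb
  have h : b * (a * b⁻¹ * a⁻¹) ∈ F.focalSubgroup :=
    Subgroup.subset_closure ⟨S, conjHom S a, ⟨b⁻¹, S.inv_mem hb⟩, F.conj_mem le_rfl ha,
      by rw [conjHom_apply, inv_inv]⟩
  have h3 : (b * (a * b⁻¹ * a⁻¹))⁻¹ = ⁅a, b⁆ := by rw [commutatorElement_def]; group
  exact h3 ▸ Subgroup.inv_mem _ h

theorem focal_eq [Finite S] [Fact p.Prime] (hS : IsPGroup p S) (hF : F.IsSaturated p) :
    F.focalSubgroup = F.hyperfocalSubgroup p ⊔ ⁅S, S⁆ := by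
  refine le_antisymm ?_ (sup_le (hyperfocal_le_focal F p) (commutator_le_focal F))
  set N := F.hyperfocalSubgroup p ⊔ ⁅S, S⁆ with hN
  have hNS : N ≤ S := sup_le (hyperfocal_le F p) (Subgroup.commutator_le_self S)
  have hc : ∀ g ∈ S, ∀ x ∈ S, x⁻¹ * (g * x * g⁻¹) ∈ N := fun g hg x hx => by
    have h := Subgroup.commutator_mem_commutator (S.inv_mem hx) hg
    rw [commutatorElement_def, inv_inv] at h
    have e : x⁻¹ * g * x * g⁻¹ = x⁻¹ * (g * x * g⁻¹) := by group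
    exact Subgroup.mem_sup_right (e ▸ h)
  rw [FusionSystem.focalSubgroup, Subgroup.closure_le]
  rintro _ ⟨P, φ, x, hφ, rfl⟩
  refine rel_of_mem hS hF (r := fun a b => a⁻¹ * b ∈ N) ⟨fun a => by simp,
    fun {a b} h => by simpa using N.inv_mem h, fun {a b c} h h' => ?_⟩ hc ?_ hφ x
  · have := N.mul_mem h h'
    rwa [mul_assoc, mul_inv_cancel_left] at this
  · intro R _ hR ha α hα x
    obtain ⟨a, haR, g, hg, b, rfl, hb⟩ := FullyAutomized.exists_mul ha hα
    have h1 : ((b x : R) : Ω)⁻¹ * ((a : MulAut R) (b x) : R) ∈ N :=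
      Subgroup.mem_sup_left (mem_hyperfocal hR haR (b x))
    rw [MulAut.mul_apply]
    have h2 := N.mul_mem (hc g hg x (hR x.2)) h1
    rw [← hb, mul_assoc, mul_inv_cancel_left] at h2
    exact h2

end CfsgLib.Fusion
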