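import Cfsg.Agent.Lib.Fusion.Group
import Cfsg.Agent.Lib.Fusion.Hyperfocal
import Mathlib.GroupTheory.Focal

/-!
# Sylow subgroups of normal subgroups and the hyperfocal subgroup theorem
-/

namespace CfsgLib.Fusion

open Cfsg Cfsg.FusionSystem
open scoped commutatorElement

variable {G : Type*} [Group G] [Finite G] {p : ℕ} [Fact p.Prime]

theorem card_sylow_inf_normal (S : Sylow p G) (H : Subgroup G) [H.Normal] :
    Nat.card ↥((S : Subgroup G) ⊓ H) = p ^ (Nat.card H).factorization p := by
  refine le_antisymm (card_le_sylowCard inf_le_right (S.2.to_le inf_le_left)) ?_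
  obtain ⟨T⟩ : Nonempty (Sylow p H) := Sylow.nonempty
  set T' := T.toSubgroup.map H.subtype
  have hcard : Nat.card T' = p ^ (Nat.card H).factorization p := by
    rw [← Nat.card_congr (T.toSubgroup.equivMapOfInjective _ H.subtype_injective).toEquiv]
    exact T.card_eq_multiplicity
  obtain ⟨c, -, hc⟩ := exists_conj_into (le_top (a := T')) (T.2.map _) (le_top (a := (S : Subgroup G)))
    (by rw [Subgroup.card_top]; exact S.card_eq_multiplicity)
  rw [← hcard, ← card_map_conj T' c]
  refine Subgroup.card_le_of_le ?_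
  rintro _ ⟨x, hx, rfl⟩
  exact ⟨hc x hx, Subgroup.Normal.conj_mem inferInstance x (Subgroup.map_subtype_le _ hx) c⟩

/-- `x⁻¹ α x ∈ N` for all `α` in `O^p` of a group of automorphisms, if this holds for `p'`-elements. -/
theorem inv_mul_apply_mem_of_pResidual {P : Subgroup G} {A : Subgroup (MulAut P)} {N : Subgroup G}
    (h : ∀ a : A, Nat.Coprime (orderOf a) p → ∀ x : P, (x : G)⁻¹ * ((a : MulAut P) x : P) ∈ N)
    {a : A} (ha : a ∈ pResidual p A) (x : P) : (x : G)⁻¹ * ((a : MulAut P) x : P) ∈ N := by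
  revert x
  induction ha using Subgroup.closure_induction with
  | mem a ha => exact h a ha
  | one => intro x; simp
  | mul a b _ _ iha ihb =>
    intro x
    have := N.mul_mem (ihb x) (iha ((b : MulAut P) x))
    rwa [mul_assoc, mul_inv_cancel_left] at this
  | inv a _ iha =>
    intro x
    have := N.inv_mem (iha (((a⁻¹ : A) : MulAut P) x))
    simpa using this

theorem hyperfocal_le_pResidual (S : Sylow p G) :
    (groupFusionSystem (S : Subgroup G)).hyperfocalSubgroup p ≤ (S : Subgroup G) ⊓ pResidual p G := by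
  refine le_inf (hyperfocal_le _ _) ?_
  rw [FusionSystem.hyperfocalSubgroup, Subgroup.closure_le]
  rintro _ ⟨P, α, x, hP, hα, rfl⟩
  refine inv_mul_apply_mem_of_pResidual (N := pResidual p G) (fun a ha y => ?_) hα x
  obtain ⟨g, -, hg⟩ := mem_autInducedBy.mp ((autGroup_group hP).le a.2)
  have hp : p.Prime := Fact.out
  obtain ⟨k, m, hm, hord⟩ := Nat.exists_eq_pow_mul_and_not_dvd (orderOf_pos g).ne' p hp.ne_one
  obtain ⟨c, hc₁, hc₂⟩ := Nat.chineseRemainder (ha.pow_right k) 1 0
  obtain ⟨d, rfl⟩ := Nat.modEq_zero_iff_dvd.mp hc₂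
  have hgP : g ∈ Subgroup.normalizer (P : Set G) := mem_normalizer_of_aut hg
  have hpow : ∀ n : ℕ, ∀ z : P, ((((a : MulAut P)) ^ n) z : G) = g ^ n * (z : G) * (g ^ n)⁻¹ := by
    intro n
    induction n with
    | zero => intro z; simp
    | succ n ih =>
      intro z
      rw [pow_succ', MulAut.mul_apply, hg, ih, pow_succ']; group
  have hac : (a : MulAut P) ^ (p ^ k * d) = a := by
    have h1 : a ^ (p ^ k * d) = a ^ 1 := pow_eq_pow_iff_modEq.mpr hc₁
    rw [pow_one] at h1
    exact congrArg Subtype.val h1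
  have hgm : g ^ (p ^ k * d) ∈ pResidual p G := by
    refine CfsgLib.Transfer.mem_pResidual (Nat.Coprime.coprime_dvd_left ?_ ((hp.coprime_iff_not_dvd.mpr hm).symm))
    refine orderOf_dvd_of_pow_eq_one ?_
    rw [← pow_mul]
    exact orderOf_dvd_iff_pow_eq_one.mp ⟨d, by rw [hord]; ring⟩
  have hn : (pResidual p G).Normal := CfsgLib.Transfer.pResidual_normal
  have h1 := hn.conj_mem _ hgm (y : G)⁻¹
  have h2 := (pResidual p G).mul_mem h1 ((pResidual p G).inv_mem hgm)
  have e : ((((a : MulAut P) ^ (p ^ k * d)) y : P) : G) = g ^ (p ^ k * d) * (y : G) * (g ^ (p ^ k * d))⁻¹ :=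
    hpow _ _
  rw [hac] at e
  rw [e]
  have e2 : (y : G)⁻¹ * g ^ (p ^ k * d) * ((y : G)⁻¹)⁻¹ * (g ^ (p ^ k * d))⁻¹ =
      (y : G)⁻¹ * (g ^ (p ^ k * d) * (y : G) * (g ^ (p ^ k * d))⁻¹) := by group
  rwa [e2] at h2

/-- The hyperfocal subgroup theorem. -/
theorem hyperfocal_group (S : Sylow p G) :
    (groupFusionSystem (S : Subgroup G)).hyperfocalSubgroup p = (S : Subgroup G) ⊓ pResidual p G := by
  refine le_antisymm (hyperfocal_le_pResidual S) ?_
  set K := pResidual p G
  set F := groupFusionSystem (S : Subgroup G)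
  set H := F.hyperfocalSubgroup p with hH
  haveI : K.Normal := CfsgLib.Transfer.pResidual_normal
  obtain ⟨T, hT⟩ := (exists_sylow_iff (p := p) (inf_le_right : (S : Subgroup G) ⊓ K ≤ K)).mpr
    (card_sylow_inf_normal S K)
  have hKtop : pResidual p K = ⊤ := by
    rw [eq_top_iff]
    have h : K ≤ (pResidual p K).map K.subtype :=
      CfsgLib.Transfer.pResidual_le_iff.mpr fun g hg =>
        ⟨⟨g, CfsgLib.Transfer.mem_pResidual hg⟩, CfsgLib.Transfer.mem_pResidual (by rwa [Subgroup.orderOf_mk]), rfl⟩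
    intro x _
    obtain ⟨y, hy, he⟩ := h x.2
    rwa [← Subtype.ext he]
  have hfoc : (T : Subgroup K).focalSubgroupOf = ⊤ := by
    rw [eq_top_iff]
    intro x _
    obtain ⟨y, hy⟩ := Subgroup.transferFocal_surjective T (QuotientGroup.mk x)
    have h1 := CfsgLib.Transfer.pResidual_le_ker (p := p) (T.2.to_quotient (T : Subgroup K).focalSubgroupOf)
      (T : Subgroup K).transferFocal (hKtop.ge (Subgroup.mem_top y))
    rw [MonoidHom.mem_ker, hy, QuotientGroup.eq_one_iff] at h1
    exact h1
  -- focal theorem inside `K`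
  have hle : (T : Subgroup K).focalSubgroup ≤
      (groupFusionSystem (T : Subgroup K)).hyperfocalSubgroup p ⊔ ⁅(T : Subgroup K), (T : Subgroup K)⁆ := by
    rw [← focal_eq T.2 (group_saturated T), Subgroup.focalSubgroup_def, Subgroup.closure_le]
    rintro _ ⟨hg, x, hx, u, rfl⟩
    have hu : u * x⁻¹ * u⁻¹ ∈ (T : Subgroup K) := by
      have := (T : Subgroup K).mul_mem ((T : Subgroup K).inv_mem hx) hg
      rwa [commutatorElement_def, mul_assoc, mul_assoc, inv_mul_cancel_left, ← mul_assoc] at this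
    refine Subgroup.subset_closure ⟨Subgroup.zpowers x⁻¹, conjHom _ u, ⟨x⁻¹, Subgroup.mem_zpowers _⟩,
      group_conjHom_mem ((Subgroup.zpowers_le).mpr ((T : Subgroup K).inv_mem hx)) ?_, ?_⟩
    · rintro z ⟨n, rfl⟩
      show u * x⁻¹ ^ n * u⁻¹ ∈ _
      rw [← conj_zpow]
      exact Subgroup.zpow_mem _ hu n
    · rw [conjHom_apply, inv_inv, commutatorElement_def]; group
  have hmap : ((groupFusionSystem (T : Subgroup K)).hyperfocalSubgroup p).map K.subtype ≤ H := by
    rw [Subgroup.map_le_iff_le_comap, FusionSystem.hyperfocalSubgroup, Subgroup.closure_le]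
    rintro _ ⟨P, α, x, hP, hα, rfl⟩
    set P' := P.map K.subtype with hP'
    have hP'S : P' ≤ S := fun y hy => by
      obtain ⟨z, hz, rfl⟩ := hy
      exact (hT.le (hP hz) : (z : G) ∈ (S : Subgroup G) ⊓ K).1
    let e : P ≃* P' := P.equivMapOfInjective K.subtype K.subtype_injective
    have he : ∀ z : P, ((e z : P') : G) = ((z : K) : G) := fun z => rfl
    let f : (groupFusionSystem (T : Subgroup K)).autGroup P →* F.autGroup P' :=
      ((MulAut.congr e).toMonoidHom.comp (Subgroup.subtype _)).codRestrict _ fun a => by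
        obtain ⟨g, -, hg⟩ := mem_autInducedBy.mp ((autGroup_group hP).le a.2)
        refine (autGroup_group hP'S).ge (mem_autInducedBy.mpr ⟨g, Subgroup.mem_top _, fun y => ?_⟩)
        obtain ⟨z, rfl⟩ := e.surjective y
        show ((e ((a : MulAut P) (e.symm (e z))) : P') : G) = _
        rw [MulEquiv.symm_apply_apply, he, he, hg]; rfl
    have h1 := mem_hyperfocal hP'S (CfsgLib.Transfer.map_pResidual_le (p := p) f ⟨α, hα, rfl⟩) (e x)
    have h2 : (((f α : MulAut P') (e x) : P') : G) = (((α : MulAut P) x : P) : K) := by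
      show ((e ((α : MulAut P) (e.symm (e x))) : P') : G) = _
      rw [MulEquiv.symm_apply_apply, he]
    rw [h2, he] at h1
    exact h1
  set T' := (S : Subgroup G) ⊓ K
  have hTT' : (T : Subgroup K).map K.subtype = T' := by
    rw [hT, Subgroup.map_subgroupOf_eq_of_le inf_le_right]
  have hsup : T' ≤ H ⊔ ⁅T', T'⁆ := by
    rw [← hTT']
    calc (T : Subgroup K).map K.subtype
        = (T : Subgroup K).focalSubgroup.map K.subtype := by
          rw [← Subgroup.map_focalSubgroupOf, hfoc, ← MonoidHom.range_eq_map, Subgroup.range_subtype]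
      _ ≤ _ := by
          refine (Subgroup.map_mono hle).trans ?_
          rw [Subgroup.map_sup, Subgroup.map_commutator, hTT']
          exact sup_le_sup_right hmap _
  -- a nilpotent group has no perfect quotient
  have hHT : H ≤ T' := hyperfocal_le_pResidual S
  haveI : (H.subgroupOf T').Normal :=
    ⟨fun n hn g => hyperfocal_conj_mem (g.2 : (g : G) ∈ T').1 hn⟩
  have : Group.IsNilpotent T' := (S.2.to_le inf_le_left : IsPGroup p T').isNilpotent
  have hq : commutator (T' ⧸ H.subgroupOf T') = ⊤ := by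
    rw [eq_top_iff]
    intro q _
    obtain ⟨t, rfl⟩ := QuotientGroup.mk'_surjective _ q
    have h1 : (t : G) ∈ H ⊔ ⁅T', T'⁆ := hsup t.2
    have h2 : t ∈ H.subgroupOf T' ⊔ (⁅T', T'⁆).subgroupOf T' := by
      rw [← Subgroup.subgroupOf_sup hHT (Subgroup.commutator_le_self T')]
      exact h1
    rw [Subgroup.mem_sup_of_normal_left] at h2
    obtain ⟨y, hy, z, hz, rfl⟩ := h2
    rw [map_mul, show QuotientGroup.mk' (H.subgroupOf T') y = 1 from (QuotientGroup.eq_one_iff y).mpr hy, one_mul]
    rw [← Subgroup.map_subtype_commutator T', Subgroup.subgroupOf,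
      Subgroup.comap_map_eq_self_of_injective T'.subtype_injective] at hz
    rw [commutator_def] at hz ⊢
    have := Subgroup.map_commutator (⊤ : Subgroup T') ⊤ (QuotientGroup.mk' (H.subgroupOf T'))
    rw [Subgroup.map_top_of_surjective _ (QuotientGroup.mk'_surjective _)] at this
    exact this ▸ ⟨z, hz, rfl⟩
  intro t ht
  by_contra htH
  haveI : Nontrivial (T' ⧸ H.subgroupOf T') :=
    ⟨⟨QuotientGroup.mk ⟨t, ht⟩, 1, fun h => htH ((QuotientGroup.eq_one_iff (N := H.subgroupOf T') _).mp h)⟩⟩
  exact (Group.IsSolvable.commutator_lt_top_of_nontrivial (T' ⧸ H.subgroupOf T')).ne hq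

end CfsgLib.Fusion
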