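import Cfsg.Agent.Lib.Fusion.Extend
import Mathlib.GroupTheory.Perm.Cycle.Type

/-!
# Frobenius' criterion: all automizers `p`-groups forces the inner system
-/

namespace CfsgLib.Fusion

open Cfsg Cfsg.FusionSystem CfsgLib.FusionExtend

variable {Ω : Type*} [Group Ω] {S : Subgroup Ω} {F : FusionSystem S} [Finite S] {p : ℕ}
  [Fact p.Prime]

/-- A fully automized subgroup with a `p`-group as automizer. -/
theorem autGroup_eq_autInducedBy_of_isPGroup {Q : Subgroup Ω} (hQ : F.IsFullyAutomized p Q)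
    (h : IsPGroup p (F.autGroup Q)) : F.autGroup Q = autInducedBy S Q := by
  have := finite_mulAut hQ.1
  obtain ⟨n, hn⟩ := IsPGroup.iff_card.mp h
  have hc := (fullyAutomized_iff.mp hQ).2
  rw [hn, (Fact.out : p.Prime).factorization_pow, Finsupp.single_eq_same] at hc
  exact (eq_of_le_of_card_le (autInducedBy_le_autGroup hQ.1) (by rw [hc, hn])).symm

/-- If the automizer of every fully normalized subgroup is a `p`-group, the system is inner. -/
theorem eq_inner_of_pGroup_autGroups (hS : IsPGroup p S) (hF : F.IsSaturated p)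
    (h : ∀ P, F.IsFullyNormalized P → IsPGroup p (F.autGroup P)) :
    ∀ P, F.Hom P = (innerFusionSystem S).Hom P := by
  have key := hom_induction hS hF
    (fun P φ => ∃ g ∈ S, ∀ x : P, φ x = g * (x : Ω) * g⁻¹) (fun P => P = S) ?_ ?_ ?_ rfl ?_ ?_
  · refine fun P => Set.Subset.antisymm (fun φ hφ => ⟨le_S hφ, key P φ hφ⟩) (inner_le F P)
  · rintro P R φ _ ⟨g, hg, hφ⟩ hRP χ hχ
    exact ⟨g, hg, fun x => by rw [hχ, hφ]⟩
  · rintro P Q φ ψ _ _ ⟨g, hg, hφ⟩ ⟨k, hk, hψ⟩ hm χ hχ
    exact ⟨k * g, S.mul_mem hk hg, fun x => by rw [hχ, hψ]; simp [hφ, mul_assoc]⟩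
  · rintro P Q φ ψ _ _ hr hi ⟨g, hg, hφ⟩
    refine ⟨g⁻¹, S.inv_mem hg, fun y => ?_⟩
    obtain ⟨x, hx⟩ := hr.ge y.2
    rw [show ψ y = (x : Ω) from (apply_eq_of_coe_eq hx.symm).trans (hi x (hr.le ⟨x, rfl⟩)), ← hx, hφ]
    group
  · intro P φ hφ hP
    subst hP
    obtain ⟨Q, hQ, ha, -⟩ := hF P le_rfl
    have hQS : Q = P := eq_of_le_of_card_le (IsConj.le_right hQ) (by rw [IsConj.card_eq hQ])
    subst hQS
    obtain ⟨α, hα, hαe⟩ := exists_aut hφ (range_eq_of_card_le hφ le_rfl (apply_mem_S hφ) le_rfl)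
    have hn : F.IsFullyNormalized Q := ⟨le_rfl, fun R hR => by
      rw [eq_of_le_of_card_le (IsConj.le_right hR) (by rw [IsConj.card_eq hR])]⟩
    rw [autGroup_eq_autInducedBy_of_isPGroup ha (h Q hn)] at hα
    obtain ⟨g, hg, hge⟩ := mem_autInducedBy.mp hα
    exact ⟨g, hg, fun x => by rw [← hαe, hge]⟩
  · intro Q hQa hQr hQS
    have hQ : Q ≤ S := hQa.1
    obtain ⟨g, hg, hgQ⟩ := SetLike.exists_of_lt
      (lt_normalizerIn hS le_rfl (lt_of_le_of_ne hQ hQS))
    have hA := autGroup_eq_autInducedBy_of_isPGroup hQa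
      (h Q (fullyNormalized_of_fullyAutomized_receptive hS hQa hQr))
    obtain ⟨α, hα, hαe⟩ := exists_autInducedBy (K := S) hg.1 hg.2
    refine ⟨⊤, inferInstance, fun κ _ => ?_, g, hg, hgQ, ⟨α, hA ▸ hα⟩, Subgroup.mem_top _, hαe⟩
    obtain ⟨k, hk, hke⟩ := mem_autInducedBy.mp (hA.le κ.2)
    exact ⟨k, hk, hke⟩

/-- A finite group without nontrivial elements of prime order different from `p` is a `p`-group. -/
theorem isPGroup_of_prime_order {G : Type*} [Group G] [Finite G]
    (h : ∀ (q : ℕ) (g : G), q.Prime → q ≠ p → orderOf g = q → False) : IsPGroup p G := by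
  cases nonempty_fintype G
  refine IsPGroup.of_card (n := (Nat.card G).factorization p) ?_
  refine Nat.eq_pow_of_factorization_eq_single Nat.card_pos.ne' ?_
  ext q
  rcases eq_or_ne q p with rfl | hne
  · rw [Finsupp.single_eq_same]
  rw [Finsupp.single_eq_of_ne hne]
  by_contra hq
  have hqp : q.Prime := Nat.prime_of_mem_primeFactors (Nat.support_factorization (Nat.card G) ▸ Finsupp.mem_support_iff.mpr hq)
  have : Fact q.Prime := ⟨hqp⟩
  obtain ⟨g, hg⟩ := exists_prime_orderOf_dvd_card' q (Nat.dvd_of_factorization_pos hq)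
  exact h q g hqp hne hg

omit [Finite S] in
/-- An automorphism of order prime to `p` moving every point of `Q` only inside a set of points it
fixes is trivial on those points. -/
theorem fixed_of_moves_into_fixed {P : Subgroup Ω} (hS : IsPGroup p S) (hP : P ≤ S) {q : ℕ}
    (hq : q.Prime) (hqp : q ≠ p) {α : MulAut P} (hα : α ^ q = 1) (x : P)
    (hc : α (x⁻¹ * α x) = x⁻¹ * α x) : α x = x := by
  set c : P := x⁻¹ * α x with hcd
  have hpow : ∀ m : ℕ, (α ^ m) x = x * c ^ m := by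
    intro m
    induction m with
    | zero => simp
    | succ m ih =>
      rw [pow_succ', MulAut.mul_apply, ih, map_mul, map_pow, hc, pow_succ', ← mul_assoc, hcd,
        mul_inv_cancel_left]
  have h1 := hpow q
  rw [hα, MulAut.one_apply, left_eq_mul] at h1
  obtain ⟨k, hk⟩ := (hS.to_le hP) c
  have h2 : orderOf c ∣ Nat.gcd q (p ^ k) :=
    Nat.dvd_gcd (orderOf_dvd_of_pow_eq_one h1) (orderOf_dvd_of_pow_eq_one hk)
  rw [Nat.Coprime.gcd_eq_one (Nat.Coprime.pow_right k
    ((Nat.coprime_primes hq Fact.out).mpr hqp)), Nat.dvd_one, orderOf_eq_one_iff] at h2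
  rw [hcd, inv_mul_eq_one] at h2
  exact h2.symm

end CfsgLib.Fusion
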