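import Cfsg.Agent.Lib.Fusion.Saturated

/-!
# The fusion system of a finite group on a Sylow subgroup
-/

namespace CfsgLib.Fusion

open Cfsg Cfsg.FusionSystem
open scoped Pointwise

variable {G : Type*} [Group G] {P Q R : Subgroup G}

theorem group_mem {T : Subgroup G} {φ : P →* G} :
    φ ∈ (groupFusionSystem T).Hom P ↔ P ≤ T ∧ (∀ x : P, φ x ∈ T) ∧ ∃ g : G, ∀ x : P, φ x = g * (x : G) * g⁻¹ :=
  Iff.rfl

theorem group_conjHom_mem {T : Subgroup G} (hP : P ≤ T) {g : G} (h : ∀ x ∈ P, g * x * g⁻¹ ∈ T) :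
    conjHom P g ∈ (groupFusionSystem T).Hom P :=
  ⟨hP, fun x => h x x.2, g, fun _ => rfl⟩

theorem mem_map_conj {g y : G} :
    y ∈ P.map (MulAut.conj g).toMonoidHom ↔ ∃ x ∈ P, g * x * g⁻¹ = y := Iff.rfl

theorem range_of_conj {φ : P →* G} {g : G} (h : ∀ x : P, φ x = g * (x : G) * g⁻¹) :
    φ.range = P.map (MulAut.conj g).toMonoidHom := by
  ext y
  constructor
  · rintro ⟨x, rfl⟩; exact ⟨x, x.2, (h x).symm⟩
  · rintro ⟨x, hx, rfl⟩; exact ⟨⟨x, hx⟩, h _⟩

theorem card_map_conj (P : Subgroup G) (g : G) :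
    Nat.card (P.map (MulAut.conj g).toMonoidHom) = Nat.card P :=
  (Nat.card_congr (P.equivMapOfInjective _ (MulAut.conj g).injective).toEquiv).symm

theorem group_isConj_iff {T : Subgroup G} :
    (groupFusionSystem T).IsConj P Q ↔ P ≤ T ∧ Q ≤ T ∧ ∃ g : G, P.map (MulAut.conj g).toMonoidHom = Q := by
  constructor
  · intro h
    refine ⟨IsConj.le_left h, IsConj.le_right h, ?_⟩
    obtain ⟨φ, ⟨-, -, g, hg⟩, rfl⟩ := h
    exact ⟨g, (range_of_conj hg).symm⟩
  · rintro ⟨hP, hQ, g, rfl⟩
    exact ⟨conjHom P g, group_conjHom_mem hP fun x hx => hQ ⟨x, hx, rfl⟩, range_of_conj fun _ => rfl⟩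

theorem normalizer_map_conj (P : Subgroup G) (g : G) :
    (Subgroup.normalizer (P : Set G)).map (MulAut.conj g).toMonoidHom =
      Subgroup.normalizer ((P.map (MulAut.conj g).toMonoidHom : Subgroup G) : Set G) :=
  Subgroup.map_normalizer_eq_of_bijective _ (MulAut.conj g).bijective

theorem centralizer_map_conj (P : Subgroup G) (g : G) :
    (Subgroup.centralizer (P : Set G)).map (MulAut.conj g).toMonoidHom =
      Subgroup.centralizer ((P.map (MulAut.conj g).toMonoidHom : Subgroup G) : Set G) := by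
  ext y
  constructor
  · rintro ⟨c, hc, rfl⟩
    rintro _ ⟨x, hx, rfl⟩
    exact (map_mul _ _ _).symm.trans ((congrArg _ (hc x hx)).trans (map_mul _ _ _))
  · intro hy
    refine ⟨(MulAut.conj g).symm y, fun x hx => ?_, (MulAut.conj g).apply_symm_apply y⟩
    apply (MulAut.conj g).injective
    rw [map_mul, map_mul, MulEquiv.apply_symm_apply]
    exact hy _ ⟨x, hx, rfl⟩

theorem autGroup_group {T : Subgroup G} (hP : P ≤ T) :
    (groupFusionSystem T).autGroup P = autInducedBy ⊤ P := by
  ext α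
  rw [mem_autGroup hP, mem_autInducedBy]
  constructor
  · rintro ⟨-, -, g, hg⟩; exact ⟨g, Subgroup.mem_top g, hg⟩
  · rintro ⟨g, -, hg⟩; exact ⟨hP, fun x => hP (α x).2, g, hg⟩

theorem normalizerIn_top (P : Subgroup G) : normalizerIn ⊤ P = Subgroup.normalizer (P : Set G) :=
  top_inf_eq _

theorem centralizerIn_top (P : Subgroup G) : centralizerIn ⊤ P = Subgroup.centralizer (P : Set G) :=
  top_inf_eq _

theorem conj_mem_centralizer {n c : G} (hn : n ∈ Subgroup.normalizer (Q : Set G))
    (hc : c ∈ Subgroup.centralizer (Q : Set G)) : n * c * n⁻¹ ∈ Subgroup.centralizer (Q : Set G) := by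
  intro x hx
  have h := Subgroup.mem_centralizer_iff.mp hc (n⁻¹ * x * n)
    ((Subgroup.mem_normalizer_iff''.mp hn x).mp hx)
  calc x * (n * c * n⁻¹) = n * (n⁻¹ * x * n * c) * n⁻¹ := by group
    _ = n * c * n⁻¹ * x := by rw [h]; group

theorem le_normalizer_centralizer :
    Subgroup.normalizer (Q : Set G) ≤ Subgroup.normalizer ((Subgroup.centralizer (Q : Set G) : Subgroup G) : Set G) := by
  intro n hn
  rw [Subgroup.mem_normalizer_iff]
  refine fun c => ⟨conj_mem_centralizer hn, fun hc => ?_⟩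
  have h := conj_mem_centralizer (Subgroup.inv_mem _ hn) hc
  rwa [show n⁻¹ * (n * c * n⁻¹) * n⁻¹⁻¹ = c by group] at h

section sylow

variable [Finite G] {p : ℕ} [Fact p.Prime]

theorem card_le_sylowCard {K X : Subgroup G} (hXK : X ≤ K) (hX : IsPGroup p X) :
    Nat.card X ≤ p ^ (Nat.card K).factorization p := by
  obtain ⟨T, hT⟩ := (hX.comap_subtype (K := K)).exists_le_sylow
  rw [← T.card_eq_multiplicity, ← Nat.card_congr (Subgroup.subgroupOfEquivOfLe hXK).toEquiv]
  exact Subgroup.card_le_of_le hT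

theorem exists_sylow_iff {K X : Subgroup G} (hXK : X ≤ K) :
    (∃ R : Sylow p K, (R : Subgroup K) = X.subgroupOf K) ↔
      Nat.card X = p ^ (Nat.card K).factorization p := by
  have e := Nat.card_congr (Subgroup.subgroupOfEquivOfLe hXK).toEquiv
  constructor
  · rintro ⟨R, hR⟩
    have h1 := R.card_eq_multiplicity
    rw [← e, ← hR]; exact h1
  · intro h
    exact ⟨Sylow.ofCard _ (e.trans h), Sylow.coe_ofCard _ _⟩

/-- Sylow's conjugacy inside a subgroup `K`: a `p`-subgroup `X` moves into a Sylow subgroup `Y`. -/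
theorem exists_conj_into {K X Y : Subgroup G} (hXK : X ≤ K) (hX : IsPGroup p X) (hYK : Y ≤ K)
    (hY : Nat.card Y = p ^ (Nat.card K).factorization p) :
    ∃ c ∈ K, ∀ x ∈ X, c * x * c⁻¹ ∈ Y := by
  obtain ⟨T, hT⟩ := (hX.comap_subtype (K := K)).exists_le_sylow
  obtain ⟨U, hU⟩ := (exists_sylow_iff (p := p) hYK).mpr hY
  obtain ⟨c, hc⟩ := MulAction.exists_smul_eq K T U
  refine ⟨c, c.2, fun x hx => ?_⟩
  have h2 : c * ⟨x, hXK hx⟩ * c⁻¹ ∈ (U : Subgroup K) := by
    rw [← hc, Sylow.coe_subgroup_smul]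
    exact Subgroup.smul_mem_pointwise_smul _ (MulAut.conj c) _ (hT hx)
  rw [hU] at h2
  exact h2

variable (S : Sylow p G)

theorem isPGroup_normalizerIn (P : Subgroup G) : IsPGroup p (normalizerIn (S : Subgroup G) P) :=
  S.2.to_le normalizerIn_le

theorem isPGroup_centralizerIn (P : Subgroup G) : IsPGroup p (centralizerIn (S : Subgroup G) P) :=
  S.2.to_le centralizerIn_le

/-- `N_S(Q)` is a Sylow subgroup of `N_G(Q)`. -/
abbrev NormalizerSylow (Q : Subgroup G) : Prop :=
  Nat.card (normalizerIn (S : Subgroup G) Q) =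
    p ^ (Nat.card (Subgroup.normalizer (Q : Set G))).factorization p

variable {S}

theorem exists_conj_normalizerSylow (hP : P ≤ S) :
    ∃ g : G, P.map (MulAut.conj g).toMonoidHom ≤ S ∧ NormalizerSylow S (P.map (MulAut.conj g).toMonoidHom) := by
  set N := Subgroup.normalizer (P : Set G) with hN
  obtain ⟨T⟩ : Nonempty (Sylow p N) := Sylow.nonempty
  have hPT : P.subgroupOf N ≤ T := by
    haveI hn : (P.subgroupOf N).Normal := Subgroup.normal_in_normalizer
    exact @IsPGroup.le_sylow_of_normal p _ _ _ hn ((S.2.to_le hP).comap_subtype (K := N)) T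
  set T' := (T : Subgroup N).map N.subtype
  have hcard : Nat.card T' = p ^ (Nat.card N).factorization p := by
    rw [← Nat.card_congr ((T : Subgroup N).equivMapOfInjective _ N.subtype_injective).toEquiv]
    exact T.card_eq_multiplicity
  obtain ⟨g, -, hg⟩ := exists_conj_into (le_top (a := T')) (T.2.map _) (le_top (a := (S : Subgroup G)))
    (by rw [Subgroup.card_top]; exact S.card_eq_multiplicity)
  have hPS : P.map (MulAut.conj g).toMonoidHom ≤ S := by
    rintro _ ⟨x, hx, rfl⟩
    exact hg x ⟨⟨x, Subgroup.le_normalizer hx⟩, hPT hx, rfl⟩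
  refine ⟨g, hPS, le_antisymm (card_le_sylowCard inf_le_right (isPGroup_normalizerIn S _)) ?_⟩
  rw [← normalizer_map_conj, card_map_conj, ← hcard, ← card_map_conj T' g]
  refine Subgroup.card_le_of_le (le_inf ?_ ?_)
  · rintro _ ⟨x, hx, rfl⟩; exact hg x hx
  · rw [← normalizer_map_conj]
    exact Subgroup.map_mono (Subgroup.map_subtype_le _)

theorem card_normalizer_eq_of_conj (g : G) :
    Nat.card (Subgroup.normalizer ((P.map (MulAut.conj g).toMonoidHom : Subgroup G) : Set G)) =
      Nat.card (Subgroup.normalizer (P : Set G)) := by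
  rw [← normalizer_map_conj, card_map_conj]

/-- Fully normalized means that `N_S(P)` is Sylow in `N_G(P)`. -/
theorem group_fullyNormalized_iff (hP : P ≤ S) :
    (groupFusionSystem (S : Subgroup G)).IsFullyNormalized P ↔ NormalizerSylow S P := by
  constructor
  · intro h
    obtain ⟨g, hg, hs⟩ := exists_conj_normalizerSylow (S := S) hP
    refine le_antisymm (card_le_sylowCard inf_le_right (isPGroup_normalizerIn S _)) ?_
    rw [← card_normalizer_eq_of_conj g, ← hs]
    exact h.2 _ (group_isConj_iff.mpr ⟨hP, hg, g, rfl⟩)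
  · intro h
    refine ⟨hP, fun Q hQ => ?_⟩
    obtain ⟨-, -, g, rfl⟩ := group_isConj_iff.mp hQ
    rw [h, ← card_normalizer_eq_of_conj g]
    exact card_le_sylowCard inf_le_right (isPGroup_normalizerIn S _)

/-- If `N_S(Q)` is Sylow in `N_G(Q)`, then `C_S(Q)` is Sylow in `C_G(Q)`. -/
theorem centralizerSylow (h : NormalizerSylow S Q) :
    Nat.card (centralizerIn (S : Subgroup G) Q) =
      p ^ (Nat.card (Subgroup.centralizer (Q : Set G))).factorization p := by
  refine le_antisymm (card_le_sylowCard inf_le_right (isPGroup_centralizerIn S _)) ?_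
  obtain ⟨T⟩ : Nonempty (Sylow p (Subgroup.centralizer (Q : Set G))) := Sylow.nonempty
  set T' := (T : Subgroup (Subgroup.centralizer (Q : Set G))).map (Subgroup.centralizer (Q : Set G)).subtype
  have hcard : Nat.card T' = p ^ (Nat.card (Subgroup.centralizer (Q : Set G))).factorization p := by
    rw [← Nat.card_congr ((T : Subgroup (Subgroup.centralizer (Q : Set G))).equivMapOfInjective _
      (Subgroup.centralizer (Q : Set G)).subtype_injective).toEquiv]
    exact T.card_eq_multiplicity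
  obtain ⟨c, hc, hcT⟩ := exists_conj_into
    ((Subgroup.map_subtype_le _).trans (Subgroup.centralizer_le_normalizer _) : T' ≤ _) (T.2.map _)
    (inf_le_right : normalizerIn (S : Subgroup G) Q ≤ _) h
  rw [← hcard, ← card_map_conj T' c]
  refine Subgroup.card_le_of_le ?_
  rintro _ ⟨x, hx, rfl⟩
  exact ⟨(hcT x hx).1, conj_mem_centralizer hc (Subgroup.map_subtype_le _ hx)⟩

theorem autSylow (h : NormalizerSylow S Q) :
    Nat.card (autInducedBy (S : Subgroup G) Q) =
      p ^ (Nat.card (autInducedBy ⊤ Q)).factorization p := by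
  have h1 := card_normalizerIn (S : Subgroup G) Q
  have h2 := card_normalizerIn (⊤ : Subgroup G) Q
  rw [normalizerIn_top, centralizerIn_top] at h2
  have hc : 0 < Nat.card (Subgroup.centralizer (Q : Set G)) := Nat.card_pos
  have ha : Nat.card (autInducedBy ⊤ Q) ≠ 0 := by
    intro h0; rw [h0, mul_zero] at h2
    exact Nat.card_pos.ne' h2
  rw [h, centralizerSylow h, h2, Nat.factorization_mul hc.ne' ha, Finsupp.add_apply, pow_add] at h1
  exact (Nat.eq_of_mul_eq_mul_left (pow_pos (Fact.out : p.Prime).pos _) h1).symm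

theorem group_fullyCentralized_iff (hP : P ≤ S) :
    (groupFusionSystem (S : Subgroup G)).IsFullyCentralized P ↔
      Nat.card (centralizerIn (S : Subgroup G) P) =
        p ^ (Nat.card (Subgroup.centralizer (P : Set G))).factorization p := by
  have hcard : ∀ g : G, Nat.card (Subgroup.centralizer ((P.map (MulAut.conj g).toMonoidHom : Subgroup G) : Set G)) =
      Nat.card (Subgroup.centralizer (P : Set G)) := fun g => by
    rw [← centralizer_map_conj, card_map_conj]
  constructor
  · intro h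
    obtain ⟨g, hg, hs⟩ := exists_conj_normalizerSylow (S := S) hP
    refine le_antisymm (card_le_sylowCard inf_le_right (isPGroup_centralizerIn S _)) ?_
    rw [← hcard g, ← centralizerSylow hs]
    exact h.2 _ (group_isConj_iff.mpr ⟨hP, hg, g, rfl⟩)
  · intro h
    refine ⟨hP, fun Q hQ => ?_⟩
    obtain ⟨-, -, g, rfl⟩ := group_isConj_iff.mp hQ
    rw [h, ← hcard g]
    exact card_le_sylowCard inf_le_right (isPGroup_centralizerIn S _)

/-- The Sylow extension lemma. -/
theorem exists_conj_extender (g : G) (hN : NormalizerSylow S Q) :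
    ∃ h ∈ Subgroup.centralizer (Q : Set G), ∀ x ∈ normalizerIn (S : Subgroup G) P,
      g * x * g⁻¹ ∈ normalizerIn (S : Subgroup G) Q ⊔ Subgroup.centralizer (Q : Set G) →
      h * g * x * (h * g)⁻¹ ∈ normalizerIn (S : Subgroup G) Q := by
  set H := normalizerIn (S : Subgroup G) Q ⊔ Subgroup.centralizer (Q : Set G)
  have hH : H ≤ Subgroup.normalizer (Q : Set G) := sup_le inf_le_right (Subgroup.centralizer_le_normalizer _)
  have hcard : Nat.card (normalizerIn (S : Subgroup G) Q) = p ^ (Nat.card H).factorization p := by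
    refine le_antisymm (card_le_sylowCard le_sup_left (isPGroup_normalizerIn S _)) ?_
    rw [hN]
    exact Nat.pow_le_pow_right (Fact.out : p.Prime).pos
      ((Nat.factorization_le_iff_dvd Nat.card_pos.ne' Nat.card_pos.ne').mpr
        (Subgroup.card_dvd_of_le hH) p)
  obtain ⟨c, hc, hcX⟩ := exists_conj_into
    (inf_le_right : (normalizerIn (S : Subgroup G) P).map (MulAut.conj g).toMonoidHom ⊓ H ≤ H)
    (((isPGroup_normalizerIn S P).map _).to_le inf_le_left) le_sup_left hcard
  have hset : c ∈ ((normalizerIn (S : Subgroup G) Q : Set G) * (Subgroup.centralizer (Q : Set G) : Set G)) := by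
    have he := Subgroup.coe_mul_of_left_le_normalizer_right (normalizerIn (S : Subgroup G) Q) _
      ((inf_le_right : normalizerIn (S : Subgroup G) Q ≤ _).trans le_normalizer_centralizer)
    exact (Set.ext_iff.mp he c).mp hc
  obtain ⟨s, hs, h, hh, rfl⟩ := hset
  refine ⟨h, hh, fun x hx hxH => ?_⟩
  have h1 := hcX _ ⟨⟨x, hx, rfl⟩, hxH⟩
  have h2 := Subgroup.mul_mem _ (Subgroup.mul_mem _ (Subgroup.inv_mem _ hs) h1) hs
  have e : s⁻¹ * (s * h * (g * x * g⁻¹) * (s * h)⁻¹) * s = h * g * x * (h * g)⁻¹ := by group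
  rw [← e]; exact h2

theorem group_receptive (hQ : Q ≤ S) (hN : NormalizerSylow S Q) :
    (groupFusionSystem (S : Subgroup G)).IsReceptive Q := by
  refine ⟨hQ, fun R φ hφ hr => ?_⟩
  obtain ⟨hR, hφS, g, hg⟩ := hφ
  obtain ⟨h, hh, hS'⟩ := exists_conj_extender (P := R) g hN
  have key : ∀ x ∈ extender (S : Subgroup G) R φ, h * g * x * (h * g)⁻¹ ∈ (S : Subgroup G) := by
    intro x hx
    obtain ⟨hxS, hxN, k, hk, he⟩ := mem_extender.mp hx
    refine (hS' x ⟨hxS, hxN⟩ ?_).1
    have hkQ : k ∈ Subgroup.normalizer (Q : Set G) := mem_normalizer_of_forall fun y hy => by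
      obtain ⟨z, rfl⟩ := hr.ge hy
      rw [← he z ((Subgroup.mem_normalizer_iff.mp hxN z).mp z.2)]; exact hr.le ⟨_, rfl⟩
    have hc : k⁻¹ * (g * x * g⁻¹) ∈ Subgroup.centralizer (Q : Set G) := by
      intro y hy
      obtain ⟨z, rfl⟩ := hr.ge hy
      have h1 := he z ((Subgroup.mem_normalizer_iff.mp hxN z).mp z.2)
      rw [hg, hg] at h1
      rw [hg]
      calc g * (z : G) * g⁻¹ * (k⁻¹ * (g * x * g⁻¹))
          = k⁻¹ * (k * (g * z * g⁻¹) * k⁻¹) * (g * x * g⁻¹) := by group
        _ = k⁻¹ * (g * x * g⁻¹) * (g * z * g⁻¹) := by rw [← h1]; group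
    have := Subgroup.mul_mem (normalizerIn (S : Subgroup G) Q ⊔ Subgroup.centralizer (Q : Set G))
      (Subgroup.mem_sup_left (⟨hk, hkQ⟩ : k ∈ normalizerIn (S : Subgroup G) Q)) (Subgroup.mem_sup_right hc)
    rwa [mul_inv_cancel_left] at this
  refine ⟨conjHom _ (h * g), group_conjHom_mem (extender_le_normalizerIn.trans normalizerIn_le) key,
    fun x hx hxN => ?_⟩
  show h * g * x * (h * g)⁻¹ = φ ⟨x, hx⟩
  have h1 := Subgroup.mem_centralizer_iff.mp hh (φ ⟨x, hx⟩) (hr.le ⟨_, rfl⟩)
  rw [hg] at h1 ⊢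
  calc h * g * x * (h * g)⁻¹ = h * (g * x * g⁻¹) * h⁻¹ := by group
    _ = g * x * g⁻¹ * h * h⁻¹ := by rw [← h1]
    _ = _ := mul_inv_cancel_right _ _

theorem group_fullyAutomized (hQ : Q ≤ S) (hN : NormalizerSylow S Q) :
    (groupFusionSystem (S : Subgroup G)).IsFullyAutomized p Q :=
  fullyAutomized_iff.mpr ⟨hQ, by rw [autGroup_group hQ]; exact autSylow hN⟩

/-- The fusion system of a finite group on a Sylow subgroup is saturated. -/
theorem group_saturated (S : Sylow p G) : (groupFusionSystem (S : Subgroup G)).IsSaturated p := by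
  intro P hP
  obtain ⟨g, hg, hs⟩ := exists_conj_normalizerSylow (S := S) hP
  exact ⟨_, group_isConj_iff.mpr ⟨hP, hg, g, rfl⟩, group_fullyAutomized hg hs, group_receptive hg hs⟩

/-- A normal `p`-subgroup is normal in the fusion system. -/
theorem group_isNormal_of_normal (S : Sylow p G) (R : Subgroup G) [R.Normal] (hR : IsPGroup p R) :
    (groupFusionSystem (S : Subgroup G)).IsNormal R := by
  have hRS : R ≤ S := hR.le_sylow_of_normal S
  refine ⟨hRS, fun P φ hφ => ?_⟩
  obtain ⟨hP, hφS, g, hg⟩ := hφ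
  have hle : P ⊔ R ≤ (S : Subgroup G).comap (MulAut.conj g).toMonoidHom :=
    sup_le (fun x hx => show g * x * g⁻¹ ∈ (S : Subgroup G) by rw [← hg ⟨x, hx⟩]; exact hφS _)
      fun x hx => hRS (Subgroup.Normal.conj_mem inferInstance x hx g)
  refine ⟨conjHom _ g, group_conjHom_mem (sup_le hP hRS) fun x hx => hle hx, fun x => (hg x).symm, ?_⟩
  ext y
  rw [mem_map_subgroupOf]
  constructor
  · rintro ⟨x, hx, rfl⟩; exact Subgroup.Normal.conj_mem inferInstance _ hx g
  · intro hy
    have h := Subgroup.Normal.conj_mem inferInstance y hy g⁻¹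
    exact ⟨⟨_, Subgroup.mem_sup_right h⟩, h, by simp [mul_assoc]⟩

end sylow

end CfsgLib.Fusion
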