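import Cfsg.Agent.Lib.Fusion.LocalControl

/-!
# A functor normal in all good models is normal in every system with good models
-/

namespace CfsgLib.Fusion

open Cfsg Cfsg.FusionSystem CfsgLib.FusionFactor

universe u

variable {Ω : Type u} [Group Ω] {S : Subgroup Ω} {F : FusionSystem S} {p : ℕ} [Finite S] [Fact p.Prime]

omit [Finite S] [Fact p.Prime] in
/-- Maps of a subsystem with `X` normal are maps of `N_F(X)`. -/
theorem mem_normalizerHom_of_normal {M X P : Subgroup Ω} {G : FusionSystem M} (hMS : M ≤ normalizerIn S X)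
    (hsub : ∀ P φ, φ ∈ G.Hom P → φ ∈ F.Hom P) (hX : G.IsNormal X) {φ : P →* Ω} (hφ : φ ∈ G.Hom P) :
    φ ∈ F.normalizerHom X P := by
  obtain ⟨ψ, hψ, hψe, hψX⟩ := hX.2 P φ hφ
  exact ⟨hsub _ _ hφ, (le_S hφ).trans hMS, fun x => hMS (apply_mem_S hφ x), ψ, hsub _ _ hψ, hψe, hψX⟩

/-- If `W` is normal in every good model, it is normal in every saturated system all of whose models at
centric subgroups are good. -/
theorem isNormal_charSub {Good : ∀ (L : Type u) [Group L], Prop} (hGood : SectionClosed Good)
    {W : ∀ (Q : Type u) [Group Q], Subgroup Q}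
    (hW1 : ∀ (Q : Type u) [Group Q] [Finite Q], IsPGroup p Q → Nontrivial Q → W Q ≠ ⊥)
    (hW2 : ∀ (Q R : Type u) [Group Q] [Group R] [Finite Q], IsPGroup p Q → ∀ φ : Q ≃* R,
      (W Q).map φ.toMonoidHom = W R)
    (hW3 : ∀ (L : Type u) [Group L] [Finite L] (T : Sylow p L),
      Subgroup.centralizer ((pCore p L : Subgroup L) : Set L) ≤ pCore p L → Good L →
      (charSub W (T : Subgroup L)).Normal)
    (hS : IsPGroup p S) (hF : F.IsSaturated p) (hfree : CentricFree F p Good) :
    F.IsNormal (charSub W S) := by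
  suffices H : ∀ (n : ℕ) {Ω : Type u} [Group Ω] {S : Subgroup Ω} [Finite S] (F : FusionSystem S),
      sysSize F < n → IsPGroup p S → F.IsSaturated p → CentricFree F p Good → F.IsNormal (charSub W S) from
    H _ F (Nat.lt_succ_self _) hS hF hfree
  intro n
  induction n with
  | zero => intro _ _ _ _ F h; omega
  | succ n ih =>
    intro Ω _ S _ F hn hS hF hfree
    by_cases hS1 : S = ⊥
    · rw [show charSub W S = ⊥ from le_bot_iff.mp ((charSub_le S).trans hS1.le)]
      exact CfsgLib.FusionExt.isNormal_bot F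
    have hSn : S ≤ Subgroup.normalizer (charSub W S : Set Ω) :=
      Subgroup.le_normalizer.trans (charSub_le_normalizer hW2 hS)
    obtain ⟨E, hEdef⟩ : ∃ E, E = extSystem F (charSub_le S) ⊤ S (isKNormalizer_top_self hSn) := ⟨_, rfl⟩
    refine isNormal_of_extHom (charSub_le S) fun P φ hφ => ?_
    suffices hle : F ≤ E by have := hle P hφ; rw [hEdef] at this; exact this
    have hEmem : ∀ P φ, φ ∈ F.normalizerHom (charSub W S) P → φ ∈ E.Hom P := by
      rintro P φ ⟨hφ, -, -, ψ, hψ, hψe, hψW⟩
      obtain ⟨κ, hκ⟩ := (map_eq_iff_exists_aut hψ).mp hψW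
      rw [hEdef]
      exact ⟨hφ, le_S hφ, apply_mem_S hφ, ψ, hψ, hψe, κ, Subgroup.mem_top _, hκ⟩
    have hsmall : ∀ {M : Subgroup Ω} (G : FusionSystem M), M ≤ S → (∀ P φ, φ ∈ G.Hom P → φ ∈ F.Hom P) →
        (∃ P φ, φ ∈ F.Hom P ∧ φ ∉ G.Hom P) → G.IsSaturated p → CentricFree G p Good →
        G.IsNormal (charSub W M) := fun G hMS hsub hne hG hGf => by
      have := finite_of_le hMS
      have := sysSize_lt_of_sub hsub hne
      exact ih G (by omega) (hS.to_le hMS) hG hGf
    by_cases hcore : F.core = ⊥
    · refine le_of_local hS hF hS1 E fun U hU hUn hbig P φ hφ => ?_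
      obtain ⟨N, hN⟩ := exists_normalizerSystem (F := F) hUn.1
      have hsub : ∀ P φ, φ ∈ N.Hom P → φ ∈ F.Hom P := fun P φ h => ((hN P).le h).1
      have hne : ∃ P φ, φ ∈ F.Hom P ∧ φ ∉ N.Hom P := by
        by_contra h
        push Not at h
        have hUnorm : F.IsNormal U := ⟨hUn.1, fun P φ hφ => by
          obtain ⟨-, -, -, ψ, hψ, hψe, hψU⟩ := (hN P).le (h P φ hφ)
          exact ⟨ψ, hψ, hψe, hψU⟩⟩
        exact hU (le_bot_iff.mp (hcore ▸ (show U ≤ F.core from le_sSup hUnorm)))
      have hNX := hsmall N normalizerIn_le hsub hne (normalizerSystem_saturated hS hF hUn hN)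
        (centricFree_normalizerSystem hGood hS hF hfree hUn hN)
      have := finite_of_le (normalizerIn_le (S := S) (P := U))
      have hMX : normalizerIn S (normalizerIn S U) ≤ normalizerIn S (charSub W (normalizerIn S U)) :=
        inf_le_inf_left S (charSub_le_normalizer hW2 (hS.to_le normalizerIn_le))
      have hφX := mem_normalizerHom_of_normal ((le_normalizerIn normalizerIn_le).trans hMX) hsub hNX
        ((hN P).ge hφ)
      by_cases hM : normalizerIn S U = S
      · rw [hM] at hφX; exact hEmem P φ hφX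
      · refine hbig _ (charSub_ne_bot hW1 (hS.to_le normalizerIn_le) fun e => hU
          (le_bot_iff.mp ((le_normalizerIn hUn.1).trans e.le))) ((charSub_le _).trans normalizerIn_le) ?_ P φ hφX
        have := finite_of_le (normalizerIn_le (S := S) (P := charSub W (normalizerIn S U)))
        refine lt_of_lt_of_le ?_ (Subgroup.card_le_of_le hMX)
        have hlt := lt_normalizerIn hS le_rfl (lt_of_le_of_ne normalizerIn_le hM)
        have := finite_of_le (normalizerIn_le (S := S) (P := normalizerIn S U))
        exact lt_of_not_ge fun h => hlt.ne (eq_of_le_of_card_le hlt.le h)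
    · obtain ⟨Q, hQd⟩ : ∃ Q, Q = F.core := ⟨_, rfl⟩
      have hQ : F.IsNormal Q := hQd ▸ CfsgLib.FusionExt.isNormal_core F
      rw [← hQd] at hcore
      obtain ⟨hTc, hTn, hTN, -⟩ := normal_mul_centralizer hQ
      have hT : ∀ P φ, φ ∈ F.normalizerHom (Q ⊔ centralizerIn S Q) P → φ ∈ E.Hom P := by
        intro P φ hφ
        obtain ⟨N, hN⟩ := exists_normalizerSystem (F := F) hTn.1
        obtain ⟨L, _, ι, hL⟩ := exists_model_normalizer hS hF hTn hTc hN
        have := hL.1
        obtain ⟨T₀, hT₀⟩ := hL.2.2.1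
        have hnorm := hW3 L T₀ hL.2.2.2 (hfree _ hTn hTc N hN L ι hL)
        have := finite_of_le (normalizerIn_le (S := S) (P := Q ⊔ centralizerIn S Q))
        rw [hT₀, ← charSub_map hW2 (hS.to_le normalizerIn_le) ι hL.2.1.1] at hnorm
        have := hnorm
        have h := isNormal_of_realized hL.2.1
          (((charSub W (normalizerIn S (Q ⊔ centralizerIn S Q))).subgroupOf _).map ι) (Subgroup.map_le_range ι _)
        rw [Subgroup.comap_map_eq_self_of_injective hL.2.1.1,
          Subgroup.map_subgroupOf_eq_of_le (charSub_le _)] at h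
        have hφW := mem_normalizerHom_of_normal (X := charSub W (normalizerIn S (Q ⊔ centralizerIn S Q)))
          (M := normalizerIn S (Q ⊔ centralizerIn S Q))
          (le_inf normalizerIn_le (Subgroup.le_normalizer.trans
            (charSub_le_normalizer hW2 (hS.to_le normalizerIn_le))))
          (fun P φ h => ((hN P).le h).1) h ((hN P).ge hφ)
        rw [hTN] at hφW
        exact hEmem P φ hφW
      by_cases hQS : Q = S
      · intro P φ hφ
        refine hT P φ ?_
        rw [sup_eq_left.mpr (centralizerIn_le.trans hQS.ge)]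
        obtain ⟨ψ, hψ, hψe, hψQ⟩ := hQ.2 P φ hφ
        have hN' : normalizerIn S Q = S := inf_eq_left.mpr (le_normalizer_of_isNormal hQ)
        exact ⟨hφ, hN'.symm ▸ le_S hφ, fun x => hN'.symm ▸ apply_mem_S hφ x, ψ, hψ, hψe, hψQ⟩
      refine le_of_normal_split hS hF hQ E hT ?_
      intro P φ hφ
      obtain ⟨hr, hsat⟩ := innerExt_saturated hS hF hQ
      have hKT := isKNormalizer_autInducedBy (le_normalizer_of_isNormal hQ)
      by_cases hne : ∃ P φ, φ ∈ F.Hom P ∧ φ ∉ (extSystem F hr.1 (autInducedBy S Q) S hKT).Hom P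
      · have hsub : ∀ P φ, φ ∈ (extSystem F hr.1 (autInducedBy S Q) S hKT).Hom P → φ ∈ F.Hom P :=
          fun P φ h => h.1
        have hX := hsmall (extSystem F hr.1 (autInducedBy S Q) S hKT) le_rfl hsub hne hsat
          (centricFree_extSystem hGood hS hF hfree hr hKT hQ.1 hsat)
        exact hEmem P φ (mem_normalizerHom_of_normal (le_inf le_rfl hSn) hsub hX hφ)
      · exfalso
        push Not at hne
        have hQn : (Q.subgroupOf S).Normal :=
          (Subgroup.normal_subgroupOf_iff_le_normalizer hQ.1).mpr (le_normalizer_of_isNormal hQ)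
        let θ : S →* S ⧸ Q.subgroupOf S := QuotientGroup.mk' _
        have hk : ∀ s : S, θ s = 1 ↔ (s : Ω) ∈ Q := fun s => QuotientGroup.eq_one_iff s
        have hA := IsNormal.stronglyClosed hQ
        have hE' := factorSystem_isFactorSystem (θ := θ) hk hA
        have : Finite θ.range := Finite.of_surjective _ θ.rangeRestrict_surjective
        have hθp : IsPGroup p θ.range := hS.of_surjective _ θ.rangeRestrict_surjective
        have hlt := sysSize_factor_lt hE' hcore
        have hW' := ih (factorSystem F θ Q hk hA) (by omega) hθp (isSaturated_factor hS hF hA hE')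
          (centricFree_factor hGood.quot hS hF hQ hE' hfree)
        have hV : preimageAlong θ (charSub W θ.range) ≤ Q := by
          have hV0 : F.IsNormal (preimageAlong θ (charSub W θ.range)) := isNormal_preimage hS hF hQ hne hE' hW'
          exact (show preimageAlong θ (charSub W θ.range) ≤ F.core from le_sSup hV0).trans hQd.ge
        refine charSub_ne_bot hW1 hθp (fun e => hQS (le_antisymm hQ.1 fun s hs => ?_))
          (le_bot_iff.mp fun y hy => ?_)
        · exact (hk ⟨s, hs⟩).mp (Subgroup.mem_bot.mp (e.le ⟨⟨s, hs⟩, rfl⟩))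
        · obtain ⟨s, rfl⟩ := charSub_le _ hy
          exact Subgroup.mem_bot.mpr ((hk s).mpr (hV (mem_preimageAlong.mpr ⟨s.2, hy⟩)))

end CfsgLib.Fusion
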