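import Cfsg.Agent.Lib.Fusion.LocalModel
import Cfsg.Agent.Lib.PCore.Basic
import Cfsg.Agent.Lib.LocalEven.InvolvesFour

/-!
# Properties tested on local models: radical subgroups suffice, and the systems `N_F^K(U)` inherit them
-/

namespace CfsgLib.Fusion

open Cfsg Cfsg.FusionSystem

universe u

variable {Ω : Type u} [Group Ω] {S : Subgroup Ω} {F : FusionSystem S} {p : ℕ} {Q R U T : Subgroup Ω}
  [Finite S] [Fact p.Prime] {Good : ∀ (L : Type u) [Group L], Prop}

omit [Finite S] [Fact p.Prime] in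
/-- Not involving a fixed group is closed under sections. -/
theorem sectionClosed_not_involves {H : Type*} [Group H] :
    SectionClosed.{u} fun L _ => ¬ Involves H L where
  sub f hf h hi := h (CfsgLib.LocalEven.Involved.involves_of_subgroup (H := f.range)
    (CfsgLib.LocalEven.Involved.involves_of_surjective (MonoidHom.ofInjective hf).symm.toMonoidHom
      (MonoidHom.ofInjective hf).symm.surjective hi))
  quot f hf h hi := h (CfsgLib.LocalEven.Involved.involves_of_surjective f hf hi)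

/-- It is enough to test models at centric radical subgroups. -/
theorem centricFree_of_radicalFree (hGood : SectionClosed Good) (hS : IsPGroup p S) (hF : F.IsSaturated p)
    (hfree : RadicalFree F p Good) : CentricFree F p Good := by
  suffices H : ∀ (n : ℕ) (R : Subgroup Ω), Nat.card S - Nat.card R < n → F.IsFullyNormalized R → F.IsCentric R →
      ∀ E : FusionSystem (normalizerIn S R), F.IsNormalizerSystem R E →
        ∀ (L : Type u) [Group L] (ι : ↥(normalizerIn S R) →* L), E.IsModel p L ι → Good L by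
    intro R hRn hRc E hE L _ ι hL
    exact H _ R (Nat.lt_succ_self _) hRn hRc E hE L ι hL
  intro n
  induction n with
  | zero => intro R h; omega
  | succ n ih =>
    intro R hn hRn hRc E hE L _ ι hL
    have := hL.1
    have : Finite (normalizerIn S R) := finite_of_le normalizerIn_le
    have hTp : IsPGroup p (normalizerIn S R) := hS.to_le normalizerIn_le
    obtain ⟨hRN, hRNc⟩ := normal_centric_in_normalizerSystem hRn.1 hRc hE
    have := model_core_normal (p := p) (G := L)
    obtain ⟨P0, hP0⟩ : ∃ P0, P0 = ((pCore p L).comap ι).map (normalizerIn S R).subtype := ⟨_, rfl⟩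
    have hRimg : (R.subgroupOf (normalizerIn S R)).map ι ≤ pCore p L :=
      le_sSup ⟨normal_image_of_isNormal hL hRN, (hTp.to_subgroup _).map ι⟩
    have hRP : R ≤ P0 := fun r hr => hP0 ▸ ⟨⟨r, hRN.1 hr⟩, hRimg ⟨_, hr, rfl⟩, rfl⟩
    have hP0n : E.IsNormal P0 := hP0 ▸ isNormal_of_realized hL.2.1 _ (model_core_le hL)
    have hP0c : F.IsCentric P0 := IsCentric.of_le hRc hRP (hP0n.1.trans normalizerIn_le)
    by_cases hlt : P0 = R
    · refine hfree R hRn hRc ⟨hRn.1, ?_⟩ E hE L ι hL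
      have hAut := autGroup_normalizerSystem hRn.1 hE
      obtain ⟨f, hf⟩ := exists_model_action hL hRN
      have := finite_mulAut hRn.1
      let f' : L →* F.autGroup R := ((E.autGroup R).subtype.comp f).codRestrict _ fun l => hAut ▸ (f l).2
      apply le_antisymm
      · rintro _ ⟨⟨β, hβ⟩, hβN, rfl⟩
        have hker : IsPGroup p f'.ker := by
          refine ((hTp.to_subgroup (R.subgroupOf (normalizerIn S R))).map ι).to_le fun l hl => ?_
          refine model_centralizer_le hTp hL hRN hRNc (Subgroup.mem_centralizer_iff.mpr ?_)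
          rintro _ ⟨⟨r, hrT⟩, hr, rfl⟩
          have h := hf l ⟨r, hr⟩
          rw [show ((f l : E.autGroup R) : MulAut R) = 1 from congrArg Subtype.val hl] at h
          exact (mul_inv_eq_iff_eq_mul.mp h.symm).symm
        have hp : IsPGroup p ((pCore p (F.autGroup R)).comap f') :=
          IsPGroup.comap_of_ker_isPGroup CfsgLib.PCore.pCore_isPGroup f' hker
        have : (pCore p (F.autGroup R)).Normal := model_core_normal
        have hle : (pCore p (F.autGroup R)).comap f' ≤ pCore p L := le_sSup ⟨inferInstance, hp⟩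
        have hm : R.subtype.comp β.toMonoidHom ∈ E.Hom R := (mem_autGroup hRN.1).mp (hAut.symm ▸ hβ)
        obtain ⟨l, hl⟩ := realized_conj hL.2.1 hm
        have hfl : f' l = ⟨β, hβ⟩ := Subtype.ext (MulEquiv.ext fun r => Subtype.ext
          (congrArg (Subtype.val : normalizerIn S R → Ω) (hL.2.1.1 ((hf l r).trans (hl r).symm))))
        have hlN : f' l ∈ pCore p (F.autGroup R) := hfl ▸ hβN
        obtain ⟨a, ha⟩ := model_core_le hL (hle hlN)
        have haR : (a : Ω) ∈ R := by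
          have : (a : Ω) ∈ P0 := by
            rw [hP0]
            exact ⟨a, show ι a ∈ pCore p L from ha ▸ hle hlN, rfl⟩
          exact hlt.le this
        refine mem_inn.mpr ⟨⟨a, haR⟩, fun r => ?_⟩
        have h := hl r
        rw [← ha, ← map_inv, ← map_mul, ← map_mul] at h
        refine Subtype.ext ?_
        show ((β r : R) : Ω) = a * r * (a : Ω)⁻¹
        exact congrArg (Subtype.val : normalizerIn S R → Ω) (hL.2.1.1 h)
      · intro β hβ
        refine ⟨⟨β, inn_le_autGroup hRn.1 hβ⟩, (show (Inn R).subgroupOf (F.autGroup R) ≤ pCore p (F.autGroup R) from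
          le_sSup ⟨normal_inn_subgroupOf F R, ?_⟩) hβ, rfl⟩
        have hp : IsPGroup p (Inn R) := inn_eq_autInducedBy (P := R) ▸ isPGroup_autInducedBy (hS.to_le hRn.1) R
        exact hp.comap_of_injective _ (F.autGroup R).subtype_injective
    · obtain ⟨R', hR', hR'n⟩ := exists_fullyNormalized (F := F) hP0c.1
      have hR'c : F.IsCentric R' := ⟨hR'n.1, fun P hP => hP0c.2 P (isConj_trans hR' hP)⟩
      obtain ⟨E', hE'⟩ := exists_normalizerSystem (F := F) hR'n.1
      obtain ⟨L', _, ι', hL'⟩ := exists_model_normalizer hS hF hR'n hR'c hE'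
      obtain ⟨τ, hτ⟩ := exists_model_embedding hS hF normalizerIn_le (normalizerSystem_saturated hS hF hRn hE)
        (fun P φ hφ => ((hE P).le hφ).1) hP0n hP0c hR' hR'n hE' hL' hL
      refine hGood.sub τ hτ (ih R' ?_ hR'n hR'c E' hE' L' ι' hL')
      have := finite_of_le hP0c.1
      have h1 : Nat.card R < Nat.card P0 := lt_of_not_ge fun hge => hlt (eq_of_le_of_card_le hRP hge).symm
      rw [IsConj.card_eq hR']
      have h2 : Nat.card P0 ≤ Nat.card S := Subgroup.card_le_of_le hP0c.1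
      omega

theorem centricFree_iff_radicalFree (hGood : SectionClosed Good) (hS : IsPGroup p S) (hF : F.IsSaturated p) :
    CentricFree F p Good ↔ RadicalFree F p Good :=
  ⟨fun h Q hn hc _ => h Q hn hc, centricFree_of_radicalFree hGood hS hF⟩

omit [Finite S] [Fact p.Prime] in
/-- `U` is normal in `N_F^K(U)`. -/
theorem isNormal_extSystem (hU : U ≤ S) {K : Subgroup (MulAut U)} (hT : IsKNormalizer S U K T) (hUT : U ≤ T) :
    (extSystem F hU K T hT).IsNormal U := by
  refine ⟨hUT, fun P φ hφ => ?_⟩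
  obtain ⟨hφF, hP, hφT, ψ, hψ, hψe, κ, hκ, hκe⟩ := hφ
  refine ⟨ψ, ⟨hψ, sup_le hP hUT, fun x => sup_le_map_comap (fun a ha => ?_) (fun b hb => ?_) x,
    _, restrict_mem (sup_le le_rfl le_sup_right : P ⊔ U ⊔ U ≤ P ⊔ U) hψ, fun x => rfl, κ, hκ, fun x => hκe x⟩,
    hψe, (map_eq_iff_exists_aut hψ).mpr ⟨κ, hκe⟩⟩
  · rw [show ψ ⟨a, _⟩ = φ ⟨a, ha⟩ from hψe ⟨a, ha⟩]; exact hφT _
  · rw [show ψ ⟨b, _⟩ = ((κ ⟨b, hb⟩ : U) : Ω) from hκe ⟨b, hb⟩]; exact hUT (Subtype.mem _)

/-- The systems `N_F^K(U)` inherit the property. -/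
theorem centricFree_extSystem (hGood : SectionClosed Good) (hS : IsPGroup p S) (hF : F.IsSaturated p)
    (hfree : CentricFree F p Good) (hUr : F.IsReceptive U) {K : Subgroup (MulAut U)} (hT : IsKNormalizer S U K T)
    (hUT : U ≤ T) (hsat : (extSystem F hUr.1 K T hT).IsSaturated p) :
    CentricFree (extSystem F hUr.1 K T hT) p Good := by
  set G := extSystem F hUr.1 K T hT with hG
  have hTS : T ≤ S := hT.le
  have := finite_of_le hTS
  have hTp : IsPGroup p T := hS.to_le hTS
  have hCT : centralizerIn S U ≤ T := fun g hg => (hT g).mpr ⟨hg.1, 1, one_mem _,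
    fun x => ((mem_centralizerIn'.mp hg).2 x).symm⟩
  refine centricFree_of_radicalFree hGood hTp hsat fun R hRn hRc hRr N hN L _ ι hL => ?_
  have hUR : U ≤ R := IsNormal.le_centric_radical hTp (isNormal_extSystem hUr.1 hT hUT) hRc hRr
  have hRFc : F.IsCentric R := by
    refine ⟨hRn.1.trans hTS, fun P hP => ?_⟩
    obtain ⟨φ, hφ, rfl⟩ := hP
    obtain ⟨U', hU'⟩ : ∃ U', U' = (U.subgroupOf R).map φ := ⟨_, rfl⟩
    obtain ⟨φU, hφU, hφUr, hφUe⟩ := exists_restrict hφ hUR hU'.symm
    obtain ⟨γ, hγ, hγr, hγ1, -⟩ := exists_inv hφU hφUr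
    have hPN : φ.range ⊔ centralizerIn S φ.range ≤ extender S U' γ := by
      refine sup_le ?_ ((inf_le_inf_left S (Subgroup.centralizer_le (by
        rw [hU']; rintro _ ⟨x, -, rfl⟩; exact ⟨x, rfl⟩))).trans centralizerIn_le_extender)
      rintro _ ⟨r, rfl⟩
      have hrn : (r : Ω) ∈ Subgroup.normalizer (U : Set Ω) := hT.le_normalizer (hRn.1 r.2)
      have hmem : ∀ w ∈ U', φ r * w * (φ r)⁻¹ ∈ U' := by
        rw [hU']
        rintro _ ⟨x, hx, rfl⟩
        exact ⟨r * x * r⁻¹, (Subgroup.mem_normalizer_iff.mp hrn _).mp hx, by rw [map_mul, map_mul, map_inv]⟩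
      have : Finite U' := finite_of_le (le_S hγ)
      refine mem_extender.mpr ⟨apply_mem_S hφ r, mem_normalizer_of_forall hmem, r, hTS (hRn.1 r.2), fun w hw => ?_⟩
      obtain ⟨x, hx, hxw⟩ := hU'.le w.2
      have hx' : ((r * x * r⁻¹ : R) : Ω) ∈ U := (Subgroup.mem_normalizer_iff.mp hrn _).mp hx
      have e1 : (w : Ω) = φU ⟨x, hx⟩ := hxw.symm.trans (hφUe ⟨x, hx⟩).symm
      have e2 : φ r * (w : Ω) * (φ r)⁻¹ = φU ⟨_, hx'⟩ := by
        rw [hφUe, ← hxw]
        refine Eq.trans ?_ (apply_eq_of_coe_eq (φ := φ) (x := r * x * r⁻¹) rfl)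
        rw [map_mul, map_mul, map_inv]
      rw [apply_eq_of_coe_eq (φ := γ) (x := w) (y := ⟨φU ⟨x, hx⟩, hφUr.le ⟨_, rfl⟩⟩) e1,
        apply_eq_of_coe_eq (φ := γ) (x := ⟨_, hw⟩) (y := ⟨φU ⟨_, hx'⟩, hφUr.le ⟨_, rfl⟩⟩) e2, hγ1, hγ1]
      rfl
    have hU'le : U' ≤ φ.range ⊔ centralizerIn S φ.range := hU'.le.trans ((Subgroup.map_le_range φ _).trans le_sup_left)
    obtain ⟨η, hη, hηe⟩ := exists_extension hUr hγ hγr hU'le hPN
    obtain ⟨θ, hθ, hθe⟩ := exists_comp hφ hη fun r => Subgroup.mem_sup_left ⟨r, rfl⟩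
    have hθU : ∀ (r : R) (hr : (r : Ω) ∈ U), θ r = r := by
      intro r hr
      rw [hθe]
      refine Eq.trans ?_ (hγ1 ⟨r, hr⟩ (hφUr.le ⟨_, rfl⟩))
      refine Eq.trans ?_ (hηe _)
      exact apply_eq_of_coe_eq (hφUe ⟨r, hr⟩).symm
    have hθT : ∀ r : R, θ r ∈ T := fun r => by
      obtain ⟨κ, hκ, hκe⟩ := ((hT r).mp (hRn.1 r.2)).2
      refine (hT _).mpr ⟨apply_mem_S hθ r, κ, hκ, fun u => ?_⟩
      have hu : ((r * ⟨u, hUR u.2⟩ * r⁻¹ : R) : Ω) ∈ U := by
        show (r : Ω) * (u : Ω) * (r : Ω)⁻¹ ∈ U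
        rw [← hκe u]; exact (κ u).2
      have h1 := hθU _ hu
      rw [map_mul, map_mul, map_inv, hθU ⟨u, hUR u.2⟩ u.2] at h1
      rw [hκe u]
      exact h1.symm
    have hθG : θ ∈ G.Hom R := by
      refine ⟨hθ, hRn.1, hθT, _, restrict_mem (sup_le le_rfl hUR : R ⊔ U ≤ R) hθ, fun r => rfl, 1, one_mem _,
        fun u => hθU ⟨u, hUR u.2⟩ u.2⟩
    intro z hz
    have hzm : z ∈ φ.range ⊔ centralizerIn S φ.range := Subgroup.mem_sup_right hz
    have hc : η ⟨z, hzm⟩ ∈ centralizerIn T θ.range := by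
      have hc1 : ∀ w ∈ θ.range, w * η ⟨z, hzm⟩ = η ⟨z, hzm⟩ * w := by
        rintro _ ⟨r, rfl⟩
        rw [hθe, ← map_mul, ← map_mul]
        exact apply_eq_of_coe_eq ((mem_centralizerIn.mp hz).2 _ ⟨r, rfl⟩)
      refine mem_centralizerIn.mpr ⟨hCT (mem_centralizerIn.mpr ⟨apply_mem_S hη _, fun u hu => hc1 u ?_⟩), hc1⟩
      exact ⟨⟨u, hUR hu⟩, hθU ⟨u, hUR hu⟩ hu⟩
    obtain ⟨r, hr⟩ := hRc.2 _ ⟨θ, hθG, rfl⟩ hc
    rw [hθe] at hr
    exact ⟨r, congrArg Subtype.val (F.injective_of_mem hη hr)⟩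
  have : Finite (normalizerIn T R) := finite_of_le normalizerIn_le
  exact good_of_local hGood hS hF hfree (normalizerIn_le.trans hTS) (normalizerSystem_saturated hTp hsat hRn hN)
    (fun P φ hφ => ((hN P).le hφ).1.1) (normal_centric_in_normalizerSystem hRn.1 hRc hN).1 hRFc hL

/-- The normalizer systems inherit the property. -/
theorem centricFree_normalizerSystem (hGood : SectionClosed Good) (hS : IsPGroup p S) (hF : F.IsSaturated p)
    (hfree : CentricFree F p Good) (hQn : F.IsFullyNormalized Q)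
    {N : FusionSystem (normalizerIn S Q)} (hN : F.IsNormalizerSystem Q N) : CentricFree N p Good := by
  obtain ⟨-, hQr⟩ := fullyNormalized_good hS hF hQn
  have hUT : Q ≤ normalizerIn S Q := le_normalizerIn hQn.1
  have e : extSystem F hQr.1 ⊤ _ isKNormalizer_top = N := ext_hom fun P => by
    show extHom F Q ⊤ _ P = _
    rw [extHom_top, hN P]
  have := centricFree_extSystem hGood hS hF hfree hQr isKNormalizer_top hUT
    (e ▸ normalizerSystem_saturated hS hF hQn hN)
  rwa [e] at this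

end CfsgLib.Fusion
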