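import Cfsg.Agent.Lib.Fusion.Factor
import Cfsg.Agent.Lib.Fusion.Ext

/-!
Solvable fusion systems: series of strongly closed subgroups with abelian factors.
-/

set_option autoImplicit false

namespace CfsgLib.FusionSolvable

open Cfsg Cfsg.FusionSystem CfsgLib.Fusion CfsgLib.FusionExtend CfsgLib.FusionFactor
open scoped Pointwise commutatorElement

variable {Ω : Type*} [Group Ω] {S : Subgroup Ω} {F : FusionSystem S}

theorem sc_inf {A B : Subgroup Ω} (hA : F.StronglyClosed A) (hB : F.StronglyClosed B) :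
    F.StronglyClosed (A ⊓ B) :=
  ⟨inf_le_left.trans hA.1, fun _ hR _ hφ x =>
    ⟨sc_apply hA hφ x (hR x.2).1, sc_apply hB hφ x (hR x.2).2⟩⟩

/-- The product of two strongly closed subgroups of a saturated system is strongly closed. -/
theorem sc_sup [Finite S] {p : ℕ} [Fact p.Prime] (hS : IsPGroup p S) (hF : F.IsSaturated p)
    {A B : Subgroup Ω} (hA : F.StronglyClosed A) (hB : F.StronglyClosed B) :
    F.StronglyClosed (A ⊔ B) := by
  refine ⟨sup_le hA.1 hB.1, fun R hR φ hφ x => ?_⟩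
  obtain ⟨ψ, hψ, h⟩ := exists_congr_extension hS hF hA hφ
  have hx : (x : Ω) ∈ ((A : Set Ω) * (B : Set Ω)) := by
    rw [← Subgroup.coe_mul_of_right_le_normalizer_left A B (hB.1.trans (sc_normalizer hA))]
    exact hR x.2
  obtain ⟨a, ha, b, hb, hab⟩ := hx
  have ha' : a ∈ R ⊔ A := Subgroup.mem_sup_right ha
  have hb' : b ∈ R ⊔ A := by
    have := (R ⊔ A).mul_mem ((R ⊔ A).inv_mem ha') (Subgroup.mem_sup_left x.2)
    rwa [← hab, inv_mul_cancel_left] at this
  have e : ψ ⟨x, Subgroup.mem_sup_left x.2⟩ = ψ ⟨a, ha'⟩ * ψ ⟨b, hb'⟩ := by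
    rw [← map_mul]
    exact congrArg ψ (Subtype.ext hab.symm)
  have e3 : ψ ⟨x, Subgroup.mem_sup_left x.2⟩ ∈ A ⊔ B := e ▸ Subgroup.mul_mem _
    (Subgroup.mem_sup_left (sc_apply hA hψ ⟨a, ha'⟩ ha)) (Subgroup.mem_sup_right (sc_apply hB hψ ⟨b, hb'⟩ hb))
  have e4 := Subgroup.mul_mem _ e3 (Subgroup.inv_mem _ (Subgroup.mem_sup_left (T := B) (h x)))
  simpa [mul_assoc] using e4

/-- A normal subgroup is strongly closed. -/
theorem sc_of_normal {Q : Subgroup Ω} (hQ : F.IsNormal Q) : F.StronglyClosed Q := by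
  refine ⟨hQ.1, fun R hR φ hφ x => ?_⟩
  obtain ⟨ψ, -, hψe, hψQ⟩ := hQ.2 R φ hφ
  rw [← hψe]
  exact hψQ.le ⟨_, hR x.2, rfl⟩

/-- The centralizer in `S` of a normal subgroup is strongly closed. -/
theorem sc_centralizerIn {Q : Subgroup Ω} (hQ : F.IsNormal Q) :
    F.StronglyClosed (centralizerIn S Q) := by
  refine ⟨centralizerIn_le, fun R hR φ hφ x => ?_⟩
  obtain ⟨ψ, -, hψe, hψQ⟩ := hQ.2 R φ hφ
  refine mem_centralizerIn'.mpr ⟨apply_mem_S hφ x, fun y => ?_⟩
  obtain ⟨z, hz, hzy⟩ := hψQ.ge y.2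
  rw [← hψe, ← hzy, ← map_inv, ← map_mul, ← map_mul]
  refine apply_eq_of_coe_eq ?_
  exact (mem_centralizerIn'.mp (hR x.2)).2 ⟨z, hz⟩

/-- A nontrivial normal subgroup yields a nontrivial abelian strongly closed subgroup. -/
theorem exists_abelian_sc [Finite S] {p : ℕ} [Fact p.Prime] (hS : IsPGroup p S) {Q : Subgroup Ω}
    (hQ : F.IsNormal Q) (hne : Q ≠ ⊥) :
    ∃ A, F.StronglyClosed A ∧ A ≠ ⊥ ∧ ⁅A, A⁆ = ⊥ := by
  refine ⟨Q ⊓ centralizerIn S Q, sc_inf (sc_of_normal hQ) (sc_centralizerIn hQ), ?_, ?_⟩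
  · have := finite_of_le hQ.1
    have : Nontrivial Q := (Subgroup.nontrivial_iff_ne_bot Q).mpr hne
    have := (hS.to_le hQ.1).center_nontrivial
    obtain ⟨⟨z, hz⟩, hz1⟩ := exists_ne (1 : Subgroup.center Q)
    intro h
    have hm : (z : Ω) ∈ Q ⊓ centralizerIn S Q := ⟨z.2, mem_centralizerIn.mpr ⟨hQ.1 z.2, fun y hy =>
      congrArg Subtype.val (Subgroup.mem_center_iff.mp hz ⟨y, hy⟩)⟩⟩
    rw [h, Subgroup.mem_bot] at hm
    exact hz1 (Subtype.ext (Subtype.ext hm))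
  · rw [Subgroup.commutator_eq_bot_iff_le_centralizer]
    exact fun a ha b hb => (mem_centralizerIn.mp ha.2).2 b hb.1

variable {Ω' : Type*} [Group Ω'] {θ : S →* Ω'} {S₀ : Subgroup Ω} {S' : Subgroup Ω'} {E : FusionSystem S'}

/-- Preimages of strongly closed subgroups of a factor system are strongly closed. -/
theorem sc_preimageAlong [Finite S] {p : ℕ} [Fact p.Prime] (hS : IsPGroup p S) (hF : F.IsSaturated p)
    (hA : F.StronglyClosed S₀) (hE : F.IsFactorSystem S₀ θ E) {U' : Subgroup Ω'}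
    (hU : E.StronglyClosed U') : F.StronglyClosed (preimageAlong θ U') := by
  refine ⟨preimageAlong_le U', fun R hR φ hφ x => ?_⟩
  obtain ⟨φ', hφ', hP, hφS, hm, e⟩ := exists_map_induced hS hF hA hE hφ
  refine mem_preimageAlong.mpr ⟨hφS x, ?_⟩
  rw [← e x]
  refine hU.2 _ ?_ φ' hφ' _
  rintro _ ⟨s, hs, rfl⟩
  exact map_mem_of_mem_preimageAlong (hR hs) s.2

/-- Images of strongly closed subgroups in a factor system are strongly closed. -/
theorem sc_imageAlong [Finite S] {p : ℕ} [Fact p.Prime] (hS : IsPGroup p S) (hF : F.IsSaturated p)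
    (hA : F.StronglyClosed S₀) (hE : F.IsFactorSystem S₀ θ E) {U : Subgroup Ω}
    (hU : F.StronglyClosed U) : E.StronglyClosed (imageAlong θ U) := by
  obtain ⟨-, hk, hr, hHom⟩ := hE
  refine ⟨hr ▸ imageAlong_le_range U, fun R' hR' φ' hφ' y => ?_⟩
  obtain ⟨hRS', φ, hφ, hP, hφS, hm, e⟩ := (hHom _ _).mp hφ'
  obtain ⟨x, hx, hxP, hxy⟩ := exists_preimage (hr.symm ▸ hRS') y
  have hy : y = ⟨θ ⟨x, hP hxP⟩, hm ⟨x, hxP⟩⟩ := Subtype.ext hxy.symm
  rw [hy, e ⟨x, hxP⟩]
  have hxU : x ∈ U ⊔ S₀ := by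
    rw [← preimageAlong_imageAlong hk hA.1 hU.1]
    exact mem_preimageAlong.mpr ⟨hx, hxy ▸ hR' y.2⟩
  have h2 := sc_apply (sc_sup hS hF hU hA) hφ ⟨x, hxP⟩ hxU
  rw [← preimageAlong_imageAlong hk hA.1 hU.1] at h2
  exact map_mem_of_mem_preimageAlong h2 (hφS _)

theorem commutator_imageAlong_le {A B C : Subgroup Ω} (hA : A ≤ S) (h : ⁅A, B⁆ ≤ C) :
    ⁅imageAlong θ A, imageAlong θ B⁆ ≤ imageAlong θ C := by
  rw [Subgroup.commutator_le]
  rintro _ ⟨a, ha, rfl⟩ _ ⟨b, hb, rfl⟩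
  rw [← map_commutatorElement]
  refine ⟨_, ?_, rfl⟩
  exact h ((map_commutatorElement S.subtype a b).symm ▸
    Subgroup.commutator_mem_commutator (show (a : Ω) ∈ A from ha) (show (b : Ω) ∈ B from hb))

theorem commutator_preimageAlong_le {A B C : Subgroup Ω'} (h : ⁅A, B⁆ ≤ C) :
    ⁅preimageAlong θ A, preimageAlong θ B⁆ ≤ preimageAlong θ C := by
  rw [Subgroup.commutator_le]
  rintro _ ⟨a, ha, rfl⟩ _ ⟨b, hb, rfl⟩
  refine ⟨⁅a, b⁆, ?_, map_commutatorElement _ _ _⟩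
  show θ ⁅a, b⁆ ∈ C
  rw [map_commutatorElement]
  exact h (Subgroup.commutator_mem_commutator ha hb)

theorem imageAlong_mono {A B : Subgroup Ω} (h : A ≤ B) : imageAlong θ A ≤ imageAlong θ B := by
  rintro _ ⟨s, hs, rfl⟩
  exact ⟨s, h hs, rfl⟩

theorem preimageAlong_mono {A B : Subgroup Ω'} (h : A ≤ B) : preimageAlong θ A ≤ preimageAlong θ B :=
  fun _ hx => mem_preimageAlong.mpr ⟨(mem_preimageAlong.mp hx).1, h (mem_preimageAlong.mp hx).2⟩

/-- A series of strongly closed subgroups with abelian factors from `R` up to `U`. -/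
def HasSeries (F : FusionSystem S) (R U : Subgroup Ω) : Prop :=
  ∃ (n : ℕ) (T : ℕ → Subgroup Ω), T 0 = R ∧ T n = U ∧ Monotone T ∧ (∀ i, F.StronglyClosed (T i)) ∧
    ∀ i, ⁅T (i + 1), T (i + 1)⁆ ≤ T i

theorem hasSeries_refl {R : Subgroup Ω} (hR : F.StronglyClosed R) : HasSeries F R R :=
  ⟨0, fun _ => R, rfl, rfl, monotone_const, fun _ => hR, fun _ => Subgroup.commutator_le_self R⟩

theorem hasSeries_step {R U V : Subgroup Ω} (hR : F.StronglyClosed R) (hRU : R ≤ U)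
    (hc : ⁅U, U⁆ ≤ R) (h : HasSeries F U V) : HasSeries F R V := by
  obtain ⟨n, T, h0, hn, hm, hs, hk⟩ := h
  refine ⟨n + 1, fun i => if i = 0 then R else T (i - 1), rfl, by simpa using hn, ?_, ?_, ?_⟩
  · refine monotone_nat_of_le_succ fun i => ?_
    rcases i with _ | i
    · simpa [h0] using hRU
    · simpa using hm (Nat.le_succ i)
  · intro i
    rcases i with _ | i
    · simpa using hR
    · simpa using hs i
  · intro i
    rcases i with _ | i
    · simpa [h0] using hc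
    · simpa using hk i

theorem hasSeries_trans {R U V : Subgroup Ω} (h₁ : HasSeries F R U) (h₂ : HasSeries F U V) :
    HasSeries F R V := by
  obtain ⟨n, T, h0, hn, hm, hs, hk⟩ := h₁
  induction n generalizing R T with
  | zero => rw [show R = U from h0.symm.trans hn]; exact h₂
  | succ n ih =>
    refine hasSeries_step (h0 ▸ hs 0) (h0 ▸ hm (Nat.zero_le 1)) (h0 ▸ hk 0) ?_
    exact ih (fun i => T (i + 1)) rfl hn (fun _ _ h => hm (by omega)) (fun i => hs _) fun i => hk _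

theorem hasSeries_bot_iff [Finite S] :
    HasSeries F ⊥ S ↔ ∃ (n : ℕ) (T : Fin (n + 1) → Subgroup Ω), T 0 = ⊥ ∧ T (Fin.last n) = S ∧
      Monotone T ∧ (∀ i, F.StronglyClosed (T i)) ∧
      ∀ i : Fin n, ⁅T i.succ, T i.succ⁆ ≤ T (Fin.castSucc i) := by
  constructor
  · rintro ⟨n, T, h0, hn, hm, hs, hk⟩
    exact ⟨n, fun i => T i, h0, hn, fun a b h => hm (Fin.val_fin_le.mpr h), fun i => hs _, fun i => hk _⟩
  · rintro ⟨n, T, h0, hn, hm, hs, hk⟩
    refine ⟨n, fun i => T ⟨min i n, by omega⟩, ?_, ?_, ?_, fun i => hs _, fun i => ?_⟩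
    · simpa using h0
    · rw [← hn]
      exact congrArg T (Fin.ext (by simp))
    · intro a b h
      exact hm (Fin.mk_le_mk.mpr (by omega))
    · by_cases hi : i < n
      · have h1 : (⟨min (i + 1) n, by omega⟩ : Fin (n + 1)) = (⟨i, hi⟩ : Fin n).succ :=
          Fin.ext (by simp; omega)
        have h2 : (⟨min i n, by omega⟩ : Fin (n + 1)) = (⟨i, hi⟩ : Fin n).castSucc :=
          Fin.ext (by simp; omega)
        show ⁅T ⟨min (i + 1) n, _⟩, T ⟨min (i + 1) n, _⟩⁆ ≤ T ⟨min i n, _⟩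
        rw [h1, h2]
        exact hk _
      · have h2 : (⟨min (i + 1) n, by omega⟩ : Fin (n + 1)) = ⟨min i n, by omega⟩ :=
          Fin.ext (by simp; omega)
        show ⁅T ⟨min (i + 1) n, _⟩, T ⟨min (i + 1) n, _⟩⁆ ≤ T ⟨min i n, _⟩
        rw [h2]
        exact Subgroup.commutator_le_self _

theorem normal_subgroupOf {R : Subgroup Ω} (hR : F.StronglyClosed R) : (R.subgroupOf S).Normal :=
  (Subgroup.normal_subgroupOf_iff_le_normalizer hR.1).mpr (sc_normalizer hR)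

theorem quotient_ker {R : Subgroup Ω} [(R.subgroupOf S).Normal] (s : S) :
    QuotientGroup.mk' (R.subgroupOf S) s = 1 ↔ (s : Ω) ∈ R := by
  rw [QuotientGroup.mk'_apply, QuotientGroup.eq_one_iff, Subgroup.mem_subgroupOf]

theorem exists_quotientFactor [Finite S] {R : Subgroup Ω} (hR : F.StronglyClosed R)
    [(R.subgroupOf S).Normal] :
    ∃ E : FusionSystem (⊤ : Subgroup (S ⧸ R.subgroupOf S)),
      F.IsFactorSystem R (QuotientGroup.mk' (R.subgroupOf S)) E := by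
  have h := factorSystem_isFactorSystem (θ := QuotientGroup.mk' (R.subgroupOf S)) quotient_ker hR
  have hr : (QuotientGroup.mk' (R.subgroupOf S)).range = ⊤ :=
    MonoidHom.range_eq_top.mpr (QuotientGroup.mk'_surjective _)
  obtain ⟨E, hE⟩ : ∃ E : FusionSystem (QuotientGroup.mk' (R.subgroupOf S)).range,
      F.IsFactorSystem R (QuotientGroup.mk' (R.subgroupOf S)) E := ⟨_, h⟩
  revert E
  rw [hr]
  exact fun E hE => ⟨E, hE⟩

theorem isSolvable_of_hasSeries [Finite S] {p : ℕ} [Fact p.Prime] (hS : IsPGroup p S)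
    (hF : F.IsSaturated p) (h : HasSeries F ⊥ S) : F.IsSolvableSystem := by
  obtain ⟨n, T, h0, hn, hm, hs, hk⟩ := h
  intro R hR hRS _ E hE
  have hSR : ¬ T n ≤ R := fun hle => hRS (le_antisymm hR.1 (hn ▸ hle))
  obtain ⟨i, hi, hi'⟩ : ∃ i, T i ≤ R ∧ ¬ T (i + 1) ≤ R := by
    by_contra hcon
    push Not at hcon
    have : ∀ i, T i ≤ R := fun i => by
      induction i with
      | zero => rw [h0]; exact bot_le
      | succ i ih => exact hcon i ih
    exact hSR (this n)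
  set θ := QuotientGroup.mk' (R.subgroupOf S)
  have hEs := isSaturated_factor hS hF hR hE
  have hp : IsPGroup p (⊤ : Subgroup (S ⧸ R.subgroupOf S)) :=
    (hS.to_quotient (R.subgroupOf S)).to_subgroup ⊤
  have hAsc := sc_imageAlong hS hF hR hE (hs (i + 1))
  have hcomm : ⁅imageAlong θ (T (i + 1)), imageAlong θ (T (i + 1))⁆ = ⊥ := by
    refine eq_bot_iff.mpr ((commutator_imageAlong_le (hs _).1 (hk i)).trans ?_)
    rintro _ ⟨s, hs', rfl⟩
    exact Subgroup.mem_bot.mpr ((quotient_ker s).mpr (hi hs'))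
  have hle : imageAlong θ (T (i + 1)) ≤ E.core := le_sSup (isNormal_of_abelian hp hEs hAsc hcomm)
  intro hcore
  refine hi' fun x hx => ?_
  have hxm : θ ⟨x, (hs _).1 hx⟩ ∈ E.core := hle ⟨_, hx, rfl⟩
  rw [hcore, Subgroup.mem_bot] at hxm
  exact (quotient_ker _).mp hxm

theorem hasSeries_of_isSolvable [Finite S] {p : ℕ} [Fact p.Prime] (hS : IsPGroup p S)
    (hF : F.IsSaturated p) (h : F.IsSolvableSystem) : HasSeries F ⊥ S := by
  suffices key : ∀ (n : ℕ) (R : Subgroup Ω), Nat.card S - Nat.card R < n → F.StronglyClosed R →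
      HasSeries F R S from key _ ⊥ (Nat.lt_succ_self _) sc_bot
  intro n
  induction n with
  | zero => intro R h; omega
  | succ n ih =>
  intro R hn hR
  by_cases hRS : R = S
  · subst hRS; exact hasSeries_refl hR
  have := normal_subgroupOf hR
  obtain ⟨E, hE⟩ := exists_quotientFactor hR
  have hcore := h R hR hRS E hE
  have hp : IsPGroup p (⊤ : Subgroup (S ⧸ R.subgroupOf S)) :=
    (hS.to_quotient (R.subgroupOf S)).to_subgroup ⊤
  obtain ⟨A, hA, hA1, hAc⟩ := exists_abelian_sc hp (CfsgLib.FusionExt.isNormal_core E) hcore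
  set U := preimageAlong (QuotientGroup.mk' (R.subgroupOf S)) A with hU
  have hUsc := sc_preimageAlong hS hF hR hE hA
  have hRU : R ≤ U := kernel_le_preimageAlong quotient_ker hR.1 A
  have hlt : R < U := by
    refine lt_of_le_of_ne hRU fun he => hA1 (eq_bot_iff.mpr fun a ha => ?_)
    obtain ⟨x, hx, hxU, hxa⟩ := exists_preimage (θ := QuotientGroup.mk' (R.subgroupOf S))
      (fun y _ => QuotientGroup.mk'_surjective _ y) ⟨a, ha⟩
    have hxR : x ∈ R := he.symm ▸ hxU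
    dsimp only at hxa
    rw [Subgroup.mem_bot, ← hxa]
    exact (quotient_ker ⟨x, hx⟩).mpr hxR
  refine hasSeries_step hR hRU ?_ (ih U ?_ hUsc)
  · refine (commutator_preimageAlong_le (C := ⊥) hAc.le).trans ?_
    intro x hx
    obtain ⟨hxS, hx'⟩ := mem_preimageAlong.mp hx
    exact (quotient_ker ⟨x, hxS⟩).mp (Subgroup.mem_bot.mp hx')
  · have := finite_of_le hUsc.1
    have h1 : Nat.card R < Nat.card U :=
      lt_of_not_ge fun hle => hlt.ne (eq_of_le_of_card_le hRU hle)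
    have h2 : Nat.card U ≤ Nat.card S := Subgroup.card_le_of_le hUsc.1
    omega

theorem isSolvable_iff [Finite S] {p : ℕ} [Fact p.Prime] (hS : IsPGroup p S) (hF : F.IsSaturated p) :
    F.IsSolvableSystem ↔ HasSeries F ⊥ S :=
  ⟨hasSeries_of_isSolvable hS hF, isSolvable_of_hasSeries hS hF⟩

/-- A solvable saturated system is constrained. -/
theorem isConstrained_of_isSolvable [Finite S] {p : ℕ} [Fact p.Prime] (hS : IsPGroup p S)
    (hF : F.IsSaturated p) (h : F.IsSolvableSystem) : F.IsConstrained p := by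
  obtain ⟨n, T, h0, hn, hm, hs, hk⟩ := hasSeries_of_isSolvable hS hF h
  have hQ := CfsgLib.FusionExt.isNormal_core F
  set Q := F.core
  have hQsc := sc_of_normal hQ
  set U := centralizerIn S Q
  have hUsc := sc_centralizerIn hQ
  have hUQ : U ≤ Q := by
    by_contra hUQ
    obtain ⟨i, hi, hi'⟩ : ∃ i, T i ⊓ U ≤ Q ∧ ¬ T (i + 1) ⊓ U ≤ Q := by
      by_contra hcon
      push Not at hcon
      have : ∀ i, T i ⊓ U ≤ Q := fun i => by
        induction i with
        | zero => rw [h0]; exact inf_le_left.trans bot_le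
        | succ i ih => exact hcon i ih
      refine hUQ fun x hx => this n ⟨?_, hx⟩
      rw [hn]; exact hUsc.1 hx
    set A := T (i + 1) ⊓ U with hAdef
    have hA := sc_inf (hs (i + 1)) hUsc
    have hnorm : F.IsNormal A := by
      refine isNormal_of_central_series hS hF hA
        (fun j => if j = 0 then ⊥ else if j = 1 then A ⊓ Q else A) 2 rfl rfl (fun j => ?_) fun j hj => ?_
      · split_ifs
        · exact sc_bot
        · exact sc_inf hA hQsc
        · exact hA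
      · rcases j with _ | _ | j
        · refine le_bot_iff.mpr ?_
          show ⁅A ⊓ Q, A⁆ = ⊥
          rw [Subgroup.commutator_eq_bot_iff_le_centralizer]
          exact fun a ha b hb => ((mem_centralizerIn.mp hb.2).2 a ha.2).symm
        · show ⁅A, A⁆ ≤ A ⊓ Q
          refine le_inf (Subgroup.commutator_le_self A) (le_trans ?_ hi)
          refine le_inf ((Subgroup.commutator_mono inf_le_left inf_le_left).trans (hk i)) ?_
          exact (Subgroup.commutator_mono inf_le_right inf_le_right).trans (Subgroup.commutator_le_self U)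
        · omega
    exact hi' (le_sSup hnorm)
  refine ⟨hF, Q, hQ, hQ.1, fun Q' hQ' => ?_⟩
  obtain ⟨φ, hφ, rfl⟩ := hQ'
  have : φ.range = Q := by
    refine range_eq_of_card_le hφ hQ.1 (fun x => sc_apply hQsc hφ x x.2) le_rfl
  rw [this]
  exact hUQ

variable {T : Subgroup Ω} {D : FusionSystem T}

theorem hasSeries_subsystem [Finite S] (hD : D.IsSubsystemOf F) (hT : T ≤ S) (h : HasSeries F ⊥ S) :
    HasSeries D ⊥ T := by
  obtain ⟨n, U, h0, hn, hm, hs, hk⟩ := h
  refine ⟨n, fun i => U i ⊓ T, by simp [h0], by simpa [hn] using hT, fun a b hab => inf_le_inf_right _ (hm hab),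
    fun i => ⟨inf_le_right, fun R hR φ hφ x => ⟨sc_apply (hs i) (hD R hφ) x (hR x.2).1, apply_mem_S hφ x⟩⟩,
    fun i => le_inf ((Subgroup.commutator_mono inf_le_left inf_le_left).trans (hk i))
      ((Subgroup.commutator_mono inf_le_right inf_le_right).trans (Subgroup.commutator_le_self T))⟩

theorem hasSeries_factor [Finite S] {p : ℕ} [Fact p.Prime] (hS : IsPGroup p S) (hF : F.IsSaturated p)
    (hA : F.StronglyClosed S₀) (hE : F.IsFactorSystem S₀ θ E) (h : HasSeries F ⊥ S) :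
    HasSeries E ⊥ S' := by
  obtain ⟨n, U, h0, hn, hm, hs, hk⟩ := h
  refine ⟨n, fun i => imageAlong θ (U i), ?_, ?_, fun a b hab => imageAlong_mono (hm hab),
    fun i => sc_imageAlong hS hF hA hE (hs i), fun i => commutator_imageAlong_le (hs _).1 (hk i)⟩
  · dsimp only; rw [h0]; refine eq_bot_iff.mpr ?_
    rintro _ ⟨s, hs', rfl⟩
    have : s = 1 := Subtype.ext (Subgroup.mem_bot.mp hs')
    rw [Subgroup.mem_bot, this, map_one]
  · dsimp only; rw [hn, ← hE.2.2.1]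
    refine le_antisymm (imageAlong_le_range S) ?_
    rintro _ ⟨s, rfl⟩
    exact ⟨s, s.2, rfl⟩

/-- A series of an invariant subsystem gives a series of the system below its group. -/
theorem hasSeries_of_invariant [Finite S] (hD : D.IsInvariantIn F) (h : HasSeries D ⊥ T) :
    HasSeries F ⊥ T := by
  obtain ⟨n, W, h0, hn, hm, hs, hk⟩ := h
  have hTS := hD.2.1.1
  let U : ℕ → Subgroup Ω := fun i =>
    ((⨅ α : F.autGroup T, ((W i).subgroupOf T).comap (α : MulAut T).toMonoidHom)).map T.subtype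
  have hmem : ∀ i (x : Ω), x ∈ U i ↔
      ∃ hx : x ∈ T, ∀ α : F.autGroup T, (((α : MulAut T) ⟨x, hx⟩ : T) : Ω) ∈ W i := fun i x => by
    constructor
    · rintro ⟨y, hy, rfl⟩
      exact ⟨y.2, fun α => Subgroup.mem_subgroupOf.mp (Subgroup.mem_iInf.mp hy α)⟩
    · rintro ⟨hx, h⟩
      exact ⟨⟨x, hx⟩, Subgroup.mem_iInf.mpr fun α => Subgroup.mem_subgroupOf.mpr (h α), rfl⟩
  refine ⟨n, U, ?_, ?_, fun a b hab x hx => ?_, fun i => ?_, fun i => ?_⟩
  · refine eq_bot_iff.mpr fun x hx => ?_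
    obtain ⟨hxT, h⟩ := (hmem 0 x).mp hx
    have h1 := h 1
    rw [h0, Subgroup.mem_bot] at h1
    exact Subgroup.mem_bot.mpr h1
  · refine le_antisymm (Subgroup.map_subtype_le _) fun x hx => (hmem n x).mpr ⟨hx, fun α => ?_⟩
    rw [hn]; exact Subtype.mem _
  · obtain ⟨hxT, h⟩ := (hmem a x).mp hx
    exact (hmem b x).mpr ⟨hxT, fun α => hm hab (h α)⟩
  · refine ⟨(Subgroup.map_subtype_le _).trans hTS, fun R hR φ hφ x => ?_⟩
    have hRT : R ≤ T := hR.trans (Subgroup.map_subtype_le _)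
    obtain ⟨β, hβ, φ₀, hφ₀, he⟩ := hD.2.2.2 R hRT φ hφ
    refine (hmem i _).mpr ⟨hD.2.1.2 R hRT φ hφ x, fun α => ?_⟩
    have hφ₀T : φ₀ x ∈ T := apply_mem_S hφ₀ x
    have hγ : (α : MulAut T) * β ∈ F.autGroup T := (F.autGroup T).mul_mem α.2 hβ
    obtain ⟨χ, hχ, hχe⟩ := hD.2.2.1 R hRT φ₀ hφ₀ _ hγ
    have hx' : (((((α : MulAut T) * β) : MulAut T) ⟨x, hRT x.2⟩ : T) : Ω) ∈
        (R.subgroupOf T).map (T.subtype.comp ((α : MulAut T) * β).toMonoidHom) :=
      ⟨⟨x, hRT x.2⟩, x.2, rfl⟩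
    have h1 := hχe x hφ₀T hx'
    have h2 : χ ⟨_, hx'⟩ ∈ W i := by
      refine (hs i).2 _ ?_ χ hχ _
      rintro _ ⟨z, hz, rfl⟩
      obtain ⟨hzT, hzW⟩ := (hmem i _).mp (hR hz)
      exact hzW ⟨_, hγ⟩
    rw [h1] at h2
    have h3 : (⟨φ x, hD.2.1.2 R hRT φ hφ x⟩ : T) = β ⟨φ₀ x, hφ₀T⟩ := Subtype.ext (he x hφ₀T)
    rw [h3]
    exact h2
  · rw [Subgroup.commutator_le]
    intro a ha b hb
    obtain ⟨haT, ha'⟩ := (hmem _ a).mp ha
    obtain ⟨hbT, hb'⟩ := (hmem _ b).mp hb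
    refine (hmem i _).mpr ⟨(⁅(⟨a, haT⟩ : T), (⟨b, hbT⟩ : T)⁆ : T).2, fun α => ?_⟩
    have h1 := hk i (Subgroup.commutator_mem_commutator (ha' α) (hb' α))
    have h2 : (⟨⁅a, b⁆, (⁅(⟨a, haT⟩ : T), (⟨b, hbT⟩ : T)⁆ : T).2⟩ : T) = ⁅(⟨a, haT⟩ : T), (⟨b, hbT⟩ : T)⁆ := rfl
    rw [h2, map_commutatorElement]
    exact h1

theorem hasSeries_preimage [Finite S] {p : ℕ} [Fact p.Prime] (hS : IsPGroup p S) (hF : F.IsSaturated p)
    (hA : F.StronglyClosed S₀) (hE : F.IsFactorSystem S₀ θ E) (h : HasSeries E ⊥ S') :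
    HasSeries F S₀ S := by
  obtain ⟨n, V, h0, hn, hm, hs, hk⟩ := h
  refine ⟨n, fun i => preimageAlong θ (V i), ?_, ?_, fun a b hab => preimageAlong_mono (hm hab),
    fun i => sc_preimageAlong hS hF hA hE (hs i), fun i => commutator_preimageAlong_le (hk i)⟩
  · dsimp only; rw [h0]
    refine le_antisymm (fun x hx => ?_) (kernel_le_preimageAlong hE.2.1 hE.1 ⊥)
    obtain ⟨hxS, hx'⟩ := mem_preimageAlong.mp hx
    exact (hE.2.1 ⟨x, hxS⟩).mp (Subgroup.mem_bot.mp hx')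
  · dsimp only; rw [hn, ← hE.2.2.1]
    exact le_antisymm (preimageAlong_le _) fun x hx => mem_preimageAlong.mpr ⟨hx, ⟨x, hx⟩, rfl⟩

end CfsgLib.FusionSolvable
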