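import Cfsg.Agent.Lib.Fusion.Alperin
import Cfsg.Agent.Lib.Coprime.Basic

/-!
# A 2-group all whose elements are conjugate to central elements in a saturated system is abelian

The argument uses heights: the height of an involution is the largest power of 2 of which a conjugate of it
is a power in the centre.
-/

set_option autoImplicit false

namespace CfsgLib.FusionCentralTwo

open Cfsg Cfsg.FusionSystem CfsgLib.Fusion

variable {Ω : Type*} [Group Ω] {S : Subgroup Ω} {F : FusionSystem S}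

/-- The centre of `S`, as a subgroup of the ambient group. -/
def zen (S : Subgroup Ω) : Subgroup Ω := S ⊓ Subgroup.centralizer (S : Set Ω)

/-- The centraliser in `S` of an element. -/
def cen (S : Subgroup Ω) (x : Ω) : Subgroup Ω := centralizerIn S (Subgroup.zpowers x)

theorem mem_cen {x g : Ω} : g ∈ cen S x ↔ g ∈ S ∧ Commute g x := by
  rw [cen, mem_centralizerIn]
  refine and_congr_right fun _ => ⟨fun h => (h x (Subgroup.mem_zpowers x)).symm, ?_⟩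
  rintro h _ ⟨i, rfl⟩
  exact (h.zpow_right i).symm

theorem cen_le {x : Ω} : cen S x ≤ S := centralizerIn_le

theorem comm_of_zen {z g : Ω} (hz : z ∈ zen S) (hg : g ∈ S) : Commute g z :=
  Subgroup.mem_centralizer_iff.mp hz.2 g hg

theorem cen_eq_of_zen {z : Ω} (hz : z ∈ zen S) : cen S z = S :=
  le_antisymm cen_le fun _ hg => mem_cen.mpr ⟨hg, comm_of_zen hz hg⟩

theorem mem_zen_of_cen {x : Ω} (hx : x ∈ S) (h : S ≤ cen S x) : x ∈ zen S :=
  ⟨hx, Subgroup.mem_centralizer_iff.mpr fun g hg => (mem_cen.mp (h hg)).2.eq⟩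

variable [Finite S]

theorem cen_lt_of_not_zen {x : Ω} (hx : x ∈ S) (h : x ∉ zen S) : cen S x < S :=
  lt_of_le_of_ne cen_le fun e => h (mem_zen_of_cen hx e.ge)

/-- `F`-conjugacy of elements, with a map on a given domain. -/
theorem isConjElt_of_map {P : Subgroup Ω} {φ : P →* Ω} (hφ : φ ∈ F.Hom P) (x : P) :
    F.IsConjElt (x : Ω) (φ x) :=
  ⟨_, restrict_mem ((Subgroup.zpowers_le).mpr x.2) hφ, apply_eq_of_coe_eq rfl⟩

theorem isConjElt_mem {x y : Ω} (h : F.IsConjElt x y) : x ∈ S ∧ y ∈ S := by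
  obtain ⟨φ, hφ, rfl⟩ := h
  exact ⟨le_S hφ (Subgroup.mem_zpowers x), apply_mem_S hφ _⟩

theorem isConjElt_pow {x y : Ω} (h : F.IsConjElt x y) (k : ℕ) : F.IsConjElt (x ^ k) (y ^ k) := by
  obtain ⟨φ, hφ, rfl⟩ := h
  rw [← map_pow]
  exact isConjElt_of_map hφ (⟨x, Subgroup.mem_zpowers x⟩ ^ k)

theorem isConjElt_symm {x y : Ω} (h : F.IsConjElt x y) : F.IsConjElt y x := by
  obtain ⟨φ, hφ, rfl⟩ := h
  obtain ⟨ψ, hψ, h'⟩ := F.inv_mem hφ
  have := isConjElt_of_map hψ ⟨_, ⟨⟨x, Subgroup.mem_zpowers x⟩, rfl⟩⟩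
  rwa [h'] at this

theorem isConjElt_trans {x y w : Ω} (h : F.IsConjElt x y) (h' : F.IsConjElt y w) : F.IsConjElt x w := by
  obtain ⟨φ, hφ, rfl⟩ := h
  obtain ⟨ψ, hψ, rfl⟩ := h'
  have hm : ∀ a : Subgroup.zpowers x, φ a ∈ Subgroup.zpowers (φ ⟨x, Subgroup.mem_zpowers x⟩) := by
    rintro ⟨_, i, rfl⟩
    exact ⟨i, (map_zpow φ ⟨x, Subgroup.mem_zpowers x⟩ i).symm.trans (apply_eq_of_coe_eq rfl)⟩
  obtain ⟨χ, hχ, hχe⟩ := exists_comp hφ hψ hm
  exact ⟨χ, hχ, (hχe _).trans rfl⟩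

variable (hS : IsPGroup 2 S) (hF : F.IsSaturated 2)
include hS hF

/-- A map from the centraliser sending an element to a central one. -/
theorem exists_map_central {x z : Ω} (hz : z ∈ zen S) (h : F.IsConjElt x z) :
    ∃ φ ∈ F.Hom (cen S x), ∀ hx : x ∈ cen S x, φ ⟨x, hx⟩ = z := by
  obtain ⟨φ, hφ, hφx⟩ := h
  have hxS : Subgroup.zpowers x ≤ S := le_S hφ
  have hzS : Subgroup.zpowers z ≤ S := Subgroup.zpowers_le.mpr hz.1
  have hr : φ.range = Subgroup.zpowers z := by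
    ext y
    constructor
    · rintro ⟨⟨_, i, rfl⟩, rfl⟩
      refine ⟨i, ?_⟩
      show z ^ i = _
      rw [← hφx]
      exact (map_zpow φ ⟨x, Subgroup.mem_zpowers x⟩ i).symm.trans (apply_eq_of_coe_eq rfl)
    · rintro ⟨i, rfl⟩
      exact ⟨⟨x, Subgroup.mem_zpowers x⟩ ^ i, by rw [map_zpow, hφx]⟩
  have hfc : F.IsFullyCentralized (Subgroup.zpowers z) := ⟨hzS, fun R _ => by
    rw [show centralizerIn S (Subgroup.zpowers z) = S from cen_eq_of_zen hz]
    exact Subgroup.card_le_of_le centralizerIn_le⟩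
  have hxC : Subgroup.zpowers x ≤ cen S x := Subgroup.zpowers_le.mpr
    (mem_cen.mpr ⟨hxS (Subgroup.mem_zpowers x), Commute.refl x⟩)
  obtain ⟨ψ, hψ, hψe⟩ := exists_extension (receptive_of_fullyCentralized hS hF hfc) hφ hr hxC
    centralizerIn_le_extender
  exact ⟨ψ, hψ, fun hx => (hψe ⟨x, Subgroup.mem_zpowers x⟩).trans hφx⟩

/-- Conjugate central elements are conjugate by automorphisms of `S`. -/
theorem exists_aut_central {a z : Ω} (ha : a ∈ zen S) (hz : z ∈ zen S) (h : F.IsConjElt a z) :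
    ∃ φ ∈ F.Hom S, φ.range = S ∧ φ ⟨a, ha.1⟩ = z := by
  obtain ⟨φ, hφ, hφe⟩ := exists_map_central hS hF hz h
  have hle : S ≤ cen S a := (cen_eq_of_zen ha).ge
  exact ⟨_, restrict_mem hle hφ, range_eq_of_card_le (restrict_mem hle hφ) le_rfl
    (apply_mem_S (restrict_mem hle hφ)) le_rfl, hφe _⟩

theorem zen_pow_of_conj {a z : Ω} (ha : a ∈ zen S) (hz : z ∈ zen S) {k : ℕ}
    (h : F.IsConjElt a (z ^ k)) : ∃ b ∈ zen S, a = b ^ k := by
  obtain ⟨φ, hφ, hr, hφa⟩ := exists_aut_central hS hF ha (Subgroup.pow_mem _ hz k) h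
  obtain ⟨⟨b, hbS⟩, hb⟩ := hr.ge hz.1
  have hbz : b ∈ zen S := ⟨hbS, Subgroup.mem_centralizer_iff.mpr fun g hg =>
    congrArg Subtype.val (show (⟨g, hg⟩ : S) * ⟨b, hbS⟩ = ⟨b, hbS⟩ * ⟨g, hg⟩ from
      F.injective_of_mem hφ (by
        rw [map_mul, map_mul, hb]
        exact (comm_of_zen hz (apply_mem_S hφ ⟨g, hg⟩)).eq))⟩
  refine ⟨b, hbz, congrArg Subtype.val (F.injective_of_mem hφ (a₁ := (⟨a, ha.1⟩ : S)) (a₂ := (⟨b, hbS⟩ : S) ^ k) ?_)⟩
  rw [hφa, map_pow, hb]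

/-- Some element of the centre is a `k`-th power conjugate to `x`. -/
def Hgt (F : FusionSystem S) (k : ℕ) (x : Ω) : Prop := ∃ z ∈ zen S, F.IsConjElt x (z ^ k)

omit hS hF in
theorem Hgt.of_conj {k : ℕ} {x y : Ω} (h : Hgt F k x) (hc : F.IsConjElt y x) : Hgt F k y := by
  obtain ⟨z, hz, hzx⟩ := h
  exact ⟨z, hz, isConjElt_trans hc hzx⟩

variable (h : ∀ x ∈ S, ∃ z ∈ zen S, F.IsConjElt x z)
include h

omit hS hF in
theorem hgt_pow {x : Ω} (hx : x ∈ S) (k : ℕ) : Hgt F k (x ^ k) := by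
  obtain ⟨z, hz, hzx⟩ := h x hx
  exact ⟨z, hz, isConjElt_pow hzx k⟩

/-- If `b` commutes with the `k`-th power of `a`, then `a ^ k * b ^ k` is conjugate to a `k`-th power
in the centre. -/
theorem hgt_mul {a b : Ω} (ha : a ∈ S) (hb : b ∈ S) {k : ℕ} (hab : Commute b (a ^ k)) :
    Hgt F k (a ^ k * b ^ k) := by
  obtain ⟨z, hz, hzk⟩ := hgt_pow h ha k
  obtain ⟨φ, hφ, hφe⟩ := exists_map_central hS hF (Subgroup.pow_mem _ hz k) hzk
  have h1 : a ^ k ∈ cen S (a ^ k) := mem_cen.mpr ⟨S.pow_mem ha k, Commute.refl _⟩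
  have h2 : b ∈ cen S (a ^ k) := mem_cen.mpr ⟨hb, hab⟩
  have hc : Commute z (φ ⟨b, h2⟩) := (comm_of_zen hz (apply_mem_S hφ _)).symm
  refine (hgt_pow h (S.mul_mem hz.1 (apply_mem_S hφ ⟨b, h2⟩)) k).of_conj ?_
  rw [hc.mul_pow, ← hφe h1, ← map_pow, ← map_mul]
  exact isConjElt_of_map hφ (⟨a ^ k, h1⟩ * (⟨b, h2⟩ : cen S (a ^ k)) ^ k)

/-- All involutions central forces the group to be abelian. -/
theorem le_zen_of_involutions (hi : ∀ x ∈ S, x ^ 2 = 1 → x ∈ zen S) : S ≤ zen S := by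
  suffices H : ∀ (n : ℕ) (x : Ω), x ∈ S → x ^ 2 ^ n = 1 → x ∈ zen S by
    intro x hx
    obtain ⟨n, hn⟩ := hS ⟨x, hx⟩
    exact H n x hx (congrArg Subtype.val hn)
  intro n
  induction n with
  | zero =>
    intro x hx h1
    rw [pow_zero, pow_one] at h1
    exact h1 ▸ (zen S).one_mem
  | succ n ih =>
    intro x hx h1
    have h2 : x ^ 2 ∈ zen S := ih _ (S.pow_mem hx 2) (by rw [← pow_mul, ← pow_succ']; exact h1)
    obtain ⟨z, hz, hzx⟩ := hgt_pow h hx 2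
    obtain ⟨b, hb, hxb⟩ := zen_pow_of_conj hS hF h2 hz hzx
    have hc : Commute x b⁻¹ := (comm_of_zen hb hx).inv_right
    have h3 : x * b⁻¹ ∈ zen S := hi _ (S.mul_mem hx (S.inv_mem hb.1))
      (by rw [hc.mul_pow, inv_pow, hxb, mul_inv_cancel])
    simpa using (zen S).mul_mem h3 hb

/-- `S` is abelian. -/
theorem le_zen : S ≤ zen S := by
  classical
  by_contra hne
  obtain ⟨x₀, hx₀, hx₀2, hx₀z⟩ : ∃ x ∈ S, x ^ 2 = 1 ∧ x ∉ zen S := by
    by_contra hc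
    push Not at hc
    exact hne (le_zen_of_involutions hS hF h hc)
  -- the largest height
  let J : Set ℕ := {j | ∃ x ∈ S, x ^ 2 = 1 ∧ x ∉ zen S ∧ Hgt F (2 ^ j) x}
  have hJ0 : 0 ∈ J := ⟨x₀, hx₀, hx₀2, hx₀z, by simpa using hgt_pow h hx₀ 1⟩
  obtain ⟨e, he⟩ := IsPGroup.iff_card.mp hS
  have hJb : ∀ j ∈ J, j ≤ e := by
    rintro j ⟨x, hx, -, hxz, z, hz, hzx⟩
    by_contra hlt
    refine hxz ?_
    have h1 : z ^ 2 ^ j = 1 := by
      have h2 : (⟨z, hz.1⟩ : S) ^ 2 ^ j = 1 := orderOf_dvd_iff_pow_eq_one.mp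
        ((orderOf_dvd_natCard _).trans (he ▸ Nat.pow_dvd_pow 2 (by omega)))
      exact congrArg Subtype.val h2
    obtain ⟨φ, hφ, hφe⟩ := isConjElt_symm hzx
    have h3 : (⟨z ^ 2 ^ j, Subgroup.mem_zpowers _⟩ : Subgroup.zpowers (z ^ 2 ^ j)) = 1 := Subtype.ext h1
    rw [h3, map_one] at hφe
    exact hφe ▸ (zen S).one_mem
  obtain ⟨j, hjJ, hjmax⟩ : ∃ j ∈ J, ∀ i ∈ J, i ≤ j := by
    have hfin : J.Finite := (Set.finite_Iic e).subset hJb
    obtain ⟨j, hj, hmax⟩ := hfin.toFinset.exists_max_image id ⟨0, hfin.mem_toFinset.mpr hJ0⟩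
    exact ⟨j, hfin.mem_toFinset.mp hj, fun i hi => hmax i (hfin.mem_toFinset.mpr hi)⟩
  set n := 2 ^ j with hn
  -- involutions of larger height are central
  have hW : ∀ x ∈ S, x ^ 2 = 1 → Hgt F (2 * n) x → ∃ z ∈ zen S, x = z ^ (2 * n) := by
    intro x hx hx2 hxh
    have hxz : x ∈ zen S := by
      by_contra hc
      have := hjmax (j + 1) ⟨x, hx, hx2, hc, by rwa [pow_succ', ← hn]⟩
      omega
    obtain ⟨z, hz, hzx⟩ := hxh
    exact zen_pow_of_conj hS hF hxz hz hzx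
  -- a largest centraliser among the involutions of height at least `j`
  let K : Set Ω := {x | x ∈ S ∧ x ^ 2 = 1 ∧ x ∉ zen S ∧ Hgt F n x}
  have hKfin : K.Finite := (Set.toFinite (S : Set Ω)).subset fun x hx => hx.1
  have hKne : hKfin.toFinset.Nonempty := by
    obtain ⟨x, h1, h2, h3, h4⟩ := hjJ
    exact ⟨x, hKfin.mem_toFinset.mpr ⟨h1, h2, h3, h4⟩⟩
  obtain ⟨x, hxK, hxmax⟩ := hKfin.toFinset.exists_max_image (fun x => Nat.card (cen S x)) hKne
  obtain ⟨hxS, hx2, hxz, hxh⟩ := hKfin.mem_toFinset.mp hxK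
  replace hxmax : ∀ y ∈ S, y ^ 2 = 1 → y ∉ zen S → Hgt F n y → Nat.card (cen S y) ≤ Nat.card (cen S x) :=
    fun y h1 h2 h3 h4 => hxmax y (hKfin.mem_toFinset.mpr ⟨h1, h2, h3, h4⟩)
  obtain ⟨P, hP0, hPn⟩ := exists_fullyNormalized (F := F) (cen_le (S := S) (x := x))
  obtain ⟨hPa, hPr⟩ := fullyNormalized_good hS hF hPn
  obtain ⟨ψ, hψ, hψm, hψP⟩ := exists_normalizer_hom hS hPa hPr hP0
  have hx0 : x ∈ cen S x := mem_cen.mpr ⟨hxS, Commute.refl x⟩
  set x₁ := ψ ⟨x, le_normalizerIn cen_le hx0⟩ with hx₁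
  have hcard : Nat.card P = Nat.card (cen S x) := IsConj.card_eq hP0
  have hPS : P ≤ S := hPn.1
  have hx₁P : x₁ ∈ P := hψP.le ⟨_, hx0, rfl⟩
  have hx₁c : F.IsConjElt x₁ x := isConjElt_symm (isConjElt_of_map hψ ⟨x, le_normalizerIn cen_le hx0⟩)
  have hx₁2 : x₁ ^ 2 = 1 := by
    rw [hx₁, ← map_pow, show (⟨x, le_normalizerIn cen_le hx0⟩ : normalizerIn S (cen S x)) ^ 2 = 1 from
      Subtype.ext hx2, map_one]
  have hx₁z : x₁ ∉ zen S := by
    intro hz
    obtain ⟨g, hg, hgn⟩ := SetLike.exists_of_lt (lt_normalizerIn hS le_rfl (cen_lt_of_not_zen hxS hxz))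
    refine hgn (mem_cen.mpr ⟨normalizerIn_le hg, ?_⟩)
    have h1 := (comm_of_zen hz (apply_mem_S hψ ⟨g, hg⟩)).eq
    rw [hx₁, ← map_mul, ← map_mul] at h1
    exact congrArg Subtype.val (F.injective_of_mem hψ h1)
  have hx₁h : Hgt F n x₁ := hxh.of_conj hx₁c
  have hP1 : P = cen S x₁ := by
    have : Finite (cen S x₁) := finite_of_le cen_le
    refine eq_of_le_of_card_le (fun y hy => ?_) (hcard ▸ hxmax x₁ (hPS hx₁P) hx₁2 hx₁z hx₁h)
    obtain ⟨⟨y, hyN⟩, hy', rfl⟩ := hψP.ge hy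
    refine mem_cen.mpr ⟨apply_mem_S hψ _, ?_⟩
    show ψ ⟨y, hyN⟩ * x₁ = x₁ * ψ ⟨y, hyN⟩
    rw [hx₁, ← map_mul, ← map_mul]
    exact apply_eq_of_coe_eq (mem_cen.mp hy').2.eq
  have hPfc := fullyCentralized_of_receptive hPr
  have := finite_of_le hPS
  have := finite_mulAut hPS
  -- the centre of `P` and its subgroup `U`
  set Z := centralizerIn S P with hZ
  have hZP : Z ≤ P := fun g hg => hP1.ge
    (mem_cen.mpr ⟨hg.1, ((mem_centralizerIn.mp hg).2 x₁ hx₁P).symm⟩)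
  have hZc : ∀ a ∈ Z, ∀ b ∈ P, Commute a b := fun a ha b hb => ((mem_centralizerIn.mp ha).2 b hb).symm
  have hzenZ : zen S ≤ Z := fun z hz => mem_centralizerIn.mpr
    ⟨hz.1, fun b hb => (comm_of_zen hz (hPS hb)).eq⟩
  have hinv : ∀ α ∈ F.autGroup P, ∀ a : P, (a : Ω) ∈ Z → ((α a : P) : Ω) ∈ Z := by
    intro α hα a ha
    refine mem_centralizerIn.mpr ⟨hPS (α a).2, fun b hb => ?_⟩
    have hab : a * α.symm ⟨b, hb⟩ = α.symm ⟨b, hb⟩ * a := Subtype.ext (hZc _ ha _ (SetLike.coe_mem _)).eq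
    have h1 := congrArg α hab
    rw [map_mul, map_mul, MulEquiv.apply_symm_apply] at h1
    exact (congrArg Subtype.val h1).symm
  let InU : Ω → Prop := fun v => v ^ 2 = 1 ∧ ∃ u ∈ Z, v = u ^ n
  have hUZ : ∀ v, InU v → v ∈ Z := fun v hv => by
    obtain ⟨-, u, hu, rfl⟩ := hv; exact Z.pow_mem hu n
  have hUinv : ∀ α ∈ F.autGroup P, ∀ a : P, InU (a : Ω) → InU ((α a : P) : Ω) := by
    rintro α hα a ⟨h2, u, hu, hau⟩
    refine ⟨?_, _, hinv α hα ⟨u, hZP hu⟩ hu, ?_⟩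
    · rw [← Subgroup.coe_pow, ← map_pow, show a ^ 2 = 1 from Subtype.ext h2, map_one, Subgroup.coe_one]
    · rw [← Subgroup.coe_pow, ← map_pow, show a = (⟨u, hZP hu⟩ : P) ^ n from Subtype.ext hau]
  have hUcen : ∀ v, InU v → v ∉ zen S → cen S v = P := by
    rintro v hv hvz
    obtain ⟨h2, u, hu, hvu⟩ := hv
    have hvZ : v ∈ Z := hUZ v ⟨h2, u, hu, hvu⟩
    have : Finite (cen S v) := finite_of_le cen_le
    refine (eq_of_le_of_card_le (fun g hg => mem_cen.mpr ⟨hPS hg, (hZc v hvZ g hg).symm⟩) ?_).symm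
    rw [hcard]
    exact hxmax v hvZ.1 h2 hvz (hvu ▸ hgt_pow h hu.1 n)
  -- every element of `U` is moved by an automorphism of `P` into the centre
  have hcover : ∀ v, InU v → ∃ α ∈ F.autGroup P, ∀ hv : v ∈ P, ((α ⟨v, hv⟩ : P) : Ω) ∈ zen S := by
    intro v hv
    by_cases hvz : v ∈ zen S
    · exact ⟨1, one_mem _, fun _ => hvz⟩
    have hvP : v ∈ P := hZP (hUZ v hv)
    have hCP : cen S v = P := hUcen v hv hvz
    obtain ⟨z, hz, hvc⟩ := h v (hPS hvP)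
    obtain ⟨φ, hφ, hφe⟩ := exists_map_central hS hF hz hvc
    have hφ' := restrict_mem hCP.ge hφ
    set φ' := φ.comp (Subgroup.inclusion hCP.ge) with hφ'def
    obtain ⟨χ, hχ, hχm, hχP⟩ := exists_normalizer_hom hS hPa hPr (isConj_symm (P := P) ⟨φ', hφ', rfl⟩)
    have hRS := range_le_S hφ'
    obtain ⟨α', hα', hα'e⟩ := exists_comp hφ' hχ (fun a => le_normalizerIn hRS ⟨a, rfl⟩)
    have hr : α'.range = P := range_eq_of_card_le hα' hPS
      (fun a => by rw [hα'e]; exact hχP.le ⟨_, ⟨a, rfl⟩, rfl⟩) le_rfl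
    obtain ⟨α, hα, hαe⟩ := exists_aut hα' hr
    refine ⟨α, hα, fun hv' => ?_⟩
    by_contra hc
    have hU' : InU ((α ⟨v, hv'⟩ : P) : Ω) := hUinv α hα ⟨v, hv'⟩ hv
    have hR : φ'.range < S := by
      refine lt_of_le_of_ne hRS fun e => ?_
      have h1 := card_range hφ'
      have h2 := cen_lt_of_not_zen (hPS hvP) hvz
      rw [e] at h1
      rw [hCP] at h2
      exact h2.ne (eq_of_le_of_card_le h2.le h1.le)
    obtain ⟨g, hg, hgn⟩ := SetLike.exists_of_lt (lt_normalizerIn hS le_rfl hR)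
    have hzφ : φ' ⟨v, hvP⟩ = z := hφe _
    have h1 : χ ⟨g, hg⟩ ∈ cen S ((α ⟨v, hv'⟩ : P) : Ω) := by
      refine mem_cen.mpr ⟨apply_mem_S hχ _, ?_⟩
      rw [hαe, hα'e]
      show _ * _ = _ * _
      rw [← map_mul, ← map_mul]
      refine apply_eq_of_coe_eq ?_
      show g * φ' ⟨v, hv'⟩ = φ' ⟨v, hv'⟩ * g
      rw [show φ' ⟨v, hv'⟩ = z from hzφ]
      exact (comm_of_zen hz (normalizerIn_le hg)).eq
    rw [hUcen _ hU' hc] at h1
    obtain ⟨⟨g', hg'N⟩, hg', hge⟩ := hχP.ge h1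
    obtain rfl : g' = g := congrArg Subtype.val (F.injective_of_mem hχ hge)
    exact hgn hg'
  -- `x₁` lies in `U`
  have hx₁U : InU x₁ := by
    refine ⟨hx₁2, ?_⟩
    obtain ⟨z, hz, hxz'⟩ := hx₁h
    obtain ⟨φ, hφ, hφe⟩ := exists_map_central hS hF (Subgroup.pow_mem _ hz n) hxz'
    have hφ' := restrict_mem hP1.le hφ
    set φ' := φ.comp (Subgroup.inclusion hP1.le) with hφ'def
    have hRS := range_le_S hφ'
    have hC := hPfc.2 φ'.range ⟨φ', hφ', rfl⟩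
    have : Finite (centralizerIn S φ'.range) := finite_of_le centralizerIn_le
    have hmem : ∀ a : Z, φ' ⟨a, hZP a.2⟩ ∈ centralizerIn S φ'.range := fun a => by
      refine mem_centralizerIn.mpr ⟨apply_mem_S hφ' _, ?_⟩
      rintro _ ⟨b, rfl⟩
      rw [← map_mul, ← map_mul]
      exact apply_eq_of_coe_eq (hZc a a.2 b b.2).symm.eq
    have hzC : z ∈ centralizerIn S φ'.range := mem_centralizerIn.mpr
      ⟨hz.1, fun b hb => (comm_of_zen hz (hRS hb)).eq⟩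
    have hinj : Function.Injective (fun a : Z => (⟨φ' ⟨a, hZP a.2⟩, hmem a⟩ : centralizerIn S φ'.range)) :=
      fun a b e => Subtype.ext (congrArg (fun t : P => (t : Ω))
        (F.injective_of_mem hφ' (congrArg Subtype.val e) : (⟨a, hZP a.2⟩ : P) = ⟨b, hZP b.2⟩))
    have : Finite Z := finite_of_le centralizerIn_le
    obtain ⟨⟨u, hu⟩, hue⟩ := (hinj.bijective_of_nat_card_le hC).2 ⟨z, hzC⟩
    refine ⟨u, hu, ?_⟩
    have h3 : φ' ⟨x₁, hx₁P⟩ = φ' (⟨u, hZP hu⟩ ^ n) := by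
      rw [map_pow, show φ' ⟨u, hZP hu⟩ = z from congrArg Subtype.val hue]
      exact hφe _
    exact congrArg Subtype.val (F.injective_of_mem hφ' h3)
  -- an element `g` of `N_S(P)` with square in `P`
  obtain ⟨g, hgN, hgP, hg2⟩ : ∃ g ∈ normalizerIn S P, g ∉ P ∧ g ^ 2 ∈ P := by
    obtain ⟨g, hg, hgn⟩ := SetLike.exists_of_lt (lt_normalizerIn hS le_rfl (hP1 ▸ cen_lt_of_not_zen (hPS hx₁P) hx₁z))
    obtain ⟨k, hk⟩ := hS ⟨g, normalizerIn_le hg⟩
    have hk' : g ^ 2 ^ k = 1 := congrArg Subtype.val hk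
    have hex : ∃ m, g ^ 2 ^ m ∈ P := ⟨k, hk' ▸ P.one_mem⟩
    obtain ⟨m, hm⟩ : ∃ m, Nat.find hex = m + 1 := by
      rcases hf : Nat.find hex with _ | m
      · have h1 := Nat.find_spec hex
        rw [hf, pow_zero, pow_one] at h1
        exact absurd h1 hgn
      · exact ⟨m, rfl⟩
    refine ⟨g ^ 2 ^ m, Subgroup.pow_mem _ hg _, Nat.find_min hex (by omega), ?_⟩
    rw [← pow_mul, ← pow_succ, ← hm]
    exact Nat.find_spec hex
  have hgS := normalizerIn_le hgN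
  -- conjugation by `g` moves `U` only by involutions of larger height
  have hshift : ∀ v, InU v → ∃ d, d ^ 2 = 1 ∧ (∃ z ∈ zen S, d = z ^ (2 * n)) ∧ g * v * g⁻¹ = v * d := by
    rintro v ⟨hv2, u, hu, rfl⟩
    set M := g * u * g⁻¹ * u with hM
    have hgu : g * u * g⁻¹ ∈ Z := by
      refine mem_centralizerIn.mpr ⟨S.mul_mem (S.mul_mem hgS hu.1) (S.inv_mem hgS), fun b hb => ?_⟩
      have hb' : g⁻¹ * b * g ∈ P := by
        have h1 := (Subgroup.mem_normalizer_iff.mp (Subgroup.inv_mem _ hgN.2) b).mp hb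
        rwa [inv_inv] at h1
      have h2 : u * (g⁻¹ * b * g) = (g⁻¹ * b * g) * u := (hZc u hu _ hb').eq
      calc b * (g * u * g⁻¹) = g * ((g⁻¹ * b * g) * u) * g⁻¹ := by group
        _ = g * (u * (g⁻¹ * b * g)) * g⁻¹ := by rw [h2]
        _ = g * u * g⁻¹ * b := by group
    have hMZ : M ∈ Z := Z.mul_mem hgu hu
    have hug : Commute (g ^ 2) u := (hZc u hu _ hg2).symm
    have hMg : Commute g M := by
      show g * M = M * g
      calc g * M = g ^ 2 * u * (g ^ 2)⁻¹ * (g * u) := by rw [hM, pow_two]; group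
        _ = u * (g * u) := by rw [hug.eq, mul_inv_cancel_right]
        _ = M * g := by
          rw [hM]
          have h1 : u * (g * u * g⁻¹) = g * u * g⁻¹ * u := (hZc u hu _ (hZP hgu)).eq
          rw [← h1]; group
    have hsq : (u * g) ^ 2 = M * g ^ 2 := by
      have h1 : u * (g * u * g⁻¹) = g * u * g⁻¹ * u := (hZc u hu _ (hZP hgu)).eq
      rw [hM, ← h1, pow_two, pow_two]; group
    have hpow : (u * g) ^ (2 * n) = M ^ n * g ^ (2 * n) := by
      rw [pow_mul, hsq, pow_mul, (hZc M hMZ _ hg2).mul_pow]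
    have hcomm : Commute g⁻¹ ((u * g) ^ (2 * n)) := by
      rw [hpow]
      exact ((hMg.pow_right n).mul_right ((Commute.refl g).pow_right _)).inv_left
    have hd := hgt_mul hS hF h (S.mul_mem hu.1 hgS) (S.inv_mem hgS) hcomm
    rw [hpow, inv_pow, mul_inv_cancel_right] at hd
    have h1 : M ^ n = g * u ^ n * g⁻¹ * u ^ n := by
      rw [hM, (hZc _ hgu u (hZP hu)).mul_pow, conj_pow]
    have hd2 : (M ^ n) ^ 2 = 1 := by
      rw [h1, Commute.mul_pow ?_, conj_pow, hv2, mul_one, mul_one, mul_inv_cancel]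
      rw [← conj_pow]
      exact (hZc _ hgu u (hZP hu)).pow_pow n n
    refine ⟨M ^ n, hd2, hW _ (S.pow_mem hMZ.1 n) hd2 hd, ?_⟩
    have hv : u ^ n * u ^ n = 1 := by rw [← pow_two]; exact hv2
    have hc : g * u ^ n * g⁻¹ * u ^ n = u ^ n * (g * u ^ n * g⁻¹) := by
      rw [← conj_pow]
      exact ((hZc _ hgu u (hZP hu)).pow_pow n n).eq
    rw [h1, hc, ← mul_assoc, hv, one_mul]
  -- the automorphisms of `P` that move `U` only by such involutions
  let InW : Ω → Prop := fun d => d ^ 2 = 1 ∧ ∃ z ∈ zen S, d = z ^ (2 * n)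
  have hWU : ∀ d, InW d → InU d := fun d ⟨hd2, z, hz, hdz⟩ =>
    ⟨hd2, z ^ 2, Z.pow_mem (hzenZ hz) 2, by rw [← pow_mul]; exact hdz⟩
  have hWinv : ∀ α ∈ F.autGroup P, ∀ a : P, InW (a : Ω) → InW ((α a : P) : Ω) := by
    intro α hα a ha
    obtain ⟨f, hf, -, hfe⟩ := exists_map_of_mem_autGroup hPS hα
    obtain ⟨h2', z, hz, hdz⟩ := ha
    have h2 : ((α a : P) : Ω) ^ 2 = 1 := (hUinv α hα a (hWU _ ⟨h2', z, hz, hdz⟩)).1
    refine ⟨h2, hW _ (hPS (α a).2) h2 ⟨z, hz, ?_⟩⟩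
    refine isConjElt_symm ?_
    rw [← hdz, ← hfe a]
    exact isConjElt_of_map hf a
  have hWmul : ∀ a b, InW a → InW b → InW (a * b) := by
    rintro a b ⟨ha, z, hz, rfl⟩ ⟨hb, w, hw, rfl⟩
    have hc : Commute z w := comm_of_zen hw hz.1
    exact ⟨by rw [(hc.pow_pow _ _).mul_pow, ha, hb, one_mul], z * w, (zen S).mul_mem hz hw, (hc.mul_pow _).symm⟩
  let Moves : MulAut P → Prop := fun α =>
    (∀ a : P, InW (a : Ω) → α a = a) ∧ ∀ a : P, InU (a : Ω) → InW ((a : Ω)⁻¹ * ((α a : P) : Ω))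
  let B : Subgroup (F.autGroup P) :=
    { carrier := {α | Moves (α : MulAut P)}
      one_mem' := ⟨fun a _ => rfl, fun a _ =>
        ⟨by simp, 1, (zen S).one_mem, by simp⟩⟩
      mul_mem' := by
        rintro α β ⟨ha1, ha2⟩ ⟨hb1, hb2⟩
        refine ⟨fun a ha => ?_, fun a ha => ?_⟩
        · rw [Subgroup.coe_mul, MulAut.mul_apply, hb1 a ha, ha1 a ha]
        · have h1 := hWmul _ _ (hb2 a ha) (ha2 _ (hUinv _ β.2 a ha))
          rwa [mul_assoc, mul_inv_cancel_left] at h1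
      inv_mem' := by
        rintro α ⟨ha1, ha2⟩
        refine ⟨fun a ha => ?_, fun a ha => ?_⟩
        · conv_lhs => rw [← ha1 a ha]
          simp
        · have h1 := ha2 _ (hUinv _ ((F.autGroup P).inv_mem α.2) a ha)
          rw [MulAut.apply_inv_self] at h1
          obtain ⟨h2, z, hz, hze⟩ := h1
          have h3 : (a : Ω)⁻¹ * ((((α : MulAut P)⁻¹) a : P) : Ω) = ((((α : MulAut P)⁻¹) a : P) : Ω)⁻¹ * (a : Ω) := by
            rw [← inv_eq_of_mul_eq_one_right ((pow_two _).symm.trans h2), mul_inv_rev, inv_inv]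
          show InW ((a : Ω)⁻¹ * ((((α : MulAut P)⁻¹) a : P) : Ω))
          rw [h3]
          exact ⟨h2, z, hz, hze⟩ }
  have : B.Normal := ⟨fun β hβ α => by
    obtain ⟨hb1, hb2⟩ := hβ
    refine ⟨fun a ha => ?_, fun a ha => ?_⟩
    · rw [Subgroup.coe_mul, Subgroup.coe_mul, Subgroup.coe_inv, MulAut.mul_apply, MulAut.mul_apply,
        hb1 _ (hWinv _ ((F.autGroup P).inv_mem α.2) a ha), MulAut.apply_inv_self]
    · have h1 := hb2 _ (hUinv _ ((F.autGroup P).inv_mem α.2) a ha)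
      rw [← Subgroup.coe_inv, ← Subgroup.coe_mul] at h1
      have h2 := hWinv _ α.2 ((((α : MulAut P)⁻¹) a)⁻¹ * (β : MulAut P) (((α : MulAut P)⁻¹) a)) h1
      rw [map_mul, map_inv, MulAut.apply_inv_self] at h2
      exact h2⟩
  -- central elements of `U` are fixed by `B`
  have hfix : ∀ w : P, InU (w : Ω) → (w : Ω) ∈ zen S → ∀ β ∈ B, (β : MulAut P) w = w := by
    intro w hwU hwz β hβ
    set T := (autInducedBy S P).subgroupOf (F.autGroup P) with hT
    have hTfix : ∀ τ ∈ T, (τ : MulAut P) w = w := by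
      intro τ hτ
      obtain ⟨s, hs, hse⟩ := mem_autInducedBy.mp hτ
      refine Subtype.ext ((hse w).trans ?_)
      rw [(comm_of_zen hwz hs).eq, mul_inv_cancel_right]
    have hTB : T ≤ Subgroup.normalizer (B : Set (F.autGroup P)) := by
      rw [Subgroup.normalizer_eq_top]; exact le_top
    have hodd : Odd T.index := by
      obtain ⟨R, hR⟩ := hPa.2
      rw [hT, ← hR, ← Nat.not_even_iff_odd, even_iff_two_dvd]
      exact R.not_dvd_index
    have hr : Odd ((B ⊓ T).relIndex B) := by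
      have h1 := CfsgLib.Coprime.card_sup_mul_card_inf hTB
      have h2 : Nat.card (B ⊓ T : Subgroup (F.autGroup P)) * (B ⊓ T).relIndex B = Nat.card B := by
        rw [← Subgroup.card_mul_index ((B ⊓ T).subgroupOf B),
          Nat.card_congr (Subgroup.subgroupOfEquivOfLe (inf_le_left : B ⊓ T ≤ B)).toEquiv]
        rfl
      have h3 : Nat.card T * (B ⊓ T).relIndex B = Nat.card (T ⊔ B : Subgroup (F.autGroup P)) := by
        refine Nat.eq_of_mul_eq_mul_right (Nat.card_pos (α := (B ⊓ T : Subgroup (F.autGroup P)))) ?_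
        rw [h1, ← h2]; ring
      have h4 : (B ⊓ T).relIndex B ∣ T.index := by
        refine Nat.dvd_of_mul_dvd_mul_left (Nat.card_pos (α := T)) ?_
        rw [h3, Subgroup.card_mul_index]
        exact Subgroup.card_subgroup_dvd_card _
      exact hodd.of_dvd_nat h4
    let B₁ : Subgroup B := (MulAction.stabilizer (MulAut P) w).comap ((F.autGroup P).subtype.comp B.subtype)
    have hd : ∀ γ : B, ((γ : F.autGroup P) : MulAut P) w = w * (w⁻¹ * ((γ : F.autGroup P) : MulAut P) w) :=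
      fun γ => (mul_inv_cancel_left _ _).symm
    have hcomm : ∀ γ δ : B, ((γ : F.autGroup P) : MulAut P) (((δ : F.autGroup P) : MulAut P) w) =
        ((γ : F.autGroup P) : MulAut P) w * (w⁻¹ * ((δ : F.autGroup P) : MulAut P) w) := by
      intro γ δ
      conv_lhs => rw [hd δ, map_mul, γ.2.1 (w⁻¹ * ((δ : F.autGroup P) : MulAut P) w) (δ.2.2 w hwU)]
    have hB₁n : B₁.Normal := ⟨fun γ hγ δ => by
      have hγ' : ((γ : F.autGroup P) : MulAut P) w = w := hγ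
      show (((δ * γ * δ⁻¹ : B) : F.autGroup P) : MulAut P) w = w
      have h1 := hcomm γ δ⁻¹
      simp only [Subgroup.coe_mul, Subgroup.coe_inv, MulAut.mul_apply] at h1 ⊢
      rw [h1, hγ', mul_inv_cancel_left, MulAut.apply_inv_self]⟩
    have hB₁ : (B ⊓ T).subgroupOf B ≤ B₁ := fun γ hγ => hTfix _ hγ.2
    have hodd' : Odd B₁.index := hr.of_dvd_nat (Subgroup.index_dvd_of_le hB₁)
    set γ : B := ⟨β, hβ⟩
    have hpow : γ ^ B₁.index ∈ B₁ := B₁.pow_index_mem γ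
    have hsq : γ ^ 2 ∈ B₁ := by
      show (((γ ^ 2 : B) : F.autGroup P) : MulAut P) w = w
      rw [pow_two]
      simp only [Subgroup.coe_mul, MulAut.mul_apply]
      rw [hcomm]
      have h2 := (hβ.2 w hwU).1
      have h3 : ((w⁻¹ * (β : MulAut P) w) * (w⁻¹ * (β : MulAut P) w) : P) = 1 := by
        rw [← pow_two]; exact Subtype.ext h2
      show (β : MulAut P) w * (w⁻¹ * (β : MulAut P) w) = w
      calc _ = w * ((w⁻¹ * (β : MulAut P) w) * (w⁻¹ * (β : MulAut P) w)) := by group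
        _ = w := by rw [h3, mul_one]
    obtain ⟨k, hk⟩ := hodd'
    rw [hk, pow_succ, pow_mul] at hpow
    exact (B₁.mul_mem_cancel_left (B₁.pow_mem hsq k)).mp hpow
  -- conjugation by `g` lies in `B` and moves `x₁`
  obtain ⟨c, hc, hce⟩ := exists_autInducedBy (K := S) hgS hgN.2
  have hcA : c ∈ F.autGroup P := autInducedBy_le_autGroup hPS hc
  have hcB : (⟨c, hcA⟩ : F.autGroup P) ∈ B := by
    refine ⟨fun a ⟨_, z, hz, hza⟩ => Subtype.ext ?_, fun a ha => ?_⟩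
    · show ((c a : P) : Ω) = a
      rw [hce, hza, (comm_of_zen (Subgroup.pow_mem _ hz _) hgS).eq, mul_inv_cancel_right]
    · obtain ⟨d, hd2, hdz, hde⟩ := hshift _ ha
      show InW ((a : Ω)⁻¹ * ((c a : P) : Ω))
      rw [hce, hde, inv_mul_cancel_left]
      exact ⟨hd2, hdz⟩
  obtain ⟨α, hα, hαz⟩ := hcover x₁ hx₁U
  set w : P := α ⟨x₁, hx₁P⟩
  have hw := hfix w (hUinv α hα ⟨x₁, hx₁P⟩ hx₁U) (hαz hx₁P) _
    (‹B.Normal›.conj_mem _ hcB ⟨α, hα⟩)
  have h1 : c ⟨x₁, hx₁P⟩ = ⟨x₁, hx₁P⟩ := by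
    simp only [Subgroup.coe_mul, Subgroup.coe_inv, MulAut.mul_apply, w, MulAut.inv_apply_self] at hw
    exact α.injective hw
  refine hgP (hP1.ge (mem_cen.mpr ⟨hgS, ?_⟩))
  have h2 := congrArg Subtype.val h1
  rw [hce] at h2
  exact mul_inv_eq_iff_eq_mul.mp h2

end CfsgLib.FusionCentralTwo
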