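import Cfsg.Agent.Lib.Fusion.Stabilizer

/-!
# Maps agreeing on a centric subgroup
-/

namespace CfsgLib.Fusion

open Cfsg Cfsg.FusionSystem

variable {Ω : Type*} [Group Ω] {S : Subgroup Ω} {F : FusionSystem S} {P Q R : Subgroup Ω}
variable [Finite S] {p : ℕ} [Fact p.Prime]

/-- A `p`-group of automorphisms becomes a group of conjugations by elements of `S` after a suitable
map of the system. -/
theorem exists_map_conj_into (hS : IsPGroup p S) (hF : F.IsSaturated p) (hP : P ≤ S)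
    {A : Subgroup (MulAut P)} (hA : A ≤ F.autGroup P) (hAp : IsPGroup p A) :
    ∃ η ∈ F.Hom P, ∀ a ∈ A, ∃ g ∈ S, ∀ x : P, η (a x) = g * η x * g⁻¹ := by
  obtain ⟨R, hRa, -, hc, -⟩ := exists_good_conj hS hF hP
  obtain ⟨θ, hθ, hθr⟩ := hc
  obtain ⟨e, he⟩ := exists_equiv hθ hθr
  obtain ⟨δ, hδ, hδA⟩ := FullyAutomized.exists_conj hRa (A := A.map (MulAut.congr e).toMonoidHom)
    ((Subgroup.map_mono hA).trans (map_autGroup hθ he).le) (hAp.map _)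
  obtain ⟨δm, hδm, -, hδe⟩ := exists_map_of_mem_autGroup hRa.1 hδ
  obtain ⟨η, hη, hηe⟩ := exists_comp hθ hδm fun x => hθr.le ⟨x, rfl⟩
  have hη' : ∀ x : P, η x = ((δ (e x) : R) : Ω) := fun x => by
    rw [hηe, hδe]; congr 2; exact Subtype.ext (he x).symm
  refine ⟨η, hη, fun a ha => ?_⟩
  obtain ⟨g, hg, hge⟩ := mem_autInducedBy.mp (hδA _ ⟨a, ha, rfl⟩)
  refine ⟨g, hg, fun x => ?_⟩
  rw [hη', hη', ← hge]
  simp [MulAut.congr]

theorem exists_inner_of_agree_normal (hS : IsPGroup p S) (hF : F.IsSaturated p) (hQP : Q ≤ P)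
    (hn : P ≤ Subgroup.normalizer (Q : Set Ω)) (hQ : F.IsCentric Q) {φ φ' : P →* Ω} (hφ : φ ∈ F.Hom P)
    (hφ' : φ' ∈ F.Hom P) (h : ∀ x : P, (x : Ω) ∈ Q → φ x = φ' x) :
    ∃ z : P, (z : Ω) ∈ Q ∧ (z : Ω) ∈ Subgroup.centralizer (Q : Set Ω) ∧
      ∀ y : P, φ' y = φ (z * y * z⁻¹) := by
  have hP := le_S hφ
  have := finite_of_le hP
  set Q₁ := (Q.subgroupOf P).map φ
  have hdiff : ∀ y : P, (φ y)⁻¹ * φ' y ∈ Q₁ := fun y => by
    refine hQ.2 _ (isConj_map hφ hQP) (mem_centralizerIn.mpr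
      ⟨S.mul_mem (S.inv_mem (apply_mem_S hφ y)) (apply_mem_S hφ' y), ?_⟩)
    rintro _ ⟨q, hq, rfl⟩
    have hq' : ((y * q * y⁻¹ : P) : Ω) ∈ Q := (Subgroup.mem_normalizer_iff.mp (hn y.2) q).mp hq
    have h1 := h _ hq'
    simp only [map_mul, map_inv, ← h q hq] at h1
    calc φ q * ((φ y)⁻¹ * φ' y) = (φ y)⁻¹ * (φ y * φ q * (φ y)⁻¹) * φ' y := by group
      _ = (φ y)⁻¹ * (φ' y * φ q * (φ' y)⁻¹) * φ' y := by rw [h1]
      _ = (φ y)⁻¹ * φ' y * φ q := by group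
  have hrange : ∀ y : P, φ' y ∈ φ.range := fun y => by
    obtain ⟨q, -, hq⟩ := hdiff y
    exact ⟨y * q, by rw [map_mul, hq, mul_inv_cancel_left]⟩
  obtain ⟨φi, hφi, hφir, hφi₁, hφi₂⟩ := exists_inv hφ rfl
  obtain ⟨μ, hμ, hμe⟩ := exists_comp hφ' hφi hrange
  have hμP : ∀ y, μ y ∈ P := fun y => by rw [hμe]; exact hφir.le ⟨_, rfl⟩
  obtain ⟨γ, hγ, hγe⟩ := exists_aut hμ (range_eq_of_card_le hμ hP hμP le_rfl)
  have hφγ : ∀ y : P, φ (γ y) = φ' y := fun y => by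
    have h1 := hφi₂ ⟨φ' y, hrange y⟩ (hφir.le ⟨_, rfl⟩)
    refine (apply_eq_of_coe_eq ?_).trans h1
    rw [hγe, hμe]
  have hinj := F.injective_of_mem hφ
  have hγQ : ∀ x : P, (x : Ω) ∈ Q → γ x = x := fun x hx => hinj ((hφγ x).trans (h x hx).symm)
  obtain ⟨k, hk⟩ := exists_pow_eq_one_of_stabilizes (p := p) (hS.to_le hP) (n := 1)
    (fun i => if i = 0 then Q.subgroupOf P else ⊤) (fun i hi => by simp) (by simp) (α := γ)
    ⟨0, fun x hx => by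
      rw [pow_zero, pow_one]
      exact hγQ x (by simpa [Subgroup.mem_subgroupOf] using hx)⟩
    (fun i hi x _ => by
      obtain rfl : i = 0 := by omega
      obtain ⟨q, hq, hqe⟩ := hdiff x
      have : x⁻¹ * γ x = q := hinj (by rw [map_mul, map_inv, hφγ, hqe])
      simpa [this] using hq)
  have hγp : IsPGroup p (Subgroup.zpowers γ) := by
    obtain ⟨m, -, hm⟩ := (Nat.dvd_prime_pow (Fact.out : p.Prime)).mp (orderOf_dvd_of_pow_eq_one hk)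
    exact IsPGroup.of_card ((Nat.card_zpowers γ).trans hm)
  obtain ⟨η, hη, hηA⟩ := exists_map_conj_into hS hF hP (Subgroup.zpowers_le.mpr hγ) hγp
  obtain ⟨g, hg, hge⟩ := hηA γ (Subgroup.mem_zpowers γ)
  have hgC : g ∈ centralizerIn S ((Q.subgroupOf P).map η) := by
    refine mem_centralizerIn.mpr ⟨hg, ?_⟩
    rintro _ ⟨q, hq, rfl⟩
    have h1 := hge q
    rw [hγQ q hq] at h1
    exact (eq_mul_inv_iff_mul_eq.mp h1)
  obtain ⟨z, hz, rfl⟩ := hQ.2 _ (isConj_map hη hQP) hgC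
  refine ⟨z, hz, fun q hq => ?_, fun y => ?_⟩
  · have h1 := F.injective_of_mem hη (a₁ := ⟨q, hQP hq⟩ * z) (a₂ := z * ⟨q, hQP hq⟩)
      (by rw [map_mul, map_mul]; exact (mem_centralizerIn.mp hgC).2 _ ⟨_, hq, rfl⟩)
    exact congrArg Subtype.val h1
  · rw [← hφγ]
    congr 1
    exact F.injective_of_mem hη (by rw [hge, map_mul, map_mul, map_inv])

/-- Maps agreeing on a centric subgroup differ by an inner automorphism from its centre. -/
theorem exists_inner_of_agree (hS : IsPGroup p S) (hF : F.IsSaturated p) (hQP : Q ≤ P)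
    (hQ : F.IsCentric Q) {φ φ' : P →* Ω} (hφ : φ ∈ F.Hom P)
    (hφ' : φ' ∈ F.Hom P) (h : ∀ x : P, (x : Ω) ∈ Q → φ x = φ' x) :
    ∃ z : P, (z : Ω) ∈ Q ∧ (z : Ω) ∈ Subgroup.centralizer (Q : Set Ω) ∧
      ∀ y : P, φ' y = φ (z * y * z⁻¹) := by
  suffices H : ∀ (n : ℕ) (Q : Subgroup Ω) (φ φ' : P →* Ω), Nat.card P - Nat.card Q < n → Q ≤ P →
      F.IsCentric Q → φ ∈ F.Hom P → φ' ∈ F.Hom P → (∀ x : P, (x : Ω) ∈ Q → φ x = φ' x) →
      ∃ z : P, (z : Ω) ∈ Q ∧ (z : Ω) ∈ Subgroup.centralizer (Q : Set Ω) ∧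
        ∀ y : P, φ' y = φ (z * y * z⁻¹) from
    H _ Q φ φ' (Nat.lt_succ_self _) hQP hQ hφ hφ' h
  intro n
  induction n with
  | zero => intro _ _ _ h; omega
  | succ n ih =>
  intro Q φ φ' hn hQP hQ hφ hφ' h
  have hP := le_S hφ
  have := finite_of_le hP
  by_cases hQe : Q = P
  · exact ⟨1, Q.one_mem, Subgroup.one_mem _, fun y => by
      rw [one_mul, inv_one, mul_one]; exact (h y (hQe ▸ y.2)).symm⟩
  have hlt := lt_normalizerIn hS hP (lt_of_le_of_ne hQP hQe)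
  have hQ₁P : normalizerIn P Q ≤ P := inf_le_left
  have := finite_of_le (hQ₁P.trans hP)
  obtain ⟨z, hz, hzC, hze⟩ := exists_inner_of_agree_normal hS hF hlt.le inf_le_right hQ
    (restrict_mem hQ₁P hφ) (restrict_mem hQ₁P hφ') fun x hx => h _ hx
  set z' : P := ⟨z, hQ₁P z.2⟩
  obtain ⟨φ'', hφ'', hφ''e⟩ : ∃ φ'' ∈ F.Hom P, ∀ y : P, φ'' y = φ (z' * y * z'⁻¹) := by
    obtain ⟨c, hc, hce⟩ := exists_comp (F.conj_mem hP (hP z'.2)) hφ
      fun y => P.mul_mem (P.mul_mem z'.2 y.2) (P.inv_mem z'.2)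
    exact ⟨c, hc, fun y => (hce y).trans (apply_eq_of_coe_eq rfl)⟩
  have hcard : Nat.card Q < Nat.card (normalizerIn P Q) :=
    lt_of_not_ge fun hge => hlt.ne (eq_of_le_of_card_le hlt.le hge)
  have hcard' : Nat.card (normalizerIn P Q) ≤ Nat.card P := Subgroup.card_le_of_le hQ₁P
  obtain ⟨w, hw, hwC, hwe⟩ := ih (normalizerIn P Q) φ'' φ' (by omega) hQ₁P
    (IsCentric.of_le hQ hlt.le (hQ₁P.trans hP)) hφ'' hφ' fun x hx => by
      rw [hφ''e]; exact (hze ⟨x, hx⟩).symm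
  have hwQ : (w : Ω) ∈ Q :=
    IsCentric.centralizerIn_le' hQ ⟨hP w.2, Subgroup.centralizer_le hlt.le hwC⟩
  refine ⟨z' * w, Q.mul_mem hz hwQ, Subgroup.mul_mem _ hzC (Subgroup.centralizer_le hlt.le hwC),
    fun y => ?_⟩
  rw [hwe, hφ''e]
  congr 1
  group

end CfsgLib.Fusion
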