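import Cfsg.Agent.Lib.Fusion.ExtSystem
import Cfsg.Agent.Lib.Fusion.Centric

/-!
# Saturation of the systems `N_F^K(Q)`
-/

namespace CfsgLib.Fusion

open Cfsg Cfsg.FusionSystem
open scoped Pointwise

variable {Ω : Type*} [Group Ω] {S : Subgroup Ω} {F : FusionSystem S} {P P' Q R T : Subgroup Ω}
  {K : Subgroup (MulAut Q)}

theorem coe_congr_apply {A B : Subgroup Ω} (e : A ≃* B) (a : MulAut A) (y : B) :
    ((MulAut.congr e a y : B) : Ω) = (e (a (e.symm y)) : B) := rfl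

theorem sup_range {φ : ↥(P ⊔ Q) →* Ω} {A B : Subgroup Ω}
    (hA : (P.subgroupOf (P ⊔ Q)).map φ = A) (hB : (Q.subgroupOf (P ⊔ Q)).map φ = B) :
    φ.range = A ⊔ B := by
  rw [← hA, ← hB, ← Subgroup.map_sup, ← Subgroup.subgroupOf_sup le_sup_left le_sup_right,
    Subgroup.subgroupOf_self, MonoidHom.range_eq_map]

/-- The automorphisms of `P ⊔ Q` in the system that preserve `P` and act on `Q` inside `K`. -/
def kStab (F : FusionSystem S) (P Q : Subgroup Ω) (K : Subgroup (MulAut Q)) :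
    Subgroup (MulAut ↥(P ⊔ Q)) where
  carrier := {a | a ∈ F.autGroup (P ⊔ Q) ∧ (∀ x : ↥(P ⊔ Q), ((a x : ↥(P ⊔ Q)) : Ω) ∈ P ↔ (x : Ω) ∈ P) ∧
    ∃ κ ∈ K, ∀ x : Q, ((a (Subgroup.inclusion le_sup_right x) : ↥(P ⊔ Q)) : Ω) = ((κ x : Q) : Ω)}
  one_mem' := ⟨Subgroup.one_mem _, fun _ => Iff.rfl, 1, K.one_mem, fun _ => rfl⟩
  mul_mem' := by
    rintro a b ⟨ha, haP, κ, hκ, haQ⟩ ⟨hb, hbP, l, hl, hbQ⟩
    refine ⟨Subgroup.mul_mem _ ha hb, fun x => (haP (b x)).trans (hbP x), κ * l, K.mul_mem hκ hl, fun x => ?_⟩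
    have h1 : b (Subgroup.inclusion le_sup_right x) = Subgroup.inclusion le_sup_right (l x) :=
      Subtype.ext (hbQ x)
    rw [MulAut.mul_apply, h1]; exact haQ (l x)
  inv_mem' := by
    rintro a ⟨ha, haP, κ, hκ, haQ⟩
    refine ⟨Subgroup.inv_mem _ ha, fun x => ?_, κ⁻¹, K.inv_mem hκ, fun x => ?_⟩
    · have := haP (a⁻¹ x)
      rw [MulAut.apply_inv_self] at this
      exact this.symm
    · have h1 : a (Subgroup.inclusion le_sup_right (κ⁻¹ x)) = Subgroup.inclusion le_sup_right x :=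
        Subtype.ext ((haQ _).trans (by rw [MulAut.apply_inv_self]; rfl))
      rw [← h1, MulAut.inv_apply_self]; rfl

theorem mem_kStab {a : MulAut ↥(P ⊔ Q)} :
    a ∈ kStab F P Q K ↔ a ∈ F.autGroup (P ⊔ Q) ∧
      (∀ x : ↥(P ⊔ Q), ((a x : ↥(P ⊔ Q)) : Ω) ∈ P ↔ (x : Ω) ∈ P) ∧
      ∃ κ ∈ K, ∀ x : Q, ((a (Subgroup.inclusion le_sup_right x) : ↥(P ⊔ Q)) : Ω) = ((κ x : Q) : Ω) :=
  Iff.rfl

theorem kStab_congr_mem {θ : ↥(P ⊔ Q) →* Ω} (hθ : θ ∈ F.Hom (P ⊔ Q)) {e : ↥(P ⊔ Q) ≃* ↥(P' ⊔ Q)}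
    (he : ∀ x, ((e x : ↥(P' ⊔ Q)) : Ω) = θ x)
    (heP : ∀ x : ↥(P ⊔ Q), ((e x : ↥(P' ⊔ Q)) : Ω) ∈ P' ↔ (x : Ω) ∈ P) {χ : MulAut Q} (hχ : χ ∈ K)
    (heQ : ∀ x : Q, ((e (Subgroup.inclusion le_sup_right x) : ↥(P' ⊔ Q)) : Ω) = ((χ x : Q) : Ω))
    {a : MulAut ↥(P ⊔ Q)} (ha : a ∈ kStab F P Q K) : MulAut.congr e a ∈ kStab F P' Q K := by
  obtain ⟨haA, haP, κ, hκ, haQ⟩ := ha
  refine ⟨autGroup_congr_mem hθ he haA, fun y => ?_,
    χ * κ * χ⁻¹, K.mul_mem (K.mul_mem hχ hκ) (K.inv_mem hχ), fun x => ?_⟩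
  · rw [coe_congr_apply, heP, haP]
    conv_rhs => rw [← e.apply_symm_apply y]
    exact (heP _).symm
  · have h1 : e.symm (Subgroup.inclusion le_sup_right x) = Subgroup.inclusion le_sup_right (χ⁻¹ x) := by
      rw [MulEquiv.symm_apply_eq]
      exact Subtype.ext (by rw [heQ, MulAut.apply_inv_self]; rfl)
    have h2 : a (Subgroup.inclusion le_sup_right (χ⁻¹ x)) = Subgroup.inclusion le_sup_right (κ (χ⁻¹ x)) :=
      Subtype.ext (haQ _)
    rw [coe_congr_apply, h1, h2]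
    exact heQ _

theorem mem_of_kStab_conj (hT : IsKNormalizer S Q K T) {g : Ω} (hg : g ∈ S) {a : MulAut ↥(P ⊔ Q)}
    (ha : a ∈ kStab F P Q K)
    (hge : ∀ x : ↥(P ⊔ Q), ((a x : ↥(P ⊔ Q)) : Ω) = g * (x : Ω) * g⁻¹) :
    g ∈ normalizerIn T P := by
  obtain ⟨-, haP, κ, hκ, haQ⟩ := ha
  refine ⟨(hT g).mpr ⟨hg, κ, hκ, fun x => by rw [← haQ, hge]; rfl⟩, ?_⟩
  refine Subgroup.mem_normalizer_iff.mpr fun x => ⟨fun hx => ?_, fun hx => ?_⟩
  · have := (haP ⟨x, Subgroup.mem_sup_left hx⟩).mpr hx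
    rwa [hge] at this
  · obtain ⟨y, hy⟩ := a.surjective ⟨_, Subgroup.mem_sup_left hx⟩
    have h1 := hge y
    rw [hy] at h1
    have h2 : x = y := mul_left_cancel (mul_right_cancel h1)
    rw [h2]
    exact (haP y).mp (by rw [hy]; exact hx)

theorem exists_kStab_conj (hQ : Q ≤ S) (hT : IsKNormalizer S Q K T) (hP : P ≤ T) {g : Ω}
    (hg : g ∈ normalizerIn T P) :
    ∃ a ∈ kStab F P Q K, ∀ x : ↥(P ⊔ Q), ((a x : ↥(P ⊔ Q)) : Ω) = g * (x : Ω) * g⁻¹ := by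
  obtain ⟨κ, hκ, hκe⟩ := ((hT g).mp hg.1).2
  have hgQ := hT.le_normalizer hg.1
  have hgR : g ∈ Subgroup.normalizer ((P ⊔ Q : Subgroup Ω) : Set Ω) := by
    have h : ∀ h ∈ Subgroup.normalizer (P : Set Ω) ⊓ Subgroup.normalizer (Q : Set Ω),
        P ⊔ Q ≤ (P ⊔ Q).comap (MulAut.conj h).toMonoidHom := fun h hh =>
      sup_le (fun x hx => Subgroup.mem_sup_left ((Subgroup.mem_normalizer_iff.mp hh.1 x).mp hx))
        (fun x hx => Subgroup.mem_sup_right ((Subgroup.mem_normalizer_iff.mp hh.2 x).mp hx))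
    refine Subgroup.mem_normalizer_iff.mpr fun x => ⟨fun hx => h g ⟨hg.2, hgQ⟩ hx, fun hx => ?_⟩
    have h1 : g⁻¹ * (g * x * g⁻¹) * g⁻¹⁻¹ ∈ P ⊔ Q :=
      h g⁻¹ ⟨Subgroup.inv_mem _ hg.2, Subgroup.inv_mem _ hgQ⟩ hx
    rwa [show g⁻¹ * (g * x * g⁻¹) * g⁻¹⁻¹ = x by group] at h1
  obtain ⟨a, ha, hae⟩ := exists_autInducedBy (K := S) (hT.le hg.1) hgR
  refine ⟨a, ⟨autInducedBy_le_autGroup (sup_le (hP.trans hT.le) hQ) ha, fun x => ?_, κ, hκ, fun x => ?_⟩, hae⟩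
  · rw [hae]; exact (Subgroup.mem_normalizer_iff.mp hg.2 x).symm
  · rw [hae, hκe]; rfl

/-- Restriction of `kStab` to `P`. -/
def kRes (F : FusionSystem S) (P Q : Subgroup Ω) (K : Subgroup (MulAut Q)) :
    kStab F P Q K →* MulAut P where
  toFun a :=
    { toFun := fun x => ⟨((a : MulAut ↥(P ⊔ Q)) ⟨x, Subgroup.mem_sup_left x.2⟩ : ↥(P ⊔ Q)),
        ((mem_kStab.mp a.2).2.1 _).mpr x.2⟩
      invFun := fun x => ⟨((a⁻¹ : kStab F P Q K) : MulAut ↥(P ⊔ Q)) ⟨x, Subgroup.mem_sup_left x.2⟩,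
        ((mem_kStab.mp (a⁻¹).2).2.1 _).mpr x.2⟩
      left_inv := fun x => Subtype.ext <| by
        show (((a : MulAut ↥(P ⊔ Q))⁻¹ ((a : MulAut ↥(P ⊔ Q)) ⟨x, _⟩) : ↥(P ⊔ Q)) : Ω) = x
        rw [MulAut.inv_apply_self]
      right_inv := fun x => Subtype.ext <| by
        show (((a : MulAut ↥(P ⊔ Q)) ((a : MulAut ↥(P ⊔ Q))⁻¹ ⟨x, _⟩) : ↥(P ⊔ Q)) : Ω) = x
        rw [MulAut.apply_inv_self]
      map_mul' := fun x y => Subtype.ext <| by
        exact congrArg (fun z : ↥(P ⊔ Q) => (z : Ω)) (map_mul (a : MulAut ↥(P ⊔ Q))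
          ⟨x, Subgroup.mem_sup_left x.2⟩ ⟨y, Subgroup.mem_sup_left y.2⟩) }
  map_one' := MulEquiv.ext fun _ => rfl
  map_mul' _ _ := MulEquiv.ext fun _ => rfl

theorem kRes_apply (a : kStab F P Q K) (x : P) :
    ((kRes F P Q K a x : P) : Ω) =
      ((a : MulAut ↥(P ⊔ Q)) ⟨x, Subgroup.mem_sup_left x.2⟩ : ↥(P ⊔ Q)) := rfl

theorem range_kRes (hQ : Q ≤ S) (hT : IsKNormalizer S Q K T) [Finite S] (hP : P ≤ T) :
    (kRes F P Q K).range = (extSystem F hQ K T hT).autGroup P := by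
  ext α
  rw [mem_autGroup hP]
  constructor
  · rintro ⟨⟨a, ha, haP, κ, hκ, haQ⟩, rfl⟩
    have hm := (mem_autGroup (sup_le (hP.trans hT.le) hQ)).mp ha
    exact ⟨restrict_of le_sup_left hm fun x => rfl, hP, fun x => hP (Subtype.mem _), _, hm,
      fun x => rfl, κ, hκ, haQ⟩
  · rintro ⟨hα, -, -, ψ, hψ, hψe, κ, hκ, hκe⟩
    have hr : ψ.range = P ⊔ Q := by
      refine range_eq_of_card_le hψ (sup_le (hP.trans hT.le) hQ) ?_ le_rfl
      refine sup_le_map_comap (fun a ha => Subgroup.mem_sup_left ?_) fun b hb => Subgroup.mem_sup_right ?_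
      · rw [show ψ ⟨a, _⟩ = ((α ⟨a, ha⟩ : P) : Ω) from hψe ⟨a, ha⟩]; exact Subtype.mem _
      · rw [show ψ ⟨b, _⟩ = ((κ ⟨b, hb⟩ : Q) : Ω) from hκe ⟨b, hb⟩]; exact Subtype.mem _
    obtain ⟨a, ha, hae⟩ := exists_aut hψ hr
    refine ⟨⟨a, ha, fun x => ?_, κ, hκ, fun x => by rw [hae]; exact hκe x⟩,
      MulEquiv.ext fun x => Subtype.ext (by rw [kRes_apply, hae]; exact hψe x)⟩
    rw [hae]
    refine ⟨fun hx => ?_, fun hx => ?_⟩
    · have h1 := hψe (α.symm ⟨_, hx⟩)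
      rw [autMap_apply, MulEquiv.apply_symm_apply] at h1
      rw [← F.injective_of_mem hψ h1]
      exact (α.symm ⟨_, hx⟩).2
    · rw [show ψ x = ((α ⟨x, hx⟩ : P) : Ω) from hψe ⟨x, hx⟩]; exact Subtype.mem _

section saturated

variable [Finite S] {p : ℕ} [Fact p.Prime]

/-- The representative of an `N_F^K(Q)`-class used for saturation. -/
theorem exists_k_good (hS : IsPGroup p S) (hF : F.IsSaturated p) (hQr : F.IsReceptive Q)
    (hK : Nat.card ↥(K ⊓ autInducedBy S Q) = p ^ (Nat.card ↥(K ⊓ F.autGroup Q)).factorization p)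
    (hT : IsKNormalizer S Q K T) (hP : P ≤ T) :
    ∃ P', (extSystem F hQr.1 K T hT).IsConj P P' ∧ F.IsReceptive (P' ⊔ Q) ∧
      Nat.card ↥(kStab F P' Q K ⊓ autInducedBy S (P' ⊔ Q)) =
        p ^ (Nat.card (kStab F P' Q K)).factorization p := by
  have hQS := hQr.1
  have hRS : P ⊔ Q ≤ S := sup_le (hP.trans hT.le) hQS
  have := finite_mulAut hRS
  obtain ⟨A⟩ : Nonempty (Sylow p (kStab F P Q K)) := Sylow.nonempty
  -- a receptive conjugate absorbing `A`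
  obtain ⟨R₀, hR₀a, hR₀r, ⟨η₀, hη₀, hη₀r⟩, -⟩ := exists_good_conj hS hF hRS
  obtain ⟨e₀, he₀⟩ := exists_equiv hη₀ hη₀r
  obtain ⟨δ, hδ, hδA⟩ := FullyAutomized.exists_conj hR₀a
    (A := (A.toSubgroup.map (kStab F P Q K).subtype).map (MulAut.congr e₀).toMonoidHom)
    (by
      rintro _ ⟨_, ⟨a, -, rfl⟩, rfl⟩
      exact autGroup_congr_mem hη₀ he₀ a.2.1)
    ((A.2.map _).map _)
  obtain ⟨δm, hδm, -, hδe⟩ := exists_map_of_mem_autGroup hR₀a.1 hδ
  obtain ⟨η, hη, hηe⟩ := exists_comp hη₀ hδm fun x => hη₀r.le ⟨x, rfl⟩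
  have hη' : ∀ x, η x = ((δ (e₀ x) : R₀) : Ω) := fun x => by
    rw [hηe, hδe]; congr 2; exact Subtype.ext (he₀ x).symm
  have hηr : η.range = R₀ := by
    ext y
    constructor
    · rintro ⟨x, rfl⟩; rw [hη']; exact Subtype.mem _
    · intro hy; exact ⟨e₀.symm (δ.symm ⟨y, hy⟩), by rw [hη']; simp⟩
  have hηA : ∀ a ∈ A.toSubgroup, ∃ g ∈ S, ∀ x, η ((a : MulAut ↥(P ⊔ Q)) x) = g * η x * g⁻¹ := by
    intro a ha
    obtain ⟨g, hg, hge⟩ := mem_autInducedBy.mp (hδA _ ⟨_, ⟨a, ha, rfl⟩, rfl⟩)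
    exact ⟨g, hg, fun x => by rw [hη', hη', ← hge]; simp [MulAut.congr]⟩
  -- pull the image of `Q` back to `Q`
  set Q₀ := (Q.subgroupOf (P ⊔ Q)).map η with hQ₀
  obtain ⟨ηQ, hηQ, hηQr, hηQe⟩ := exists_restrict hη (le_sup_right : Q ≤ P ⊔ Q) rfl
  have hQ₀S : Q₀ ≤ S := IsConj.le_right (isConj_map hη (le_sup_right : Q ≤ P ⊔ Q))
  obtain ⟨eQ, heQ⟩ := exists_equiv hηQ hηQr
  have heQ' : ∀ x : Q, ((eQ x : Q₀) : Ω) = η ⟨x, Subgroup.mem_sup_right x.2⟩ := fun x =>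
    (heQ x).trans (hηQe x)
  set B := K ⊓ (autInducedBy S Q₀).map (MulAut.congr eQ.symm).toMonoidHom
  have hB : B ≤ K ⊓ F.autGroup Q := by
    refine le_inf inf_le_left (inf_le_right.trans ?_)
    obtain ⟨θ, hθ, -, hθ₁, -⟩ := exists_inv hηQ hηQr
    refine (Subgroup.map_mono (autInducedBy_le_autGroup hQ₀S)).trans (map_autGroup hθ fun y => ?_).le
    obtain ⟨x, rfl⟩ := eQ.surjective y
    rw [MulEquiv.symm_apply_apply, ← hθ₁ x (hηQr.le ⟨x, rfl⟩)]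
    exact (apply_eq_of_coe_eq (heQ x)).symm
  have := finite_mulAut hQS
  obtain ⟨χ, hχ, hχB⟩ : ∃ χ ∈ K ⊓ F.autGroup Q, ∀ b ∈ B, χ * b * χ⁻¹ ∈ autInducedBy S Q := by
    have hBp : IsPGroup p B := ((isPGroup_autInducedBy hS Q₀).map _).to_le inf_le_right
    have hle : K ⊓ autInducedBy S Q ≤ K ⊓ F.autGroup Q :=
      inf_le_inf_left _ (autInducedBy_le_autGroup hQS)
    obtain ⟨Y, hY⟩ : ∃ Y : Sylow p ↥(K ⊓ F.autGroup Q),
        Y.toSubgroup = (K ⊓ autInducedBy S Q).subgroupOf (K ⊓ F.autGroup Q) :=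
      ⟨Sylow.ofCard _ ((Nat.card_congr (Subgroup.subgroupOfEquivOfLe hle).toEquiv).trans hK),
        Sylow.coe_ofCard _ _⟩
    obtain ⟨X, hX⟩ := (hBp.comap_subtype (K := K ⊓ F.autGroup Q)).exists_le_sylow
    obtain ⟨c, hc⟩ := MulAction.exists_smul_eq ↥(K ⊓ F.autGroup Q) X Y
    refine ⟨c, c.2, fun b hb => ?_⟩
    have h1 : c * ⟨b, hB hb⟩ * c⁻¹ ∈ Y.toSubgroup := by
      rw [← hc, Sylow.coe_subgroup_smul]
      exact Subgroup.smul_mem_pointwise_smul _ (MulAut.conj c) _ (hX hb)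
    rw [hY] at h1
    exact h1.2
  obtain ⟨ι₀, hι₀, hι₀r, hι₀₁, -⟩ := exists_inv hηQ hηQr
  obtain ⟨ι, hι, hιe⟩ := exists_comp hι₀ ((mem_autGroup hQS).mp hχ.2) fun y => hι₀r.le ⟨y, rfl⟩
  have hι' : ∀ x : Q, ι (eQ x) = ((χ x : Q) : Ω) := fun x => by
    rw [hιe, autMap_apply]
    congr 2
    apply Subtype.ext
    rw [← hι₀₁ x (hηQr.le ⟨x, rfl⟩)]
    exact apply_eq_of_coe_eq (heQ x)
  have hιr : ι.range = Q := by
    ext y
    constructor
    · rintro ⟨z, rfl⟩; rw [hιe]; exact Subtype.mem _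
    · intro hy; exact ⟨eQ (χ.symm ⟨y, hy⟩), by rw [hι']; simp⟩
  -- elements acting on `η Q` inside `K` lie in the extender
  have hD : ∀ g ∈ S, ∀ κ ∈ K, (∀ x : Q, g * η ⟨x, Subgroup.mem_sup_right x.2⟩ * g⁻¹ =
      η ⟨κ x, Subgroup.mem_sup_right (κ x).2⟩) → g ∈ extender S Q₀ ι := by
    intro g hg κ hκ hgκ
    have hval : ∀ x : Q, g * ((eQ x : Q₀) : Ω) * g⁻¹ = ((eQ (κ x) : Q₀) : Ω) := fun x => by
      rw [heQ', heQ']; exact hgκ x
    have hgN : g ∈ Subgroup.normalizer (Q₀ : Set Ω) := by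
      have := finite_of_le hQ₀S
      refine mem_normalizer_of_forall fun y hy => ?_
      obtain ⟨x, hx⟩ := eQ.surjective ⟨y, hy⟩
      have := hval x
      rw [hx] at this
      exact this ▸ Subtype.mem _
    obtain ⟨c, hc, hce⟩ := exists_autInducedBy (K := S) hg hgN
    have hcκ : MulAut.congr eQ.symm c = κ := MulEquiv.ext fun x => by
      show eQ.symm (c (eQ x)) = κ x
      rw [MulEquiv.symm_apply_eq]
      exact Subtype.ext ((hce (eQ x)).trans (hval x))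
    obtain ⟨h, hh, hhe⟩ := mem_autInducedBy.mp (hχB κ ⟨hκ, c, hc, hcκ⟩)
    refine mem_extender.mpr ⟨hg, hgN, h, hh, fun x hx => ?_⟩
    obtain ⟨z, rfl⟩ := eQ.surjective x
    have h1 : (⟨g * ((eQ z : Q₀) : Ω) * g⁻¹, hx⟩ : Q₀) = eQ (κ z) := Subtype.ext (hval z)
    rw [h1, hι', hι', ← hhe (χ z)]
    simp
  set D := extender S Q₀ ι
  have hQ₀D : Q₀ ≤ D := le_extender hQ₀S (apply_mem_S hι)
  obtain ⟨ψ, hψ, hψe⟩ := exists_extension hQr hι hιr hQ₀D le_rfl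
  have hηD : ∀ x : ↥(P ⊔ Q), η x ∈ D := by
    refine sup_le_map_comap (fun a ha => ?_) fun b hb => hQ₀D ⟨⟨b, Subgroup.mem_sup_right hb⟩, hb, rfl⟩
    obtain ⟨κ, hκ, hκe⟩ := ((hT a).mp (hP ha)).2
    refine hD _ (apply_mem_S hη _) κ hκ fun x => ?_
    rw [← map_inv η, ← map_mul η, ← map_mul η]
    exact apply_eq_of_coe_eq (hκe x).symm
  obtain ⟨θ, hθ, hθe⟩ := exists_comp hη hψ hηD
  have hθQ : ∀ x : Q, θ (Subgroup.inclusion le_sup_right x) = ((χ x : Q) : Ω) := fun x => by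
    rw [hθe, ← hι' x, ← hψe]
    exact apply_eq_of_coe_eq (heQ' x).symm
  set P' := (P.subgroupOf (P ⊔ Q)).map θ with hP'
  have hθQ' : (Q.subgroupOf (P ⊔ Q)).map θ = Q := (map_eq_iff_exists_aut hθ).mpr ⟨χ, hθQ⟩
  have hθr : θ.range = P' ⊔ Q := sup_range rfl hθQ'
  have hP'T : P' ≤ T := by
    rintro _ ⟨a, ha, rfl⟩
    obtain ⟨κ, hκ, hκe⟩ := ((hT a).mp (hP ha)).2
    refine (hT _).mpr ⟨apply_mem_S hθ a, χ * κ * χ⁻¹, K.mul_mem (K.mul_mem hχ.1 hκ) (K.inv_mem hχ.1), fun x => ?_⟩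
    obtain ⟨y, rfl⟩ := χ.surjective x
    rw [MulAut.mul_apply, MulAut.mul_apply, MulAut.inv_apply_self, ← hθQ, ← hθQ, ← map_inv θ, ← map_mul θ,
      ← map_mul θ]
    exact apply_eq_of_coe_eq (hκe y)
  have hconj : (extSystem F hQr.1 K T hT).IsConj P P' := by
    obtain ⟨φ, hφ, hφr, hφe⟩ := exists_restrict hθ (le_sup_left : P ≤ P ⊔ Q) hP'.symm
    exact ⟨φ, ⟨hφ, hP, fun x => hP'T (hφr.le ⟨x, rfl⟩), θ, hθ, fun x => (hφe x).symm, χ, hχ.1, hθQ⟩, hφr⟩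
  have hR'S : P' ⊔ Q ≤ S := sup_le (hP'T.trans hT.le) hQS
  refine ⟨P', hconj, ?_, ?_⟩
  · -- fully centralized
    refine receptive_of_fullyCentralized hS hF ⟨hR'S, fun Z hZ => ?_⟩
    have hcl : F.IsConj R₀ (P' ⊔ Q) := isConj_trans (isConj_symm ⟨η, hη, hηr⟩) ⟨θ, hθ, hθr⟩
    refine ((fullyCentralized_of_receptive hR₀r).2 Z (isConj_trans hcl hZ)).trans ?_
    have hC : centralizerIn S R₀ ≤ D := fun g hg => hD g hg.1 1 K.one_mem fun x =>
      (mem_centralizerIn'.mp hg).2 ⟨_, hηr.le ⟨_, rfl⟩⟩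
    refine card_le_of_map (restrict_mem hC hψ) centralizerIn_le fun g => ?_
    refine mem_centralizerIn'.mpr ⟨apply_mem_S hψ _, fun y => ?_⟩
    obtain ⟨x, hx⟩ := hθr.ge y.2
    rw [← hx, hθe]
    show ψ _ * ψ _ * (ψ _)⁻¹ = _
    rw [← map_inv ψ, ← map_mul ψ, ← map_mul ψ]
    exact apply_eq_of_coe_eq ((mem_centralizerIn'.mp g.2).2 ⟨η x, hηr.le ⟨x, rfl⟩⟩)
  · -- Sylow condition
    obtain ⟨e, he⟩ := exists_equiv hθ hθr
    obtain ⟨θ', hθ', -, hθ'₁, -⟩ := exists_inv hθ hθr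
    have heP : ∀ x : ↥(P ⊔ Q), ((e x : ↥(P' ⊔ Q)) : Ω) ∈ P' ↔ (x : Ω) ∈ P := fun x => by
      rw [he]
      exact ⟨fun ⟨z, hz, hze⟩ => F.injective_of_mem hθ hze ▸ hz, fun hx => ⟨x, hx, rfl⟩⟩
    have heQ'' : ∀ x : Q, ((e (Subgroup.inclusion le_sup_right x) : ↥(P' ⊔ Q)) : Ω) = ((χ x : Q) : Ω) :=
      fun x => (he _).trans (hθQ x)
    have hLL : (kStab F P Q K).map (MulAut.congr e).toMonoidHom = kStab F P' Q K := by
      apply le_antisymm
      · rintro _ ⟨a, ha, rfl⟩; exact kStab_congr_mem hθ he heP hχ.1 heQ'' ha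
      · intro b hb
        refine ⟨MulAut.congr e.symm b, kStab_congr_mem hθ' (fun y => ?_) (fun y => ?_) (K.inv_mem hχ.1)
          (fun x => ?_) hb, MulEquiv.ext fun y => Subtype.ext ?_⟩
        · obtain ⟨x, rfl⟩ := e.surjective y
          rw [MulEquiv.symm_apply_apply, ← hθ'₁ x (hθr.le ⟨x, rfl⟩)]
          exact apply_eq_of_coe_eq (he x).symm
        · conv_rhs => rw [← e.apply_symm_apply y]
          exact (heP _).symm
        · have h1 : e (Subgroup.inclusion le_sup_right (χ⁻¹ x)) = Subgroup.inclusion le_sup_right x :=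
            Subtype.ext (by rw [heQ'', MulAut.apply_inv_self]; rfl)
          rw [← h1, MulEquiv.symm_apply_apply]; rfl
        · show ((e (e.symm (b (e (e.symm y)))) : ↥(P' ⊔ Q)) : Ω) = _
          simp
    have := finite_mulAut hR'S
    have hinj := (MulAut.congr e).injective
    have hcard : Nat.card (kStab F P' Q K) = Nat.card (kStab F P Q K) := by
      rw [← hLL]; exact (Nat.card_congr ((kStab F P Q K).equivMapOfInjective _ hinj).toEquiv).symm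
    set A' := (A.toSubgroup.map (kStab F P Q K).subtype).map (MulAut.congr e).toMonoidHom with hA'
    have hA'le : A' ≤ kStab F P' Q K ⊓ autInducedBy S (P' ⊔ Q) := by
      refine le_inf ((Subgroup.map_mono (Subgroup.map_subtype_le _)).trans hLL.le) ?_
      rintro _ ⟨_, ⟨a, ha, rfl⟩, rfl⟩
      obtain ⟨g, hg, hge⟩ := hηA a ha
      obtain ⟨κ, hκ, hκe⟩ := a.2.2.2
      have hgD : g ∈ D := hD g hg κ hκ fun x => by
        rw [← hge]; exact apply_eq_of_coe_eq (hκe x)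
      refine mem_autInducedBy.mpr ⟨_, apply_mem_S hψ ⟨g, hgD⟩, fun y => ?_⟩
      obtain ⟨x, rfl⟩ := e.surjective y
      show ((e ((a : MulAut ↥(P ⊔ Q)) (e.symm (e x))) : ↥(P' ⊔ Q)) : Ω) = _
      rw [MulEquiv.symm_apply_apply, he, he, hθe, hθe, ← map_inv ψ, ← map_mul ψ, ← map_mul ψ]
      exact apply_eq_of_coe_eq (hge x)
    have hA'card : Nat.card A' = p ^ (Nat.card (kStab F P' Q K)).factorization p := by
      have h1 : Nat.card A' = Nat.card A.toSubgroup := by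
        rw [hA', ← Nat.card_congr ((A.toSubgroup.map (kStab F P Q K).subtype).equivMapOfInjective _ hinj).toEquiv,
          ← Nat.card_congr (A.toSubgroup.equivMapOfInjective _ (kStab F P Q K).subtype_injective).toEquiv]
      rw [h1, hcard]; exact A.card_eq_multiplicity
    refine le_antisymm ?_ (hA'card ▸ Subgroup.card_le_of_le hA'le)
    obtain ⟨Z, hZ⟩ := (((isPGroup_autInducedBy hS (P' ⊔ Q)).to_le
      (inf_le_right : kStab F P' Q K ⊓ autInducedBy S (P' ⊔ Q) ≤ _)).comap_subtype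
        (K := kStab F P' Q K)).exists_le_sylow
    have hc1 : Nat.card Z.toSubgroup = p ^ (Nat.card (kStab F P' Q K)).factorization p := Z.card_eq_multiplicity
    rw [← hc1, ← Nat.card_congr (Subgroup.subgroupOfEquivOfLe
      (inf_le_left : kStab F P' Q K ⊓ autInducedBy S (P' ⊔ Q) ≤ _)).toEquiv]
    exact Subgroup.card_le_of_le hZ

/-- `N_F^K(Q)` is saturated when `Q` is fully `K`-normalized. -/
theorem extSystem_saturated (hS : IsPGroup p S) (hF : F.IsSaturated p) (hQr : F.IsReceptive Q)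
    (hK : Nat.card ↥(K ⊓ autInducedBy S Q) = p ^ (Nat.card ↥(K ⊓ F.autGroup Q)).factorization p)
    (hT : IsKNormalizer S Q K T) : (extSystem F hQr.1 K T hT).IsSaturated p := by
  intro P₀ hP₀
  obtain ⟨P, hconj, hRr, hcard⟩ := exists_k_good hS hF hQr hK hT hP₀
  set E := extSystem F hQr.1 K T hT
  have hP : P ≤ T := IsConj.le_right hconj
  have hQS := hQr.1
  have := finite_mulAut hRr.1
  have hPS : P ≤ S := hP.trans hT.le
  have := finite_mulAut hPS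
  obtain ⟨AS, hAS⟩ : ∃ AS : Sylow p (kStab F P Q K),
      AS.toSubgroup = (autInducedBy S (P ⊔ Q)).subgroupOf (kStab F P Q K) := by
    refine ⟨Sylow.ofCard _ (Eq.trans ?_ hcard), Sylow.coe_ofCard _ _⟩
    rw [← Subgroup.inf_subgroupOf_left (K := kStab F P Q K)]
    exact Nat.card_congr (Subgroup.subgroupOfEquivOfLe inf_le_left).toEquiv
  have hker : ∀ g ∈ normalizerIn T P, ∀ a : kStab F P Q K, (∀ x : P, ((kRes F P Q K a x : P) : Ω) =
      g * (x : Ω) * g⁻¹) → a ∈ (kRes F P Q K).ker ⊔ AS.toSubgroup := by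
    intro g hg a ha
    obtain ⟨c, hc, hce⟩ := exists_kStab_conj (F := F) hQS hT hP hg
    have hcm : (⟨c, hc⟩ : kStab F P Q K) ∈ AS.toSubgroup :=
      hAS.ge (mem_autInducedBy.mpr ⟨g, hT.le hg.1, hce⟩)
    have : a * (⟨c, hc⟩ : kStab F P Q K)⁻¹ ∈ (kRes F P Q K).ker := by
      rw [MonoidHom.mem_ker, map_mul, map_inv, mul_inv_eq_one]
      exact MulEquiv.ext fun x => Subtype.ext ((ha x).trans (hce ⟨x, _⟩).symm)
    have h := Subgroup.mul_mem _ (Subgroup.mem_sup_left this) (Subgroup.mem_sup_right hcm)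
    rwa [inv_mul_cancel_right] at h
  refine ⟨P, hconj, ?_, ?_⟩
  · -- fully automized
    have hTS := hT.le
    have : Finite T := finite_of_le hTS
    refine fullyAutomized_iff.mpr ⟨hP, ?_⟩
    have hr := range_kRes (F := F) hQS hT hP
    have e1 : autInducedBy T P = AS.toSubgroup.map (kRes F P Q K) := by
      ext α
      rw [mem_autInducedBy]
      constructor
      · rintro ⟨g, hg, hge⟩
        have hgN : g ∈ normalizerIn T P := ⟨hg, mem_normalizer_of_aut hge⟩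
        obtain ⟨c, hc, hce⟩ := exists_kStab_conj (F := F) hQS hT hP hgN
        exact ⟨⟨c, hc⟩, hAS.ge (mem_autInducedBy.mpr ⟨g, hTS hg, hce⟩),
          MulEquiv.ext fun x => Subtype.ext ((hce ⟨x, _⟩).trans (hge x).symm)⟩
      · rintro ⟨a, ha, rfl⟩
        obtain ⟨g, hg, hge⟩ := mem_autInducedBy.mp (hAS.le ha : (a : MulAut ↥(P ⊔ Q)) ∈ _)
        exact ⟨g, (mem_of_kStab_conj hT hg a.2 hge).1, fun x => hge ⟨x, _⟩⟩
    rw [e1, ← hr]
    have h1 := (AS.mapSurjective (f := (kRes F P Q K).rangeRestrict)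
      (kRes F P Q K).rangeRestrict_surjective).card_eq_multiplicity
    rw [Sylow.coe_mapSurjective] at h1
    rw [← h1, show AS.toSubgroup.map (kRes F P Q K) =
      (AS.toSubgroup.map (kRes F P Q K).rangeRestrict).map (kRes F P Q K).range.subtype by
        rw [Subgroup.map_map, MonoidHom.subtype_comp_rangeRestrict]]
    exact (Nat.card_congr (Subgroup.equivMapOfInjective _ _ (Subgroup.subtype_injective _)).toEquiv).symm
  · -- receptive
    refine ⟨hP, fun P₁ φ hφ hφr => ?_⟩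
    obtain ⟨hφF, hP₁, hφT, ψ, hψ, hψe, κ, hκ, hκe⟩ := hφ
    have hψP : (P₁.subgroupOf (P₁ ⊔ Q)).map ψ = P := by
      rw [← hφr]; ext y
      constructor
      · rintro ⟨x, hx, rfl⟩; exact ⟨⟨x, hx⟩, (hψe ⟨x, hx⟩).symm⟩
      · rintro ⟨x, rfl⟩; exact ⟨_, x.2, hψe x⟩
    have hψr : ψ.range = P ⊔ Q := sup_range hψP ((map_eq_iff_exists_aut hψ).mpr ⟨κ, hκe⟩)
    obtain ⟨e, he⟩ := exists_equiv hψ hψr
    have heP : ∀ x : ↥(P₁ ⊔ Q), ((e x : ↥(P ⊔ Q)) : Ω) ∈ P ↔ (x : Ω) ∈ P₁ := fun x => by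
      rw [he]
      refine ⟨fun hx => ?_, fun hx => hψP.le ⟨x, hx, rfl⟩⟩
      obtain ⟨z, hz, hze⟩ := hψP.ge hx
      exact F.injective_of_mem hψ hze ▸ hz
    -- the automorphisms to be moved into `Aut_S`
    let N₁ := extender T P₁ φ
    set A₁ : Subgroup (kStab F P Q K) :=
      (((autInducedBy N₁ (P₁ ⊔ Q)) ⊓ kStab F P₁ Q K).map (MulAut.congr e).toMonoidHom).subgroupOf
        (kStab F P Q K)
    have hA₁ : A₁ ≤ (kRes F P Q K).ker ⊔ AS.toSubgroup := by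
      rintro a ⟨c, ⟨hc, hcK⟩, hca⟩
      obtain ⟨g, hg, hge⟩ := mem_autInducedBy.mp hc
      obtain ⟨hgT, hgN, h, hh, hhe⟩ := mem_extender.mp hg
      have hval : ∀ x : P, ((kRes F P Q K a x : P) : Ω) = h * (x : Ω) * h⁻¹ := by
        intro x
        obtain ⟨y, hy⟩ := hφr.ge x.2
        have hx : e ⟨y, Subgroup.mem_sup_left y.2⟩ = ⟨x, Subgroup.mem_sup_left x.2⟩ :=
          Subtype.ext ((he _).trans ((hψe y).trans hy))
        rw [kRes_apply, ← show MulAut.congr e c = (a : MulAut ↥(P ⊔ Q)) from hca, coe_congr_apply, ← hx,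
          MulEquiv.symm_apply_apply, he, ← hy,
          ← hhe y ((Subgroup.mem_normalizer_iff.mp hgN y).mp y.2), ← hψe]
        exact apply_eq_of_coe_eq (hge _)
      have := finite_of_le hPS
      refine hker h ⟨hh, mem_normalizer_of_forall fun z hz => ?_⟩ a hval
      rw [← hval ⟨z, hz⟩]; exact Subtype.mem _
    have hA₁p : IsPGroup p A₁ :=
      (((isPGroup_autInducedBy hS (P₁ ⊔ Q)).to_le
        ((inf_le_left (a := autInducedBy N₁ (P₁ ⊔ Q))).trans (autInducedBy_mono (fun g hg => hT.le (mem_extender.mp hg).1) _))).map _).comap_subtype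
    obtain ⟨X, hX⟩ := (hA₁p.comap_subtype (K := (kRes F P Q K).ker ⊔ AS.toSubgroup)).exists_le_sylow
    obtain ⟨c, hc⟩ := MulAction.exists_smul_eq ↥((kRes F P Q K).ker ⊔ AS.toSubgroup) X
      (AS.subtype (le_sup_right : AS.toSubgroup ≤ _))
    obtain ⟨l₀, hl₀, s, hs, hsl₀⟩ := Subgroup.mem_sup_of_normal_left.mp c.2
    set l := s⁻¹ * l₀ * s with hldef
    have hl : l ∈ (kRes F P Q K).ker := by
      rw [MonoidHom.mem_ker] at hl₀ ⊢
      simp [hldef, hl₀]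
    have hsl : s * l = (c : kStab F P Q K) := by rw [← hsl₀, hldef]; group
    have hlA : ∀ a ∈ A₁, l * a * l⁻¹ ∈ AS.toSubgroup := by
      intro a ha
      have h1 : c * ⟨a, hA₁ ha⟩ * c⁻¹ ∈ (AS.subtype (le_sup_right : AS.toSubgroup ≤ _)).toSubgroup := by
        rw [← hc, Sylow.coe_subgroup_smul]
        exact Subgroup.smul_mem_pointwise_smul _ (MulAut.conj c) _ (hX ha)
      have h2 : (c : kStab F P Q K) * a * (c : kStab F P Q K)⁻¹ ∈ AS.toSubgroup := h1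
      rw [← hsl] at h2
      have h3 := AS.toSubgroup.mul_mem (AS.toSubgroup.mul_mem (AS.toSubgroup.inv_mem hs) h2) hs
      have e3 : s⁻¹ * (s * l * a * (s * l)⁻¹) * s = l * a * l⁻¹ := by group
      exact e3 ▸ h3
    obtain ⟨hlF, -, μ, hμ, hμe⟩ := mem_kStab.mp l.2
    obtain ⟨φ', hφ', hφ'e⟩ := exists_comp hψ ((mem_autGroup hRr.1).mp hlF) fun x => hψr.le ⟨x, rfl⟩
    have hφ'v : ∀ x, φ' x = (((l : MulAut ↥(P ⊔ Q)) (e x) : ↥(P ⊔ Q)) : Ω) := fun x => by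
      rw [hφ'e, autMap_apply]; congr 2; exact Subtype.ext (he x).symm
    have hφ'r : φ'.range = P ⊔ Q := by
      ext y
      constructor
      · rintro ⟨x, rfl⟩; rw [hφ'v]; exact Subtype.mem _
      · intro hy; exact ⟨e.symm ((l : MulAut ↥(P ⊔ Q)).symm ⟨y, hy⟩), by rw [hφ'v]; simp⟩
    have hφ'P : ∀ x : P₁, φ' ⟨x, Subgroup.mem_sup_left x.2⟩ = φ x := fun x => by
      have h1 : e ⟨x, Subgroup.mem_sup_left x.2⟩ = ⟨φ x, Subgroup.mem_sup_left (hφr.le ⟨x, rfl⟩)⟩ :=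
        Subtype.ext ((he _).trans (hψe x))
      rw [hφ'v, h1]
      exact congrArg (fun α : MulAut P => ((α ⟨φ x, hφr.le ⟨x, rfl⟩⟩ : P) : Ω)) (MonoidHom.mem_ker.mp hl)
    have hφ'Q : ∀ x : Q, φ' (Subgroup.inclusion le_sup_right x) = (((μ * κ) x : Q) : Ω) := fun x => by
      have h1 : e (Subgroup.inclusion le_sup_right x) = Subgroup.inclusion le_sup_right (κ x) :=
        Subtype.ext ((he _).trans (hκe x))
      rw [hφ'v, h1]
      exact hμe (κ x)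
    have hN₁ : N₁ ≤ extender S (P₁ ⊔ Q) φ' := by
      intro g hg
      obtain ⟨hgT, hgN, h, hh, hhe⟩ := mem_extender.mp hg
      obtain ⟨c, hc, hce⟩ := exists_kStab_conj (F := F) hQS hT hP₁ ⟨hgT, hgN⟩
      have hm : MulAut.congr e c ∈ kStab F P Q K := kStab_congr_mem hψ he heP hκ (fun x => (he _).trans (hκe x)) hc
      have hmem : (⟨_, hm⟩ : kStab F P Q K) ∈ A₁ :=
        ⟨c, ⟨mem_autInducedBy.mpr ⟨g, hg, hce⟩, hc⟩, rfl⟩
      obtain ⟨k, hk, hke⟩ := mem_autInducedBy.mp (hAS.le (hlA _ hmem) :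
        ((l * ⟨_, hm⟩ * l⁻¹ : kStab F P Q K) : MulAut ↥(P ⊔ Q)) ∈ _)
      refine mem_extender.mpr ⟨hT.le hgT, mem_normalizer_of_aut hce, k, hk, fun x hx => ?_⟩
      have h1 : (⟨g * (x : Ω) * g⁻¹, hx⟩ : ↥(P₁ ⊔ Q)) = c x := Subtype.ext (hce x).symm
      rw [h1, hφ'v, hφ'v, ← hke]
      simp [MulAut.congr]
    have hRD : P₁ ⊔ Q ≤ extender S (P₁ ⊔ Q) φ' :=
      le_extender (sup_le (hP₁.trans hT.le) hQS) (apply_mem_S hφ')
    obtain ⟨ρ, hρ, hρe⟩ := exists_extension hRr hφ' hφ'r hRD le_rfl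
    have hle : N₁ ⊔ Q ≤ extender S (P₁ ⊔ Q) φ' := sup_le hN₁ (le_sup_right.trans hRD)
    have hρQ : ∀ x : Q, ρ ⟨x, hle (Subgroup.mem_sup_right x.2)⟩ = (((μ * κ) x : Q) : Ω) := fun x =>
      (hρe (Subgroup.inclusion le_sup_right x)).trans (hφ'Q x)
    refine ⟨_, ⟨restrict_mem hN₁ hρ, fun g hg => (mem_extender.mp hg).1, fun g => ?_, _,
      restrict_mem hle hρ, fun x => rfl, μ * κ, K.mul_mem hμ hκ, hρQ⟩, fun x hxP hxN => ?_⟩
    · obtain ⟨ν, hν, hνe⟩ := ((hT g).mp (mem_extender.mp g.2).1).2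
      refine (hT _).mpr ⟨apply_mem_S hρ _, (μ * κ) * ν * (μ * κ)⁻¹,
        K.mul_mem (K.mul_mem (K.mul_mem hμ hκ) hν) (K.inv_mem (K.mul_mem hμ hκ)), fun x => ?_⟩
      obtain ⟨y, rfl⟩ := (μ * κ).surjective x
      rw [show (μ * κ * ν * (μ * κ)⁻¹) ((μ * κ) y) = (μ * κ) (ν y) by
        rw [← MulAut.mul_apply, inv_mul_cancel_right, MulAut.mul_apply], ← hρQ, ← hρQ]
      show ρ _ = ρ _ * ρ _ * (ρ _)⁻¹
      rw [← map_inv ρ, ← map_mul ρ, ← map_mul ρ]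
      exact apply_eq_of_coe_eq (hνe y)
    · exact (hρe ⟨x, Subgroup.mem_sup_left hxP⟩).trans (hφ'P ⟨x, hxP⟩)

end saturated

end CfsgLib.Fusion

namespace CfsgLib.Fusion

open Cfsg Cfsg.FusionSystem

variable {Ω : Type*} [Group Ω] {S : Subgroup Ω} {F : FusionSystem S} {Q : Subgroup Ω} [Finite S] {p : ℕ}
  [Fact p.Prime]

/-- The normalizer system of a fully normalized subgroup is saturated. -/
theorem normalizerSystem_saturated (hS : IsPGroup p S) (hF : F.IsSaturated p)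
    (hQ : F.IsFullyNormalized Q) {E : FusionSystem (normalizerIn S Q)} (hE : F.IsNormalizerSystem Q E) :
    E.IsSaturated p := by
  obtain ⟨ha, hr⟩ := fullyNormalized_good hS hF hQ
  obtain rfl : E = extSystem F hr.1 ⊤ _ isKNormalizer_top :=
    ext_hom fun P => (hE P).trans (extHom_top F Q P).symm
  refine extSystem_saturated hS hF hr ?_ isKNormalizer_top
  rw [top_inf_eq, top_inf_eq]
  exact (fullyAutomized_iff.mp ha).2

/-- The centralizer system of a fully centralized subgroup is saturated. -/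
theorem centralizerSystem_saturated (hS : IsPGroup p S) (hF : F.IsSaturated p)
    (hQ : F.IsFullyCentralized Q) {E : FusionSystem (centralizerIn S Q)} (hE : F.IsCentralizerSystem Q E) :
    E.IsSaturated p := by
  have hr := receptive_of_fullyCentralized hS hF hQ
  obtain rfl : E = extSystem F hr.1 ⊥ _ isKNormalizer_bot :=
    ext_hom fun P => (hE P).trans (extHom_bot F Q P).symm
  refine extSystem_saturated hS hF hr ?_ isKNormalizer_bot
  rw [bot_inf_eq, bot_inf_eq, Subgroup.card_bot, Nat.factorization_one]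
  simp

end CfsgLib.Fusion
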