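import Cfsg.Agent.Lib.Fusion.Extend
import Cfsg.Prelude.Def_FusionComponents

/-!
Factor systems: existence, the factor map is a surjective morphism, saturation.
-/

set_option autoImplicit false

namespace CfsgLib.FusionFactor

open Cfsg Cfsg.FusionSystem CfsgLib.Fusion CfsgLib.FusionExtend

variable {Ω : Type*} [Group Ω] {S : Subgroup Ω} {F : FusionSystem S}
  {Ω' : Type*} [Group Ω'] {θ : S →* Ω'} {S₀ : Subgroup Ω}

theorem mem_preimageAlong {P' : Subgroup Ω'} {x : Ω} :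
    x ∈ preimageAlong θ P' ↔ ∃ h : x ∈ S, θ ⟨x, h⟩ ∈ P' := by
  constructor
  · rintro ⟨⟨x, hx⟩, h, rfl⟩
    exact ⟨hx, h⟩
  · rintro ⟨h, h'⟩
    exact ⟨⟨x, h⟩, h', rfl⟩

theorem preimageAlong_le (P' : Subgroup Ω') : preimageAlong θ P' ≤ S := Subgroup.map_subtype_le _

theorem map_mem_of_mem_preimageAlong {P' : Subgroup Ω'} {x : Ω} (h : x ∈ preimageAlong θ P') (hx : x ∈ S) :
    θ ⟨x, hx⟩ ∈ P' := by
  obtain ⟨_, h'⟩ := mem_preimageAlong.mp h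
  exact h'

theorem exists_preimage {P' : Subgroup Ω'} (hP' : P' ≤ θ.range) (y : P') :
    ∃ (x : Ω) (h : x ∈ S), x ∈ preimageAlong θ P' ∧ θ ⟨x, h⟩ = y := by
  obtain ⟨⟨x, hx⟩, e⟩ := hP' y.2
  exact ⟨x, hx, mem_preimageAlong.mpr ⟨hx, e ▸ y.2⟩, e⟩

theorem kernel_le_preimageAlong (hk : ∀ s : S, θ s = 1 ↔ (s : Ω) ∈ S₀) (hS₀ : S₀ ≤ S)
    (P' : Subgroup Ω') : S₀ ≤ preimageAlong θ P' := fun x hx =>
  mem_preimageAlong.mpr ⟨hS₀ hx, by rw [(hk ⟨x, hS₀ hx⟩).mpr hx]; exact P'.one_mem⟩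

theorem theta_eq_iff (hk : ∀ s : S, θ s = 1 ↔ (s : Ω) ∈ S₀) (a b : S) :
    θ a = θ b ↔ (a : Ω)⁻¹ * b ∈ S₀ := by
  rw [← inv_mul_eq_one, ← map_inv, ← map_mul, hk]
  rfl

theorem imageAlong_preimageAlong {P' : Subgroup Ω'} (hP' : P' ≤ θ.range) :
    imageAlong θ (preimageAlong θ P') = P' := by
  apply le_antisymm
  · rintro _ ⟨s, hs, rfl⟩
    exact map_mem_of_mem_preimageAlong hs s.2
  · intro y hy
    obtain ⟨x, hx, hxP, e⟩ := exists_preimage hP' ⟨y, hy⟩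
    exact ⟨⟨x, hx⟩, hxP, e⟩

theorem mem_imageAlong {P : Subgroup Ω} {y : Ω'} :
    y ∈ imageAlong θ P ↔ ∃ s : S, (s : Ω) ∈ P ∧ θ s = y := Iff.rfl

theorem imageAlong_le_range (P : Subgroup Ω) : imageAlong θ P ≤ θ.range := Subgroup.map_le_range _ _

theorem preimageAlong_imageAlong (hk : ∀ s : S, θ s = 1 ↔ (s : Ω) ∈ S₀) (hS₀ : S₀ ≤ S)
    {P : Subgroup Ω} (hP : P ≤ S) : preimageAlong θ (imageAlong θ P) = P ⊔ S₀ := by
  refine le_antisymm ?_ (sup_le ?_ (kernel_le_preimageAlong hk hS₀ _))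
  · intro x hx
    obtain ⟨hxS, s, hs, e⟩ := mem_preimageAlong.mp hx
    have := (theta_eq_iff hk s ⟨x, hxS⟩).mp e
    have h2 := (P ⊔ S₀).mul_mem (Subgroup.mem_sup_left hs) (Subgroup.mem_sup_right this)
    simpa using h2
  · exact fun x hx => mem_preimageAlong.mpr ⟨hP hx, ⟨x, hP hx⟩, hx, rfl⟩

theorem induced_unique {P' : Subgroup Ω'} (hP' : P' ≤ θ.range) {φ : preimageAlong θ P' →* Ω}
    {φ₁ φ₂ : P' →* Ω'} (h₁ : InducedAlong θ φ φ₁) (h₂ : InducedAlong θ φ φ₂) : φ₁ = φ₂ := by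
  obtain ⟨hP, hφ, hm, e₁⟩ := h₁
  obtain ⟨hP₂, hφ₂, hm₂, e₂⟩ := h₂
  refine MonoidHom.ext fun y => ?_
  obtain ⟨x, hx, hxP, e⟩ := exists_preimage hP' y
  have hy : y = ⟨θ ⟨x, hP hxP⟩, hm ⟨x, hxP⟩⟩ := Subtype.ext e.symm
  rw [hy, e₁ ⟨x, hxP⟩, e₂ ⟨x, hxP⟩]

/-- A map whose source is the full preimage of `P'` induces a homomorphism on `P'`. -/
theorem exists_induced (hk : ∀ s : S, θ s = 1 ↔ (s : Ω) ∈ S₀) (hA : F.StronglyClosed S₀)
    {P' : Subgroup Ω'} (hP' : P' ≤ θ.range) {φ : preimageAlong θ P' →* Ω}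
    (hφ : φ ∈ F.Hom (preimageAlong θ P')) : ∃ φ' : P' →* Ω', InducedAlong θ φ φ' := by
  let π : preimageAlong θ P' →* P' := (θ.comp (Subgroup.inclusion (preimageAlong_le P'))).codRestrict P'
    fun x => map_mem_of_mem_preimageAlong x.2 _
  have hπ : Function.Surjective π := fun y => by
    obtain ⟨x, hx, hxP, e⟩ := exists_preimage hP' y
    exact ⟨⟨x, hxP⟩, Subtype.ext e⟩
  let g : preimageAlong θ P' →* Ω' := θ.comp (φ.codRestrict S (apply_mem_S hφ))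
  have hg : π.ker ≤ g.ker := fun x hx => by
    have h1 : θ ⟨(x : Ω), preimageAlong_le P' x.2⟩ = 1 := congrArg Subtype.val hx
    exact (hk _).mpr (sc_apply hA hφ x ((hk _).mp h1))
  refine ⟨π.liftOfSurjective hπ ⟨g, hg⟩, preimageAlong_le P', apply_mem_S hφ,
    fun x => map_mem_of_mem_preimageAlong x.2 _, fun x => ?_⟩
  exact MonoidHom.liftOfRightInverse_comp_apply π _ _ ⟨g, hg⟩ x

/-- An induced homomorphism is injective. -/
theorem induced_injective (hk : ∀ s : S, θ s = 1 ↔ (s : Ω) ∈ S₀) (hA : F.StronglyClosed S₀)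
    {P' : Subgroup Ω'} (hP' : P' ≤ θ.range) {φ : preimageAlong θ P' →* Ω}
    (hφ : φ ∈ F.Hom (preimageAlong θ P')) {φ' : P' →* Ω'} (h : InducedAlong θ φ φ') :
    Function.Injective φ' := by
  obtain ⟨hP, hφS, hm, e⟩ := h
  rw [injective_iff_map_eq_one]
  intro y hy
  obtain ⟨x, hx, hxP, hxy⟩ := exists_preimage hP' y
  have hy' : y = ⟨θ ⟨x, hP hxP⟩, hm ⟨x, hxP⟩⟩ := Subtype.ext hxy.symm
  rw [hy', e ⟨x, hxP⟩, hk] at hy
  refine Subtype.ext (hxy.symm.trans ?_)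
  exact (hk ⟨x, hx⟩).mpr ((sc_apply_iff hA hφ ⟨x, hxP⟩).mp hy)

theorem mem_range_induced (hk : ∀ s : S, θ s = 1 ↔ (s : Ω) ∈ S₀) [Finite S] (hA : F.StronglyClosed S₀)
    {P' : Subgroup Ω'} (hP' : P' ≤ θ.range) {φ : preimageAlong θ P' →* Ω}
    (hφ : φ ∈ F.Hom (preimageAlong θ P')) {φ' : P' →* Ω'} (h : InducedAlong θ φ φ') :
    φ.range = preimageAlong θ φ'.range := by
  obtain ⟨hP, hφS, hm, e⟩ := h
  apply le_antisymm
  · rintro _ ⟨x, rfl⟩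
    exact mem_preimageAlong.mpr ⟨hφS x, _, e x⟩
  · intro z hz
    obtain ⟨hzS, y, hy⟩ := mem_preimageAlong.mp hz
    obtain ⟨x, hx, hxP, hxy⟩ := exists_preimage hP' y
    have hy' : y = ⟨θ ⟨x, hP hxP⟩, hm ⟨x, hxP⟩⟩ := Subtype.ext hxy.symm
    rw [hy', e ⟨x, hxP⟩, theta_eq_iff hk] at hy
    obtain ⟨w, -, hw⟩ := (sc_map_eq hA hφ (kernel_le_preimageAlong hk hA.1 P')).ge hy
    have hz' : φ ⟨x, hxP⟩ * φ w = z := by rw [hw]; exact mul_inv_cancel_left _ _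
    exact ⟨⟨x, hxP⟩ * w, by rw [map_mul]; exact hz'⟩

/-- The factor system of `F` modulo a strongly closed subgroup, read through `θ`. -/
def factorSystem [Finite S] (F : FusionSystem S) (θ : S →* Ω') (S₀ : Subgroup Ω)
    (hk : ∀ s : S, θ s = 1 ↔ (s : Ω) ∈ S₀) (hA : F.StronglyClosed S₀) : FusionSystem θ.range where
  Hom P' := {φ' | P' ≤ θ.range ∧ ∃ φ ∈ F.Hom (preimageAlong θ P'), InducedAlong θ φ φ'}
  le_of_mem := by
    rintro P' φ' ⟨hP', φ, hφ, hP, hφS, hm, e⟩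
    refine ⟨hP', fun y => ?_⟩
    obtain ⟨x, hx, hxP, hxy⟩ := exists_preimage hP' y
    have hy' : y = ⟨θ ⟨x, hP hxP⟩, hm ⟨x, hxP⟩⟩ := Subtype.ext hxy.symm
    rw [hy', e ⟨x, hxP⟩]
    exact ⟨_, rfl⟩
  injective_of_mem := by
    rintro P' φ' ⟨hP', φ, hφ, h⟩
    exact induced_injective hk hA hP' hφ h
  conj_mem := by
    rintro P' g hP' ⟨s, rfl⟩
    refine ⟨hP', conjHom _ (s : Ω), F.conj_mem (preimageAlong_le P') s.2, preimageAlong_le P',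
      fun x => S.mul_mem (S.mul_mem s.2 (preimageAlong_le P' x.2)) (S.inv_mem s.2),
      fun x => map_mem_of_mem_preimageAlong x.2 _, fun x => ?_⟩
    show θ s * θ ⟨x, _⟩ * (θ s)⁻¹ = _
    rw [← map_inv, ← map_mul, ← map_mul]
    rfl
  comp_mem := by
    rintro P' Q' φ' ψ' ⟨hP', φ, hφ, hP, hφS, hm, e⟩ ⟨hQ', ψ, hψ, hQ, hψS, hn, k⟩ hPQ
    have hval : ∀ x : preimageAlong θ P', φ x ∈ preimageAlong θ Q' := fun x =>
      mem_preimageAlong.mpr ⟨hφS x, by rw [← e x]; exact hPQ _⟩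
    refine ⟨hP', _, F.comp_mem hφ hψ hval, hP, fun x => hψS _, hm, fun x => ?_⟩
    have h1 := k ⟨φ x, hval x⟩
    refine Eq.trans (congrArg ψ' (Subtype.ext ?_)) h1
    exact e x
  inv_mem := by
    rintro P' φ' ⟨hP', φ, hφ, h⟩
    have hr := mem_range_induced hk hA hP' hφ h
    obtain ⟨ψ, hψ, -, hψi, -⟩ := exists_inv hφ hr
    obtain ⟨hP, hφS, hm, e⟩ := h
    have hinj := induced_injective hk hA hP' hφ ⟨hP, hφS, hm, e⟩
    have hR : φ'.range ≤ θ.range := by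
      rintro _ ⟨y, rfl⟩
      obtain ⟨x, hx, hxP, hxy⟩ := exists_preimage hP' y
      have hy' : y = ⟨θ ⟨x, hP hxP⟩, hm ⟨x, hxP⟩⟩ := Subtype.ext hxy.symm
      rw [hy', e ⟨x, hxP⟩]
      exact ⟨_, rfl⟩
    obtain ⟨ψ', hψ'⟩ := exists_induced hk hA hR hψ
    refine ⟨ψ', ⟨hR, ψ, hψ, hψ'⟩, fun y => ?_⟩
    obtain ⟨hQ, hψS, hn, k⟩ := hψ'
    obtain ⟨x, hx, hxP, hxy⟩ := exists_preimage hP' y
    have hy' : y = ⟨θ ⟨x, hP hxP⟩, hm ⟨x, hxP⟩⟩ := Subtype.ext hxy.symm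
    subst hy'
    have hmem : φ ⟨x, hxP⟩ ∈ preimageAlong θ φ'.range := hr.le ⟨_, rfl⟩
    refine Eq.trans (congrArg ψ' (Subtype.ext ?_)) ((k ⟨_, hmem⟩).trans ?_)
    · exact e ⟨x, hxP⟩
    · exact congrArg θ (Subtype.ext (hψi _ hmem))

theorem factorSystem_isFactorSystem [Finite S] (hk : ∀ s : S, θ s = 1 ↔ (s : Ω) ∈ S₀)
    (hA : F.StronglyClosed S₀) : F.IsFactorSystem S₀ θ (factorSystem F θ S₀ hk hA) :=
  ⟨hA.1, hk, rfl, fun _ _ => Iff.rfl⟩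

variable {S' : Subgroup Ω'} {E : FusionSystem S'}

theorem exists_map_induced [Finite S] {p : ℕ} [Fact p.Prime] (hS : IsPGroup p S) (hF : F.IsSaturated p)
    (hA : F.StronglyClosed S₀) (hE : F.IsFactorSystem S₀ θ E) {P : Subgroup Ω} {φ : P →* Ω}
    (hφ : φ ∈ F.Hom P) : ∃ φ' ∈ E.Hom (imageAlong θ P), InducedAlong θ φ φ' := by
  obtain ⟨-, hk, hrange, hHom⟩ := hE
  have hP := le_S hφ
  obtain ⟨ψ₀, hψ₀, h⟩ := exists_congr_extension hS hF hA hφ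
  have he : preimageAlong θ (imageAlong θ P) ≤ P ⊔ S₀ := (preimageAlong_imageAlong hk hA.1 hP).le
  have hψ := restrict_mem he hψ₀
  obtain ⟨φ', hφ'⟩ := exists_induced hk hA (imageAlong_le_range P) hψ
  refine ⟨φ', (hHom _ _).mpr ⟨hrange ▸ imageAlong_le_range P, _, hψ, hφ'⟩, hP, apply_mem_S hφ,
    fun x => ⟨⟨x, hP x.2⟩, x.2, rfl⟩, fun x => ?_⟩
  obtain ⟨hQ, hψS, hm, e⟩ := hφ'
  have hxm : (x : Ω) ∈ preimageAlong θ (imageAlong θ P) :=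
    mem_preimageAlong.mpr ⟨hP x.2, ⟨x, hP x.2⟩, x.2, rfl⟩
  refine (e ⟨x, hxm⟩).trans ((theta_eq_iff hk _ _).mpr ?_).symm
  exact h x

theorem isSurjectiveMorphism [Finite S] {p : ℕ} [Fact p.Prime] (hS : IsPGroup p S)
    (hF : F.IsSaturated p) (hA : F.StronglyClosed S₀) (hE : F.IsFactorSystem S₀ θ E) :
    F.IsSurjectiveMorphism E θ :=
  ⟨⟨fun s => hE.2.2.1 ▸ ⟨s, rfl⟩, fun _ _ hφ => exists_map_induced hS hF hA hE hφ⟩, hE.2.2.1,
    fun P' _ φ' hφ' => ((hE.2.2.2 P' φ').mp hφ').2⟩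

/-- The factor system of a saturated system is saturated. -/
theorem isSaturated_factor [Finite S] {p : ℕ} [Fact p.Prime] (hS : IsPGroup p S)
    (hF : F.IsSaturated p) (hA : F.StronglyClosed S₀) (hE : F.IsFactorSystem S₀ θ E) :
    E.IsSaturated p := by
  obtain ⟨-, hk, hrange, hHom⟩ := hE
  subst hrange
  intro P' hP'
  set P := preimageAlong θ P' with hPdef
  obtain ⟨Q, hPQ, hQn⟩ := exists_fullyNormalized (F := F) (preimageAlong_le (θ := θ) P')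
  obtain ⟨hQa, hQr⟩ := fullyNormalized_good hS hF hQn
  have hQS := hQa.1
  have := finite_of_le hQS
  obtain ⟨φ₀, hφ₀, hφ₀r⟩ := hPQ
  obtain ⟨φ₀', hφ₀'⟩ := exists_induced hk hA hP' hφ₀
  have hr₀ := mem_range_induced hk hA hP' hφ₀ hφ₀'
  set Q' := φ₀'.range with hQ'def
  have hφ₀'m : φ₀' ∈ E.Hom P' := (hHom _ _).mpr ⟨hP', φ₀, hφ₀, hφ₀'⟩
  have hQ' : Q' ≤ θ.range := range_le_S hφ₀'m
  obtain rfl : Q = preimageAlong θ Q' := hφ₀r.symm.trans hr₀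
  set Q := preimageAlong θ Q' with hQdef
  have := finite_mulAut hQS
  have hθfin : Finite θ.range := Finite.of_surjective θ.rangeRestrict θ.rangeRestrict_surjective
  have := finite_of_le hQ'
  have := finite_mulAut hQ'
  -- the map `Aut_F(Q) → Aut_E(Q')`
  have hlift : ∀ α : F.autGroup Q, ∃ α' : E.autGroup Q', ∀ (x : Ω) (hx : x ∈ Q),
      (((α' : MulAut Q') ⟨θ ⟨x, hQS hx⟩, map_mem_of_mem_preimageAlong hx _⟩ : Q') : Ω') =
        θ ⟨(((α : MulAut Q) ⟨x, hx⟩ : Q) : Ω), hQS (Subtype.mem _)⟩ := by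
    intro α
    obtain ⟨f, hf, hfr, hfe⟩ := exists_map_of_mem_autGroup hQS α.2
    obtain ⟨f', hf'⟩ := exists_induced hk hA hQ' hf
    have hf'm : f' ∈ E.Hom Q' := (hHom _ _).mpr ⟨hQ', f, hf, hf'⟩
    have hr := mem_range_induced hk hA hQ' hf hf'
    have hr' : f'.range = Q' := by
      rw [← imageAlong_preimageAlong (range_le_S hf'm), ← hr, hfr, imageAlong_preimageAlong hQ']
    obtain ⟨β, hβ, hβe⟩ := exists_aut hf'm hr'
    refine ⟨⟨β, hβ⟩, fun x hx => ?_⟩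
    obtain ⟨hP, hfS, hm, e⟩ := hf'
    rw [hβe]
    exact (e ⟨x, hx⟩).trans (congrArg θ (Subtype.ext (hfe _)))
  choose f₀ hf₀ using hlift
  have hext : ∀ a b : E.autGroup Q', (∀ (x : Ω) (hx : x ∈ Q),
      (a : MulAut Q') ⟨θ ⟨x, hQS hx⟩, map_mem_of_mem_preimageAlong hx _⟩ =
      (b : MulAut Q') ⟨θ ⟨x, hQS hx⟩, map_mem_of_mem_preimageAlong hx _⟩) → a = b := by
    intro a b h
    refine Subtype.ext (MulEquiv.ext fun y => ?_)
    obtain ⟨x, hx, hxQ, hxy⟩ := exists_preimage hQ' y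
    have hy : y = ⟨θ ⟨x, hQS hxQ⟩, map_mem_of_mem_preimageAlong hxQ _⟩ := Subtype.ext hxy.symm
    rw [hy]
    exact h x hxQ
  let f : F.autGroup Q →* E.autGroup Q' := MonoidHom.mk' f₀ fun a b => hext _ _ fun x hx => by
    apply Subtype.ext
    rw [hf₀ _ x hx]
    simp only [Subgroup.coe_mul, MulAut.mul_apply]
    rw [← hf₀ a _ (Subtype.mem _)]
    have e := hf₀ b x hx
    exact congrArg (fun z : Q' => (((f₀ a : MulAut Q') z : Q') : Ω')) (Subtype.ext e.symm)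
  have hfe : ∀ (α : F.autGroup Q) (x : Ω) (hx : x ∈ Q),
      (((f α : MulAut Q') ⟨θ ⟨x, hQS hx⟩, map_mem_of_mem_preimageAlong hx _⟩ : Q') : Ω') =
        θ ⟨(((α : MulAut Q) ⟨x, hx⟩ : Q) : Ω), hQS (Subtype.mem _)⟩ := hf₀
  have hfs : Function.Surjective f := by
    intro β
    obtain ⟨g, hg, hgr, hge⟩ := exists_map_of_mem_autGroup hQ' β.2
    obtain ⟨-, g₁, hg₁, hind⟩ := (hHom _ _).mp hg
    have hr := mem_range_induced hk hA hQ' hg₁ hind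
    rw [hgr] at hr
    obtain ⟨α, hα, hαe⟩ := exists_aut hg₁ hr
    refine ⟨⟨α, hα⟩, hext _ _ fun x hx => Subtype.ext ?_⟩
    obtain ⟨hP, hgS, hm, e⟩ := hind
    rw [hfe _ x hx, ← hge]
    exact (congrArg θ (Subtype.ext (hαe _))).trans (e ⟨x, hx⟩).symm
  -- full automization
  have hQa' := hQa
  obtain ⟨-, T, hT⟩ := hQa'
  have hTimg : (T : Subgroup (F.autGroup Q)).map f = (autInducedBy θ.range Q').subgroupOf (E.autGroup Q') := by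
    rw [hT]
    apply le_antisymm
    · rintro _ ⟨α, hα, rfl⟩
      obtain ⟨g, hg, hge⟩ := mem_autInducedBy.mp (Subgroup.mem_subgroupOf.mp hα)
      refine Subgroup.mem_subgroupOf.mpr (mem_autInducedBy.mpr ⟨θ ⟨g, hg⟩, ⟨_, rfl⟩, fun y => ?_⟩)
      obtain ⟨x, hx, hxQ, hxy⟩ := exists_preimage hQ' y
      have hy : y = ⟨θ ⟨x, hQS hxQ⟩, map_mem_of_mem_preimageAlong hxQ _⟩ := Subtype.ext hxy.symm
      rw [hy, hfe _ x hxQ]
      show _ = θ ⟨g, hg⟩ * θ ⟨x, _⟩ * (θ ⟨g, hg⟩)⁻¹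
      rw [← map_inv, ← map_mul, ← map_mul]
      exact congrArg θ (Subtype.ext (hge _))
    · intro β hβ
      obtain ⟨_, ⟨⟨g, hg⟩, rfl⟩, hge⟩ := mem_autInducedBy.mp (Subgroup.mem_subgroupOf.mp hβ)
      have hgN : g ∈ Subgroup.normalizer (Q : Set Ω) := by
        refine mem_normalizer_of_forall fun x hx => mem_preimageAlong.mpr
          ⟨S.mul_mem (S.mul_mem hg (hQS hx)) (S.inv_mem hg), ?_⟩
        have h1 : θ ⟨g * x * g⁻¹, S.mul_mem (S.mul_mem hg (hQS hx)) (S.inv_mem hg)⟩ =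
            θ ⟨g, hg⟩ * θ ⟨x, hQS hx⟩ * (θ ⟨g, hg⟩)⁻¹ := by
          rw [← map_inv, ← map_mul, ← map_mul]; rfl
        rw [h1, ← hge ⟨_, map_mem_of_mem_preimageAlong hx _⟩]
        exact Subtype.mem _
      obtain ⟨α, hα, hαe⟩ := exists_autInducedBy (K := S) hg hgN
      refine ⟨⟨α, autInducedBy_le_autGroup hQS hα⟩, Subgroup.mem_subgroupOf.mpr hα,
        hext _ _ fun x hx => Subtype.ext ?_⟩
      rw [hfe _ x hx, hge]
      rw [← map_inv, ← map_mul, ← map_mul]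
      exact congrArg θ (Subtype.ext (hαe _))
  have hQ'a : E.IsFullyAutomized p Q' := ⟨hQ', T.mapSurjective hfs, by
    rw [← hTimg]; rfl⟩
  refine ⟨Q', ⟨φ₀', hφ₀'m, rfl⟩, hQ'a, hQ', fun R' φ' hφ' hr' => ?_⟩
  -- receptivity
  obtain ⟨hR', hind₀⟩ := (hHom _ _).mp hφ'
  set R := preimageAlong θ R' with hRdef
  obtain ⟨φ, hφ, hind⟩ := hind₀
  have hr : φ.range = Q := by rw [mem_range_induced hk hA hR' hφ hind, hr']
  obtain ⟨hRS, hφS, hm, e⟩ := hind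
  obtain ⟨ε, hε⟩ := exists_equiv hφ hr
  set N' := extender θ.range R' φ' with hN'def
  have hN' : N' ≤ θ.range := extender_le_normalizerIn.trans normalizerIn_le
  set N := preimageAlong θ N' with hNdef
  have hNn : ∀ g ∈ N, g ∈ Subgroup.normalizer (R : Set Ω) := by
    intro g hg
    obtain ⟨hgS, hg'⟩ := mem_preimageAlong.mp hg
    have := finite_of_le hRS
    refine mem_normalizer_of_forall fun x hx => mem_preimageAlong.mpr
      ⟨S.mul_mem (S.mul_mem hgS (hRS hx)) (S.inv_mem hgS), ?_⟩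
    have h1 : θ ⟨g * x * g⁻¹, S.mul_mem (S.mul_mem hgS (hRS hx)) (S.inv_mem hgS)⟩ =
        θ ⟨g, hgS⟩ * θ ⟨x, hRS hx⟩ * (θ ⟨g, hgS⟩)⁻¹ := by
      rw [← map_inv, ← map_mul, ← map_mul]; rfl
    rw [h1]
    exact (Subgroup.mem_normalizer_iff.mp (mem_extender.mp hg').2.1 _).mp (hm ⟨x, hx⟩)
  let A₀ : Subgroup (MulAut Q) := (autInducedBy N R).map (MulAut.congr ε).toMonoidHom
  have hA₀ : A₀ ≤ F.autGroup Q :=
    (Subgroup.map_mono ((autInducedBy_mono (preimageAlong_le N') R).trans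
      (autInducedBy_le_autGroup hRS))).trans (map_autGroup hφ hε).le
  have hA₀p : IsPGroup p A₀ :=
    ((isPGroup_autInducedBy hS R).to_le (autInducedBy_mono (preimageAlong_le N') R)).map _
  set M := ((T : Subgroup (F.autGroup Q)).map f).comap f with hM
  have hA₀M : A₀.subgroupOf (F.autGroup Q) ≤ M := by
    intro a ha
    obtain ⟨c, hc, hca⟩ := Subgroup.mem_subgroupOf.mp ha
    obtain ⟨g, hg, hge⟩ := mem_autInducedBy.mp hc
    rw [hM, Subgroup.mem_comap, hTimg, Subgroup.mem_subgroupOf, mem_autInducedBy]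
    obtain ⟨hgS, hg'⟩ := mem_preimageAlong.mp hg
    obtain ⟨-, -, h', hh', hh'e⟩ := mem_extender.mp hg'
    refine ⟨h', hh', fun y => ?_⟩
    obtain ⟨z, hzS, hzQ, hzy⟩ := exists_preimage hQ' y
    obtain ⟨⟨x, hx⟩, hxz⟩ := hr.ge hzQ
    have hy : y = ⟨θ ⟨z, hQS hzQ⟩, map_mem_of_mem_preimageAlong hzQ _⟩ := Subtype.ext hzy.symm
    rw [hy, hfe _ z hzQ, ← hca]
    have hgx : g * x * g⁻¹ ∈ R := (Subgroup.mem_normalizer_iff.mp (hNn g hg) x).mp hx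
    have h1 : θ ⟨g * x * g⁻¹, hRS hgx⟩ = θ ⟨g, hgS⟩ * θ ⟨x, hRS hx⟩ * (θ ⟨g, hgS⟩)⁻¹ := by
      rw [← map_inv, ← map_mul, ← map_mul]; rfl
    have h2 := hh'e ⟨_, hm ⟨x, hx⟩⟩ (h1 ▸ hm ⟨_, hgx⟩)
    have h3 : φ' ⟨θ ⟨g, hgS⟩ * θ ⟨x, hRS hx⟩ * (θ ⟨g, hgS⟩)⁻¹, h1 ▸ hm ⟨_, hgx⟩⟩ =
        θ ⟨φ ⟨_, hgx⟩, hφS _⟩ := by
      rw [← e ⟨_, hgx⟩]; exact apply_eq_of_coe_eq h1.symm
    rw [h3, e ⟨x, hx⟩] at h2
    have hxz' : (⟨φ ⟨x, hx⟩, hφS _⟩ : S) = ⟨z, hQS hzQ⟩ := Subtype.ext hxz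
    rw [hxz'] at h2
    refine Eq.trans (congrArg θ (Subtype.ext ?_)) h2
    show ((ε (c (ε.symm ⟨z, hzQ⟩)) : Q) : Ω) = φ ⟨g * x * g⁻¹, hgx⟩
    have h4 : ε.symm ⟨z, hzQ⟩ = ⟨x, hx⟩ := by
      rw [MulEquiv.symm_apply_eq]; exact Subtype.ext ((hε _).trans hxz).symm
    rw [h4, hε]
    exact apply_eq_of_coe_eq (hge _)
  have hTM : (T : Subgroup (F.autGroup Q)) ≤ M := Subgroup.le_comap_map _ _
  obtain ⟨U, hU⟩ := ((hA₀p.comap_subtype (K := F.autGroup Q)).comap_subtype (K := M)).exists_le_sylow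
  obtain ⟨⟨m, hm'⟩, hmU⟩ := MulAction.exists_smul_eq M U (T.subtype hTM)
  have hmk : m ∈ (T : Subgroup (F.autGroup Q)) ⊔ f.ker := by
    rw [← Subgroup.comap_map_eq]; exact hm'
  obtain ⟨t, ht, κ, hκ, rfl⟩ := Subgroup.mem_sup_of_normal_right.mp hmk
  have hκA : ∀ a : F.autGroup Q, a ∈ A₀.subgroupOf (F.autGroup Q) →
      κ * a * κ⁻¹ ∈ (T : Subgroup (F.autGroup Q)) := by
    intro a ha
    have h1 : (⟨t * κ, hm'⟩ : M) * ⟨a, hA₀M ha⟩ * (⟨t * κ, hm'⟩ : M)⁻¹ ∈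
        ((T.subtype hTM : Sylow p M) : Subgroup M) := by
      rw [← hmU, Sylow.coe_subgroup_smul]
      exact Subgroup.smul_mem_pointwise_smul _ (MulAut.conj _) _ (hU ha)
    rw [Sylow.coe_subtype, Subgroup.mem_subgroupOf] at h1
    have h2 := (T : Subgroup (F.autGroup Q)).mul_mem
      ((T : Subgroup (F.autGroup Q)).mul_mem ((T : Subgroup (F.autGroup Q)).inv_mem ht) h1) ht
    simpa [mul_assoc] using h2
  obtain ⟨km, hkm, hkmr, hkme⟩ := exists_map_of_mem_autGroup hQS κ.2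
  obtain ⟨φ₂, hφ₂, hφ₂e⟩ := exists_comp hφ hkm fun x => hr.le ⟨x, rfl⟩
  have hφ₂r : φ₂.range = Q := by
    refine range_eq_of_card_le hφ₂ hQS (fun x => by rw [hφ₂e]; exact hkmr.le ⟨_, rfl⟩) ?_
    rw [← IsConj.card_eq ⟨φ, hφ, hr⟩]
  have hφ₂' : ∀ x : R, φ₂ x = (((κ : MulAut Q) (ε x) : Q) : Ω) := fun x => by
    rw [hφ₂e, hkme]
    exact congrArg (fun z : Q => (((κ : MulAut Q) z : Q) : Ω)) (Subtype.ext (hε x).symm)
  have hRN : R ≤ N := fun x hx => mem_preimageAlong.mpr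
    ⟨hRS hx, le_extender hR' (apply_mem_S hφ') (hm ⟨x, hx⟩)⟩
  have hNext : N ≤ extender S R φ₂ := by
    intro g hg
    obtain ⟨c, hc, hce⟩ := exists_autInducedBy (K := N) hg (hNn g hg)
    have hcA : MulAut.congr ε c ∈ A₀ := ⟨c, hc, rfl⟩
    have h1 := hκA ⟨_, hA₀ hcA⟩ hcA
    rw [hT, Subgroup.mem_subgroupOf] at h1
    obtain ⟨h, hh, hhe⟩ := mem_autInducedBy.mp h1
    refine mem_extender.mpr ⟨preimageAlong_le N' hg, hNn g hg, h, hh, fun x hx => ?_⟩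
    rw [hφ₂', hφ₂', ← hhe]
    simp [← hce x, MulAut.congr]
  obtain ⟨ψ, hψ, hψe⟩ := exists_extension hQr hφ₂ hφ₂r hRN hNext
  obtain ⟨ψ', hψ'⟩ := exists_induced hk hA hN' hψ
  refine ⟨ψ', (hHom _ _).mpr ⟨hN', ψ, hψ, hψ'⟩, fun y hy hyN => ?_⟩
  obtain ⟨hNS, hψS, hn, e'⟩ := hψ'
  obtain ⟨x, hx, hxR, hxy⟩ := exists_preimage hR' ⟨y, hy⟩
  dsimp only at hxy
  subst hxy
  refine (e' ⟨x, hRN hxR⟩).trans ?_
  rw [e ⟨x, hxR⟩]
  have hker : (f κ : MulAut Q') = 1 := by rw [MonoidHom.mem_ker.mp hκ]; rfl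
  have h5 := hfe κ (φ ⟨x, hxR⟩) (hr.le ⟨_, rfl⟩)
  rw [hker, MulAut.one_apply] at h5
  refine Eq.trans (congrArg θ (Subtype.ext ?_)) h5.symm
  show ψ ⟨x, hRN hxR⟩ = _
  rw [hψe ⟨x, hxR⟩, hφ₂']
  exact congrArg (fun z : Q => (((κ : MulAut Q) z : Q) : Ω)) (Subtype.ext (hε _))

/-- The kernel of a surjective morphism, and the image system as a factor system. -/
theorem isFactorSystem_of_surjective [Finite S] (hα : F.IsSurjectiveMorphism E θ) :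
    F.StronglyClosed ((θ.ker).map S.subtype) ∧ F.IsFactorSystem ((θ.ker).map S.subtype) θ E := by
  obtain ⟨⟨hval, hmor⟩, hrange, hsurj⟩ := hα
  have hk : ∀ s : S, θ s = 1 ↔ (s : Ω) ∈ (θ.ker).map S.subtype := fun s =>
    ⟨fun h => ⟨s, h, rfl⟩, fun ⟨t, ht, e⟩ => by
      obtain rfl : t = s := Subtype.ext e
      exact ht⟩
  have hA : F.StronglyClosed ((θ.ker).map S.subtype) := by
    refine ⟨Subgroup.map_subtype_le _, fun R hR φ hφ x => ?_⟩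
    obtain ⟨φ', -, hP, hφS, hP', h⟩ := hmor R φ hφ
    have hx : θ ⟨x, hP x.2⟩ = 1 := (hk _).mpr (hR x.2)
    have h1 : (⟨θ ⟨x, hP x.2⟩, hP' x⟩ : imageAlong θ R) = 1 := Subtype.ext hx
    refine (hk ⟨φ x, hφS x⟩).mp ?_
    rw [← h x, h1, map_one]
  refine ⟨hA, Subgroup.map_subtype_le _, hk, hrange, fun P' φ' => ⟨fun h => ?_, ?_⟩⟩
  · exact ⟨le_S h, hsurj P' (le_S h) φ' h⟩
  · rintro ⟨hP', φ, hφ, hind⟩
    obtain ⟨φ'', hφ'', hind''⟩ := hmor _ φ hφ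
    have hP'' : P' ≤ θ.range := hrange ▸ hP'
    have hi := imageAlong_preimageAlong hP''
    obtain ⟨χ, hχ, hχe⟩ : ∃ χ ∈ E.Hom P', ∀ x : P', χ x = φ'' ⟨x, hi.ge x.2⟩ :=
      ⟨_, restrict_mem hi.ge hφ'', fun _ => rfl⟩
    have : χ = φ' := by
      refine induced_unique hP'' (φ := φ) ?_ hind
      obtain ⟨hP, hφS, hm, e⟩ := hind''
      refine ⟨hP, hφS, fun x => map_mem_of_mem_preimageAlong x.2 _, fun x => ?_⟩
      rw [hχe]
      exact e x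
    exact this ▸ hχ

end CfsgLib.FusionFactor
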