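import Cfsg.Agent.Lib.Fusion.ModelUnique
import Cfsg.Agent.Lib.Fusion.ExtSaturated
import Cfsg.Agent.Lib.Fusion.Normal

/-!
# The core of a model; normalizer systems of centric radical subgroups
-/

namespace CfsgLib.Fusion

open Cfsg Cfsg.FusionSystem

variable {Ω : Type*} [Group Ω] {S : Subgroup Ω} {F : FusionSystem S} {p : ℕ} {R : Subgroup Ω}

/-- In a model, a subgroup normal in the system has normal image. -/
theorem normal_image_of_isNormal [Fact p.Prime] {G : Type*} [Group G] {ι : S →* G} (hG : F.IsModel p G ι)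
    (hR : F.IsNormal R) : ((R.subgroupOf S).map ι).Normal := by
  set N₂ := pCore p G
  have := model_core_normal (p := p) (G := G)
  set Q₂ := (N₂.comap ι).map S.subtype with hQ₂
  have hQ₂S : Q₂ ≤ S := Subgroup.map_subtype_le _
  constructor
  rintro _ ⟨q, hq, rfl⟩ g
  have hmem : ∀ x : Q₂, g * ι ⟨x, hQ₂S x.2⟩ * g⁻¹ ∈ ι.range := by
    rintro ⟨_, c, hc, rfl⟩
    exact model_core_le hG (Subgroup.Normal.conj_mem (inferInstance : N₂.Normal) (ι c) hc g)
  obtain ⟨φ, hφ, hφe⟩ := realized_exists_map hG.2.1 hQ₂S g hmem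
  obtain ⟨ψ, hψ, hψe, hψQ⟩ := hR.2 Q₂ φ hφ
  obtain ⟨g', hg'⟩ := realized_conj hG.2.1 hψ
  have hC : g⁻¹ * g' ∈ N₂ := hG.2.2.2 fun n hn' => by
    obtain ⟨c, rfl⟩ := model_core_le hG hn'
    have hcQ : (c : Ω) ∈ Q₂ := ⟨c, hn', rfl⟩
    have e1 := hg' ⟨c, Subgroup.mem_sup_left hcQ⟩
    have e3 : (⟨ψ ⟨c, Subgroup.mem_sup_left hcQ⟩, apply_mem_S hψ _⟩ : S) =
        ⟨φ ⟨c, hcQ⟩, apply_mem_S hφ _⟩ := Subtype.ext (hψe ⟨c, hcQ⟩)
    rw [e3, hφe] at e1
    have e4 : g * ι c * g⁻¹ = g' * ι c * g'⁻¹ := e1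
    calc ι c * (g⁻¹ * g') = g⁻¹ * (g * ι c * g⁻¹) * g' := by group
      _ = g⁻¹ * g' * ι c := by rw [e4]; group
  have hm := Subgroup.Normal.conj_mem (inferInstance : N₂.Normal) _ hC g
  rw [mul_inv_cancel_left] at hm
  obtain ⟨c, hc⟩ := model_core_le hG hm
  have hr0 : ψ ⟨q, Subgroup.mem_sup_right hq⟩ ∈ R := hψQ.le ⟨_, hq, rfl⟩
  let r : S := ⟨_, apply_mem_S hψ ⟨q, Subgroup.mem_sup_right hq⟩⟩
  have hr' : ι r = g' * ι q * g'⁻¹ := hg' ⟨q, Subgroup.mem_sup_right hq⟩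
  refine ⟨c⁻¹ * r * c, ?_, ?_⟩
  · show ((c⁻¹ * r * c : S) : Ω) ∈ R
    obtain ⟨χ, hχ, hχe, hχR⟩ := hR.2 S _ (F.conj_mem le_rfl (S.inv_mem c.2))
    have h1 := hχR.le ⟨⟨r, Subgroup.mem_sup_right hr0⟩, hr0, rfl⟩
    have h2 := hχe r
    rw [conjHom_apply, inv_inv] at h2
    rw [show χ ⟨(r : Ω), Subgroup.mem_sup_right hr0⟩ = (c : Ω)⁻¹ * r * c from h2] at h1
    exact h1
  · rw [map_mul, map_mul, map_inv, hr', hc]; group

variable [Finite S] [Fact p.Prime]

theorem normal_centric_in_normalizerSystem (hRS : R ≤ S) (hRc : F.IsCentric R)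
    {E : FusionSystem (normalizerIn S R)} (hE : F.IsNormalizerSystem R E) :
    E.IsNormal R ∧ E.IsCentric R := by
  have hRT : R ≤ normalizerIn S R := le_normalizerIn hRS
  have hnorm : E.IsNormal R := by
    refine ⟨hRT, fun P φ hφ => ?_⟩
    rw [hE] at hφ
    obtain ⟨hφF, hP, hφT, ψ, hψ, hψe, hψR⟩ := hφ
    refine ⟨ψ, ?_, hψe, hψR⟩
    rw [hE]
    have hle : P ⊔ R ⊔ R ≤ P ⊔ R := sup_le le_rfl le_sup_right
    obtain ⟨κ, hκ⟩ := (map_eq_iff_exists_aut hψ).mp hψR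
    refine ⟨hψ, sup_le hP hRT, fun x => sup_le_map_comap (fun a ha => ?_) (fun b hb => ?_) x,
      _, restrict_mem hle hψ, fun x => rfl, ?_⟩
    · rw [show ψ ⟨a, _⟩ = φ ⟨a, ha⟩ from hψe ⟨a, ha⟩]; exact hφT _
    · rw [show ψ ⟨b, _⟩ = ((κ ⟨b, hb⟩ : R) : Ω) from hκ ⟨b, hb⟩]; exact hRT (Subtype.mem _)
    · exact (map_eq_iff_exists_aut (restrict_mem hle hψ)).mpr ⟨κ, hκ⟩
  refine ⟨hnorm, hRT, fun Q hQ => ?_⟩
  obtain ⟨φ, hφ, rfl⟩ := hQ
  have hle : φ.range ≤ R := by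
    rintro _ ⟨x, rfl⟩
    exact (IsNormal.stronglyClosed hnorm).2 R le_rfl φ hφ x
  have := finite_of_le hRS
  rw [eq_of_le_of_card_le hle (card_range hφ).ge]
  exact fun z hz => IsCentric.centralizerIn_le' hRc ⟨hz.1.1, hz.2⟩

theorem autGroup_normalizerSystem (hRS : R ≤ S) {E : FusionSystem (normalizerIn S R)}
    (hE : F.IsNormalizerSystem R E) : E.autGroup R = F.autGroup R := by
  have hRT : R ≤ normalizerIn S R := le_normalizerIn hRS
  have := finite_of_le hRS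
  ext α
  rw [mem_autGroup hRT, mem_autGroup hRS, hE]
  refine ⟨fun h => h.1, fun h => ⟨h, hRT, fun x => hRT (Subtype.mem _), _,
    restrict_mem (sup_le le_rfl le_rfl : R ⊔ R ≤ R) h, fun x => rfl, ?_⟩⟩
  exact (map_eq_iff_exists_aut (restrict_mem (sup_le le_rfl le_rfl : R ⊔ R ≤ R) h)).mpr ⟨α, fun x => rfl⟩

/-- Normalizer systems of fully normalized centric radical subgroups are constrained, and in their
models the core is that subgroup. -/
theorem normalizer_constrained (hS : IsPGroup p S) (hF : F.IsSaturated p) (hRn : F.IsFullyNormalized R)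
    (hRc : F.IsCentric R) {E : FusionSystem (normalizerIn S R)} (hE : F.IsNormalizerSystem R E) :
    E.IsConstrained p :=
  ⟨normalizerSystem_saturated hS hF hRn hE, R, normal_centric_in_normalizerSystem hRn.1 hRc hE⟩

theorem pCore_model_normalizer (hS : IsPGroup p S) (hRn : F.IsFullyNormalized R)
    (hRc : F.IsCentric R) (hRr : F.IsRadical p R) {E : FusionSystem (normalizerIn S R)}
    (hE : F.IsNormalizerSystem R E) {G : Type*} [Group G] {ι : normalizerIn S R →* G} (hG : E.IsModel p G ι) :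
    pCore p G = (R.subgroupOf (normalizerIn S R)).map ι := by
  obtain ⟨hn, hc⟩ := normal_centric_in_normalizerSystem hRn.1 hRc hE
  refine le_antisymm ?_ (le_sSup ⟨normal_image_of_isNormal hG hn,
    (model_range_isPGroup hG).to_le (Subgroup.map_le_range _ _)⟩)
  have := model_core_normal (p := p) (G := G)
  have hT : IsPGroup p (normalizerIn S R) := hS.to_le normalizerIn_le
  have : Finite (normalizerIn S R) := finite_of_le normalizerIn_le
  have hRr' : E.IsRadical p R := by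
    refine ⟨hn.1, ?_⟩
    rw [autGroup_normalizerSystem hRn.1 hE]
    exact hRr.2
  have hle := IsNormal.le_centric_radical hT (isNormal_of_realized hG.2.1 (pCore p G) (model_core_le hG)) hc hRr'
  intro n hn'
  obtain ⟨x, rfl⟩ := model_core_le hG hn'
  exact ⟨x, hle ⟨x, hn', rfl⟩, rfl⟩

end CfsgLib.Fusion
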