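import Cfsg.Agent.Lib.Fusion.Group
import Cfsg.Agent.Lib.Fusion.Factor

/-!
# Systems realized by a finite group
-/

namespace CfsgLib.Fusion

open Cfsg Cfsg.FusionSystem

variable {Ω : Type*} [Group Ω] {S : Subgroup Ω} {F : FusionSystem S} {G : Type*} [Group G]
  {ι : S →* G} {P Q : Subgroup Ω}

/-- Conjugations by elements of the realizing group give maps of the system. -/
theorem realized_exists_map (hF : F.IsRealizedBy ι) (hP : P ≤ S) (g : G)
    (h : ∀ x : P, g * ι ⟨x, hP x.2⟩ * g⁻¹ ∈ ι.range) :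
    ∃ φ ∈ F.Hom P, ∀ (x : P) (hx : φ x ∈ S), ι ⟨φ x, hx⟩ = g * ι ⟨x, hP x.2⟩ * g⁻¹ := by
  let e := ι.ofInjective hF.1
  let f : P →* ι.range :=
    ((MulAut.conj g).toMonoidHom.comp (ι.comp (Subgroup.inclusion hP))).codRestrict ι.range h
  let φ : P →* Ω := S.subtype.comp (e.symm.toMonoidHom.comp f)
  have hφS : ∀ x : P, φ x ∈ S := fun x => Subtype.mem _
  have hφ : ∀ x : P, ι ⟨φ x, hφS x⟩ = g * ι ⟨x, hP x.2⟩ * g⁻¹ := fun x =>
    congrArg Subtype.val (e.apply_symm_apply (f x))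
  exact ⟨φ, (hF.2 P hP φ hφS).mpr ⟨g, hφ⟩, fun x _ => hφ x⟩

theorem realized_conj (hF : F.IsRealizedBy ι) {φ : P →* Ω} (hφ : φ ∈ F.Hom P) :
    ∃ g : G, ∀ x : P, ι ⟨φ x, apply_mem_S hφ x⟩ = g * ι ⟨x, le_S hφ x.2⟩ * g⁻¹ :=
  (hF.2 P (le_S hφ) φ (apply_mem_S hφ)).mp hφ

/-- A system realized on a Sylow subgroup is saturated. -/
theorem saturated_of_realized [Finite G] {p : ℕ} [Fact p.Prime] (hF : F.IsRealizedBy ι)
    (T : Sylow p G) (hT : (T : Subgroup G) = ι.range) : F.IsSaturated p := by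
  let e := ι.ofInjective hF.1
  let θ : ι.range →* Ω := S.subtype.comp e.symm.toMonoidHom
  have hsat : (groupFusionSystem ι.range).IsSaturated p := hT ▸ group_saturated T
  have hp : IsPGroup p ι.range := hT ▸ T.2
  have hk : ∀ s : ι.range, θ s = 1 ↔ (s : G) ∈ (⊥ : Subgroup G) := fun s => by
    rw [Subgroup.mem_bot]
    refine ⟨fun h => ?_, fun h => ?_⟩
    · have h1 : e.symm s = 1 := Subtype.ext h
      rw [MulEquiv.map_eq_one_iff] at h1
      rw [h1]; rfl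
    · rw [show s = 1 from Subtype.ext h, map_one]
  have hθr : θ.range = S := by
    ext y
    exact ⟨fun ⟨x, hx⟩ => hx ▸ Subtype.mem _,
      fun hy => ⟨e ⟨y, hy⟩, show ((e.symm (e ⟨y, hy⟩) : S) : Ω) = y by rw [e.symm_apply_apply]⟩⟩
  have hval : ∀ x : S, θ (e x) = (x : Ω) := fun x =>
    show ((e.symm (e x) : S) : Ω) = x by rw [e.symm_apply_apply]
  have hsc : (groupFusionSystem ι.range).StronglyClosed ⊥ := by
    refine ⟨bot_le, fun R hR φ _ x => ?_⟩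
    rw [show x = 1 from Subtype.ext (Subgroup.mem_bot.mp (hR x.2)), map_one]
    exact Subgroup.one_mem _
  refine CfsgLib.FusionFactor.isSaturated_factor hp hsat hsc (E := F) (θ := θ)
    ⟨bot_le, hk, hθr, fun P' φ' => ⟨fun hφ' => ⟨le_S hφ', ?_⟩, ?_⟩⟩
  · obtain ⟨g, hg⟩ := realized_conj hF hφ'
    have hP' := le_S hφ'
    have hpre : ∀ y, y ∈ preimageAlong θ P' → ∃ x : P', y = ι ⟨x, hP' x.2⟩ := by
      intro y hy
      obtain ⟨hyS, hy'⟩ := CfsgLib.FusionFactor.mem_preimageAlong.mp hy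
      exact ⟨⟨_, hy'⟩, (congrArg Subtype.val (e.apply_symm_apply ⟨y, hyS⟩)).symm⟩
    have hmem : ∀ y ∈ preimageAlong θ P', g * y * g⁻¹ ∈ ι.range := fun y hy => by
      obtain ⟨x, rfl⟩ := hpre y hy
      exact ⟨_, hg x⟩
    refine ⟨conjHom _ g, group_conjHom_mem (CfsgLib.FusionFactor.preimageAlong_le P') hmem,
      CfsgLib.FusionFactor.preimageAlong_le P', fun y => hmem y y.2,
      fun y => CfsgLib.FusionFactor.map_mem_of_mem_preimageAlong y.2 _, fun y => ?_⟩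
    obtain ⟨x, hx⟩ := hpre y y.2
    have e1 : (⟨(y : G), CfsgLib.FusionFactor.preimageAlong_le P' y.2⟩ : ι.range) = e ⟨x, hP' x.2⟩ :=
      Subtype.ext hx
    have e2 : (⟨conjHom (preimageAlong θ P') g y, hmem y y.2⟩ : ι.range) = e ⟨φ' x, apply_mem_S hφ' x⟩ :=
      Subtype.ext ((congrArg (fun z => g * z * g⁻¹) hx).trans (hg x).symm)
    rw [e2, hval]
    exact apply_eq_of_coe_eq ((congrArg θ e1).trans (hval _))
  · rintro ⟨hP', φ, ⟨-, hφS, g, hg⟩, hP, hφS', hm, hind⟩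
    have hmem : ∀ x : P', ι ⟨x, hP' x.2⟩ ∈ preimageAlong θ P' := fun x =>
      CfsgLib.FusionFactor.mem_preimageAlong.mpr ⟨⟨_, rfl⟩, by
        show θ (e ⟨x, hP' x.2⟩) ∈ P'
        rw [hval]; exact x.2⟩
    have hφ'v : ∀ x : P', φ' x = θ ⟨φ ⟨_, hmem x⟩, hφS' _⟩ := fun x => by
      rw [← hind]
      exact apply_eq_of_coe_eq (hval ⟨x, hP' x.2⟩).symm
    have hφ'S : ∀ x : P', φ' x ∈ S := fun x => by rw [hφ'v]; exact Subtype.mem _
    refine (hF.2 P' hP' φ' hφ'S).mpr ⟨g, fun x => ?_⟩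
    have h1 : (⟨φ' x, hφ'S x⟩ : S) = e.symm ⟨φ ⟨_, hmem x⟩, hφS' _⟩ := Subtype.ext (hφ'v x)
    rw [h1, ← hg ⟨_, hmem x⟩]
    exact congrArg Subtype.val (e.apply_symm_apply _)

/-- A normal subgroup of the group inside the image of `S` gives a normal subgroup of the system. -/
theorem isNormal_of_realized (hF : F.IsRealizedBy ι) (N : Subgroup G) [N.Normal] (hN : N ≤ ι.range) :
    F.IsNormal ((N.comap ι).map S.subtype) := by
  refine ⟨Subgroup.map_subtype_le _, fun P φ hφ => ?_⟩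
  obtain ⟨g, hg⟩ := realized_conj hF hφ
  have hle : P ⊔ (N.comap ι).map S.subtype ≤ S := sup_le (le_S hφ) (Subgroup.map_subtype_le _)
  have hmem : ∀ x : ↥(P ⊔ (N.comap ι).map S.subtype), g * ι ⟨x, hle x.2⟩ * g⁻¹ ∈ ι.range := by
    intro x
    have h : P ⊔ (N.comap ι).map S.subtype ≤
        ((ι.range.comap (MulAut.conj g).toMonoidHom).comap ι).map S.subtype :=
      sup_le (fun a ha => ⟨⟨a, le_S hφ ha⟩, ⟨_, hg ⟨a, ha⟩⟩, rfl⟩)
        (fun a ⟨b, hb, hba⟩ => ⟨b, hN (Subgroup.Normal.conj_mem (inferInstance : N.Normal) (ι b) hb g), hba⟩)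
    obtain ⟨b, hb, hba⟩ := h x.2
    rw [show (⟨(x : Ω), hle x.2⟩ : S) = b from Subtype.ext hba.symm]
    exact hb
  obtain ⟨ψ, hψ, hψe⟩ := realized_exists_map hF hle g hmem
  refine ⟨ψ, hψ, fun x => ?_, ?_⟩
  · exact congrArg Subtype.val (hF.1 ((hψe (Subgroup.inclusion le_sup_left x) (apply_mem_S hψ _)).trans (hg x).symm))
  · ext y
    rw [mem_map_subgroupOf]
    constructor
    · rintro ⟨x, ⟨b, hb, hbx⟩, rfl⟩
      refine ⟨⟨ψ x, apply_mem_S hψ x⟩, ?_, rfl⟩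
      show ι _ ∈ N
      rw [hψe, show (⟨(x : Ω), hle x.2⟩ : S) = b from Subtype.ext hbx.symm]
      exact Subgroup.Normal.conj_mem (inferInstance : N.Normal) (ι b) hb g
    · rintro ⟨b, hb, rfl⟩
      have hm : g⁻¹ * ι b * g ∈ N := by
        have := Subgroup.Normal.conj_mem (inferInstance : N.Normal) _ hb g⁻¹
        rwa [inv_inv] at this
      obtain ⟨c, hc⟩ := hN hm
      have hcN : ι c ∈ N := hc.symm ▸ hm
      refine ⟨⟨c, Subgroup.mem_sup_right ⟨c, hcN, rfl⟩⟩, ⟨c, hcN, rfl⟩, ?_⟩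
      refine congrArg Subtype.val (hF.1 (a₁ := ⟨_, apply_mem_S hψ _⟩) (a₂ := b) ?_)
      rw [hψe, hc]; group

/-- A normal self-centralizing subgroup of the group gives a centric subgroup of the system. -/
theorem isCentric_of_realized (hF : F.IsRealizedBy ι) (N : Subgroup G) [N.Normal] (hN : N ≤ ι.range)
    (hC : Subgroup.centralizer (N : Set G) ≤ N) : F.IsCentric ((N.comap ι).map S.subtype) := by
  refine ⟨Subgroup.map_subtype_le _, fun Q hQ => ?_⟩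
  obtain ⟨φ, hφ, rfl⟩ := hQ
  obtain ⟨g, hg⟩ := realized_conj hF hφ
  intro z hz
  have hzN : ι ⟨z, hz.1⟩ ∈ N := hC fun n hn => by
    have hm : g⁻¹ * n * g ∈ N := by
      have := Subgroup.Normal.conj_mem (inferInstance : N.Normal) _ hn g⁻¹
      rwa [inv_inv] at this
    obtain ⟨c, hc⟩ := hN hm
    have hcm : (c : Ω) ∈ (N.comap ι).map S.subtype := ⟨c, show ι c ∈ N by rw [hc]; exact hm, rfl⟩
    have h1 : n = ι ⟨φ ⟨c, hcm⟩, apply_mem_S hφ _⟩ := by rw [hg, hc]; group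
    have h2 := hz.2 (φ ⟨c, hcm⟩) ⟨_, rfl⟩
    rw [h1, ← map_mul, ← map_mul]
    exact congrArg ι (Subtype.ext h2)
  have hm : g⁻¹ * ι ⟨z, hz.1⟩ * g ∈ N := by
    have := Subgroup.Normal.conj_mem (inferInstance : N.Normal) _ hzN g⁻¹
    rwa [inv_inv] at this
  obtain ⟨c, hc⟩ := hN hm
  refine ⟨⟨c, ⟨c, show ι c ∈ N by rw [hc]; exact hm, rfl⟩⟩, ?_⟩
  refine congrArg Subtype.val (hF.1 (a₁ := ⟨_, apply_mem_S hφ _⟩) (a₂ := ⟨z, hz.1⟩) ?_)
  rw [hg]
  show g * ι c * g⁻¹ = _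
  rw [hc]; group

end CfsgLib.Fusion
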