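import Cfsg.Agent.Lib.Fusion.Model
import Cfsg.Agent.Lib.Fusion.Realized
import Cfsg.Agent.Lib.Fusion.ModelCore
import Cfsg.Agent.Lib.Fusion.ExtSaturated
import Mathlib.GroupTheory.Sylow

/-!
# The model theorem
-/

namespace CfsgLib.Fusion

open Cfsg Cfsg.FusionSystem CfsgLib.Fusion.Twist CfsgLib.Fusion.Model MulAction
open scoped IsMulCommutative

universe u

variable {Ω : Type u} [Group Ω] {S : Subgroup Ω} {F : FusionSystem S} {p : ℕ} {Q : Subgroup Ω}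

namespace Model

variable [Finite S] {B : StableBiset F p}

theorem nonempty_X : Nonempty B.X := by
  rcases isEmpty_or_nonempty B.X with hX | hX
  · exact absurd (by simp [Nat.card_of_isEmpty]) B.degree
  · exact hX

/-- Maps of the system are conjugations by permutations commuting with the right action. -/
theorem exists_perm {P : Subgroup Ω} {ψ : P →* Ω} (hψ : ψ ∈ F.Hom P) :
    ∃ g ∈ Subgroup.centralizer ((rmap B).range : Set (Equiv.Perm B.X)),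
      ∀ q : P, g * lmap B ⟨q, le_S hψ q.2⟩ * g⁻¹ = lmap B ⟨ψ q, apply_mem_S hψ q⟩ := by
  obtain ⟨e, he⟩ := B.exists_equiv hψ
  refine ⟨e, Subgroup.mem_centralizer_iff.mpr ?_, fun q => Equiv.ext fun x => ?_⟩
  · rintro _ ⟨b, rfl⟩
    refine Equiv.ext fun x => ?_
    have h1 := he 1 b x
    rw [show (⟨((1 : P) : Ω), le_S hψ (1 : P).2⟩ : S) = 1 from rfl,
      show (⟨ψ 1, apply_mem_S hψ 1⟩ : S) = 1 from Subtype.ext (map_one ψ)] at h1
    exact h1.symm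
  · have h1 := he q 1 (e.symm x)
    rw [e.apply_symm_apply] at h1
    exact h1

/-- A permutation extending an automorphism of `Q` lies in `ambient`. -/
theorem exists_ambient {P : Subgroup Ω} {ψ : P →* Ω} (hψ : ψ ∈ F.Hom P) (hQP : Q ≤ P)
    (hQ : ∀ q : P, (q : Ω) ∈ Q → ψ q ∈ Q) :
    ∃ g ∈ ambient B Q, ∀ q : P, g * lmap B ⟨q, le_S hψ q.2⟩ * g⁻¹ = lmap B ⟨ψ q, apply_mem_S hψ q⟩ := by
  obtain ⟨g, hg, he⟩ := exists_perm (B := B) hψ
  refine ⟨g, ⟨hg, mem_normalizer_of_forall ?_⟩, he⟩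
  rintro _ ⟨⟨a, haS⟩, ha, rfl⟩
  exact ⟨⟨ψ ⟨a, hQP ha⟩, apply_mem_S hψ _⟩, hQ _ ha, (he ⟨a, hQP ha⟩).symm⟩

variable [Fact p.Prime]

/-- Elements of `ambient` induce automorphisms of `Q` in the system. -/
theorem exists_aut_of_ambient (hS : IsPGroup p S) (hQ : F.IsNormal Q) {g : Equiv.Perm B.X}
    (hg : g ∈ ambient B Q) :
    ∃ α ∈ F.autGroup Q, ∀ q : Q,
      g * lmap B ⟨q, hQ.1 q.2⟩ * g⁻¹ = lmap B ⟨((α q : Q) : Ω), hQ.1 (α q).2⟩ := by
  have hne : Nonempty (FixOrb B Q) := by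
    by_contra h
    rw [not_nonempty_iff] at h
    exact not_dvd_card_fixOrb (B := B) (Q := Q) hS (by simp [Fintype.card_eq_zero])
  obtain ⟨o⟩ := hne
  have hx : IsFix B Q (B.pt o.1) := o.2
  obtain ⟨c, hc, hcr, hce⟩ := hx.exists_twist hQ
  have hgx : IsFix B Q (g (B.pt o.1)) := fun a ha => by
    obtain ⟨a', ha', he⟩ := exists_conj_left ((ambient B Q).inv_mem hg) ha
    obtain ⟨b, hb⟩ := hx a' ha'
    refine ⟨b, ?_⟩
    have he' : g * lmap B a' * g⁻¹ = lmap B a := by rw [← he]; group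
    rw [← ambient_smul hg he', hb]
  obtain ⟨d, hd, hdr, hde⟩ := hgx.exists_twist hQ
  obtain ⟨d', hd', hd'r, hd'1, -⟩ := exists_inv hd hdr
  obtain ⟨χ, hχ, hχe⟩ := exists_comp hc hd' fun q => hcr.le ⟨q, rfl⟩
  have := finite_of_le hQ.1
  obtain ⟨α, hα, hαe⟩ := exists_aut hχ (range_eq_of_card_le hχ hQ.1
    (fun q => by rw [hχe]; exact hd'r.le ⟨_, rfl⟩) le_rfl)
  refine ⟨α, hα, fun q => ?_⟩
  obtain ⟨⟨a, haS⟩, ha, he⟩ := exists_conj_left (a := ⟨(q : Ω), hQ.1 q.2⟩) hg q.2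
  rw [he]
  congr 1
  refine Subtype.ext ?_
  show a = _
  rw [hαe, hχe]
  have h1 : (⟨c q, apply_mem_S hc q⟩ : S) = ⟨d ⟨a, ha⟩, apply_mem_S hd _⟩ := by
    refine right_unique (a := ⟨a, haS⟩) (x := g (B.pt o.1)) ?_ (hde ⟨a, ha⟩)
    rw [← ambient_smul hg he, hce]
  have h2 := hd'1 ⟨a, ha⟩ (hdr.le ⟨_, rfl⟩)
  exact h2.symm.trans (apply_eq_of_coe_eq (congrArg Subtype.val h1).symm)

end Model

variable [Finite S] [Fact p.Prime]

/-- The model theorem: a saturated system with a normal centric subgroup has a model. -/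
theorem exists_model (hS : IsPGroup p S) (hF : F.IsSaturated p) (hQ : F.IsNormal Q) (hQc : F.IsCentric Q) :
    ∃ (L : Type u) (_ : Group L) (ι : S →* L), F.IsModel p L ι := by
  obtain ⟨B⟩ := exists_biset hS hF
  have hX : Nonempty B.X := nonempty_X
  have hQf := finite_of_le hQ.1
  have hSQ : S ≤ Subgroup.normalizer (Q : Set Ω) := StronglyClosed.le_normalizer (IsNormal.stronglyClosed hQ)
  obtain ⟨R⟩ := exists_coherent B Q
  let N := ambient B Q
  let K := fixer B Q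
  let V := shift hQ hQc R
  let m := Fintype.card (FixOrb B Q)
  let D : Subgroup N := V.ker.map (Subgroup.inclusion (fixer_le B Q))
  have hKn : ∀ g ∈ N, ∀ k ∈ K, g * k * g⁻¹ ∈ K := by
    intro g hg k hk
    refine ⟨Subgroup.mul_mem _ (Subgroup.mul_mem _ hg.1 hk.1) (Subgroup.inv_mem _ hg.1),
      Subgroup.mem_centralizer_iff.mpr fun w hw => ?_⟩
    have hw' : g⁻¹ * w * g ∈ lQ B Q := (Subgroup.mem_normalizer_iff''.mp hg.2 w).mp hw
    have h := Subgroup.mem_centralizer_iff.mp hk.2 _ hw'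
    calc w * (g * k * g⁻¹) = g * (g⁻¹ * w * g * k) * g⁻¹ := by group
      _ = g * (k * (g⁻¹ * w * g)) * g⁻¹ := by rw [h]
      _ = g * k * g⁻¹ * w := by group
  have hD : D.Normal := ⟨fun n hn g => by
    obtain ⟨k, hk, rfl⟩ := hn
    exact ⟨⟨_, hKn g g.2 k k.2⟩, shift_conj hQ hQc R g.2 k ⟨_, hKn g g.2 k k.2⟩ rfl hk, rfl⟩⟩
  have hlN : ∀ a : S, lmap B a ∈ N := fun a => by
    refine ⟨Subgroup.mem_centralizer_iff.mpr ?_, mem_normalizer_of_forall ?_⟩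
    · rintro _ ⟨b, rfl⟩
      exact (lmap_rmap B a b).symm
    · rintro _ ⟨w, hw, rfl⟩
      exact ⟨a * w * a⁻¹, (Subgroup.mem_normalizer_iff.mp (hSQ a.2) _).mp hw, by simp⟩
  let π := QuotientGroup.mk' D
  let lN : S →* N := (lmap B).codRestrict N hlN
  let ι : S →* N ⧸ D := π.comp lN
  -- the automorphism of `Q` induced by an element of `N`
  choose α hα hαe using fun g : N => exists_aut_of_ambient hS hQ g.2
  have hαu : ∀ (g : N) (β : MulAut Q), (∀ q : Q,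
      (g : Equiv.Perm B.X) * lmap B ⟨q, hQ.1 q.2⟩ * (g : Equiv.Perm B.X)⁻¹ = lmap B ⟨((β q : Q) : Ω), hQ.1 (β q).2⟩) →
      α g = β := fun g β h => MulEquiv.ext fun q =>
    Subtype.ext (congrArg (Subtype.val : S → Ω) (lmap_injective B hX ((hαe g q).symm.trans (h q))))
  let f : N →* F.autGroup Q := MonoidHom.mk' (fun g => ⟨α g, hα g⟩) fun g h => Subtype.ext (by
    refine hαu (g * h) (α g * α h) fun q => ?_
    rw [MulAut.mul_apply, ← hαe g, ← hαe h, Subgroup.coe_mul, mul_inv_rev]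
    group)
  have hDf : D ≤ f.ker := by
    rintro _ ⟨k, -, rfl⟩
    refine Subtype.ext (hαu _ 1 fun q => ?_)
    have h := Subgroup.mem_centralizer_iff.mp k.2.2 (lmap B ⟨q, hQ.1 q.2⟩) ⟨_, q.2, rfl⟩
    show (k : Equiv.Perm B.X) * lmap B ⟨q, hQ.1 q.2⟩ * (k : Equiv.Perm B.X)⁻¹ = lmap B ⟨q, hQ.1 q.2⟩
    rw [← h, mul_inv_cancel_right]
  let fL : N ⧸ D →* F.autGroup Q := QuotientGroup.lift D f hDf
  have hfL : ∀ g : N, fL (π g) = f g := fun g => QuotientGroup.lift_mk' D hDf g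
  have hfix_of : ∀ g : N, f g = 1 → (g : Equiv.Perm B.X) ∈ K := by
    intro g hg
    refine ⟨g.2.1, Subgroup.mem_centralizer_iff.mpr ?_⟩
    rintro _ ⟨⟨a, haS⟩, ha, rfl⟩
    have h := hαe g ⟨a, ha⟩
    rw [show α g = 1 from congrArg Subtype.val hg] at h
    exact (mul_inv_eq_iff_eq_mul.mp h).symm
  -- `Z(Q)` covers `K` modulo `D`
  have hZp : IsPGroup p (Zs S Q) := hS.to_subgroup _
  have hmcop : (Nat.card (Zs S Q)).Coprime m := by
    obtain ⟨n, hn⟩ := IsPGroup.iff_card.mp hZp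
    rw [hn]
    exact Nat.Coprime.pow_left n ((Fact.out : p.Prime).coprime_iff_not_dvd.mpr (not_dvd_card_fixOrb hS))
  have hlK : ∀ z : Zs S Q, lmap B z ∈ K := fun z => by
    refine ⟨(hlN z).1, Subgroup.mem_centralizer_iff.mpr ?_⟩
    rintro _ ⟨w, hw, rfl⟩
    rw [← map_mul, ← map_mul, Subgroup.mem_centralizer_iff.mp z.2.2 w hw]
  have hVz : ∀ z : Zs S Q, V ⟨_, hlK z⟩ = z ^ m := fun z => shift_lmap hQ hQc R z _ rfl
  have hker : ∀ g : N, f g = 1 → ∃ z : Zs S Q, π g = ι z := by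
    intro g hg
    let k : K := ⟨g, hfix_of g hg⟩
    obtain ⟨z, hz⟩ := (powCoprime hmcop).surjective (V k)
    refine ⟨z, (QuotientGroup.eq (s := D)).mpr ?_⟩
    refine ⟨k⁻¹ * ⟨_, hlK z⟩, ?_, rfl⟩
    show V (k⁻¹ * ⟨_, hlK z⟩) = 1
    rw [map_mul, map_inv, hVz, inv_mul_eq_one]
    exact hz.symm
  have hι : Function.Injective ι := by
    rw [injective_iff_map_eq_one]
    intro a ha
    obtain ⟨k, hk, hka⟩ := (QuotientGroup.eq_one_iff _).mp ha
    have hka' : (k : Equiv.Perm B.X) = lmap B a := congrArg Subtype.val hka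
    have haQ : (a : Ω) ∈ Q := IsCentric.centralizerIn_le' hQc (mem_centralizerIn.mpr ⟨a.2, fun w hw => by
      have h := Subgroup.mem_centralizer_iff.mp k.2.2 (lmap B ⟨w, hQ.1 hw⟩) ⟨_, hw, rfl⟩
      rw [hka', ← map_mul, ← map_mul] at h
      exact congrArg Subtype.val (lmap_injective B hX h)⟩)
    have haZ : a ∈ Zs S Q := ⟨haQ, Subgroup.mem_centralizer_iff.mpr fun w hw => by
      have h := Subgroup.mem_centralizer_iff.mp k.2.2 (lmap B w) ⟨_, hw, rfl⟩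
      rw [hka', ← map_mul, ← map_mul] at h
      exact lmap_injective B hX h⟩
    have h1 : V k = (⟨a, haZ⟩ : Zs S Q) ^ m := shift_lmap hQ hQc R ⟨a, haZ⟩ k hka'
    rw [show V k = 1 from hk] at h1
    have h2 : (⟨a, haZ⟩ : Zs S Q) = 1 :=
      (powCoprime hmcop).injective (by rw [powCoprime_apply, powCoprime_apply, one_pow]; exact h1.symm)
    exact congrArg Subtype.val h2
  have hιQ : ∀ (g : N) (q : Q), π g * ι ⟨q, hQ.1 q.2⟩ * (π g)⁻¹ = ι ⟨((α g q : Q) : Ω), hQ.1 (α g q).2⟩ := by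
    intro g q
    show π g * π (lN _) * (π g)⁻¹ = π (lN _)
    rw [← map_inv π, ← map_mul π, ← map_mul π]
    exact congrArg π (Subtype.ext (hαe g q))
  have hαsurj : Function.Surjective f := by
    rintro ⟨β, hβ⟩
    obtain ⟨g, hg, he⟩ := exists_ambient (B := B) ((mem_autGroup hQ.1).mp hβ) le_rfl fun q _ => Subtype.prop (β q)
    exact ⟨⟨g, hg⟩, Subtype.ext (hαu ⟨g, hg⟩ β he)⟩
  have hfLsurj : Function.Surjective fL := fun β => by
    obtain ⟨g, rfl⟩ := hαsurj β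
    exact ⟨π g, hfL g⟩
  have hkerle : fL.ker ≤ ι.range := by
    intro l hl
    obtain ⟨g, rfl⟩ := QuotientGroup.mk'_surjective D l
    obtain ⟨z, hz⟩ := hker g (by rw [← hfL]; exact hl)
    exact ⟨z, hz.symm⟩
  have hfι : ∀ a : S, ((fL (ι a) : F.autGroup Q) : MulAut Q) ∈ autInducedBy S Q ∧
      ∀ q : Q, ((((fL (ι a) : F.autGroup Q) : MulAut Q) q : Q) : Ω) = a * (q : Ω) * (a : Ω)⁻¹ := by
    intro a
    obtain ⟨β, hβ, hβe⟩ := exists_autInducedBy (K := S) a.2 (hSQ a.2)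
    have : α (lN a) = β := hαu _ β fun q => by
      show lmap B a * lmap B _ * (lmap B a)⁻¹ = lmap B _
      rw [← map_inv, ← map_mul, ← map_mul]
      exact congrArg _ (Subtype.ext (hβe q).symm)
    rw [show ((fL (ι a) : F.autGroup Q) : MulAut Q) = α (lN a) from congrArg Subtype.val (hfL _), this]
    exact ⟨hβ, hβe⟩
  have hmap : ι.range.map fL = (autInducedBy S Q).subgroupOf (F.autGroup Q) := by
    ext β
    constructor
    · rintro ⟨_, ⟨a, rfl⟩, rfl⟩; exact (hfι a).1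
    · intro hβ
      obtain ⟨a, ha, hae⟩ := mem_autInducedBy.mp (Subgroup.mem_subgroupOf.mp hβ)
      exact ⟨_, ⟨⟨a, ha⟩, rfl⟩, Subtype.ext (MulEquiv.ext fun q =>
        Subtype.ext (((hfι ⟨a, ha⟩).2 q).trans (hae q).symm))⟩
  -- receptivity of `Q`
  have hnQ : normalizerIn S Q = S := le_antisymm normalizerIn_le fun s hs => ⟨hs, hSQ hs⟩
  have hfn : F.IsFullyNormalized Q := ⟨hQ.1, fun P _ => by rw [hnQ]; exact Subgroup.card_le_of_le normalizerIn_le⟩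
  obtain ⟨hauto, hrec⟩ := fullyNormalized_good hS hF hfn
  have hindex : ¬ p ∣ ι.range.index := by
    obtain ⟨-, T, hT⟩ := hauto
    have := finite_mulAut (S := S) hQ.1
    rw [← Subgroup.index_map_eq ι.range hfLsurj hkerle, hmap, ← hT]
    exact T.not_dvd_index
  have hrp : IsPGroup p ι.range := hS.of_surjective ι.rangeRestrict ι.rangeRestrict_surjective
  refine ⟨N ⧸ D, inferInstance, ι, inferInstance, ⟨hι, fun P hP φ hφS => ⟨fun hφ => ?_, ?_⟩⟩,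
    ⟨hrp.toSylow hindex, IsPGroup.toSylow_coe _ _⟩, ?_⟩
  · obtain ⟨ψ, hψ, hψe, hψQ⟩ := IsNormal.exists_ext hQ hφ
    obtain ⟨g, hg, he⟩ := exists_ambient (B := B) hψ le_sup_right fun q hq => hψQ q hq
    refine ⟨π ⟨g, hg⟩, fun x => ?_⟩
    show π (lN _) = π ⟨g, hg⟩ * π (lN _) * (π ⟨g, hg⟩)⁻¹
    rw [← map_inv π, ← map_mul π, ← map_mul π]
    refine congrArg π (Subtype.ext ?_)
    refine Eq.trans ?_ (he ⟨x, Subgroup.mem_sup_left x.2⟩).symm
    exact congrArg (lmap B) (Subtype.ext (hψe x).symm)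
  · rintro ⟨l, hl⟩
    obtain ⟨g, rfl⟩ := QuotientGroup.mk'_surjective D l
    replace hl : ∀ x : P, ι ⟨φ x, hφS x⟩ = π g * ι ⟨x, hP x.2⟩ * (π g)⁻¹ := hl
    have hPN : P ⊔ Q ≤ extender S Q (Q.subtype.comp (α g).toMonoidHom) := by
      refine sup_le (fun v hv => mem_extender.mpr ⟨hP hv, hSQ (hP hv), φ ⟨v, hv⟩, hφS _, fun q hq => ?_⟩)
        (le_extender hQ.1 (apply_mem_S ((mem_autGroup hQ.1).mp (hα g))))
      rw [autMap_apply, autMap_apply]
      have h1 := hιQ g ⟨v * q * v⁻¹, hq⟩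
      rw [show (⟨v * q * v⁻¹, hQ.1 hq⟩ : S) = ⟨v, hP hv⟩ * ⟨q, hQ.1 q.2⟩ * ⟨v, hP hv⟩⁻¹ from rfl] at h1
      have h2 : π g * ι (⟨v, hP hv⟩ * ⟨q, hQ.1 q.2⟩ * ⟨v, hP hv⟩⁻¹) * (π g)⁻¹ =
          ι (⟨φ ⟨v, hv⟩, hφS _⟩ * ⟨((α g q : Q) : Ω), hQ.1 (α g q).2⟩ * ⟨φ ⟨v, hv⟩, hφS _⟩⁻¹) := by
        rw [map_mul ι, map_mul ι, map_inv ι, map_mul ι, map_mul ι, map_inv ι, hl ⟨v, hv⟩, ← hιQ g q]
        group
      exact congrArg Subtype.val (hι (h1.symm.trans h2))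
    obtain ⟨ψ, hψ, hψe⟩ := exists_extension hrec ((mem_autGroup hQ.1).mp (hα g)) (autMap_range _)
      (le_sup_right : Q ≤ P ⊔ Q) hPN
    obtain ⟨h, hh, hhe⟩ := exists_ambient (B := B) hψ le_sup_right fun q hq => by
      rw [show q = ⟨((⟨q, hq⟩ : Q) : Ω), q.2⟩ from rfl, hψe ⟨q, hq⟩]; exact Subtype.prop _
    have hfh : α ⟨h, hh⟩ = α g := hαu ⟨h, hh⟩ (α g) fun q => by
      refine (hhe ⟨q, Subgroup.mem_sup_right q.2⟩).trans (congrArg (lmap B) (Subtype.ext ?_))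
      exact hψe q
    obtain ⟨z, hz⟩ := hker ((⟨h, hh⟩ : N)⁻¹ * g) (by
      rw [map_mul, map_inv, inv_mul_eq_one]; exact Subtype.ext hfh)
    have hgz : π g = π ⟨h, hh⟩ * ι z := by rw [← hz, ← map_mul, mul_inv_cancel_left]
    have hzP : ∀ x : P, ((z : S) : Ω) * x * ((z : S) : Ω)⁻¹ ∈ P ⊔ Q := fun x =>
      Subgroup.mul_mem _ (Subgroup.mul_mem _ (Subgroup.mem_sup_right z.2.1) (Subgroup.mem_sup_left x.2))
        (Subgroup.inv_mem _ (Subgroup.mem_sup_right z.2.1))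
    obtain ⟨χ, hχ, hχe⟩ := exists_comp (F.conj_mem hP (Subtype.prop (z : S))) hψ hzP
    suffices h : φ = χ by rwa [h]
    refine MonoidHom.ext fun x => ?_
    rw [hχe]
    have h1 := hl x
    rw [hgz, show π ⟨h, hh⟩ * ι z * ι ⟨x, hP x.2⟩ * (π ⟨h, hh⟩ * ι z)⁻¹ =
      π ⟨h, hh⟩ * ι (z * ⟨x, hP x.2⟩ * (z : S)⁻¹) * (π ⟨h, hh⟩)⁻¹ by
        rw [map_mul ι, map_mul ι, map_inv ι]; group] at h1
    have h2 : π ⟨h, hh⟩ * ι (z * ⟨x, hP x.2⟩ * (z : S)⁻¹) * (π ⟨h, hh⟩)⁻¹ =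
        ι ⟨ψ ⟨_, hzP x⟩, apply_mem_S hψ _⟩ := by
      show π _ * π (lN _) * (π _)⁻¹ = π (lN _)
      rw [← map_inv π, ← map_mul π, ← map_mul π]
      exact congrArg π (Subtype.ext (hhe ⟨_, hzP x⟩))
    exact congrArg Subtype.val (hι (h1.trans h2))
  · let Qb : Subgroup (N ⧸ D) := (Q.subgroupOf S).map ι
    have hQbn : Qb.Normal := ⟨fun w hw l => by
      obtain ⟨g, rfl⟩ := QuotientGroup.mk'_surjective D l
      obtain ⟨⟨a, haS⟩, ha, rfl⟩ := hw
      exact ⟨⟨((α g ⟨a, ha⟩ : Q) : Ω), hQ.1 (α g ⟨a, ha⟩).2⟩, (α g ⟨a, ha⟩).2, (hιQ g ⟨a, ha⟩).symm⟩⟩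
    have hQble : Qb ≤ pCore p (N ⧸ D) :=
      le_sSup ⟨hQbn, (hS.to_subgroup _).map ι⟩
    refine le_trans ?_ hQble
    intro l hl
    obtain ⟨g, rfl⟩ := QuotientGroup.mk'_surjective D l
    have hg1 : f g = 1 := Subtype.ext (MulEquiv.ext fun q => by
      have h := hιQ g q
      rw [← Subgroup.mem_centralizer_iff.mp hl (ι ⟨q, hQ.1 q.2⟩) (hQble ⟨_, q.2, rfl⟩),
        mul_inv_cancel_right] at h
      exact Subtype.ext (congrArg Subtype.val (hι h)).symm)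
    obtain ⟨z, hz⟩ := hker g hg1
    exact ⟨z, z.2.1, hz.symm⟩

/-- Constrained systems have models. -/
theorem exists_model_of_constrained (hS : IsPGroup p S) (hF : F.IsConstrained p) :
    ∃ (L : Type u) (_ : Group L) (ι : S →* L), F.IsModel p L ι := by
  obtain ⟨hsat, Q, hQ, hQc⟩ := hF
  exact exists_model hS hsat hQ hQc

/-- Normalizer systems of fully normalized centric subgroups have models. -/
theorem exists_model_normalizer {R : Subgroup Ω} (hS : IsPGroup p S) (hF : F.IsSaturated p)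
    (hRn : F.IsFullyNormalized R) (hRc : F.IsCentric R) {E : FusionSystem (normalizerIn S R)}
    (hE : F.IsNormalizerSystem R E) :
    ∃ (L : Type u) (_ : Group L) (ι : normalizerIn S R →* L), E.IsModel p L ι := by
  have : Finite (normalizerIn S R) := finite_of_le normalizerIn_le
  exact exists_model_of_constrained (hS.to_le normalizerIn_le) (normalizer_constrained hS hF hRn hRc hE)

end CfsgLib.Fusion
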