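import Cfsg.Agent.Lib.Fusion.ModelExists
import Cfsg.Prelude.Def_FusionReduction

/-!
# Comparing models of local subsystems

A model of a saturated subsystem with a normal subgroup `R` centric in `F` embeds in a model of
`N_F(R'')`, `R''` a fully normalized conjugate of `R`. Consequently properties of models closed under
subgroups may be tested at centric radical subgroups, and pass to the systems `N_F^K(U)`.
-/

namespace CfsgLib.Fusion

open Cfsg Cfsg.FusionSystem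

universe u

variable {Ω : Type u} [Group Ω] {S : Subgroup Ω} {F : FusionSystem S} {p : ℕ} {Q R U : Subgroup Ω}

/-- A property of groups closed under subgroups and quotients. -/
structure SectionClosed (Good : ∀ (L : Type u) [Group L], Prop) : Prop where
  sub : ∀ {L L' : Type u} [Group L] [Group L'] (f : L' →* L), Function.Injective f → Good L → Good L'
  quot : ∀ {L L' : Type u} [Group L] [Group L'] (f : L →* L'), Function.Surjective f → Good L → Good L'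

/-- All models at fully normalized centric subgroups are good. -/
def CentricFree (F : FusionSystem S) (p : ℕ) (Good : ∀ (L : Type u) [Group L], Prop) : Prop :=
  ∀ Q : Subgroup Ω, F.IsFullyNormalized Q → F.IsCentric Q →
    ∀ N : FusionSystem (normalizerIn S Q), F.IsNormalizerSystem Q N →
      ∀ (L : Type u) [Group L] (ι : ↥(normalizerIn S Q) →* L), N.IsModel p L ι → Good L

/-- All models at fully normalized centric radical subgroups are good. -/
def RadicalFree (F : FusionSystem S) (p : ℕ) (Good : ∀ (L : Type u) [Group L], Prop) : Prop :=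
  ∀ Q : Subgroup Ω, F.IsFullyNormalized Q → F.IsCentric Q → F.IsRadical p Q →
    ∀ N : FusionSystem (normalizerIn S Q), F.IsNormalizerSystem Q N →
      ∀ (L : Type u) [Group L] (ι : ↥(normalizerIn S Q) →* L), N.IsModel p L ι → Good L

theorem exists_normalizerSystem (hQ : Q ≤ S) :
    ∃ E : FusionSystem (normalizerIn S Q), F.IsNormalizerSystem Q E :=
  ⟨extSystem F hQ ⊤ _ isKNormalizer_top, fun P => extHom_top F Q P⟩

variable [Finite S] [Fact p.Prime]

/-- In a model the centralizer of a normal centric subgroup is its centre. -/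
theorem model_centralizer_le {L : Type*} [Group L] {ι : S →* L} (hS : IsPGroup p S) (hL : F.IsModel p L ι)
    (hQ : F.IsNormal Q) (hQc : F.IsCentric Q) :
    Subgroup.centralizer ((Q.subgroupOf S).map ι : Set L) ≤ (Q.subgroupOf S).map ι := by
  intro l hl
  have := hL.1
  have := model_core_normal (p := p) (G := L)
  obtain ⟨T, hT⟩ := hL.2.2.1
  have hF := saturated_of_realized hL.2.1 T hT
  set P0 := ((pCore p L).comap ι).map S.subtype with hP0
  have hle : P0 ⊔ Q ≤ S := sup_le (Subgroup.map_subtype_le _) hQ.1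
  have hfix : ∀ q (hq : q ∈ Q), l * ι ⟨q, hQ.1 hq⟩ * l⁻¹ = ι ⟨q, hQ.1 hq⟩ := fun q hq => by
    rw [← Subgroup.mem_centralizer_iff.mp hl _ ⟨⟨q, hQ.1 hq⟩, hq, rfl⟩, mul_inv_cancel_right]
  have hmem : ∀ x : ↥(P0 ⊔ Q), l * ι ⟨x, hle x.2⟩ * l⁻¹ ∈ ι.range := by
    intro x
    have h : P0 ⊔ Q ≤ ((ι.range.comap (MulAut.conj l).toMonoidHom).comap ι).map S.subtype :=
      sup_le (fun a ⟨b, hb, hba⟩ => ⟨b, model_core_le hL (Subgroup.Normal.conj_mem inferInstance (ι b) hb l), hba⟩)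
        (fun a ha => ⟨⟨a, hQ.1 ha⟩, ⟨_, (hfix a ha).symm⟩, rfl⟩)
    obtain ⟨b, hb, hba⟩ := h x.2
    rw [show (⟨(x : Ω), hle x.2⟩ : S) = b from Subtype.ext hba.symm]
    exact hb
  obtain ⟨φ, hφ, hφe⟩ := realized_exists_map hL.2.1 hle l hmem
  obtain ⟨z, hz, -, hze⟩ := exists_inner_of_agree hS hF (le_sup_right : Q ≤ P0 ⊔ Q) hQc (subtype_mem hle) hφ
    fun x hx => by
      have h := hφe x (apply_mem_S hφ x)
      rw [hfix x hx] at h
      exact (congrArg Subtype.val (hL.2.1.1 h)).symm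
  have hc : (ι ⟨z, hle z.2⟩)⁻¹ * l ∈ pCore p L := hL.2.2.2 fun n hn => by
    obtain ⟨b, rfl⟩ := model_core_le hL hn
    have hb : (b : Ω) ∈ P0 ⊔ Q := Subgroup.mem_sup_left ⟨b, hn, rfl⟩
    have h := hφe ⟨b, hb⟩ (apply_mem_S hφ _)
    have e : (⟨φ ⟨b, hb⟩, apply_mem_S hφ _⟩ : S) = ⟨z, hle z.2⟩ * b * (⟨z, hle z.2⟩ : S)⁻¹ :=
      Subtype.ext (hze ⟨b, hb⟩)
    rw [e, map_mul, map_mul, map_inv] at h
    calc ι b * ((ι ⟨z, hle z.2⟩)⁻¹ * l) = (ι ⟨z, hle z.2⟩)⁻¹ * (ι ⟨z, hle z.2⟩ * ι b * (ι ⟨z, hle z.2⟩)⁻¹) * l := by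
          group
      _ = (ι ⟨z, hle z.2⟩)⁻¹ * l * ι b := by
          rw [h, show (⟨(b : Ω), hle hb⟩ : S) = b from rfl]; group
  obtain ⟨s, hs⟩ := model_core_le hL hc
  have hl' : l = ι (⟨z, hle z.2⟩ * s) := by rw [map_mul, hs, mul_inv_cancel_left]
  refine ⟨⟨z, hle z.2⟩ * s, IsCentric.centralizerIn_le' hQc (mem_centralizerIn.mpr ⟨Subtype.property (⟨(z : Ω), hle z.2⟩ * s), fun q hq => ?_⟩),
    hl'.symm⟩
  have h := Subgroup.mem_centralizer_iff.mp hl _ ⟨⟨q, hQ.1 hq⟩, hq, rfl⟩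
  rw [hl', ← map_mul, ← map_mul] at h
  exact congrArg Subtype.val (hL.2.1.1 h)

/-- The action of a model on a normal subgroup. -/
theorem exists_model_action {L : Type*} [Group L] {ι : S →* L} (hL : F.IsModel p L ι) (hQ : F.IsNormal Q) :
    ∃ f : L →* F.autGroup Q, ∀ (l : L) (q : Q),
      ι ⟨(((f l : F.autGroup Q) : MulAut Q) q : Q), hQ.1 (Subtype.prop _)⟩ = l * ι ⟨q, hQ.1 q.2⟩ * l⁻¹ := by
  have hn := normal_image_of_isNormal hL hQ
  have := finite_of_le hQ.1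
  have h : ∀ l : L, ∃ α ∈ F.autGroup Q, ∀ q : Q,
      ι ⟨((α q : Q) : Ω), hQ.1 (α q).2⟩ = l * ι ⟨q, hQ.1 q.2⟩ * l⁻¹ := by
    intro l
    have hm : ∀ q : Q, l * ι ⟨q, hQ.1 q.2⟩ * l⁻¹ ∈ (Q.subgroupOf S).map ι := fun q =>
      hn.conj_mem _ ⟨_, q.2, rfl⟩ l
    obtain ⟨φ, hφ, hφe⟩ := realized_exists_map hL.2.1 hQ.1 l fun q => Subgroup.map_le_range _ _ (hm q)
    obtain ⟨α, hα, hαe⟩ := exists_aut hφ (range_eq_of_card_le hφ hQ.1 (fun q => by
      obtain ⟨b, hb, hbe⟩ := hm q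
      rw [← hφe q (apply_mem_S hφ q)] at hbe
      have := hL.2.1.1 hbe
      rw [show φ q = (b : Ω) from (congrArg Subtype.val this).symm]
      exact hb) le_rfl)
    exact ⟨α, hα, fun q => (congrArg ι (Subtype.ext (hαe q))).trans (hφe q (apply_mem_S hφ q))⟩
  choose α hα hαe using h
  refine ⟨MonoidHom.mk' (fun l => ⟨α l, hα l⟩) fun l m => Subtype.ext (MulEquiv.ext fun q => ?_), hαe⟩
  refine Subtype.ext (congrArg (Subtype.val : S → Ω) (a₁ := ⟨_, hQ.1 (Subtype.prop _)⟩)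
    (a₂ := ⟨_, hQ.1 (Subtype.prop _)⟩) (hL.2.1.1 ?_))
  show ι ⟨((α (l * m) q : Q) : Ω), _⟩ = ι ⟨((α l (α m q) : Q) : Ω), _⟩
  rw [hαe, hαe, hαe]
  group

/-- A model of a saturated subsystem with a normal subgroup `R` centric in `F` embeds in a model of the
normalizer system of a fully normalized conjugate of `R`. -/
theorem exists_model_embedding (hS : IsPGroup p S) (hF : F.IsSaturated p) {M : Subgroup Ω} (hMS : M ≤ S)
    {G : FusionSystem M} (hG : G.IsSaturated p) (hsub : ∀ P φ, φ ∈ G.Hom P → φ ∈ F.Hom P)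
    (hR : G.IsNormal R) (hRc : F.IsCentric R) {R' : Subgroup Ω} (hR' : F.IsConj R R')
    (hR'n : F.IsFullyNormalized R') {E : FusionSystem (normalizerIn S R')} (hE : F.IsNormalizerSystem R' E)
    {L : Type*} [Group L] {ι : normalizerIn S R' →* L} (hL : E.IsModel p L ι)
    {L₀ : Type*} [Group L₀] {ι₀ : M →* L₀} (hL₀ : G.IsModel p L₀ ι₀) :
    ∃ τ : L₀ →* L, Function.Injective τ := by
  have := finite_of_le hMS
  have hMp : IsPGroup p M := hS.to_le hMS
  have hRM := hR.1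
  have := finite_of_le hR'n.1
  have : Finite (normalizerIn S R') := finite_of_le normalizerIn_le
  have := hL.1
  have hR'c : F.IsCentric R' := ⟨hR'n.1, fun P hP => hRc.2 P (isConj_trans hR' hP)⟩
  obtain ⟨hR'N, hR'Nc⟩ := normal_centric_in_normalizerSystem hR'n.1 hR'c hE
  have hMN : M ≤ normalizerIn S R := le_inf hMS (StronglyClosed.le_normalizer (IsNormal.stronglyClosed hR))
  obtain ⟨ha, hr⟩ := fullyNormalized_good hS hF hR'n
  obtain ⟨θ, hθ, hθT, hθR⟩ := exists_normalizer_hom hS ha hr hR'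
  obtain ⟨θR, hθR', hθRr, hθRe⟩ := exists_restrict hθ (le_normalizerIn hRc.1) hθR
  obtain ⟨e, he⟩ := exists_equiv hθR' hθRr
  let θM : M →* normalizerIn S R' := (θ.comp (Subgroup.inclusion hMN)).codRestrict _ fun a => hθT _
  let j : M →* L := ι.comp θM
  have hθMi : Function.Injective θM := fun a b h =>
    Subgroup.inclusion_injective hMN (F.injective_of_mem hθ (congrArg Subtype.val h))
  have hj : Function.Injective j := hL.2.1.1.comp hθMi
  have hje : ∀ (r : R) (h : (e r : Ω) ∈ normalizerIn S R'),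
      ι ⟨(e r : Ω), h⟩ = j ⟨r, hRM r.2⟩ := fun r h => congrArg ι (Subtype.ext ((he r).trans (hθRe r)))
  obtain ⟨f, hf⟩ := exists_model_action hL hR'N
  have hAut := autGroup_normalizerSystem hR'n.1 hE
  let A : Subgroup (MulAut R') := (G.autGroup R).map (MulAut.congr e).toMonoidHom
  let H : Subgroup L := A.comap ((E.autGroup R').subtype.comp f)
  have hfu : ∀ (l : L) (β : MulAut R), (∀ r : R, j ⟨(β r : R), hRM (β r).2⟩ = l * j ⟨r, hRM r.2⟩ * l⁻¹) →
      ((f l : E.autGroup R') : MulAut R') = MulAut.congr e β := by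
    intro l β h
    refine MulEquiv.ext fun q => ?_
    obtain ⟨r, rfl⟩ := e.surjective q
    refine Subtype.ext (congrArg (Subtype.val : normalizerIn S R' → Ω) (a₁ := ⟨_, hR'N.1 (Subtype.prop _)⟩)
      (a₂ := ⟨_, hR'N.1 (Subtype.prop _)⟩) (hL.2.1.1 ?_))
    rw [hf, hje r, ← h r]
    refine (hje (β r) (hR'N.1 (Subtype.prop _))).symm.trans (congrArg ι (Subtype.ext ?_))
    simp [MulAut.congr]
  have hjH : ∀ a : M, j a ∈ H := by
    intro a
    obtain ⟨β, hβ, hβe⟩ := exists_autInducedBy (K := M) (P := R) a.2 (hMN a.2).2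
    refine ⟨β, autInducedBy_le_autGroup hRM hβ, (hfu _ β fun r => ?_).symm⟩
    rw [← map_inv, ← map_mul, ← map_mul]
    exact congrArg j (Subtype.ext (hβe r))
  let jH : M →* H := j.codRestrict H hjH
  -- maps of `G` on subgroups containing `R` are conjugations by elements of `H`
  have hfwd : ∀ (P : Subgroup Ω) (hP : P ≤ M), R ≤ P → ∀ (ψ : P →* Ω) (hψ : ψ ∈ G.Hom P),
      (∀ r : P, (r : Ω) ∈ R → ψ r ∈ R) →
      ∃ h : H, ∀ x : P, jH ⟨ψ x, apply_mem_S hψ x⟩ = h * jH ⟨x, hP x.2⟩ * h⁻¹ := by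
    intro P hP hRP ψ hψ hψR
    obtain ⟨P', hP'⟩ : ∃ P', P' = ((P.subgroupOf M).map θM).map (normalizerIn S R').subtype := ⟨_, rfl⟩
    have hmem : ∀ x : P, θ ⟨x, hMN (hP x.2)⟩ ∈ P' := fun x => hP' ▸ ⟨θM ⟨x, hP x.2⟩, ⟨_, x.2, rfl⟩, rfl⟩
    have hP'T : P' ≤ normalizerIn S R' := hP' ▸ Subgroup.map_subtype_le _
    have hR'P : R' ≤ P' := fun q hq => by
      obtain ⟨r, hr⟩ := e.surjective ⟨q, hq⟩
      have h := hmem ⟨r, hRP r.2⟩
      have h2 : ((e r : R') : Ω) = q := congrArg Subtype.val hr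
      rw [he, hθRe] at h2
      rw [← h2]
      exact h
    obtain ⟨θP, hθP, hθPe⟩ : ∃ θP ∈ F.Hom P, ∀ x : P, θP x = θ ⟨x, hMN (hP x.2)⟩ :=
      ⟨_, restrict_mem (hP.trans hMN) hθ, fun _ => rfl⟩
    have hθPr : θP.range = P' := by
      rw [hP']
      ext y
      constructor
      · rintro ⟨x, rfl⟩; exact ⟨θM ⟨x, hP x.2⟩, ⟨_, x.2, rfl⟩, (hθPe x).symm⟩
      · rintro ⟨_, ⟨a, ha, rfl⟩, rfl⟩; exact ⟨⟨a, ha⟩, hθPe _⟩
    obtain ⟨θ', hθ', hθ'r, hθ'1, -⟩ := exists_inv hθP hθPr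
    obtain ⟨χ₁, hχ₁, hχ₁e⟩ := exists_comp hθ' (hsub _ _ hψ) fun y => hθ'r.le ⟨y, rfl⟩
    obtain ⟨χ, hχ, hχe⟩ := exists_comp hχ₁ hθ (fun y => by rw [hχ₁e]; exact hMN (apply_mem_S hψ _))
    have hχθ : ∀ (x : P) (h : θP x ∈ P'), χ ⟨θP x, h⟩ = θ ⟨ψ x, hMN (apply_mem_S hψ x)⟩ := fun x h => by
      rw [hχe]
      refine apply_eq_of_coe_eq ?_
      show χ₁ _ = ψ x
      rw [hχ₁e]
      exact apply_eq_of_coe_eq (hθ'1 x h)
    have hχT : ∀ y : P', χ y ∈ normalizerIn S R' := fun y => by rw [hχe]; exact hθT _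
    have hχR : ∀ y : P', (y : Ω) ∈ R' → χ y ∈ R' := fun y hy => by
      obtain ⟨r, hr⟩ := e.surjective ⟨y, hy⟩
      have hy' : y = ⟨θP ⟨r, hRP r.2⟩, hθPr.le ⟨_, rfl⟩⟩ := Subtype.ext (by
        refine Eq.trans ?_ (hθPe _).symm
        rw [← (congrArg Subtype.val hr : ((e r : R') : Ω) = y), he, hθRe])
      rw [hy', hχθ]
      have hm := hψR ⟨r, hRP r.2⟩ r.2
      have h2 := (e ⟨_, hm⟩).2
      rwa [he, hθRe] at h2
    have hχE : χ ∈ E.Hom P' := by
      rw [hE]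
      obtain ⟨κ, -, hκ⟩ := exists_aut (restrict_mem hR'P hχ) (range_eq_of_card_le (restrict_mem hR'P hχ) hR'n.1
        (fun q => hχR _ q.2) le_rfl)
      exact ⟨hχ, hP'T, hχT, _, restrict_mem (sup_le le_rfl hR'P) hχ, fun _ => rfl,
        (map_eq_iff_exists_aut (restrict_mem (sup_le le_rfl hR'P) hχ)).mpr ⟨κ, fun q => (hκ q).symm⟩⟩
    obtain ⟨l, hl⟩ := realized_conj hL.2.1 hχE
    have key : ∀ x : P, j ⟨ψ x, apply_mem_S hψ x⟩ = l * j ⟨x, hP x.2⟩ * l⁻¹ := by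
      intro x
      have h := hl ⟨θP x, hθPr.le ⟨x, rfl⟩⟩
      refine Eq.trans (congrArg ι (Subtype.ext ?_)) (h.trans ?_)
      · exact (hχθ x _).symm
      · exact congrArg (fun s => l * ι s * l⁻¹) (Subtype.ext (hθPe x))
    obtain ⟨β, hβ, hβe⟩ := exists_aut (restrict_mem hRP hψ) (range_eq_of_card_le (restrict_mem hRP hψ) hRM
      (fun r => hψR _ r.2) le_rfl)
    have hlH : l ∈ H := ⟨β, hβ, (hfu l β fun r => (congrArg j (Subtype.ext (hβe r))).trans (key ⟨r, hRP r.2⟩)).symm⟩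
    exact ⟨⟨l, hlH⟩, fun x => Subtype.ext (key x)⟩
  have hcent : ∀ h : H, (∀ r : R, (h : L) * j ⟨r, hRM r.2⟩ * (h : L)⁻¹ = j ⟨r, hRM r.2⟩) →
      ∃ r : R, jH ⟨r, hRM r.2⟩ = h := by
    intro h hh
    obtain ⟨⟨q, hqT⟩, hq, hqe⟩ := model_centralizer_le (hS.to_le normalizerIn_le) hL hR'N hR'Nc
      (show (h : L) ∈ Subgroup.centralizer ((R'.subgroupOf (normalizerIn S R')).map ι : Set L) from by
        rintro _ ⟨⟨q, hqT⟩, hq, rfl⟩
        obtain ⟨r, hr⟩ := e.surjective ⟨q, hq⟩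
        have hq' : (⟨q, hqT⟩ : normalizerIn S R') = ⟨(e r : Ω), hR'N.1 (e r).2⟩ := Subtype.ext (by rw [hr])
        rw [hq', hje]
        exact (mul_inv_eq_iff_eq_mul.mp (hh r)).symm)
    obtain ⟨r, hr⟩ := e.surjective ⟨q, hq⟩
    refine ⟨r, Subtype.ext ?_⟩
    show j _ = (h : L)
    rw [← hqe, ← hje r (hR'N.1 (e r).2)]
    exact congrArg ι (Subtype.ext (by rw [hr]))
  have hfullyR : G.IsFullyNormalized R := ⟨hRM, fun P _ => by
    rw [show normalizerIn M R = M from le_antisymm normalizerIn_le fun a ha => ⟨ha, (hMN ha).2⟩]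
    exact Subgroup.card_le_of_le normalizerIn_le⟩
  obtain ⟨hGa, hGr⟩ := fullyNormalized_good hMp hG hfullyR
  let g : H →* MulAut R := (MulAut.congr e).symm.toMonoidHom.comp (((E.autGroup R').subtype.comp f).comp H.subtype)
  have hgmem : ∀ h : H, g h ∈ G.autGroup R := fun h => by
    obtain ⟨β, hβ, hβe⟩ := h.2
    have e1 : g h = β := by
      show (MulAut.congr e).symm (((E.autGroup R').subtype.comp f) (H.subtype h)) = β
      rw [show ((E.autGroup R').subtype.comp f) (H.subtype h) = MulAut.congr e β from hβe.symm]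
      exact (MulAut.congr e).symm_apply_apply β
    rwa [e1]
  have hge : ∀ (h : H) (r : R), j ⟨(g h r : R), hRM (g h r).2⟩ = h * j ⟨r, hRM r.2⟩ * (h : L)⁻¹ := by
    intro h r
    have h1 := hf h (e r)
    rw [hje r] at h1
    rw [← h1, ← hje (g h r) (hR'N.1 (e (g h r)).2)]
    refine congrArg ι (Subtype.ext ?_)
    show ((e (g h r) : R') : Ω) = _
    simp [g, MulAut.congr]
  have hgu : ∀ (h : H) (β : MulAut R), (∀ r : R, j ⟨(β r : R), hRM (β r).2⟩ = h * j ⟨r, hRM r.2⟩ * (h : L)⁻¹) →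
      g h = β := fun h β hh => MulEquiv.ext fun r =>
    Subtype.ext (congrArg (Subtype.val : M → Ω) (hj ((hge h r).trans (hh r).symm)))
  let g' : H →* G.autGroup R := g.codRestrict _ hgmem
  have hg's : Function.Surjective g' := by
    rintro ⟨β, hβ⟩
    obtain ⟨h, hh⟩ := hfwd R hRM le_rfl _ ((mem_autGroup hRM).mp hβ) fun r _ => Subtype.prop _
    exact ⟨h, Subtype.ext (hgu h β fun r => congrArg Subtype.val (hh r))⟩
  have hg'k : g'.ker ≤ jH.range := fun h hh => by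
    obtain ⟨r, hr⟩ := hcent h fun r => by
      rw [← hge h r, show g h = 1 from congrArg Subtype.val hh]; rfl
    exact ⟨_, hr⟩
  have hg'j : jH.range.map g' = (autInducedBy M R).subgroupOf (G.autGroup R) := by
    have key : ∀ (a : M) (β : MulAut R), (∀ r : R, ((β r : R) : Ω) = a * (r : Ω) * (a : Ω)⁻¹) → g (jH a) = β :=
      fun a β hβ => hgu _ β fun r => by
        show j _ = j a * j _ * (j a)⁻¹
        rw [← map_inv, ← map_mul, ← map_mul]
        exact congrArg j (Subtype.ext (hβ r))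
    ext β
    constructor
    · rintro ⟨_, ⟨a, rfl⟩, rfl⟩
      obtain ⟨γ, hγ, hγe⟩ := exists_autInducedBy (K := M) (P := R) a.2 (hMN a.2).2
      show g (jH a) ∈ autInducedBy M R
      rw [key a γ hγe]; exact hγ
    · intro hβ
      obtain ⟨a, ha, hae⟩ := mem_autInducedBy.mp (Subgroup.mem_subgroupOf.mp hβ)
      exact ⟨_, ⟨⟨a, ha⟩, rfl⟩, Subtype.ext (key ⟨a, ha⟩ _ hae)⟩
  have hindex : ¬ p ∣ jH.range.index := by
    obtain ⟨-, T, hT⟩ := hGa
    have := finite_mulAut (S := M) hRM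
    rw [← Subgroup.index_map_eq jH.range hg's hg'k, hg'j, ← hT]
    exact T.not_dvd_index
  have hrp : IsPGroup p jH.range := hMp.of_surjective jH.rangeRestrict jH.rangeRestrict_surjective
  have hjHi : Function.Injective jH := fun a b h => hj (congrArg Subtype.val h)
  have hH : G.IsModel p H jH := by
    refine ⟨inferInstance, ⟨hjHi, fun P hP φ hφS => ⟨fun hφ => ?_, ?_⟩⟩,
      ⟨hrp.toSylow hindex, IsPGroup.toSylow_coe _ _⟩, ?_⟩
    · obtain ⟨ψ, hψ, hψe, hψQ⟩ := IsNormal.exists_ext hR hφ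
      obtain ⟨h, hh⟩ := hfwd _ (sup_le hP hRM) le_sup_right ψ hψ fun r hr => hψQ r hr
      refine ⟨h, fun x => ?_⟩
      rw [← hh ⟨x, Subgroup.mem_sup_left x.2⟩]
      exact congrArg jH (Subtype.ext (hψe x).symm)
    · rintro ⟨h, hh⟩
      have hPN : P ⊔ R ≤ extender M R (R.subtype.comp (g h).toMonoidHom) := by
        refine sup_le (fun v hv => mem_extender.mpr ⟨hP hv, (hMN (hP hv)).2, φ ⟨v, hv⟩, hφS _, fun r hr => ?_⟩)
          (le_extender hRM (apply_mem_S ((mem_autGroup hRM).mp (hgmem h))))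
        rw [autMap_apply, autMap_apply]
        refine congrArg (Subtype.val : M → Ω) (a₁ := ⟨_, hRM (Subtype.prop _)⟩)
          (a₂ := ⟨φ ⟨v, hv⟩, hφS _⟩ * ⟨_, hRM (g h r).2⟩ * (⟨φ ⟨v, hv⟩, hφS _⟩ : M)⁻¹) (hj ?_)
        rw [hge, map_mul, map_mul, map_inv, hge,
          show (⟨v * r * v⁻¹, hRM hr⟩ : M) = ⟨v, hP hv⟩ * ⟨r, hRM r.2⟩ * (⟨v, hP hv⟩ : M)⁻¹ from rfl,
          map_mul, map_mul, map_inv,
          show j ⟨φ ⟨v, hv⟩, hφS _⟩ = (h : L) * j ⟨v, hP hv⟩ * (h : L)⁻¹ from congrArg Subtype.val (hh ⟨v, hv⟩)]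
        group
      obtain ⟨ψ, hψ, hψe⟩ := exists_extension hGr ((mem_autGroup hRM).mp (hgmem h)) (autMap_range _)
        (le_sup_right : R ≤ P ⊔ R) hPN
      obtain ⟨l, hl⟩ := hfwd _ (sup_le hP hRM) le_sup_right ψ hψ fun r hr => by
        rw [show r = ⟨((⟨r, hr⟩ : R) : Ω), r.2⟩ from rfl, hψe ⟨r, hr⟩]; exact Subtype.prop _
      obtain ⟨z, hz⟩ := hcent (l⁻¹ * h) fun r => by
        have h1 : j ⟨((g h r : R) : Ω), hRM (g h r).2⟩ = (l : L) * j ⟨r, hRM r.2⟩ * (l : L)⁻¹ := by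
          refine Eq.trans (congrArg j (Subtype.ext ?_)) (congrArg Subtype.val (hl ⟨r, Subgroup.mem_sup_right r.2⟩))
          exact (hψe r).symm
        rw [hge] at h1
        calc ((l⁻¹ * h : H) : L) * j ⟨r, hRM r.2⟩ * ((l⁻¹ * h : H) : L)⁻¹
            = (l : L)⁻¹ * ((h : L) * j ⟨r, hRM r.2⟩ * (h : L)⁻¹) * l := by
              rw [Subgroup.coe_mul, Subgroup.coe_inv]; group
          _ = j ⟨r, hRM r.2⟩ := by rw [h1]; group
      have hzP : ∀ x : P, (z : Ω) * x * (z : Ω)⁻¹ ∈ P ⊔ R := fun x =>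
        Subgroup.mul_mem _ (Subgroup.mul_mem _ (Subgroup.mem_sup_right z.2) (Subgroup.mem_sup_left x.2))
          (Subgroup.inv_mem _ (Subgroup.mem_sup_right z.2))
      obtain ⟨χ, hχ, hχe⟩ := exists_comp (G.conj_mem hP (hRM z.2)) hψ hzP
      suffices h' : φ = χ by rwa [h']
      refine MonoidHom.ext fun x => ?_
      rw [hχe]
      refine congrArg (Subtype.val : M → Ω) (a₁ := ⟨φ x, hφS x⟩) (a₂ := ⟨_, apply_mem_S hψ _⟩) (hjHi ?_)
      refine (hh x).trans (Eq.trans ?_ (hl ⟨_, hzP x⟩).symm)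
      show h * jH ⟨x, hP x.2⟩ * h⁻¹ = l * jH (⟨z, hRM z.2⟩ * ⟨x, hP x.2⟩ * (⟨z, hRM z.2⟩ : M)⁻¹) * l⁻¹
      rw [map_mul, map_mul, map_inv, hz]
      group
    · let RH : Subgroup H := (R.subgroupOf M).map jH
      have hRn : RH.Normal := ⟨fun w hw h => by
        obtain ⟨⟨r, hrM⟩, hr, rfl⟩ := hw
        refine ⟨⟨(g h ⟨r, hr⟩ : R), hRM (g h ⟨r, hr⟩).2⟩, (g h ⟨r, hr⟩).2, Subtype.ext ?_⟩
        exact hge h ⟨r, hr⟩⟩
      have hRle : RH ≤ pCore p H := le_sSup ⟨hRn, (hMp.to_subgroup _).map jH⟩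
      refine le_trans ?_ hRle
      intro h hh
      obtain ⟨r, hr⟩ := hcent h fun r => by
        have h1 := congrArg Subtype.val (Subgroup.mem_centralizer_iff.mp hh _ (hRle ⟨⟨r, hRM r.2⟩, r.2, rfl⟩))
        exact (mul_inv_eq_iff_eq_mul.mpr h1.symm)
      exact ⟨_, r.2, hr⟩
  obtain ⟨τ, -⟩ := model_unique hL₀ hH
  exact ⟨H.subtype.comp τ.toMonoidHom, H.subtype_injective.comp τ.injective⟩

variable {Good : ∀ (L : Type u) [Group L], Prop}

/-- Good models at centric subgroups of `F` give good models of subsystems. -/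
theorem good_of_local (hGood : SectionClosed Good) (hS : IsPGroup p S) (hF : F.IsSaturated p)
    (hfree : CentricFree F p Good) {M : Subgroup Ω} (hMS : M ≤ S) {G : FusionSystem M} (hG : G.IsSaturated p)
    (hsub : ∀ P φ, φ ∈ G.Hom P → φ ∈ F.Hom P) (hR : G.IsNormal R) (hRc : F.IsCentric R)
    {L₀ : Type u} [Group L₀] {ι₀ : M →* L₀} (hL₀ : G.IsModel p L₀ ι₀) : Good L₀ := by
  obtain ⟨R', hR', hR'n⟩ := exists_fullyNormalized (F := F) hRc.1
  have hR'c : F.IsCentric R' := ⟨hR'n.1, fun P hP => hRc.2 P (isConj_trans hR' hP)⟩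
  obtain ⟨E, hE⟩ := exists_normalizerSystem (F := F) hR'n.1
  obtain ⟨L, _, ι, hL⟩ := exists_model_normalizer hS hF hR'n hR'c hE
  obtain ⟨τ, hτ⟩ := exists_model_embedding hS hF hMS hG hsub hR hRc hR' hR'n hE hL hL₀
  exact hGood.sub τ hτ (hfree R' hR'n hR'c E hE L ι hL)

end CfsgLib.Fusion
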