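import Cfsg.Agent.Lib.Fusion.FunctorInner
import Cfsg.Agent.Lib.PLocal.Thompson
import Cfsg.Agent.Lib.Frobenius.ZJComplement
import Cfsg.Agent.S2800

/-!
# Thompson's and Glauberman–Thompson's normal `p`-complement theorems for fusion systems
-/

namespace CfsgLib.Fusion

open Cfsg Cfsg.FusionSystem

universe u

section Functors

variable {G : Type u} [Group G] {p : ℕ}

/-- The centre. -/
abbrev centerW (Q : Type u) [Group Q] : Subgroup Q := Subgroup.center Q

/-- The Thompson subgroup generated by abelian subgroups of largest order. -/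
abbrev thompsonW (Q : Type u) [Group Q] : Subgroup Q := thompsonSubgroupA Q

/-- The centre of the Thompson subgroup. -/
abbrev zjW (Q : Type u) [Group Q] : Subgroup Q := PLocal.centerJ 0 (⊤ : Subgroup Q)

theorem charSub_centerW (P : Subgroup G) : charSub centerW P = P ⊓ Subgroup.centralizer (P : Set G) := by
  ext x
  constructor
  · rintro ⟨z, hz, rfl⟩
    exact ⟨z.2, fun a ha => congrArg Subtype.val (Subgroup.mem_center_iff.mp hz ⟨a, ha⟩)⟩
  · rintro ⟨hx, hxc⟩
    exact ⟨⟨x, hx⟩, Subgroup.mem_center_iff.mpr fun a => Subtype.ext (hxc a a.2), rfl⟩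

theorem charSub_thompsonW (P : Subgroup G) : charSub thompsonW P = thompsonSubgroupAOf P := rfl

theorem charSub_zjW (P : Subgroup G) : charSub zjW P = centerThompsonAOf P := by
  rw [PLocal.centerThompsonAOf_eq, charSub, ← PLocal.centerJ_map P.subtype_injective, PLocal.map_subtype_top]

theorem centerW_equiv (Q R : Type u) [Group Q] [Group R] (φ : Q ≃* R) :
    (centerW Q).map φ.toMonoidHom = centerW R := by
  ext x
  constructor
  · rintro ⟨z, hz, rfl⟩
    refine Subgroup.mem_center_iff.mpr fun y => ?_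
    obtain ⟨a, rfl⟩ := φ.surjective y
    exact (map_mul φ a z).symm.trans ((congrArg φ (Subgroup.mem_center_iff.mp hz a)).trans (map_mul φ z a))
  · intro hx
    refine ⟨φ.symm x, Subgroup.mem_center_iff.mpr fun a => φ.injective ?_, φ.apply_symm_apply x⟩
    rw [map_mul, map_mul, φ.apply_symm_apply]
    exact Subgroup.mem_center_iff.mp hx (φ a)

theorem thompsonW_equiv (Q R : Type u) [Group Q] [Group R] (φ : Q ≃* R) :
    (thompsonW Q).map φ.toMonoidHom = thompsonW R := by
  rw [thompsonW, thompsonW, PLocal.thompsonSubgroupA_eq, PLocal.thompsonSubgroupA_eq,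
    ← PLocal.thompson_map (f := φ.toMonoidHom) φ.injective, Subgroup.map_top_of_surjective _ φ.surjective]

theorem zjW_equiv (Q R : Type u) [Group Q] [Group R] (φ : Q ≃* R) : (zjW Q).map φ.toMonoidHom = zjW R := by
  rw [zjW, zjW, ← PLocal.centerJ_map (f := φ.toMonoidHom) φ.injective,
    Subgroup.map_top_of_surjective _ φ.surjective]

/-- An abelian subgroup of largest order contains the centre. -/
theorem center_le_of_mem_maxAbelian {Q : Type u} [Group Q] [Finite Q] {A : Subgroup Q}
    (hA : A ∈ maxAbelianSubgroups Q) : Subgroup.center Q ≤ A := by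
  have hc : IsMulCommutative A := hA.1
  have hAZ : A ⊔ Subgroup.center Q ≤ Subgroup.centralizer ((A ⊔ Subgroup.center Q : Subgroup Q) : Set Q) := by
    have h1 : A ⊔ Subgroup.center Q ≤ Subgroup.centralizer (A : Set Q) :=
      sup_le (fun a ha b hb => setLike_mul_comm (S := Subgroup Q) hb ha) (Subgroup.center_le_centralizer _)
    exact sup_le (Subgroup.le_centralizer_iff.mp h1) (Subgroup.center_le_centralizer _)
  have hcomm : IsMulCommutative ↥(A ⊔ Subgroup.center Q) :=
    ⟨⟨fun x y => Subtype.ext (Subgroup.mem_centralizer_iff.mp (hAZ y.2) x x.2)⟩⟩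
  have he := Subgroup.eq_of_le_of_card_ge le_sup_left (hA.2 _ hcomm)
  rw [he]
  exact le_sup_right

theorem exists_maxAbelian (Q : Type u) [Group Q] [Finite Q] : ∃ A, A ∈ maxAbelianSubgroups Q := by
  have hne : {A : Subgroup Q | IsMulCommutative A}.Nonempty :=
    ⟨⊥, ⟨⟨fun x y => Subsingleton.elim _ _⟩⟩⟩
  obtain ⟨A, hA, hmax⟩ := Set.exists_max_image _ (fun A : Subgroup Q => Nat.card A) (Set.toFinite _) hne
  exact ⟨A, hA, fun B hB => hmax B hB⟩

theorem center_le_thompsonW (Q : Type u) [Group Q] [Finite Q] : Subgroup.center Q ≤ thompsonW Q := by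
  obtain ⟨A, hA⟩ := exists_maxAbelian Q
  exact (center_le_of_mem_maxAbelian hA).trans (le_sSup hA)

theorem center_le_zjW (Q : Type u) [Group Q] [Finite Q] : Subgroup.center Q ≤ zjW Q := by
  intro z hz
  have h : z ∈ thompsonW Q := center_le_thompsonW Q hz
  rw [thompsonW, PLocal.thompsonSubgroupA_eq] at h
  exact ⟨h, Subgroup.center_le_centralizer _ hz⟩

variable [Fact p.Prime]

theorem centerW_ne_bot (Q : Type u) [Group Q] [Finite Q] (hQ : IsPGroup p Q) (hn : Nontrivial Q) :
    centerW Q ≠ ⊥ := hQ.bot_lt_center.ne'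

theorem thompsonW_ne_bot (Q : Type u) [Group Q] [Finite Q] (hQ : IsPGroup p Q) (hn : Nontrivial Q) :
    thompsonW Q ≠ ⊥ := fun h => centerW_ne_bot Q hQ hn (le_bot_iff.mp ((center_le_thompsonW Q).trans h.le))

theorem zjW_ne_bot (Q : Type u) [Group Q] [Finite Q] (hQ : IsPGroup p Q) (hn : Nontrivial Q) :
    zjW Q ≠ ⊥ := fun h => centerW_ne_bot Q hQ hn (le_bot_iff.mp ((center_le_zjW Q).trans h.le))

theorem npc_of_isPGroup (h : IsPGroup p G) : HasNormalPComplement p G := by
  have htop : IsPGroup p (⊤ : Subgroup G) := h.to_subgroup ⊤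
  refine ⟨⟨⊤, htop, fun {Q} _ hQ => top_le_iff.mp hQ⟩, ⊥, inferInstance, ?_⟩
  exact Subgroup.isComplement'_bot_top

theorem npc_of_le_sylow (T : Sylow p G) {H : Subgroup G} (h : H ≤ (T : Subgroup G)) :
    HasNormalPComplement p H := npc_of_isPGroup (T.isPGroup'.to_le h)

theorem sylow_eq_top_of_npc [Finite G] (T : Sylow p G)
    (hc : Subgroup.centralizer ((pCore p G : Subgroup G) : Set G) ≤ pCore p G)
    (h : HasNormalPComplement p G) : (T : Subgroup G) = ⊤ := by
  obtain ⟨P, N, hN, hNP⟩ := h
  have hcop : (Nat.card N).Coprime p := by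
    rw [← hNP.index_eq_card]
    exact CfsgLib.PCore.coprime_of_not_dvd_card P.not_dvd_index
  have hinf : pCore p G ⊓ N = ⊥ :=
    CfsgLib.PCore.inf_eq_bot_of_isPGroup_coprime CfsgLib.PCore.pCore_isPGroup hcop
  have hn1 : (pCore p G).Normal := model_core_normal
  have hNc : N ≤ pCore p G := le_trans (fun n hn => Subgroup.mem_centralizer_iff.mpr fun x hx =>
    (Subgroup.commute_of_normal_of_disjoint _ _ hn1 hN (disjoint_iff.mpr hinf) x n hx hn).eq) hc
  have hN1 : N = ⊥ := by
    rw [← hinf, inf_eq_right.mpr hNc]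
  subst hN1
  have hPtop : (P : Subgroup G) = ⊤ := Subgroup.isComplement'_bot_left.mp hNP
  have hp : IsPGroup p (⊤ : Subgroup G) := hPtop ▸ P.isPGroup'
  exact (T.is_maximal' hp le_top).symm

end Functors

variable {Ω : Type u} [Group Ω] {S : Subgroup Ω} {F : FusionSystem S} {p : ℕ} [Finite S] [Fact p.Prime]

/-- Good models for Thompson's theorem: `p` odd or free of the symmetric group of degree four. -/
def ThompsonGood (p : ℕ) (L : Type u) [Group L] : Prop :=
  p ≠ 2 ∨ ¬ Involves (Equiv.Perm (Fin 4)) L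

theorem sectionClosed_thompsonGood (p : ℕ) : SectionClosed.{u} (fun L _ => ThompsonGood p L) where
  sub f hf h := h.imp_right fun h => (sectionClosed_not_involves (H := Equiv.Perm (Fin 4))).sub f hf h
  quot f hf h := h.imp_right fun h => (sectionClosed_not_involves (H := Equiv.Perm (Fin 4))).quot f hf h

/-- Thompson's theorem for fusion systems. -/
theorem le_inner_thompson (hS : IsPGroup p S) (hF : F.IsSaturated p)
    (hfree : CentricFree F p (fun L _ => ThompsonGood p L))
    (hC : ∀ P φ, φ ∈ F.centralizerHom (S ⊓ Subgroup.centralizer (S : Set Ω)) P → φ ∈ (innerFusionSystem S).Hom P)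
    (hN : ∀ P φ, φ ∈ F.normalizerHom (thompsonSubgroupAOf S) P → φ ∈ (innerFusionSystem S).Hom P) :
    F ≤ innerFusionSystem S := by
  refine le_inner_of_functor (sectionClosed_thompsonGood p)
    (fun b : Bool => match b with | true => thompsonW | false => centerW) id ?_ ?_ ?_ ?_ hS hF hfree ?_
  · intro b; cases b
    · exact fun Q _ _ => centerW_ne_bot Q
    · exact fun Q _ _ => thompsonW_ne_bot Q
  · intro b; cases b
    · exact fun Q R _ _ _ _ => centerW_equiv Q R
    · exact fun Q R _ _ _ _ => thompsonW_equiv Q R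
  · intro b hb Q _
    cases b
    · exact le_rfl
    · simp at hb
  · intro L _ _ T hc hgood h
    refine sylow_eq_top_of_npc T hc (Cfsg.Agent.S2800.result T hgood ?_ ?_)
    · have := h false
      simp only [id_eq, Bool.false_eq_true, if_false, charSub_centerW] at this
      exact npc_of_le_sylow T this
    · exact npc_of_le_sylow T (show Subgroup.normalizer (thompsonSubgroupAOf (T : Subgroup L) : Set L) ≤ _ by
        have := h true
        simpa [charSub_thompsonW] using this)
  · intro b; cases b
    · intro P φ h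
      simp only [id_eq, locHom, Bool.false_eq_true, if_false, charSub_centerW] at h
      exact hC P φ h
    · intro P φ h
      exact hN P φ h

/-- The Glauberman–Thompson criterion for fusion systems. -/
theorem le_inner_zj (hp : p ≠ 2) (hS : IsPGroup p S) (hF : F.IsSaturated p)
    (hN : ∀ P φ, φ ∈ F.normalizerHom (centerThompsonAOf S) P → φ ∈ (innerFusionSystem S).Hom P) :
    F ≤ innerFusionSystem S := by
  refine le_inner_of_functor (Good := fun L _ => True) ⟨fun _ _ _ => trivial, fun _ _ _ => trivial⟩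
    (fun _ : Unit => zjW) (fun _ => true) (fun _ Q _ _ => zjW_ne_bot Q) (fun _ Q R _ _ _ _ => zjW_equiv Q R)
    (fun _ h => by simp at h) ?_ hS hF (fun _ _ _ _ _ _ _ _ _ => trivial) ?_
  · intro L _ _ T hc _ h
    refine sylow_eq_top_of_npc T hc
      (CfsgLib.Frobenius.ZJComp.hasNormalPComplement_of_centerThompsonAOf hp T ?_)
    have := h ()
    simp only [if_true, charSub_zjW] at this
    exact npc_of_le_sylow T this
  · intro i P φ h
    simp only [locHom, if_true, charSub_zjW] at h
    exact hN P φ h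

end CfsgLib.Fusion
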