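import Cfsg.Agent.Lib.Fusion.LocalFree
import Cfsg.Agent.Lib.Fusion.Factor

/-!
# Models of the normalizer systems of a factor system

If `Q` is normal in `F` and `R'` is centric and fully normalized in `F/Q`, the model of `N_{F/Q}(R')` is a
quotient of the model of `N_F(R)`, `R` the preimage of `R'`.
-/

namespace CfsgLib.Fusion

open Cfsg Cfsg.FusionSystem CfsgLib.FusionFactor

universe u v

section Group

variable {G H : Type*} [Group G] [Group H] [Finite G] {p : ℕ} [Fact p.Prime]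

/-- For normal `K`, the index of `H` in `H ⊔ K` is the index of `H ∩ K` in `K`. -/
theorem relIndex_sup_normal (H K : Subgroup G) [K.Normal] : H.relIndex (H ⊔ K) = H.relIndex K := by
  have h1 := Subgroup.relIndex_mul_relIndex (H ⊓ K) H (H ⊔ K) inf_le_left le_sup_left
  have h2 := Subgroup.relIndex_mul_relIndex (H ⊓ K) K (H ⊔ K) inf_le_right le_sup_right
  rw [Subgroup.inf_relIndex_right, Subgroup.relIndex_sup_right] at h2
  rw [Subgroup.inf_relIndex_left] at h1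
  have hne : K.relIndex H ≠ 0 := Subgroup.index_ne_zero_of_finite
  refine mul_left_cancel₀ hne ?_
  rw [h1, ← h2, mul_comm]

/-- A `p`-group moved into `π(B)` can be conjugated into `B` by the kernel of `π`. -/
theorem exists_conj_le_of_map_le (π : G →* H) {A B : Subgroup G} (hA : IsPGroup p A) (hB : IsPGroup p B)
    (h : A.map π ≤ B.map π) (hcop : ¬ p ∣ B.relIndex π.ker) :
    ∃ d ∈ π.ker, ∀ a ∈ A, d * a * d⁻¹ ∈ B := by
  set U := B ⊔ π.ker with hU
  have hAU : A ≤ U := by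
    rw [hU, ← Subgroup.comap_map_eq]
    exact Subgroup.map_le_iff_le_comap.mp h
  have hBU : B ≤ U := le_sup_left
  let PB : Sylow p U := (hB.comap_of_injective U.subtype U.subtype_injective).toSylow (by
    show ¬ p ∣ B.relIndex U
    rw [hU, relIndex_sup_normal]; exact hcop)
  obtain ⟨PA, hPA⟩ := (hA.comap_of_injective U.subtype U.subtype_injective).exists_le_sylow
  obtain ⟨g, hg⟩ := MulAction.exists_smul_eq U PA PB
  obtain ⟨b, hb, d, hd, hbd⟩ := Subgroup.mem_sup_of_normal_right.mp g.2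
  refine ⟨d, hd, fun a ha => ?_⟩
  have hm : g * ⟨a, hAU ha⟩ * g⁻¹ ∈ (PB : Subgroup U) := by
    rw [← hg, Sylow.coe_subgroup_smul]
    exact Subgroup.smul_mem_pointwise_smul (⟨a, hAU ha⟩ : U) (MulAut.conj g) _
      (hPA (show a ∈ A from ha))
  have hm' : (g : G) * a * (g : G)⁻¹ ∈ B := hm
  have := Subgroup.mul_mem _ (Subgroup.mul_mem _ (Subgroup.inv_mem _ hb) hm') hb
  convert this using 1
  rw [← hbd]; group

/-- If `C_T(R) ≤ R`, `R` normal and `T` Sylow, then modulo a normal subgroup of order prime to `p` the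
centralizer of `R` lies in `R`. -/
theorem exists_prime_normal_centralizer (T : Sylow p G) {R : Subgroup G} [R.Normal] (hR : R ≤ T)
    (hc : (T : Subgroup G) ⊓ Subgroup.centralizer (R : Set G) ≤ R) :
    ∃ N : Subgroup G, N.Normal ∧ ¬ p ∣ Nat.card N ∧
      ∀ l : G, (∀ x ∈ R, l * x * l⁻¹ * x⁻¹ ∈ N) → l ∈ R ⊔ N := by
  set C := Subgroup.centralizer (R : Set G) with hC
  have : C.Normal := inferInstance
  let P : Sylow p C := (T.isPGroup'.comap_of_injective C.subtype C.subtype_injective).toSylow (by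
    show ¬ p ∣ (T : Subgroup G).relIndex C
    rw [← relIndex_sup_normal]
    intro hdvd
    refine T.not_dvd_index (hdvd.trans ?_)
    rw [← Subgroup.relIndex_mul_index (le_sup_left : (T : Subgroup G) ≤ (T : Subgroup G) ⊔ C)]
    exact dvd_mul_right _ _)
  have hPR : ∀ z : C, z ∈ (P : Subgroup C) → (z : G) ∈ R := fun z hz => hc ⟨hz, z.2⟩
  have hP : Subgroup.normalizer (P : Set C) ≤ Subgroup.centralizer (P : Set C) :=
    fun c _ z hz => Subtype.ext (Subgroup.mem_centralizer_iff.mp c.2 _ (hPR z hz))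
  set f := MonoidHom.transferSylow P hP
  have hcompl := MonoidHom.ker_transferSylow_isComplement' P hP
  have hcard : Nat.card f.ker = (P : Subgroup C).index := hcompl.index_eq_card.symm
  set N := f.ker.map C.subtype with hN
  have hcardN : ¬ p ∣ Nat.card N := by
    rw [hN, Subgroup.card_map_of_injective C.subtype_injective, hcard]
    exact P.not_dvd_index
  have hNn : N.Normal := by
    refine ⟨?_⟩
    rintro _ ⟨c, hck, rfl⟩ l
    refine ⟨⟨l * (c : G) * l⁻¹, Subgroup.Normal.conj_mem inferInstance (c : G) c.2 l⟩, ?_, rfl⟩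
    set y : C := ⟨l * (c : G) * l⁻¹, Subgroup.Normal.conj_mem inferInstance (c : G) c.2 l⟩
    have ho : orderOf y = orderOf c := by
      rw [← Subgroup.orderOf_coe y, ← Subgroup.orderOf_coe c]
      exact orderOf_injective (MulAut.conj l).toMonoidHom (MulAut.conj l).injective (c : G)
    have hnd : ¬ p ∣ orderOf (f y) := fun hdvd => hcardN (by
      rw [hN, Subgroup.card_map_of_injective C.subtype_injective]
      exact (hdvd.trans ((orderOf_map_dvd f y).trans (ho ▸ dvd_rfl))).trans (f.ker.orderOf_dvd_natCard hck))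
    obtain ⟨n, hn⟩ := IsPGroup.iff_orderOf.mp P.isPGroup' (f y)
    rcases Nat.eq_zero_or_pos n with rfl | hn0
    · exact orderOf_eq_one_iff.mp (by simpa using hn)
    · exact absurd (hn ▸ dvd_pow_self p hn0.ne') hnd
  refine ⟨N, hNn, hcardN, fun l hl => ?_⟩
  have hlC : l ∈ C := Subgroup.mem_centralizer_iff.mpr fun x hx => by
    have h1 : l * x * l⁻¹ * x⁻¹ ∈ R ⊓ N :=
      ⟨Subgroup.mul_mem _ (Subgroup.Normal.conj_mem inferInstance x hx l) (Subgroup.inv_mem _ hx), hl x hx⟩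
    rw [CfsgLib.PCore.inf_eq_bot_of_isPGroup_coprime (T.isPGroup'.to_le hR)
      (CfsgLib.PCore.coprime_of_not_dvd_card hcardN), Subgroup.mem_bot, mul_inv_eq_one,
      mul_inv_eq_iff_eq_mul] at h1
    exact h1.symm
  obtain ⟨⟨⟨a, ha⟩, ⟨b, hb⟩⟩, hab⟩ := hcompl.2 ⟨l, hlC⟩
  have e : (a : G) * (b : G) = l := congrArg Subtype.val hab
  rw [← e]
  exact Subgroup.mul_mem _ (Subgroup.mem_sup_right ⟨a, ha, rfl⟩) (Subgroup.mem_sup_left (hPR b hb))

end Group

section Factor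

variable {Ω : Type u} [Group Ω] {S : Subgroup Ω} [Finite S] {F : FusionSystem S} {p : ℕ} [Fact p.Prime]
  {Ω' : Type v} [Group Ω'] {S' : Subgroup Ω'} {θ : S →* Ω'} {E : FusionSystem S'} {Q : Subgroup Ω}

/-- The preimage of a centric fully normalized subgroup of a factor system is centric and fully normalized. -/
theorem preimage_centric_fullyNormalized (hS : IsPGroup p S) (hF : F.IsSaturated p) (hQ : F.IsNormal Q)
    (hE : F.IsFactorSystem Q θ E) {R' : Subgroup Ω'} (hR'n : E.IsFullyNormalized R') (hR'c : E.IsCentric R') :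
    F.IsFullyNormalized (preimageAlong θ R') ∧ F.IsCentric (preimageAlong θ R') := by
  obtain ⟨hQS, hk, hr, hH⟩ := id hE
  subst hr
  have hA := IsNormal.stronglyClosed hQ
  set R := preimageAlong θ R' with hR
  have hRS : R ≤ S := preimageAlong_le _
  have hQR : Q ≤ R := kernel_le_preimageAlong hk hQS _
  have key : ∀ P, F.IsConj R P → P ≤ S ∧ preimageAlong θ (imageAlong θ P) = P ∧ E.IsConj R' (imageAlong θ P) := by
    intro P hP
    obtain ⟨φ, hφ, rfl⟩ := hP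
    have hPS : φ.range ≤ S := by rintro _ ⟨x, rfl⟩; exact apply_mem_S hφ x
    have hQP : Q ≤ φ.range := by
      obtain ⟨ψ, hψ, hψe, hψQ⟩ := hQ.2 R φ hφ
      intro q hq
      rw [← hψQ] at hq
      obtain ⟨w, hw, rfl⟩ := hq
      exact ⟨⟨w, hQR hw⟩, (hψe _).symm⟩
    refine ⟨hPS, by rw [preimageAlong_imageAlong hk hQS hPS, sup_eq_left.mpr hQP], ?_⟩
    obtain ⟨φ', hφ', hP, hφS, hm, e⟩ := exists_map_induced hS hF hA hE hφ
    have himg : imageAlong θ R = R' := imageAlong_preimageAlong hR'n.1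
    have hr' : φ'.range = imageAlong θ φ.range := by
      ext y
      constructor
      · rintro ⟨⟨w, s, hs, rfl⟩, rfl⟩
        exact ⟨⟨φ ⟨s, hs⟩, hφS _⟩, ⟨_, rfl⟩, (e ⟨s, hs⟩).symm⟩
      · rintro ⟨⟨w, hw⟩, ⟨x, rfl⟩, rfl⟩
        exact ⟨_, e x⟩
    rw [← hr', ← himg]
    exact ⟨φ', hφ', rfl⟩
  have hcomap : ∀ P, P ≤ S → preimageAlong θ (imageAlong θ P) = P →
      (normalizerIn S P).subgroupOf S = (normalizerIn θ.range (imageAlong θ P)).comap θ := by
    intro P hPS hP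
    have := finite_of_le hPS
    have : Finite θ.range := Finite.of_surjective _ θ.rangeRestrict_surjective
    have := finite_of_le (imageAlong_le_range (θ := θ) P)
    have hmem : ∀ (s : S), (s : Ω) ∈ P ↔ θ s ∈ imageAlong θ P := by
      intro s
      refine ⟨fun h => ⟨s, h, rfl⟩, fun h => ?_⟩
      rw [← hP]
      exact mem_preimageAlong.mpr ⟨s.2, h⟩
    ext s
    constructor
    · rintro ⟨-, hs⟩
      refine ⟨⟨s, rfl⟩, mem_normalizer_of_forall ?_⟩
      rintro _ ⟨a, ha, rfl⟩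
      rw [← map_inv, ← map_mul, ← map_mul]
      exact (hmem _).mp ((Subgroup.mem_normalizer_iff.mp hs _).mp ha)
    · rintro ⟨-, hs⟩
      refine ⟨s.2, mem_normalizer_of_forall fun a ha => ?_⟩
      refine (hmem (s * ⟨a, hPS ha⟩ * s⁻¹)).mpr ?_
      rw [map_mul, map_mul, map_inv]
      exact (Subgroup.mem_normalizer_iff.mp hs _).mp ⟨⟨a, hPS ha⟩, ha, rfl⟩
  have hcard : ∀ P, P ≤ S → preimageAlong θ (imageAlong θ P) = P →
      Nat.card (normalizerIn S P) =
        Nat.card (θ.ker : Subgroup S) * Nat.card (normalizerIn θ.range (imageAlong θ P)) := by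
    intro P hPS hP
    rw [← Nat.card_congr (Subgroup.subgroupOfEquivOfLe (normalizerIn_le : normalizerIn S P ≤ S)).toEquiv,
      hcomap P hPS hP]
    set Y := normalizerIn θ.range (imageAlong θ P)
    have h1 := Subgroup.relIndex_mul_relIndex ⊥ θ.ker (Y.comap θ) bot_le (Subgroup.comap_mono bot_le)
    rw [Subgroup.relIndex_bot_left, Subgroup.relIndex_bot_left, ← MonoidHom.comap_bot, Subgroup.relIndex_comap,
      Subgroup.relIndex_bot_left, Subgroup.map_comap_eq_self normalizerIn_le] at h1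
    rw [← h1, MonoidHom.comap_bot]
  refine ⟨⟨hRS, fun P hP => ?_⟩, hRS, fun P hP => ?_⟩
  · obtain ⟨hPS, hP', hconj⟩ := key P hP
    obtain ⟨-, hR0, -⟩ := key R (isConj_refl hRS)
    rw [hcard P hPS hP', hcard R hRS hR0, show imageAlong θ R = R' from imageAlong_preimageAlong hR'n.1]
    exact Nat.mul_le_mul_left _ (hR'n.2 _ hconj)
  · obtain ⟨hPS, hP', hconj⟩ := key P hP
    intro z hz
    rw [← hP']
    refine mem_preimageAlong.mpr ⟨hz.1, hR'c.2 _ hconj (mem_centralizerIn.mpr ⟨⟨_, rfl⟩, ?_⟩)⟩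
    rintro _ ⟨a, ha, rfl⟩
    rw [← map_mul, ← map_mul]
    exact congrArg θ (Subtype.ext ((mem_centralizerIn.mp hz).2 _ ha))

/-- Every model of `N_{F/Q}(R')` is a quotient of a model of `N_F(R)`. -/
theorem exists_model_surjection (hS : IsPGroup p S) (hF : F.IsSaturated p) (hQ : F.IsNormal Q)
    (hE : F.IsFactorSystem Q θ E) {R' : Subgroup Ω'} (hR'n : E.IsFullyNormalized R') (hR'c : E.IsCentric R')
    {N' : FusionSystem (normalizerIn S' R')} (hN' : E.IsNormalizerSystem R' N')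
    {L' : Type*} [Group L'] {ι' : normalizerIn S' R' →* L'} (hL' : N'.IsModel p L' ι') :
    ∃ N : FusionSystem (normalizerIn S (preimageAlong θ R')),
      F.IsNormalizerSystem (preimageAlong θ R') N ∧
      ∃ (L : Type u) (_ : Group L) (ι : ↥(normalizerIn S (preimageAlong θ R')) →* L),
        N.IsModel p L ι ∧ ∃ π : L →* L', Function.Surjective π := by
  obtain ⟨hRn, hRc⟩ := preimage_centric_fullyNormalized hS hF hQ hE hR'n hR'c
  obtain ⟨hQS, hk, hr, hH⟩ := id hE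
  subst hr
  have hA := IsNormal.stronglyClosed hQ
  set R := preimageAlong θ R' with hR
  set T := normalizerIn S R with hT
  let T' := normalizerIn θ.range R'
  obtain ⟨N, hN⟩ : ∃ N : FusionSystem T, F.IsNormalizerSystem R N := exists_normalizerSystem (F := F) hRn.1
  obtain ⟨L, _, ι, hL⟩ : ∃ (L : Type u) (_ : Group L) (ι : ↥T →* L), N.IsModel p L ι :=
    exists_model_normalizer hS hF hRn hRc hN
  refine ⟨N, hN, L, _, ι, hL, ?_⟩
  have := hL.1
  have hTS : T ≤ S := normalizerIn_le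
  have := finite_of_le hRn.1
  have : Finite T := finite_of_le hTS
  have hTp : IsPGroup p T := hS.to_le hTS
  obtain ⟨hRN, hRNc⟩ := normal_centric_in_normalizerSystem hRn.1 hRc hN
  have hQR : Q ≤ R := kernel_le_preimageAlong hk hQS _
  have hQT : Q ≤ T := hQR.trans hRN.1
  have hmemR : ∀ s : S, (s : Ω) ∈ R ↔ θ s ∈ R' := fun s =>
    ⟨fun h => map_mem_of_mem_preimageAlong h s.2, fun h => mem_preimageAlong.mpr ⟨s.2, h⟩⟩
  have : Finite θ.range := Finite.of_surjective _ θ.rangeRestrict_surjective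
  have : Finite R' := finite_of_le hR'n.1
  have hθT : ∀ t : T, θ ⟨t, hTS t.2⟩ ∈ T' := by
    intro t
    refine ⟨⟨_, rfl⟩, mem_normalizer_of_forall fun w hw => ?_⟩
    obtain ⟨x, hxS, hxR, hxe⟩ := exists_preimage hR'n.1 ⟨w, hw⟩
    rw [← show θ ⟨x, hxS⟩ = w from hxe, ← map_inv, ← map_mul, ← map_mul]
    exact (hmemR _).mp ((Subgroup.mem_normalizer_iff.mp t.2.2 _).mp hxR)
  let f : T →* T' := (θ.comp (Subgroup.inclusion hTS)).codRestrict _ hθT
  have hf : Function.Surjective f := by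
    rintro ⟨w, ⟨s, rfl⟩, hw⟩
    refine ⟨⟨s, s.2, mem_normalizer_of_forall fun x hx => ?_⟩, Subtype.ext rfl⟩
    refine (hmemR (s * ⟨x, hRn.1 hx⟩ * s⁻¹)).mpr ?_
    rw [map_mul, map_mul, map_inv]
    exact (Subgroup.mem_normalizer_iff.mp hw _).mp ((hmemR ⟨x, hRn.1 hx⟩).mp hx)
  have hfker : ∀ t : T, f t = 1 ↔ (t : Ω) ∈ Q := fun t =>
    ⟨fun h => (hk ⟨t, hTS t.2⟩).mp (congrArg Subtype.val h), fun h => Subtype.ext ((hk ⟨t, hTS t.2⟩).mpr h)⟩
  -- maps of `F` on subgroups between `R` and `T` fixing `R` are maps of `N`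
  have hmemN : ∀ (P : Subgroup Ω) (φ : P →* Ω), φ ∈ F.Hom P → R ≤ P → P ≤ T → (∀ x, φ x ∈ T) →
      (∀ x : P, (x : Ω) ∈ R → φ x ∈ R) → φ ∈ N.Hom P := by
    intro P φ hφ hRP hPT hφT hφR
    obtain ⟨κ, -, hκ⟩ := exists_aut (restrict_mem hRP hφ) (range_eq_of_card_le (restrict_mem hRP hφ) hRn.1
      (fun q => hφR _ q.2) le_rfl)
    rw [hN]
    exact ⟨hφ, hPT, hφT, _, restrict_mem (sup_le le_rfl hRP) hφ, fun _ => rfl,
      (map_eq_iff_exists_aut (restrict_mem (sup_le le_rfl hRP) hφ)).mpr ⟨κ, fun q => (hκ q).symm⟩⟩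
  have hQN : N.IsNormal Q := by
    refine ⟨hQT, fun P φ hφ => ?_⟩
    obtain ⟨ψ, hψ, hψe, hψR⟩ := IsNormal.exists_ext hRN hφ
    have hle : P ⊔ Q ≤ P ⊔ R := sup_le_sup_left hQR P
    refine ⟨_, restrict_mem hle hψ, fun x => hψe x, ?_⟩
    have := finite_of_le hQS
    obtain ⟨κ, -, hκ⟩ := exists_aut (F := N) (restrict_mem (hQR.trans le_sup_right) hψ)
      (range_eq_of_card_le (restrict_mem (hQR.trans le_sup_right) hψ) hQT
        (fun q => hA.2 Q le_rfl _ (restrict_mem (hQR.trans le_sup_right) ((hN _).le hψ).1) q) le_rfl)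
    exact (map_eq_iff_exists_aut (restrict_mem hle hψ)).mpr ⟨κ, fun q => (hκ q).symm⟩
  -- the quotient by `Q`
  have := normal_image_of_isNormal hL hQN
  have := normal_image_of_isNormal hL hRN
  set Qh := (Q.subgroupOf T).map ι with hQh
  let π₁ : L →* L ⧸ Qh := QuotientGroup.mk' Qh
  obtain ⟨T₀, hT₀⟩ := hL.2.2.1
  have hπ₁ : ∀ t : T, π₁ (ι t) = 1 ↔ (t : Ω) ∈ Q := by
    intro t
    rw [show π₁ (ι t) = ((ι t : L) : L ⧸ Qh) from rfl, QuotientGroup.eq_one_iff]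
    constructor
    · rintro ⟨b, hb, hbe⟩
      rwa [← hL.2.1.1 hbe]
    · exact fun h => ⟨t, h, rfl⟩
  set R₁ := ((R.subgroupOf T).map ι).map π₁ with hR₁
  have hR₁n : R₁.Normal := Subgroup.Normal.map inferInstance π₁ (QuotientGroup.mk'_surjective _)
  let T₁ : Sylow p (L ⧸ Qh) := T₀.mapSurjective (QuotientGroup.mk'_surjective Qh)
  have hT₁ : (T₁ : Subgroup (L ⧸ Qh)) = ι.range.map π₁ := by
    rw [Sylow.coe_mapSurjective, hT₀]
  obtain ⟨N₁, hN₁n, hN₁c, hN₁⟩ := exists_prime_normal_centralizer T₁ (R := R₁)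
    (hT₁ ▸ Subgroup.map_mono (Subgroup.map_le_range _ _)) (by
      rintro w ⟨hw, hwc⟩
      obtain ⟨_, ⟨t, rfl⟩, rfl⟩ := hT₁.le hw
      refine ⟨ι t, ⟨t, (hmemR ⟨t, hTS t.2⟩).mpr (IsCentric.centralizerIn_le' hR'c
        (mem_centralizerIn.mpr ⟨⟨_, rfl⟩, fun w hw => ?_⟩)), rfl⟩, rfl⟩
      obtain ⟨x, hxS, hxR, hxe⟩ := exists_preimage hR'n.1 ⟨w, hw⟩
      have h := Subgroup.mem_centralizer_iff.mp hwc _ ⟨_, ⟨⟨x, hRN.1 hxR⟩, hxR, rfl⟩, rfl⟩
      have h' : π₁ (ι ((⟨x, hRN.1 hxR⟩ * t)⁻¹ * (t * ⟨x, hRN.1 hxR⟩))) = 1 := by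
        simp only [map_mul, map_inv, h, inv_mul_cancel]
      have h2 := (hk ((⟨x, hxS⟩ * ⟨t, hTS t.2⟩)⁻¹ * (⟨t, hTS t.2⟩ * ⟨x, hxS⟩))).mpr ((hπ₁ _).mp h')
      rw [map_mul, map_inv, inv_mul_eq_one] at h2
      rw [← show θ ⟨x, hxS⟩ = w from hxe, ← map_mul, ← map_mul]
      exact h2)
  let π₂ : L ⧸ Qh →* (L ⧸ Qh) ⧸ N₁ := QuotientGroup.mk' N₁
  let π : L →* (L ⧸ Qh) ⧸ N₁ := π₂.comp π₁
  have hπ : Function.Surjective π := (QuotientGroup.mk'_surjective _).comp (QuotientGroup.mk'_surjective _)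
  have hπQ : ∀ t : T, π (ι t) = 1 ↔ (t : Ω) ∈ Q := by
    intro t
    refine ⟨fun h => (hπ₁ t).mp ?_, fun h => by
      show π₂ (π₁ (ι t)) = 1
      rw [(hπ₁ t).mpr h, map_one]⟩
    have hm : π₁ (ι t) ∈ (T₁ : Subgroup _) ⊓ N₁ :=
      ⟨hT₁.ge ⟨_, ⟨t, rfl⟩, rfl⟩, (QuotientGroup.eq_one_iff _).mp h⟩
    rwa [CfsgLib.PCore.inf_eq_bot_of_isPGroup_coprime T₁.isPGroup'
      (CfsgLib.PCore.coprime_of_not_dvd_card hN₁c), Subgroup.mem_bot] at hm
  let k : T' →* (L ⧸ Qh) ⧸ N₁ := f.liftOfSurjective hf ⟨π.comp ι, fun t ht => (hπQ t).mpr ((hfker t).mp ht)⟩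
  have hkf : ∀ t : T, k (f t) = π (ι t) := fun t =>
    MonoidHom.liftOfRightInverse_comp_apply _ _ _ ⟨π.comp ι, _⟩ t
  have hkinj : Function.Injective k := (injective_iff_map_eq_one k).mpr fun w hw => by
    obtain ⟨t, rfl⟩ := hf w
    rw [hkf] at hw
    exact (hfker t).mpr ((hπQ t).mp hw)
  -- the image of `R'`
  set R₂ := (R'.subgroupOf T').map k with hR₂
  have hR₂π : R₂ = R₁.map π₂ := by
    ext w
    constructor
    · rintro ⟨x, hx, rfl⟩
      obtain ⟨t, rfl⟩ := hf x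
      exact ⟨_, ⟨_, ⟨t, (hmemR _).mpr hx, rfl⟩, rfl⟩, (hkf t).symm⟩
    · rintro ⟨_, ⟨_, ⟨t, ht, rfl⟩, rfl⟩, rfl⟩
      exact ⟨f t, map_mem_of_mem_preimageAlong ht _, hkf t⟩
  have hR₂n : R₂.Normal := hR₂π ▸ Subgroup.Normal.map hR₁n π₂ (QuotientGroup.mk'_surjective _)
  have hkrange : k.range = ι.range.map π := by
    ext w
    constructor
    · rintro ⟨x, rfl⟩
      obtain ⟨t, rfl⟩ := hf x
      exact ⟨_, ⟨t, rfl⟩, (hkf t).symm⟩
    · rintro ⟨_, ⟨t, rfl⟩, rfl⟩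
      exact ⟨_, hkf t⟩
  have hR'T' : R' ≤ T' := le_normalizerIn hR'n.1
  have hmodel : N'.IsModel p ((L ⧸ Qh) ⧸ N₁) k := by
    refine ⟨inferInstance, ⟨hkinj, fun P' hP' φ' hφT => ⟨fun hφ' => ?_, ?_⟩⟩,
      ⟨T₀.mapSurjective hπ, by rw [Sylow.coe_mapSurjective, hT₀, hkrange]⟩, ?_⟩
    · obtain ⟨hφE, -, -, ψ', hψ', hψe, hψR⟩ := (hN' P').le hφ'
      obtain ⟨-, ψ, hψ, hP₀, hψS, hm, e⟩ := (hH _ _).mp hψ'
      have hψ'T : ∀ w, ψ' w ∈ T' := sup_le_map_comap (fun a ha => by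
          rw [show ψ' ⟨a, _⟩ = φ' ⟨a, ha⟩ from hψe ⟨a, ha⟩]; exact hφT _)
        (fun b hb => hR'T' (hψR.le ⟨_, hb, rfl⟩))
      have hRP : R ≤ preimageAlong θ (P' ⊔ R') := fun x hx =>
        mem_preimageAlong.mpr ⟨hRn.1 hx, Subgroup.mem_sup_right ((hmemR ⟨x, hRn.1 hx⟩).mp hx)⟩
      have hmemT : ∀ (s : S), θ s ∈ T' → (s : Ω) ∈ T := fun s hs => by
        obtain ⟨t, ht⟩ := hf ⟨θ s, hs⟩
        have := hk (⟨t, hTS t.2⟩⁻¹ * s)
        rw [map_mul, map_inv, inv_mul_eq_one] at this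
        have hq := this.mp (congrArg Subtype.val ht)
        simpa using T.mul_mem t.2 (hQT hq)
      have hψN := hmemN _ ψ hψ hRP
        (fun x hx => hmemT ⟨x, hP₀ hx⟩ (sup_le hP' hR'T' (hm ⟨x, hx⟩)))
        (fun x => hmemT ⟨ψ x, hψS x⟩ (e x ▸ hψ'T _))
        (fun x hx => (hmemR ⟨ψ x, hψS x⟩).mpr (e x ▸ hψR.le ⟨_, (hmemR ⟨x, hP₀ x.2⟩).mp hx, rfl⟩))
      obtain ⟨l, hl⟩ := realized_conj hL.2.1 hψN
      refine ⟨π l, fun w => ?_⟩
      obtain ⟨x, hxS, -, hxe⟩ := exists_preimage (hP'.trans normalizerIn_le) w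
      have hx : x ∈ preimageAlong θ (P' ⊔ R') :=
        mem_preimageAlong.mpr ⟨hxS, hxe.symm ▸ Subgroup.mem_sup_left w.2⟩
      have h := congrArg π (hl ⟨x, hx⟩)
      simp only [map_mul, map_inv, ← hkf] at h
      refine Eq.trans (congrArg k (Subtype.ext ?_)) (h.trans ?_)
      · show φ' w = θ ⟨ψ ⟨x, hx⟩, hψS ⟨x, hx⟩⟩
        rw [← hψe w, ← e ⟨x, hx⟩]
        exact congrArg ψ' (Subtype.ext hxe.symm)
      · exact congrArg (fun c => π l * k c * (π l)⁻¹) (Subtype.ext hxe)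
    · rintro ⟨l, hl⟩
      obtain ⟨l₀, rfl⟩ := hπ l
      set P₂ := P' ⊔ R' with hP₂
      have hP₂T : P₂ ≤ T' := sup_le hP' hR'T'
      have hW : ∀ w (hw : w ∈ P₂), π l₀ * k ⟨w, hP₂T hw⟩ * (π l₀)⁻¹ ∈ k.range := by
        intro w hw
        have : P₂ ≤ ((k.range.comap (MulAut.conj (π l₀)).toMonoidHom).comap k).map T'.subtype :=
          sup_le (fun a ha => ⟨⟨a, hP' ha⟩, ⟨⟨φ' ⟨a, ha⟩, hφT _⟩, hl ⟨a, ha⟩⟩, rfl⟩)
            (fun a ha => ⟨⟨a, hR'T' ha⟩, Subgroup.map_le_range _ _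
              (hR₂n.conj_mem _ ⟨⟨a, hR'T' ha⟩, ha, rfl⟩ (π l₀)), rfl⟩)
        obtain ⟨b, hb, hbw⟩ := this hw
        rw [show (⟨w, hP₂T hw⟩ : T') = b from Subtype.ext hbw.symm]
        exact hb
      set P₀ := preimageAlong θ P₂ with hP₀
      have hP₂r : P₂ ≤ θ.range := hP₂T.trans normalizerIn_le
      have hRP : R ≤ P₀ := fun x hx =>
        mem_preimageAlong.mpr ⟨hRn.1 hx, Subgroup.mem_sup_right ((hmemR ⟨x, hRn.1 hx⟩).mp hx)⟩
      have hP₀T : P₀ ≤ T := by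
        intro x hx
        obtain ⟨hxS, hxP⟩ := mem_preimageAlong.mp hx
        obtain ⟨t, ht⟩ := hf ⟨θ ⟨x, hxS⟩, hP₂T hxP⟩
        have := hk (⟨t, hTS t.2⟩⁻¹ * ⟨x, hxS⟩)
        rw [map_mul, map_inv, inv_mul_eq_one] at this
        simpa using T.mul_mem t.2 (hQT (this.mp (congrArg Subtype.val ht)))
      have hπk : ∀ (x : P₀) (h : θ ⟨x, hTS (hP₀T x.2)⟩ ∈ T'), π (ι ⟨x, hP₀T x.2⟩) = k ⟨_, h⟩ :=
        fun x h => (hkf ⟨x, hP₀T x.2⟩).symm
      obtain ⟨d, hd, hdA⟩ := exists_conj_le_of_map_le π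
        (A := ((P₀.subgroupOf T).map ι).map (MulAut.conj l₀).toMonoidHom) (B := ι.range)
        (((hTp.to_subgroup _).map ι).map _) (hTp.of_surjective ι.rangeRestrict ι.rangeRestrict_surjective)
        (by
          rintro _ ⟨_, ⟨_, ⟨t, ht, rfl⟩, rfl⟩, rfl⟩
          rw [← hkrange]
          show π (l₀ * ι t * l₀⁻¹) ∈ k.range
          rw [map_mul, map_mul, map_inv, ← hkf t]
          exact hW _ (map_mem_of_mem_preimageAlong ht _))
        (by
          have hker : π.ker = N₁.comap π₁ := by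
            ext w
            exact QuotientGroup.eq_one_iff (π₁ w)
          have hinf : ι.range ⊓ π.ker = π₁.ker := by
            refine le_antisymm ?_ (le_inf ?_ ?_)
            · rintro _ ⟨⟨t, rfl⟩, ht⟩
              exact (hπ₁ t).mpr ((hπQ t).mp ht)
            · rw [QuotientGroup.ker_mk']; exact Subgroup.map_le_range _ _
            · intro w hw
              show π₂ (π₁ w) = 1
              rw [MonoidHom.mem_ker.mp hw, map_one]
          rw [← Subgroup.inf_relIndex_right, hinf, hker, ← MonoidHom.comap_bot, Subgroup.relIndex_comap,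
            Subgroup.relIndex_bot_left, Subgroup.map_comap_eq_self_of_surjective (QuotientGroup.mk'_surjective _)]
          exact hN₁c)
      obtain ⟨ψ, hψ, hψe⟩ := realized_exists_map hL.2.1 hP₀T (d * l₀) fun x => by
        have := hdA _ ⟨_, ⟨⟨x, hP₀T x.2⟩, x.2, rfl⟩, rfl⟩
        convert this using 1
        show d * l₀ * ι _ * (d * l₀)⁻¹ = d * (l₀ * ι _ * l₀⁻¹) * d⁻¹
        group
      have hψF := ((hN _).le hψ).1
      obtain ⟨ψ', hψ'⟩ := exists_induced hk hA hP₂r hψF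
      have hψ'E : ψ' ∈ E.Hom P₂ := (hH _ _).mpr ⟨hP₂r, ψ, hψF, hψ'⟩
      obtain ⟨hP₀S, hψS, hm, e⟩ := hψ'
      have hkψ : ∀ (w : P₂), ∃ h : ψ' w ∈ T', k ⟨ψ' w, h⟩ = π l₀ * k ⟨w, hP₂T w.2⟩ * (π l₀)⁻¹ := by
        intro w
        obtain ⟨x, hxS, hxP, hxe⟩ := exists_preimage hP₂r w
        have hw : w = ⟨θ ⟨x, hP₀S hxP⟩, hm ⟨x, hxP⟩⟩ := Subtype.ext hxe.symm
        subst hw
        rw [e ⟨x, hxP⟩]
        refine ⟨hθT ⟨ψ ⟨x, hxP⟩, apply_mem_S hψ _⟩, ?_⟩
        have h := congrArg π (hψe ⟨x, hxP⟩ (apply_mem_S hψ _))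
        simp only [map_mul, map_inv, MonoidHom.mem_ker.mp hd, one_mul, mul_inv_rev, inv_one, mul_one, ← hkf] at h
        exact h
      have hψ'R : ∀ (w : P₂), (w : Ω') ∈ R' → ψ' w ∈ R' := by
        intro w hw
        obtain ⟨h, hkw⟩ := hkψ w
        obtain ⟨b, hb, hbe⟩ := hR₂n.conj_mem _ ⟨⟨w, hP₂T w.2⟩, hw, rfl⟩ (π l₀)
        rw [← hkw] at hbe
        have h3 : (b : Ω') = ψ' w := congrArg Subtype.val (hkinj hbe)
        rw [← h3]
        exact hb
      have hagree : ∀ w : P', ψ' ⟨w, Subgroup.mem_sup_left w.2⟩ = φ' w := fun w => by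
        obtain ⟨h, hkw⟩ := hkψ ⟨w, Subgroup.mem_sup_left w.2⟩
        exact congrArg Subtype.val (hkinj (hkw.trans (hl w).symm))
      rw [hN']
      have := finite_of_le hR'n.1
      obtain ⟨κ, -, hκ⟩ := exists_aut (restrict_mem (le_sup_right : R' ≤ P₂) hψ'E)
        (range_eq_of_card_le (restrict_mem (le_sup_right : R' ≤ P₂) hψ'E) hR'n.1 (fun q => hψ'R _ q.2) le_rfl)
      refine ⟨?_, hP', hφT, ψ', hψ'E, hagree, (map_eq_iff_exists_aut hψ'E).mpr ⟨κ, fun q => (hκ q).symm⟩⟩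
      rw [show φ' = ψ'.comp (Subgroup.inclusion (le_sup_left : P' ≤ P₂)) from
        MonoidHom.ext fun w => (hagree w).symm]
      exact restrict_mem le_sup_left hψ'E
    · have hR₂p : IsPGroup p R₂ := by
        have : IsPGroup p T' := hTp.of_surjective f hf
        exact (this.to_subgroup _).map k
      have hR₂le : R₂ ≤ pCore p _ := le_sSup ⟨hR₂n, hR₂p⟩
      refine le_trans ?_ hR₂le
      intro w hw
      obtain ⟨y, rfl⟩ := QuotientGroup.mk'_surjective N₁ w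
      have hy := hN₁ y fun x hx => (QuotientGroup.eq_one_iff _).mp (by
        have hxR₂ : π₂ x ∈ R₂ := hR₂π ▸ ⟨x, hx, rfl⟩
        have hc := Subgroup.mem_centralizer_iff.mp hw _ (hR₂le hxR₂)
        show π₂ (y * x * y⁻¹ * x⁻¹) = 1
        rw [map_mul, map_mul, map_mul, map_inv, map_inv, show π₂ y * π₂ x = π₂ x * π₂ y from hc.symm]
        group)
      have := Subgroup.mem_map_of_mem π₂ hy
      rwa [Subgroup.map_sup, ← hR₂π, QuotientGroup.map_mk'_self, sup_bot_eq] at this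
  obtain ⟨φ, -⟩ := model_unique hL' hmodel
  exact ⟨φ.symm.toMonoidHom.comp π, φ.symm.surjective.comp hπ⟩

/-- A factor system inherits properties of models closed under quotients. -/
theorem centricFree_factor {Good : ∀ (L : Type u) [Group L], Prop} {Good' : ∀ (L : Type v) [Group L], Prop}
    (hGood : ∀ {L : Type u} {L' : Type v} [Group L] [Group L'] (f : L →* L'), Function.Surjective f →
      Good L → Good' L')
    (hS : IsPGroup p S) (hF : F.IsSaturated p) (hQ : F.IsNormal Q) (hE : F.IsFactorSystem Q θ E)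
    (hfree : CentricFree F p Good) : CentricFree E p Good' := by
  intro R' hR'n hR'c N' hN' L' _ ι' hL'
  obtain ⟨hRn, hRc⟩ := preimage_centric_fullyNormalized hS hF hQ hE hR'n hR'c
  obtain ⟨N, hN, L, _, ι, hL, π, hπ⟩ := exists_model_surjection hS hF hQ hE hR'n hR'c hN' hL'
  exact hGood π hπ (hfree _ hRn hRc N hN L ι hL)

end Factor

end CfsgLib.Fusion
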