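import Cfsg.Agent.Lib.Fusion.MaxClass
import Cfsg.Agent.Lib.Fusion.Stabilizer
import Cfsg.Agent.Lib.Fusion.Alperin
import Cfsg.Agent.Lib.PCore.Basic
import Cfsg.Agent.Lib.Fusion.LocalQuotient
import Mathlib.GroupTheory.Nilpotent
import Cfsg.Agent.Lib.Techniques.KInfBasic

/-!
# Essential subgroups over a `p`-group with a unique abelian subgroup of index `p`
-/

namespace CfsgLib.Fusion.AbelianIndexP

open Cfsg Cfsg.FusionSystem CfsgLib.Fusion
open scoped commutatorElement IsMulCommutative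

universe u

variable {Ω : Type u} [Group Ω] {S A : Subgroup Ω} {x : Ω} {p : ℕ}

/-- An abelian subgroup of index `p`. -/
structure Setup (p : ℕ) (S A : Subgroup Ω) : Prop where
  le : A ≤ S
  comm : IsMulCommutative A
  index : (A.subgroupOf S).index = p
  isP : IsPGroup p S

/-- The centre of `S`. -/
abbrev zc (S : Subgroup Ω) : Subgroup Ω := S ⊓ Subgroup.centralizer (S : Set Ω)

theorem card_split {B C : Type*} [Group B] [Group C] [Finite B] (f : B →* C) (X : Subgroup B) :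
    Nat.card X = Nat.card (X ⊓ f.ker : Subgroup B) * Nat.card (X.map f) := by
  have h1 := Subgroup.relIndex_mul_relIndex (⊥ : Subgroup B) (X ⊓ f.ker) X bot_le inf_le_left
  rw [Subgroup.relIndex_bot_left, Subgroup.relIndex_bot_left, Subgroup.inf_relIndex_left,
    Subgroup.relIndex_ker] at h1
  exact h1.symm

/-- An essential subgroup is proper. -/
theorem lt_of_essential [Finite S] [Fact p.Prime] {F : FusionSystem S} (hS : IsPGroup p S) (hF : F.IsSaturated p)
    {P : Subgroup Ω} (hP : F.IsEssential p P) : P < S := by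
  refine lt_of_le_of_ne hP.1.1 fun e => ?_
  subst e
  obtain ⟨-, hn, hN, E, hE, -⟩ := hP
  obtain ⟨T, hT⟩ := sylow_out (p := p) (fullyNormalized_good hS hF hn).1
  have hT1 : T.toSubgroup = ⊥ := by
    rw [hT, eq_bot_iff]
    rintro _ ⟨a, ha, rfl⟩
    exact Subgroup.mem_bot.mpr ((QuotientGroup.eq_one_iff a).mpr
      (inn_eq_autInducedBy (P := P) ▸ (ha : (a : MulAut P) ∈ autInducedBy P P)))
  have := finite_mulAut (le_refl P)
  have h1 := T.not_dvd_index
  rw [hT1, Subgroup.index_bot] at h1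
  exact h1 hE

section

variable [Finite S] [Fact p.Prime] (h : Setup p S A)

include h

theorem Setup.mul_comm' {a b : Ω} (ha : a ∈ A) (hb : b ∈ A) : a * b = b * a := by
  have := h.comm
  exact setLike_mul_comm ha hb

theorem Setup.card : Nat.card S = p * Nat.card A := by
  rw [← Subgroup.card_mul_index (A.subgroupOf S), h.index,
    Nat.card_congr (Subgroup.subgroupOfEquivOfLe h.le).toEquiv, mul_comm]

theorem Setup.normal : (A.subgroupOf S).Normal := by
  have := h.isP.isNilpotent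
  refine Subgroup.NormalizerCondition.normal_of_coatom _ Group.normalizerCondition_of_isNilpotent ⟨?_, ?_⟩
  · intro e
    have h1 := h.index
    rw [e, Subgroup.index_top] at h1
    exact (Fact.out : p.Prime).one_lt.ne h1
  · intro K hK
    have h1 := Subgroup.relIndex_mul_index hK.le
    rw [h.index] at h1
    rcases (Nat.dvd_prime Fact.out).mp (Dvd.intro_left _ h1) with h2 | h2
    · exact Subgroup.index_eq_one.mp h2
    · rw [h2] at h1
      have h3 : (A.subgroupOf S).relIndex K = 1 := by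
        have := (Fact.out : p.Prime).pos
        exact Nat.eq_of_mul_eq_mul_right this (h1.trans (one_mul p).symm)
      exact absurd (Subgroup.relIndex_eq_one.mp h3) (fun hle => hK.not_ge hle)

theorem Setup.conj_mem {s a : Ω} (hs : s ∈ S) (ha : a ∈ A) : s * a * s⁻¹ ∈ A := by
  have := h.normal.conj_mem ⟨a, h.le ha⟩ ha ⟨s, hs⟩
  exact this

/-- Subgroups of `S` not inside `A` meet it in index `p`. -/
theorem Setup.card_inf {H : Subgroup Ω} (hH : H ≤ S) (hne : ¬ H ≤ A) :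
    Nat.card H = p * Nat.card (H ⊓ A : Subgroup Ω) := by
  have := finite_of_le hH
  refine le_antisymm ?_ ?_
  · have h1 : A.relIndex H ≤ p := by
      have h2 : A.relIndex S = p := h.index
      rw [← h2]
      exact Subgroup.relIndex_le_of_le_right hH (by rw [h2]; exact (Fact.out : p.Prime).ne_zero)
    have h3 := Subgroup.relIndex_mul_relIndex (⊥ : Subgroup Ω) (H ⊓ A) H bot_le inf_le_left
    rw [Subgroup.relIndex_bot_left, Subgroup.relIndex_bot_left, Subgroup.inf_relIndex_left] at h3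
    rw [← h3, mul_comm p]
    exact Nat.mul_le_mul_left _ h1
  · have h1 := MaxClass.mul_card_le_of_lt (h.isP) (H := (H ⊓ A).subgroupOf S) (K := H.subgroupOf S)
      (lt_of_le_of_ne (Subgroup.comap_mono inf_le_left) fun e => hne fun y hy =>
        ((Subgroup.mem_subgroupOf (K := S) (h := ⟨y, hH hy⟩)).mp (e.ge hy)).2)
    rwa [Nat.card_congr (Subgroup.subgroupOfEquivOfLe (inf_le_left.trans hH)).toEquiv,
      Nat.card_congr (Subgroup.subgroupOfEquivOfLe hH).toEquiv] at h1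

theorem Setup.exists_decomp (hx : x ∈ S) (hxA : x ∉ A) {s : Ω} (hs : s ∈ S) : ∃ i : ℕ, s * (x ^ i)⁻¹ ∈ A := by
  have := h.normal
  have hq : Nat.card (S ⧸ A.subgroupOf S) = p := h.index
  have hne : (QuotientGroup.mk' (A.subgroupOf S) ⟨x, hx⟩) ≠ 1 := fun e =>
    hxA ((QuotientGroup.eq_one_iff (N := A.subgroupOf S) ⟨x, hx⟩).mp e)
  have hmem := mem_powers_of_prime_card hq hne (g' := QuotientGroup.mk' (A.subgroupOf S) ⟨s, hs⟩)
  obtain ⟨i, hi⟩ := Submonoid.mem_powers_iff _ _ |>.mp hmem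
  rw [← map_pow] at hi
  have hm := (QuotientGroup.eq.mp hi : ((⟨x, hx⟩ : S) ^ i)⁻¹ * ⟨s, hs⟩ ∈ A.subgroupOf S)
  have hm' : (x ^ i)⁻¹ * s ∈ A := hm
  refine ⟨i, ?_⟩
  have := h.conj_mem (S.pow_mem hx i) hm'
  rwa [mul_inv_cancel_left] at this

theorem Setup.mem_zc_iff (hx : x ∈ S) (hxA : x ∉ A) {a : Ω} (ha : a ∈ A) : a ∈ zc S ↔ x * a = a * x := by
  refine ⟨fun hz => Subgroup.mem_centralizer_iff.mp hz.2 x hx, fun hc => ⟨h.le ha, ?_⟩⟩
  refine Subgroup.mem_centralizer_iff.mpr fun s hs => ?_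
  obtain ⟨i, hi⟩ := h.exists_decomp hx hxA hs
  have h1 : Commute (s * (x ^ i)⁻¹) a := h.mul_comm' hi ha
  have h2 : Commute (x ^ i) a := Commute.pow_left hc i
  have h3 := h1.mul_left h2
  rwa [inv_mul_cancel_right] at h3

theorem Setup.comm_of_zc_not_le {z : Ω} (hz : z ∈ zc S) (hzA : z ∉ A) : IsMulCommutative S := by
  refine ⟨⟨fun a b => Subtype.ext ?_⟩⟩
  obtain ⟨i, hi⟩ := h.exists_decomp hz.1 hzA a.2
  obtain ⟨j, hj⟩ := h.exists_decomp hz.1 hzA b.2
  have hza : ∀ (y : Ω), y ∈ S → ∀ k : ℕ, Commute (z ^ k) y := fun y hy k =>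
    Commute.pow_left (show Commute z y from (Subgroup.mem_centralizer_iff.mp hz.2 y hy).symm) k
  have h1 : Commute (a : Ω) ((b : Ω) * (z ^ j)⁻¹) := by
    have h2 : Commute ((a : Ω) * (z ^ i)⁻¹) ((b : Ω) * (z ^ j)⁻¹) := h.mul_comm' hi hj
    have h3 := h2.mul_left (hza _ (h.le hj) i)
    rwa [inv_mul_cancel_right] at h3
  have h4 := h1.mul_right (hza _ a.2 j).symm
  rwa [inv_mul_cancel_right] at h4

/-- `a ↦ [x, a]` on `A`. -/
def Setup.delta (hx : x ∈ S) : A →* A where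
  toFun a := ⟨x * a * x⁻¹ * (a : Ω)⁻¹, A.mul_mem (h.conj_mem hx a.2) (A.inv_mem a.2)⟩
  map_one' := Subtype.ext (by simp)
  map_mul' a b := Subtype.ext (by
    show x * ((a : Ω) * b) * x⁻¹ * ((a : Ω) * b)⁻¹ =
      (x * a * x⁻¹ * (a : Ω)⁻¹) * (x * b * x⁻¹ * (b : Ω)⁻¹)
    have e1 : (a : Ω)⁻¹ * (x * b * x⁻¹) = (x * b * x⁻¹) * (a : Ω)⁻¹ :=
      h.mul_comm' (A.inv_mem a.2) (h.conj_mem hx b.2)
    have e2 : (b : Ω)⁻¹ * (a : Ω)⁻¹ = (a : Ω)⁻¹ * (b : Ω)⁻¹ := h.mul_comm' (A.inv_mem b.2) (A.inv_mem a.2)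
    calc x * ((a : Ω) * b) * x⁻¹ * ((a : Ω) * b)⁻¹
        = x * a * x⁻¹ * ((x * b * x⁻¹) * ((b : Ω)⁻¹ * (a : Ω)⁻¹)) := by group
      _ = x * a * x⁻¹ * (((x * b * x⁻¹) * (a : Ω)⁻¹) * (b : Ω)⁻¹) := by rw [e2]; group
      _ = _ := by rw [← e1]; group)

theorem Setup.coe_delta (hx : x ∈ S) (a : A) : ((h.delta hx a : A) : Ω) = x * a * x⁻¹ * (a : Ω)⁻¹ := rfl

theorem Setup.delta_eq_one (hx : x ∈ S) (hxA : x ∉ A) (a : A) : h.delta hx a = 1 ↔ (a : Ω) ∈ zc S := by
  rw [h.mem_zc_iff hx hxA a.2, Subtype.ext_iff, h.coe_delta, Subgroup.coe_one, mul_inv_eq_one,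
    mul_inv_eq_iff_eq_mul]

theorem Setup.card_ker (hx : x ∈ S) (hxA : x ∉ A) (hna : ¬ IsMulCommutative S) :
    Nat.card (h.delta hx).ker = Nat.card (zc S) := by
  have hle : zc S ≤ A := fun z hz => by_contra fun hzA => hna (h.comm_of_zc_not_le hz hzA)
  have e : (h.delta hx).ker = (zc S).subgroupOf A := by
    ext a
    rw [MonoidHom.mem_ker, h.delta_eq_one hx hxA, Subgroup.mem_subgroupOf]
  rw [e, Nat.card_congr (Subgroup.subgroupOfEquivOfLe hle).toEquiv]

/-- With a unique abelian subgroup of index `p`, `|A : Z(S)| ≥ p²`. -/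
theorem Setup.sq_le (hna : ¬ IsMulCommutative S)
    (huniq : ∀ B : Subgroup Ω, B ≤ S → IsMulCommutative ↥B → (B.subgroupOf S).index = p → B = A) :
    p * Nat.card (zc S) < Nat.card A := by
  have := finite_of_le h.le
  have hle : zc S ≤ A := fun z hz => by_contra fun hzA => hna (h.comm_of_zc_not_le hz hzA)
  obtain ⟨x, hx, hxA⟩ : ∃ x ∈ S, x ∉ A := by
    by_contra hc
    push Not at hc
    have : A.subgroupOf S = ⊤ := Subgroup.subgroupOf_eq_top.mpr hc
    have h1 := h.index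
    rw [this, Subgroup.index_top] at h1
    exact (Fact.out : p.Prime).one_lt.ne h1
  by_contra hge
  push Not at hge
  set B := zc S ⊔ Subgroup.zpowers x with hB
  have hBS : B ≤ S := sup_le inf_le_left (Subgroup.zpowers_le.mpr hx)
  have := finite_of_le hBS
  have hBab : IsMulCommutative B := by
    rw [hB, Subgroup.sup_eq_closure]
    refine Subgroup.isMulCommutative_closure ?_
    rintro a (ha | ha) b (hb | hb)
    · exact (Subgroup.mem_centralizer_iff.mp ha.2 b hb.1).symm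
    · exact (Subgroup.mem_centralizer_iff.mp ha.2 b (Subgroup.zpowers_le.mpr hx hb)).symm
    · exact Subgroup.mem_centralizer_iff.mp hb.2 a (Subgroup.zpowers_le.mpr hx ha)
    · exact setLike_mul_comm (S := Subgroup Ω) ha hb
  have hxB : x ∈ B := Subgroup.mem_sup_right (Subgroup.mem_zpowers x)
  have hBne : B ≠ S := fun e => hna (e ▸ hBab)
  have h1 : p * Nat.card (zc S) ≤ Nat.card B := by
    have h2 := MaxClass.mul_card_le_of_lt h.isP (H := (zc S).subgroupOf S) (K := B.subgroupOf S)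
      (lt_of_le_of_ne (Subgroup.comap_mono le_sup_left) fun e => hxA (hle (e.ge (x := (⟨x, hx⟩ : S)) hxB)))
    rwa [Nat.card_congr (Subgroup.subgroupOfEquivOfLe (inf_le_left : zc S ≤ S)).toEquiv,
      Nat.card_congr (Subgroup.subgroupOfEquivOfLe hBS).toEquiv] at h2
  have h3 : p * Nat.card B ≤ Nat.card S := by
    have h2 := MaxClass.mul_card_le_of_lt h.isP (H := B.subgroupOf S) (K := ⊤)
      (lt_top_iff_ne_top.mpr fun e => hBne (le_antisymm hBS (Subgroup.subgroupOf_eq_top.mp e)))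
    rwa [Nat.card_congr (Subgroup.subgroupOfEquivOfLe hBS).toEquiv, Subgroup.card_top] at h2
  have hcard := h.card
  have h4 : Nat.card B = Nat.card A := by
    refine le_antisymm ?_ (hge.trans h1)
    rw [hcard] at h3
    exact Nat.le_of_mul_le_mul_left h3 (Fact.out : p.Prime).pos
  have h5 : (B.subgroupOf S).index = p := by
    have := Subgroup.card_mul_index (B.subgroupOf S)
    rw [Nat.card_congr (Subgroup.subgroupOfEquivOfLe hBS).toEquiv, h4, hcard, mul_comm p] at this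
    exact Nat.eq_of_mul_eq_mul_left Nat.card_pos this
  exact hxA (huniq B hBS hBab h5 ▸ hxB)

/-- Conjugation by an element of `A` normalizing `P`. -/
theorem Setup.conj_by (hx : x ∈ S) {P : Subgroup Ω} (hP : P ≤ S) (hxP : x ∈ P) (hxA : x ∉ A) (a : A) :
    ((a : Ω) ∈ Subgroup.normalizer (P : Set Ω) ↔ ((h.delta hx a : A) : Ω) ∈ P) ∧
      (a : Ω) * x * (a : Ω)⁻¹ = ((h.delta hx a : A) : Ω)⁻¹ * x := by
  have e : (a : Ω) * x * (a : Ω)⁻¹ = ((h.delta hx a : A) : Ω)⁻¹ * x := by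
    rw [h.coe_delta]; group
  refine ⟨⟨fun hn => ?_, fun hd => ?_⟩, e⟩
  · have h1 := (Subgroup.mem_normalizer_iff.mp hn x).mp hxP
    rw [e] at h1
    have := P.mul_mem h1 (P.inv_mem hxP)
    rw [mul_inv_cancel_right] at this
    exact inv_inv ((h.delta hx a : A) : Ω) ▸ P.inv_mem this
  · have := finite_of_le hP
    refine mem_normalizer_of_forall fun y hy => ?_
    obtain ⟨i, hi⟩ := h.exists_decomp hx hxA (hP hy)
    have hyP : y * (x ^ i)⁻¹ ∈ P := P.mul_mem hy (P.inv_mem (P.pow_mem hxP i))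
    have e2 : (a : Ω) * y * (a : Ω)⁻¹ = (y * (x ^ i)⁻¹) * ((a : Ω) * x * (a : Ω)⁻¹) ^ i := by
      have hc : (a : Ω) * (y * (x ^ i)⁻¹) = (y * (x ^ i)⁻¹) * a := h.mul_comm' a.2 hi
      rw [conj_pow]
      calc (a : Ω) * y * (a : Ω)⁻¹ = ((a : Ω) * (y * (x ^ i)⁻¹)) * x ^ i * (a : Ω)⁻¹ := by group
        _ = _ := by rw [hc]; group
    rw [e2, e]
    exact P.mul_mem hyP (P.pow_mem (P.mul_mem (P.inv_mem hd) hxP) i)

variable {F : FusionSystem S}

/-- An element of `A` whose action stabilizes `W ≤ P`, invariant under `Aut_F(P)`, lies in `P`. -/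
theorem Setup.mem_of_invariant (hx : x ∈ S) (hxA : x ∉ A) {P : Subgroup Ω} (hPc : F.IsCentric P)
    (hPr : F.IsRadical p P) (hxP : x ∈ P) (W : Subgroup P)
    (hW : ∀ a ∈ F.autGroup P, ∀ y ∈ W, a y ∈ W) (hWA : ∀ y ∈ W, (y : Ω) ∈ A) (a : A)
    (hd : ∃ hd : ((h.delta hx a : A) : Ω) ∈ P, (⟨_, hd⟩ : P) ∈ W) : (a : Ω) ∈ P := by
  obtain ⟨hdP, hdW⟩ := hd
  have hP := hPc.1
  have := finite_of_le hP
  have := finite_mulAut hP
  obtain ⟨hn, he⟩ := h.conj_by hx hP hxP hxA a
  obtain ⟨c, hc, hce⟩ := exists_autInducedBy (K := S) (h.le a.2) (hn.mpr hdP)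
  have hWn : ∀ y ∈ W, ∀ z : P, z * y * z⁻¹ ∈ W := by
    intro y hy z
    have h1 := hW (MulAut.conj z) (inn_le_autGroup hP (mem_inn.mpr ⟨z, fun _ => rfl⟩)) y hy
    exact h1
  let L : ℕ → Subgroup P := fun i => if i = 0 then ⊥ else if i = 1 then W else ⊤
  have hinv : ∀ i ≤ 2, ∀ b ∈ F.autGroup P, ∀ y ∈ L i, b y ∈ L i := by
    intro i _ b hb y hy
    by_cases h0 : i = 0
    · subst h0
      simp only [L, if_true, Subgroup.mem_bot] at hy ⊢
      rw [hy, map_one]
    by_cases h1 : i = 1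
    · subst h1
      simp only [L, one_ne_zero, if_false, if_true] at hy ⊢
      exact hW b hb y hy
    · simp [L, h0, h1]
  have hcW : ∀ y ∈ W, c y = y := fun y hy => Subtype.ext (by
    rw [hce, h.mul_comm' a.2 (hWA y hy), mul_inv_cancel_right])
  have hcq : ∀ y : P, y⁻¹ * c y ∈ W := by
    intro y
    let Y : Subgroup P :=
      { carrier := {y | y⁻¹ * c y ∈ W}
        one_mem' := by simp
        mul_mem' := fun {u v} hu hv => by
          show (u * v)⁻¹ * c (u * v) ∈ W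
          have h1 := hWn _ hu v⁻¹
          rw [map_mul, show (u * v)⁻¹ * (c u * c v) = v⁻¹ * (u⁻¹ * c u) * v⁻¹⁻¹ * (v⁻¹ * c v) by group]
          exact W.mul_mem h1 hv
        inv_mem' := fun {u} hu => by
          show u⁻¹⁻¹ * c u⁻¹ ∈ W
          have h1 := hWn _ (W.inv_mem hu) u
          rw [map_inv, show u⁻¹⁻¹ * (c u)⁻¹ = u * (u⁻¹ * c u)⁻¹ * u⁻¹ by group]
          exact h1 }
    have hxY : (⟨x, hxP⟩ : P) ∈ Y := by
      show (⟨x, hxP⟩ : P)⁻¹ * c ⟨x, hxP⟩ ∈ W
      have e1 : (⟨x, hxP⟩ : P)⁻¹ * c ⟨x, hxP⟩ = (⟨x, hxP⟩ : P)⁻¹ * (⟨_, hdP⟩ : P)⁻¹ * (⟨x, hxP⟩ : P)⁻¹⁻¹ := by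
        refine Subtype.ext ?_
        simp only [Subgroup.coe_mul, Subgroup.coe_inv, hce, he]
        group
      rw [e1]
      exact hWn _ (W.inv_mem hdW) _
    obtain ⟨i, hi⟩ := h.exists_decomp hx hxA (hP y.2)
    have hy1 : y * ((⟨x, hxP⟩ : P) ^ i)⁻¹ ∈ Y := by
      show (_ : P)⁻¹ * c _ ∈ W
      have e1 : c (y * ((⟨x, hxP⟩ : P) ^ i)⁻¹) = y * ((⟨x, hxP⟩ : P) ^ i)⁻¹ := Subtype.ext (by
        rw [hce]
        simp only [Subgroup.coe_mul, Subgroup.coe_inv, Subgroup.coe_pow]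
        rw [h.mul_comm' a.2 hi, mul_inv_cancel_right])
      rw [e1, inv_mul_cancel]
      exact W.one_mem
    have := Y.mul_mem hy1 (Y.pow_mem hxY i)
    rwa [inv_mul_cancel_right] at this
  have hstab : ∀ b ∈ seriesStabilizer F P 2 L hinv, (∀ y ∈ W, b y = y) ∧ ∀ y : P, y⁻¹ * b y ∈ W := by
    intro b hb
    refine ⟨fun y hy => ?_, fun y => ?_⟩
    · have := hb.2 0 (by norm_num) y (by simpa [L] using hy)
      simp only [L, if_true, Subgroup.mem_bot] at this
      exact (inv_mul_eq_one.mp this).symm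
    · have := hb.2 1 (by norm_num) y (by simp [L])
      simpa [L] using this
  have hK : c ∈ seriesStabilizer F P 2 L hinv := by
    refine ⟨autInducedBy_le_autGroup hP hc, fun i hi y hy => ?_⟩
    interval_cases i
    · simp only [L, Nat.zero_add, one_ne_zero, if_false, if_true] at hy
      simp only [L, if_true, Subgroup.mem_bot]
      rw [hcW y hy, inv_mul_cancel]
    · simpa [L] using hcq y
  have hKp : IsPGroup p (seriesStabilizer F P 2 L hinv) := by
    rintro ⟨b, hb⟩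
    obtain ⟨hb1, hb2⟩ := hstab b hb
    obtain ⟨k, hk⟩ := exists_pow_eq_one_of_stabilizes (h.isP.to_le hP) (n := 2) L
      (fun i hi => by interval_cases i <;> simp [L]) (by simp [L]) (α := b)
      ⟨0, fun y hy => by
        simp only [L, if_true, Subgroup.mem_bot] at hy
        rw [hy, map_one]⟩ hb.2
    exact ⟨k, Subtype.ext hk⟩
  exact (mem_inn_iff_mem hP (IsCentric.centralizerIn_le' hPc) (h.le a.2) hce).mp
    (le_inn_of_radical hPr (A := seriesStabilizer F P 2 L hinv) (fun b hb => hb.1) hKp (fun b hb b' hb' => seriesStabilizer_conj_mem hb hb') hK)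

/-- For an abelian essential subgroup `Z(S)⟨x⟩`, the group `Z(S) ∩ [x, A]` has order at most `p`. -/
theorem Setup.card_le_of_abelian (hF : F.IsSaturated p) (hx : x ∈ S) (hxA : x ∉ A) {P : Subgroup Ω}
    (hP : F.IsEssential p P) (hxP : x ∈ P) (hzP : zc S ≤ P) (hzA : zc S ≤ A)
    (hcap : ∀ y ∈ P, y ∈ A → y ∈ zc S) :
    Nat.card ((h.delta hx).ker ⊓ (h.delta hx).range : Subgroup A) ≤ p := by
  have hPS := hP.1.1
  have := finite_of_le hPS
  have := finite_of_le h.le
  have := finite_mulAut hPS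
  have : Finite ↥(zc S) := finite_of_le inf_le_left
  set Z' := (zc S).subgroupOf P with hZ'
  have hrad := radical_of_essential hP h.isP
  have hidx : Z'.index = p := by
    have h1 := h.card_inf hPS (fun hle => hxA (hle hxP))
    have h2 : P ⊓ A = zc S := le_antisymm (fun y hy => hcap y hy.1 hy.2) (le_inf hzP hzA)
    rw [h2] at h1
    have h3 := Subgroup.card_mul_index Z'
    rw [Nat.card_congr (Subgroup.subgroupOfEquivOfLe hzP).toEquiv, h1, mul_comm p] at h3
    exact Nat.eq_of_mul_eq_mul_left Nat.card_pos h3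
  by_cases hinv : ∀ a ∈ F.autGroup P, ∀ y ∈ Z', a y ∈ Z'
  · refine le_of_eq_of_le ?_ (Fact.out : p.Prime).one_le
    refine (Subgroup.card_eq_one).mpr (eq_bot_iff.mpr ?_)
    rintro b ⟨hbk, a, rfl⟩
    have hb : ((h.delta hx a : A) : Ω) ∈ zc S := (h.delta_eq_one hx hxA _).mp hbk
    have haP := h.mem_of_invariant hx hxA hP.1 hrad hxP Z' hinv (fun y hy => hzA hy) a
      ⟨hzP hb, hb⟩
    exact Subgroup.mem_bot.mpr ((h.delta_eq_one hx hxA a).mpr (hcap _ haP a.2))
  push Not at hinv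
  obtain ⟨g, hg, y₀, hy₀, hgy⟩ := hinv
  set Z'' := Z'.map g.toMonoidHom with hZ''
  set W := Z' ⊓ Z'' with hW
  let G1 : Subgroup (MulAut P) :=
    { carrier := {b | b ∈ F.autGroup P ∧ ∀ w ∈ W, b w = w}
      one_mem' := ⟨one_mem _, fun _ _ => rfl⟩
      mul_mem' := fun {b c} hb hc => ⟨mul_mem hb.1 hc.1, fun w hw => by
        rw [MulAut.mul_apply, hc.2 w hw, hb.2 w hw]⟩
      inv_mem' := fun {b} hb => ⟨inv_mem hb.1, fun w hw => by
        conv_lhs => rw [← hb.2 w hw]
        exact MulAut.inv_apply_self _ _ _⟩ }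
  obtain ⟨-, T, hT⟩ := (fullyNormalized_good h.isP hF hP.2.1).1
  have hUfix : ∀ b ∈ autInducedBy S P, ∀ z ∈ Z', b z = z := by
    intro b hb z hz
    obtain ⟨s, hs, hse⟩ := mem_autInducedBy.mp hb
    refine Subtype.ext ?_
    rw [hse, Subgroup.mem_centralizer_iff.mp (show (z : Ω) ∈ zc S from hz).2 s hs, mul_inv_cancel_right]
  set U := autInducedBy S P with hU
  set U' := U.map (MulAut.conj g).toMonoidHom with hU'
  have hU'fix : ∀ b ∈ U', ∀ z ∈ Z'', b z = z := by
    rintro _ ⟨b, hb, rfl⟩ _ ⟨z, hz, rfl⟩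
    show (g * b * g⁻¹) (g z) = g z
    rw [MulAut.mul_apply, MulAut.mul_apply, MulAut.inv_apply_self, hUfix b hb z hz]
  have hUG : U ≤ G1 := fun b hb => ⟨autInducedBy_le_autGroup hPS hb, fun w hw => hUfix b hb w hw.1⟩
  have hU'G : U' ≤ G1 := by
    rintro b hb
    refine ⟨?_, fun w hw => hU'fix b hb w hw.2⟩
    obtain ⟨b, hb, rfl⟩ := hb
    exact mul_mem (mul_mem hg (autInducedBy_le_autGroup hPS hb)) (inv_mem hg)
  let K : Subgroup G1 :=
    { carrier := {b | ∀ y : P, y⁻¹ * (b : MulAut P) y ∈ W}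
      one_mem' := fun y => by simp
      mul_mem' := fun {b c} hb hc y => by
        have := W.mul_mem (hc y) (hb ((c : MulAut P) y))
        rwa [mul_assoc, mul_inv_cancel_left] at this
      inv_mem' := fun {b} hb y => by
        have := W.inv_mem (hb ((b : MulAut P)⁻¹ y))
        rwa [MulAut.apply_inv_self, mul_inv_rev, inv_inv] at this }
  have hKn : K.Normal := ⟨fun b hb c y => by
    have h1 := hb (((c : MulAut P))⁻¹ y)
    have h2 := c.2.2 _ h1
    show y⁻¹ * ((c : MulAut P) * (b : MulAut P) * (c : MulAut P)⁻¹) y ∈ W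
    have e : y⁻¹ * ((c : MulAut P) * (b : MulAut P) * (c : MulAut P)⁻¹) y =
        (c : MulAut P) (((c : MulAut P)⁻¹ y)⁻¹ * (b : MulAut P) ((c : MulAut P)⁻¹ y)) := by
      rw [map_mul, map_inv, MulAut.apply_inv_self, MulAut.mul_apply, MulAut.mul_apply]
    rw [e, h2]
    exact h1⟩
  have hKp : IsPGroup p K := by
    rintro ⟨⟨b, hbG⟩, hb⟩
    obtain ⟨k, hk⟩ := exists_pow_eq_one_of_stabilizes (h.isP.to_le hPS) (n := 2)
      (fun i => if i = 0 then ⊥ else if i = 1 then W else ⊤)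
      (fun i hi => by interval_cases i <;> simp) (by simp) (α := b)
      ⟨0, fun y hy => by
        simp only [if_true, Subgroup.mem_bot] at hy
        rw [hy, map_one]⟩
      (fun i hi y hy => by
        interval_cases i
        · simp only [Nat.zero_add, one_ne_zero, if_false, if_true] at hy
          simp only [if_true, Subgroup.mem_bot]
          rw [hbG.2 y hy, inv_mul_cancel]
        · simpa using hb y)
    exact ⟨k, Subtype.ext (Subtype.ext hk)⟩
  -- both are Sylow subgroups of `G1`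
  have hsyl : ∀ V : Subgroup (MulAut P), V ≤ G1 → V ≤ F.autGroup P → IsPGroup p V →
      Nat.card V = Nat.card U → K ≤ V.subgroupOf G1 := by
    intro V hVG hVA hVp hVc
    have : ¬ p ∣ (V.subgroupOf G1).index := fun hd => by
      have hidxT : ¬ p ∣ U.relIndex (F.autGroup P) := by
        have := T.not_dvd_index
        rwa [hT] at this
      have e1 : U.relIndex (F.autGroup P) = V.relIndex (F.autGroup P) := by
        have a1 := Subgroup.card_mul_index (U.subgroupOf (F.autGroup P))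
        have a2 := Subgroup.card_mul_index (V.subgroupOf (F.autGroup P))
        rw [Nat.card_congr (Subgroup.subgroupOfEquivOfLe (autInducedBy_le_autGroup hPS)).toEquiv] at a1
        rw [Nat.card_congr (Subgroup.subgroupOfEquivOfLe hVA).toEquiv, hVc] at a2
        exact Nat.eq_of_mul_eq_mul_left Nat.card_pos (a1.trans a2.symm)
      refine hidxT (e1 ▸ hd.trans ?_)
      exact Dvd.intro _ (Subgroup.relIndex_mul_relIndex V G1 (F.autGroup P) hVG fun b hb => hb.1)
    let TV : Sylow p G1 := (hVp.comap_subtype (K := G1)).toSylow this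
    exact (CfsgLib.PCore.le_pCore hKn hKp).trans (CfsgLib.PCore.pCore_le_sylow TV)
  have hKU := hsyl U hUG (autInducedBy_le_autGroup hPS) (isPGroup_autInducedBy h.isP P) rfl
  have hKU' := hsyl U' hU'G (fun b hb => (hU'G hb).1) ((isPGroup_autInducedBy h.isP P).map _)
    (Nat.card_congr (Subgroup.equivMapOfInjective U _ (MulAut.conj g).injective).toEquiv).symm
  have hZZ : Z' ⊔ Z'' = ⊤ := by
    have hlt : Z' < Z' ⊔ Z'' := lt_of_le_of_ne le_sup_left fun e =>
      hgy (e.ge (Subgroup.mem_sup_right ⟨y₀, hy₀, rfl⟩))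
    have h1 := Subgroup.relIndex_mul_index hlt.le
    rw [hidx] at h1
    rcases (Nat.dvd_prime Fact.out).mp (Dvd.intro_left _ h1) with h2 | h2
    · exact Subgroup.index_eq_one.mp h2
    · rw [h2] at h1
      have h3 : Z'.relIndex (Z' ⊔ Z'') = 1 :=
        Nat.eq_of_mul_eq_mul_right (Fact.out : p.Prime).pos (h1.trans (one_mul p).symm)
      exact absurd (Subgroup.relIndex_eq_one.mp h3) (fun hle => hlt.not_ge hle)
  -- `Zc` meets `W` trivially
  let Zc : Subgroup A := (h.delta hx).ker ⊓ (h.delta hx).range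
  let f : A →* Ω := A.subtype
  have hzc : ∀ b ∈ Zc, (b : Ω) ∈ zc S := fun b hb => (h.delta_eq_one hx hxA b).mp hb.1
  let Zc' : Subgroup P := (Zc.map f).subgroupOf P
  have hZc'Z : Zc' ≤ Z' := by
    rintro y ⟨b, hb, hbe⟩
    show (y : Ω) ∈ zc S
    rw [← show ((b : A) : Ω) = (y : Ω) from hbe]
    exact hzc b hb
  have hinter : Zc' ⊓ W = ⊥ := by
    rw [eq_bot_iff]
    rintro y ⟨⟨b, ⟨hbk, a, rfl⟩, hbe⟩, hyW⟩
    have hdP : ((h.delta hx a : A) : Ω) ∈ P := hzP (hzc _ ⟨hbk, a, rfl⟩)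
    have hyd : y = ⟨_, hdP⟩ := Subtype.ext hbe.symm
    obtain ⟨hn, he⟩ := h.conj_by hx hPS hxP hxA a
    obtain ⟨c, hc, hce⟩ := exists_autInducedBy (K := S) (h.le a.2) (hn.mpr hdP)
    have hcK : (⟨c, hUG hc⟩ : G1) ∈ K := by
      intro w
      obtain ⟨i, hi⟩ := h.exists_decomp hx hxA (hPS w.2)
      have e0 : w = ⟨(w : Ω) * (x ^ i)⁻¹, P.mul_mem w.2 (P.inv_mem (P.pow_mem hxP i))⟩ * (⟨x, hxP⟩ : P) ^ i :=
        Subtype.ext (by simp)
      set w₁ : P := ⟨(w : Ω) * (x ^ i)⁻¹, P.mul_mem w.2 (P.inv_mem (P.pow_mem hxP i))⟩ with hw₁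
      have hw₁Z : (w₁ : Ω) ∈ zc S := hcap _ w₁.2 hi
      have e1 : c w₁ = w₁ := Subtype.ext (by
        rw [hce, h.mul_comm' a.2 hi, mul_inv_cancel_right])
      have e2 : c ⟨x, hxP⟩ = (⟨_, hdP⟩ : P)⁻¹ * ⟨x, hxP⟩ := Subtype.ext (by
        rw [hce]; exact he)
      have hd : ∀ v : P, Commute (⟨_, hdP⟩ : P) v := fun v => Subtype.ext
        (Subgroup.mem_centralizer_iff.mp (hzc _ ⟨hbk, a, rfl⟩).2 (v : Ω) (hPS v.2)).symm
      show w⁻¹ * c w ∈ W
      rw [e0, map_mul, map_pow, e1, e2, ((hd ⟨x, hxP⟩).inv_left).mul_pow]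
      have e3 : (w₁ * (⟨x, hxP⟩ : P) ^ i)⁻¹ * (w₁ * (((⟨_, hdP⟩ : P)⁻¹) ^ i * (⟨x, hxP⟩ : P) ^ i)) =
          ((⟨_, hdP⟩ : P)⁻¹) ^ i := by
        rw [(((hd ⟨x, hxP⟩).inv_left).pow_pow i i).eq]; group
      rw [e3]
      exact W.pow_mem (W.inv_mem (hyd ▸ hyW)) i
    have hcU' := hKU' hcK
    have hc1 : ∀ v : P, c v = v := by
      intro v
      have : (⊤ : Subgroup P) ≤ (MonoidHom.eqLocus c.toMonoidHom (MonoidHom.id P)) := by
        rw [← hZZ]
        exact sup_le (fun z hz => hUfix c hc z hz) fun z hz => hU'fix c hcU' z hz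
      exact this (Subgroup.mem_top v)
    have h2 := hce ⟨x, hxP⟩
    rw [hc1] at h2
    have h3 : (h.delta hx a : A) = 1 := by
      refine Subtype.ext ?_
      have h4 : x = ((h.delta hx a : A) : Ω)⁻¹ * x := h2.trans he
      exact inv_eq_one.mp (mul_right_cancel (b := x) (by rw [one_mul]; exact h4.symm))
    refine Subgroup.mem_bot.mpr (Subtype.ext ?_)
    rw [hyd]
    show ((h.delta hx a : A) : Ω) = 1
    rw [h3]; rfl
  have hcard : Nat.card Zc = Nat.card Zc' := by
    rw [Nat.card_congr (Subgroup.subgroupOfEquivOfLe (show Zc.map f ≤ P from fun y ⟨b, hb, e⟩ =>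
      e ▸ hzP (hzc b hb))).toEquiv,
      Nat.card_congr (Subgroup.equivMapOfInjective Zc f A.subtype_injective).toEquiv]
  show Nat.card Zc ≤ p
  rw [hcard, ← Subgroup.relIndex_bot_left, ← hinter, Subgroup.inf_relIndex_left]
  have h5 : W.relIndex Z' ≤ p := by
    rw [hW, Subgroup.inf_relIndex_left]
    have h6 : Z''.index = p := by
      rw [hZ'', Subgroup.index_map_of_bijective (f := g.toMonoidHom) g.bijective, hidx]
    rw [← h6, ← Subgroup.relIndex_top_right]
    exact Subgroup.relIndex_le_of_le_right le_top (by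
      rw [Subgroup.relIndex_top_right, h6]; exact (Fact.out : p.Prime).ne_zero)
  exact (Subgroup.relIndex_le_of_le_right hZc'Z (fun e => by
    have := Subgroup.index_ne_zero_of_finite (H := W.subgroupOf Z')
    exact this e)).trans h5

/-- The structure of an essential subgroup other than `A`. -/
theorem Setup.main (hF : F.IsSaturated p) (hna : ¬ IsMulCommutative S)
    (huniq : ∀ B : Subgroup Ω, B ≤ S → IsMulCommutative ↥B → (B.subgroupOf S).index = p → B = A)
    {P : Subgroup Ω} (hP : F.IsEssential p P) (hPA : P ≠ A) :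
    ∃ (x : Ω) (hx : x ∈ S), x ∉ A ∧ x ∈ P ∧
      Nat.card ((h.delta hx).ker ⊓ (h.delta hx).range : Subgroup A) = p ∧
      (P = zc S ⊔ Subgroup.zpowers x ∨
        P = (((h.delta hx).ker.comap (h.delta hx)).map A.subtype) ⊔ Subgroup.zpowers x) ∧
      (P.subgroupOf (S ⊓ Subgroup.normalizer (P : Set Ω))).index = p := by
  have hPS := hP.1.1
  have := finite_of_le hPS
  have := finite_of_le h.le
  have hC := IsCentric.centralizerIn_le' hP.1
  have hrad := radical_of_essential hP h.isP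
  have hzA : zc S ≤ A := fun z hz => by_contra fun hzA => hna (h.comm_of_zc_not_le hz hzA)
  have hzP : zc S ≤ P := fun z hz => hC (mem_centralizerIn.mpr ⟨hz.1, fun y hy =>
    Subgroup.mem_centralizer_iff.mp hz.2 y (hPS hy)⟩)
  have hnPA : ¬ P ≤ A := fun hle => hPA (le_antisymm hle fun a ha =>
    hC (mem_centralizerIn.mpr ⟨h.le ha, fun y hy => h.mul_comm' (hle hy) ha⟩))
  obtain ⟨x, hxP, hxA⟩ := SetLike.not_le_iff_exists.mp hnPA
  have hx : x ∈ S := hPS hxP
  refine ⟨x, hx, hxA, hxP, ?_⟩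
  set d := h.delta hx with hd
  set Zc : Subgroup A := d.ker ⊓ d.range with hZc
  set P0 : Subgroup A := P.subgroupOf A with hP0
  have hker : ∀ a : A, a ∈ d.ker ↔ (a : Ω) ∈ zc S := fun a => h.delta_eq_one hx hxA a
  have hkerP0 : d.ker ≤ P0 := fun a ha => hzP ((hker a).mp ha)
  -- `Z(S) ∩ [x, A]` is nontrivial
  have hne : ¬ P0.comap d ≤ P0 := by
    intro hle
    have hlt : P < S := lt_of_essential h.isP hF hP
    obtain ⟨w, hw, hwP⟩ := SetLike.exists_of_lt (lt_normalizerIn h.isP le_rfl hlt)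
    obtain ⟨i, hi⟩ := h.exists_decomp hx hxA hw.1
    have hn : w * (x ^ i)⁻¹ ∈ Subgroup.normalizer (P : Set Ω) :=
      mul_mem hw.2 (inv_mem (pow_mem (Subgroup.le_normalizer hxP) i))
    have := hle (x := (⟨_, hi⟩ : A)) ((h.conj_by hx hPS hxP hxA ⟨_, hi⟩).1.mp hn)
    refine hwP ?_
    have h2 := P.mul_mem this (P.pow_mem hxP i)
    rwa [show A.subtype ⟨w * (x ^ i)⁻¹, hi⟩ * x ^ i = w by simp] at h2
  have hcardP : Nat.card P = p * Nat.card P0 := by
    rw [h.card_inf hPS hnPA, hP0, ← Subgroup.inf_subgroupOf_right P A, Nat.card_congr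
      (Subgroup.subgroupOfEquivOfLe (inf_le_right : P ⊓ A ≤ A)).toEquiv]
  have hcardN : Nat.card (S ⊓ Subgroup.normalizer (P : Set Ω) : Subgroup Ω) = p * Nat.card (P0.comap d) := by
    rw [h.card_inf inf_le_left (fun hle => hxA (hle ⟨hx, Subgroup.le_normalizer hxP⟩))]
    congr 1
    rw [← Nat.card_congr (Subgroup.subgroupOfEquivOfLe
      (inf_le_right : (S ⊓ Subgroup.normalizer (P : Set Ω)) ⊓ A ≤ A)).toEquiv]
    refine congrArg (fun H : Subgroup A => Nat.card H) (SetLike.ext fun a => ?_)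
    rw [Subgroup.mem_subgroupOf, Subgroup.mem_comap, hP0, Subgroup.mem_subgroupOf]
    exact ⟨fun ha => (h.conj_by hx hPS hxP hxA a).1.mp ha.1.2,
      fun ha => ⟨⟨h.le a.2, (h.conj_by hx hPS hxP hxA a).1.mpr ha⟩, a.2⟩⟩
  -- the fibres of `d`
  have hfib : ∀ K : Subgroup A, Nat.card (K.comap d) = Nat.card d.ker * Nat.card (K ⊓ d.range : Subgroup A) := by
    intro K
    rw [card_split d (K.comap d), Subgroup.map_comap_eq, inf_comm d.range K,
      inf_eq_right.mpr (fun a (ha : d a = 1) => show d a ∈ K by rw [ha]; exact K.one_mem)]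
  have hZcpos : 2 ≤ Nat.card Zc := by
    -- `d` is not injective on its nontrivial range
    by_contra hlt
    push Not at hlt
    have hZc1 : Zc = ⊥ := Subgroup.card_eq_one.mp (by have := Nat.card_pos (α := Zc); omega)
    refine hne fun a ha => ?_
    have hN : ((Subgroup.map A.subtype d.range).subgroupOf S).Normal := by
      refine (Subgroup.normal_subgroupOf_iff ((Subgroup.map_subtype_le _).trans h.le)).mpr ?_
      rintro _ s ⟨_, ⟨b, rfl⟩, rfl⟩ hs
      obtain ⟨i, hi⟩ := h.exists_decomp hx hxA hs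
      refine ⟨d ⟨x ^ i * (b : Ω) * (x ^ i)⁻¹, h.conj_mem (S.pow_mem hx i) b.2⟩, ⟨_, rfl⟩, ?_⟩
      have hc := h.mul_comm' hi (h.conj_mem (S.pow_mem hx i) (d b).2)
      calc ((d ⟨x ^ i * (b : Ω) * (x ^ i)⁻¹, _⟩ : A) : Ω)
          = x ^ i * ((d b : A) : Ω) * (x ^ i)⁻¹ := by
            rw [hd, h.coe_delta, h.coe_delta]
            have e : x * x ^ i = x ^ i * x := by rw [← pow_succ', pow_succ]
            calc x * (x ^ i * (b : Ω) * (x ^ i)⁻¹) * x⁻¹ * (x ^ i * (b : Ω) * (x ^ i)⁻¹)⁻¹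
                = (x * x ^ i) * (b : Ω) * (x * x ^ i)⁻¹ * x ^ i * (b : Ω)⁻¹ * (x ^ i)⁻¹ := by group
              _ = _ := by rw [e]; group
        _ = s * (x ^ i)⁻¹ * (x ^ i * ((d b : A) : Ω) * (x ^ i)⁻¹) * (s * (x ^ i)⁻¹)⁻¹ := by
            rw [hc]; group
        _ = s * ((d b : A) : Ω) * s⁻¹ := by group
    have hR1 : (Subgroup.map A.subtype d.range).subgroupOf S = ⊥ := by
      by_contra hR
      have := hN
      have := (Subgroup.nontrivial_iff_ne_bot _).mpr hR
      obtain ⟨z, hz, hzc, hz1⟩ := CfsgLib.Techniques.KInf.exists_mem_center h.isP _ hR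
      obtain ⟨b, hb, hbe⟩ := hz
      have hbker : b ∈ d.ker := (hker b).mpr ⟨h.le b.2, Subgroup.mem_centralizer_iff.mpr fun s hs => by
        have := congrArg Subtype.val (Subgroup.mem_center_iff.mp hzc ⟨s, hs⟩)
        rwa [Subgroup.coe_mul, Subgroup.coe_mul, ← show (b : Ω) = (z : Ω) from hbe] at this⟩
      refine hz1 (Subtype.ext ?_)
      rw [← show (b : Ω) = (z : Ω) from hbe,
        Subgroup.mem_bot.mp (hZc1.le (show b ∈ Zc from ⟨hbker, hb⟩))]
      rfl
    refine hkerP0 ?_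
    have h1 : (⟨((d a : A) : Ω), h.le (d a).2⟩ : S) ∈ (Subgroup.map A.subtype d.range).subgroupOf S :=
      ⟨d a, ⟨a, rfl⟩, rfl⟩
    rw [hR1, Subgroup.mem_bot, Subtype.ext_iff] at h1
    exact MonoidHom.mem_ker.mpr (Subtype.ext h1)
  have hindex : Nat.card (P0.comap d) = p * Nat.card P0 →
      (P.subgroupOf (S ⊓ Subgroup.normalizer (P : Set Ω))).index = p := by
    intro he
    have h1 := Subgroup.card_mul_index (P.subgroupOf (S ⊓ Subgroup.normalizer (P : Set Ω)))
    rw [Nat.card_congr (Subgroup.subgroupOfEquivOfLe (le_inf hPS Subgroup.le_normalizer)).toEquiv, hcardN, he,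
      hcardP] at h1
    exact Nat.eq_of_mul_eq_mul_left (Nat.mul_pos (Fact.out : p.Prime).pos Nat.card_pos)
      (h1.trans (mul_comm _ _))
  have hge : ∀ Y : Subgroup A, Y ≤ d.ker ⊔ d.range → 2 ≤ Nat.card Y → p ≤ Nat.card Y := by
    intro Y _ h2
    obtain ⟨k, hk⟩ := IsPGroup.iff_card.mp ((h.isP.to_le h.le).to_subgroup Y)
    rw [hk] at h2 ⊢
    exact Nat.le_self_pow (by rintro rfl; simp at h2) p
  have hsup : P ≤ P0.map A.subtype ⊔ Subgroup.zpowers x := by
    intro y hy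
    obtain ⟨i, hi⟩ := h.exists_decomp hx hxA (hPS hy)
    rw [show y = y * (x ^ i)⁻¹ * x ^ i by group]
    exact Subgroup.mul_mem _ (Subgroup.mem_sup_left ⟨⟨_, hi⟩, P.mul_mem hy (P.inv_mem (P.pow_mem hxP i)), rfl⟩)
      (Subgroup.mem_sup_right (Subgroup.pow_mem _ (Subgroup.mem_zpowers x) i))
  have hsup' : ∀ Y : Subgroup A, P0 = Y → P = Y.map A.subtype ⊔ Subgroup.zpowers x := fun Y e => e ▸
    le_antisymm hsup (sup_le (fun y ⟨a, ha, e⟩ => e ▸ ha) (Subgroup.zpowers_le.mpr hxP))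
  by_cases hab : P0 = d.ker
  · -- abelian
    have hle := h.card_le_of_abelian hF hx hxA hP hxP hzP hzA fun y hy hyA =>
      (hker ⟨y, hyA⟩).mp (hab.le hy)
    have hZcp : Nat.card Zc = p := le_antisymm hle (hge Zc (inf_le_left.trans le_sup_left) hZcpos)
    refine ⟨hZcp, Or.inl ?_, hindex (by rw [hfib P0, hab, ← hZc, hZcp, mul_comm])⟩
    rw [hsup' d.ker hab]
    congr 1
    ext y
    exact ⟨fun ⟨a, ha, e⟩ => e ▸ (hker a).mp ha, fun hy => ⟨⟨y, hzA hy⟩, (hker _).mpr hy, rfl⟩⟩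
  -- nonabelian
  set Q0 := (P0.map A.subtype).subgroupOf P with hQ0
  have hQ0A : ∀ y ∈ Q0, (y : Ω) ∈ A := fun y hy => Subgroup.map_subtype_le _ hy
  have hQ0mem : ∀ y : P, y ∈ Q0 ↔ (y : Ω) ∈ A := fun y => ⟨hQ0A y, fun hy => ⟨⟨y, hy⟩, y.2, rfl⟩⟩
  have hQidx : Q0.index = p := by
    have h3 := Subgroup.card_mul_index Q0
    rw [Nat.card_congr (Subgroup.subgroupOfEquivOfLe
      (show P0.map A.subtype ≤ P from fun y ⟨a, ha, e⟩ => e ▸ ha)).toEquiv,
      ← Nat.card_congr (Subgroup.equivMapOfInjective P0 A.subtype A.subtype_injective).toEquiv, hcardP,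
      mul_comm p] at h3
    exact Nat.eq_of_mul_eq_mul_left Nat.card_pos h3
  obtain ⟨g, hg, y₀, hy₀, hgy⟩ : ∃ g ∈ F.autGroup P, ∃ y ∈ Q0, g y ∉ Q0 := by
    by_contra hall
    push Not at hall
    exact hne fun a ha => h.mem_of_invariant hx hxA hP.1 hrad hxP Q0 hall hQ0A a
      ⟨ha, ⟨d a, ha, rfl⟩⟩
  set Q1 := Q0.map g.toMonoidHom with hQ1
  -- elements of both are central
  have hcen : ∀ y : P, y ∈ Q0 → y ∈ Q1 → (y : Ω) ∈ zc S := by
    intro y hy0 hy1
    have hlt : Q0 < Q0 ⊔ Q1 := lt_of_le_of_ne le_sup_left fun e =>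
      hgy (e.ge (Subgroup.mem_sup_right ⟨y₀, hy₀, rfl⟩))
    have h1 := Subgroup.relIndex_mul_index hlt.le
    rw [hQidx] at h1
    have htop : Q0 ⊔ Q1 = ⊤ := by
      rcases (Nat.dvd_prime Fact.out).mp (Dvd.intro_left _ h1) with h2 | h2
      · exact Subgroup.index_eq_one.mp h2
      · rw [h2] at h1
        exact absurd (Subgroup.relIndex_eq_one.mp (Nat.eq_of_mul_eq_mul_right (Fact.out : p.Prime).pos
          (h1.trans (one_mul p).symm))) (fun hle => hlt.not_ge hle)
    have hc : Q0 ⊔ Q1 ≤ Subgroup.centralizer ({y} : Set P) := by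
      refine sup_le (fun z hz => Subgroup.mem_centralizer_singleton_iff.mpr
        (Subtype.ext (h.mul_comm' (hQ0A z hz) (hQ0A y hy0)))) ?_
      obtain ⟨w', hw', rfl⟩ := hy1
      rintro _ ⟨w, hw, rfl⟩
      refine Subgroup.mem_centralizer_singleton_iff.mpr ?_
      show g w * g w' = g w' * g w
      rw [← map_mul, ← map_mul]
      exact congrArg g (Subtype.ext (h.mul_comm' (hQ0A w hw) (hQ0A w' hw')))
    have hxc := Subgroup.mem_centralizer_singleton_iff.mp (hc (htop.ge (Subgroup.mem_top (⟨x, hxP⟩ : P))))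
    exact (h.mem_zc_iff hx hxA (hQ0A y hy0)).mpr (congrArg Subtype.val hxc)
  have hP0K2 : P0 ≤ d.ker.comap d := by
    intro a ha
    refine MonoidHom.mem_ker.mpr ((h.delta_eq_one hx hxA _).mpr ?_)
    have hdP : ((d a : A) : Ω) ∈ P :=
      P.mul_mem (P.mul_mem (P.mul_mem hxP ha) (P.inv_mem hxP)) (P.inv_mem ha)
    refine hcen ⟨_, hdP⟩ ((hQ0mem _).mpr (d a).2) ?_
    have : Q1.Normal := by
      have hi1 : Q1.index = p := by
        rw [hQ1, Subgroup.index_map_of_bijective (f := g.toMonoidHom) g.bijective, hQidx]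
      have hn : Q0.Normal := ⟨fun y hy z => (hQ0mem _).mpr (h.conj_mem (hPS z.2) (hQ0A y hy))⟩
      exact hn.map _ g.surjective
    have hq : (QuotientGroup.mk' Q1 ⟨_, hdP⟩ : P ⧸ Q1) = 1 := by
      have hc : ∀ u v : P ⧸ Q1, u * v = v * u := by
        have hq : Nat.card (P ⧸ Q1) = p := by
          rw [← Subgroup.index_eq_card, hQ1, Subgroup.index_map_of_bijective (f := g.toMonoidHom) g.bijective, hQidx]
        have := isCyclic_of_prime_card hq
        exact IsCyclic.commGroup.mul_comm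
      rw [show (⟨_, hdP⟩ : P) = (⟨x, hxP⟩ : P) * ⟨a, ha⟩ * (⟨x, hxP⟩ : P)⁻¹ * (⟨a, ha⟩ : P)⁻¹ from Subtype.ext rfl,
        map_mul, map_mul, map_mul, map_inv, map_inv, hc (QuotientGroup.mk' Q1 ⟨x, hxP⟩)]
      group
    exact (QuotientGroup.eq_one_iff _).mp hq
  have hK2P0 : d.ker.comap d ≤ P0 := by
    intro a ha
    refine h.mem_of_invariant hx hxA hP.1 hrad hxP ((Subgroup.center P)) (fun b _ y hy => ?_) (fun y hy => ?_) a ?_
    · refine Subgroup.mem_center_iff.mpr fun z => ?_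
      obtain ⟨z, rfl⟩ := b.surjective z
      rw [← map_mul, ← map_mul, Subgroup.mem_center_iff.mp hy z]
    · by_contra hyA
      -- a central element outside `A` would make `P` abelian
      refine hab (le_antisymm (fun a ha => ?_) hkerP0)
      refine (hker a).mpr ((h.mem_zc_iff (hPS y.2) hyA a.2).mpr ?_)
      exact (congrArg Subtype.val (Subgroup.mem_center_iff.mp hy ⟨a, ha⟩)).symm
    · have hz : ((d a : A) : Ω) ∈ zc S := (hker _).mp ha
      exact ⟨hzP hz, Subgroup.mem_center_iff.mpr fun z => Subtype.ext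
        (Subgroup.mem_centralizer_iff.mp hz.2 z (hPS z.2))⟩
  have hK2 : P0 = d.ker.comap d := le_antisymm hP0K2 hK2P0
  have hrel : Nat.card P0 ≤ p * Nat.card d.ker := by
    have e1 : Nat.card P0 = Nat.card Q0 := by
      rw [Nat.card_congr (Subgroup.subgroupOfEquivOfLe
        (show P0.map A.subtype ≤ P from fun y ⟨a, ha, e⟩ => e ▸ ha)).toEquiv,
        Nat.card_congr (Subgroup.equivMapOfInjective P0 A.subtype A.subtype_injective).toEquiv]
    rw [e1]
    have h1 := Subgroup.relIndex_mul_relIndex (⊥ : Subgroup P) (Q1 ⊓ Q0) Q0 bot_le inf_le_right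
    rw [Subgroup.relIndex_bot_left, Subgroup.relIndex_bot_left, Subgroup.inf_relIndex_right] at h1
    rw [← h1, mul_comm p]
    refine Nat.mul_le_mul ?_ ?_
    · have : Finite ↥(zc S) := finite_of_le inf_le_left
      rw [h.card_ker hx hxA hna]
      exact Nat.card_le_card_of_injective (fun y => (⟨((y : P) : Ω), hcen y y.2.2 y.2.1⟩ : zc S))
        fun u v e => Subtype.ext (Subtype.ext (congrArg (fun w : zc S => (w : Ω)) e))
    · have hi1 : Q1.index = p := by
        rw [hQ1, Subgroup.index_map_of_bijective (f := g.toMonoidHom) g.bijective, hQidx]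
      conv_rhs => rw [← hi1, ← Subgroup.relIndex_top_right]
      exact Subgroup.relIndex_le_of_le_right le_top (by
        rw [Subgroup.relIndex_top_right, hi1]; exact (Fact.out : p.Prime).ne_zero)
  have hZcp : Nat.card Zc = p := by
    refine le_antisymm ?_ (hge Zc (inf_le_left.trans le_sup_left) hZcpos)
    rw [hK2, hfib d.ker, ← hZc, mul_comm p] at hrel
    exact Nat.le_of_mul_le_mul_left hrel Nat.card_pos
  have hP0card : Nat.card P0 = p * Nat.card d.ker := by rw [hK2, hfib, ← hZc, hZcp, mul_comm]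
  refine ⟨hZcp, Or.inr (hsup' _ hK2), hindex ?_⟩
  rw [hfib P0, hP0card]
  refine le_antisymm ?_ ?_
  · calc Nat.card d.ker * Nat.card (P0 ⊓ d.range : Subgroup A)
        ≤ Nat.card d.ker * (p * p) := by
          refine Nat.mul_le_mul_left _ ?_
          have h1 := Subgroup.relIndex_mul_relIndex (⊥ : Subgroup A) (Zc) (P0 ⊓ d.range) bot_le
            (inf_le_inf_right _ hkerP0)
          rw [Subgroup.relIndex_bot_left, Subgroup.relIndex_bot_left, hZcp] at h1
          rw [← h1]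
          refine Nat.mul_le_mul_left _ ?_
          have h2 : d.ker.relIndex P0 = p := by
            have h3 := Subgroup.relIndex_mul_relIndex (⊥ : Subgroup A) d.ker P0 bot_le hkerP0
            rw [Subgroup.relIndex_bot_left, Subgroup.relIndex_bot_left, hP0card, mul_comm p] at h3
            exact Nat.eq_of_mul_eq_mul_left Nat.card_pos h3
          have h4 : Zc.relIndex (P0 ⊓ d.range) = d.ker.relIndex (P0 ⊓ d.range) := by
            rw [show Zc = d.ker ⊓ (P0 ⊓ d.range) from by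
              rw [← inf_assoc, inf_eq_left.mpr hkerP0], Subgroup.inf_relIndex_right]
          rw [h4, ← h2]
          exact Subgroup.relIndex_le_of_le_right inf_le_left (by rw [h2]; exact (Fact.out : p.Prime).ne_zero)
      _ = p * (p * Nat.card d.ker) := by ring
  · rw [← hP0card, ← hfib P0]
    have hlt : P0 < P0.comap d := lt_of_le_of_ne (hK2.le.trans (Subgroup.comap_mono hkerP0))
      fun e => hne e.ge
    exact MaxClass.mul_card_le_of_lt (h.isP.to_le h.le) hlt

end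

end CfsgLib.Fusion.AbelianIndexP
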