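import Cfsg.Agent.Lib.Fusion.AbelianIndexP
import Cfsg.Agent.Lib.Coprime.Basic

/-!
# Consequences of `|Z(S) ∩ [x, A]| = p`
-/

namespace CfsgLib.Fusion.AbelianIndexP

open Cfsg Cfsg.FusionSystem CfsgLib.Fusion
open scoped commutatorElement

universe u

variable {Ω : Type u} [Group Ω] {S A : Subgroup Ω} {x : Ω} {p : ℕ} [Finite S] [Fact p.Prime] (h : Setup p S A)

include h

/-- `[S, S] = [x, A]`. -/
theorem Setup.derived_eq (hx : x ∈ S) (hxA : x ∉ A) :
    (h.delta hx).range.map A.subtype = (commutator S).map S.subtype := by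
  set d := h.delta hx
  set R := d.range.map A.subtype with hR
  have hRA : R ≤ A := Subgroup.map_subtype_le _
  have hmemR : ∀ a : Ω, a ∈ A → x * a * x⁻¹ * a⁻¹ ∈ R := fun a ha => ⟨d ⟨a, ha⟩, ⟨_, rfl⟩, rfl⟩
  apply le_antisymm
  · rintro _ ⟨_, ⟨a, rfl⟩, rfl⟩
    exact ⟨⁅(⟨x, hx⟩ : S), ⟨a, h.le a.2⟩⁆, Subgroup.commutator_mem_commutator (Subgroup.mem_top _)
      (Subgroup.mem_top _), rfl⟩
  have hRn : (R.subgroupOf S).Normal := by
    refine (Subgroup.normal_subgroupOf_iff (hRA.trans h.le)).mpr ?_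
    rintro _ s ⟨_, ⟨b, rfl⟩, rfl⟩ hs
    obtain ⟨i, hi⟩ := h.exists_decomp hx hxA hs
    have hb' : x ^ i * (b : Ω) * (x ^ i)⁻¹ ∈ A := h.conj_mem (S.pow_mem hx i) b.2
    have hc := h.mul_comm' hi (h.conj_mem (S.pow_mem hx i) (d b).2)
    have e : s * ((d b : A) : Ω) * s⁻¹ = x * (x ^ i * (b : Ω) * (x ^ i)⁻¹) * x⁻¹ * (x ^ i * (b : Ω) * (x ^ i)⁻¹)⁻¹ := by
      calc s * ((d b : A) : Ω) * s⁻¹
          = s * (x ^ i)⁻¹ * (x ^ i * ((d b : A) : Ω) * (x ^ i)⁻¹) * (s * (x ^ i)⁻¹)⁻¹ := by group
        _ = x ^ i * ((d b : A) : Ω) * (x ^ i)⁻¹ := by rw [hc]; group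
        _ = x ^ i * x * (b : Ω) * (x ^ i * x)⁻¹ * (x ^ i) * (b : Ω)⁻¹ * (x ^ i)⁻¹ := by
            show x ^ i * (x * (b : Ω) * x⁻¹ * (b : Ω)⁻¹) * (x ^ i)⁻¹ = _
            group
        _ = _ := by rw [show x ^ i * x = x * x ^ i by rw [← pow_succ', pow_succ]]; group
    show s * ((d b : A) : Ω) * s⁻¹ ∈ R
    rw [e]
    exact hmemR _ hb'
  rw [Subgroup.map_le_iff_le_comap, commutator_def, Subgroup.commutator_le]
  intro s _ t _
  show ((⁅s, t⁆ : S) : Ω) ∈ R
  let π := QuotientGroup.mk' (R.subgroupOf S)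
  have hkey : ∀ a : S, (a : Ω) ∈ A → Commute (π ⟨x, hx⟩) (π a) := by
    intro a ha
    refine commutatorElement_eq_one_iff_mul_comm.mp ?_
    rw [← map_commutatorElement]
    exact (QuotientGroup.eq_one_iff _).mpr (hmemR a ha)
  have hAA : ∀ a b : S, (a : Ω) ∈ A → (b : Ω) ∈ A → Commute (π a) (π b) := fun a b ha hb =>
    ((show Commute a b from Subtype.ext (h.mul_comm' ha hb))).map π
  have hdec : ∀ s : S, ∃ a : S, (a : Ω) ∈ A ∧ ∃ i : ℕ, π s = π a * π ⟨x, hx⟩ ^ i := by
    intro s
    obtain ⟨i, hi⟩ := h.exists_decomp hx hxA s.2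
    refine ⟨⟨_, S.mul_mem s.2 (S.inv_mem (S.pow_mem hx i))⟩, hi, i, ?_⟩
    rw [← map_pow, ← map_mul]
    exact congrArg π (Subtype.ext (by simp))
  obtain ⟨a, ha, i, hs'⟩ := hdec s
  obtain ⟨b, hb, j, ht'⟩ := hdec t
  refine (Subgroup.mem_subgroupOf (K := S) (H := R) (h := ⁅s, t⁆)).mp ((QuotientGroup.eq_one_iff _).mp ?_)
  show π ⁅s, t⁆ = 1
  rw [map_commutatorElement, commutatorElement_eq_one_iff_mul_comm, hs', ht']
  exact (Commute.mul_left ((hAA a b ha hb).mul_right ((hkey a ha).symm.pow_right j))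
    (((hkey b hb).pow_left i).mul_right ((Commute.refl _).pow_pow i j))).eq

/-- The consequences of `|Z(S) ∩ [x, A]| = p`. -/
theorem Setup.consequences (hx : x ∈ S) (hxA : x ∉ A) (hna : ¬ IsMulCommutative S)
    (huniq : ∀ B : Subgroup Ω, B ≤ S → IsMulCommutative ↥B → (B.subgroupOf S).index = p → B = A)
    (hp : Nat.card ((h.delta hx).ker ⊓ (h.delta hx).range : Subgroup A) = p) :
    (Subgroup.upperCentralSeries ↥S 2).map S.subtype =
        ((h.delta hx).ker.comap (h.delta hx)).map A.subtype ∧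
      Nat.card ↥(zc S ⊓ (commutator ↥S).map S.subtype) = p ∧
      ((zc S ⊔ (commutator ↥S).map S.subtype).subgroupOf A).index = p ∧
      ((zc S).subgroupOf ((Subgroup.upperCentralSeries ↥S 2).map S.subtype)).index = p ∧
      ∀ m : ℕ, ((zc S).subgroupOf S).index = p ^ m → 3 ≤ m → ¬ Subgroup.lowerCentralSeries S (m - 2) ≤ zc S := by
  have := finite_of_le h.le
  set d := h.delta hx with hd
  have hzA : zc S ≤ A := fun z hz => by_contra fun hzA => hna (h.comm_of_zc_not_le hz hzA)
  have hker : d.ker.map A.subtype = zc S := by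
    ext y
    constructor
    · rintro ⟨a, ha, rfl⟩; exact (h.delta_eq_one hx hxA a).mp ha
    · intro hy; exact ⟨⟨y, hzA hy⟩, (h.delta_eq_one hx hxA _).mpr hy, rfl⟩
  have hder := h.derived_eq hx hxA
  have hmapcard : ∀ K : Subgroup A, Nat.card (K.map A.subtype) = Nat.card K := fun K =>
    (Nat.card_congr (Subgroup.equivMapOfInjective K A.subtype A.subtype_injective).toEquiv).symm
  have hsq := h.sq_le hna huniq
  have hcs := card_split d ⊤
  rw [top_inf_eq, Subgroup.card_top, ← MonoidHom.range_eq_map] at hcs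
  have hck := h.card_ker hx hxA hna
  have hrange : p < Nat.card d.range := by
    refine lt_of_mul_lt_mul_left' (a := Nat.card d.ker) ?_
    rw [← hcs, hck, mul_comm]
    exact hsq
  have hfib : ∀ K : Subgroup A, Nat.card (K.comap d) = Nat.card d.ker * Nat.card (K ⊓ d.range : Subgroup A) := by
    intro K
    rw [card_split d (K.comap d), Subgroup.map_comap_eq, inf_comm d.range K,
      inf_eq_right.mpr (fun a (ha : d a = 1) => show d a ∈ K by rw [ha]; exact K.one_mem)]
  have hcen : ∀ y : S, y ∈ Subgroup.center S ↔ (y : Ω) ∈ zc S := fun y => by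
    rw [Subgroup.mem_center_iff]
    refine ⟨fun hy => ⟨y.2, Subgroup.mem_centralizer_iff.mpr fun s hs =>
      congrArg Subtype.val (hy ⟨s, hs⟩)⟩, fun hy s => Subtype.ext (Subgroup.mem_centralizer_iff.mp hy.2 s s.2)⟩
  have hu2 : ∀ y : S, y ∈ Subgroup.upperCentralSeries S 2 ↔ ∀ s : S, ((⁅y, s⁆ : S) : Ω) ∈ zc S := fun y => by
    rw [Subgroup.mem_upperCentralSeries_succ_iff]
    refine forall_congr' fun s => ?_
    rw [Subgroup.upperCentralSeries_one, hcen, commutatorElement_def]
  have hZ2 : (Subgroup.upperCentralSeries ↥S 2).map S.subtype = (d.ker.comap d).map A.subtype := by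
    ext y
    constructor
    · rintro ⟨g, hg, rfl⟩
      rw [SetLike.mem_coe, hu2] at hg
      by_cases hgA : (g : Ω) ∈ A
      · refine ⟨⟨g, hgA⟩, MonoidHom.mem_ker.mpr ((h.delta_eq_one hx hxA _).mpr ?_), rfl⟩
        have h1 := (zc S).inv_mem (hg ⟨x, hx⟩)
        rw [← Subgroup.coe_inv, commutatorElement_inv, commutatorElement_def] at h1
        exact h1
      · exfalso
        have hg' := g.2
        have h2 : (h.delta hg').range ≤ (zc S).subgroupOf A := by
          rintro _ ⟨b, rfl⟩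
          exact hg ⟨b, h.le b.2⟩
        have h3 : d.range.map A.subtype = (h.delta hg').range.map A.subtype := by
          rw [h.derived_eq hx hxA, h.derived_eq hg' hgA]
        have h4 : Subgroup.map A.subtype d.range ≤ zc S := by
          rw [h3]
          rintro _ ⟨b, hb, rfl⟩
          exact h2 hb
        have h5 : d.range ≤ d.ker ⊓ d.range := le_inf (fun b hb =>
          (h.delta_eq_one hx hxA b).mpr (h4 ⟨b, hb, rfl⟩)) le_rfl
        have h6 := Subgroup.card_le_of_le h5
        omega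
    · rintro ⟨a, ha, rfl⟩
      have hda : ((d a : A) : Ω) ∈ zc S := (h.delta_eq_one hx hxA _).mp ha
      refine ⟨⟨a, h.le a.2⟩, (hu2 _).mpr fun s => ?_, rfl⟩
      obtain ⟨i, hi⟩ := h.exists_decomp hx hxA s.2
      let π := QuotientGroup.mk' (Subgroup.center S)
      have hax : Commute (π ⟨a, h.le a.2⟩) (π ⟨x, hx⟩) := by
        refine (commutatorElement_eq_one_iff_mul_comm.mp ?_).symm
        rw [← map_commutatorElement]
        exact (QuotientGroup.eq_one_iff _).mpr ((hcen _).mpr hda)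
      have hab : Commute (π ⟨a, h.le a.2⟩) (π ⟨_, S.mul_mem s.2 (S.inv_mem (S.pow_mem hx i))⟩) :=
        (show Commute (⟨a, h.le a.2⟩ : S) ⟨_, S.mul_mem s.2 (S.inv_mem (S.pow_mem hx i))⟩ from
          Subtype.ext (h.mul_comm' a.2 hi)).map π
      refine (hcen _).mp ((QuotientGroup.eq_one_iff _).mp ?_)
      show π ⁅_, s⁆ = 1
      rw [map_commutatorElement, commutatorElement_eq_one_iff_mul_comm]
      have h1 := hab.mul_right (hax.pow_right i)
      rw [← map_pow, ← map_mul] at h1
      rw [show s = ⟨_, S.mul_mem s.2 (S.inv_mem (S.pow_mem hx i))⟩ * (⟨x, hx⟩ : S) ^ i from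
        Subtype.ext (by simp)]
      exact h1.eq
  refine ⟨hZ2, ?_, ?_, ?_, ?_⟩
  · rw [← hder, ← hker, ← Subgroup.map_inf _ _ _ A.subtype_injective, hmapcard, hp]
  · rw [← hder, ← hker, ← Subgroup.map_sup, Subgroup.subgroupOf,
      Subgroup.comap_map_eq_self_of_injective A.subtype_injective]
    have hn : d.ker ≤ Subgroup.normalizer (d.range : Set A) := fun a _ => by
      have := h.comm
      have : d.range.Normal := ⟨fun b hb c => by
        rw [show c * b * c⁻¹ = b by rw [setLike_mul_comm (S := Subgroup A) (Subgroup.mem_top c) (Subgroup.mem_top b), mul_inv_cancel_right]]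
        exact hb⟩
      rw [Subgroup.normalizer_eq_top]; exact Subgroup.mem_top a
    have h1 := CfsgLib.Coprime.card_sup_mul_card_inf hn
    rw [inf_comm d.range d.ker, hp, ← hcs] at h1
    have h2 := Subgroup.card_mul_index (d.ker ⊔ d.range)
    rw [← h1] at h2
    exact Nat.eq_of_mul_eq_mul_left Nat.card_pos h2
  · rw [hZ2, ← hker]
    have hle : d.ker ≤ d.ker.comap d := fun a ha => by
      rw [Subgroup.mem_comap, MonoidHom.mem_ker.mp ha]; exact Subgroup.one_mem _
    have h1 := Subgroup.card_mul_index ((d.ker.map A.subtype).subgroupOf ((d.ker.comap d).map A.subtype))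
    rw [Nat.card_congr (Subgroup.subgroupOfEquivOfLe (Subgroup.map_mono hle)).toEquiv, hmapcard, hmapcard,
      hfib d.ker, hp] at h1
    exact Nat.eq_of_mul_eq_mul_left Nat.card_pos h1
  · intro m hm hm3 hle
    let D : ℕ → Subgroup A := fun k => (fun K : Subgroup A => K.comap d)^[k] ⊥
    have hmemD : ∀ k, ∀ a : A, a ∈ D k ↔ (⇑d)^[k] a = 1 := by
      intro k
      induction k with
      | zero => intro a; exact Subgroup.mem_bot
      | succ k ih =>
        intro a
        show a ∈ (fun K : Subgroup A => K.comap d)^[k + 1] ⊥ ↔ _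
        rw [Function.iterate_succ_apply', Function.iterate_succ_apply]
        exact ih (d a)
    have hbound : ∀ k, Nat.card (D k ⊓ d.range : Subgroup A) ≤ p ^ k := by
      intro k
      induction k with
      | zero => simp [D]
      | succ k ih =>
        rw [card_split d (D (k + 1) ⊓ d.range), pow_succ']
        refine Nat.mul_le_mul ?_ ?_
        · rw [← hp]; exact Subgroup.card_le_of_le (le_inf inf_le_right (inf_le_left.trans inf_le_right))
        · refine le_trans (Subgroup.card_le_of_le ?_) ih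
          rintro _ ⟨a, ha, rfl⟩
          refine ⟨(hmemD k _).mpr ?_, a, rfl⟩
          have := (hmemD (k + 1) a).mp ha.1
          rwa [Function.iterate_succ_apply] at this
    have hlcs : ∀ k, ∀ a : A, (((⇑d)^[k] a : A) : Ω) ∈ Subgroup.lowerCentralSeries S k := by
      intro k
      induction k with
      | zero => intro a; exact h.le a.2
      | succ k ih =>
        intro a
        rw [Function.iterate_succ_apply']
        have h1 := Subgroup.inv_mem _ (Subgroup.commutator_mem_commutator (ih a) hx)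
        rw [commutatorElement_inv] at h1
        exact h1
    have hall : ∀ a : A, a ∈ D (m - 2 + 1) := fun a => (hmemD _ a).mpr (by
      rw [Function.iterate_succ_apply']
      exact (h.delta_eq_one hx hxA _).mpr (hle (hlcs (m - 2) a)))
    have h1 : Nat.card A ≤ Nat.card d.ker * p ^ (m - 2) := by
      have h2 : Nat.card A = Nat.card (D (m - 2 + 1)) := by
        rw [show D (m - 2 + 1) = ⊤ from eq_top_iff.mpr fun a _ => hall a, Subgroup.card_top]
      rw [h2, show D (m - 2 + 1) = (D (m - 2)).comap d from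
        Function.iterate_succ_apply' (fun K : Subgroup A => K.comap d) _ _, hfib]
      exact Nat.mul_le_mul_left _ (hbound _)
    have h2 := Subgroup.card_mul_index ((zc S).subgroupOf S)
    obtain ⟨j, hj⟩ : ∃ j, m = j + 2 := ⟨m - 2, by omega⟩
    rw [Nat.card_congr (Subgroup.subgroupOfEquivOfLe (inf_le_left : zc S ≤ S)).toEquiv, hm, h.card, ← hck,
      hj, pow_add, sq] at h2
    rw [show m - 2 = j by omega] at h1
    have h3 : Nat.card A = Nat.card d.ker * p ^ j * p := by
      refine Nat.eq_of_mul_eq_mul_left (Fact.out : p.Prime).pos (h2.symm.trans ?_)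
      ring
    rw [h3] at h1
    have h4 : 0 < Nat.card d.ker * p ^ j := Nat.mul_pos Nat.card_pos (pow_pos (Fact.out : p.Prime).pos _)
    exact absurd ((Nat.le_of_mul_le_mul_left (h1.trans (mul_one _).ge) h4)) (not_le.mpr (Fact.out : p.Prime).one_lt)

end CfsgLib.Fusion.AbelianIndexP
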