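import Cfsg.Agent.Lib.Fusion.AbelianIndexPCor
import Cfsg.Agent.Lib.Fusion.Normal

/-!
# Saturated systems without normal subgroups over a group with an abelian subgroup of index `p` that is not
essential
-/

set_option autoImplicit false

namespace CfsgLib.Fusion.AbelianIndexP

open Cfsg Cfsg.FusionSystem CfsgLib.Fusion
open scoped IsMulCommutative commutatorElement

universe u

variable {Ω : Type u} [Group Ω] {S A : Subgroup Ω} {p : ℕ} [Finite S] [Fact p.Prime] {F : FusionSystem S}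

theorem commutative_zc : IsMulCommutative (zc S) :=
  ⟨⟨fun a b => Subtype.ext (Subgroup.mem_centralizer_iff.mp b.2.2 a a.2.1)⟩⟩

theorem normalizerIn_zc : normalizerIn S (zc S) = S :=
  inf_eq_left.mpr fun g hg => Subgroup.mem_normalizer_iff.mpr fun y => by
    constructor
    · intro hy
      rw [Subgroup.mem_centralizer_iff.mp hy.2 g hg, mul_inv_cancel_right]
      exact hy
    · intro hy
      have h := Subgroup.mem_centralizer_iff.mp hy.2 g hg
      have e : g * y * g⁻¹ = y := by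
        calc g * y * g⁻¹ = g⁻¹ * (g * (g * y * g⁻¹)) := by group
          _ = g⁻¹ * (g * y * g⁻¹ * g) := by rw [h]
          _ = y := by group
      rwa [e] at hy

/-- Maps between central elements extend to `S`. -/
theorem exists_extension_central (hS : IsPGroup p S) (hF : F.IsSaturated p) {R : Subgroup Ω} {φ : R →* Ω}
    (hφ : φ ∈ F.Hom R) (hR : R ≤ zc S) (hr : φ.range ≤ zc S) :
    ∃ ψ ∈ F.Hom S, ∀ y : R, ψ ⟨y, (hR y.2).1⟩ = φ y := by
  have hC : ∀ U : Subgroup Ω, U ≤ zc S → centralizerIn S U = S := fun U hU =>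
    inf_eq_left.mpr fun g hg => Subgroup.mem_centralizer_iff.mpr fun y hy =>
      (Subgroup.mem_centralizer_iff.mp (hU hy).2 g hg).symm
  have hfc : F.IsFullyCentralized φ.range := ⟨range_le_S hφ, fun U _ => by
    rw [hC _ hr]; exact Subgroup.card_le_of_le centralizerIn_le⟩
  exact exists_extension (receptive_of_fullyCentralized hS hF hfc) hφ rfl (hR.trans inf_le_left)
    ((hC R hR).ge.trans centralizerIn_le_extender)

/-- The elements of the centre fixed by all its automorphisms in `F` that centralize it modulo `[S, S]`. -/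
def fixZ (F : FusionSystem S) : Subgroup Ω where
  carrier := {y | ∃ hy : y ∈ zc S, ∀ γ ∈ F.autGroup (zc S),
    (∀ w : zc S, (w : Ω)⁻¹ * ((γ w : zc S) : Ω) ∈ (commutator S).map S.subtype) → γ ⟨y, hy⟩ = ⟨y, hy⟩}
  one_mem' := ⟨one_mem _, fun γ _ _ => map_one γ⟩
  mul_mem' := fun {a b} ⟨ha, ha'⟩ ⟨hb, hb'⟩ => ⟨mul_mem ha hb, fun γ h1 h2 => by
    rw [show (⟨a * b, _⟩ : zc S) = ⟨a, ha⟩ * ⟨b, hb⟩ from rfl, map_mul, ha' γ h1 h2, hb' γ h1 h2]⟩
  inv_mem' := fun {a} ⟨ha, ha'⟩ => ⟨inv_mem ha, fun γ h1 h2 => by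
    rw [show (⟨a⁻¹, _⟩ : zc S) = (⟨a, ha⟩ : zc S)⁻¹ from rfl, map_inv, ha' γ h1 h2]⟩

theorem fixZ_le : fixZ F ≤ zc S := fun _ hy => hy.1

omit [Fact p.Prime] [Finite S] in
theorem map_mem_derived {φ : S →* Ω} (hφ : φ ∈ F.Hom S) {w : S} (hw : (w : Ω) ∈ (commutator S).map S.subtype) :
    φ w ∈ (commutator S).map S.subtype := by
  have hw' : w ∈ commutator S := (Subgroup.mem_map_iff_mem S.subtype_injective).mp hw
  have h1 : (commutator S).map (φ.codRestrict S (apply_mem_S hφ)) ≤ commutator S := by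
    rw [commutator_def, Subgroup.map_commutator]
    exact Subgroup.commutator_mono le_top le_top
  exact ⟨_, h1 ⟨w, hw', rfl⟩, rfl⟩

/-- A map sending an element of `fixZ F` into the centre sends it into `fixZ F`. -/
theorem apply_mem_fixZ (hS : IsPGroup p S) (hF : F.IsSaturated p) {R : Subgroup Ω} {φ : R →* Ω}
    (hφ : φ ∈ F.Hom R) (y : R) (hy : (y : Ω) ∈ fixZ F) (hz : φ y ∈ zc S) : φ y ∈ fixZ F := by
  have hle : Subgroup.zpowers (y : Ω) ≤ R := Subgroup.zpowers_le.mpr y.2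
  obtain ⟨ψ, hψ, hψe⟩ := exists_extension_central hS hF (restrict_mem hle hφ)
    (Subgroup.zpowers_le.mpr (fixZ_le hy)) (by
      rintro _ ⟨⟨_, i, rfl⟩, rfl⟩
      show φ _ ∈ zc S
      rw [show Subgroup.inclusion hle ⟨(y : Ω) ^ i, i, rfl⟩ = y ^ i from Subtype.ext (by simp), map_zpow]
      exact Subgroup.zpow_mem _ hz i)
  have e : φ y = ψ ⟨y, (fixZ_le hy).1⟩ := ((hψe ⟨y, Subgroup.mem_zpowers _⟩).trans rfl).symm
  have hψr := range_eq_of_card_le hψ le_rfl (apply_mem_S hψ) le_rfl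
  have hψz : ∀ w : S, (w : Ω) ∈ zc S → ψ w ∈ zc S := by
    intro w hw
    refine ⟨apply_mem_S hψ w, Subgroup.mem_centralizer_iff.mpr fun s hs => ?_⟩
    obtain ⟨t, rfl⟩ := hψr.ge hs
    rw [← map_mul, ← map_mul]
    exact apply_eq_of_coe_eq (Subgroup.mem_centralizer_iff.mp hw.2 t t.2)
  have hzS : zc S ≤ S := inf_le_left
  have := finite_of_le hzS
  have hres := restrict_mem hzS hψ
  obtain ⟨δ, hδ, hδe⟩ := exists_aut hres (range_eq_of_card_le hres hzS (fun w => hψz _ w.2) le_rfl)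
  refine ⟨hz, fun γ hγ hγD => ?_⟩
  have hy' : (⟨φ y, hz⟩ : zc S) = δ ⟨y, fixZ_le hy⟩ := Subtype.ext (e.trans (hδe ⟨y, fixZ_le hy⟩).symm)
  rw [hy']
  obtain ⟨-, hfix⟩ := hy
  have h1 := hfix (δ⁻¹ * γ * δ) (mul_mem (mul_mem (inv_mem hδ) hγ) hδ) fun w => by
    obtain ⟨ψ', hψ', -, hψ'e⟩ := exists_map_of_mem_autGroup hzS (inv_mem hδ)
    obtain ⟨χ, hχ, hχe⟩ := exists_extension_central hS hF hψ' le_rfl (by
      rintro _ ⟨t, rfl⟩; rw [hψ'e]; exact SetLike.coe_mem _)
    set d : zc S := (δ w)⁻¹ * γ (δ w) with hd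
    have h3 : ((δ⁻¹ : MulAut (zc S)) d : Ω) ∈ (commutator S).map S.subtype := by
      rw [← hψ'e, ← hχe]
      exact map_mem_derived hχ (hγD (δ w))
    rw [hd, map_mul, map_inv, MulAut.inv_apply_self] at h3
    rw [MulAut.mul_apply, MulAut.mul_apply]
    exact h3
  rw [MulAut.mul_apply, MulAut.mul_apply] at h1
  have h2 := congrArg δ h1
  rwa [MulAut.apply_inv_self] at h2

variable (h : Setup p S A)
include h

/-- Central elements of an essential subgroup other than `Z(S)⟨x⟩` lie in `Z(S)`. -/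
theorem Setup.central_mem {x : Ω} (hx : x ∈ S) (hxA : x ∉ A) {P : Subgroup Ω} (hxP : x ∈ P) (hP : P ≤ S)
    (hne : ¬ P ≤ zc S ⊔ Subgroup.zpowers x) {w : Ω} (hw : w ∈ P) (hc : ∀ v ∈ P, v * w = w * v) :
    w ∈ zc S := by
  by_cases hwA : w ∈ A
  · exact (h.mem_zc_iff hx hxA hwA).mpr (hc x hxP)
  refine absurd (fun v hv => ?_) hne
  obtain ⟨i, hi⟩ := h.exists_decomp hx hxA (hP hv)
  have hvP : v * (x ^ i)⁻¹ ∈ P := P.mul_mem hv (P.inv_mem (P.pow_mem hxP i))
  rw [show v = v * (x ^ i)⁻¹ * x ^ i by group]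
  exact Subgroup.mul_mem _ (Subgroup.mem_sup_left ((h.mem_zc_iff (hP hw) hwA hi).mpr (hc _ hvP).symm))
    (Subgroup.mem_sup_right (Subgroup.pow_mem _ (Subgroup.mem_zpowers x) i))

/-- In an essential `Z(S)⟨x⟩`, automorphisms send `fixZ F` into the centre. -/
theorem Setup.aut_fixZ_mem (hF : F.IsSaturated p) (hp2 : p ≠ 2) (hna : ¬ IsMulCommutative S) {x : Ω}
    (hx : x ∈ S) (hxA : x ∉ A) (hD : Nat.card ↥(zc S ⊓ (commutator S).map S.subtype) = p)
    {P : Subgroup Ω} (hP : F.IsEssential p P) (hxP : x ∈ P) (hPe : P ≤ zc S ⊔ Subgroup.zpowers x)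
    {g : MulAut P} (hg : g ∈ F.autGroup P) (y : P) (hy : (y : Ω) ∈ fixZ F) : ((g⁻¹ y : P) : Ω) ∈ zc S := by
  have hp := (Fact.out : p.Prime)
  have hPS := hP.1.1
  have := finite_of_le hPS
  have := finite_mulAut hPS
  have hzS : zc S ≤ S := inf_le_left
  have := finite_of_le hzS
  have hzA : zc S ≤ A := fun z hz => by_contra fun hzA => hna (h.comm_of_zc_not_le hz hzA)
  have hzP : zc S ≤ P := fun z hz => IsCentric.centralizerIn_le' hP.1 (mem_centralizerIn.mpr
    ⟨hz.1, fun v hv => Subgroup.mem_centralizer_iff.mp hz.2 v (hPS hv)⟩)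
  set D := (commutator S).map S.subtype with hDd
  have hDA : D ≤ A := by
    rw [hDd, ← h.derived_eq hx hxA]; exact Subgroup.map_subtype_le _
  set Z' := (zc S).subgroupOf P with hZ'
  by_cases hinv : ∀ v ∈ Z', g v ∈ Z'
  · have heq : Z'.map g.toMonoidHom = Z' := by
      refine eq_of_le_of_card_le ?_ (le_of_eq ?_)
      · rintro _ ⟨v, hv, rfl⟩; exact hinv v hv
      · exact Nat.card_congr (Subgroup.equivMapOfInjective Z' g.toMonoidHom g.injective).toEquiv
    obtain ⟨u, hu, hue⟩ := heq.ge (show y ∈ Z' from fixZ_le hy)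
    rw [← hue]
    show ((g⁻¹ (g u) : P) : Ω) ∈ zc S
    rw [MulAut.inv_apply_self]
    exact hu
  -- `P` is abelian and `P ∩ A = Z(S)`
  have hcap : ∀ v ∈ P, v ∈ A → v ∈ zc S := by
    intro v hv hvA
    refine (h.mem_zc_iff hx hxA hvA).mpr ?_
    have hc : P ≤ Subgroup.centralizer {x} := hPe.trans (sup_le (fun z hz =>
      Subgroup.mem_centralizer_singleton_iff.mpr (Subgroup.mem_centralizer_iff.mp hz.2 x hx).symm)
      (Subgroup.zpowers_le.mpr (Subgroup.mem_centralizer_singleton_iff.mpr rfl)))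
    exact (Subgroup.mem_centralizer_singleton_iff.mp (hc hv)).symm
  have hPab : ∀ u v : P, u * v = v * u := by
    intro u v
    have hc : P ≤ Subgroup.centralizer (P : Set Ω) := by
      refine hPe.trans (sup_le (fun z hz => Subgroup.mem_centralizer_iff.mpr fun w hw =>
        Subgroup.mem_centralizer_iff.mp hz.2 w (hPS hw)) (Subgroup.zpowers_le.mpr ?_))
      refine Subgroup.mem_centralizer_iff.mpr fun w hw => ?_
      have hwx : P ≤ Subgroup.centralizer {x} := hPe.trans (sup_le (fun z hz =>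
        Subgroup.mem_centralizer_singleton_iff.mpr (Subgroup.mem_centralizer_iff.mp hz.2 x hx).symm)
        (Subgroup.zpowers_le.mpr (Subgroup.mem_centralizer_singleton_iff.mpr rfl)))
      exact Subgroup.mem_centralizer_singleton_iff.mp (hwx hw)
    exact Subtype.ext (Subgroup.mem_centralizer_iff.mp (hc v.2) u u.2)
  have hidx : Z'.index = p := by
    have h1 := h.card_inf hPS (fun hle => hxA (hle hxP))
    have h2 : P ⊓ A = zc S := le_antisymm (fun y hy => hcap y hy.1 hy.2) (le_inf hzP hzA)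
    rw [h2] at h1
    have h3 := Subgroup.card_mul_index Z'
    rw [Nat.card_congr (Subgroup.subgroupOfEquivOfLe hzP).toEquiv, h1, mul_comm p] at h3
    exact Nat.eq_of_mul_eq_mul_left Nat.card_pos h3
  obtain ⟨-, T, hT⟩ := (fullyNormalized_good h.isP hF hP.2.1).1
  set U := autInducedBy S P with hU
  have hUmem : ∀ b ∈ U, ∀ v : P, v ∈ Z' → b v = v := by
    intro b hb v hv
    obtain ⟨s, hs, hse⟩ := mem_autInducedBy.mp hb
    refine Subtype.ext ?_
    rw [hse, Subgroup.mem_centralizer_iff.mp (show (v : Ω) ∈ zc S from hv).2 s hs, mul_inv_cancel_right]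
  have hUD : ∀ b ∈ U, ∀ v : P, ((v⁻¹ * b v : P) : Ω) ∈ zc S ⊓ D := by
    intro b hb v
    obtain ⟨s, hs, hse⟩ := mem_autInducedBy.mp hb
    have hDm : ((v⁻¹ * b v : P) : Ω) ∈ D := by
      refine ⟨⁅(⟨v, hPS v.2⟩ : S)⁻¹, ⟨s, hs⟩⁆, Subgroup.commutator_mem_commutator (Subgroup.mem_top _)
        (Subgroup.mem_top _), ?_⟩
      rw [Subgroup.coe_mul, Subgroup.coe_inv, hse]
      simp [commutatorElement_def, mul_assoc]
    exact ⟨hcap _ (SetLike.coe_mem _) (hDA hDm), hDm⟩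
  -- a nontrivial induced automorphism
  obtain ⟨c₀, hc₀, hc₀1⟩ : ∃ c ∈ U, c ≠ 1 := by
    obtain ⟨w, hw, hwP⟩ := SetLike.exists_of_lt (lt_normalizerIn h.isP le_rfl (lt_of_essential h.isP hF hP))
    obtain ⟨c, hc, hce⟩ := exists_autInducedBy (K := S) hw.1 hw.2
    refine ⟨c, hc, fun e => hwP (IsCentric.centralizerIn_le' hP.1 (mem_centralizerIn.mpr ⟨hw.1, fun v hv => ?_⟩))⟩
    have := hce ⟨v, hv⟩
    rw [e, MulAut.one_apply] at this
    exact (mul_inv_eq_iff_eq_mul.mp this.symm).symm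
  push Not at hinv
  obtain ⟨v₀, hv₀, hgv₀⟩ := hinv
  set Z'' := Z'.map g.toMonoidHom with hZ''
  set W := Z' ⊓ Z'' with hW
  have hjoin : Z' ⊔ Z'' = ⊤ := by
    have hlt : Z' < Z' ⊔ Z'' := lt_of_le_of_ne le_sup_left fun e =>
      hgv₀ (e.ge (Subgroup.mem_sup_right ⟨v₀, hv₀, rfl⟩))
    have h1 := Subgroup.relIndex_mul_index hlt.le
    rw [hidx] at h1
    rcases (Nat.dvd_prime Fact.out).mp (Dvd.intro_left _ h1) with h2 | h2
    · exact Subgroup.index_eq_one.mp h2
    · rw [h2] at h1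
      exact absurd (Subgroup.relIndex_eq_one.mp (Nat.eq_of_mul_eq_mul_right hp.pos
        (h1.trans (one_mul p).symm))) (fun hle => hlt.not_ge hle)
  set U' := U.map (MulAut.conj g).toMonoidHom with hU'
  have hU'fix : ∀ b ∈ U', ∀ v ∈ Z'', b v = v := by
    rintro _ ⟨b, hb, rfl⟩ _ ⟨v, hv, rfl⟩
    show (g * b * g⁻¹) (g v) = g v
    rw [MulAut.mul_apply, MulAut.mul_apply, MulAut.inv_apply_self, hUmem b hb v hv]
  have hboth : ∀ b, b ∈ U → b ∈ U' → b = 1 := by
    intro b hb hb'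
    have hle : (⊤ : Subgroup P) ≤ (b.toMonoidHom.eqLocus (MonoidHom.id P)) := hjoin ▸
      sup_le (fun v hv => hUmem b hb v hv) (fun v hv => hU'fix b hb' v hv)
    exact MulEquiv.ext fun v => hle (Subgroup.mem_top v)
  -- the kernel on `P / W` of the automorphisms fixing `W`
  let G1 : Subgroup (MulAut P) :=
    { carrier := {b | b ∈ F.autGroup P ∧ ∀ w ∈ W, b w = w}
      one_mem' := ⟨one_mem _, fun _ _ => rfl⟩
      mul_mem' := fun {b c} hb hc => ⟨mul_mem hb.1 hc.1, fun w hw => by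
        rw [MulAut.mul_apply, hc.2 w hw, hb.2 w hw]⟩
      inv_mem' := fun {b} hb => ⟨inv_mem hb.1, fun w hw => by
        conv_lhs => rw [← hb.2 w hw]
        exact MulAut.inv_apply_self _ _ _⟩ }
  have hUG : U ≤ G1 := fun b hb => ⟨autInducedBy_le_autGroup hPS hb, fun w hw => hUmem b hb w hw.1⟩
  have hU'G : U' ≤ G1 := by
    intro b hb
    refine ⟨?_, fun w hw => hU'fix b hb w hw.2⟩
    obtain ⟨b, hb, rfl⟩ := hb
    exact mul_mem (mul_mem hg (autInducedBy_le_autGroup hPS hb)) (inv_mem hg)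
  let K : Subgroup G1 :=
    { carrier := {b | ∀ v : P, v⁻¹ * (b : MulAut P) v ∈ W}
      one_mem' := fun y => by simp
      mul_mem' := fun {b c} hb hc y => by
        have := W.mul_mem (hc y) (hb ((c : MulAut P) y))
        rwa [mul_assoc, mul_inv_cancel_left] at this
      inv_mem' := fun {b} hb y => by
        have := W.inv_mem (hb ((b : MulAut P)⁻¹ y))
        rwa [MulAut.apply_inv_self, mul_inv_rev, inv_inv] at this }
  have hKn : K.Normal := ⟨fun b hb c y => by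
    have h1 := hb (((c : MulAut P))⁻¹ y)
    have h2 := c.2.2 _ h1
    show y⁻¹ * ((c : MulAut P) * (b : MulAut P) * (c : MulAut P)⁻¹) y ∈ W
    have e : y⁻¹ * ((c : MulAut P) * (b : MulAut P) * (c : MulAut P)⁻¹) y =
        (c : MulAut P) (((c : MulAut P)⁻¹ y)⁻¹ * (b : MulAut P) ((c : MulAut P)⁻¹ y)) := by
      rw [map_mul, map_inv, MulAut.apply_inv_self, MulAut.mul_apply, MulAut.mul_apply]
    rw [e, h2]
    exact h1⟩
  have hKp : IsPGroup p K := by
    rintro ⟨⟨b, hbG⟩, hb⟩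
    obtain ⟨k, hk⟩ := exists_pow_eq_one_of_stabilizes (h.isP.to_le hPS) (n := 2)
      (fun i => if i = 0 then ⊥ else if i = 1 then W else ⊤)
      (fun i hi => by interval_cases i <;> simp) (by simp) (α := b)
      ⟨0, fun y hy => by
        simp only [if_true, Subgroup.mem_bot] at hy
        rw [hy, map_one]⟩ (by
        intro i hi y hy
        interval_cases i
        · simp only [zero_add, one_ne_zero, if_false, if_true] at hy ⊢
          simp [hbG.2 y hy]
        · simp only [one_ne_zero, if_false, if_true]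
          exact hb y)
    exact ⟨k, Subtype.ext (Subtype.ext hk)⟩
  -- `K` lies in both Sylow subgroups
  have hKU : ∀ b : G1, b ∈ K → ∀ V : Subgroup (MulAut P), V ≤ G1 → Nat.card V = Nat.card U → IsPGroup p V →
      (b : MulAut P) ∈ V := by
    intro b hb V hVG hVc hVp
    have hVA : V ≤ F.autGroup P := fun v hv => (hVG hv).1
    have hj : IsPGroup p ↥(K ⊔ V.subgroupOf G1) :=
      hKp.to_sup_of_normal_left (hVp.comap_of_injective G1.subtype G1.subtype_injective)
    have hKA : (K ⊔ V.subgroupOf G1).map G1.subtype ≤ F.autGroup P := by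
      rintro _ ⟨v, -, rfl⟩; exact v.2.1
    obtain ⟨R, hR⟩ := (((hj.map G1.subtype).comap_subtype (K := F.autGroup P))).exists_le_sylow
    have e1 : V ≤ (K ⊔ V.subgroupOf G1).map G1.subtype := by
      intro v hv
      exact ⟨⟨v, hVG hv⟩, Subgroup.mem_sup_right hv, rfl⟩
    have e2 : Nat.card ↥((K ⊔ V.subgroupOf G1).map G1.subtype) ≤ Nat.card V := by
      rw [← Nat.card_congr (Subgroup.subgroupOfEquivOfLe hKA).toEquiv, hVc,
        ← Nat.card_congr (Subgroup.subgroupOfEquivOfLe (autInducedBy_le_autGroup (F := F) hPS)).toEquiv]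
      refine (Subgroup.card_le_of_le hR).trans (le_of_eq ?_)
      rw [← hT]
      exact R.card_eq_multiplicity.trans T.card_eq_multiplicity.symm
    rw [eq_of_le_of_card_le e1 e2]
    exact ⟨b, Subgroup.mem_sup_left hb, rfl⟩
  have hKbot : ∀ b : G1, b ∈ K → (b : MulAut P) = 1 := fun b hb => hboth _
    (hKU b hb U hUG rfl (isPGroup_autInducedBy h.isP P))
    (hKU b hb U' hU'G (Nat.card_congr (Subgroup.equivMapOfInjective U (MulAut.conj g).toMonoidHom
      (MulAut.conj g).injective).symm.toEquiv) ((isPGroup_autInducedBy h.isP P).map _))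
  -- a generator of `Z(S) ∩ [S, S]`, outside `W`
  set Z₀ := (zc S ⊓ D).subgroupOf P with hZ₀
  have hZ₀c : Nat.card Z₀ = p := by
    rw [Nat.card_congr (Subgroup.subgroupOfEquivOfLe ((inf_le_left).trans hzP)).toEquiv, hD]
  have := isCyclic_of_prime_card hZ₀c
  obtain ⟨v₁, hv₁⟩ : ∃ v, v⁻¹ * c₀ v ≠ 1 := by
    by_contra hc
    push Not at hc
    exact hc₀1 (MulEquiv.ext fun v => (inv_mul_eq_one.mp (hc v)).symm)
  set z0 : P := v₁⁻¹ * c₀ v₁ with hz0
  have hz0Z₀ : z0 ∈ Z₀ := hUD c₀ hc₀ v₁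
  have hgen : ∀ v ∈ Z₀, v ∈ Subgroup.zpowers z0 := by
    intro v hv
    have hle : Subgroup.zpowers z0 ≤ Z₀ := Subgroup.zpowers_le.mpr hz0Z₀
    have hcd := Subgroup.card_dvd_of_le hle
    rw [hZ₀c, Nat.card_zpowers] at hcd
    rcases (Nat.dvd_prime hp).mp hcd with h1 | h1
    · exact absurd (orderOf_eq_one_iff.mp h1) hv₁
    · rw [eq_of_le_of_card_le hle (by rw [Nat.card_zpowers, h1, hZ₀c])]
      exact hv
  have hz0p : orderOf z0 = p := by
    refine orderOf_eq_prime ?_ hv₁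
    have : (⟨z0, hz0Z₀⟩ : Z₀) ^ p = 1 := by rw [← hZ₀c]; exact pow_card_eq_one'
    exact congrArg Subtype.val this
  have hz0W : z0 ∉ W := by
    intro hw
    refine hc₀1 (hKbot ⟨c₀, hUG hc₀⟩ fun v => ?_)
    obtain ⟨i, hi⟩ := hgen (v⁻¹ * c₀ v) (hUD c₀ hc₀ v)
    rw [← show z0 ^ i = v⁻¹ * c₀ v from hi]
    exact W.zpow_mem hw i
  set z1 := g z0 with hz1d
  have hz1p : orderOf z1 = p := by rw [hz1d, MulEquiv.orderOf_eq, hz0p]
  have hz0Z : z0 ∈ Z' := hz0Z₀.1
  have hz1Z : z1 ∈ Z'' := ⟨z0, hz0Z, rfl⟩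
  have hz1W : z1 ∉ Z' := by
    intro hz1'
    have hw : z1 ∈ W := ⟨hz1', hz1Z⟩
    refine hc₀1 ?_
    have hm : g * c₀ * g⁻¹ ∈ U' := ⟨c₀, hc₀, rfl⟩
    have h1 := hKbot ⟨_, hU'G hm⟩ (fun v => ?_)
    · calc c₀ = g⁻¹ * (g * c₀ * g⁻¹) * g := by group
        _ = 1 := by rw [show g * c₀ * g⁻¹ = 1 from h1]; group
    · obtain ⟨i, hi⟩ := hgen ((g⁻¹ v)⁻¹ * c₀ (g⁻¹ v)) (hUD c₀ hc₀ (g⁻¹ v))
      have h2 : z1 ^ i = v⁻¹ * (g * c₀ * g⁻¹) v := by
        rw [hz1d, ← map_zpow, show z0 ^ i = _ from hi, map_mul, map_inv, MulAut.apply_inv_self]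
        rfl
      show v⁻¹ * (g * c₀ * g⁻¹) v ∈ W
      rw [← h2]
      exact W.zpow_mem hw i
  -- the transvections
  have key : ∀ (V : Subgroup (MulAut P)) (Y : Subgroup P) (s t : P) (c : MulAut P), c ∈ V →
      (∀ b ∈ V, ∀ v ∈ Y, b v = v) → s ∈ Y → t ∉ Y → orderOf s = p → c ≠ 1 → Y.index = p →
      (∀ v, v⁻¹ * c v ∈ Subgroup.zpowers s) → ∃ b ∈ V, b t = t * s := by
    intro V Y s t c hc hY hs ht hsp hc1 hYi hcs
    obtain ⟨i, hi⟩ := hcs t
    have hi' : s ^ i = t⁻¹ * c t := hi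
    have hYt : Y ⊔ Subgroup.zpowers t = ⊤ := by
      have hlt : Y < Y ⊔ Subgroup.zpowers t := lt_of_le_of_ne le_sup_left fun e =>
        ht (e.ge (Subgroup.mem_sup_right (Subgroup.mem_zpowers t)))
      have h1 := Subgroup.relIndex_mul_index hlt.le
      rw [hYi] at h1
      rcases (Nat.dvd_prime Fact.out).mp (Dvd.intro_left _ h1) with h2 | h2
      · exact Subgroup.index_eq_one.mp h2
      · rw [h2] at h1
        exact absurd (Subgroup.relIndex_eq_one.mp (Nat.eq_of_mul_eq_mul_right hp.pos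
          (h1.trans (one_mul p).symm))) (fun hle => hlt.not_ge hle)
    have hni : ¬ (p : ℤ) ∣ i := by
      rintro ⟨k, rfl⟩
      rw [zpow_mul, zpow_natCast, ← hsp, pow_orderOf_eq_one, one_zpow] at hi'
      have hle : (⊤ : Subgroup P) ≤ (c.toMonoidHom.eqLocus (MonoidHom.id P)) := hYt ▸
        sup_le (fun v hv => hY c hc v hv) (Subgroup.zpowers_le.mpr (inv_mul_eq_one.mp hi'.symm).symm)
      exact hc1 (MulEquiv.ext fun v => hle (Subgroup.mem_top v))
    have hco : IsCoprime i (p : ℤ) := by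
      rw [Int.isCoprime_iff_nat_coprime, Int.natAbs_natCast, Nat.coprime_comm, hp.coprime_iff_not_dvd,
        ← Int.natCast_dvd]
      exact hni
    obtain ⟨a, b, hab⟩ := hco
    have hct : c t = t * s ^ i := by rw [hi', mul_inv_cancel_left]
    have hcs' : c (s ^ i) = s ^ i := hY c hc _ (Y.zpow_mem hs i)
    have hpow : ∀ k : ℕ, (c ^ k) t = t * (s ^ i) ^ k := by
      intro k
      induction k with
      | zero => simp
      | succ k ih => rw [pow_succ', MulAut.mul_apply, ih, map_mul, map_pow, hcs', hct, mul_assoc, ← pow_succ']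
    refine ⟨c ^ (a % p).toNat, V.pow_mem hc _, ?_⟩
    rw [hpow, ← zpow_natCast, Int.toNat_of_nonneg (Int.emod_nonneg _ (by exact_mod_cast hp.ne_zero)), ← zpow_mul]
    congr 1
    conv_rhs => rw [← zpow_one s]
    refine zpow_eq_zpow_iff_modEq.mpr ?_
    rw [hsp, ← hab]
    refine (Int.ModEq.mul_left i (Int.mod_modEq a p)).trans ?_
    rw [Int.modEq_iff_dvd]
    exact ⟨b, by ring⟩
  have hidx'' : Z''.index = p := by
    rw [hZ'', Subgroup.index_map_of_bijective (f := g.toMonoidHom) g.bijective, hidx]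
  obtain ⟨e1, he1, he1t⟩ := key U Z' z0 z1 c₀ hc₀ hUmem hz0Z hz1W hz0p hc₀1 hidx fun v => hgen (v⁻¹ * c₀ v) (hUD c₀ hc₀ v)
  obtain ⟨e2, he2, he2t⟩ := key U' Z'' z1 z0 (g * c₀ * g⁻¹) ⟨c₀, hc₀, rfl⟩ hU'fix hz1Z
    (fun hc => hz0W ⟨hz0Z, hc⟩) hz1p (fun e => hc₀1 (by
      calc c₀ = g⁻¹ * (g * c₀ * g⁻¹) * g := by group
        _ = 1 := by rw [e]; group)) hidx'' (fun v => by
      obtain ⟨i, hi⟩ := hgen ((g⁻¹ v)⁻¹ * c₀ (g⁻¹ v)) (hUD c₀ hc₀ (g⁻¹ v))
      refine ⟨i, ?_⟩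
      show z1 ^ i = _
      rw [hz1d, ← map_zpow, show z0 ^ i = _ from hi, map_mul, map_inv, MulAut.apply_inv_self]
      rfl)
  -- an element inverting `z0` and fixing `W`
  have he2i : e2⁻¹ z0 = z0 * z1⁻¹ := e2.injective (by
    rw [MulAut.apply_inv_self, map_mul, map_inv, he2t, hU'fix e2 he2 z1 hz1Z, mul_inv_cancel_right])
  set w := e1 * e2⁻¹ * e1 with hwd
  have he1z0 : e1 z0 = z0 := hUmem e1 he1 z0 hz0Z
  have he2z1 : e2⁻¹ z1 = z1 := e2.injective (by rw [MulAut.apply_inv_self, hU'fix e2 he2 z1 hz1Z])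
  have hw0 : w z0 = z1⁻¹ := by
    rw [hwd, MulAut.mul_apply, MulAut.mul_apply, he1z0, he2i, map_mul, map_inv, he1z0, he1t, mul_inv_rev,
      mul_inv_cancel_left]
  have hw1 : w z1 = z0 := by
    rw [hwd, MulAut.mul_apply, MulAut.mul_apply, he1t, map_mul, he2i, he2z1, hPab z0 z1⁻¹, mul_inv_cancel_left,
      he1z0]
  set t := w * w with htd
  have htA : t ∈ F.autGroup P := by
    have hm : w ∈ F.autGroup P := mul_mem (mul_mem (hUG he1).1 (inv_mem (hU'G he2).1)) (hUG he1).1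
    exact mul_mem hm hm
  have htW : ∀ v ∈ W, t v = v := by
    intro v hv
    have h1 := (hUG he1).2 v hv
    have h2 : e2⁻¹ v = v := (G1.inv_mem (hU'G he2)).2 v hv
    simp [htd, hwd, MulAut.mul_apply, h1, h2]
  have ht0 : t z0 = z0⁻¹ := by rw [htd, MulAut.mul_apply, hw0, map_inv, hw1]
  -- `Z(S) = W ⟨z0⟩`
  have hWp : W.relIndex Z' = p := by
    have hrel : Z''.relIndex Z' ∣ p := by
      rw [← hidx'']
      have : Z''.Normal := ⟨fun v hv u => by rwa [hPab u v, mul_inv_cancel_right]⟩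
      exact Subgroup.relIndex_dvd_index_of_normal Z'' Z'
    rcases (Nat.dvd_prime hp).mp hrel with h1 | h1
    · exact absurd (Subgroup.relIndex_eq_one.mp h1 hz0Z) (fun hc => hz0W ⟨hz0Z, hc⟩)
    · rw [hW, Subgroup.inf_relIndex_left, h1]
  have hZdec : ∀ v ∈ Z', ∃ i : ℤ, v * (z0 ^ i)⁻¹ ∈ W := by
    intro v hv
    have hlt : W < W ⊔ Subgroup.zpowers z0 := lt_of_le_of_ne le_sup_left fun e =>
      hz0W (e.ge (Subgroup.mem_sup_right (Subgroup.mem_zpowers z0)))
    have hle : W ⊔ Subgroup.zpowers z0 ≤ Z' := sup_le inf_le_left (Subgroup.zpowers_le.mpr hz0Z)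
    have h1 := Subgroup.relIndex_mul_relIndex W (W ⊔ Subgroup.zpowers z0) Z' hlt.le hle
    rw [hWp] at h1
    rcases (Nat.dvd_prime hp).mp (Dvd.intro_left _ h1) with h2 | h2
    · have hv' := Subgroup.relIndex_eq_one.mp h2 hv
      have : W.Normal := ⟨fun a ha u => by rwa [hPab u a, mul_inv_cancel_right]⟩
      obtain ⟨a, ha, b, ⟨i, rfl⟩, hab⟩ := Subgroup.mem_sup_of_normal_left.mp hv'
      exact ⟨i, by rw [← hab, mul_inv_cancel_right]; exact ha⟩
    · rw [h2] at h1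
      exact absurd (Subgroup.relIndex_eq_one.mp (Nat.eq_of_mul_eq_mul_right hp.pos
        (h1.trans (one_mul p).symm))) (fun hle => hlt.not_ge hle)
  -- its restriction to `Z(S)`
  obtain ⟨f, hf, -, hfe⟩ := exists_map_of_mem_autGroup hPS htA
  have hres := restrict_mem hzP hf
  obtain ⟨γ, hγ, hγe⟩ := exists_aut hres (range_eq_of_card_le hres hzS (fun v => by
    show f ⟨(v : Ω), hzP v.2⟩ ∈ zc S
    rw [hfe]
    obtain ⟨i, hi⟩ := hZdec ⟨v, hzP v.2⟩ v.2
    rw [show (⟨(v : Ω), hzP v.2⟩ : P) = ((⟨(v : Ω), hzP v.2⟩ : P) * (z0 ^ i)⁻¹) * z0 ^ i by group, map_mul,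
      map_zpow, ht0, htW _ hi]
    exact (zc S).mul_mem hi.1 ((zc S).zpow_mem ((zc S).inv_mem hz0Z) i)) le_rfl)
  have hγe' : ∀ v : zc S, ((γ v : zc S) : Ω) = ((t ⟨v, hzP v.2⟩ : P) : Ω) := fun v => (hγe v).trans (hfe _)
  have hfix : γ ⟨y, fixZ_le hy⟩ = ⟨y, fixZ_le hy⟩ := hy.2 γ hγ fun v => by
    rw [hγe']
    obtain ⟨i, hi⟩ := hZdec ⟨v, hzP v.2⟩ v.2
    set v' : P := ⟨v, hzP v.2⟩
    have e : (v' : P)⁻¹ * t v' = z0 ^ (-(2 * i)) := by
      have hv : v' = v' * (z0 ^ i)⁻¹ * z0 ^ i := by group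
      conv_lhs => rw [hv, map_mul, map_zpow, ht0, htW _ hi]
      group
    show ((v'⁻¹ * t v' : P) : Ω) ∈ D
    rw [e, Subgroup.coe_zpow]
    exact D.zpow_mem hz0Z₀.2 _
  have hyt : t y = y := Subtype.ext (by
    have h1 := congrArg Subtype.val hfix
    rw [hγe'] at h1
    exact h1)
  obtain ⟨i, hi⟩ := hZdec y (fixZ_le hy)
  have hyW : y ∈ W := by
    have hv : y = y * (z0 ^ i)⁻¹ * z0 ^ i := by group
    rw [hv, map_mul, map_zpow, ht0, htW _ hi] at hyt
    have h1 : z0 ^ (2 * i) = 1 := by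
      have h2 := mul_left_cancel hyt
      rw [inv_zpow, inv_eq_iff_mul_eq_one, ← zpow_add] at h2
      rw [two_mul]; exact h2
    have h3 : (p : ℤ) ∣ i := by
      have h4 := orderOf_dvd_iff_zpow_eq_one.mpr h1
      rw [hz0p] at h4
      refine (Int.isCoprime_iff_gcd_eq_one.mpr ?_).dvd_of_dvd_mul_left h4
      exact_mod_cast Nat.coprime_primes hp Nat.prime_two |>.mpr hp2
    obtain ⟨k, rfl⟩ := h3
    rw [zpow_mul, zpow_natCast, ← hz0p, pow_orderOf_eq_one, one_zpow, inv_one, mul_one] at hi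
    exact hi
  obtain ⟨u, hu, hue⟩ := hyW.2
  rw [← hue]
  show ((g⁻¹ (g u) : P) : Ω) ∈ zc S
  rw [MulAut.inv_apply_self]
  exact hu

/-- Without normal subgroups and with `A` not essential: some `Z(S)⟨x⟩` is essential, `Z(S) ≤ [S, S]` and `S`
has maximal class. -/
theorem Setup.core_free (hF : F.IsSaturated p) (hp2 : p ≠ 2) (hna : ¬ IsMulCommutative S)
    (huniq : ∀ B : Subgroup Ω, B ≤ S → IsMulCommutative ↥B → (B.subgroupOf S).index = p → B = A)
    (hcore : F.core = ⊥) (hAe : ¬ F.IsEssential p A) :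
    (∃ x ∈ S, x ∉ A ∧ F.IsEssential p (zc S ⊔ Subgroup.zpowers x)) ∧
      zc S ≤ (commutator S).map S.subtype ∧
      ∀ n : ℕ, Nat.card S = p ^ n → 3 ≤ n → Subgroup.lowerCentralSeries S (n - 2) ≠ ⊥ := by
  have hp := (Fact.out : p.Prime)
  have hzS : zc S ≤ S := inf_le_left
  have := finite_of_le hzS
  have hzA : zc S ≤ A := fun z hz => by_contra fun hzA => hna (h.comm_of_zc_not_le hz hzA)
  have hnormal : ∀ Q : Subgroup Ω, F.IsNormal Q → Q = ⊥ := fun Q hQ =>
    le_bot_iff.mp ((le_sSup hQ : Q ≤ F.core).trans hcore.le)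
  have hzne : zc S ≠ ⊥ := by
    intro e
    have hS1 : Nontrivial S := by
      by_contra hc
      rw [not_nontrivial_iff_subsingleton] at hc
      exact hna ⟨⟨fun a b => Subsingleton.elim _ _⟩⟩
    have := (h.isP.center_nontrivial (G := S))
    obtain ⟨⟨z, hz⟩, hz1⟩ := exists_ne (1 : Subgroup.center S)
    have h1 : (z : Ω) ∈ zc S := ⟨z.2, Subgroup.mem_centralizer_iff.mpr fun s hs =>
      congrArg Subtype.val (Subgroup.mem_center_iff.mp hz ⟨s, hs⟩)⟩
    rw [e, Subgroup.mem_bot] at h1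
    exact hz1 (Subtype.ext (Subtype.ext h1))
  have hzess : ∀ P : Subgroup Ω, F.IsEssential p P → zc S ≤ P := fun P hP z hz =>
    IsCentric.centralizerIn_le' hP.1 (mem_centralizerIn.mpr
      ⟨hz.1, fun v hv => Subgroup.mem_centralizer_iff.mp hz.2 v (hP.1.1 hv)⟩)
  have hSinv : ∀ α ∈ F.autGroup S, ∀ z : S, (z : Ω) ∈ zc S → ((α z : S) : Ω) ∈ zc S := by
    intro α _ z hz
    refine ⟨(α z).2, Subgroup.mem_centralizer_iff.mpr fun s hs => ?_⟩
    obtain ⟨t, ht⟩ := α.surjective ⟨s, hs⟩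
    rw [← show ((α t : S) : Ω) = s from congrArg Subtype.val ht, ← Subgroup.coe_mul, ← Subgroup.coe_mul,
      ← map_mul, ← map_mul]
    exact congrArg (fun u => ((α u : S) : Ω)) (Subtype.ext (Subgroup.mem_centralizer_iff.mp hz.2 t t.2))
  -- an essential subgroup of the form `Z(S)⟨x⟩`
  have h1 : ∃ x ∈ S, x ∉ A ∧ F.IsEssential p (zc S ⊔ Subgroup.zpowers x) := by
    by_contra hc
    refine hzne (hnormal _ (isNormal_of_essential h.isP hF fun P hP => ?_))
    rcases hP with rfl | hP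
    · exact ⟨hzS, fun α hα z hz => hSinv α hα z hz⟩
    refine ⟨hzess P hP, fun α _ z hz => ?_⟩
    have hPA : P ≠ A := fun e => hAe (e ▸ hP)
    obtain ⟨x, hx, hxA, hxP, -, -, -⟩ := h.main hF hna huniq hP hPA
    have hne : ¬ P ≤ zc S ⊔ Subgroup.zpowers x := fun hle => hc ⟨x, hx, hxA, by
      rwa [← le_antisymm hle (sup_le (hzess P hP) (Subgroup.zpowers_le.mpr hxP))]⟩
    refine h.central_mem hx hxA hxP hP.1.1 hne (α z).2 fun v hv => ?_
    obtain ⟨t, ht⟩ := α.surjective ⟨v, hv⟩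
    rw [← show ((α t : P) : Ω) = v from congrArg Subtype.val ht, ← Subgroup.coe_mul, ← Subgroup.coe_mul,
      ← map_mul, ← map_mul]
    exact congrArg (fun u => ((α u : P) : Ω)) (Subtype.ext
      (Subgroup.mem_centralizer_iff.mp hz.2 t (hP.1.1 t.2)))
  obtain ⟨x₀, hx₀, hx₀A, hP₀⟩ := h1
  refine ⟨⟨x₀, hx₀, hx₀A, hP₀⟩, ?_⟩
  have hP₀A : zc S ⊔ Subgroup.zpowers x₀ ≠ A := fun e => hAe (e ▸ hP₀)
  obtain ⟨x, hx, hxA, hxP, hcard, -, -⟩ := h.main hF hna huniq hP₀ hP₀A
  obtain ⟨-, hD, -, -, hclass⟩ := h.consequences hx hxA hna huniq hcard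
  -- `fixZ F` is normal
  have hfixn : F.IsNormal (fixZ F) := isNormal_of_essential h.isP hF fun P hP => by
    rcases hP with rfl | hP
    · exact ⟨fixZ_le.trans hzS, fun α hα y hy => by
        obtain ⟨φ, hφ, -, hφe⟩ := exists_map_of_mem_autGroup le_rfl hα
        have hz := hSinv α hα y (fixZ_le hy)
        rw [← hφe] at hz ⊢
        exact apply_mem_fixZ h.isP hF hφ y hy hz⟩
    refine ⟨fixZ_le.trans (hzess P hP), fun α hα y hy => ?_⟩
    obtain ⟨φ, hφ, -, hφe⟩ := exists_map_of_mem_autGroup hP.1.1 hα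
    have hPA : P ≠ A := fun e => hAe (e ▸ hP)
    obtain ⟨x', hx', hx'A, hx'P, -, -, -⟩ := h.main hF hna huniq hP hPA
    have hz : ((α y : P) : Ω) ∈ zc S := by
      by_cases hle : P ≤ zc S ⊔ Subgroup.zpowers x'
      · have := h.aut_fixZ_mem hF hp2 hna hx' hx'A hD hP hx'P hle (inv_mem hα) y hy
        rwa [inv_inv] at this
      · refine h.central_mem hx' hx'A hx'P hP.1.1 hle (α y).2 fun v hv => ?_
        obtain ⟨t, ht⟩ := α.surjective ⟨v, hv⟩
        rw [← show ((α t : P) : Ω) = v from congrArg Subtype.val ht, ← Subgroup.coe_mul, ← Subgroup.coe_mul,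
          ← map_mul, ← map_mul]
        exact congrArg (fun u => ((α u : P) : Ω)) (Subtype.ext
          (Subgroup.mem_centralizer_iff.mp (fixZ_le hy).2 t (hP.1.1 t.2)))
    rw [← hφe] at hz ⊢
    exact apply_mem_fixZ h.isP hF hφ y hy hz
  have hfix1 := hnormal _ hfixn
  have hzD : zc S ≤ (commutator S).map S.subtype := by
    intro z hz
    by_contra hzD
    set Γ : Subgroup (F.autGroup (zc S)) :=
      { carrier := {γ | ∀ w : zc S, (w : Ω)⁻¹ * (((γ : MulAut (zc S)) w : zc S) : Ω) ∈ (commutator S).map S.subtype}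
        one_mem' := fun w => by simp
        mul_mem' := fun {a b} ha hb w => by
          have := Subgroup.mul_mem _ (hb w) (ha ((b : MulAut (zc S)) w))
          rwa [mul_assoc, mul_inv_cancel_left] at this
        inv_mem' := fun {a} ha w => by
          have := Subgroup.inv_mem _ (ha (((a : MulAut (zc S)))⁻¹ w))
          rwa [MulAut.apply_inv_self, mul_inv_rev, inv_inv] at this }
    have := finite_mulAut hzS
    have : IsMulCommutative (zc S) := commutative_zc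
    let _ := Fintype.ofFinite Γ
    let u : zc S := ∏ γ : Γ, ((γ : F.autGroup (zc S)) : MulAut (zc S)) ⟨z, hz⟩
    have hu : (u : Ω) ∈ fixZ F := by
      refine ⟨u.2, fun δ hδ hδD => ?_⟩
      show δ u = u
      rw [map_prod]
      exact Fintype.prod_equiv (Equiv.mulLeft (⟨⟨δ, hδ⟩, hδD⟩ : Γ)) _ _ fun γ => rfl
    rw [hfix1, Subgroup.mem_bot] at hu
    have hmod : ((u : Ω))⁻¹ * z ^ Nat.card Γ ∈ (commutator S).map S.subtype := by
      let Dz : Subgroup (zc S) := ((commutator S).map S.subtype).subgroupOf (zc S)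
      have : Dz.Normal := Subgroup.normal_of_isMulCommutative Dz
      have hq : QuotientGroup.mk' Dz u = QuotientGroup.mk' Dz (⟨z, hz⟩ ^ Nat.card Γ) := by
        rw [map_prod, map_pow, Nat.card_eq_fintype_card]
        rw [← Finset.card_univ, ← Finset.prod_const]
        refine Finset.prod_congr rfl fun γ _ => ((QuotientGroup.eq).mpr ?_).symm
        exact γ.2 ⟨z, hz⟩
      exact (QuotientGroup.eq (s := Dz)).mp hq
    rw [hu, inv_one, one_mul] at hmod
    -- `p` does not divide the order of `Γ`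
    have hndvd : ¬ p ∣ Nat.card Γ := by
      intro hd
      obtain ⟨γ, hγ⟩ := exists_prime_orderOf_dvd_card' p hd
      have hfn : F.IsFullyNormalized (zc S) := ⟨hzS, fun R _ => by
        rw [normalizerIn_zc]; exact Subgroup.card_le_of_le normalizerIn_le⟩
      obtain ⟨-, T, hT⟩ := (fullyNormalized_good h.isP hF hfn).1
      have hT1 : (T : Subgroup (F.autGroup (zc S))) = ⊥ := by
        rw [hT, eq_bot_iff]
        intro a ha
        obtain ⟨s, hs, hse⟩ := mem_autInducedBy.mp ha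
        refine Subgroup.mem_bot.mpr (Subtype.ext (MulEquiv.ext fun w => Subtype.ext ((hse w).trans ?_)))
        rw [Subgroup.mem_centralizer_iff.mp w.2.2 s hs, mul_inv_cancel_right]
        rfl
      have := T.not_dvd_index
      rw [hT1, Subgroup.index_bot] at this
      exact this (hd.trans (Subgroup.card_subgroup_dvd_card Γ))
    obtain ⟨a, ha⟩ := IsPGroup.iff_card.mp (h.isP.to_le hzS)
    have hco : Nat.Coprime (Nat.card Γ) (Nat.card (zc S)) := by
      rw [ha]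
      exact (Nat.Coprime.pow_right a (Nat.Coprime.symm ((hp.coprime_iff_not_dvd).mpr hndvd)))
    obtain ⟨k, hk⟩ := Nat.exists_mul_mod_eq_one_of_coprime hco
      (Finite.one_lt_card_iff_nontrivial.mpr ((Subgroup.nontrivial_iff_ne_bot _).mpr hzne))
    refine hzD ?_
    have h2 : z ^ (Nat.card Γ * k) = z := by
      have e : (⟨z, hz⟩ : zc S) ^ (Nat.card Γ * k) = ⟨z, hz⟩ := by
        rw [← pow_mod_natCard, hk.2, pow_one]
      exact congrArg Subtype.val e
    rw [← h2, pow_mul]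
    exact Subgroup.pow_mem _ hmod k
  refine ⟨hzD, fun n hn hn3 hbot => ?_⟩
  have hzc : Nat.card (zc S) = p := by rwa [inf_eq_left.mpr hzD] at hD
  have hidx : ((zc S).subgroupOf S).index = p ^ (n - 1) := by
    have h2 := Subgroup.card_mul_index ((zc S).subgroupOf S)
    rw [Nat.card_congr (Subgroup.subgroupOfEquivOfLe hzS).toEquiv, hzc, hn,
      show p ^ n = p * p ^ (n - 1) by rw [← pow_succ']; congr 1; omega] at h2
    exact Nat.eq_of_mul_eq_mul_left hp.pos h2
  rcases eq_or_lt_of_le hn3 with rfl | hn4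
  · refine hna ⟨⟨fun a b => Subtype.ext ?_⟩⟩
    have h2 : ⁅(a : Ω), (b : Ω)⁆ ∈ Subgroup.lowerCentralSeries S 1 :=
      Subgroup.commutator_mem_commutator a.2 b.2
    rw [hbot, Subgroup.mem_bot, commutatorElement_eq_one_iff_mul_comm] at h2
    exact h2
  · refine hclass (n - 1) hidx (by omega) ?_
    obtain ⟨m, rfl⟩ : ∃ m, n = m + 3 := ⟨n - 3, by omega⟩
    have hle : Subgroup.lowerCentralSeries S m ≤ Subgroup.centralizer (S : Set Ω) :=
      Subgroup.commutator_eq_bot_iff_le_centralizer.mp hbot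
    refine le_inf ?_ hle
    exact Subgroup.lowerCentralSeries_antitone S (Nat.zero_le m)

end CfsgLib.Fusion.AbelianIndexP
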