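import Cfsg.Agent.Lib.Fusion.Basic
import Mathlib.GroupTheory.Subgroup.Centralizer

/-!
# Automorphism groups of a fusion system, automizers and extenders
-/

namespace CfsgLib.Fusion

open Cfsg Cfsg.FusionSystem

variable {Ω : Type*} [Group Ω] {S : Subgroup Ω} {F : FusionSystem S} {P Q R : Subgroup Ω}

@[simp] theorem autMap_apply (α : MulAut P) (x : P) :
    P.subtype.comp α.toMonoidHom x = ((α x : P) : Ω) := rfl

theorem autMap_range (α : MulAut P) : (P.subtype.comp α.toMonoidHom).range = P := by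
  ext y
  constructor
  · rintro ⟨x, rfl⟩; exact (α x).2
  · intro hy; exact ⟨α.symm ⟨y, hy⟩, by simp⟩

/-- `Aut_F(P)` consists exactly of the automorphisms that are maps of the system. -/
theorem mem_autGroup (hP : P ≤ S) {α : MulAut P} :
    α ∈ F.autGroup P ↔ P.subtype.comp α.toMonoidHom ∈ F.Hom P := by
  refine ⟨fun h => ?_, fun h => Subgroup.subset_closure h⟩
  induction h using Subgroup.closure_induction with
  | mem x hx => exact hx
  | one => exact restrict_of le_rfl (subtype_mem hP) fun _ => rfl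
  | mul x y _ _ hx hy =>
    exact comp_of hy hx (fun z => (y z).2) fun z => rfl
  | inv x _ hx =>
    obtain ⟨ψ, hψ, -, hψ₁, -⟩ := exists_inv hx (autMap_range x)
    refine restrict_of le_rfl hψ fun z => ?_
    obtain ⟨w, rfl⟩ := x.surjective z
    have h1 := hψ₁ w (x w).2
    show ((x.symm (x w) : P) : Ω) = ψ ⟨((x w : P) : Ω), _⟩
    rw [MulEquiv.symm_apply_apply]
    exact h1.symm

theorem autGroup_eq_bot_of_not_le (hP : ¬ P ≤ S) : F.autGroup P = ⊥ := by
  rw [FusionSystem.autGroup, Subgroup.closure_eq_bot_iff]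
  intro α hα
  exact absurd (le_S hα) hP

theorem exists_map_of_mem_autGroup (hP : P ≤ S) {α : MulAut P} (hα : α ∈ F.autGroup P) :
    ∃ φ ∈ F.Hom P, φ.range = P ∧ ∀ x : P, φ x = ((α x : P) : Ω) :=
  ⟨_, (mem_autGroup hP).mp hα, autMap_range α, fun _ => rfl⟩

/-- A map of `P` onto `P` gives an element of `Aut_F(P)`. -/
theorem exists_aut {φ : P →* Ω} (hφ : φ ∈ F.Hom P) (hr : φ.range = P) :
    ∃ α ∈ F.autGroup P, ∀ x : P, ((α x : P) : Ω) = φ x := by
  have hm : ∀ x : P, φ x ∈ P := fun x => hr.le ⟨x, rfl⟩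
  have hb : Function.Bijective (φ.codRestrict P hm) := by
    refine ⟨fun a b h => F.injective_of_mem hφ (congrArg Subtype.val h), fun y => ?_⟩
    obtain ⟨x, hx⟩ := hr.ge y.2
    exact ⟨x, Subtype.ext hx⟩
  refine ⟨MulEquiv.ofBijective _ hb, (mem_autGroup (le_S hφ)).mpr ?_, fun _ => rfl⟩
  exact restrict_of le_rfl hφ fun _ => rfl

/-- A map with image `Q` as an isomorphism. -/
theorem exists_equiv {φ : P →* Ω} (hφ : φ ∈ F.Hom P) (hQ : φ.range = Q) :
    ∃ e : P ≃* Q, ∀ x : P, ((e x : Q) : Ω) = φ x := by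
  subst hQ
  exact ⟨φ.ofInjective (F.injective_of_mem hφ), fun _ => rfl⟩

theorem autGroup_congr_mem {φ : P →* Ω} (hφ : φ ∈ F.Hom P) {e : P ≃* Q}
    (he : ∀ x : P, ((e x : Q) : Ω) = φ x) {α : MulAut P} (hα : α ∈ F.autGroup P) :
    MulAut.congr e α ∈ F.autGroup Q := by
  have hQ : φ.range = Q := by
    ext y
    constructor
    · rintro ⟨x, rfl⟩; rw [← he]; exact (e x).2
    · intro hy; exact ⟨e.symm ⟨y, hy⟩, by rw [← he]; simp⟩
  have hP := le_S hφ
  obtain ⟨ψ, hψ, -, hψ₁, -⟩ := exists_inv hφ hQ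
  have hQS : Q ≤ S := hQ ▸ range_le_S hφ
  obtain ⟨β, hβ, -, hβe⟩ := exists_map_of_mem_autGroup hP hα
  have hψP : ∀ y : Q, ψ y = ((e.symm y : P) : Ω) := fun y => by
    have h1 := hψ₁ (e.symm y) (by rw [← he]; exact (e (e.symm y)).2)
    refine Eq.trans (apply_eq_of_coe_eq ?_) h1
    show (y : Ω) = φ (e.symm y)
    rw [← he, MulEquiv.apply_symm_apply]
  obtain ⟨χ, hχ, hχe⟩ := exists_comp hψ hβ fun y => by rw [hψP]; exact (e.symm y).2
  refine (mem_autGroup hQS).mpr (comp_of hχ hφ (fun y => by rw [hχe, hβe]; exact (α _).2) fun y => ?_)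
  show ((e (α (e.symm y)) : Q) : Ω) = _
  rw [he]
  refine apply_eq_of_coe_eq ?_
  show ((α (e.symm y) : P) : Ω) = χ y
  rw [hχe, hβe]
  congr 2
  exact Subtype.ext (hψP y).symm

theorem map_autGroup {φ : P →* Ω} (hφ : φ ∈ F.Hom P) {e : P ≃* Q}
    (he : ∀ x : P, ((e x : Q) : Ω) = φ x) :
    (F.autGroup P).map (MulAut.congr e).toMonoidHom = F.autGroup Q := by
  have hQ : φ.range = Q := by
    ext y
    constructor
    · rintro ⟨x, rfl⟩; rw [← he]; exact (e x).2
    · intro hy; exact ⟨e.symm ⟨y, hy⟩, by rw [← he]; simp⟩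
  apply le_antisymm
  · rintro _ ⟨α, hα, rfl⟩; exact autGroup_congr_mem hφ he hα
  · intro β hβ
    obtain ⟨ψ, hψ, -, hψ₁, -⟩ := exists_inv hφ hQ
    have hψe : ∀ y : Q, ((e.symm y : P) : Ω) = ψ y := fun y => by
      have h1 := hψ₁ (e.symm y) (by rw [← he]; exact (e (e.symm y)).2)
      refine h1.symm.trans (apply_eq_of_coe_eq ?_)
      show φ (e.symm y) = (y : Ω)
      rw [← he, MulEquiv.apply_symm_apply]
    refine ⟨MulAut.congr e.symm β, autGroup_congr_mem hψ hψe hβ, ?_⟩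
    ext y
    show ((e (e.symm (β (e (e.symm y)))) : Q) : Ω) = _
    simp

theorem card_autGroup_eq (h : F.IsConj P Q) : Nat.card (F.autGroup Q) = Nat.card (F.autGroup P) := by
  obtain ⟨φ, hφ, hr⟩ := h
  obtain ⟨e, he⟩ := exists_equiv hφ hr
  rw [← map_autGroup hφ he]
  exact (Nat.card_congr ((F.autGroup P).equivMapOfInjective _ (MulAut.congr e).injective).toEquiv).symm

/-! ### Automizers -/

theorem mem_normalizer_of_aut {α : MulAut P} {g : Ω}
    (h : ∀ x : P, ((α x : P) : Ω) = g * (x : Ω) * g⁻¹) :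
    g ∈ Subgroup.normalizer (P : Set Ω) := by
  rw [Subgroup.mem_normalizer_iff]
  refine fun x => ⟨fun hx => (h ⟨x, hx⟩) ▸ (α ⟨x, hx⟩).2, fun hx => ?_⟩
  obtain ⟨y, hy⟩ := α.surjective ⟨_, hx⟩
  have h2 := h y
  rw [hy] at h2
  have : x = y := mul_left_cancel (mul_right_cancel h2)
  rw [this]; exact y.2

@[simp] theorem coe_normalizerMonoidHom (g : Subgroup.normalizer (P : Set Ω)) (x : P) :
    ((P.normalizerMonoidHom g x : P) : Ω) = (g : Ω) * x * (g : Ω)⁻¹ := rfl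

theorem autInducedBy_eq_map (K P : Subgroup Ω) :
    autInducedBy K P = (K.subgroupOf (Subgroup.normalizer (P : Set Ω))).map P.normalizerMonoidHom := by
  apply le_antisymm
  · rw [autInducedBy, Subgroup.closure_le]
    rintro α ⟨g, hg, h⟩
    exact ⟨⟨g, mem_normalizer_of_aut h⟩, hg, MulEquiv.ext fun x => Subtype.ext (h x).symm⟩
  · rintro _ ⟨g, hg, rfl⟩
    exact Subgroup.subset_closure ⟨g, hg, fun x => rfl⟩

theorem mem_autInducedBy {K P : Subgroup Ω} {α : MulAut P} :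
    α ∈ autInducedBy K P ↔ ∃ g ∈ K, ∀ x : P, ((α x : P) : Ω) = g * (x : Ω) * g⁻¹ := by
  constructor
  · rw [autInducedBy_eq_map]
    rintro ⟨g, hg, rfl⟩
    exact ⟨g, hg, fun x => rfl⟩
  · exact fun h => Subgroup.subset_closure h

/-- The automorphism of `P` induced by a normalizing element. -/
theorem exists_autInducedBy {K P : Subgroup Ω} {g : Ω} (hK : g ∈ K)
    (hg : g ∈ Subgroup.normalizer (P : Set Ω)) :
    ∃ α ∈ autInducedBy K P, ∀ x : P, ((α x : P) : Ω) = g * (x : Ω) * g⁻¹ :=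
  ⟨P.normalizerMonoidHom ⟨g, hg⟩, mem_autInducedBy.mpr ⟨g, hK, fun _ => rfl⟩, fun _ => rfl⟩

theorem autInducedBy_mono {K L : Subgroup Ω} (h : K ≤ L) (P : Subgroup Ω) :
    autInducedBy K P ≤ autInducedBy L P :=
  Subgroup.closure_mono fun _ ⟨g, hg, hx⟩ => ⟨g, h hg, hx⟩

theorem autInducedBy_le_autGroup (hP : P ≤ S) : autInducedBy S P ≤ F.autGroup P := by
  intro α hα
  obtain ⟨g, hg, h⟩ := mem_autInducedBy.mp hα
  exact (mem_autGroup hP).mpr (mem_of_conj hP hg h)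

theorem mem_inn {α : MulAut P} :
    α ∈ Inn P ↔ ∃ z : P, ∀ x : P, α x = z * x * z⁻¹ := by
  constructor
  · rintro ⟨z, rfl⟩; exact ⟨z, fun _ => rfl⟩
  · rintro ⟨z, hz⟩; exact ⟨z, MulEquiv.ext fun x => (hz x).symm⟩

theorem inn_eq_autInducedBy : Inn P = autInducedBy P P := by
  ext α
  rw [mem_inn, mem_autInducedBy]
  constructor
  · rintro ⟨z, hz⟩; exact ⟨z, z.2, fun x => by rw [hz]; rfl⟩
  · rintro ⟨g, hg, h⟩; exact ⟨⟨g, hg⟩, fun x => Subtype.ext (h x)⟩

theorem inn_le_autInducedBy (hP : P ≤ S) : Inn P ≤ autInducedBy S P :=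
  inn_eq_autInducedBy.le.trans (autInducedBy_mono hP P)

theorem inn_le_autGroup (hP : P ≤ S) : Inn P ≤ F.autGroup P :=
  (inn_le_autInducedBy hP).trans (autInducedBy_le_autGroup hP)

theorem autInducedBy_self : autInducedBy S S = Inn S := inn_eq_autInducedBy.symm

theorem mem_normalizerIn {g : Ω} :
    g ∈ normalizerIn S P ↔ g ∈ S ∧ g ∈ Subgroup.normalizer (P : Set Ω) := Iff.rfl

theorem mem_centralizerIn {g : Ω} :
    g ∈ centralizerIn S P ↔ g ∈ S ∧ ∀ x ∈ P, x * g = g * x := Iff.rfl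

theorem mem_centralizerIn' {g : Ω} :
    g ∈ centralizerIn S P ↔ g ∈ S ∧ ∀ x : P, g * (x : Ω) * g⁻¹ = x := by
  rw [mem_centralizerIn]
  refine and_congr_right fun _ => ⟨fun h x => ?_, fun h x hx => ?_⟩
  · rw [← h x x.2, mul_inv_cancel_right]
  · exact (mul_inv_eq_iff_eq_mul.mp (h ⟨x, hx⟩)).symm

theorem centralizerIn_le_normalizerIn : centralizerIn S P ≤ normalizerIn S P :=
  inf_le_inf_left _ (Subgroup.centralizer_le_normalizer _)

theorem le_normalizerIn (hP : P ≤ S) : P ≤ normalizerIn S P := le_inf hP Subgroup.le_normalizer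

theorem normalizerIn_le : normalizerIn S P ≤ S := inf_le_left

theorem centralizerIn_le : centralizerIn S P ≤ S := inf_le_left

/-- `|N_K(P)| = |C_K(P)| * |Aut_K(P)|`. -/
theorem card_normalizerIn (K P : Subgroup Ω) :
    Nat.card (normalizerIn K P) = Nat.card (centralizerIn K P) * Nat.card (autInducedBy K P) := by
  rw [autInducedBy_eq_map]
  set N := Subgroup.normalizer (P : Set Ω)
  let f := P.normalizerMonoidHom.comp (K.subgroupOf N).subtype
  have hr : f.range = (K.subgroupOf N).map P.normalizerMonoidHom := by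
    rw [MonoidHom.range_comp, Subgroup.range_subtype]
  have h1 : Nat.card (K.subgroupOf N) = Nat.card (normalizerIn K P) :=
    Nat.card_congr ⟨fun x => ⟨((x : N) : Ω), x.2, (x : N).2⟩, fun x => ⟨⟨x, x.2.2⟩, x.2.1⟩,
      fun _ => rfl, fun _ => rfl⟩
  have h2 : Nat.card f.ker = Nat.card (centralizerIn K P) := by
    have hk : ∀ x : K.subgroupOf N, x ∈ f.ker ↔ ((x : N) : Ω) ∈ Subgroup.centralizer (P : Set Ω) := by
      intro x
      rw [MonoidHom.mem_ker]
      show P.normalizerMonoidHom (x : N) = 1 ↔ _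
      rw [← MonoidHom.mem_ker, Subgroup.normalizerMonoidHom_ker]
      rfl
    exact Nat.card_congr ⟨fun x => ⟨_, (x : K.subgroupOf N).2, (hk _).mp x.2⟩,
      fun y => ⟨⟨⟨y, Subgroup.centralizer_le_normalizer _ y.2.2⟩, y.2.1⟩, (hk _).mpr y.2.2⟩,
      fun _ => rfl, fun _ => rfl⟩
  rw [← h1, ← h2, ← hr, ← Subgroup.index_ker f, Subgroup.card_mul_index]

/-- The generating set of the extender is already the extender. -/
theorem mem_extender {φ : P →* Ω} {g : Ω} :
    g ∈ extender S P φ ↔ g ∈ S ∧ g ∈ Subgroup.normalizer (P : Set Ω) ∧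
      ∃ h ∈ S, ∀ (x : P) (hx : g * (x : Ω) * g⁻¹ ∈ P), φ ⟨g * x * g⁻¹, hx⟩ = h * φ x * h⁻¹ := by
  refine ⟨fun hg => ?_, fun hg => Subgroup.subset_closure hg⟩
  induction hg using Subgroup.closure_induction with
  | mem x hx => exact hx
  | one =>
    refine ⟨S.one_mem, Subgroup.one_mem _, 1, S.one_mem, fun x hx => ?_⟩
    simp only [one_mul, inv_one, mul_one]
  | mul a b _ _ ha hb =>
    obtain ⟨haS, haN, ha', haS', ha⟩ := ha
    obtain ⟨hbS, hbN, hb', hbS', hb⟩ := hb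
    refine ⟨S.mul_mem haS hbS, Subgroup.mul_mem _ haN hbN, ha' * hb', S.mul_mem haS' hbS',
      fun x hx => ?_⟩
    have h1 : b * (x : Ω) * b⁻¹ ∈ P := (Subgroup.mem_normalizer_iff.mp hbN x).mp x.2
    have h2 := ha ⟨_, h1⟩ ((Subgroup.mem_normalizer_iff.mp haN _).mp h1)
    rw [hb x h1] at h2
    have h3 : φ ⟨a * b * x * (a * b)⁻¹, hx⟩ = φ ⟨a * (b * x * b⁻¹) * a⁻¹,
        (Subgroup.mem_normalizer_iff.mp haN _).mp h1⟩ := apply_eq_of_coe_eq (by group)
    rw [h3, h2]; group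
  | inv a _ ha =>
    obtain ⟨haS, haN, ha', haS', ha⟩ := ha
    refine ⟨S.inv_mem haS, Subgroup.inv_mem _ haN, ha'⁻¹, S.inv_mem haS', fun x hx => ?_⟩
    have e : a * (a⁻¹ * (x : Ω) * a⁻¹⁻¹) * a⁻¹ = x := by group
    have hm : a * (a⁻¹ * (x : Ω) * a⁻¹⁻¹) * a⁻¹ ∈ P := by rw [e]; exact x.2
    have h2 := ha ⟨_, hx⟩ hm
    have h3 : φ ⟨_, hm⟩ = φ x := apply_eq_of_coe_eq e
    rw [h3] at h2
    rw [h2]; group

theorem extender_le_normalizerIn {φ : P →* Ω} : extender S P φ ≤ normalizerIn S P :=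
  fun _ hg => ⟨(mem_extender.mp hg).1, (mem_extender.mp hg).2.1⟩

theorem le_extender (hP : P ≤ S) {φ : P →* Ω} (hφ : ∀ x : P, φ x ∈ S) :
    P ≤ extender S P φ := fun g hg =>
  mem_extender.mpr ⟨hP hg, Subgroup.le_normalizer hg, φ ⟨g, hg⟩, hφ _, fun x hx => by
    rw [← map_inv φ, ← map_mul φ, ← map_mul φ]; exact apply_eq_of_coe_eq rfl⟩

theorem centralizerIn_le_extender {φ : P →* Ω} : centralizerIn S P ≤ extender S P φ := fun g hg =>
  mem_extender.mpr ⟨hg.1, Subgroup.centralizer_le_normalizer _ hg.2, 1, S.one_mem, fun x hx => by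
    rw [one_mul, inv_one, mul_one]; exact apply_eq_of_coe_eq ((mem_centralizerIn'.mp hg).2 x)⟩

end CfsgLib.Fusion
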