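import Cfsg.Agent.Lib.Fusion.Aut
import Cfsg.Agent.Lib.Fusion.LocalModel
import Cfsg.Agent.Lib.LocalEven.InvolvesFour
import Cfsg.Agent.S2759

/-!
# Systems without section `S₃` in their automizers have `S₄`-free models
-/

set_option autoImplicit false
set_option linter.style.haveILetI false

namespace CfsgLib.Fusion

open Cfsg Cfsg.FusionSystem CfsgLib.LocalEven

universe u

variable {Ω : Type u} [Group Ω] {S : Subgroup Ω} [Finite S] {F : FusionSystem S}

theorem centricFree_of_autGroup_sThreeFree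
    (h3 : ∀ U : Subgroup Ω, U ≤ S → ¬ Involves (Equiv.Perm (Fin 3)) ↥(F.autGroup U)) :
    CentricFree F 2 (fun (L : Type u) [Group L] => ¬ Involves (Equiv.Perm (Fin 4)) L) := by
  haveI : Fact (Nat.Prime 2) := ⟨Nat.prime_two⟩
  intro Q hQn hQc
  set M := normalizerIn S Q
  intro E hE L _ ι hL hinv
  haveI := hL.1
  obtain ⟨hι, hreal⟩ := hL.2.1
  obtain ⟨T₁, hT₁⟩ := hL.2.2.1
  obtain ⟨T, hT, hTinv⟩ := Cfsg.Agent.S2759.forward hinv
  obtain ⟨T₂, hT₂⟩ := hT.exists_le_sylow
  obtain ⟨g, hg⟩ := MulAction.exists_smul_eq L T₂ T₁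
  set T' := T.map (MulAut.conj g).toMonoidHom
  have hT' : T' ≤ ι.range := by
    rw [← hT₁, ← hg]
    exact Subgroup.map_mono hT₂
  set U₀ : Subgroup M := T'.comap ι
  set U : Subgroup Ω := U₀.map M.subtype
  have hUM : U ≤ M := Subgroup.map_subtype_le _
  have hUS : U ≤ S := hUM.trans inf_le_left
  -- `U` is a copy of `T`
  let θ : U ≃* T :=
    ((U₀.equivMapOfInjective M.subtype M.subtype_injective).symm.trans
      ((U₀.equivMapOfInjective ι hι).trans
        (MulEquiv.subgroupCongr (Subgroup.map_comap_eq_self hT')))).trans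
      (T.equivMapOfInjective (MulAut.conj g).toMonoidHom (MulAut.conj g).injective).symm
  have hθ : ∀ u : U, g * (θ u : L) * g⁻¹ = ι ⟨(u : Ω), hUM u.2⟩ := by
    intro u
    set w := (U₀.equivMapOfInjective M.subtype M.subtype_injective).symm u
    have hw : ((w : M) : Ω) = (u : Ω) := by
      rw [← congrArg Subtype.val ((U₀.equivMapOfInjective M.subtype M.subtype_injective).apply_symm_apply u)]
      rfl
    set t := MulEquiv.subgroupCongr (Subgroup.map_comap_eq_self hT') (U₀.equivMapOfInjective ι hι w)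
    have ht : g * (θ u : L) * g⁻¹ = (t : L) :=
      congrArg Subtype.val
        ((T.equivMapOfInjective (MulAut.conj g).toMonoidHom (MulAut.conj g).injective).apply_symm_apply t)
    rw [ht]
    show ι (w : M) = _
    exact congrArg ι (Subtype.ext hw)
  -- conjugation by `N_L(T)`, read on `U`
  let ρ : ↥(Subgroup.normalizer (T : Set L)) →* MulAut U :=
    (MulAut.congr θ.symm).toMonoidHom.comp (Subgroup.normalizerMonoidHom T)
  have hρ : ∀ n, ρ n ∈ F.autGroup U := by
    intro n
    rw [mem_autGroup hUS]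
    have hφM : ∀ u : U, (((ρ n) u : U) : Ω) ∈ M := fun u => hUM ((ρ n) u).2
    refine ((hE U).le ((hreal U hUM (U.subtype.comp (ρ n).toMonoidHom) hφM).2
      ⟨g * n * g⁻¹, fun u => ?_⟩)).1
    show ι ⟨(((ρ n) u : U) : Ω), hφM u⟩ = g * n * g⁻¹ * ι ⟨(u : Ω), hUM u.2⟩ * (g * n * g⁻¹)⁻¹
    rw [← hθ ((ρ n) u), ← hθ u]
    have e : (θ ((ρ n) u) : L) = n * (θ u : L) * (n : L)⁻¹ := by
      show (θ (θ.symm (Subgroup.normalizerMonoidHom T n (θ u))) : L) = _
      rw [θ.apply_symm_apply]
      rfl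
    rw [e]
    group
  let ρ' : ↥(Subgroup.normalizer (T : Set L)) →* F.autGroup U := ρ.codRestrict _ hρ
  obtain ⟨K, f, hf⟩ := Involved.exists_hom_of_involves hTinv
  set q := QuotientGroup.mk' ((Subgroup.centralizer (T : Set L)).subgroupOf (Subgroup.normalizer (T : Set L)))
  refine h3 U hUS (Involved.involves_of_factor (H := K.comap q) (ρ'.comp (K.comap q).subtype)
    (f.comp (q.subgroupComap K)) (hf.comp (q.subgroupComap_surjective_of_surjective K
      (QuotientGroup.mk'_surjective _))) fun x hx => ?_)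
  refine MonoidHom.mem_ker.2 ?_
  show f (q.subgroupComap K x) = 1
  suffices e : q.subgroupComap K x = 1 by rw [e, map_one]
  refine Subtype.ext ((QuotientGroup.eq_one_iff _).2 (Subgroup.mem_subgroupOf.2
    (Subgroup.mem_centralizer_iff.2 fun t ht => ?_)))
  have h0 : ρ (x : ↥(Subgroup.normalizer (T : Set L))) = 1 := congrArg Subtype.val (MonoidHom.mem_ker.1 hx)
  have h1 : Subgroup.normalizerMonoidHom T (x : ↥(Subgroup.normalizer (T : Set L))) = 1 :=
    (MulAut.congr θ.symm).injective (h0.trans (map_one _).symm)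
  have h2 := congrArg (fun α : MulAut T => ((α ⟨t, ht⟩ : T) : L)) h1
  exact (mul_inv_eq_iff_eq_mul.1 h2).symm

end CfsgLib.Fusion
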