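import Cfsg.Agent.Lib.Fusion.ModGroup
import Mathlib.GroupTheory.GroupAction.Quotient

/-!
# An element of each coset `c T` good at a centric subgroup normal in `S`

The transfer argument: averaging the displacements of `c` over the cosets of a Sylow subgroup, with
representatives compatible with conjugation by `T`.
-/

namespace CfsgLib.Fusion

open Cfsg Cfsg.FusionSystem CfsgLib.FusionNormal
open scoped IsMulCommutative

variable {Ω : Type*} [Group Ω] {S T : Subgroup Ω} {F : FusionSystem S} {E : FusionSystem T}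
variable {X : Subgroup Ω} {c : Ω}
variable {p : ℕ} [Finite S] [Fact p.Prime]

/-- `(X C) ∩ T = X` for a centric `X`. -/
theorem inf_sup_centralizerIn (hXT : X ≤ T) (hXc : E.IsCentric X) {x : Ω}
    (hx : x ∈ X ⊔ centralizerIn S T) (hxT : x ∈ T) : x ∈ X := by
  have hn : centralizerIn S T ≤ Subgroup.normalizer (X : Set Ω) := fun b hb =>
    Subgroup.centralizer_le_normalizer _ (Subgroup.centralizer_le (SetLike.coe_subset_coe.mpr hXT) hb.2)
  rw [← SetLike.mem_coe, Subgroup.coe_mul_of_right_le_normalizer_left _ _ hn] at hx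
  obtain ⟨a, ha, b, hb, rfl⟩ := Set.mem_mul.mp hx
  refine X.mul_mem ha (IsCentric.centralizerIn_le' hXc (mem_centralizerIn.mpr ⟨?_, fun q hq =>
    (mem_centralizerIn.mp hb).2 q (hXT hq)⟩))
  simpa using T.mul_mem (T.inv_mem (hXT ha)) hxT

set_option maxHeartbeats 2000000 in
theorem exists_goodAt_base (hS : IsPGroup p S) (hE : E.IsNormalIn F p) (hXc : E.IsCentric X)
    (hXn : E.IsFullyNormalized X) (hXS : S ≤ Subgroup.normalizer (X : Set Ω))
    (hTn : S ≤ Subgroup.normalizer (T : Set Ω)) (hc : c ∈ centralizerIn S T) :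
    ∃ w ∈ T, c * w ∈ centralizerIn S T ∧ GoodAt F E (c * w) X := by
  have hEi := hE.1.2.2
  have hT := hEi.2.1
  have hTS := hT.1
  haveI := finite_of_le hTS
  have hXT := hXn.1
  set B := centralizerIn S T with hBdef
  have hB : B ≤ centralizerIn S T := le_rfl
  have hBS : B ≤ S := centralizerIn_le
  have hDS : X ⊔ B ≤ S := sup_le (hXT.trans hTS) hBS
  haveI := finite_of_le hDS
  haveI := finite_mulAut hXT
  haveI : Finite (MulAut ↥(X ⊔ B)) := finite_mulAut hDS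
  have hEF : E.IsSubsystemOf F := hEi.1
  let G := modGrp hEF hXT B
  haveI : Finite G := inferInstance
  -- `X C` is normal in `S`
  have hDn : normalizerIn S (X ⊔ B) = S := by
    refine le_antisymm normalizerIn_le fun s hs => ⟨hs, mem_normalizer_of_forall fun x hx => ?_⟩
    have hb : ∀ b ∈ B, s * b * s⁻¹ ∈ B := fun b hb => mem_centralizerIn.mpr
      ⟨S.mul_mem (S.mul_mem hs hb.1) (S.inv_mem hs), fun z hz => by
        have hz' : s⁻¹ * z * s ∈ T := (Subgroup.mem_normalizer_iff''.mp (hTn hs) z).mp hz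
        calc z * (s * b * s⁻¹) = s * (s⁻¹ * z * s * b) * s⁻¹ := by group
          _ = s * (b * (s⁻¹ * z * s)) * s⁻¹ := by rw [(mem_centralizerIn.mp hb).2 _ hz']
          _ = _ := by group⟩
    have hle : (X ⊔ B).map (MulAut.conj s).toMonoidHom ≤ X ⊔ B := by
      rw [Subgroup.map_sup]
      refine sup_le ?_ ?_
      · rintro _ ⟨q, hq, rfl⟩
        exact Subgroup.mem_sup_left (conj_mem_of_normalizer (hXS hs) hq)
      · rintro _ ⟨b, hb', rfl⟩
        exact Subgroup.mem_sup_right (hb b hb')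
    exact hle ⟨x, hx, rfl⟩
  have hDfn : F.IsFullyNormalized (X ⊔ B) :=
    ⟨hDS, fun R _ => by rw [hDn]; exact Subgroup.card_le_of_le normalizerIn_le⟩
  obtain ⟨hDa, hDr⟩ := fullyNormalized_good hS hE.1.2.1 hDfn
  -- the kernel consists of conjugations by `S`
  have hker : ∀ τ ∈ (modGrp.res : G →* E.autGroup X).ker,
      (τ : MulAut ↥(X ⊔ B)) ∈ autInducedBy S (X ⊔ B) := by
    obtain ⟨K, hK⟩ : ∃ K, K = ((modGrp.res : G →* E.autGroup X).ker).map G.subtype := ⟨_, rfl⟩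
    have hKF : K ≤ F.autGroup (X ⊔ B) := by
      rw [hK]; rintro _ ⟨τ, -, rfl⟩; exact τ.2.1
    have hKp : IsPGroup p K := hK ▸ (modGrp.isPGroup_ker hTS hS).map _
    obtain ⟨α, hα, hαK⟩ := FullyAutomized.exists_conj hDa hKF hKp
    intro τ hτ
    have hpres : ∀ x : ↥(X ⊔ B), (x : Ω) ∈ X → ∀ β ∈ F.autGroup (X ⊔ B), ((β x : ↥(X ⊔ B)) : Ω) ∈ X := by
      intro x hx β hβ
      obtain ⟨f, hf, -, hfe⟩ := exists_mapFn_of_aut hDS hβ
      exact inf_sup_centralizerIn hXT hXc (β x).2 (by rw [← hfe]; exact mapFn_mem hT hf x.2 (hXT hx))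
    have hmem : α⁻¹ * (τ : MulAut ↥(X ⊔ B)) * α ∈ K := by
      have hfix : ∀ x : ↥(X ⊔ B), (x : Ω) ∈ X → (α⁻¹ * (τ : MulAut ↥(X ⊔ B)) * α) x = x := fun x hx => by
        show α⁻¹ ((τ : MulAut ↥(X ⊔ B)) (α x)) = x
        rw [modGrp.apply_ker hτ (hpres x hx α hα), MulAut.inv_apply_self]
      have hG : α⁻¹ * (τ : MulAut ↥(X ⊔ B)) * α ∈ modGrp hEF hXT B := by
        refine ⟨Subgroup.mul_mem _ (Subgroup.mul_mem _ (Subgroup.inv_mem _ hα) τ.2.1) hα, fun x => ?_, id,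
          mapFn_id hXT, fun x hx => by rw [hfix x hx]; rfl⟩
        have h1 : ((α x)⁻¹ * (τ : MulAut ↥(X ⊔ B)) (α x) : ↥(X ⊔ B)).1 ∈ X := modGrp.disp_mem τ (α x)
        have h2 := hpres _ h1 α⁻¹ (Subgroup.inv_mem _ hα)
        rw [map_mul, map_inv, MulAut.inv_apply_self] at h2
        exact h2
      rw [hK]
      exact ⟨⟨_, hG⟩, (modGrp.res_eq_one_iff (hE := hEF) (hQ := hXT) ⟨_, hG⟩).mpr hfix, rfl⟩
    have h := hαK _ hmem
    rwa [mul_assoc, mul_assoc, mul_inv_cancel, mul_one, mul_inv_cancel_left] at h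
  obtain ⟨M, hM⟩ := modGrp.exists_sylow (hE := hEF) (hQ := hXT) hTS hB hS hE hXn hXc
  have hN : ∀ t ∈ T, t ∈ normalizerIn T X := fun t ht => ⟨ht, hXS (hTS ht)⟩
  have hsplit : ∀ m ∈ (M : Subgroup G), ∃ k : G,
      (∃ t ∈ T, ∀ x : ↥(X ⊔ B), (((k : MulAut ↥(X ⊔ B)) x : ↥(X ⊔ B)) : Ω) = t * x * t⁻¹) ∧
      k⁻¹ * m ∈ (modGrp.res : G →* E.autGroup X).ker := by
    intro m hm
    obtain ⟨t, ht, hte⟩ := (hM m).mp hm
    obtain ⟨k, hk⟩ := modGrp.exists_cnj (hE := hEF) (hQ := hXT) hTS hB ht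
    refine ⟨k, ⟨t, ht.1, hk⟩, ?_⟩
    rw [MonoidHom.mem_ker, map_mul, map_inv, inv_mul_eq_one]
    refine Subtype.ext (MulEquiv.ext fun x => Subtype.ext ?_)
    rw [modGrp.res_apply, modGrp.res_apply, hk]
    exact (hte ⟨x, Subgroup.mem_sup_left x.2⟩ x.2).symm
  have hMS : ∀ m ∈ (M : Subgroup G), (m : MulAut ↥(X ⊔ B)) ∈ autInducedBy S (X ⊔ B) := by
    intro m hm
    obtain ⟨k, ⟨t, ht, hk⟩, hτ⟩ := hsplit m hm
    have h := Subgroup.mul_mem _ (mem_autInducedBy.mpr ⟨t, hTS ht, hk⟩ :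
      (k : MulAut ↥(X ⊔ B)) ∈ autInducedBy S (X ⊔ B)) (hker _ hτ)
    rwa [← Subgroup.coe_mul, mul_inv_cancel_left] at h
  let c₀ : ↥(X ⊔ B) := ⟨c, Subgroup.mem_sup_right hc⟩
  -- conjugations by `T`
  let TG : Subgroup G :=
    { carrier := {k | ∃ t ∈ T, ∀ x : ↥(X ⊔ B), (((k : MulAut ↥(X ⊔ B)) x : ↥(X ⊔ B)) : Ω) = t * x * t⁻¹}
      one_mem' := ⟨1, T.one_mem, fun x => by simp⟩
      mul_mem' := by
        rintro a b ⟨s, hs, ha⟩ ⟨t, ht, hb⟩
        refine ⟨s * t, T.mul_mem hs ht, fun x => ?_⟩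
        rw [Subgroup.coe_mul, MulAut.mul_apply, ha, hb]; group
      inv_mem' := by
        rintro a ⟨s, hs, ha⟩
        refine ⟨s⁻¹, T.inv_mem hs, fun x => ?_⟩
        obtain ⟨z, hz⟩ : ∃ z, z = ((a : G) : MulAut ↥(X ⊔ B))⁻¹ x := ⟨_, rfl⟩
        have h := ha z
        rw [hz, MulAut.apply_inv_self] at h
        rw [Subgroup.coe_inv, h]; group }
  have hTc : ∀ k ∈ TG, (k : MulAut ↥(X ⊔ B)) c₀ = c₀ := by
    rintro k ⟨t, ht, hk⟩
    refine Subtype.ext ?_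
    rw [hk]
    show t * c * t⁻¹ = c
    rw [(mem_centralizerIn.mp hc).2 t ht, mul_inv_cancel_right]
  have hstab : ∀ (g : G), ∀ k ∈ TG, g⁻¹ * k * g ∈ (M : Subgroup G) →
      ((k * g : G) : MulAut ↥(X ⊔ B)) c₀ = (g : MulAut ↥(X ⊔ B)) c₀ := by
    rintro g k ⟨t, ht, hk⟩ hσ
    obtain ⟨φ, hφ, hφr, hφe⟩ := exists_map_of_mem_autGroup hDS (Subgroup.inv_mem _ g.2.1)
    obtain ⟨s, hs, hse⟩ := mem_autInducedBy.mp (hMS _ hσ)
    have hN : X ⊔ B ⊔ Subgroup.zpowers t ≤ extender S (X ⊔ B) φ := by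
      refine sup_le (le_extender hDS (apply_mem_S hφ)) (Subgroup.zpowers_le.mpr ?_)
      have hkn := hk
      refine mem_extender.mpr ⟨hTS ht, (hDn.ge (hTS ht)).2, s, hs, fun x hx => ?_⟩
      rw [hφe, hφe]
      obtain ⟨z, hz⟩ : ∃ z, z = (g : MulAut ↥(X ⊔ B))⁻¹ x := ⟨_, rfl⟩
      have h1 : (⟨t * x * t⁻¹, hx⟩ : ↥(X ⊔ B)) = (k : MulAut ↥(X ⊔ B)) x := Subtype.ext (hk x).symm
      rw [h1, ← hz]
      have h2 := hse z
      rw [show x = (g : MulAut ↥(X ⊔ B)) z by rw [hz, MulAut.apply_inv_self]]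
      exact h2
    obtain ⟨ψ, hψ, hψe⟩ := Fusion.exists_extension hDr hφ hφr le_sup_left hN
    obtain ⟨h, hh, hhe⟩ := mapFn_of_hom hψ
    have htN : t ∈ X ⊔ B ⊔ Subgroup.zpowers t := Subgroup.mem_sup_right (Subgroup.mem_zpowers t)
    have hhT : h t ∈ T := mapFn_mem hT hh htN ht
    have hval : ∀ x : ↥(X ⊔ B), h x = (((g : MulAut ↥(X ⊔ B))⁻¹ x : ↥(X ⊔ B)) : Ω) := fun x => by
      rw [← hhe ⟨x, Subgroup.mem_sup_left x.2⟩, ← hφe]
      exact hψe x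
    have hfix : ((g⁻¹ * k * g : G) : MulAut ↥(X ⊔ B)) c₀ = c₀ := by
      refine Subtype.ext ?_
      obtain ⟨z, hz⟩ : ∃ z, z = (g : MulAut ↥(X ⊔ B)) c₀ := ⟨_, rfl⟩
      show (((g : MulAut ↥(X ⊔ B))⁻¹ ((k : MulAut ↥(X ⊔ B)) ((g : MulAut ↥(X ⊔ B)) c₀)) : ↥(X ⊔ B)) : Ω) = c
      rw [← hz, ← hval, hk, hh.map_conj htN (Subgroup.mem_sup_left z.2), hval, hz, MulAut.inv_apply_self]
      show h t * c * (h t)⁻¹ = c
      rw [(mem_centralizerIn.mp hc).2 _ hhT, mul_inv_cancel_right]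
    conv_rhs => rw [← hfix]
    rw [← MulAut.mul_apply, ← Subgroup.coe_mul, ← mul_assoc, mul_inv_cancel_left]
  -- representatives
  haveI := Fintype.ofFinite (G ⧸ (M : Subgroup G))
  let q₀ : G ⧸ (M : Subgroup G) → G ⧸ (M : Subgroup G) := fun q =>
    (Quotient.mk (MulAction.orbitRel TG (G ⧸ (M : Subgroup G))) q).out
  have hq₀ : ∀ q, ∃ h : TG, (h : G) • q₀ q = q := fun q => by
    obtain ⟨h, hh⟩ : q ∈ MulAction.orbit TG (q₀ q) :=
      MulAction.orbitRel_apply.mp (Setoid.symm' _ (Quotient.mk_out q))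
    exact ⟨h, hh⟩
  choose hq hhq using hq₀
  obtain ⟨R, hR⟩ : ∃ R : G ⧸ (M : Subgroup G) → G, R = fun q => (hq q : G) * (q₀ q).out := ⟨_, rfl⟩
  have hRq : ∀ q, (R q : G ⧸ (M : Subgroup G)) = q := fun q => by
    rw [hR]
    conv_rhs => rw [← hhq q, ← (q₀ q).out_eq']
    rfl
  have hRT : ∀ s ∈ TG, ∀ q, ((s * R q : G) : MulAut ↥(X ⊔ B)) c₀ = (R (s • q) : MulAut ↥(X ⊔ B)) c₀ := by
    intro s hs q
    have hsame : q₀ (s • q) = q₀ q := by
      show Quotient.out _ = Quotient.out _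
      congr 1
      exact Quotient.sound (MulAction.orbitRel_apply.mpr ⟨⟨s, hs⟩, rfl⟩)
    obtain ⟨h', hh'⟩ : ∃ h' : G, h' = (hq (s • q) : G) := ⟨_, rfl⟩
    have hRs : R (s • q) = h' * (q₀ q).out := by
      rw [hR, hh']
      show (hq (s • q) : G) * (q₀ (s • q)).out = _
      rw [hsame]
    obtain ⟨k, hk⟩ : ∃ k, k = h'⁻¹ * (s * (hq q : G)) := ⟨_, rfl⟩
    have hkT : k ∈ TG := by
      rw [hk, hh']; exact TG.mul_mem (TG.inv_mem (hq _).2) (TG.mul_mem hs (hq q).2)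
    have hkq : k • q₀ q = q₀ q := by
      rw [hk, mul_smul, mul_smul, hhq q, inv_smul_eq_iff, hh']
      exact ((congrArg (fun z => (hq (s • q) : G) • z) hsame).symm.trans (hhq (s • q))).symm
    have hkM : (q₀ q).out⁻¹ * k * (q₀ q).out ∈ (M : Subgroup G) := by
      have h1 := hkq
      rw [← (q₀ q).out_eq'] at h1
      have h2 := QuotientGroup.eq.mp (show ((k * (q₀ q).out : G) : G ⧸ (M : Subgroup G)) = ((q₀ q).out : G) from h1)
      have h3 := (M : Subgroup G).inv_mem h2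
      simpa [mul_assoc] using h3
    have h := congrArg (h' : MulAut ↥(X ⊔ B)) (hstab (q₀ q).out k hkT hkM)
    rw [hRs]
    calc ((s * R q : G) : MulAut ↥(X ⊔ B)) c₀
        = ((h' * (k * (q₀ q).out) : G) : MulAut ↥(X ⊔ B)) c₀ := by
          rw [show h' * (k * (q₀ q).out) = s * R q by rw [hk, hR]; group]
      _ = _ := by
          simp only [Subgroup.coe_mul, MulAut.mul_apply] at h ⊢
          exact h
  -- the abelian group of displacements
  let A : Subgroup ↥(X ⊔ B) := (centralizerIn T X).subgroupOf (X ⊔ B)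
  have hAX : ∀ a : ↥(X ⊔ B), a ∈ A → (a : Ω) ∈ X := fun a ha => IsCentric.centralizerIn_le' hXc ha
  haveI : IsMulCommutative A := ⟨⟨fun a b => Subtype.ext (Subtype.ext
    ((mem_centralizerIn.mp b.2).2 _ (hAX a a.2)))⟩⟩
  have hAinv : ∀ (g : G), ∀ a ∈ A, (g : MulAut ↥(X ⊔ B)) a ∈ A := fun g a ha =>
    mem_centralizerIn.mpr ⟨hXT (modGrp.apply_mem g (hAX a ha)), fun q hq => by
      obtain ⟨u, hu, hue⟩ : ∃ u : ↥(X ⊔ B), (u : Ω) ∈ X ∧ (g : MulAut ↥(X ⊔ B)) u = ⟨q, Subgroup.mem_sup_left hq⟩ :=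
        ⟨(g⁻¹ : G).1 ⟨q, Subgroup.mem_sup_left hq⟩, modGrp.apply_mem g⁻¹ hq, by simp⟩
      have hua : u * a = a * u := Subtype.ext ((mem_centralizerIn.mp ha).2 _ hu)
      have := congrArg (fun z => (((g : MulAut ↥(X ⊔ B)) z : ↥(X ⊔ B)) : Ω)) hua
      simpa [hue] using this⟩
  let ρ : G →* Monoid.End A :=
    { toFun := fun g => ((g : MulAut ↥(X ⊔ B)).toMonoidHom.comp A.subtype).codRestrict A fun a => hAinv g a a.2
      map_one' := MonoidHom.ext fun _ => Subtype.ext rfl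
      map_mul' := fun g h => MonoidHom.ext fun _ => Subtype.ext rfl }
  have hρ : ∀ (g : G) (a : A), ((ρ g a : A) : ↥(X ⊔ B)) = (g : MulAut ↥(X ⊔ B)) a := fun _ _ => rfl
  let d : G → A := fun g => ⟨c₀⁻¹ * (g : MulAut ↥(X ⊔ B)) c₀, modGrp.disp_mem_centralizer hB g hc⟩
  have hd : ∀ g, ((d g : A) : ↥(X ⊔ B)) = c₀⁻¹ * (g : MulAut ↥(X ⊔ B)) c₀ := fun _ => rfl
  have hdmul : ∀ g h, d (g * h) = d g * ρ g (d h) := fun g h => Subtype.ext (by
    rw [hd, Subgroup.coe_mul A, hρ, hd, hd, map_mul, map_inv, Subgroup.coe_mul, MulAut.mul_apply]; group)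
  have hd1 : d 1 = 1 := Subtype.ext (by rw [hd]; simp)
  have hkerA : ∀ τ ∈ (modGrp.res : G →* E.autGroup X).ker, ∀ a : A, ρ τ a = a := fun τ hτ a =>
    Subtype.ext (modGrp.apply_ker hτ (hAX a a.2))
  let U : Subgroup A :=
    { carrier := d '' ((modGrp.res : G →* E.autGroup X).ker : Set G)
      one_mem' := ⟨1, Subgroup.one_mem _, hd1⟩
      mul_mem' := by
        rintro _ _ ⟨σ, hσ, rfl⟩ ⟨τ, hτ, rfl⟩
        exact ⟨σ * τ, Subgroup.mul_mem _ hσ hτ, by rw [hdmul, hkerA σ hσ]⟩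
      inv_mem' := by
        rintro _ ⟨σ, hσ, rfl⟩
        refine ⟨σ⁻¹, Subgroup.inv_mem _ hσ, ?_⟩
        rw [eq_inv_iff_mul_eq_one, mul_comm]
        have h := hdmul σ σ⁻¹
        rw [mul_inv_cancel, hd1, hkerA σ hσ] at h
        exact h.symm }
  have hU : ∀ g, ∀ u ∈ U, ρ g u ∈ U := by
    rintro g _ ⟨τ, hτ, rfl⟩
    refine ⟨g * τ * g⁻¹, Subgroup.Normal.conj_mem inferInstance τ hτ g, ?_⟩
    have h := hdmul g g⁻¹
    rw [mul_inv_cancel, hd1] at h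
    rw [hdmul, hdmul, map_mul ρ, show (ρ g * ρ τ) (d g⁻¹) = ρ g (ρ τ (d g⁻¹)) from rfl, hkerA τ hτ,
      mul_right_comm, ← h, one_mul]
  have hTd : ∀ k ∈ TG, d k = 1 := fun k hk => Subtype.ext (by rw [hd, hTc k hk, inv_mul_cancel]; rfl)
  have hMd : ∀ m ∈ (M : Subgroup G), d m ∈ U := fun m hm => by
    obtain ⟨k, hk, hτ⟩ := hsplit m hm
    rw [← mul_inv_cancel_left k m, hdmul, hTd k hk, one_mul]
    exact hU k _ ⟨_, hτ, rfl⟩
  let π : A →* A ⧸ U := QuotientGroup.mk' U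
  obtain ⟨P, hP⟩ : ∃ P, P = ∏ q : G ⧸ (M : Subgroup G), d (R q) := ⟨_, rfl⟩
  have hPT : ∀ k ∈ TG, ρ k P = P := by
    intro k hk
    have hterm : ∀ q, ρ k (d (R q)) = d (R (k • q)) := fun q => by
      rw [← one_mul (ρ k (d (R q))), ← hTd k hk, ← hdmul]
      exact Subtype.ext (by rw [hd, hd, hRT k hk q])
    rw [hP, map_prod]
    simp only [hterm]
    exact Equiv.prod_comp (MulAction.toPerm k) fun q => d (R q)
  have hPg : ∀ g : G, π (d g ^ Fintype.card (G ⧸ (M : Subgroup G)) * ρ g P) = π P := by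
    intro g
    have hterm : ∀ q, π (d g * ρ g (d (R q))) = π (d (R (g • q))) := fun q => by
      obtain ⟨m, hm⟩ : ∃ m, m = (R (g • q))⁻¹ * (g * R q) := ⟨_, rfl⟩
      have hmM : m ∈ (M : Subgroup G) := by
        rw [hm]
        refine QuotientGroup.eq.mp ?_
        rw [hRq]
        conv_lhs => rw [← hRq q]
        rfl
      rw [← hdmul, show g * R q = R (g • q) * m by rw [hm, mul_inv_cancel_left], hdmul, map_mul,
        show π (ρ (R (g • q)) (d m)) = 1 from (QuotientGroup.eq_one_iff _).mpr (hU _ _ (hMd m hmM)), mul_one]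
    rw [← Finset.card_univ, ← Finset.prod_const, hP, map_prod (ρ g), ← Finset.prod_mul_distrib, map_prod,
      map_prod, Finset.prod_congr rfl fun q _ => hterm q]
    exact Equiv.prod_comp (MulAction.toPerm g) fun q => π (d (R q))
  obtain ⟨j, hj⟩ := IsPGroup.iff_card.mp hS
  have hcop : (Fintype.card (G ⧸ (M : Subgroup G))).Coprime (p ^ j) := by
    rw [← Nat.card_eq_fintype_card, ← Subgroup.index_eq_card]
    exact (Nat.Coprime.pow_left j ((Fact.out : p.Prime).coprime_iff_not_dvd.mpr M.not_dvd_index)).symm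
  have hord : ∀ a : A, a ^ p ^ j = 1 := fun a => by
    refine Subtype.ext (Subtype.ext ?_)
    have h := congrArg Subtype.val (pow_card_eq_one' (G := S) (x := ⟨((a : ↥(X ⊔ B)) : Ω), hDS a.1.2⟩))
    rw [hj] at h
    exact h
  obtain ⟨e, he0, he1⟩ := Nat.chineseRemainder hcop 0 1
  obtain ⟨l, hl⟩ := Nat.modEq_zero_iff_dvd.mp he0
  have hpow : ∀ a : A, (a ^ Fintype.card (G ⧸ (M : Subgroup G))) ^ l = a := fun a => by
    rw [← pow_mul, ← hl]
    conv_rhs => rw [← pow_one a]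
    exact pow_eq_pow_iff_modEq.mpr (he1.of_dvd (orderOf_dvd_of_pow_eq_one (hord a)))
  obtain ⟨w, hw⟩ : ∃ w, w = P ^ l := ⟨_, rfl⟩
  obtain ⟨w', hw'⟩ : ∃ w', w' = (((w : A) : ↥(X ⊔ B)) : Ω) := ⟨_, rfl⟩
  have hwX : w' ∈ X := hw' ▸ hAX _ w.2
  have hwT : ∀ t ∈ T, t * w' * t⁻¹ = w' := fun t ht => by
    obtain ⟨k, hk⟩ := modGrp.exists_cnj (hE := hEF) (hQ := hXT) hTS hB (hN t ht)
    have h1 : ρ k w = w := by rw [hw, map_pow, hPT k ⟨t, ht, hk⟩]
    rw [hw']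
    conv_rhs => rw [← h1]
    rw [hρ, hk]
  refine ⟨w', hXT hwX, (centralizerIn S T).mul_mem hc (mem_centralizerIn.mpr ⟨hTS (hXT hwX), fun t ht =>
    mul_inv_eq_iff_eq_mul.mp (hwT t ht)⟩), ?_⟩
  intro f hf hfr
  obtain ⟨α, hα, hαe⟩ := hf.exists_aut hfr
  obtain ⟨g, hg⟩ := modGrp.res_surjective (hE := hEF) (hQ := hXT) hTS hB hS hE hXc ⟨α, hα⟩
  have hgw : π (d g * ρ g w) = π w := by
    have h := congrArg (fun z => z ^ l) (hPg g)
    rw [← map_pow, ← map_pow, mul_pow, hpow, ← map_pow, ← hw] at h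
    exact h
  obtain ⟨τ, hτ, hτd⟩ : (d g * ρ g w) * w⁻¹ ∈ U := by
    rw [← QuotientGroup.eq_one_iff]
    show π _ = 1
    rw [map_mul, hgw, map_inv, mul_inv_cancel]
  obtain ⟨y₀, hy₀⟩ : ∃ y₀ : ↥(X ⊔ B), y₀ = c₀ * (w : ↥(X ⊔ B)) := ⟨_, rfl⟩
  have hτy : (τ : MulAut ↥(X ⊔ B)) y₀ = (g : MulAut ↥(X ⊔ B)) y₀ := by
    have h1 : d τ * ρ τ w = d g * ρ g w := by rw [hkerA τ hτ, hτd, inv_mul_cancel_right]
    have h2 := congrArg (fun a : A => c₀ * (a : ↥(X ⊔ B))) h1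
    simp only [Subgroup.coe_mul, hd, hρ, ← mul_assoc, mul_inv_cancel, one_mul] at h2
    rw [hy₀, map_mul, map_mul]
    exact h2
  obtain ⟨h, hh, -, hhe⟩ := exists_mapFn_of_aut hDS (τ⁻¹ * g).2.1
  have hyD : c * w' ∈ X ⊔ B := by rw [hw']; exact (c₀ * (w : ↥(X ⊔ B))).2
  refine ⟨h, hh.mono (sup_le le_sup_left (Subgroup.zpowers_le.mpr hyD)), fun x hx => ?_, ?_⟩
  · have hres : modGrp.res (τ⁻¹ * g) = modGrp.res g := by
      rw [map_mul, map_inv, MonoidHom.mem_ker.mp hτ, inv_one, one_mul]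
    rw [hhe ⟨x, Subgroup.mem_sup_left hx⟩, ← modGrp.res_apply _ ⟨x, hx⟩, hres, hg]
    exact hαe ⟨x, hx⟩
  · rw [hw', show c * ((w : ↥(X ⊔ B)) : Ω) = (y₀ : Ω) by rw [hy₀]; rfl, hhe, Subgroup.coe_mul,
      Subgroup.coe_inv, MulAut.mul_apply, ← hτy, MulAut.inv_apply_self]

end CfsgLib.Fusion
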