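import Cfsg.Prelude.Def_FusionSystem

/-!
# Basic API for fusion systems

Maps of a system are homomorphisms `P →* Ω`; the lemmas below build maps from pointwise
specifications, so that users never have to juggle `codRestrict` or `inclusion`.
-/

namespace CfsgLib.Fusion

open Cfsg Cfsg.FusionSystem

variable {Ω : Type*} [Group Ω] {S : Subgroup Ω} {F : FusionSystem S} {P Q R : Subgroup Ω}

theorem le_S {φ : P →* Ω} (hφ : φ ∈ F.Hom P) : P ≤ S := (F.le_of_mem hφ).1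

theorem apply_mem_S {φ : P →* Ω} (hφ : φ ∈ F.Hom P) (x : P) : φ x ∈ S := (F.le_of_mem hφ).2 x

theorem range_le_S {φ : P →* Ω} (hφ : φ ∈ F.Hom P) : φ.range ≤ S := by
  rintro _ ⟨x, rfl⟩; exact apply_mem_S hφ x

@[simp] theorem conjHom_apply (g : Ω) (x : P) : conjHom P g x = g * (x : Ω) * g⁻¹ := rfl

theorem subtype_mem (hP : P ≤ S) : P.subtype ∈ F.Hom P := by
  have h := F.conj_mem hP S.one_mem
  have he : conjHom P (1 : Ω) = P.subtype := MonoidHom.ext fun x => by simp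
  rwa [he] at h

/-- A map agreeing with conjugation by an element of `S` is a map of the system. -/
theorem mem_of_conj (hP : P ≤ S) {g : Ω} (hg : g ∈ S) {φ : P →* Ω}
    (h : ∀ x : P, φ x = g * (x : Ω) * g⁻¹) : φ ∈ F.Hom P := by
  have he : φ = conjHom P g := MonoidHom.ext h
  rw [he]; exact F.conj_mem hP hg

/-- Composition by pointwise specification. -/
theorem comp_of {φ : P →* Ω} {ψ : Q →* Ω} (hφ : φ ∈ F.Hom P) (hψ : ψ ∈ F.Hom Q)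
    (h : ∀ x : P, φ x ∈ Q) {χ : P →* Ω} (hχ : ∀ x : P, χ x = ψ ⟨φ x, h x⟩) : χ ∈ F.Hom P := by
  have he : χ = ψ.comp (φ.codRestrict Q h) := MonoidHom.ext hχ
  rw [he]; exact F.comp_mem hφ hψ h

theorem exists_comp {φ : P →* Ω} {ψ : Q →* Ω} (hφ : φ ∈ F.Hom P) (hψ : ψ ∈ F.Hom Q)
    (h : ∀ x : P, φ x ∈ Q) : ∃ χ ∈ F.Hom P, ∀ x : P, χ x = ψ ⟨φ x, h x⟩ :=
  ⟨_, F.comp_mem hφ hψ h, fun _ => rfl⟩

/-- Restriction by pointwise specification. -/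
theorem restrict_of (hRP : R ≤ P) {φ : P →* Ω} (hφ : φ ∈ F.Hom P) {χ : R →* Ω}
    (hχ : ∀ x : R, χ x = φ ⟨x, hRP x.2⟩) : χ ∈ F.Hom R :=
  comp_of (subtype_mem (hRP.trans (le_S hφ))) hφ (fun x => hRP x.2) hχ

theorem restrict_mem (hRP : R ≤ P) {φ : P →* Ω} (hφ : φ ∈ F.Hom P) :
    φ.comp (Subgroup.inclusion hRP) ∈ F.Hom R :=
  restrict_of hRP hφ fun _ => rfl

/-- Conjugation after a map. -/
theorem exists_conj_comp {φ : P →* Ω} (hφ : φ ∈ F.Hom P) {g : Ω} (hg : g ∈ S) :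
    ∃ χ ∈ F.Hom P, ∀ x : P, χ x = g * φ x * g⁻¹ :=
  ⟨_, F.comp_mem hφ (F.conj_mem le_rfl hg) (apply_mem_S hφ), fun _ => rfl⟩

theorem mem_map_subgroupOf {φ : P →* Ω} {y : Ω} :
    y ∈ (R.subgroupOf P).map φ ↔ ∃ x : P, (x : Ω) ∈ R ∧ φ x = y := Iff.rfl

theorem apply_eq_of_coe_eq {φ : P →* Ω} {x y : P} (h : (x : Ω) = y) : φ x = φ y := by
  rw [Subtype.ext h]

/-- The inverse of a map, as a map from any subgroup equal to the image. -/
theorem exists_inv {φ : P →* Ω} (hφ : φ ∈ F.Hom P) (hQ : φ.range = Q) :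
    ∃ ψ ∈ F.Hom Q, ψ.range = P ∧ (∀ (x : P) (h : φ x ∈ Q), ψ ⟨φ x, h⟩ = x) ∧
      ∀ (y : Q) (h : ψ y ∈ P), φ ⟨ψ y, h⟩ = y := by
  subst hQ
  obtain ⟨ψ, hψ, h⟩ := F.inv_mem hφ
  have hy : ∀ (y : φ.range), ∃ x : P, φ x = y ∧ ψ y = x := by
    rintro ⟨_, x, rfl⟩
    exact ⟨x, rfl, h x⟩
  refine ⟨ψ, hψ, ?_, fun x _ => h x, fun y hm => ?_⟩
  · ext z
    constructor
    · rintro ⟨y, rfl⟩
      obtain ⟨x, -, hx⟩ := hy y
      rw [hx]; exact x.2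
    · intro hz
      exact ⟨⟨φ ⟨z, hz⟩, ⟨z, hz⟩, rfl⟩, h ⟨z, hz⟩⟩
  · obtain ⟨x, hx, hx'⟩ := hy y
    rw [← hx]; exact apply_eq_of_coe_eq hx'

theorem ext_hom {F E : FusionSystem S} (h : ∀ P, F.Hom P = E.Hom P) : F = E := by
  obtain ⟨a, _, _, _, _, _⟩ := F
  obtain ⟨b, _, _, _, _, _⟩ := E
  obtain rfl : a = b := funext h
  rfl

theorem le_antisymm' {F E : FusionSystem S} (h₁ : F ≤ E) (h₂ : E ≤ F) : F = E :=
  ext_hom fun P => Set.Subset.antisymm (h₁ P) (h₂ P)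

theorem inner_le (F : FusionSystem S) : innerFusionSystem S ≤ F := by
  rintro P φ ⟨hP, g, hg, h⟩
  exact mem_of_conj hP hg h

/-! ### Conjugacy of subgroups -/

theorem isConj_refl (hP : P ≤ S) : F.IsConj P P := ⟨P.subtype, subtype_mem hP, P.range_subtype⟩

theorem isConj_symm (h : F.IsConj P Q) : F.IsConj Q P := by
  obtain ⟨φ, hφ, hr⟩ := h
  obtain ⟨ψ, hψ, hψr, -, -⟩ := exists_inv hφ hr
  exact ⟨ψ, hψ, hψr⟩

theorem isConj_trans (h₁ : F.IsConj P Q) (h₂ : F.IsConj Q R) : F.IsConj P R := by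
  obtain ⟨φ, hφ, rfl⟩ := h₁
  obtain ⟨ψ, hψ, rfl⟩ := h₂
  obtain ⟨χ, hχ, hχe⟩ := exists_comp hφ hψ (fun x => ⟨x, rfl⟩)
  refine ⟨χ, hχ, ?_⟩
  ext z
  constructor
  · rintro ⟨x, rfl⟩
    exact ⟨_, (hχe x).symm⟩
  · rintro ⟨⟨_, x, rfl⟩, rfl⟩
    exact ⟨x, hχe x⟩

theorem IsConj.le_left (h : F.IsConj P Q) : P ≤ S := by
  obtain ⟨φ, hφ, -⟩ := h; exact le_S hφ

theorem IsConj.le_right (h : F.IsConj P Q) : Q ≤ S := by
  obtain ⟨φ, hφ, rfl⟩ := h; exact range_le_S hφ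

theorem finite_of_le [Finite S] (hP : P ≤ S) : Finite P :=
  Finite.of_injective (Subgroup.inclusion hP) (Subgroup.inclusion_injective hP)

theorem card_map_subgroupOf {φ : P →* Ω} (hφ : Function.Injective φ) (hR : R ≤ P) :
    Nat.card ((R.subgroupOf P).map φ) = Nat.card R := by
  rw [Nat.card_congr ((R.subgroupOf P).equivMapOfInjective φ hφ).symm.toEquiv]
  exact Nat.card_congr (Subgroup.subgroupOfEquivOfLe hR).toEquiv

theorem card_range {φ : P →* Ω} (hφ : φ ∈ F.Hom P) : Nat.card φ.range = Nat.card P :=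
  (Nat.card_congr (φ.ofInjective (F.injective_of_mem hφ)).toEquiv).symm

theorem IsConj.card_eq (h : F.IsConj P Q) : Nat.card Q = Nat.card P := by
  obtain ⟨φ, hφ, rfl⟩ := h; exact card_range hφ

theorem eq_of_le_of_card_le [Finite Q] (h : P ≤ Q) (hc : Nat.card Q ≤ Nat.card P) : P = Q := by
  refine SetLike.coe_injective (Set.eq_of_subset_of_ncard_le h ?_ (Set.toFinite _))
  rwa [← Nat.card_coe_set_eq, ← Nat.card_coe_set_eq]

/-- Image of a subgroup under a map, as a conjugate. -/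
theorem isConj_map {φ : P →* Ω} (hφ : φ ∈ F.Hom P) (hR : R ≤ P) :
    F.IsConj R ((R.subgroupOf P).map φ) := by
  refine ⟨_, restrict_mem hR hφ, ?_⟩
  ext y
  constructor
  · rintro ⟨x, rfl⟩; exact ⟨⟨x, hR x.2⟩, x.2, rfl⟩
  · rintro ⟨x, hx, rfl⟩; exact ⟨⟨x, hx⟩, rfl⟩

/-- The restriction of a map to `R ≤ P`, with prescribed image. -/
theorem exists_restrict {φ : P →* Ω} (hφ : φ ∈ F.Hom P) (hR : R ≤ P)
    (h : (R.subgroupOf P).map φ = Q) :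
    ∃ χ ∈ F.Hom R, χ.range = Q ∧ ∀ x : R, χ x = φ ⟨x, hR x.2⟩ := by
  refine ⟨_, restrict_mem hR hφ, ?_, fun _ => rfl⟩
  rw [← h]
  ext y
  constructor
  · rintro ⟨x, rfl⟩; exact ⟨⟨x, hR x.2⟩, x.2, rfl⟩
  · rintro ⟨x, hx, rfl⟩; exact ⟨⟨x, hx⟩, rfl⟩

end CfsgLib.Fusion
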