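import Cfsg.Agent.Lib.Fusion.BisetBuild

/-!
# Stable bisets

`exists_biset`: every saturated fusion system over a finite `p`-group has a finite `(S, S)`-biset `X`
whose point stabilizers are twisted diagonals by maps of the system, whose marks at `(ψ, φ)`-twisted
diagonals of `P` depend only on `P`, and with `|X| / |S|` prime to `p`.
-/

namespace CfsgLib.Fusion

open Cfsg Cfsg.FusionSystem CfsgLib.Fusion CfsgLib.Fusion.Marks CfsgLib.Fusion.Twist
  CfsgLib.Fusion.BisetBuild MulAction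

universe u

variable {Ω : Type u} [Group Ω] {S : Subgroup Ω}

/-- A stable biset: the pair `(a, b)` acts as `x ↦ a x b⁻¹`. -/
structure StableBiset (F : FusionSystem S) (p : ℕ) where
  /-- The underlying set. -/
  X : Type u
  /-- It is finite. -/
  finX : Finite X
  /-- The action. -/
  actX : MulAction (↥S × ↥S) X
  isTw_stab : ∀ x : X, IsTw F (stabilizer (↥S × ↥S) x)
  stable : ∀ (P : Subgroup Ω) (ψ φ : P →* Ω), ψ ∈ F.Hom P → φ ∈ F.Hom P →
    mark (twist S ψ φ) X = mark (diag S P) X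
  degree : ¬ p ∣ Nat.card X / Nat.card S
  card_dvd : Nat.card S ∣ Nat.card X

attribute [instance] StableBiset.finX StableBiset.actX

namespace BisetBuild

variable {p : ℕ} {F : FusionSystem S}

theorem card_S_prod [Finite S] : Nat.card (↥S × ↥S) = Nat.card S * Nat.card S := Nat.card_prod _ _

theorem card_dvd_S [Finite S] {H : Subgroup (↥S × ↥S)} (hH : IsTw F H) :
    Nat.card H ∣ Nat.card S := by
  rw [← hH.card_left]; exact Subgroup.card_dvd_of_le (left_le H)

theorem card_space [Finite S] (L : List (Subgroup (↥S × ↥S))) (hL : ∀ H ∈ L, IsTw F H) :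
    Nat.card (Space L) =
      Nat.card S * ((L : Multiset _).map fun H : Subgroup (↥S × ↥S) => Nat.card S / Nat.card H).sum := by
  have e : ∀ H ∈ L, H.index = Nat.card S * (Nat.card S / Nat.card H) := by
    intro H hH
    have h1 := H.card_mul_index
    rw [card_S_prod] at h1
    obtain ⟨d, hd⟩ := card_dvd_S (hL H hH)
    rw [hd, Nat.mul_div_cancel_left _ Nat.card_pos]
    rw [hd] at h1
    exact Nat.eq_of_mul_eq_mul_left (Nat.card_pos (α := H)) (by rw [h1]; ring)
  show Nat.card (Σ i : Fin L.length, (↥S × ↥S) ⧸ L.get i) = _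
  rw [Nat.card_sigma, Multiset.map_coe, Multiset.sum_coe]
  rw [← List.sum_map_mul_left, List.map_congr_left fun H hH => (e H hH).symm]
  rw [← List.sum_ofFn]
  congr 1
  exact (List.ofFn_comp' L.get fun H : Subgroup (↥S × ↥S) => H.index).trans (by rw [List.ofFn_get])

variable [Finite S] [Fact p.Prime]

theorem isTw_top_iff {K : Subgroup (↥S × ↥S)} (hK : IsTw F K) (hc : Nat.card K = Nat.card S) :
    ∃ α : F.autGroup S, K = twist S S.subtype (S.subtype.comp (α : MulAut S).toMonoidHom) := by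
  obtain ⟨χ, hχ, he⟩ := hK.exists_graph
  have hl : left K = S :=
    eq_of_le_of_card_le (left_le K) (by rw [hK.card_left, hc])
  suffices ∀ (P : Subgroup Ω) (χ : P →* Ω), χ ∈ F.Hom P → P = S → K = twist S P.subtype χ →
      ∃ α : F.autGroup S, K = twist S S.subtype (S.subtype.comp (α : MulAut S).toMonoidHom) from
    this _ χ hχ hl he
  intro P φ hφ hP heφ
  subst hP
  obtain ⟨α, hα, hαe⟩ := exists_aut hφ (range_eq_of_card_le hφ le_rfl (apply_mem_S hφ) le_rfl)
  have e : P.subtype.comp α.toMonoidHom = φ := MonoidHom.ext hαe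
  exact ⟨⟨α, hα⟩, by rw [heφ]; simp only [e]⟩

omit [Fact p.Prime] in
/-- The reference diagonal of a top twisted diagonal, and its weight. -/
theorem wt_top (hF : F.IsSaturated p) {K : Subgroup (↥S × ↥S)} (hK : IsTw F K)
    (hc : Nat.card K = Nat.card S) : wt (repK F p K) = wt K := by
  obtain ⟨α, he⟩ := isTw_top_iff hK hc
  have hl : left K = S := eq_of_le_of_card_le (left_le K) (by rw [hK.card_left, hc])
  have hr : repK F p K = diag S S := by
    have h := (rep_spec hF (le_refl S)).1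
    simp only [repK, hl]
    rw [show rep F p S = S from eq_of_le_of_card_le (IsConj.le_right h) (by rw [IsConj.card_eq h])]
  let Θ : ↥S × ↥S ≃* ↥S × ↥S := (MulEquiv.refl S).prodCongr (α : MulAut S)
  have hΘ : (diag S S).map Θ.toMonoidHom = K := by
    rw [he]
    ext g
    constructor
    · rintro ⟨g, ⟨x, h₁, h₂⟩, rfl⟩
      refine ⟨x, h₁, ?_⟩
      show (((α : MulAut S) g.2 : S) : Ω) = _
      rw [show g.2 = x from Subtype.ext h₂]; rfl
    · rintro ⟨x, h₁, h₂⟩
      exact ⟨(x, x), ⟨x, rfl, rfl⟩, Prod.ext (Subtype.ext h₁.symm) (Subtype.ext h₂.symm)⟩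
  rw [hr]
  have hN : (Subgroup.normalizer (diag S S : Set (↥S × ↥S))).map Θ.toMonoidHom =
      Subgroup.normalizer (K : Set (↥S × ↥S)) := by
    rw [Subgroup.map_equiv_normalizer_eq, hΘ]
  have h1 := wt_mul_card K
  rw [← hN, ← Nat.card_congr (((Subgroup.normalizer (diag S S : Set (↥S × ↥S)))).equivMapOfInjective Θ.toMonoidHom
    Θ.injective).toEquiv, ← wt_mul_card, ← hΘ, ← Nat.card_congr ((diag S S).equivMapOfInjective Θ.toMonoidHom
    Θ.injective).toEquiv, hΘ] at h1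
  exact (Nat.eq_of_mul_eq_mul_right Nat.card_pos h1).symm

theorem not_dvd_card_top (hS : IsPGroup p S) (hF : F.IsSaturated p)
    (R : Finset (Subgroup (↥S × ↥S)))
    (hR : ∀ K, K ∈ R ↔ IsTw F K ∧ Nat.card K = Nat.card S ∧ pick K = K) : ¬ p ∣ R.card := by
  have hA := (fullyNormalized_good hS hF (P := S) ?_).1
  swap
  · refine ⟨le_rfl, fun Q hQ => ?_⟩
    rw [show Q = S from eq_of_le_of_card_le (IsConj.le_right hQ) (by rw [IsConj.card_eq hQ])]
  have hcard := (fullyAutomized_iff.mp hA).2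
  have := finite_mulAut (le_refl S)
  let T : F.autGroup S → Subgroup (↥S × ↥S) := fun α =>
    twist S S.subtype (S.subtype.comp (α : MulAut S).toMonoidHom)
  have hT : ∀ α, IsTw F (T α) ∧ Nat.card (T α) = Nat.card S := fun α => by
    have h := (mem_autGroup le_rfl).mp α.2
    exact ⟨⟨S, _, subtype_mem le_rfl, _, h, rfl⟩, card_twist (subtype_mem le_rfl) h⟩
  set I : Subgroup (F.autGroup S) := (autInducedBy S S).subgroupOf (F.autGroup S) with hI
  have hconj : ∀ α β : F.autGroup S, α⁻¹ * β ∈ I → ∃ g, (T α).map (MulAut.conj g).toMonoidHom = T β := by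
    intro α β h
    obtain ⟨z, hz, hze⟩ := mem_autInducedBy.mp (Subgroup.mem_subgroupOf.mp h)
    refine ⟨((⟨z, hz⟩ : S)⁻¹, 1), ?_⟩
    have hβ : ∀ x : S, (β : MulAut S) x = (α : MulAut S) (⟨z, hz⟩ * x * ⟨z, hz⟩⁻¹) := by
      intro x
      have : ((α⁻¹ * β : F.autGroup S) : MulAut S) x = ⟨z, hz⟩ * x * ⟨z, hz⟩⁻¹ := Subtype.ext (hze x)
      rw [← this]; simp
    ext g
    constructor
    · rintro ⟨g, ⟨x, h₁, h₂⟩, rfl⟩
      refine ⟨(⟨z, hz⟩ : S)⁻¹ * x * ⟨z, hz⟩, ?_, ?_⟩
      · show ((((⟨z, hz⟩ : S)⁻¹ * g.1 * (⟨z, hz⟩ : S)⁻¹⁻¹) : S) : Ω) = _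
        rw [show g.1 = x from Subtype.ext h₁, inv_inv]; rfl
      · show (((1 : S) * g.2 * (1 : S)⁻¹ : S) : Ω) = (((β : MulAut S) _ : S) : Ω)
        rw [hβ, show g.2 = (α : MulAut S) x from Subtype.ext h₂]; simp [mul_assoc]
    · rintro ⟨x, h₁, h₂⟩
      refine ⟨((⟨z, hz⟩ : S) * x * (⟨z, hz⟩ : S)⁻¹, g.2), ⟨⟨z, hz⟩ * x * ⟨z, hz⟩⁻¹, rfl, ?_⟩, ?_⟩
      · rw [h₂]; exact congrArg Subtype.val (hβ x)
      · refine Prod.ext ?_ ?_
        · show (⟨z, hz⟩ : S)⁻¹ * (⟨z, hz⟩ * x * (⟨z, hz⟩ : S)⁻¹) * (⟨z, hz⟩ : S)⁻¹⁻¹ = g.1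
          rw [show g.1 = x from Subtype.ext h₁]; simp [mul_assoc]
        · show (1 : S) * g.2 * (1 : S)⁻¹ = g.2
          simp
  have hback : ∀ α β : F.autGroup S, pick (T α) = pick (T β) → α⁻¹ * β ∈ I := by
    intro α β h
    obtain ⟨g₁, e₁⟩ := pick_spec (T α)
    obtain ⟨g₂, e₂⟩ := pick_spec (T β)
    have hg : (T α).map (MulAut.conj (g₂⁻¹ * g₁)).toMonoidHom = T β := by
      rw [← map_conj_conj, e₁, h, ← e₂, map_conj_conj, inv_mul_cancel]; ext x; simp
    generalize g₂⁻¹ * g₁ = g at hg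
    -- `β x = g.2 α(g.1⁻¹ x g.1) g.2⁻¹`
    have hβ : ∀ x : S, (β : MulAut S) x = g.2 * (α : MulAut S) (g.1⁻¹ * x * g.1) * g.2⁻¹ := by
      intro x
      have hm : g * (g.1⁻¹ * x * g.1, (α : MulAut S) (g.1⁻¹ * x * g.1)) * g⁻¹ ∈ T β :=
        hg.le ⟨_, ⟨g.1⁻¹ * x * g.1, rfl, rfl⟩, rfl⟩
      obtain ⟨y, hy₁, hy₂⟩ := hm
      have : y = x := Subtype.ext (hy₁.symm.trans (by simp [mul_assoc]))
      subst this
      exact Subtype.ext hy₂.symm
    refine Subgroup.mem_subgroupOf.mpr (mem_autInducedBy.mpr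
      ⟨(((α : MulAut S).symm g.2 * g.1⁻¹ : S) : Ω), SetLike.coe_mem _, fun x => ?_⟩)
    show ((((α : MulAut S)⁻¹ * (β : MulAut S)) x : S) : Ω) = _
    rw [MulAut.mul_apply, MulAut.inv_apply, hβ]
    simp [mul_assoc]
  have hmem : ∀ α, pick (T α) ∈ R := by
    intro α
    obtain ⟨g, hg⟩ := pick_spec (T α)
    refine (hR _).mpr ⟨hg ▸ ((hT α).1.map_conj g).1, ?_, pick_pick _⟩
    rw [← hg, ← Nat.card_congr ((T α).equivMapOfInjective (MulAut.conj g).toMonoidHom
      (MulAut.conj g).injective).toEquiv]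
    exact (hT α).2
  let f : F.autGroup S ⧸ I → R :=
    Quotient.lift (fun α => ⟨pick (T α), hmem α⟩) fun α β h => by
      obtain ⟨g, hg⟩ := hconj α β (QuotientGroup.leftRel_apply.mp h)
      refine Subtype.ext ?_
      show pick (T α) = pick (T β)
      rw [← hg, pick_map_conj]
  have hf : Function.Bijective f := by
    constructor
    · intro a b
      induction a using QuotientGroup.induction_on with
      | H a =>
      induction b using QuotientGroup.induction_on with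
      | H b =>
      intro h
      exact QuotientGroup.eq.mpr (hback a b (congrArg Subtype.val h))
    · rintro ⟨K, hK⟩
      obtain ⟨hK₁, hK₂, hK₃⟩ := (hR K).mp hK
      obtain ⟨α, hα⟩ := isTw_top_iff hK₁ hK₂
      exact ⟨(α : F.autGroup S ⧸ I), Subtype.ext (by show pick (T α) = K; rw [← hK₃, hα])⟩
  have hidx : R.card = I.index := by
    rw [Subgroup.index, Nat.card_congr (Equiv.ofBijective f hf), Nat.card_eq_finsetCard]
  have hm := I.card_mul_index
  have hI' : Nat.card I = p ^ (Nat.card (F.autGroup S)).factorization p := by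
    rw [← hcard]
    exact Nat.card_congr (Subgroup.subgroupOfEquivOfLe (autInducedBy_le_autGroup le_rfl)).toEquiv
  intro hd
  rw [hidx] at hd
  have hp : p.Prime := Fact.out
  have : p ^ ((Nat.card (F.autGroup S)).factorization p + 1) ∣ Nat.card (F.autGroup S) := by
    calc p ^ ((Nat.card (F.autGroup S)).factorization p + 1) = Nat.card I * p := by rw [hI', pow_succ]
      _ ∣ Nat.card I * I.index := Nat.mul_dvd_mul_left _ hd
      _ = Nat.card (F.autGroup S) := hm
  exact Nat.pow_succ_factorization_not_dvd Nat.card_pos.ne' hp this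

/-- The iteration. -/
theorem exists_good (hS : IsPGroup p S) (hF : F.IsSaturated p) (j : ℕ) (hj : j < Nat.card S) :
    ∃ L : Multiset (Subgroup (↥S × ↥S)), Good F p (Nat.card S - (j + 1)) L ∧
      ¬ p ∣ (L.map fun H : Subgroup (↥S × ↥S) => Nat.card S / Nat.card H).sum := by
  have hp : p.Prime := Fact.out
  induction j with
  | zero =>
    have h0 : Good F p (Nat.card S) (0 : Multiset (Subgroup (↥S × ↥S))) :=
      ⟨by simp, fun K hK h => absurd (Nat.le_of_dvd Nat.card_pos (card_dvd_S hK)) (not_le.mpr h)⟩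
    obtain ⟨R, c, hR, hc, hG⟩ := step hS hF h0
    refine ⟨_, hG, ?_⟩
    have hc1 : ∀ K ∈ R, c K = 1 := fun K hK => by
      have := hc rfl K hK
      rw [wt_top hF ((hR K).mp hK).1 ((hR K).mp hK).2.1] at this
      exact mul_right_cancel₀ (wt_pos K).ne' (this.trans (one_mul _).symm)
    rw [zero_add, Multiset.map_bind, Multiset.sum_bind]
    simp only [Multiset.map_replicate, Multiset.sum_replicate, smul_eq_mul]
    rw [show (R.val.map fun K => c K * (Nat.card S / Nat.card K)).sum = R.card from ?_]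
    · exact not_dvd_card_top hS hF R hR
    · rw [Finset.card_eq_sum_ones]
      exact Finset.sum_congr rfl fun K hK => by
        rw [hc1 K hK, ((hR K).mp hK).2.1, Nat.div_self Nat.card_pos, one_mul]
  | succ j ih =>
    obtain ⟨L, hL, hd⟩ := ih (by omega)
    obtain ⟨R, c, hR, -, hG⟩ := step hS hF hL
    refine ⟨_, by rw [Nat.sub_add_eq (Nat.card S) (j + 1) 1]; exact hG, ?_⟩
    rw [Multiset.map_add, Multiset.sum_add, Multiset.map_bind, Multiset.sum_bind]
    simp only [Multiset.map_replicate, Multiset.sum_replicate, smul_eq_mul]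
    intro hdvd
    refine hd ((Nat.dvd_add_left ?_).mp hdvd)
    refine Multiset.dvd_sum fun m hm => ?_
    obtain ⟨K, hK, rfl⟩ := Multiset.mem_map.mp hm
    obtain ⟨hK₁, hK₂, -⟩ := (hR K).mp (Finset.mem_def.mpr hK)
    refine Dvd.dvd.mul_left ?_ _
    obtain ⟨d, hd'⟩ := card_dvd_S hK₁
    rw [hd', Nat.mul_div_cancel_left _ Nat.card_pos]
    obtain ⟨n, hn⟩ := IsPGroup.iff_card.mp hS
    have hdd : d ∣ p ^ n := hn ▸ Dvd.intro_left _ hd'.symm
    obtain ⟨i, -, rfl⟩ := (Nat.dvd_prime_pow hp).mp hdd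
    rcases i with _ | i
    · exfalso
      rw [pow_zero, mul_one] at hd'
      omega
    · exact Dvd.intro_left _ (pow_succ p i).symm

end BisetBuild

variable {p : ℕ} {F : FusionSystem S}

/-- Every saturated fusion system has a stable biset of degree prime to `p`. -/
theorem exists_biset [Finite S] [Fact p.Prime] (hS : IsPGroup p S) (hF : F.IsSaturated p) :
    Nonempty (StableBiset F p) := by
  have hpos : 0 < Nat.card S := Nat.card_pos
  obtain ⟨L, hL, hd⟩ := exists_good hS hF (Nat.card S - 1) (by omega)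
  rw [show Nat.card S - (Nat.card S - 1 + 1) = 0 by omega] at hL
  obtain ⟨l, rfl⟩ : ∃ l : List (Subgroup (↥S × ↥S)), (l : Multiset (Subgroup (↥S × ↥S))) = L :=
    ⟨L.toList, L.coe_toList⟩
  have hstab : ∀ x : Space l, IsTw F (stabilizer (↥S × ↥S) x) := fun x =>
    isTw_of_mk_ne_zero hL.1 (by
      rw [← mark_space]
      exact Nat.card_ne_zero.mpr ⟨⟨⟨x, fun k hk => hk⟩⟩, inferInstance⟩)
  refine ⟨⟨Space l, inferInstance, inferInstance, hstab, ?_, ?_, ?_⟩⟩
  · intro P ψ φ hψ hφ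
    have hP := le_S hψ
    have h1 : IsTw F (twist S ψ φ) := ⟨P, ψ, hψ, φ, hφ, rfl⟩
    rw [mark_space, mark_space, hL.2 _ h1 Nat.card_pos, hL.2 _ (isTw_diag hP) Nat.card_pos]
    simp only [repK]
    rw [left_twist hψ hφ, left_diag hP, ← rep_congr ⟨ψ, hψ, rfl⟩]
  · rw [card_space l hL.1, Nat.mul_div_cancel_left _ hpos]; exact hd
  · exact Dvd.intro _ (card_space l hL.1).symm

namespace StableBiset

variable (B : StableBiset F p)

/-- Right multiplication is free. -/
theorem eq_one_of_fix {b : S} {x : B.X} (h : ((1, b) : ↥S × ↥S) • x = x) : b = 1 := by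
  obtain ⟨P, ψ, hψ, φ, hφ, he⟩ := B.isTw_stab x
  obtain ⟨y, hy₁, hy₂⟩ := he.le h
  have : y = 1 := F.injective_of_mem hψ (by rw [map_one]; exact hy₁.symm)
  subst this
  exact Subtype.ext (hy₂.trans (map_one φ))

theorem isTw_of_mark_ne_zero {K : Subgroup (↥S × ↥S)} (h : mark K B.X ≠ 0) : IsTw F K := by
  obtain ⟨⟨x, hx⟩⟩ := (Nat.card_ne_zero.mp h).1
  exact (B.isTw_stab x).mono fun k hk => hx k hk

theorem mark_eq_diag {K : Subgroup (↥S × ↥S)} (hK : IsTw F K) :
    mark K B.X = mark (diag S (left K)) B.X := by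
  obtain ⟨χ, hχ, he⟩ := hK.exists_graph
  conv_lhs => rw [he]
  exact B.stable _ _ _ (subtype_mem (left_le K)) hχ

theorem mark_diag_congr {P Q : Subgroup Ω} (h : F.IsConj P Q) :
    mark (diag S P) B.X = mark (diag S Q) B.X := by
  obtain ⟨φ, hφ, rfl⟩ := h
  rw [← B.stable P φ φ hφ hφ, B.mark_eq_diag ⟨P, φ, hφ, φ, hφ, rfl⟩, left_twist hφ hφ]

/-- Stability: restricting the left action along a map of the system gives an isomorphic biset. -/
theorem exists_equiv [Finite S] {Q : Subgroup Ω} {ψ : Q →* Ω} (hψ : ψ ∈ F.Hom Q) :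
    ∃ e : B.X ≃ B.X, ∀ (q : Q) (b : S) (x : B.X),
      e (((⟨q, le_S hψ q.2⟩ : S), b) • x) = ((⟨ψ q, apply_mem_S hψ q⟩ : S), b) • e x := by
  have := finite_of_le (le_S hψ)
  let f₁ : ↥Q × ↥S →* ↥S × ↥S := (Subgroup.inclusion (le_S hψ)).prodMap (MonoidHom.id S)
  let f₂ : ↥Q × ↥S →* ↥S × ↥S := (ψ.codRestrict S (apply_mem_S hψ)).prodMap (MonoidHom.id S)
  let a₁ : MulAction (↥Q × ↥S) B.X := MulAction.compHom B.X f₁
  let a₂ : MulAction (↥Q × ↥S) B.X := MulAction.compHom B.X f₂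
  have hm : ∀ K : Subgroup (↥Q × ↥S), mark (K.map f₁) B.X = mark (K.map f₂) B.X := by
    intro K
    obtain ⟨h₁, h₂⟩ := isTw_transport hψ (subtype_mem (F := F) (le_refl S)) (f := f₁) (g := f₂)
      (fun n => ⟨n.1.2, n.2.2, rfl, rfl⟩) K
    by_cases hK : IsTw F (K.map f₁)
    · obtain ⟨hK', hc⟩ := h₁ hK
      rw [B.mark_eq_diag hK, B.mark_eq_diag hK', B.mark_diag_congr hc]
    · rw [not_imp_comm.mp B.isTw_of_mark_ne_zero hK,
        not_imp_comm.mp B.isTw_of_mark_ne_zero fun h => hK (h₂ h)]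
  have e : ∀ (f : ↥Q × ↥S →* ↥S × ↥S) (K : Subgroup (↥Q × ↥S)),
      @mark _ _ K B.X (MulAction.compHom B.X f) = mark (K.map f) B.X := fun f K =>
    Nat.card_congr ⟨fun x => ⟨x.1, by rintro _ ⟨k, hk, rfl⟩; exact x.2 k hk⟩,
      fun x => ⟨x.1, fun k hk => x.2 _ ⟨k, hk, rfl⟩⟩, fun _ => rfl, fun _ => rfl⟩
  obtain ⟨E, hE⟩ := @exists_equiv_of_marks (↥Q × ↥S) _ _ B.X B.X a₁ a₂ _ _ fun K => by
    rw [e, e, hm]
  exact ⟨E, fun q b x => hE (q, b) x⟩

end StableBiset

end CfsgLib.Fusion
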