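import Cfsg.Agent.Lib.Fusion.Twist
import Mathlib.Data.Fintype.Sigma
import Mathlib.Algebra.Group.Action.Sigma
import Mathlib.Data.Fintype.BigOperators

/-!
# Construction of a stable biset for a saturated fusion system

Orbits `(S × S) ⧸ K` are added, from large twisted diagonals `K` to small ones, so as to make the
number of fixed points of a twisted diagonal depend only on the class of its first projection.
-/

namespace CfsgLib.Fusion.BisetBuild

open Cfsg Cfsg.FusionSystem CfsgLib.Fusion CfsgLib.Fusion.Marks CfsgLib.Fusion.Twist MulAction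

variable {Ω : Type*} [Group Ω] {S : Subgroup Ω} {p : ℕ} {F : FusionSystem S}

/-- The chosen fully automized receptive conjugate. -/
noncomputable def rep (F : FusionSystem S) (p : ℕ) (P : Subgroup Ω) : Subgroup Ω :=
  Classical.epsilon fun Q => F.IsConj P Q ∧ F.IsFullyAutomized p Q ∧ F.IsReceptive Q

theorem rep_spec (hF : F.IsSaturated p) {P : Subgroup Ω} (hP : P ≤ S) :
    F.IsConj P (rep F p P) ∧ F.IsFullyAutomized p (rep F p P) ∧ F.IsReceptive (rep F p P) :=
  Classical.epsilon_spec (hF P hP)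

theorem rep_congr {P Q : Subgroup Ω} (h : F.IsConj P Q) : rep F p P = rep F p Q := by
  have e : ∀ R, F.IsConj P R ↔ F.IsConj Q R :=
    fun R => ⟨isConj_trans (isConj_symm h), isConj_trans h⟩
  simp only [rep, e]

theorem rep_rep (hF : F.IsSaturated p) {P : Subgroup Ω} (hP : P ≤ S) :
    rep F p (rep F p P) = rep F p P := (rep_congr (rep_spec hF hP).1).symm

/-- The reference diagonal for `K`. -/
noncomputable def repK (F : FusionSystem S) (p : ℕ) (K : Subgroup (↥S × ↥S)) :
    Subgroup (↥S × ↥S) :=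
  diag S (rep F p (left K))

theorem rep_le (hF : F.IsSaturated p) (K : Subgroup (↥S × ↥S)) : rep F p (left K) ≤ S :=
  IsConj.le_right (rep_spec hF (left_le K)).1

theorem isTw_repK (hF : F.IsSaturated p) (K : Subgroup (↥S × ↥S)) : IsTw F (repK F p K) :=
  isTw_diag (rep_le hF K)

theorem repK_repK (hF : F.IsSaturated p) (K : Subgroup (↥S × ↥S)) :
    repK F p (repK F p K) = repK F p K := by
  simp only [repK]; rw [left_diag (rep_le hF K), rep_rep hF (left_le K)]

theorem card_repK [Finite S] (hF : F.IsSaturated p) {K : Subgroup (↥S × ↥S)} (hK : IsTw F K) :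
    Nat.card (repK F p K) = Nat.card K := by
  rw [← (isTw_repK hF K).card_left, ← hK.card_left]
  simp only [repK]
  rw [left_diag (rep_le hF K), IsConj.card_eq (rep_spec hF (left_le K)).1]

theorem repK_map_conj {K : Subgroup (↥S × ↥S)} (hK : IsTw F K) (g : ↥S × ↥S) :
    repK F p (K.map (MulAut.conj g).toMonoidHom) = repK F p K := by
  simp only [repK, rep_congr (hK.map_conj g).2]

/-- The mark of `K` on the disjoint union of the `(S × S) ⧸ H`, `H ∈ L`. -/
noncomputable def mk (L : Multiset (Subgroup (↥S × ↥S))) (K : Subgroup (↥S × ↥S)) : ℕ :=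
  (L.map fun H => mark K ((↥S × ↥S) ⧸ H)).sum

/-- The mark of `K` on its own coset space. -/
noncomputable def wt (K : Subgroup (↥S × ↥S)) : ℕ := mark K ((↥S × ↥S) ⧸ K)

theorem mk_map_conj (L : Multiset (Subgroup (↥S × ↥S))) (K : Subgroup (↥S × ↥S)) (g : ↥S × ↥S) :
    mk L (K.map (MulAut.conj g).toMonoidHom) = mk L K := by
  simp only [mk, mark_map_conj]

theorem wt_mul_card [Finite S] (K : Subgroup (↥S × ↥S)) :
    wt K * Nat.card K = Nat.card (Subgroup.normalizer (K : Set (↥S × ↥S))) := mark_self_mul_card K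

theorem wt_pos [Finite S] (K : Subgroup (↥S × ↥S)) : 0 < wt K := by
  have h := wt_mul_card K
  have : 0 < Nat.card (Subgroup.normalizer (K : Set (↥S × ↥S))) := Nat.card_pos
  rcases Nat.eq_zero_or_pos (wt K) with h' | h'
  · rw [h', zero_mul] at h; omega
  · exact h'

/-- The disjoint union of the coset spaces. -/
def Space (L : List (Subgroup (↥S × ↥S))) : Type _ := Σ i : Fin L.length, (↥S × ↥S) ⧸ L.get i

instance instMulActionSpace (L : List (Subgroup (↥S × ↥S))) : MulAction (↥S × ↥S) (Space L) :=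
  inferInstanceAs (MulAction (↥S × ↥S) (Σ i : Fin L.length, (↥S × ↥S) ⧸ L.get i))

instance instFiniteSpace [Finite S] (L : List (Subgroup (↥S × ↥S))) : Finite (Space L) :=
  inferInstanceAs (Finite (Σ i : Fin L.length, (↥S × ↥S) ⧸ L.get i))

theorem mark_space [Finite S] (L : List (Subgroup (↥S × ↥S))) (K : Subgroup (↥S × ↥S)) :
    mark K (Space L) = mk (L : Multiset (Subgroup (↥S × ↥S))) K := by
  have e : mark K (Space L) = ∑ i : Fin L.length, mark K ((↥S × ↥S) ⧸ L.get i) := by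
    simp only [mark]
    rw [← Nat.card_sigma]
    exact Nat.card_congr
      { toFun := fun x => ⟨x.1.1, x.1.2, fun k hk =>
          eq_of_heq (Sigma.ext_iff.mp (x.2 k hk : k • x.1 = x.1)).2⟩
        invFun := fun x => ⟨⟨x.1, x.2.1⟩, fun k hk =>
          Sigma.ext rfl (heq_of_eq (x.2.2 k hk))⟩
        left_inv := fun _ => rfl
        right_inv := fun _ => rfl }
  rw [e, mk, Multiset.map_coe, Multiset.sum_coe, ← List.sum_ofFn]
  congr 1
  exact (List.ofFn_comp' L.get fun H => mark K ((↥S × ↥S) ⧸ H)).trans (by rw [List.ofFn_get])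

theorem isTw_of_mk_ne_zero [Finite S] {L : Multiset (Subgroup (↥S × ↥S))}
    (hL : ∀ H ∈ L, IsTw F H) {K : Subgroup (↥S × ↥S)} (h : mk L K ≠ 0) : IsTw F K := by
  by_contra hK
  apply h
  rw [mk, Multiset.sum_eq_zero_iff]
  intro m hm
  obtain ⟨H, hH, rfl⟩ := Multiset.mem_map.mp hm
  by_contra hne
  obtain ⟨g, hg⟩ := exists_conj_le hne
  have h1 := (((hL H hH).mono hg).map_conj g⁻¹).1
  have e : (K.map (MulAut.conj g).toMonoidHom).map (MulAut.conj g⁻¹).toMonoidHom = K := by
    rw [Subgroup.map_map]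
    convert Subgroup.map_id K
    ext x <;> simp [mul_assoc]
  rw [e] at h1
  exact hK h1

/-- Marks of twisted diagonals larger than `k` depend only on the class. -/
def Good (F : FusionSystem S) (p k : ℕ) (L : Multiset (Subgroup (↥S × ↥S))) : Prop :=
  (∀ H ∈ L, IsTw F H) ∧ ∀ K, IsTw F K → k < Nat.card K → mk L K = mk L (repK F p K)

/-- The action of `N` on an invariant set, through a homomorphism. -/
@[reducible] def actOn {G X N : Type*} [Group G] [MulAction G X] [Group N] (f : N →* G) (A : Set X)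
    (h : ∀ n, ∀ a ∈ A, f n • a ∈ A) : MulAction N A where
  smul n a := ⟨f n • (a : X), h n a a.2⟩
  one_smul a := Subtype.ext (show f 1 • (a : X) = a by simp)
  mul_smul m n a := Subtype.ext (show f (m * n) • (a : X) = f m • f n • (a : X) by
    rw [map_mul, mul_smul])

theorem marks_congr {G X N : Type*} [Group G] [MulAction G X] [Finite X] [Group N] [Finite N]
    (K : Subgroup N) [K.Normal] (f g : N →* G)
    (h : ∀ n, n ∉ K → mark ((K ⊔ Subgroup.zpowers n).map f) X = mark ((K ⊔ Subgroup.zpowers n).map g) X) :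
    Nat.card K * mark (K.map f) X ≡ Nat.card K * mark (K.map g) X [MOD Nat.card N] := by
  have hinv : ∀ (f : N →* G) (n : N), ∀ a ∈ fixSet (K.map f) X, f n • a ∈ fixSet (K.map f) X := by
    rintro f n a ha _ ⟨k, hk, rfl⟩
    have := ha (f (n⁻¹ * k * n)) ⟨_, by simpa using ‹K.Normal›.conj_mem k hk n⁻¹, rfl⟩
    calc f k • f n • a = f n • f (n⁻¹ * k * n) • a := by
          rw [← mul_smul, ← mul_smul, ← map_mul, ← map_mul]; congr 2; group
      _ = f n • a := by rw [this]
  letI iA : MulAction N (fixSet (K.map f) X) := actOn f _ (hinv f)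
  letI iB : MulAction N (fixSet (K.map g) X) := actOn g _ (hinv g)
  refine burnside_congr K (fun k hk a => Subtype.ext (a.2 _ ⟨k, hk, rfl⟩))
    (fun k hk a => Subtype.ext (a.2 _ ⟨k, hk, rfl⟩)) fun n hn => ?_
  have key : ∀ (f : N →* G) (x : X),
      x ∈ fixSet ((K ⊔ Subgroup.zpowers n).map f) X ↔ x ∈ fixSet (K.map f) X ∧ f n • x = x := by
    intro f x
    simp only [mem_fixSet_iff_le, Subgroup.map_le_iff_le_comap, sup_le_iff, Subgroup.zpowers_le,
      Subgroup.mem_comap, MulAction.mem_stabilizer_iff]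
  refine Eq.trans ?_ ((h n hn).trans ?_)
  · exact Nat.card_congr ⟨fun a => ⟨a.1.1, (key f _).mpr ⟨a.1.2, congrArg Subtype.val a.2⟩⟩,
      fun b => ⟨⟨b.1, ((key f _).mp b.2).1⟩, Subtype.ext ((key f _).mp b.2).2⟩, fun _ => rfl, fun _ => rfl⟩
  · exact (Nat.card_congr ⟨fun a => ⟨a.1.1, (key g _).mpr ⟨a.1.2, congrArg Subtype.val a.2⟩⟩,
      fun b => ⟨⟨b.1, ((key g _).mp b.2).1⟩, Subtype.ext ((key g _).mp b.2).2⟩, fun _ => rfl, fun _ => rfl⟩).symm

variable [Finite S] [Fact p.Prime]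

/-- The normalizer of a twisted diagonal maps into that of the reference diagonal. -/
theorem exists_normalizer_transport (hS : IsPGroup p S) (hF : F.IsSaturated p)
    {K : Subgroup (↥S × ↥S)} (hK : IsTw F K) :
    ∃ (A B : Subgroup Ω) (α : A →* Ω) (β : B →* Ω)
      (Γ : ↥(Subgroup.normalizer (K : Set (↥S × ↥S))) →* ↥S × ↥S),
      α ∈ F.Hom A ∧ β ∈ F.Hom B ∧
      (∀ n : Subgroup.normalizer (K : Set (↥S × ↥S)),
        ∃ (ha : ((n : ↥S × ↥S).1 : Ω) ∈ A) (hb : ((n : ↥S × ↥S).2 : Ω) ∈ B),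
          ((Γ n).1 : Ω) = α ⟨_, ha⟩ ∧ ((Γ n).2 : Ω) = β ⟨_, hb⟩) ∧
      Function.Injective Γ ∧
      (K.subgroupOf _).map Γ = repK F p K ∧
      Γ.range ≤ Subgroup.normalizer (repK F p K : Set (↥S × ↥S)) := by
  obtain ⟨φ, hφ, hKe⟩ := hK.exists_graph
  have hP : left K ≤ S := left_le K
  obtain ⟨hc, h₁, h₂⟩ := rep_spec hF hP
  obtain ⟨α, hα, -, hαP⟩ := exists_normalizer_hom hS h₁ h₂ hc
  obtain ⟨α₀, hα₀, hα₀r, hα₀e⟩ := exists_restrict hα (le_normalizerIn hP) hαP
  obtain ⟨φ', hφ', hφ'r, hφ'₁, hφ'₂⟩ := exists_inv hφ rfl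
  obtain ⟨γ, hγ, hγe⟩ := exists_comp hφ' hα₀ fun y => hφ'r.le ⟨y, rfl⟩
  have hγφ : ∀ x : ↥(left K), γ ⟨φ x, ⟨x, rfl⟩⟩ = α₀ x := fun x => by
    rw [hγe]; exact apply_eq_of_coe_eq (hφ'₁ x ⟨x, rfl⟩)
  have hγr : γ.range = rep F p (left K) := by
    rw [← hα₀r]
    ext z
    constructor
    · rintro ⟨y, rfl⟩; exact ⟨_, (hγe y).symm⟩
    · rintro ⟨x, rfl⟩; exact ⟨_, hγφ x⟩
  obtain ⟨β, hβ, hβe⟩ := h₂.2 φ.range γ hγ hγr
  have := finite_of_le hP
  have := finite_of_le (range_le_S hφ)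
  have hmem : ∀ n : Subgroup.normalizer (K : Set (↥S × ↥S)),
      ((n : ↥S × ↥S).1 : Ω) ∈ normalizerIn S (left K) ∧
        ((n : ↥S × ↥S).2 : Ω) ∈ extender S φ.range γ := by
    rintro ⟨n, hn⟩
    have hnK := Subgroup.mem_normalizer_iff.mp hn
    have hx : ∀ x : ↥(left K), ∃ y : ↥(left K), (y : Ω) = (n.1 : Ω) * x * (n.1 : Ω)⁻¹ ∧
        φ y = (n.2 : Ω) * φ x * (n.2 : Ω)⁻¹ := by
      intro x
      have hm := mk_mem_twist (subtype_mem hP) hφ x
      rw [← hKe] at hm
      have h := (hnK _).mp hm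
      obtain ⟨y, h₁, h₂⟩ := hKe.le h
      exact ⟨y, h₁.symm, h₂.symm⟩
    have hN : (n.1 : Ω) ∈ Subgroup.normalizer (left K : Set Ω) :=
      mem_normalizer_of_forall fun x hx' => by
        obtain ⟨y, hy, -⟩ := hx ⟨x, hx'⟩
        rw [← hy]; exact y.2
    refine ⟨⟨n.1.2, hN⟩, mem_extender.mpr ⟨n.2.2, mem_normalizer_of_forall ?_, α ⟨_, n.1.2, hN⟩,
      apply_mem_S hα _, ?_⟩⟩
    · rintro _ ⟨x, rfl⟩
      obtain ⟨y, -, hy⟩ := hx x
      exact ⟨y, hy⟩
    · rintro ⟨_, x, rfl⟩ hz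
      obtain ⟨y, hy₁, hy₂⟩ := hx x
      have e : γ ⟨_, hz⟩ = α₀ y := (apply_eq_of_coe_eq hy₂.symm).trans (hγφ y)
      rw [e, hγφ, hα₀e, hα₀e, ← map_inv α, ← map_mul α, ← map_mul α]
      exact apply_eq_of_coe_eq hy₁
  let Γ : ↥(Subgroup.normalizer (K : Set (↥S × ↥S))) →* ↥S × ↥S :=
    MonoidHom.mk' (fun n => (⟨α ⟨_, (hmem n).1⟩, apply_mem_S hα _⟩,
      ⟨β ⟨_, (hmem n).2⟩, apply_mem_S hβ _⟩)) fun a b => by
      refine Prod.ext (Subtype.ext ?_) (Subtype.ext ?_)
      · show α _ = α _ * α _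
        rw [← map_mul α]; exact apply_eq_of_coe_eq rfl
      · show β _ = β _ * β _
        rw [← map_mul β]; exact apply_eq_of_coe_eq rfl
  have hΓK : (K.subgroupOf _).map Γ = repK F p K := by
    have hβφ : ∀ (x : ↥(left K)) (hx : φ x ∈ extender S φ.range γ), β ⟨φ x, hx⟩ = α₀ x :=
      fun x hx => (hβe _ ⟨x, rfl⟩ hx).trans (hγφ x)
    ext k
    constructor
    · rintro ⟨n, hn, rfl⟩
      have hn' : (n : ↥S × ↥S) ∈ twist S (left K).subtype φ := hKe.le hn
      obtain ⟨x, hx₁, hx₂⟩ := hn'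
      refine ⟨⟨α₀ x, hα₀r.le ⟨x, rfl⟩⟩, ?_, ?_⟩
      · show α _ = α₀ x
        rw [hα₀e]; exact apply_eq_of_coe_eq hx₁
      · show β _ = α₀ x
        rw [← hβφ x (hx₂ ▸ (hmem n).2)]; exact apply_eq_of_coe_eq hx₂
    · rintro ⟨z, hz₁, hz₂⟩
      obtain ⟨x, hx⟩ := hα₀r.ge z.2
      have hm := mk_mem_twist (subtype_mem hP) hφ x
      rw [← hKe] at hm
      refine ⟨⟨_, Subgroup.le_normalizer hm⟩, hm, Prod.ext (Subtype.ext ?_) (Subtype.ext ?_)⟩
      · show α _ = _
        exact ((hα₀e x).symm.trans hx).trans hz₁.symm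
      · show β _ = _
        exact ((hβφ x _).trans hx).trans hz₂.symm
  refine ⟨_, _, α, β, Γ, hα, hβ, fun n => ⟨(hmem n).1, (hmem n).2, rfl, rfl⟩, ?_, hΓK, ?_⟩
  · intro a b h
    have e1 := F.injective_of_mem hα (congrArg (fun k : ↥S × ↥S => (k.1 : Ω)) h)
    have e2 := F.injective_of_mem hβ (congrArg (fun k : ↥S × ↥S => (k.2 : Ω)) h)
    exact Subtype.ext (Prod.ext (Subtype.ext (congrArg Subtype.val e1 :))
      (Subtype.ext (congrArg Subtype.val e2 :)))
  · rintro _ ⟨n, rfl⟩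
    have hle : (repK F p K).map (MulAut.conj (Γ n)).toMonoidHom = repK F p K := by
      rw [← hΓK, Subgroup.map_map]
      have e : (MulAut.conj (Γ n)).toMonoidHom.comp Γ = Γ.comp (MulAut.conj n).toMonoidHom := by
        ext x <;> simp
      rw [e, ← Subgroup.map_map]
      congr 1
      ext x
      simp only [Subgroup.mem_map, Subgroup.mem_subgroupOf]
      constructor
      · rintro ⟨y, hy, rfl⟩
        exact (Subgroup.mem_normalizer_iff.mp n.2 _).mp hy
      · intro hx
        refine ⟨n⁻¹ * x * n, ?_, by simp [mul_assoc]⟩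
        exact (Subgroup.mem_normalizer_iff.mp n.2 _).mpr (by simpa [mul_assoc] using hx)
    rw [Subgroup.mem_normalizer_iff]
    intro x
    constructor
    · exact fun hx => hle.le ⟨x, hx, rfl⟩
    · intro hx
      obtain ⟨y, hy, e⟩ := hle.ge hx
      rwa [← (MulAut.conj (Γ n)).injective e]

theorem wt_dvd_wt (hS : IsPGroup p S) (hF : F.IsSaturated p) {K : Subgroup (↥S × ↥S)}
    (hK : IsTw F K) : wt K ∣ wt (repK F p K) := by
  obtain ⟨A, B, α, β, Γ, -, -, -, hinj, -, hr⟩ := exists_normalizer_transport hS hF hK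
  have h1 := Subgroup.card_dvd_of_le hr
  rw [← Nat.card_congr (Γ.ofInjective hinj).toEquiv, ← wt_mul_card, ← wt_mul_card,
    card_repK hF hK] at h1
  exact Nat.dvd_of_mul_dvd_mul_right Nat.card_pos h1

theorem mk_congr (hS : IsPGroup p S) (hF : F.IsSaturated p) {k : ℕ}
    {L : Multiset (Subgroup (↥S × ↥S))} (hL : Good F p k L) {K : Subgroup (↥S × ↥S)} (hK : IsTw F K)
    (hk : Nat.card K = k) : mk L K ≡ mk L (repK F p K) [MOD wt K] := by
  obtain ⟨l, rfl⟩ : ∃ l : List (Subgroup (↥S × ↥S)), (l : Multiset (Subgroup (↥S × ↥S))) = L := ⟨L.toList, L.coe_toList⟩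
  obtain ⟨N, hN⟩ : ∃ N, N = Subgroup.normalizer (K : Set (↥S × ↥S)) := ⟨_, rfl⟩
  obtain ⟨A, B, α, β, Γ, hα, hβ, hΓ, hinj, hΓK, -⟩ := exists_normalizer_transport hS hF hK
  subst hN
  let N := Subgroup.normalizer (K : Set (↥S × ↥S))
  have hKN : K ≤ N := Subgroup.le_normalizer
  have hf : (K.subgroupOf N).map N.subtype = K := Subgroup.map_subgroupOf_eq_of_le hKN
  have hKn : (K.subgroupOf N).Normal := Subgroup.normal_subgroupOf_iff_le_normalizer hKN |>.mpr le_rfl
  have h := marks_congr (X := Space l) (K.subgroupOf N) N.subtype Γ (fun n hn => by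
    rw [mark_space, mark_space]
    set T := K.subgroupOf N ⊔ Subgroup.zpowers n
    obtain ⟨ht₁, ht₂⟩ := isTw_transport hα hβ (f := N.subtype) (g := Γ) hΓ T
    by_cases hT : IsTw F (T.map N.subtype)
    · obtain ⟨hT', hc⟩ := ht₁ hT
      have hlt : K.subgroupOf N < T :=
        lt_of_le_of_ne le_sup_left fun e => hn (e.ge (Subgroup.mem_sup_right (Subgroup.mem_zpowers n)))
      have hcard : k < Nat.card T := by
        rw [← hk, ← Nat.card_congr (Subgroup.subgroupOfEquivOfLe hKN).toEquiv]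
        by_contra hge
        exact hlt.ne (eq_of_le_of_card_le hlt.le (not_lt.mp hge))
      have hc₁ : Nat.card (T.map N.subtype) = Nat.card T :=
        (Nat.card_congr (T.equivMapOfInjective _ N.subtype_injective).toEquiv).symm
      have hc₂ : Nat.card (T.map Γ) = Nat.card T :=
        (Nat.card_congr (T.equivMapOfInjective _ hinj).toEquiv).symm
      rw [hL.2 _ hT (hc₁.symm ▸ hcard), hL.2 _ hT' (hc₂.symm ▸ hcard)]
      simp only [repK, rep_congr hc]
    · rw [not_imp_comm.mp (isTw_of_mk_ne_zero hL.1) hT,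
        not_imp_comm.mp (isTw_of_mk_ne_zero hL.1) (fun h' => hT (ht₂ h'))])
  rw [mark_space, mark_space, hf, hΓK] at h
  rw [Nat.card_congr (Subgroup.subgroupOfEquivOfLe hKN).toEquiv, ← wt_mul_card, mul_comm (wt K)] at h
  exact Nat.ModEq.mul_left_cancel' Nat.card_pos.ne' h

/-- The preferred member of a class of conjugate subgroups. -/
noncomputable def pick (K : Subgroup (↥S × ↥S)) : Subgroup (↥S × ↥S) :=
  Classical.epsilon fun K' => ∃ g, K.map (MulAut.conj g).toMonoidHom = K'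

omit [Finite S] in
theorem map_conj_conj (K : Subgroup (↥S × ↥S)) (g h : ↥S × ↥S) :
    (K.map (MulAut.conj g).toMonoidHom).map (MulAut.conj h).toMonoidHom =
      K.map (MulAut.conj (h * g)).toMonoidHom := by
  rw [Subgroup.map_map]; congr 1; ext x <;> simp

omit [Finite S] in
theorem pick_spec (K : Subgroup (↥S × ↥S)) : ∃ g, K.map (MulAut.conj g).toMonoidHom = pick K :=
  Classical.epsilon_spec (p := fun K' => ∃ g, K.map (MulAut.conj g).toMonoidHom = K')
    ⟨K, 1, by ext x; simp⟩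

omit [Finite S] in
theorem pick_map_conj (K : Subgroup (↥S × ↥S)) (h : ↥S × ↥S) :
    pick (K.map (MulAut.conj h).toMonoidHom) = pick K := by
  have e : ∀ K', (∃ g, (K.map (MulAut.conj h).toMonoidHom).map (MulAut.conj g).toMonoidHom = K') ↔
      ∃ g, K.map (MulAut.conj g).toMonoidHom = K' := by
    intro K'
    simp only [map_conj_conj]
    exact ⟨fun ⟨g, hg⟩ => ⟨g * h, hg⟩, fun ⟨g, hg⟩ => ⟨g * h⁻¹, by rwa [inv_mul_cancel_right]⟩⟩
  simp only [pick, e]

omit [Finite S] in
theorem pick_pick (K : Subgroup (↥S × ↥S)) : pick (pick K) = pick K := by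
  obtain ⟨g, hg⟩ := pick_spec K
  conv_lhs => rw [← hg]
  rw [pick_map_conj]

/-- Adding orbits at level `k`. -/
theorem step (hS : IsPGroup p S) (hF : F.IsSaturated p) {k : ℕ}
    {L : Multiset (Subgroup (↥S × ↥S))} (hL : Good F p k L) :
    ∃ (R : Finset (Subgroup (↥S × ↥S))) (c : Subgroup (↥S × ↥S) → ℕ),
      (∀ K, K ∈ R ↔ IsTw F K ∧ Nat.card K = k ∧ pick K = K) ∧
      (L = 0 → ∀ K ∈ R, c K * wt K = wt (repK F p K)) ∧
      Good F p (k - 1) (L + R.val.bind fun K => Multiset.replicate (c K) K) := by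
  classical
  cases nonempty_fintype (↥S × ↥S)
  cases nonempty_fintype (Subgroup (↥S × ↥S))
  let Bd := ∑ K, mk L K
  let M := fun K => mk L (repK F p K) + wt (repK F p K) * (Bd + 1)
  let c := fun K => (M K - mk L K) / wt K
  let R := Finset.univ.filter fun K : Subgroup (↥S × ↥S) => IsTw F K ∧ Nat.card K = k ∧ pick K = K
  have hR : ∀ K, K ∈ R ↔ IsTw F K ∧ Nat.card K = k ∧ pick K = K := by simp [R]
  have hc : ∀ K, IsTw F K → Nat.card K = k → mk L K + c K * wt K = M K := by
    intro K hK hk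
    have hle : mk L K ≤ M K :=
      calc mk L K ≤ Bd + 1 := (Finset.single_le_sum (fun _ _ => Nat.zero_le _)
            (Finset.mem_univ K)).trans (Nat.le_succ _)
        _ ≤ wt (repK F p K) * (Bd + 1) := Nat.le_mul_of_pos_left _ (wt_pos _)
        _ ≤ M K := Nat.le_add_left _ _
    have hmod : mk L K ≡ M K [MOD wt K] := by
      have h2 : wt (repK F p K) * (Bd + 1) ≡ 0 [MOD wt K] :=
        Nat.modEq_zero_iff_dvd.mpr ((wt_dvd_wt hS hF hK).mul_right _)
      simpa [M] using ((mk_congr hS hF hL hK hk).add_right 0).trans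
        (Nat.ModEq.add_left (mk L (repK F p K)) h2.symm)
    have hd : wt K ∣ M K - mk L K := (Nat.modEq_iff_dvd' hle).mp hmod
    simp only [c]
    rw [Nat.div_mul_cancel hd]
    omega
  refine ⟨R, c, hR, fun h0 K hK => ?_, ?_, ?_⟩
  · obtain ⟨hK, hk, -⟩ := (hR K).mp hK
    have := hc K hK hk
    simpa [M, Bd, h0, mk] using this
  · intro H hH
    rcases Multiset.mem_add.mp hH with h | h
    · exact hL.1 H h
    · obtain ⟨K, hK, hKH⟩ := Multiset.mem_bind.mp h
      rw [Multiset.eq_of_mem_replicate hKH]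
      exact ((hR K).mp (Finset.mem_def.mpr hK)).1
  · intro J hJ hJk
    have hm : ∀ J, mk (L + R.val.bind fun K => Multiset.replicate (c K) K) J =
        mk L J + ∑ K ∈ R, c K * mark J ((↥S × ↥S) ⧸ K) := by
      intro J
      simp only [mk, Multiset.map_add, Multiset.sum_add, Multiset.map_bind, Multiset.sum_bind,
        Multiset.map_replicate, Multiset.sum_replicate, smul_eq_mul]
      rfl
    have hbig : ∀ J : Subgroup (↥S × ↥S), k < Nat.card J →
        ∑ K ∈ R, c K * mark J ((↥S × ↥S) ⧸ K) = 0 := by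
      intro J hJ
      refine Finset.sum_eq_zero fun K hK => ?_
      by_contra hne
      obtain ⟨g, hg⟩ := exists_conj_le (mul_ne_zero_iff.mp hne).2
      have := Subgroup.card_dvd_of_le hg
      rw [← Nat.card_congr (J.equivMapOfInjective (MulAut.conj g).toMonoidHom (MulAut.conj g).injective).toEquiv] at this
      have := Nat.le_of_dvd Nat.card_pos this
      rw [((hR K).mp hK).2.1] at this
      omega
    have heq : ∀ J, IsTw F J → Nat.card J = k →
        mk (L + R.val.bind fun K => Multiset.replicate (c K) K) J = M J := by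
      intro J hJ hk
      obtain ⟨g, hg⟩ := pick_spec J
      have hpJ : IsTw F (pick J) := hg ▸ (hJ.map_conj g).1
      have hpk : Nat.card (pick J) = k := by
        rw [← hg, ← hk]
        exact (Nat.card_congr (J.equivMapOfInjective (MulAut.conj g).toMonoidHom (MulAut.conj g).injective).toEquiv).symm
      have hwt : mark J ((↥S × ↥S) ⧸ pick J) = wt (pick J) := by
        conv_rhs => rw [wt]; arg 1; rw [← hg]
        rw [mark_map_conj]
      rw [hm, Finset.sum_eq_single (pick J), hwt, ← mk_map_conj L J g, hg, hc _ hpJ hpk]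
      · simp only [M, ← hg, repK_map_conj hJ]
      · intro K hK hne
        by_contra h
        obtain ⟨g', hg'⟩ := exists_conj_le (mul_ne_zero_iff.mp h).2
        have e := map_conj_eq_of_le hg' (by rw [((hR K).mp hK).2.1, hk])
        exact hne (by rw [← ((hR K).mp hK).2.2, ← e, pick_map_conj])
      · exact fun h => absurd ((hR _).mpr ⟨hpJ, hpk, pick_pick J⟩) h
    rcases Nat.lt_or_ge k (Nat.card J) with hlt | hge
    · rw [hm, hm, hbig J hlt, hbig _ ((card_repK hF hJ).symm ▸ hlt), hL.2 J hJ hlt]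
    · have hk : Nat.card J = k := by omega
      rw [heq J hJ hk, heq _ (isTw_repK hF J) ((card_repK hF hJ).trans hk)]
      simp only [M, repK_repK hF]

end CfsgLib.Fusion.BisetBuild
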