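import Cfsg.Agent.Lib.Fusion.Transport
import Cfsg.Prelude.Def_Transfer

/-!
# Transport of normality, simplicity, the centre and the hyperfocal subgroup
-/

set_option autoImplicit false

namespace CfsgLib.FusionTransport

open Cfsg Cfsg.FusionSystem CfsgLib.Fusion CfsgLib.FusionNormal

section criteria

variable {Ω : Type*} [Group Ω] {S : Subgroup Ω} {F : FusionSystem S}
  {T : Subgroup Ω} {E : FusionSystem T}

/-- Invariance from statements about maps as functions. -/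
theorem isInvariantIn_of_mapFn (hsub : E.IsSubsystemOf F) (hT : F.StronglyClosed T)
    (htr : ∀ (P P' : Subgroup Ω) (f a : Ω → Ω), MapFn E P f → MapFn F T a →
      a '' T = (T : Set Ω) → a '' P = (P' : Set Ω) →
      ∃ χ, MapFn E P' χ ∧ ∀ x ∈ P, χ (a x) = a (f x))
    (hfr : ∀ (P : Subgroup Ω) (f : Ω → Ω), P ≤ T → MapFn F P f →
      ∃ a f₀, MapFn F T a ∧ a '' T = (T : Set Ω) ∧ MapFn E P f₀ ∧ ∀ x ∈ P, f x = a (f₀ x)) :
    E.IsInvariantIn F := by
  refine ⟨hsub, hT, fun P hPT φ hφ α hα => ?_, fun P hPT φ hφ => ?_⟩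
  · obtain ⟨a, ha, har, hae⟩ := exists_mapFn_of_aut hT.1 hα
    obtain ⟨f, hf, hfe⟩ := mapFn_of_hom hφ
    have himg : a '' P = (((P.subgroupOf T).map (T.subtype.comp α.toMonoidHom) : Subgroup Ω) : Set Ω) := by
      ext y
      constructor
      · rintro ⟨x, hx, rfl⟩; exact ⟨⟨x, hPT hx⟩, hx, (hae _).symm⟩
      · rintro ⟨x, hx, rfl⟩; exact ⟨x, hx, hae x⟩
    obtain ⟨c, ⟨χ, hχ, hχe⟩, hc⟩ := htr P _ f a hf ha har himg
    refine ⟨χ, hχ, fun x hφx hαx => ?_⟩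
    rw [hχe]
    show c ((α ⟨x, hPT x.2⟩ : T) : Ω) = ((α ⟨φ x, hφx⟩ : T) : Ω)
    rw [← hae, ← hae]
    show c (a x) = a (φ x)
    rw [hc x x.2, hfe]
  · obtain ⟨f, hf, hfe⟩ := mapFn_of_hom hφ
    obtain ⟨a, f₀, ha, har, ⟨φ₀, hφ₀, hφ₀e⟩, he⟩ := hfr P f hPT hf
    obtain ⟨α, hα, hαe⟩ := ha.exists_aut har
    refine ⟨α, hα, φ₀, hφ₀, fun x hx => ?_⟩
    rw [hαe, hfe, he x x.2]
    show a (f₀ x) = a (φ₀ x)
    rw [hφ₀e]

/-- The extension condition, for maps as functions. -/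
theorem mapFn_extension {p : ℕ} (h : E.IsNormalIn F p) {a : Ω → Ω} (ha : MapFn E T a)
    (har : a '' T = (T : Set Ω)) :
    ∃ b, MapFn F (T ⊔ centralizerIn S T) b ∧
      b '' (T ⊔ centralizerIn S T : Subgroup Ω) = ((T ⊔ centralizerIn S T : Subgroup Ω) : Set Ω) ∧
      (∀ x ∈ T, b x = a x) ∧
      ∀ c ∈ centralizerIn S T, c⁻¹ * b c ∈ T ⊓ Subgroup.centralizer (T : Set Ω) := by
  obtain ⟨α, hα, hαe⟩ := ha.exists_aut har
  obtain ⟨β, hβ, hβT, hβC⟩ := h.2 α hα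
  obtain ⟨b, hb, hbr, hbe⟩ := exists_mapFn_of_aut (sup_le h.1.2.2.2.1.1 centralizerIn_le) hβ
  refine ⟨b, hb, hbr, fun x hx => ?_, fun c hc => ?_⟩
  · have h1 := hβT ⟨x, hx⟩
    rw [← hbe, hαe] at h1
    exact h1
  · have h1 := hβC ⟨c, Subgroup.mem_sup_right hc⟩ hc
    rw [← hbe] at h1
    exact h1

/-- Normality from weak normality and the extension condition for maps as functions. -/
theorem isNormalIn_of_mapFn {p : ℕ} (hw : E.IsWeaklyNormalIn F p)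
    (hx : ∀ a : Ω → Ω, MapFn E T a → a '' T = (T : Set Ω) →
      ∃ b, MapFn F (T ⊔ centralizerIn S T) b ∧
        b '' (T ⊔ centralizerIn S T : Subgroup Ω) = ((T ⊔ centralizerIn S T : Subgroup Ω) : Set Ω) ∧
        (∀ x ∈ T, b x = a x) ∧
        ∀ c ∈ centralizerIn S T, c⁻¹ * b c ∈ T ⊓ Subgroup.centralizer (T : Set Ω)) :
    E.IsNormalIn F p := by
  refine ⟨hw, fun α hα => ?_⟩
  obtain ⟨a, ha, har, hae⟩ := exists_mapFn_of_aut le_rfl hα
  obtain ⟨b, hb, hbr, hbT, hbC⟩ := hx a ha har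
  obtain ⟨β, hβ, hβe⟩ := hb.exists_aut hbr
  refine ⟨β, hβ, fun x => ?_, fun c hc => ?_⟩
  · rw [hβe]
    show b x = _
    rw [hbT x x.2, hae]
  · rw [hβe]; exact hbC c hc

/-- Centrality from statements about maps as functions. -/
theorem isCentral_of_mapFn {Z : Subgroup Ω} (hZ : Z ≤ S)
    (h : ∀ P f, MapFn F P f → ∃ g, MapFn F (P ⊔ Z) g ∧ (∀ x ∈ P, g x = f x) ∧ ∀ z ∈ Z, g z = z) :
    F.IsCentral Z := by
  refine ⟨hZ, fun P φ hφ => ?_⟩
  obtain ⟨f, hf, he⟩ := mapFn_of_hom hφ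
  obtain ⟨g, ⟨ψ, hψ, hψe⟩, hgP, hgZ⟩ := h P f hf
  exact ⟨ψ, hψ, fun x => by rw [hψe]; exact (hgP x x.2).trans (he x).symm,
    fun x => by rw [hψe]; exact hgZ x x.2⟩

/-- Centrality, for maps as functions. -/
theorem mapFn_central {Z : Subgroup Ω} (hZ : F.IsCentral Z) {P : Subgroup Ω} {f : Ω → Ω}
    (hf : MapFn F P f) :
    ∃ g, MapFn F (P ⊔ Z) g ∧ (∀ x ∈ P, g x = f x) ∧ ∀ z ∈ Z, g z = z := by
  obtain ⟨φ, hφ, he⟩ := hf
  obtain ⟨ψ, hψ, hψP, hψZ⟩ := hZ.2 P φ hφ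
  obtain ⟨g, hg, hge⟩ := mapFn_of_hom hψ
  exact ⟨g, hg, fun x hx => ((hge ⟨x, Subgroup.mem_sup_left hx⟩).symm.trans (hψP ⟨x, hx⟩)).trans (he ⟨x, hx⟩),
    fun z hz => (hge ⟨z, Subgroup.mem_sup_right hz⟩).symm.trans (hψZ ⟨z, hz⟩)⟩

/-- Central subgroups are strongly closed. -/
theorem stronglyClosed_of_central {Z : Subgroup Ω} (hZ : F.IsCentral Z) : F.StronglyClosed Z := by
  refine ⟨hZ.1, fun R hR φ hφ x => ?_⟩
  obtain ⟨f, hf, he⟩ := mapFn_of_hom hφ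
  obtain ⟨g, -, hgR, hgZ⟩ := mapFn_central hZ hf
  rw [he, ← hgR x x.2, hgZ x (hR x.2)]
  exact hR x.2

end criteria

variable {Ω : Type*} [Group Ω] {Ω' : Type*} [Group Ω'] {T : Subgroup Ω} {T' : Subgroup Ω'} {e : Emb T T'}
  {U : Subgroup Ω} {X : FusionSystem U} {U' : Subgroup Ω'} {X' : FusionSystem U'}
  {V : Subgroup Ω} {Y : FusionSystem V} {V' : Subgroup Ω'} {Y' : FusionSystem V'}

/-- A map of the image comes from a map of the source. -/
theorem Rel.exists_map (h : Rel e X X') {Q : Subgroup Ω'} {k : Ω' → Ω'} (hk : MapFn X' Q k) :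
    ∃ l, MapFn X (e.symm.img Q) l ∧ ∀ x ∈ e.symm.img Q, e.f (l x) = k (e.f x) :=
  ⟨_, h.bwd hk, fun _ hx => e.fg _ (h.le' (hk.mem_S hx.2))⟩

theorem Rel.isConjImage (h : Rel e X X') {k : Ω' → Ω'} {Q : Subgroup Ω'} (hQ : Q ≤ T')
    (hk : k '' Q = (Q : Set Ω')) :
    (e.g ∘ k ∘ e.f) '' (e.symm.img Q : Set Ω) = (e.symm.img Q : Set Ω) :=
  Rel.image_fwd (e := e.symm) hQ hQ hk

theorem Rel.isInvariantIn (hX : Rel e X X') (hY : Rel e Y Y') (h : X.IsInvariantIn Y) :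
    X'.IsInvariantIn Y' := by
  have hsc : Y'.StronglyClosed U' := hX.eq ▸ hY.stronglyClosed h.2.1
  have hU : e.symm.img U' = U := hX.symm.eq
  refine isInvariantIn_of_mapFn (hX.mapFn_sub hY h.1) hsc (fun P P' f a hf ha har hP' => ?_)
    (fun P f hP hf => ?_)
  · have hPT : P ≤ T' := hf.le_S.trans hX.le'
    have haU : MapFn Y U (e.g ∘ a ∘ e.f) := hU ▸ hY.bwd ha
    have harU : (e.g ∘ a ∘ e.f) '' (U : Set Ω) = (U : Set Ω) := by
      rw [← hU]; exact hY.isConjImage hX.le' har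
    have hP'U : P' ≤ U' := fun y hy => by
      obtain ⟨x, hx, rfl⟩ := exists_of_image hP' hy
      exact mem_of_image har (hf.le_S hx)
    have himg : (e.g ∘ a ∘ e.f) '' (e.symm.img P : Set Ω) = (e.symm.img P' : Set Ω) :=
      Rel.image_fwd (e := e.symm) hPT (hP'U.trans hX.le') hP'
    obtain ⟨χ, hχ, hχe⟩ := mapFn_transport h (hX.bwd hf) haU harU himg
    have h1 := hX.fwd hχ
    rw [e.img_symm (hP'U.trans hX.le')] at h1
    refine ⟨_, h1, fun x hx => ?_⟩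
    have hx' : e.g x ∈ e.symm.img P := e.symm.f_mem_img hPT hx
    have h2 := hχe _ hx'
    simp only [Function.comp_apply, e.fg x (hPT hx), e.fg _ (hX.le' (hf.mem_S hx))] at h2
    show e.f (χ (e.g (a x))) = a (f x)
    rw [h2, e.fg _ (hY.le' (ha.mem_S (hf.mem_S hx)))]
  · have hPT : P ≤ T' := hP.trans hX.le'
    obtain ⟨a, f₀, ha, har, hf₀, he⟩ :=
      mapFn_frattini h ((e.symm.img_mono hP).trans hU.le) (hY.bwd hf)
    have h1 := hX.fwd hf₀
    rw [e.img_symm hPT] at h1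
    refine ⟨e.f ∘ a ∘ e.g, e.f ∘ f₀ ∘ e.g, hX.eq ▸ hY.fwd ha, ?_, h1, fun x hx => ?_⟩
    · rw [← hX.eq]; exact Rel.image_fwd hX.le hX.le har
    · have hx' : e.g x ∈ e.symm.img P := e.symm.f_mem_img hPT hx
      have h2 := he _ hx'
      simp only [Function.comp_apply, e.fg x (hPT hx)] at h2
      show f x = e.f (a (e.g (e.f (f₀ (e.g x)))))
      rw [e.gf _ (hX.le (hf₀.mem_S hx')), ← h2, e.fg _ (hY.le' (hf.mem_S hx))]

theorem Rel.isNormalIn [Finite T] {p : ℕ} [Fact p.Prime] (hT : IsPGroup p T) (hX : Rel e X X')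
    (hY : Rel e Y Y') (h : X.IsNormalIn Y p) : X'.IsNormalIn Y' p := by
  refine isNormalIn_of_mapFn
    ⟨hX.isSaturated hT h.1.1, hY.isSaturated hT h.1.2.1, hX.isInvariantIn hY h.1.2.2⟩
    fun a ha har => ?_
  have hUV : U ≤ V := h.1.2.2.2.1.1
  have hU : e.symm.img U' = U := hX.symm.eq
  have haU : MapFn X U (e.g ∘ a ∘ e.f) := hU ▸ hX.bwd ha
  have harU : (e.g ∘ a ∘ e.f) '' (U : Set Ω) = (U : Set Ω) := by
    rw [← hU]; exact hX.isConjImage hX.le' har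
  obtain ⟨b, hb, hbr, hbT, hbC⟩ := mapFn_extension h haU harU
  have hW : U ⊔ centralizerIn V U ≤ T := sup_le hX.le (centralizerIn_le.trans hY.le)
  have hWe : e.img (U ⊔ centralizerIn V U) = U' ⊔ centralizerIn V' U' := by
    rw [e.img_sup hX.le (centralizerIn_le.trans hY.le), e.img_centralizerIn hY.le hX.le, hX.eq, hY.eq]
  refine ⟨e.f ∘ b ∘ e.g, hWe ▸ hY.fwd hb, ?_, fun x hx => ?_, fun c hc => ?_⟩
  · rw [← hWe]; exact Rel.image_fwd hW hW hbr
  · show e.f (b (e.g x)) = a x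
    rw [hbT _ (hU ▸ e.symm.f_mem_img hX.le' hx)]
    show e.f (e.g (a (e.f (e.g x)))) = a x
    rw [e.fg x (hX.le' hx), e.fg _ (hX.le' (ha.mem_S hx))]
  · have hc' : c ∈ e.img (centralizerIn V U) := by
      rw [e.img_centralizerIn hY.le hX.le, hX.eq, hY.eq]; exact hc
    have hcT : c ∈ T' := hc'.1
    obtain ⟨hU1, hZ⟩ := hbC _ hc'.2
    have hbT' : b (e.g c) ∈ T := hY.le (hb.mem_S (Subgroup.mem_sup_right hc'.2))
    have hgc : e.g c ∈ T := e.g_mem c hcT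
    have hd : c⁻¹ * (e.f ∘ b ∘ e.g) c = e.f ((e.g c)⁻¹ * b (e.g c)) := by
      rw [e.f_mul _ (T.inv_mem hgc) _ hbT', e.f_inv hgc, e.fg c hcT]
      rfl
    rw [hd]
    refine ⟨hX.eq ▸ e.f_mem_img hX.le hU1, fun z hz => ?_⟩
    have hz' : e.g z ∈ U := hU ▸ e.symm.f_mem_img hX.le' hz
    have h3 := (e.commute_iff (T.mul_mem (T.inv_mem hgc) hbT') (hX.le hz')).mpr (hZ _ hz')
    rwa [e.fg z (hX.le' hz)] at h3

theorem Rel.isCentral (hX : Rel e X X') {Z : Subgroup Ω} (hZ : X.IsCentral Z) :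
    X'.IsCentral (e.img Z) := by
  refine isCentral_of_mapFn (hX.eq ▸ e.img_mono hZ.1) fun P f hf => ?_
  have hPT : P ≤ T' := hf.le_S.trans hX.le'
  have hZT : Z ≤ T := hZ.1.trans hX.le
  obtain ⟨g, hg, hgP, hgZ⟩ := mapFn_central hZ (hX.bwd hf)
  have h1 := hX.fwd hg
  rw [e.img_sup (e.symm.img_le P) hZT, e.img_symm hPT] at h1
  refine ⟨_, h1, fun x hx => ?_, fun z hz => ?_⟩
  · show e.f (g (e.g x)) = f x
    rw [hgP (e.g x) (e.symm.f_mem_img hPT hx)]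
    show e.f (e.g (f (e.f (e.g x)))) = f x
    rw [e.fg x (hPT hx), e.fg _ (hX.le' (hf.mem_S hx))]
  · show e.f (g (e.g z)) = z
    rw [hgZ _ hz.2, e.fg z hz.1]

theorem Rel.center (hX : Rel e X X') [Finite U] [Finite U'] : e.img X.center = X'.center := by
  have h1 := hX.isCentral (FusionExt.isCentral_center X)
  refine le_antisymm (le_sSup h1) ?_
  have h2 : e.symm.img X'.center ≤ X.center :=
    le_sSup (hX.symm.isCentral (FusionExt.isCentral_center X'))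
  rw [← e.img_symm ((FusionExt.isCentral_center X').1.trans hX.le')]
  exact e.img_mono h2

theorem Rel.img_hyperfocal_le (hX : Rel e X X') (p : ℕ) :
    ∀ y ∈ X.hyperfocalSubgroup p, e.f y ∈ X'.hyperfocalSubgroup p := by
  have hle : X.hyperfocalSubgroup p ≤ e.symm.img (X'.hyperfocalSubgroup p) := by
    refine (Subgroup.closure_le _).mpr ?_
    rintro _ ⟨P, α, x, hPU, hα, rfl⟩
    have hPT : P ≤ T := hPU.trans hX.le
    have himg : e.img P ≤ U' := hX.eq ▸ e.img_mono hPU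
    have hmap : ∀ β : X.autGroup P,
        (MulAut.congr (e.equiv hPT)) (β : MulAut P) ∈ X'.autGroup (e.img P) := by
      intro β
      obtain ⟨f, hf, hfe⟩ := (mem_autGroup_iff_mapFn hPU).mp β.2
      refine (mem_autGroup_iff_mapFn himg).mpr ⟨_, hX.fwd hf, fun y => ?_⟩
      show e.f (f (e.g y)) = e.f (((β : MulAut P) ⟨e.g y, y.2.2⟩ : P) : Ω)
      rw [← hfe]
    let ψ : X.autGroup P →* X'.autGroup (e.img P) :=
      ((MulAut.congr (e.equiv hPT)).toMonoidHom.comp (X.autGroup P).subtype).codRestrict _ hmap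
    have hψ : ψ α ∈ pResidual p (X'.autGroup (e.img P)) := by
      have hsub : pResidual p (X.autGroup P) ≤ (pResidual p (X'.autGroup (e.img P))).comap ψ := by
        refine (Subgroup.closure_le _).mpr fun b hb => Subgroup.subset_closure ?_
        exact Nat.Coprime.coprime_dvd_left (orderOf_map_dvd ψ b) hb
      exact hsub hα
    have hαP : (((α : MulAut P) x : P) : Ω) ∈ T := hPT ((α : MulAut P) x).2
    have hxT : (x : Ω) ∈ T := hPT x.2
    refine ⟨T.mul_mem (T.inv_mem hxT) hαP, ?_⟩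
    show e.f _ ∈ X'.hyperfocalSubgroup p
    refine Subgroup.subset_closure ⟨e.img P, ψ α, e.equiv hPT x, himg, hψ, ?_⟩
    rw [e.f_mul _ (T.inv_mem hxT) _ hαP, e.f_inv hxT]
    show _ = (e.f x)⁻¹ * e.f (((α : MulAut P) ((e.equiv hPT).symm (e.equiv hPT x)) : P) : Ω)
    rw [MulEquiv.symm_apply_apply]
  exact fun y hy => (hle hy).2

theorem Rel.hyperfocal (hX : Rel e X X') {p : ℕ} (h : X.hyperfocalSubgroup p = U) :
    X'.hyperfocalSubgroup p = U' := by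
  refine le_antisymm ((Subgroup.closure_le _).mpr ?_) fun y hy => ?_
  · rintro _ ⟨P, α, x, hP, -, rfl⟩
    exact U'.mul_mem (U'.inv_mem (hP x.2)) (hP ((α : MulAut P) x).2)
  · rw [← hX.eq] at hy
    rw [← e.fg y hy.1]
    exact hX.img_hyperfocal_le p _ (h.symm ▸ hy.2)

theorem Rel.isSimple [Finite T] [Finite T'] {p : ℕ} [Fact p.Prime] (hT : IsPGroup p T)
    (hT' : IsPGroup p T') (hX : Rel e X X') (h : X.IsSimple p) : X'.IsSimple p := by
  obtain ⟨hsat, hne, hsub⟩ := h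
  refine ⟨hX.isSaturated hT hsat, fun h0 => hne ?_, fun W E hE => ?_⟩
  · have h1 := hX.symm.eq
    rw [h0, e.symm.img_bot] at h1
    exact h1.symm
  · have hWT : W ≤ T' := hE.1.2.2.2.1.1.trans hX.le'
    have hR := rel_sys e.symm E hWT
    have hN := hR.isNormalIn hT' hX.symm hE
    rcases hsub _ _ hN with h1 | ⟨h1, h2⟩
    · left
      rw [← e.img_symm hWT, h1, e.img_bot]
    · right
      have hW : W = U' := by rw [← e.img_symm hWT, h1, hX.eq]
      subst hW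
      refine ⟨rfl, fun P => hom_eq_iff_mapFn.mpr fun k => ⟨mapFn_of_sub hE.1.2.2.1, fun hk => ?_⟩⟩
      have hP : P ≤ T' := hk.le_S.trans hX.le'
      obtain ⟨φ, hφ, he⟩ := hX.bwd hk
      have h3 : MapFn (sys e.symm E hWT) (e.symm.img P) (e.g ∘ k ∘ e.f) :=
        ⟨φ, (h2 _).symm ▸ hφ, he⟩
      have h4 := hR.bwd h3
      change MapFn E (e.img (e.symm.img P)) _ at h4
      rw [e.img_symm hP] at h4
      refine h4.congr fun y hy => ?_
      show e.f (e.g (k (e.f (e.g y)))) = k y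
      rw [e.fg y (hP hy), e.fg _ (hX.le' (hk.mem_S hy))]

end CfsgLib.FusionTransport
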