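import Cfsg.Agent.Lib.Fusion.Factor
import Cfsg.Agent.Lib.Fusion.TransportNormal
import Cfsg.Agent.Lib.FusionNormal.Alperin
import Cfsg.Agent.Lib.FusionNormal.Inner
import Cfsg.Prelude.Def_FusionComponents

/-!
# Central products of fusion systems inside one group

The maps of a central product are the products of maps of the factors, and the central product is
determined by its factors.
-/

set_option autoImplicit false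

namespace CfsgLib.FusionGF

open Cfsg Cfsg.FusionSystem CfsgLib.Fusion CfsgLib.FusionNormal CfsgLib.FusionTransport CfsgLib.FusionFactor

variable {Ω : Type*} [Group Ω] {T₁ T₂ U : Subgroup Ω} {E₁ : FusionSystem T₁} {E₂ : FusionSystem T₂}
  {D : FusionSystem U} {P : Subgroup Ω}

/-- The factor map of a central product is the multiplication. -/
theorem theta_eq {θ : ↥(T₁.prod T₂) →* Ω}
    (h₁ : ∀ (x : Ω) (hx : ((x, 1) : Ω × Ω) ∈ T₁.prod T₂), θ ⟨(x, 1), hx⟩ = x)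
    (h₂ : ∀ (y : Ω) (hy : ((1, y) : Ω × Ω) ∈ T₁.prod T₂), θ ⟨(1, y), hy⟩ = y)
    (s : ↥(T₁.prod T₂)) : θ s = (s : Ω × Ω).1 * (s : Ω × Ω).2 := by
  obtain ⟨⟨x, y⟩, hxy⟩ := s
  have hx : ((x, 1) : Ω × Ω) ∈ T₁.prod T₂ := Subgroup.mem_prod.mpr ⟨hxy.1, T₂.one_mem⟩
  have hy : ((1, y) : Ω × Ω) ∈ T₁.prod T₂ := Subgroup.mem_prod.mpr ⟨T₁.one_mem, hxy.2⟩
  have e : (⟨(x, y), hxy⟩ : ↥(T₁.prod T₂)) = ⟨(x, 1), hx⟩ * ⟨(1, y), hy⟩ :=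
    Subtype.ext (Prod.ext (mul_one x).symm (one_mul y).symm)
  conv_lhs => rw [e, map_mul, h₁, h₂]

/-- A map of a central product splits into maps of the factors. -/
theorem cp_split (h : IsCentralProductOf E₁ E₂ D) {f : Ω → Ω} (hf : MapFn D P f) :
    ∃ (A B : Subgroup Ω) (f₁ f₂ : Ω → Ω), MapFn E₁ A f₁ ∧ MapFn E₂ B f₂ ∧ A ≤ T₁ ∧ B ≤ T₂ ∧
      T₁ ⊓ T₂ ≤ A ∧ (∀ x ∈ P, ∃ a ∈ A, ∃ b ∈ B, x = a * b) ∧
      (∀ a ∈ T₁, ∀ b ∈ T₂, a * b ∈ P → a ∈ A ∧ b ∈ B ∧ f (a * b) = f₁ a * f₂ b) := by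
  obtain ⟨D₀, hD₀, Z, θ, hZ, -, -, h₁, h₂, hZS, hk, hrange, hiff⟩ := h
  obtain ⟨φ, hφ, hφe⟩ := hf
  obtain ⟨hPU, ψ, hψ, hPS, hψS, hm, hind⟩ := (hiff P φ).mp hφ
  obtain ⟨-, ψ₁, hψ₁, ψ₂, hψ₂, hψe⟩ := (hD₀ _ _).mp hψ
  obtain ⟨f₁, hf₁, hf₁e⟩ := mapFn_of_hom hψ₁
  obtain ⟨f₂, hf₂, hf₂e⟩ := mapFn_of_hom hψ₂
  have key : ∀ a ∈ T₁, ∀ b ∈ T₂, a * b ∈ P →
      a ∈ (preimageAlong θ P).map (MonoidHom.fst Ω Ω) ∧ b ∈ (preimageAlong θ P).map (MonoidHom.snd Ω Ω) ∧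
        f (a * b) = f₁ a * f₂ b := by
    intro a ha b hb hab
    have hm' : (a, b) ∈ preimageAlong θ P :=
      mem_preimageAlong.mpr ⟨⟨ha, hb⟩, by rw [theta_eq h₁ h₂]; exact hab⟩
    have k₁ : a ∈ (preimageAlong θ P).map (MonoidHom.fst Ω Ω) := ⟨_, hm', rfl⟩
    have k₂ : b ∈ (preimageAlong θ P).map (MonoidHom.snd Ω Ω) := ⟨_, hm', rfl⟩
    refine ⟨k₁, k₂, ?_⟩
    have e := hind ⟨(a, b), hm'⟩
    rw [hφe] at e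
    change f (θ ⟨(a, b), _⟩) = _ at e
    rw [theta_eq h₁ h₂, theta_eq h₁ h₂] at e
    change f (a * b) = _ at e
    rw [e]
    show (ψ ⟨(a, b), hm'⟩).1 * (ψ ⟨(a, b), hm'⟩).2 = _
    rw [hψe ⟨(a, b), hm'⟩ k₁ k₂]
    show ψ₁ ⟨a, k₁⟩ * ψ₂ ⟨b, k₂⟩ = _
    rw [hf₁e, hf₂e]
  refine ⟨_, _, f₁, f₂, hf₁, hf₂, hf₁.le_S, hf₂.le_S, fun x hx => ?_, fun x hx => ?_, key⟩
  · exact (key x hx.1 x⁻¹ (T₂.inv_mem hx.2) (by rw [mul_inv_cancel]; exact P.one_mem)).1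
  · obtain ⟨⟨⟨a, b⟩, ha, hb⟩, e⟩ := hrange.ge (hPU hx)
    rw [theta_eq h₁ h₂] at e
    change a * b = x at e
    exact ⟨a, (key a ha b hb (e ▸ hx)).1, b, (key a ha b hb (e ▸ hx)).2.1, e.symm⟩

/-- Maps of the factors, with sources containing the intersection, give maps of a central product. -/
theorem cp_pair [Finite T₁] [Finite T₂] (h : IsCentralProductOf E₁ E₂ D) {A B : Subgroup Ω}
    {f₁ f₂ : Ω → Ω} (hf₁ : MapFn E₁ A f₁) (hf₂ : MapFn E₂ B f₂) (hiA : T₁ ⊓ T₂ ≤ A) (hiB : T₁ ⊓ T₂ ≤ B)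
    (hP : ∀ x ∈ P, ∃ a ∈ A, ∃ b ∈ B, x = a * b) :
    ∃ f, MapFn D P f ∧ ∀ a ∈ A, ∀ b ∈ B, a * b ∈ P → f (a * b) = f₁ a * f₂ b := by
  obtain ⟨D₀, hD₀, Z, θ, hZ, -, -, h₁, h₂, hZS, hk, hrange, hiff⟩ := h
  have : Finite (T₁.prod T₂) := Finite.of_equiv _ (Subgroup.prodEquiv T₁ T₂).symm.toEquiv
  have hZc : D₀.IsCentral Z := by
    refine ⟨hZS, fun Q φ hφ => ?_⟩
    obtain ⟨f, hf, hfe⟩ := mapFn_of_hom hφ
    obtain ⟨g, hg, hgQ, hgZ⟩ := mapFn_central (CfsgLib.FusionExt.isCentral_center D₀) hf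
    obtain ⟨ψ, hψ, hψe⟩ := hg.mono (sup_le_sup_left hZ Q)
    exact ⟨ψ, hψ, fun x => (hψe _).trans ((hgQ x x.2).trans (hfe x).symm),
      fun x => (hψe _).trans (hgZ x (hZ x.2))⟩
  have hA : A ≤ T₁ := hf₁.le_S
  have hB : B ≤ T₂ := hf₂.le_S
  have hPU : P ≤ U := fun x hx => by
    obtain ⟨a, ha, b, hb, rfl⟩ := hP x hx
    exact hrange.le ⟨⟨(a, b), hA ha, hB hb⟩, theta_eq h₁ h₂ _⟩
  have hle : ∀ s : Ω × Ω, s ∈ preimageAlong θ P → s.1 ∈ A ∧ s.2 ∈ B := by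
    intro s hs
    obtain ⟨hsT, hsP⟩ := mem_preimageAlong.mp hs
    rw [theta_eq h₁ h₂] at hsP
    obtain ⟨a, ha, b, hb, e⟩ := hP _ hsP
    have e' : a⁻¹ * s.1 = b * s.2⁻¹ := by
      have e1 : s.1 = a * b * s.2⁻¹ := by
        change s.1 * s.2 = a * b at e
        rw [← e]; group
      rw [e1]; group
    have hi : a⁻¹ * s.1 ∈ T₁ ⊓ T₂ :=
      ⟨T₁.mul_mem (T₁.inv_mem (hA ha)) hsT.1, by rw [e']; exact T₂.mul_mem (hB hb) (T₂.inv_mem hsT.2)⟩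
    constructor
    · have := A.mul_mem ha (hiA hi)
      rwa [mul_inv_cancel_left] at this
    · have h3 := B.inv_mem (B.mul_mem (B.inv_mem hb) (hiB hi))
      rw [e', inv_mul_cancel_left, inv_inv] at h3
      exact h3
  obtain ⟨ψ₁, hψ₁, hψ₁e⟩ := hf₁.mono (R := (preimageAlong θ P).map (MonoidHom.fst Ω Ω)) (by
    rintro _ ⟨s, hs, rfl⟩; exact (hle s hs).1)
  obtain ⟨ψ₂, hψ₂, hψ₂e⟩ := hf₂.mono (R := (preimageAlong θ P).map (MonoidHom.snd Ω Ω)) (by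
    rintro _ ⟨s, hs, rfl⟩; exact (hle s hs).2)
  let ψ : preimageAlong θ P →* Ω × Ω :=
    { toFun := fun x => (ψ₁ ⟨(x : Ω × Ω).1, x, x.2, rfl⟩, ψ₂ ⟨(x : Ω × Ω).2, x, x.2, rfl⟩)
      map_one' := Prod.ext (map_one ψ₁) (map_one ψ₂)
      map_mul' := fun x y => Prod.ext
        (map_mul ψ₁ ⟨(x : Ω × Ω).1, x, x.2, rfl⟩ ⟨(y : Ω × Ω).1, y, y.2, rfl⟩)
        (map_mul ψ₂ ⟨(x : Ω × Ω).2, x, x.2, rfl⟩ ⟨(y : Ω × Ω).2, y, y.2, rfl⟩) }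
  have hψ : ψ ∈ D₀.Hom (preimageAlong θ P) :=
    (hD₀ _ _).mpr ⟨preimageAlong_le P, ψ₁, hψ₁, ψ₂, hψ₂, fun x _ _ => rfl⟩
  obtain ⟨φ, hφ⟩ := exists_induced hk (stronglyClosed_of_central hZc)
    (hPU.trans hrange.ge) hψ
  obtain ⟨f, hf, hfe⟩ := mapFn_of_hom ((hiff P φ).mpr ⟨hPU, ψ, hψ, hφ⟩)
  refine ⟨f, hf, fun a ha b hb hab => ?_⟩
  obtain ⟨hPS, hψS, hm, hind⟩ := hφ
  have hm' : (a, b) ∈ preimageAlong θ P :=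
    mem_preimageAlong.mpr ⟨⟨hA ha, hB hb⟩, by rw [theta_eq h₁ h₂]; exact hab⟩
  have e := hind ⟨(a, b), hm'⟩
  rw [hfe] at e
  change f (θ ⟨(a, b), _⟩) = _ at e
  rw [theta_eq h₁ h₂, theta_eq h₁ h₂] at e
  change f (a * b) = _ at e
  rw [e]
  show ψ₁ ⟨a, _⟩ * ψ₂ ⟨b, _⟩ = _
  rw [hψ₁e, hψ₂e]

/-- The base of a central product. -/
theorem cp_sup (h : IsCentralProductOf E₁ E₂ D) : U = T₁ ⊔ T₂ := by
  obtain ⟨D₀, -, Z, θ, -, -, -, h₁, h₂, -, -, hrange, -⟩ := h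
  rw [← hrange]
  refine le_antisymm ?_ (sup_le (fun x hx => ⟨⟨(x, 1), hx, T₂.one_mem⟩, h₁ _ _⟩)
    fun y hy => ⟨⟨(1, y), T₁.one_mem, hy⟩, h₂ _ _⟩)
  rintro _ ⟨s, rfl⟩
  rw [theta_eq h₁ h₂]
  exact (T₁ ⊔ T₂).mul_mem (Subgroup.mem_sup_left s.2.1) (Subgroup.mem_sup_right s.2.2)

/-- A central product is determined by its factors. -/
theorem cp_unique {D' : FusionSystem U} (h : IsCentralProductOf E₁ E₂ D)
    (h' : IsCentralProductOf E₁ E₂ D') : D'.IsSubsystemOf D := by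
  obtain ⟨D₀, hD₀, Z, θ, -, -, -, h₁, h₂, -, -, -, hiff⟩ := h
  obtain ⟨D₀', hD₀', Z', θ', -, -, -, h₁', h₂', -, -, -, hiff'⟩ := h'
  obtain rfl : θ' = θ := MonoidHom.ext fun s => (theta_eq h₁' h₂' s).trans (theta_eq h₁ h₂ s).symm
  intro P φ hφ
  obtain ⟨hP, ψ, hψ, hind⟩ := (hiff' P φ).mp hφ
  exact (hiff P φ).mpr ⟨hP, ψ, (hD₀ _ _).mpr ((hD₀' _ _).mp hψ), hind⟩

/-- The second factor is a subsystem of a central product. -/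
theorem cp_right_le [Finite T₁] [Finite T₂] (h : IsCentralProductOf E₁ E₂ D)
    (hsat : ∀ f P, MapFn E₂ P f → ∃ g, MapFn E₂ (P ⊔ (T₁ ⊓ T₂)) g ∧ (∀ x ∈ P, g x = f x) ∧
      ∀ z ∈ T₁ ⊓ T₂, g z = z) : E₂.IsSubsystemOf D := by
  refine fun P => hom_subset_iff_mapFn.mpr fun f hf => ?_
  obtain ⟨g, hg, hgP, hgZ⟩ := hsat f P hf
  obtain ⟨k, hk, hke⟩ := cp_pair (P := P) h (A := T₁ ⊓ T₂) (f₁ := id) (mapFn_id inf_le_left) hg le_rfl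
    le_sup_right (fun x hx => ⟨1, one_mem _, x, Subgroup.mem_sup_left hx, (one_mul x).symm⟩)
  refine hk.congr fun x hx => ?_
  have e := hke 1 (one_mem _) x (Subgroup.mem_sup_left hx) (by rwa [one_mul])
  rw [one_mul] at e
  rw [e, hgP x hx]
  exact one_mul _

end CfsgLib.FusionGF
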