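import Cfsg.Prelude.Def_FusionComponents

/-!
The direct product of two fusion systems.
-/

set_option autoImplicit false

namespace CfsgLib.FusionProduct

open Cfsg Cfsg.FusionSystem

variable {Ω₁ Ω₂ : Type*} [Group Ω₁] [Group Ω₂] {S₁ : Subgroup Ω₁} {S₂ : Subgroup Ω₂}

theorem hom_transport_source {Ω : Type*} [Group Ω] {S : Subgroup Ω} (F : FusionSystem S)
    {P P' : Subgroup Ω} (e : P = P') {φ : P →* Ω} (hφ : φ ∈ F.Hom P) :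
    ∃ ψ ∈ F.Hom P', ∀ (x : Ω) (hx : x ∈ P) (hx' : x ∈ P'), ψ ⟨x, hx'⟩ = φ ⟨x, hx⟩ := by
  subst e
  exact ⟨φ, hφ, fun x _ _ => rfl⟩

theorem range_map_fst {P : Subgroup (Ω₁ × Ω₂)} {φ : P →* Ω₁ × Ω₂}
    {φ₁ : P.map (MonoidHom.fst Ω₁ Ω₂) →* Ω₁}
    (h : ∀ (x : P) (h₁ : (x : Ω₁ × Ω₂).1 ∈ P.map (MonoidHom.fst Ω₁ Ω₂)),
      (φ x).1 = φ₁ ⟨(x : Ω₁ × Ω₂).1, h₁⟩) :
    φ₁.range = φ.range.map (MonoidHom.fst Ω₁ Ω₂) := by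
  ext z
  constructor
  · rintro ⟨⟨_, w, hw, rfl⟩, rfl⟩
    exact ⟨φ ⟨w, hw⟩, ⟨⟨w, hw⟩, rfl⟩, h ⟨w, hw⟩ _⟩
  · rintro ⟨_, ⟨x, rfl⟩, rfl⟩
    exact ⟨⟨_, ⟨x, x.2, rfl⟩⟩, (h x _).symm⟩

theorem range_map_snd {P : Subgroup (Ω₁ × Ω₂)} {φ : P →* Ω₁ × Ω₂}
    {φ₂ : P.map (MonoidHom.snd Ω₁ Ω₂) →* Ω₂}
    (h : ∀ (x : P) (h₂ : (x : Ω₁ × Ω₂).2 ∈ P.map (MonoidHom.snd Ω₁ Ω₂)),
      (φ x).2 = φ₂ ⟨(x : Ω₁ × Ω₂).2, h₂⟩) :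
    φ₂.range = φ.range.map (MonoidHom.snd Ω₁ Ω₂) := by
  ext z
  constructor
  · rintro ⟨⟨_, w, hw, rfl⟩, rfl⟩
    exact ⟨φ ⟨w, hw⟩, ⟨⟨w, hw⟩, rfl⟩, h ⟨w, hw⟩ _⟩
  · rintro ⟨_, ⟨x, rfl⟩, rfl⟩
    exact ⟨⟨_, ⟨x, x.2, rfl⟩⟩, (h x _).symm⟩

/-- The direct product of two fusion systems. -/
def prodSystem (F₁ : FusionSystem S₁) (F₂ : FusionSystem S₂) : FusionSystem (S₁.prod S₂) where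
  Hom P := {φ | P ≤ S₁.prod S₂ ∧
      ∃ φ₁ ∈ F₁.Hom (P.map (MonoidHom.fst Ω₁ Ω₂)), ∃ φ₂ ∈ F₂.Hom (P.map (MonoidHom.snd Ω₁ Ω₂)),
        ∀ (x : P) (h₁ : (x : Ω₁ × Ω₂).1 ∈ P.map (MonoidHom.fst Ω₁ Ω₂))
          (h₂ : (x : Ω₁ × Ω₂).2 ∈ P.map (MonoidHom.snd Ω₁ Ω₂)),
          φ x = (φ₁ ⟨(x : Ω₁ × Ω₂).1, h₁⟩, φ₂ ⟨(x : Ω₁ × Ω₂).2, h₂⟩)}
  le_of_mem := by
    rintro P φ ⟨hP, φ₁, hφ₁, φ₂, hφ₂, h⟩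
    refine ⟨hP, fun x => ?_⟩
    rw [h x ⟨x, x.2, rfl⟩ ⟨x, x.2, rfl⟩]
    exact ⟨(F₁.le_of_mem hφ₁).2 _, (F₂.le_of_mem hφ₂).2 _⟩
  injective_of_mem := by
    rintro P φ ⟨hP, φ₁, hφ₁, φ₂, hφ₂, h⟩ a b hab
    rw [h a ⟨a, a.2, rfl⟩ ⟨a, a.2, rfl⟩, h b ⟨b, b.2, rfl⟩ ⟨b, b.2, rfl⟩, Prod.mk.injEq] at hab
    exact Subtype.ext (Prod.ext (congrArg Subtype.val (F₁.injective_of_mem hφ₁ hab.1))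
      (congrArg Subtype.val (F₂.injective_of_mem hφ₂ hab.2)))
  conj_mem := by
    intro P g hP hg
    refine ⟨hP, conjHom _ g.1, F₁.conj_mem ?_ hg.1, conjHom _ g.2, F₂.conj_mem ?_ hg.2,
      fun x h₁ h₂ => rfl⟩
    · rintro _ ⟨x, hx, rfl⟩
      exact (hP hx).1
    · rintro _ ⟨x, hx, rfl⟩
      exact (hP hx).2
  comp_mem := by
    rintro P Q φ ψ ⟨hP, φ₁, hφ₁, φ₂, hφ₂, h⟩ ⟨-, ψ₁, hψ₁, ψ₂, hψ₂, k⟩ hPQ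
    have h1 : ∀ z : P.map (MonoidHom.fst Ω₁ Ω₂), φ₁ z ∈ Q.map (MonoidHom.fst Ω₁ Ω₂) := by
      rintro ⟨_, w, hw, rfl⟩
      exact ⟨φ ⟨w, hw⟩, hPQ ⟨w, hw⟩, congrArg Prod.fst (h ⟨w, hw⟩ _ ⟨w, hw, rfl⟩)⟩
    have h2 : ∀ z : P.map (MonoidHom.snd Ω₁ Ω₂), φ₂ z ∈ Q.map (MonoidHom.snd Ω₁ Ω₂) := by
      rintro ⟨_, w, hw, rfl⟩
      exact ⟨φ ⟨w, hw⟩, hPQ ⟨w, hw⟩, congrArg Prod.snd (h ⟨w, hw⟩ ⟨w, hw, rfl⟩ _)⟩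
    refine ⟨hP, _, F₁.comp_mem hφ₁ hψ₁ h1, _, F₂.comp_mem hφ₂ hψ₂ h2, fun x k₁ k₂ => ?_⟩
    have e := h x k₁ k₂
    have hm : φ x ∈ Q := hPQ x
    change ψ ⟨φ x, hm⟩ = _
    rw [k ⟨φ x, hm⟩ ⟨φ x, hm, rfl⟩ ⟨φ x, hm, rfl⟩]
    refine Prod.ext (congrArg ψ₁ (Subtype.ext ?_)) (congrArg ψ₂ (Subtype.ext ?_))
    · exact congrArg Prod.fst e
    · exact congrArg Prod.snd e
  inv_mem := by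
    rintro P φ ⟨hP, φ₁, hφ₁, φ₂, hφ₂, h⟩
    obtain ⟨ψ₁, hψ₁, i₁⟩ := F₁.inv_mem hφ₁
    obtain ⟨ψ₂, hψ₂, i₂⟩ := F₂.inv_mem hφ₂
    obtain ⟨χ₁, hχ₁, j₁⟩ := hom_transport_source F₁ (range_map_fst (φ := φ) (φ₁ := φ₁)
      fun x h₁ => congrArg Prod.fst (h x h₁ ⟨x, x.2, rfl⟩)) hψ₁
    obtain ⟨χ₂, hχ₂, j₂⟩ := hom_transport_source F₂ (range_map_snd (φ := φ) (φ₂ := φ₂)
      fun x h₂ => congrArg Prod.snd (h x ⟨x, x.2, rfl⟩ h₂)) hψ₂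
    have hinj : Function.Injective φ := by
      intro a b hab
      rw [h a ⟨a, a.2, rfl⟩ ⟨a, a.2, rfl⟩, h b ⟨b, b.2, rfl⟩ ⟨b, b.2, rfl⟩, Prod.mk.injEq] at hab
      exact Subtype.ext (Prod.ext (congrArg Subtype.val (F₁.injective_of_mem hφ₁ hab.1))
        (congrArg Subtype.val (F₂.injective_of_mem hφ₂ hab.2)))
    refine ⟨P.subtype.comp (MonoidHom.ofInjective hinj).symm.toMonoidHom,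
      ⟨?_, χ₁, hχ₁, χ₂, hχ₂, ?_⟩, ?_⟩
    · rintro _ ⟨x, rfl⟩
      rw [h x ⟨x, x.2, rfl⟩ ⟨x, x.2, rfl⟩]
      exact ⟨(F₁.le_of_mem hφ₁).2 _, (F₂.le_of_mem hφ₂).2 _⟩
    · rintro ⟨_, x, rfl⟩ k₁ k₂
      have hx : (MonoidHom.ofInjective hinj).symm ⟨φ x, x, rfl⟩ = x :=
        (MonoidHom.ofInjective hinj).symm_apply_apply x
      change ((MonoidHom.ofInjective hinj).symm ⟨φ x, x, rfl⟩ : Ω₁ × Ω₂) = _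
      rw [hx]
      have e := h x ⟨x, x.2, rfl⟩ ⟨x, x.2, rfl⟩
      refine Prod.ext ?_ ?_
      · refine ((j₁ _ ⟨⟨_, ⟨x, x.2, rfl⟩⟩, (congrArg Prod.fst e).symm⟩ k₁).trans ?_).symm
        have e' := i₁ ⟨(x : Ω₁ × Ω₂).1, ⟨x, x.2, rfl⟩⟩
        exact (congrArg ψ₁ (Subtype.ext (congrArg Prod.fst e))).trans e'
      · refine ((j₂ _ ⟨⟨_, ⟨x, x.2, rfl⟩⟩, (congrArg Prod.snd e).symm⟩ k₂).trans ?_).symm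
        have e' := i₂ ⟨(x : Ω₁ × Ω₂).2, ⟨x, x.2, rfl⟩⟩
        exact (congrArg ψ₂ (Subtype.ext (congrArg Prod.snd e))).trans e'
    · intro x
      exact congrArg Subtype.val ((MonoidHom.ofInjective hinj).symm_apply_apply x)

theorem prodSystem_isProductSystem (F₁ : FusionSystem S₁) (F₂ : FusionSystem S₂) :
    IsProductSystem F₁ F₂ (prodSystem F₁ F₂) := fun _ _ => Iff.rfl

end CfsgLib.FusionProduct
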