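import Cfsg.Agent.Lib.Fusion.CentralProduct
import Cfsg.Agent.Lib.Fusion.ProductSystem

/-!
# A central product is symmetric in its factors
-/

set_option autoImplicit false

namespace CfsgLib.FusionGF

open Cfsg Cfsg.FusionSystem CfsgLib.Fusion CfsgLib.FusionNormal CfsgLib.FusionTransport CfsgLib.FusionFactor

variable {Ω : Type*} [Group Ω] {T₁ T₂ U : Subgroup Ω} {E₁ : FusionSystem T₁} {E₂ : FusionSystem T₂}
  {D : FusionSystem U}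

/-- Maps of a product system, as functions. -/
theorem mapFn_product {D₀ : FusionSystem (T₁.prod T₂)} (h : IsProductSystem E₁ E₂ D₀) {P : Subgroup (Ω × Ω)}
    {f : Ω × Ω → Ω × Ω} :
    MapFn D₀ P f ↔ P ≤ T₁.prod T₂ ∧ ∃ f₁ f₂, MapFn E₁ (P.map (MonoidHom.fst Ω Ω)) f₁ ∧
      MapFn E₂ (P.map (MonoidHom.snd Ω Ω)) f₂ ∧ ∀ x ∈ P, f x = (f₁ x.1, f₂ x.2) := by
  constructor
  · rintro ⟨φ, hφ, he⟩
    obtain ⟨hP, φ₁, hφ₁, φ₂, hφ₂, hφe⟩ := (h P φ).mp hφ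
    obtain ⟨f₁, hf₁, h₁⟩ := mapFn_of_hom hφ₁
    obtain ⟨f₂, hf₂, h₂⟩ := mapFn_of_hom hφ₂
    refine ⟨hP, f₁, f₂, hf₁, hf₂, fun x hx => ?_⟩
    rw [← he ⟨x, hx⟩, hφe ⟨x, hx⟩ ⟨x, hx, rfl⟩ ⟨x, hx, rfl⟩, h₁, h₂]
  · rintro ⟨hP, f₁, f₂, ⟨φ₁, hφ₁, h₁⟩, ⟨φ₂, hφ₂, h₂⟩, he⟩
    let φ : P →* Ω × Ω :=
      { toFun := fun x => (φ₁ ⟨(x : Ω × Ω).1, x, x.2, rfl⟩, φ₂ ⟨(x : Ω × Ω).2, x, x.2, rfl⟩)
        map_one' := Prod.ext (map_one φ₁) (map_one φ₂)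
        map_mul' := fun x y => Prod.ext
          (map_mul φ₁ ⟨(x : Ω × Ω).1, x, x.2, rfl⟩ ⟨(y : Ω × Ω).1, y, y.2, rfl⟩)
          (map_mul φ₂ ⟨(x : Ω × Ω).2, x, x.2, rfl⟩ ⟨(y : Ω × Ω).2, y, y.2, rfl⟩) }
    refine ⟨φ, (h P φ).mpr ⟨hP, φ₁, hφ₁, φ₂, hφ₂, fun x _ _ => rfl⟩, fun x => ?_⟩
    rw [he x x.2]
    exact Prod.ext (h₁ _) (h₂ _)

/-- The image under exchange of the coordinates. -/
def sw (P : Subgroup (Ω × Ω)) : Subgroup (Ω × Ω) := P.map (MulEquiv.prodComm : Ω × Ω ≃* Ω × Ω).toMonoidHom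

theorem mem_sw {P : Subgroup (Ω × Ω)} {x : Ω × Ω} : x ∈ sw P ↔ x.swap ∈ P := by
  constructor
  · rintro ⟨y, hy, rfl⟩; exact hy
  · exact fun hx => ⟨x.swap, hx, rfl⟩

theorem sw_sw (P : Subgroup (Ω × Ω)) : sw (sw P) = P := Subgroup.ext fun x => by simp [mem_sw]

theorem sw_fst (P : Subgroup (Ω × Ω)) : (sw P).map (MonoidHom.fst Ω Ω) = P.map (MonoidHom.snd Ω Ω) := by
  rw [sw, Subgroup.map_map]; rfl

theorem sw_snd (P : Subgroup (Ω × Ω)) : (sw P).map (MonoidHom.snd Ω Ω) = P.map (MonoidHom.fst Ω Ω) := by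
  rw [sw, Subgroup.map_map]; rfl

theorem sw_prod (A B : Subgroup Ω) : sw (A.prod B) = B.prod A :=
  Subgroup.ext fun x => by simp [mem_sw, Subgroup.mem_prod, and_comm]

/-- A map of one product gives the exchanged map of the other. -/
theorem mapFn_sw {D₀ : FusionSystem (T₁.prod T₂)} (h : IsProductSystem E₁ E₂ D₀)
    {D₁ : FusionSystem (T₂.prod T₁)} (h' : IsProductSystem E₂ E₁ D₁) {P : Subgroup (Ω × Ω)}
    {f : Ω × Ω → Ω × Ω} (hf : MapFn D₀ P f) : MapFn D₁ (sw P) fun x => (f x.swap).swap := by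
  obtain ⟨hP, f₁, f₂, hf₁, hf₂, he⟩ := (mapFn_product h).mp hf
  refine (mapFn_product h').mpr ⟨fun x hx => ?_, f₂, f₁, by rwa [sw_fst], by rwa [sw_snd], fun x hx => ?_⟩
  · obtain ⟨h₁, h₂⟩ := hP (mem_sw.mp hx)
    exact ⟨h₂, h₁⟩
  · rw [he _ (mem_sw.mp hx)]; rfl

/-- A central product is symmetric in its factors. -/
theorem cp_symm [Finite T₁] [Finite T₂] (h : IsCentralProductOf E₁ E₂ D) : IsCentralProductOf E₂ E₁ D := by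
  obtain ⟨D₀, hD₀, Z, θ, hZ, hZ₁, hZ₂, h₁, h₂, hZS, hk, hrange, hiff⟩ := h
  have : Finite (T₁.prod T₂) := Finite.of_equiv _ (Subgroup.prodEquiv T₁ T₂).symm.toEquiv
  have : Finite (T₂.prod T₁) := Finite.of_equiv _ (Subgroup.prodEquiv T₂ T₁).symm.toEquiv
  set D₁ := FusionProduct.prodSystem E₂ E₁ with hD₁def
  have hD₁ : IsProductSystem E₂ E₁ D₁ := FusionProduct.prodSystem_isProductSystem E₂ E₁
  let σ : ↥(T₂.prod T₁) →* ↥(T₁.prod T₂) :=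
    ((MulEquiv.prodComm : Ω × Ω ≃* Ω × Ω).toMonoidHom.comp (T₂.prod T₁).subtype).codRestrict _
      fun x => ⟨x.2.2, x.2.1⟩
  have hσ : ∀ (x : Ω × Ω) (hx : x ∈ T₂.prod T₁), σ ⟨x, hx⟩ = ⟨x.swap, ⟨hx.2, hx.1⟩⟩ := fun _ _ => rfl
  have hσs : ∀ s, ((σ s : ↥(T₁.prod T₂)) : Ω × Ω) = (s : Ω × Ω).swap := fun _ => rfl
  have hinf : ∀ A B : Subgroup (Ω × Ω), sw (A ⊓ B) = sw A ⊓ sw B := fun A B =>
    Subgroup.ext fun x => by simp [mem_sw, Subgroup.mem_inf]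
  refine ⟨D₁, hD₁, sw Z, θ.comp σ, ?_, ?_, ?_, fun x hx => ?_, fun y hy => ?_, ?_, fun s => ?_, ?_, fun P φ => ?_⟩
  · -- central
    refine le_sSup (isCentral_of_mapFn (fun x hx => ?_) fun P f hf => ?_)
    · obtain ⟨a, b⟩ := hZS (mem_sw.mp hx)
      exact ⟨b, a⟩
    obtain ⟨g, hg, hgP, hgZ⟩ := mapFn_central (CfsgLib.FusionExt.isCentral_center D₀) (mapFn_sw hD₁ hD₀ hf)
    have hg' := mapFn_sw hD₀ hD₁ (hg.mono (sup_le_sup_left hZ (sw P)))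
    have hle : P ⊔ sw Z ≤ sw (sw P ⊔ Z) := by
      refine sup_le (fun x hx => ?_) fun x hx => ?_
      · exact mem_sw.mpr (Subgroup.mem_sup_left (mem_sw.mpr (by simpa using hx)))
      · exact mem_sw.mpr (Subgroup.mem_sup_right (mem_sw.mp hx))
    refine ⟨_, hg'.mono hle, fun x hx => ?_, fun z hz => ?_⟩
    · show (g x.swap).swap = f x
      rw [hgP _ (mem_sw.mpr (by simpa using hx))]
      simp
    · show (g z.swap).swap = z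
      rw [hgZ _ (hZ (mem_sw.mp hz))]
      simp
  · rw [← sw_prod ⊥ T₂, ← hinf, hZ₂, sw, Subgroup.map_bot]
  · rw [← sw_prod T₁ ⊥, ← hinf, hZ₁, sw, Subgroup.map_bot]
  · exact h₂ x _
  · exact h₁ y _
  · intro x hx
    obtain ⟨a, b⟩ := hZS (mem_sw.mp hx)
    exact ⟨b, a⟩
  · show θ (σ s) = 1 ↔ _
    rw [hk, hσs, mem_sw]
  · refine le_antisymm ?_ fun y hy => ?_
    · rintro _ ⟨s, rfl⟩; exact hrange.le ⟨_, rfl⟩
    · obtain ⟨⟨s, hs⟩, rfl⟩ := hrange.ge hy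
      exact ⟨⟨s.swap, ⟨hs.2, hs.1⟩⟩, congrArg θ (Subtype.ext s.swap_swap)⟩
  have hpre : preimageAlong (θ.comp σ) P = sw (preimageAlong θ P) := by
    ext x
    rw [mem_sw, mem_preimageAlong, mem_preimageAlong]
    constructor
    · rintro ⟨hx, h⟩; exact ⟨⟨hx.2, hx.1⟩, h⟩
    · rintro ⟨hx, h⟩; exact ⟨⟨hx.2, hx.1⟩, h⟩
  rw [hiff]
  refine and_congr_right fun _ => ⟨?_, ?_⟩
  · rintro ⟨ψ, hψ, hP, hψS, hm, hind⟩
    obtain ⟨f, hf, hfe⟩ := mapFn_of_hom hψ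
    obtain ⟨χ, hχ, hχe⟩ := (mapFn_sw hD₀ hD₁ hf).mono hpre.le
    refine ⟨χ, hχ, preimageAlong_le P, fun x => apply_mem_S hχ x, fun x => ?_, fun x => ?_⟩
    · exact map_mem_of_mem_preimageAlong x.2 _
    · have hx := mem_sw.mp (hpre.le x.2)
      have h := hind ⟨(x : Ω × Ω).swap, hx⟩
      refine Eq.trans ?_ (h.trans (congrArg θ (Subtype.ext ?_)))
      · rfl
      · show ψ ⟨(x : Ω × Ω).swap, hx⟩ = (χ x).swap
        rw [hfe, hχe]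
        simp
  · rintro ⟨ψ, hψ, hP, hψS, hm, hind⟩
    obtain ⟨f, hf, hfe⟩ := mapFn_of_hom hψ
    have hle : preimageAlong θ P ≤ sw (preimageAlong (θ.comp σ) P) := by rw [hpre, sw_sw]
    obtain ⟨χ, hχ, hχe⟩ := (mapFn_sw hD₁ hD₀ hf).mono hle
    refine ⟨χ, hχ, preimageAlong_le P, fun x => apply_mem_S hχ x, fun x => ?_, fun x => ?_⟩
    · exact map_mem_of_mem_preimageAlong x.2 _
    · have hx := mem_sw.mp (hle x.2)
      have h := hind ⟨(x : Ω × Ω).swap, hx⟩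
      refine Eq.trans ?_ (h.trans (congrArg θ (Subtype.ext ?_)))
      · rfl
      · show (ψ ⟨(x : Ω × Ω).swap, hx⟩).swap = χ x
        rw [hfe, hχe]

end CfsgLib.FusionGF
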