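import Mathlib.GroupTheory.Sylow
import Mathlib.GroupTheory.QuotientGroup.Basic

/-!
Fusion in `G / H` on the image of a Sylow subgroup lifts to fusion in `G`.
-/

set_option autoImplicit false

namespace CfsgLib.FusionGroupLift

variable {G : Type*} [Group G]

theorem exists_conj_lift [Finite G] {p : ℕ} [Fact p.Prime] (S : Sylow p G) (H : Subgroup G) [H.Normal]
    (P : Subgroup G) (hP : P ≤ (S : Subgroup G)) (γ : G ⧸ H)
    (hγ : ∀ x ∈ P, γ * QuotientGroup.mk x * γ⁻¹ ∈ ((S : Subgroup G).map (QuotientGroup.mk' H))) :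
    ∃ g : G, (QuotientGroup.mk g : G ⧸ H) = γ ∧ ∀ x ∈ P, g * x * g⁻¹ ∈ (S : Subgroup G) := by
  obtain ⟨g₀, rfl⟩ := QuotientGroup.mk_surjective γ
  set K := (S : Subgroup G) ⊔ H with hK
  set M := P.map (MulAut.conj g₀).toMonoidHom with hM
  have hMK : M ≤ K := by
    rintro _ ⟨x, hx, rfl⟩
    obtain ⟨s, hs, he⟩ := hγ x hx
    have he' : s⁻¹ * (g₀ * x * g₀⁻¹) ∈ H := by
      apply (QuotientGroup.eq (s := H)).mp
      simpa using he
    have h1 : g₀ * x * g₀⁻¹ = s * (s⁻¹ * (g₀ * x * g₀⁻¹)) := by group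
    change g₀ * x * g₀⁻¹ ∈ K
    rw [h1]
    exact K.mul_mem (Subgroup.mem_sup_left hs) (Subgroup.mem_sup_right he')
  have hMp : IsPGroup p M := (S.isPGroup'.to_le hP).map _
  obtain ⟨T, hT⟩ := (hMp.comap_of_injective K.subtype K.subtype_injective).exists_le_sylow
  obtain ⟨⟨k, hk⟩, hkT⟩ :=
    MulAction.exists_smul_eq K T (S.subtype (le_sup_left : (S : Subgroup G) ≤ K))
  obtain ⟨s, hs, h, hh, rfl⟩ := Subgroup.mem_sup_of_normal_right.mp hk
  refine ⟨h * g₀, ?_, fun x hx => ?_⟩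
  · rw [QuotientGroup.mk_mul, (QuotientGroup.eq_one_iff h).mpr hh, one_mul]
  · have hxM : g₀ * x * g₀⁻¹ ∈ M := ⟨x, hx, rfl⟩
    have hxT : (⟨g₀ * x * g₀⁻¹, hMK hxM⟩ : K) ∈ (T : Subgroup K) := hT hxM
    have h2 : (⟨s * h, hk⟩ : K) * ⟨g₀ * x * g₀⁻¹, hMK hxM⟩ * (⟨s * h, hk⟩ : K)⁻¹ ∈
        ((S.subtype (le_sup_left : (S : Subgroup G) ≤ K) : Sylow p K) : Subgroup K) := by
      rw [← hkT, Sylow.coe_subgroup_smul]
      exact Subgroup.smul_mem_pointwise_smul _ (MulAut.conj _) _ hxT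
    rw [Sylow.coe_subtype, Subgroup.mem_subgroupOf] at h2
    have h3 : h * g₀ * x * (h * g₀)⁻¹ = s⁻¹ * (s * h * (g₀ * x * g₀⁻¹) * (s * h)⁻¹) * s := by group
    rw [h3]
    exact (S : Subgroup G).mul_mem ((S : Subgroup G).mul_mem ((S : Subgroup G).inv_mem hs) h2) hs

end CfsgLib.FusionGroupLift
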