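import Cfsg.Agent.Lib.Fusion.SubnormalConstrained
import Cfsg.Agent.Lib.Fusion.GroupLift
import Cfsg.Agent.Lib.Fusion.Stabilizer

/-!
A constrained fusion system of a group stays constrained modulo a central subgroup.
-/

set_option autoImplicit false

namespace CfsgLib.FusionCentralQuotient

open Cfsg Cfsg.FusionSystem CfsgLib.Fusion CfsgLib.FusionNormal

variable {L : Type*} [Group L] [Finite L] {p : ℕ} [Fact p.Prime]

theorem constrained_mod_central (U : Sylow p L) (Z : Subgroup L) [Z.Normal] (hZ : Z ≤ Subgroup.center L)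
    (hF : (groupFusionSystem (U : Subgroup L)).IsConstrained p) :
    (groupFusionSystem ((U : Subgroup L).map (QuotientGroup.mk' Z))).IsConstrained p := by
  set π := QuotientGroup.mk' Z with hπ
  set F := groupFusionSystem (U : Subgroup L) with hFdef
  set W : Sylow p (L ⧸ Z) := U.mapSurjective (f := π) (QuotientGroup.mk'_surjective _) with hWdef
  set Fb := groupFusionSystem ((U : Subgroup L).map π) with hFb
  have hU : IsPGroup p (U : Subgroup L) := U.2
  have hsat : F.IsSaturated p := group_saturated U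
  have hQn : F.IsNormal F.core := FusionExt.isNormal_core F
  have hQc : F.IsCentric F.core := isCentric_core hF
  set Q := F.core with hQdef
  have hQU : Q ≤ (U : Subgroup L) := hQn.1
  have hcen : ∀ z ∈ Z, ∀ g : L, g * z * g⁻¹ = z := fun z hz g => by
    rw [Subgroup.mem_center_iff.mp (hZ hz) g, mul_inv_cancel_right]
  have hnormal : Fb.IsNormal (Q.map π) := by
    refine ⟨Subgroup.map_mono hQU, ?_⟩
    rintro P φ ⟨hP, hφ, γ, hγ⟩
    set P₀ := P.comap π ⊓ (U : Subgroup L) with hP₀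
    obtain ⟨g, hgγ, hg⟩ := CfsgLib.FusionGroupLift.exists_conj_lift U Z P₀ inf_le_right γ fun x hx => by
      have := hφ ⟨π x, hx.1⟩
      rw [hγ] at this
      exact this
    obtain ⟨ψ, hψ, hψe, hψQ⟩ := hQn.2 P₀ _ (group_conjHom_mem inf_le_right hg)
    obtain ⟨-, hψU, g', hg'⟩ := hψ
    have hPP₀ : P = P₀.map π := by
      apply le_antisymm
      · intro y hy
        obtain ⟨x, hx, rfl⟩ := hP hy
        exact ⟨x, ⟨hy, hx⟩, rfl⟩
      · rintro _ ⟨x, hx, rfl⟩; exact hx.1
    have hle : P ⊔ Q.map π = (P₀ ⊔ Q).map π := by rw [Subgroup.map_sup, ← hPP₀]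
    refine ⟨conjHom _ (π g'), group_conjHom_mem (sup_le hP (Subgroup.map_mono hQU)) ?_, ?_, ?_⟩
    · intro x hx
      rw [hle] at hx
      obtain ⟨y, hy, rfl⟩ := hx
      have := hψU ⟨y, hy⟩
      rw [hg'] at this
      exact ⟨_, this, by simp⟩
    · intro x
      obtain ⟨y, hy, hyx⟩ := hPP₀.le x.2
      have e := hψe ⟨y, hy⟩
      rw [hg', conjHom_apply] at e
      rw [hγ, ← hgγ, conjHom_apply, Subgroup.coe_inclusion, ← hyx]
      have e2 := congrArg π e
      simp only [map_mul, map_inv, Subgroup.coe_inclusion] at e2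
      exact e2
    · ext y
      rw [mem_map_subgroupOf]
      constructor
      · rintro ⟨x, hx, rfl⟩
        obtain ⟨q, hq, hqx⟩ := hx
        rw [conjHom_apply, ← hqx]
        refine ⟨g' * q * g'⁻¹, ?_, by simp⟩
        have := hψQ.le ⟨⟨q, Subgroup.mem_sup_right hq⟩, hq, rfl⟩
        rwa [hg'] at this
      · rintro ⟨r, hr, rfl⟩
        obtain ⟨q, hq, hqe⟩ := hψQ.ge hr
        rw [hg'] at hqe
        exact ⟨⟨π q, Subgroup.mem_sup_right ⟨q, hq, rfl⟩⟩, ⟨q, hq, rfl⟩, by
          rw [conjHom_apply, ← hqe]; simp⟩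
  refine ⟨?_, Q.map π, hnormal, hnormal.1, fun R hR => ?_⟩
  · exact group_saturated W
  obtain ⟨φ, hφ, rfl⟩ := hR
  have hrange : φ.range = Q.map π := by
    refine Fusion.eq_of_le_of_card_le ?_ (card_range hφ).ge
    rintro _ ⟨x, rfl⟩
    exact (IsNormal.stronglyClosed hnormal).2 _ le_rfl φ hφ x
  rw [hrange]
  intro c hc
  obtain ⟨⟨t, ht, rfl⟩, hcc⟩ := mem_centralizerIn.mp hc
  have hQZ : ∀ z ∈ Z, z ∈ (U : Subgroup L) → z ∈ Q := fun z hz hzU =>
    hQc.2 Q (isConj_refl hQU) (mem_centralizerIn.mpr ⟨hzU, fun x _ => Subgroup.mem_center_iff.mp (hZ hz) x⟩)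
  have := finite_of_le hQU
  let Ls : ℕ → Subgroup Q := fun i => if i = 0 then ⊥ else if i = 1 then Z.subgroupOf Q else ⊤
  have hinv : ∀ i ≤ 2, ∀ a ∈ F.autGroup Q, ∀ x ∈ Ls i, a x ∈ Ls i := by
    intro i _ a ha x hx
    rcases i with _ | _ | i
    · simp only [Ls, if_pos, Subgroup.mem_bot] at hx ⊢
      rw [hx, map_one]
    · obtain ⟨g, -, hg⟩ := mem_autInducedBy.mp ((autGroup_group hQU).le ha)
      show ((a x : Q) : L) ∈ Z
      rw [hg, hcen _ (show (x : L) ∈ Z from hx)]
      exact hx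
    · exact Subgroup.mem_top _
  let K := (seriesStabilizer F Q 2 Ls hinv).subgroupOf (F.autGroup Q)
  have hKn : K.Normal := ⟨fun a ha b => seriesStabilizer_conj_mem (hinv := hinv) ha b.2⟩
  have hKp : IsPGroup p K := by
    rintro ⟨⟨a, haA⟩, ha⟩
    obtain ⟨k, hk⟩ := exists_pow_eq_one_of_stabilizes (hU.to_le hQU) Ls (n := 2) (fun i hi => by
        rcases i with _ | _ | i
        · exact bot_le
        · exact le_top
        · omega) rfl (α := a) ⟨0, fun x hx => by
          simp only [Ls, if_pos, Subgroup.mem_bot] at hx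
          rw [hx, map_one]⟩ ha.2
    exact ⟨k, Subtype.ext (Subtype.ext hk)⟩
  obtain ⟨a, ha, hae⟩ := exists_autInducedBy (K := (U : Subgroup L)) (P := Q) ht
    (StronglyClosed.le_normalizer (IsNormal.stronglyClosed hQn) ht)
  refine ⟨t, mem_core_of_normal_pSubgroup hU hsat hQn hQc hKn hKp ht
    (α := ⟨a, autInducedBy_le_autGroup hQU ha⟩) ⟨autInducedBy_le_autGroup hQU ha, fun i hi x hx => ?_⟩ hae, rfl⟩
  rcases i with _ | _ | i
  · show x⁻¹ * a x ∈ (⊥ : Subgroup Q)
    rw [Subgroup.mem_bot]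
    refine Subtype.ext ?_
    rw [Subgroup.coe_mul, Subgroup.coe_inv, hae, hcen _ (show (x : L) ∈ Z from hx), inv_mul_cancel]
    rfl
  · show ((x⁻¹ * a x : Q) : L) ∈ Z
    rw [Subgroup.coe_mul, Subgroup.coe_inv, hae, ← QuotientGroup.eq_one_iff]
    have hxq : π (x : L) ∈ Q.map π := ⟨x, x.2, rfl⟩
    show π ((x : L)⁻¹ * (t * (x : L) * t⁻¹)) = 1
    rw [map_mul, map_mul, map_mul, map_inv, map_inv, ← hcc _ hxq, mul_inv_cancel_right, inv_mul_cancel]
  · omega

end CfsgLib.FusionCentralQuotient
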