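import Cfsg.Agent.Lib.Fusion.SubsystemCentralizer

/-!
# The focal subgroup of `C_F(T)` centralizes a normal subsystem over `T`

A map `f` of `E` on a subgroup centric among the subgroups of `T` extends to `C_S(T)` moving its
elements by a "cocycle" with values in `T` that is constant on the classes of `C_F(T)`. An element
`a⁻¹ b` with `a`, `b` conjugate in `C_F(T)` is therefore fixed.
-/

set_option autoImplicit false

namespace CfsgLib.Fusion

open Cfsg Cfsg.FusionSystem CfsgLib.FusionNormal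

variable {Ω : Type*} [Group Ω] {S T : Subgroup Ω} {F : FusionSystem S} {E : FusionSystem T}
variable {W P Q R : Subgroup Ω} [Finite S] {p : ℕ} [Fact p.Prime]

/-- Elements of `C_S(W)` conjugate by a map fixing `W` have equal commutators with `N_T(W)`. -/
theorem commutator_invariant (hS : IsPGroup p S) (hF : F.IsSaturated p) (hT : F.StronglyClosed T)
    (hWc : TCentric F T W) (hWf : F.IsFullyCentralized W) {κ : Ω → Ω} {b : Ω}
    (hκ : MapFn F (W ⊔ Subgroup.zpowers b) κ) (hκW : ∀ w ∈ W, κ w = w)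
    (hb : b ∈ centralizerIn S W) {t₀ : Ω} (ht₀ : t₀ ∈ normalizerIn T W) :
    t₀ * b * t₀⁻¹ * b⁻¹ = t₀ * κ b * t₀⁻¹ * (κ b)⁻¹ := by
  have hTS := hT.1
  have hWT := hWc.le
  have hW := hWT.trans hTS
  set U := normalizerIn T W with hU
  have hUS : U ≤ S := inf_le_left.trans hTS
  have hWU : W ≤ U := le_normalizerIn hWT
  set C := centralizerIn S W with hC
  have := finite_of_le (centralizerIn_le : C ≤ S)
  have hG₀ : (fixSystem F hW).IsSaturated p :=
    centralizerSystem_saturated hS hF hWf fun P => extHom_bot F W P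
  have hCW₀ : ∀ z ∈ C, z ∈ T → z ∈ W := fun z hz hzT =>
    TCentric.centralizer_le hTS hWc (mem_centralizerIn.mpr ⟨hzT, (mem_centralizerIn.mp hz).2⟩)
  have hcomC : ∀ t ∈ U, ∀ x ∈ C, t * x * t⁻¹ * x⁻¹ ∈ W := by
    intro t ht x hx
    refine hCW₀ _ (C.mul_mem ?_ (C.inv_mem hx)) ?_
    · refine mem_centralizerIn.mpr ⟨S.mul_mem (S.mul_mem (hUS ht) hx.1) (S.inv_mem (hUS ht)), fun w hw => ?_⟩
      have h1 := (mem_centralizerIn.mp hx).2 _ ((Subgroup.mem_normalizer_iff''.mp ht.2 w).mp hw)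
      calc w * (t * x * t⁻¹) = t * (t⁻¹ * w * t * x) * t⁻¹ := by group
        _ = t * x * t⁻¹ * w := by rw [h1]; group
    · have := T.mul_mem ht.1 (conj_mem_of_normalizer (StronglyClosed.le_normalizer hT hx.1) (T.inv_mem ht.1))
      simpa [mul_assoc] using this
  -- the relation
  let r : Ω → Ω → Prop := fun x y => ∀ t ∈ U, t * x * t⁻¹ * x⁻¹ = t * y * t⁻¹ * y⁻¹
  have hr : Equivalence r :=
    ⟨fun _ _ _ => rfl, fun h t ht => (h t ht).symm, fun h h' t ht => (h t ht).trans (h' t ht)⟩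
  have hconj : ∀ g ∈ C, ∀ x ∈ C, r x (g * x * g⁻¹) := by
    intro g hg x hx t ht
    have key : ∀ a ∈ C, ∀ c ∈ C, t * (a * c) * t⁻¹ * (a * c)⁻¹ =
        (t * a * t⁻¹ * a⁻¹) * (t * c * t⁻¹ * c⁻¹) := by
      intro a ha c hc
      have h1 := (mem_centralizerIn.mp ha).2 _ (hcomC t ht c hc)
      calc t * (a * c) * t⁻¹ * (a * c)⁻¹
          = t * a * t⁻¹ * ((t * c * t⁻¹ * c⁻¹) * a⁻¹) := by group
        _ = t * a * t⁻¹ * (a⁻¹ * (a * (t * c * t⁻¹ * c⁻¹)) * a⁻¹) := by group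
        _ = t * a * t⁻¹ * (a⁻¹ * ((t * c * t⁻¹ * c⁻¹) * a) * a⁻¹) := by rw [← h1]
        _ = _ := by group
    have h1 := key (g * x * g⁻¹) (C.mul_mem (C.mul_mem hg hx) (C.inv_mem hg)) g hg
    have h2 := key g hg x hx
    rw [inv_mul_cancel_right, h2] at h1
    have h3 : (t * x * t⁻¹ * x⁻¹) * (t * g * t⁻¹ * g⁻¹) = (t * g * t⁻¹ * g⁻¹) * (t * x * t⁻¹ * x⁻¹) :=
      (mem_centralizerIn.mp (show t * g * t⁻¹ * g⁻¹ ∈ C from C.mul_mem (mem_centralizerIn.mpr
        ⟨S.mul_mem (S.mul_mem (hUS ht) hg.1) (S.inv_mem (hUS ht)), fun w hw => by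
          have h4 := (mem_centralizerIn.mp hg).2 _ ((Subgroup.mem_normalizer_iff''.mp ht.2 w).mp hw)
          calc w * (t * g * t⁻¹) = t * (t⁻¹ * w * t * g) * t⁻¹ := by group
            _ = t * g * t⁻¹ * w := by rw [h4]; group⟩) (C.inv_mem hg))).2 _ (hcomC t ht x hx)
    rw [← h3] at h1
    exact mul_right_cancel h1
  have hκW' : κ '' W = (W : Set Ω) := by
    conv_rhs => rw [← Set.image_id (W : Set Ω)]
    exact Set.image_congr hκW
  obtain ⟨φ, hφ, hφe⟩ := exists_fix_hom hW hb hκ hκW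
  have hrel := rel_of_mem (F := fixSystem F hW) (hS.to_le centralizerIn_le) hG₀ hr hconj ?_ hφ
    ⟨b, Subgroup.mem_zpowers b⟩
  · rw [hφe] at hrel
    exact hrel t₀ ht₀
  -- automorphisms of the subgroups in the fusion theorem
  · intro A hA hAC hAa β hβ x t₁ ht₁
    obtain ⟨hAc, hin⟩ := good_of_alperin (hS.to_le centralizerIn_le) hA hAa
    have hAS : A ≤ S := hAC.trans centralizerIn_le
    set M := A ⊔ W with hM
    have hMc := isCentric_sup_of_fix hS hF hW hWf hAC hAc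
    have hMr : F.IsReceptive M := receptive_of_fullyCentralized hS hF (isFullyCentralized_of_centric hMc)
    have hCW : ∀ z ∈ C, z ∈ T → z ∈ W := fun z hz hzT =>
      TCentric.centralizer_le hTS hWc (mem_centralizerIn.mpr ⟨hzT, (mem_centralizerIn.mp hz).2⟩)
    have hZA : ∀ z ∈ C, z ∈ T → z ∈ A := fun z hz hzT => by
      refine hAc.2 A (isConj_refl hAC) (mem_centralizerIn.mpr ⟨hz, fun a ha => ?_⟩)
      exact ((mem_centralizerIn.mp (hAC ha)).2 z (hCW z hz hzT)).symm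
    have haC : ∀ t ∈ U, ∀ a ∈ C, t * a * t⁻¹ * a⁻¹ ∈ C ∧ t * a * t⁻¹ * a⁻¹ ∈ T := by
      intro t ht a ha
      refine ⟨C.mul_mem ?_ (C.inv_mem ha), ?_⟩
      · refine mem_centralizerIn.mpr ⟨S.mul_mem (S.mul_mem (hUS ht) ha.1) (S.inv_mem (hUS ht)), fun w hw => ?_⟩
        have h1 := (mem_centralizerIn.mp ha).2 _ ((Subgroup.mem_normalizer_iff''.mp ht.2 w).mp hw)
        calc w * (t * a * t⁻¹) = t * (t⁻¹ * w * t * a) * t⁻¹ := by group
          _ = t * a * t⁻¹ * w := by rw [h1]; group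
      · have := T.mul_mem ht.1 (conj_mem_of_normalizer (StronglyClosed.le_normalizer hT ha.1) (T.inv_mem ht.1))
        simpa [mul_assoc] using this
    have hUA : ∀ t ∈ U, ∀ a ∈ A, t * a * t⁻¹ ∈ A := fun t ht a ha => by
      obtain ⟨h1, h2⟩ := haC t ht a (hAC ha)
      simpa using A.mul_mem (hZA _ h1 h2) ha
    obtain ⟨g, hg, hge, hgW⟩ := exists_fix_mapFn hW hAC hβ
    obtain ⟨φ, hφ, hφe⟩ := hg
    have hgA : ∀ a ∈ A, g a ∈ A := fun a ha => by rw [hge ⟨a, ha⟩]; exact Subtype.mem _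
    have hg' : MapFn F M g := ⟨φ, hφ, hφe⟩
    have hgr : g '' M = (M : Set Ω) := hg'.image_eq_of_maps (sup_le hAS hW)
      (hg'.maps_sup (fun a ha => Subgroup.mem_sup_left (hgA a ha))
        fun w hw => Subgroup.mem_sup_right (by rw [hgW w hw]; exact hw)) le_rfl
    have hφr : φ.range = M := SetLike.coe_injective (by rw [← MapFn.image_eq_range hφe, hgr])
    -- every element of `U` lies in the extender
    have hext : ∀ t ∈ U, ∃ r : A, t ∈ extender S M φ ∧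
        ∀ y ∈ M, g (t * y * t⁻¹) = (r : Ω) * t * g y * ((r : Ω) * t)⁻¹ := by
      intro t ht
      have htA : t ∈ Subgroup.normalizer (A : Set Ω) := by
        have := finite_of_le hAS
        exact mem_normalizer_of_forall fun a ha => hUA t ht a ha
      obtain ⟨ct, -, hcte⟩ := exists_autInducedBy (K := S) (hUS ht) htA
      set e : MulAut A := β * ct * β⁻¹ * ct⁻¹ with he
      obtain ⟨gi, hgi, hgir, hgi₁, hgi₂⟩ := hg'.exists_inv hgr
      have hgiW : ∀ w ∈ W, gi w = w := fun w hw => by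
        conv_lhs => rw [← hgW w hw]
        exact hgi₁ w (Subgroup.mem_sup_right hw)
      have htM : ∀ s ∈ U, ∀ y ∈ M, s * y * s⁻¹ ∈ M := fun s hs y hy =>
        (mapFn_conj (F := F) (sup_le hAS hW) (hUS hs)).maps_sup
          (fun a ha => Subgroup.mem_sup_left (hUA s hs a ha))
          (fun w hw => Subgroup.mem_sup_right (conj_mem_of_normalizer hs.2 hw)) y hy
      have hgi' : ∀ y ∈ M, gi y ∈ M := fun y hy => mem_of_image hgir hy
      have heG : e ∈ (fixSystem F hW).autGroup A := by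
        have h1 : MapFn F M (fun y => g (t * gi (t⁻¹ * y * t⁻¹⁻¹) * t⁻¹)) :=
          (((mapFn_conj (sup_le hAS hW) (S.inv_mem (hUS ht))).comp hgi
            (fun y hy => htM t⁻¹ (U.inv_mem ht) y hy)).comp (mapFn_conj (sup_le hAS hW) (hUS ht))
            (fun y hy => hgi' _ (htM t⁻¹ (U.inv_mem ht) y hy))).comp hg'
            fun y hy => htM t ht _ (hgi' _ (htM t⁻¹ (U.inv_mem ht) y hy))
        refine mem_fix_autGroup hW hAC h1 (fun a => ?_) fun w hw => ?_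
        · have hcti : t⁻¹ * (a : Ω) * t⁻¹⁻¹ = ((ct⁻¹ a : A) : Ω) := by
            have := hcte (ct⁻¹ a)
            rw [MulAut.apply_inv_self] at this
            rw [this]; group
          rw [hcti]
          have hβi : gi ((ct⁻¹ a : A) : Ω) = ((β⁻¹ (ct⁻¹ a) : A) : Ω) := by
            have := hge (β⁻¹ (ct⁻¹ a))
            rw [MulAut.apply_inv_self] at this
            rw [← this]
            exact hgi₁ _ (Subgroup.mem_sup_left (Subtype.mem _))
          rw [hβi, ← hcte, hge]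
          rfl
        · have hw' : t⁻¹ * w * t⁻¹⁻¹ ∈ W := conj_mem_of_normalizer (U.inv_mem ht).2 hw
          show g (t * gi (t⁻¹ * w * t⁻¹⁻¹) * t⁻¹) = w
          rw [hgiW _ hw', show t * (t⁻¹ * w * t⁻¹⁻¹) * t⁻¹ = w by group, hgW w hw]
      have hKinv : ∀ b ∈ (fixSystem F hW).autGroup A, ∀ a : A, (a : Ω) ∈ T → ((b a : A) : Ω) = a := by
        intro b hb a ha
        obtain ⟨k, -, hke, hkW⟩ := exists_fix_mapFn hW hAC hb
        rw [← hke]; exact hkW _ (hCW _ (hAC a.2) ha)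
      have hfixT : ∀ a : A, (a : Ω) ∈ T → e a = a := fun a ha => Subtype.ext (hKinv e heG a ha)
      have hmov : ∀ a : A, (a : Ω)⁻¹ * ((e a : A) : Ω) ∈ T := by
        intro a
        -- `c_t` moves elements inside their cosets and `β` fixes the difference
        have hz : ∀ y : A, ((ct y : A) : Ω) * (y : Ω)⁻¹ ∈ T ∧ ((ct y : A) : Ω) * (y : Ω)⁻¹ ∈ C := fun y => by
          rw [hcte]; exact ⟨(haC t ht y (hAC y.2)).2, (haC t ht y (hAC y.2)).1⟩
        have h1 := (hz (β⁻¹ (ct⁻¹ a))).1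
        have h2 := (hz (ct⁻¹ a)).1
        rw [MulAut.apply_inv_self] at h2
        set y := β⁻¹ (ct⁻¹ a) with hy
        set q : A := ⟨((ct y : A) : Ω) * (y : Ω)⁻¹, hZA _ (hz y).2 h1⟩
        have hq : ct y = q * y := Subtype.ext (by simp [q])
        have hea : e a = q * ct⁻¹ a := by
          rw [he]
          show β (ct y) = _
          rw [hq, map_mul, hy, MulAut.apply_inv_self]
          congr 1
          exact Subtype.ext (hKinv β hβ q h1)
        rw [hea, Subgroup.coe_mul]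
        have h3 : (q : Ω) * ((ct⁻¹ a : A) : Ω) * (a : Ω)⁻¹ ∈ T := by
          have := T.mul_mem (h1 : (q : Ω) ∈ T) (T.inv_mem h2)
          simpa [q, mul_assoc] using this
        have h4 := conj_mem_of_normalizer (StronglyClosed.le_normalizer hT (S.inv_mem (hAS a.2))) h3
        simpa [mul_assoc] using h4
      obtain ⟨r₀, hr₀⟩ := exists_inner_of_fixer (hS.to_le centralizerIn_le) hAC hin (K := T)
        (fun b hb a ha => by rw [hKinv b hb a ha]; exact ha) heG hfixT hmov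
      have heq : ∀ y ∈ M, g (t * y * t⁻¹) = (r₀ : Ω) * t * g y * ((r₀ : Ω) * t)⁻¹ := by
        intro y hy
        have h1' : MapFn F M fun y => g (t * y * t⁻¹) :=
          (mapFn_conj (sup_le hAS hW) (hUS ht)).comp hg' fun y hy => htM t ht y hy
        have h2' : MapFn F M fun y => (r₀ : Ω) * t * g y * ((r₀ : Ω) * t)⁻¹ :=
          hg'.conj_comp (S.mul_mem (hAS r₀.2) (hUS ht))
        refine MapFn.eq_on_sup h1' h2' (fun a ha => ?_) (fun w hw => ?_) y hy
        · have h5 := hr₀ (ct (β ⟨a, ha⟩))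
          rw [he] at h5
          simp only [MulAut.mul_apply, MulAut.inv_apply_self] at h5
          have h6 := congrArg Subtype.val h5
          rw [← hge, hcte] at h6
          simp only [Subgroup.coe_mul, Subgroup.coe_inv, hcte] at h6
          show g (t * a * t⁻¹) = _
          rw [h6, ← hge]
          group
        · show g (t * w * t⁻¹) = _
          rw [hgW _ (conj_mem_of_normalizer ht.2 hw), hgW w hw]
          have := (mem_centralizerIn.mp (hAC r₀.2)).2 _ (conj_mem_of_normalizer ht.2 hw)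
          calc t * w * t⁻¹ = t * w * t⁻¹ * (r₀ : Ω) * (r₀ : Ω)⁻¹ := by group
            _ = (r₀ : Ω) * (t * w * t⁻¹) * (r₀ : Ω)⁻¹ := by rw [this]
            _ = _ := by group
      refine ⟨r₀, mem_extender.mpr ⟨hUS ht, ?_, (r₀ : Ω) * t, S.mul_mem (hAS r₀.2) (hUS ht),
        fun y _ => ?_⟩, heq⟩
      · have := finite_of_le (sup_le hAS hW : M ≤ S)
        exact mem_normalizer_of_forall fun y hy => htM t ht y hy
      · rw [hφe, hφe]
        exact heq y y.2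
    obtain ⟨ψ, hψ, hψe⟩ := exists_extension hMr hφ hφr (le_sup_left : M ≤ M ⊔ U)
      (sup_le (le_extender (sup_le hAS hW) (apply_mem_S hφ)) fun t ht => (hext t ht).choose_spec.1)
    obtain ⟨G, hG, hGe⟩ := mapFn_of_hom hψ
    have hGM : ∀ y ∈ M, G y = g y := fun y hy => by
      rw [← hGe ⟨y, Subgroup.mem_sup_left hy⟩, hψe ⟨y, hy⟩, hφe]
    obtain ⟨r₀, -, hr₀⟩ := hext t₁ ht₁
    have huT : G t₁ ∈ T := by
      rw [← hGe ⟨t₁, Subgroup.mem_sup_right ht₁⟩]
      exact StronglyClosed.apply_mem hT hψ _ ht₁.1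
    have hUM : ∀ t ∈ U, ∀ y ∈ M, t * y * t⁻¹ ∈ M := fun t ht y hy =>
      (mapFn_conj (F := F) (sup_le hAS hW) (hUS ht)).maps_sup
          (fun a ha => Subgroup.mem_sup_left (hUA t ht a ha))
          (fun w hw => Subgroup.mem_sup_right (conj_mem_of_normalizer ht.2 hw)) y hy
    have hc : ((r₀ : Ω) * t₁)⁻¹ * G t₁ ∈ centralizerIn S M := by
      refine mem_centralizerIn.mpr ⟨S.mul_mem (S.inv_mem (S.mul_mem (hAS r₀.2) (hUS ht₁))) (hTS huT),
        fun z hz => ?_⟩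
      obtain ⟨y, hy, rfl⟩ := exists_of_image hgr hz
      have h1 := hr₀ y hy
      rw [← hGM _ (hUM t₁ ht₁ y hy), hG.map_conj (Subgroup.mem_sup_right ht₁) (Subgroup.mem_sup_left hy),
        hGM y hy] at h1
      calc g y * (((r₀ : Ω) * t₁)⁻¹ * G t₁)
          = ((r₀ : Ω) * t₁)⁻¹ * ((r₀ : Ω) * t₁ * g y * ((r₀ : Ω) * t₁)⁻¹) * G t₁ := by group
        _ = _ := by rw [← h1]; group
    set m := t₁⁻¹ * G t₁ with hm
    have hmT : m ∈ T := T.mul_mem (T.inv_mem ht₁.1) huT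
    have hmW : m ∈ W := by
      refine hCW₀ _ ?_ hmT
      have h1 : (t₁⁻¹ * (r₀ : Ω) * t₁⁻¹⁻¹) * (((r₀ : Ω) * t₁)⁻¹ * G t₁) = m := by rw [hm]; group
      rw [← h1]
      refine C.mul_mem (hAC (hUA t₁⁻¹ (U.inv_mem ht₁) r₀ r₀.2)) (mem_centralizerIn.mpr ⟨hc.1, fun w hw => ?_⟩)
      exact (mem_centralizerIn.mp hc).2 w (Subgroup.mem_sup_right hw)
    have hxM : (x : Ω) ∈ M := Subgroup.mem_sup_left x.2
    have hgx : g x = ((β x : A) : Ω) := hge x
    have hgC : g x ∈ C := by rw [hgx]; exact hAC (β x).2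
    have hz := hcomC t₁ ht₁ x (hAC x.2)
    have hGt : G t₁ = t₁ * m := by rw [hm]; group
    have h2 : G (t₁ * x * t₁⁻¹) = t₁ * g x * t₁⁻¹ := by
      rw [hG.map_conj (Subgroup.mem_sup_right ht₁) (Subgroup.mem_sup_left hxM), hGM _ hxM, hGt]
      calc t₁ * m * g x * (t₁ * m)⁻¹ = t₁ * (m * g x) * m⁻¹ * t₁⁻¹ := by group
        _ = t₁ * (g x * m) * m⁻¹ * t₁⁻¹ := by rw [(mem_centralizerIn.mp hgC).2 m hmW]
        _ = _ := by group
    rw [hGM _ (hUM t₁ ht₁ _ hxM), show t₁ * (x : Ω) * t₁⁻¹ = (t₁ * x * t₁⁻¹ * (x : Ω)⁻¹) * x by group,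
      hg'.map_mul (Subgroup.mem_sup_right hz) hxM, hgW _ hz, hgx] at h2
    rw [← h2]
    group

/-- Extensions of order prime to `p` move conjugate elements of `C_F(T)` equally. -/
theorem invariant_of_coprime (hS : IsPGroup p S) (hF : F.IsSaturated p) (hT : F.StronglyClosed T)
    {B : MulAut ↥(T ⊔ centralizerIn S T)} (hB : B ∈ F.autGroup (T ⊔ centralizerIn S T)) {n : ℕ}
    (hn : n.Coprime p) (hBn : B ^ n = 1)
    (hz : ∀ x : ↥(T ⊔ centralizerIn S T), (x : Ω) ∈ centralizerIn S T →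
      (x : Ω)⁻¹ * ((B x : ↥(T ⊔ centralizerIn S T)) : Ω) ∈ T ⊓ Subgroup.centralizer (T : Set Ω))
    {β : Ω → Ω} (hβ : MapFn F (T ⊔ centralizerIn S T) β)
    (hβe : ∀ x : ↥(T ⊔ centralizerIn S T), β x = ((B x : ↥(T ⊔ centralizerIn S T)) : Ω))
    {κ : Ω → Ω} {a : Ω} (hκ : MapFn F (T ⊔ Subgroup.zpowers a) κ) (hκT : ∀ t ∈ T, κ t = t)
    (ha : a ∈ centralizerIn S T) : a⁻¹ * β a = (κ a)⁻¹ * β (κ a) := by
  have hTS := hT.1
  have hU0S : (T ⊔ centralizerIn S T) ≤ S := sup_le hTS centralizerIn_le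
  have := finite_of_le hU0S
  have := finite_of_le (centralizerIn_le : (centralizerIn S T) ≤ S)
  have hz' : ∀ x ∈ (centralizerIn S T), x⁻¹ * β x ∈ T ∧ x⁻¹ * β x ∈ Subgroup.centralizer (T : Set Ω) := fun x hx => by
    have := hz ⟨x, Subgroup.mem_sup_right hx⟩ hx
    rwa [← hβe] at this
  have hzZ : ∀ z, z ∈ T → z ∈ Subgroup.centralizer (T : Set Ω) → z ∈ (centralizerIn S T) := fun z h1 h2 => ⟨hTS h1, h2⟩
  have hβT : ∀ t ∈ T, β t ∈ T := fun t ht => mapFn_mem hT hβ (Subgroup.mem_sup_left ht) ht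
  -- the relation
  let r : Ω → Ω → Prop := fun x y => x⁻¹ * β x = y⁻¹ * β y
  have hr : Equivalence r := ⟨fun _ => rfl, Eq.symm, Eq.trans⟩
  have hconj : ∀ g ∈ (centralizerIn S T), ∀ x ∈ (centralizerIn S T), r x (g * x * g⁻¹) := by
    intro g hg x hx
    obtain ⟨hzg, hzgC⟩ := hz' g hg
    obtain ⟨hzx, -⟩ := hz' x hx
    show x⁻¹ * β x = (g * x * g⁻¹)⁻¹ * β (g * x * g⁻¹)
    have e1 : g⁻¹ * β g * x = x * (g⁻¹ * β g) := (mem_centralizerIn.mp hx).2 _ hzg
    have e2 : g⁻¹ * β g * (x⁻¹ * β x) = x⁻¹ * β x * (g⁻¹ * β g) :=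
      (Subgroup.mem_centralizer_iff.mp hzgC _ hzx).symm
    have e3 : x⁻¹ * β x * g = g * (x⁻¹ * β x) := (mem_centralizerIn.mp hg).2 _ hzx
    rw [hβ.map_conj (Subgroup.mem_sup_right hg) (Subgroup.mem_sup_right hx)]
    calc x⁻¹ * β x = g * (x⁻¹ * β x) * g⁻¹ := by rw [← e3]; group
      _ = g * x⁻¹ * (x * (g⁻¹ * β g)) * (x⁻¹ * β x) * (g⁻¹ * β g)⁻¹ * g⁻¹ := by
          calc g * (x⁻¹ * β x) * g⁻¹
              = g * ((g⁻¹ * β g) * (x⁻¹ * β x) * (g⁻¹ * β g)⁻¹) * g⁻¹ := by rw [e2]; group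
            _ = _ := by group
      _ = _ := by rw [← e1]; group
  -- the key fact
  have hkey : ∀ (P : Subgroup Ω) (φ : P →* Ω), φ ∈ (fixSystem F hTS).Hom P → ∀ x : P, r x (φ x) := by
    intro P φ hφ x
    have hG₀ : (fixSystem F hTS).IsSaturated p :=
      centralizerSystem_saturated hS hF (isFullyCentralized_of_stronglyClosed hT) fun P => extHom_bot F T P
    refine rel_of_mem (F := fixSystem F hTS) (hS.to_le centralizerIn_le) hG₀ hr hconj ?_ hφ x
    intro A hA hAZ hAa α' hα' x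
    obtain ⟨hAc, hin⟩ := good_of_alperin (hS.to_le centralizerIn_le) hA hAa
    have hAS : A ≤ S := hAZ.trans centralizerIn_le
    have := finite_of_le hAS
    have hAU : A ≤ (T ⊔ centralizerIn S T) := hAZ.trans le_sup_right
    have hZA : ∀ z, z ∈ T → z ∈ Subgroup.centralizer (T : Set Ω) → z ∈ A := fun z h1 h2 =>
      hAc.2 A (isConj_refl hAZ) (mem_centralizerIn.mpr ⟨hzZ z h1 h2,
        fun a ha => ((mem_centralizerIn.mp (hAZ ha)).2 z h1).symm⟩)
    have hβA : ∀ a ∈ A, β a ∈ A := fun a ha => by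
      obtain ⟨h1, h2⟩ := hz' a (hAZ ha)
      simpa using A.mul_mem ha (hZA _ h1 h2)
    obtain ⟨b, -, hbe⟩ := (hβ.mono hAU).exists_aut ((hβ.mono hAU).image_eq_of_maps hAS hβA le_rfl)
    have hKinv : ∀ a' ∈ (fixSystem F hTS).autGroup A, ∀ a : A, (a : Ω) ∈ T → a' a = a := by
      intro a' ha' a ha
      obtain ⟨k, -, hke, hkW⟩ := exists_fix_mapFn hTS hAZ ha'
      exact Subtype.ext (by rw [← hke]; exact hkW _ ha)
    obtain ⟨g, hg, hge, hgT⟩ := exists_fix_mapFn hTS hAZ hα'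
    set M := A ⊔ T with hM
    have hMS : M ≤ S := sup_le hAS hTS
    have hMU : M ≤ (T ⊔ centralizerIn S T) := sup_le hAU le_sup_left
    have hgM : ∀ y ∈ M, g y ∈ M := hg.maps_sup
      (fun a ha => Subgroup.mem_sup_left (by rw [hge ⟨a, ha⟩]; exact Subtype.mem _))
      (fun t ht => Subgroup.mem_sup_right (by rw [hgT t ht]; exact ht))
    have hgr := hg.image_eq_of_maps hMS hgM le_rfl
    obtain ⟨gi, hgi, hgir, hgi₁, -⟩ := hg.exists_inv hgr
    have hβM : ∀ y ∈ M, β y ∈ M := (hβ.mono hMU).maps_sup (fun a ha => Subgroup.mem_sup_left (hβA a ha))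
      fun t ht => Subgroup.mem_sup_right (hβT t ht)
    have hβMr := (hβ.mono hMU).image_eq_of_maps hMS hβM le_rfl
    obtain ⟨bi, hbi, hbir, hbi₁, hbi₂⟩ := (hβ.mono hMU).exists_inv hβMr
    set e : MulAut A := b * α' * b⁻¹ * α'⁻¹ with he
    have heG : e ∈ (fixSystem F hTS).autGroup A := by
      have h1 : MapFn F M (fun y => β (g (bi (gi y)))) :=
        ((hgi.comp hbi fun y hy => mem_of_image hgir hy).comp hg
          fun y hy => mem_of_image hbir (mem_of_image hgir hy)).comp (hβ.mono hMU)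
          fun y hy => hgM _ (mem_of_image hbir (mem_of_image hgir hy))
      refine mem_fix_autGroup hTS hAZ h1 (fun a => ?_) fun w hw => ?_
      · have h2 : gi (a : Ω) = ((α'⁻¹ a : A) : Ω) := by
          have := hge (α'⁻¹ a)
          rw [MulAut.apply_inv_self] at this
          rw [← this]
          exact hgi₁ _ (Subgroup.mem_sup_left (Subtype.mem _))
        have h3 : bi ((α'⁻¹ a : A) : Ω) = ((b⁻¹ (α'⁻¹ a) : A) : Ω) := by
          have := hbe (b⁻¹ (α'⁻¹ a))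
          rw [MulAut.apply_inv_self] at this
          rw [this]
          exact hbi₁ _ (Subgroup.mem_sup_left (Subtype.mem _))
        rw [h2, h3, hge, ← hbe]
        rfl
      · have h2 : gi w = w := by
          conv_lhs => rw [← hgT w hw]
          exact hgi₁ w (Subgroup.mem_sup_right hw)
        show β (g (bi (gi w))) = w
        rw [h2, hgT _ (mapFn_mem hT hbi (Subgroup.mem_sup_right hw) hw), hbi₂ w (Subgroup.mem_sup_right hw)]
    have hmov : ∀ a : A, (a : Ω)⁻¹ * ((e a : A) : Ω) ∈ T := by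
      intro a
      set u := b⁻¹ (α'⁻¹ a) with hu
      obtain ⟨h1, h2⟩ := hz' (u : Ω) (hAZ u.2)
      let z : A := ⟨(u : Ω)⁻¹ * β u, hZA _ h1 h2⟩
      have hbu : b u = u * z := Subtype.ext (by simp [z, hbe])
      have h3 : α' u = a * z⁻¹ := by
        have h4 : b u = α'⁻¹ a := by rw [hu, MulAut.apply_inv_self]
        have h5 : a = α' (u * z) := by rw [← hbu, h4, MulAut.apply_inv_self]
        rw [h5, map_mul, hKinv α' hα' z h1, mul_inv_cancel_right]
      have h6 : e a = b a * (b z)⁻¹ := by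
        rw [he]
        show b (α' u) = _
        rw [h3, map_mul, map_inv]
      rw [h6, Subgroup.coe_mul, Subgroup.coe_inv, hbe, hbe, ← mul_assoc]
      exact T.mul_mem (hz' _ (hAZ a.2)).1 (T.inv_mem (hβT _ h1))
    obtain ⟨r₀, hr₀⟩ := exists_inner_of_fixer (hS.to_le centralizerIn_le) hAZ hin (K := T)
      (fun a' ha' a ha => by rw [hKinv a' ha' a ha]; exact ha) heG (hKinv e heG) hmov
    have hcr : b * α' * b⁻¹ = MulAut.conj r₀ * α' := by
      have : e = MulAut.conj r₀ := MulEquiv.ext fun x => hr₀ x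
      rw [← this, he, inv_mul_cancel_right]
    have hbconj : b * MulAut.conj r₀ * b⁻¹ = MulAut.conj r₀ := by
      refine MulEquiv.ext fun x => Subtype.ext ?_
      show ((b (r₀ * b⁻¹ x * r₀⁻¹) : A) : Ω) = (r₀ : Ω) * x * (r₀ : Ω)⁻¹
      obtain ⟨h1, -⟩ := hz' (r₀ : Ω) (hAZ r₀.2)
      rw [map_mul, map_mul, map_inv, MulAut.apply_inv_self]
      simp only [Subgroup.coe_mul, Subgroup.coe_inv, hbe]
      have h2 : (r₀ : Ω)⁻¹ * β r₀ * x = x * ((r₀ : Ω)⁻¹ * β r₀) :=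
        (mem_centralizerIn.mp (hAZ x.2)).2 _ h1
      calc β r₀ * x * (β r₀)⁻¹ = (r₀ : Ω) * ((r₀ : Ω)⁻¹ * β r₀ * x) * (β r₀)⁻¹ := by group
        _ = _ := by rw [h2]; group
    have hpow : ∀ m : ℕ, b ^ m * α' * (b ^ m)⁻¹ = MulAut.conj r₀ ^ m * α' := by
      intro m
      induction m with
      | zero => simp
      | succ m ih =>
        calc b ^ (m + 1) * α' * (b ^ (m + 1))⁻¹ = b * (b ^ m * α' * (b ^ m)⁻¹) * b⁻¹ := by
              rw [pow_succ']; group
          _ = (b * MulAut.conj r₀ * b⁻¹) ^ m * (b * α' * b⁻¹) := by rw [ih, conj_pow]; group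
          _ = _ := by rw [hbconj, hcr, pow_succ, mul_assoc]
    have hbB : ∀ (m : ℕ) (a : A), (((b ^ m) a : A) : Ω) =
        (((B ^ m) ⟨a, hAU a.2⟩ : ↥(T ⊔ centralizerIn S T)) : Ω) := by
      intro m
      induction m with
      | zero => intro a; rfl
      | succ m ih =>
        intro a
        rw [pow_succ', MulAut.mul_apply, hbe, ih, pow_succ', MulAut.mul_apply, hβe]
    have hbn : b ^ n = 1 := MulEquiv.ext fun a => Subtype.ext (by rw [hbB, hBn]; rfl)
    have hconj1 : MulAut.conj r₀ = 1 := by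
      have h1 := hpow n
      rw [hbn, one_mul, inv_one, mul_one, right_eq_mul] at h1
      obtain ⟨k, hk⟩ := (hS.to_le hAS) r₀
      refine orderOf_eq_one_iff.mp (Nat.eq_one_of_dvd_coprimes (hn.pow_right k) (orderOf_dvd_of_pow_eq_one h1)
        (orderOf_dvd_of_pow_eq_one ?_))
      rw [← map_pow, hk, map_one]
    rw [hconj1, one_mul, mul_inv_eq_iff_eq_mul] at hcr
    show (x : Ω)⁻¹ * β x = ((α' x : A) : Ω)⁻¹ * β ((α' x : A) : Ω)
    have h1 : x⁻¹ * b x = (α' x)⁻¹ * b (α' x) := by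
      have h2 : ((x⁻¹ * b x : A) : Ω) ∈ T := by simpa [hbe] using (hz' _ (hAZ x.2)).1
      conv_lhs => rw [← hKinv α' hα' _ h2, map_mul, map_inv]
      show _ * (α' * b) x = _ * (b * α') x
      rw [hcr]
    simpa [hbe] using congrArg Subtype.val h1
  obtain ⟨φ, hφ, hφe⟩ := exists_fix_hom hTS ha hκ hκT
  have h1 := hkey _ φ hφ ⟨a, Subgroup.mem_zpowers a⟩
  rw [hφe] at h1
  exact h1

/-- `f` extends to `C_S(T)`, moving it by a cocycle into `T` constant on the classes of `C_F(T)`. -/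
def HasCocycle (F : FusionSystem S) (T P : Subgroup Ω) (f : Ω → Ω) : Prop :=
  ∃ g, MapFn F (P ⊔ centralizerIn S T) g ∧ (∀ x ∈ P, g x = f x) ∧
    (∀ x ∈ centralizerIn S T, x⁻¹ * g x ∈ T) ∧
    ∀ a ∈ centralizerIn S T, ∀ κ : Ω → Ω, MapFn F (T ⊔ Subgroup.zpowers a) κ → (∀ t ∈ T, κ t = t) →
      a⁻¹ * g a = (κ a)⁻¹ * g (κ a)

omit [Fact p.Prime] in
theorem kappa_mem {κ : Ω → Ω} {a : Ω} (hκ : MapFn F (T ⊔ Subgroup.zpowers a) κ) (hκT : ∀ t ∈ T, κ t = t)
    (ha : a ∈ centralizerIn S T) : κ a ∈ centralizerIn S T :=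
  hκ.mem_centralizerIn le_sup_left
    ((Set.image_congr hκT).trans (Set.image_id _)) (Subgroup.mem_sup_right (Subgroup.mem_zpowers a)) ha

omit [Fact p.Prime] in
/-- For a source centric among the subgroups of `T`, the cocycle has values in the image. -/
theorem cocycle_mem_image (hT : F.StronglyClosed T) (hP : TCentric F T P) {f g : Ω → Ω}
    (hfF : MapFn F P f) (hfr : f '' P = (R : Set Ω)) (hg : MapFn F (P ⊔ centralizerIn S T) g)
    (hgP : ∀ x ∈ P, g x = f x) {x : Ω} (hx : x ∈ centralizerIn S T) (hz : x⁻¹ * g x ∈ T) :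
    x⁻¹ * g x ∈ R := by
  have hR : TCentric F T R := hP.of_conj hT (hfF.isConj hfr)
  have hx1 : x ∈ centralizerIn S R :=
    ⟨hx.1, Subgroup.centralizer_le (SetLike.coe_subset_coe.mpr hR.le) hx.2⟩
  have hgr : g '' P = (R : Set Ω) := (Set.image_congr hgP).trans hfr
  have hx2 : g x ∈ centralizerIn S R := hg.mem_centralizerIn le_sup_left hgr (Subgroup.mem_sup_right hx)
    ⟨hx.1, Subgroup.centralizer_le (SetLike.coe_subset_coe.mpr hP.le) hx.2⟩
  refine hR.centralizer_le hT.1 (mem_centralizerIn.mpr ⟨hz, ?_⟩)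
  exact (mem_centralizerIn.mp ((centralizerIn S R).mul_mem ((centralizerIn S R).inv_mem hx1) hx2)).2

/-- A conjugate of an inner automorphism by an element of `N_T(Q)` has a cocycle. -/
theorem hasCocycle_conj (hS : IsPGroup p S) (hF : F.IsSaturated p) (hT : F.StronglyClosed T)
    (hEF : E.IsSubsystemOf F) (hQ : TCentric F T Q)
    {δ ct : MulAut Q} (hδ : δ ∈ E.autGroup Q) {t : Ω} (ht : t ∈ normalizerIn T Q)
    (hct : ∀ x : Q, ((ct x : Q) : Ω) = t * (x : Ω) * t⁻¹) :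
    ∃ g, MapFn F (Q ⊔ centralizerIn S T) g ∧ (∀ x : Q, g x = (((δ * ct * δ⁻¹) x : Q) : Ω)) ∧
    (∀ x ∈ centralizerIn S T, x⁻¹ * g x ∈ T) ∧
    ∀ a ∈ centralizerIn S T, ∀ κ : Ω → Ω, MapFn F (T ⊔ Subgroup.zpowers a) κ → (∀ t ∈ T, κ t = t) →
      a⁻¹ * g a = (κ a)⁻¹ * g (κ a) := by
  have hTS := hT.1
  have hQT := hQ.le
  have hQS := hQT.trans hTS
  set X := centralizerIn S T with hX
  obtain ⟨W, θ, hWn, hθ, hθW, hθN⟩ := exists_fullyNormalized_mapFn hS hF hQS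
  have hQN : Q ≤ normalizerIn S Q := le_normalizerIn hQS
  have hXQ : X ≤ centralizerIn S Q := fun x hx =>
    ⟨hx.1, Subgroup.centralizer_le (SetLike.coe_subset_coe.mpr hQT) hx.2⟩
  set D := Q ⊔ X with hD
  have hDN : D ≤ normalizerIn S Q := sup_le hQN (hXQ.trans centralizerIn_le_normalizerIn)
  have htN : t ∈ normalizerIn S Q := ⟨hTS ht.1, ht.2⟩
  have hWT : W ≤ T := fun y hy => by
    obtain ⟨x, hx, rfl⟩ := exists_of_image hθW hy
    exact mapFn_mem hT hθ (hQN hx) (hQT hx)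
  have hWS := hWT.trans hTS
  have hWf := isFullyCentralized_of_fullyNormalized hS hF hWn
  have hWc : TCentric F T W := hQ.of_conj hT ((hθ.mono hQN).isConj hθW)
  obtain ⟨M', -, hM'⟩ := (hθ.mono hDN).exists_image
  obtain ⟨ι, hι, -, hι₁, hι₂⟩ := (hθ.mono hDN).exists_inv hM'
  have hWM' : W ≤ M' := fun y hy => by
    obtain ⟨x, hx, rfl⟩ := exists_of_image hθW hy
    exact mem_of_image hM' (Subgroup.mem_sup_left hx)
  have hιW : ∀ y ∈ W, ι y ∈ Q := fun y hy => by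
    obtain ⟨x, hx, rfl⟩ := exists_of_image hθW hy
    rw [hι₁ x (Subgroup.mem_sup_left hx)]; exact hx
  -- `δ` transported to `W` and extended
  obtain ⟨d, hd, hdr, hde⟩ := exists_mapFn_of_aut hQT hδ
  have hdF := mapFn_of_subsystem hEF hd
  have hδ₁ : MapFn F W (θ ∘ d ∘ ι) := ((hι.mono hWM').comp hdF hιW).comp (hθ.mono hQN)
    fun y hy => mem_of_image hdr (hιW y hy)
  have hδ₁r := hδ₁.image_eq_of_maps hWS (fun y hy => mem_of_image hθW (mem_of_image hdr (hιW y hy))) le_rfl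
  obtain ⟨Δ, hΔ, hΔe⟩ := hδ₁.extend_centralizer hS hF hWf hδ₁r
  set M := W ⊔ centralizerIn S W with hMdef
  have hMS : M ≤ S := sup_le hWS centralizerIn_le
  have hΔW : Δ '' W = (W : Set Ω) := (Set.image_congr fun y hy => hΔe y hy).trans hδ₁r
  have hΔC : ∀ y ∈ centralizerIn S W, Δ y ∈ centralizerIn S W := fun y hy =>
    hΔ.mem_centralizerIn le_sup_left hΔW (Subgroup.mem_sup_right hy) hy
  have hΔr := hΔ.image_eq_of_maps hMS (hΔ.maps_sup (fun y hy => Subgroup.mem_sup_left (mem_of_image hΔW hy))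
    fun y hy => Subgroup.mem_sup_right (hΔC y hy)) le_rfl
  obtain ⟨Δi, hΔi, hΔir, hΔi₁, hΔi₂⟩ := hΔ.exists_inv hΔr
  have hΔiW : Δi '' W = (W : Set Ω) := by
    ext y
    constructor
    · rintro ⟨w, hw, rfl⟩
      obtain ⟨v, hv, rfl⟩ := exists_of_image hΔW hw
      rw [hΔi₁ v (Subgroup.mem_sup_left hv)]; exact hv
    · intro hy
      exact ⟨Δ y, mem_of_image hΔW hy, hΔi₁ y (Subgroup.mem_sup_left hy)⟩
  set t₁ := θ t with ht₁
  have ht₁N : t₁ ∈ normalizerIn T W := ⟨mapFn_mem hT hθ htN ht.1, (hθN t htN).2⟩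
  have ht₁M : ∀ y ∈ M, t₁ * y * t₁⁻¹ ∈ M := fun y hy =>
    (mapFn_conj (F := F) hMS (hTS ht₁N.1)).maps_sup
      (fun w hw => Subgroup.mem_sup_left (conj_mem_of_normalizer ht₁N.2 hw))
      (fun w hw => Subgroup.mem_sup_right (mem_centralizerIn.mpr
        ⟨S.mul_mem (S.mul_mem (hTS ht₁N.1) hw.1) (S.inv_mem (hTS ht₁N.1)), fun v hv => by
          have h1 := (mem_centralizerIn.mp hw).2 _ ((Subgroup.mem_normalizer_iff''.mp ht₁N.2 v).mp hv)
          calc v * (t₁ * w * t₁⁻¹) = t₁ * (t₁⁻¹ * v * t₁ * w) * t₁⁻¹ := by group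
            _ = t₁ * w * t₁⁻¹ * v := by rw [h1]; group⟩)) y hy
  have hθX : ∀ x ∈ X, θ x ∈ centralizerIn S W := fun x hx =>
    hθ.mem_centralizerIn hQN hθW (hDN (Subgroup.mem_sup_right hx)) (hXQ hx)
  have hθM : ∀ x ∈ D, θ x ∈ M := (hθ.mono hDN).maps_sup
    (fun x hx => Subgroup.mem_sup_left (mem_of_image hθW hx)) fun x hx => Subgroup.mem_sup_right (hθX x hx)
  obtain ⟨η, hηdef⟩ : ∃ η : Ω → Ω, η = fun y => Δ (t₁ * Δi y * t₁⁻¹) := ⟨_, rfl⟩
  have hη : MapFn F M η := hηdef ▸ (hΔi.comp (mapFn_conj hMS (hTS ht₁N.1))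
    fun y hy => mem_of_image hΔir hy).comp hΔ fun y hy => ht₁M _ (mem_of_image hΔir hy)
  -- on `C_S(T)` the map `η` moves by elements of `W`
  obtain ⟨τ, hτdef⟩ : ∃ τ : Ω → Ω, τ = fun x => t₁ * Δi (θ x) * t₁⁻¹ * (Δi (θ x))⁻¹ := ⟨_, rfl⟩
  have hΔiX : ∀ x ∈ X, Δi (θ x) ∈ centralizerIn S W := fun x hx =>
    hΔi.mem_centralizerIn le_sup_left hΔiW (Subgroup.mem_sup_right (hθX x hx)) (hθX x hx)
  have hτW : ∀ x ∈ X, τ x ∈ W := by
    intro x hx
    subst hτdef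
    set u := Δi (θ x)
    have hu : u ∈ centralizerIn S W := hΔiX x hx
    refine TCentric.centralizer_le hTS hWc (mem_centralizerIn.mpr ⟨?_, ?_⟩)
    · have := T.mul_mem ht₁N.1
        (conj_mem_of_normalizer (StronglyClosed.le_normalizer hT hu.1) (T.inv_mem ht₁N.1))
      simpa [mul_assoc] using this
    · refine (mem_centralizerIn.mp ((centralizerIn S W).mul_mem ?_ ((centralizerIn S W).inv_mem hu))).2
      refine mem_centralizerIn.mpr ⟨S.mul_mem (S.mul_mem (hTS ht₁N.1) hu.1) (S.inv_mem (hTS ht₁N.1)), fun v hv => ?_⟩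
      have h1 := (mem_centralizerIn.mp hu).2 _ ((Subgroup.mem_normalizer_iff''.mp ht₁N.2 v).mp hv)
      calc v * (t₁ * u * t₁⁻¹) = t₁ * (t₁⁻¹ * v * t₁ * u) * t₁⁻¹ := by group
        _ = t₁ * u * t₁⁻¹ * v := by rw [h1]; group
  have hηX : ∀ x ∈ X, η (θ x) = Δ (τ x) * θ x := by
    intro x hx
    have h1 : t₁ * Δi (θ x) * t₁⁻¹ = τ x * Δi (θ x) := by subst hτdef; group
    subst hηdef
    show Δ (t₁ * Δi (θ x) * t₁⁻¹) = _
    rw [h1, hΔ.map_mul (Subgroup.mem_sup_left (hτW x hx))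
      (mem_of_image hΔir (hθM x (Subgroup.mem_sup_right hx))), hΔi₂ _ (hθM x (Subgroup.mem_sup_right hx))]
  have hηQ : ∀ x : Q, η (θ x) = θ (((δ * ct * δ⁻¹) x : Q) : Ω) := by
    intro x
    have hΔθ : ∀ y : Q, Δ (θ y) = θ ((δ y : Q) : Ω) := fun y => by
      rw [hΔe _ (mem_of_image hθW y.2)]
      show θ (d (ι (θ y))) = _
      rw [hι₁ _ (Subgroup.mem_sup_left y.2), hde]
    have h1 : Δi (θ x) = θ ((δ⁻¹ x : Q) : Ω) := by
      have := hΔθ (δ⁻¹ x)
      rw [MulAut.apply_inv_self] at this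
      rw [← this]
      exact hΔi₁ _ (Subgroup.mem_sup_left (mem_of_image hθW (Subtype.mem _)))
    rw [hηdef]
    show Δ (t₁ * Δi (θ x) * t₁⁻¹) = _
    rw [h1, ht₁, ← hθ.map_conj htN (hQN (Subtype.mem _)), ← hct, hΔθ]
    rfl
  have hηm : ∀ x ∈ D, η (θ x) ∈ M' := ((hθ.mono hDN).comp hη hθM).maps_sup
    (fun x hx => by
      show η (θ x) ∈ M'
      rw [hηQ ⟨x, hx⟩]
      exact mem_of_image hM' (Subgroup.mem_sup_left (Subtype.mem _)))
    fun x hx => by
      show η (θ x) ∈ M'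
      rw [hηX x hx]
      exact M'.mul_mem (hWM' (mem_of_image hΔW (hτW x hx))) (mem_of_image hM' (Subgroup.mem_sup_right hx))
  have hval : ∀ x ∈ X, x⁻¹ * ι (η (θ x)) = ι (Δ (τ x)) := by
    intro x hx
    have hxM' : θ x ∈ M' := mem_of_image hM' (Subgroup.mem_sup_right hx)
    have hwM' := hWM' (mem_of_image hΔW (hτW x hx))
    rw [hηX x hx, hι.map_mul hwM' hxM', hι₁ x (Subgroup.mem_sup_right hx)]
    have hq := hιW _ (mem_of_image hΔW (hτW x hx))
    rw [(mem_centralizerIn.mp (hXQ hx)).2 _ hq, inv_mul_cancel_left]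
  refine ⟨ι ∘ η ∘ θ, ((hθ.mono hDN).comp hη hθM).comp hι hηm, fun x => ?_, fun x hx => ?_, ?_⟩
  · show ι (η (θ x)) = _
    rw [hηQ]
    exact hι₁ _ (Subgroup.mem_sup_left (Subtype.mem _))
  · show x⁻¹ * ι (η (θ x)) ∈ T
    rw [hval x hx]
    exact hQT (hιW _ (mem_of_image hΔW (hτW x hx)))
  intro a ha κ hκ hκT
  have hb := kappa_mem hκ hκT ha
  show a⁻¹ * ι (η (θ a)) = (κ a)⁻¹ * ι (η (θ (κ a)))
  rw [hval a ha, hval _ hb]
  congr 2
  -- transport `κ` to a map fixing `W`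
  set u := Δi (θ a) with hu
  have huC := hΔiX a ha
  have haD : a ∈ D := Subgroup.mem_sup_right ha
  have hle : W ⊔ Subgroup.zpowers u ≤ M :=
    sup_le le_sup_left (Subgroup.zpowers_le.mpr (Subgroup.mem_sup_right huC))
  have hΔu : Δ u = θ a := hΔi₂ _ (hθM a haD)
  have hm1 : ∀ y ∈ W ⊔ Subgroup.zpowers u, Δ y ∈ M' := (hΔ.mono hle).maps_sup
    (fun y hy => hWM' (mem_of_image hΔW hy))
    fun y hy => (Subgroup.zpowers_le.mpr (hΔu.symm ▸ mem_of_image hM' haD))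
      (mapFn_zpowers hΔ (Subgroup.mem_sup_right huC) y hy)
  have hιθ : ι (θ a) = a := hι₁ a haD
  have hm2 : ∀ y ∈ W ⊔ Subgroup.zpowers u, ι (Δ y) ∈ Q ⊔ Subgroup.zpowers a :=
    ((hΔ.mono hle).comp hι hm1).maps_sup
      (fun y hy => Subgroup.mem_sup_left (hιW _ (mem_of_image hΔW hy)))
      fun y hy => Subgroup.mem_sup_right (by
        have := mapFn_zpowers ((hΔ.mono hle).comp hι hm1) (Subgroup.mem_sup_right (Subgroup.mem_zpowers u)) y hy
        rwa [Function.comp_apply, Function.comp_apply, hΔu, hιθ] at this)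
  have hQa : Q ⊔ Subgroup.zpowers a ≤ T ⊔ Subgroup.zpowers a := sup_le_sup_right hQT _
  have hm3 : ∀ y ∈ Q ⊔ Subgroup.zpowers a, κ y ∈ D := (hκ.mono hQa).maps_sup
    (fun y hy => Subgroup.mem_sup_left (by rw [hκT y (hQT hy)]; exact hy))
    fun y hy => Subgroup.mem_sup_right ((Subgroup.zpowers_le.mpr hb)
      (mapFn_zpowers hκ (Subgroup.mem_sup_right (Subgroup.mem_zpowers a)) y hy))
  have hμ : MapFn F (W ⊔ Subgroup.zpowers u) (Δi ∘ θ ∘ κ ∘ ι ∘ Δ) :=
    (((( hΔ.mono hle).comp hι hm1).comp (hκ.mono hQa) hm2).comp (hθ.mono hDN)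
      fun y hy => hm3 _ (hm2 y hy)).comp hΔi fun y hy => hθM _ (hm3 _ (hm2 y hy))
  have hμW : ∀ w ∈ W, (Δi ∘ θ ∘ κ ∘ ι ∘ Δ) w = w := by
    intro w hw
    have h1 : Δ w ∈ W := mem_of_image hΔW hw
    show Δi (θ (κ (ι (Δ w)))) = w
    rw [hκT _ (hQT (hιW _ h1)), hι₂ _ (hWM' h1), hΔi₁ w (Subgroup.mem_sup_left hw)]
  have key := commutator_invariant hS hF hT hWc hWf hμ hμW huC ht₁N
  have hμu : (Δi ∘ θ ∘ κ ∘ ι ∘ Δ) u = Δi (θ (κ a)) := by
    show Δi (θ (κ (ι (Δ u)))) = _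
    rw [hΔu, hιθ]
  rw [hμu] at key
  subst hτdef
  exact key

/-- Cocycles compose. -/
theorem hasCocycle_comp (hT : F.StronglyClosed T) (hEF : E.IsSubsystemOf F) {f g : Ω → Ω}
    (hf : MapFn E P f) (hg : MapFn E R g) (hm : ∀ x ∈ P, f x ∈ R) (hP : TCentric F T P)
    (hCf : HasCocycle F T P f) (hCg : TCentric F T R → HasCocycle F T R g) :
    HasCocycle F T P (g ∘ f) := by
  set X := centralizerIn S T with hX
  have hfF := mapFn_of_subsystem hEF hf
  obtain ⟨P', -, hP'⟩ := hfF.exists_image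
  have hP'R : P' ≤ R := fun y hy => by obtain ⟨x, hx, rfl⟩ := exists_of_image hP' hy; exact hm x hx
  have hR : TCentric F T R := (hP.of_conj hT (hfF.isConj hP')).of_le hP'R hg.le_S
  obtain ⟨f', hf', hfP, hfz, hfi⟩ := hCf
  obtain ⟨g', hg', hgP, hgz, hgi⟩ := hCg hR
  have hzR : ∀ x ∈ X, x⁻¹ * f' x ∈ R := fun x hx =>
    hP'R (cocycle_mem_image hT hP hfF hP' hf' hfP hx (hfz x hx))
  have hval : ∀ x ∈ X, x⁻¹ * g' (f' x) = x⁻¹ * g' x * g (x⁻¹ * f' x) := fun x hx => by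
    have h1 := hg'.map_mul (Subgroup.mem_sup_right hx) (Subgroup.mem_sup_left (hzR x hx))
    rw [mul_inv_cancel_left, hgP _ (hzR x hx)] at h1
    rw [h1, mul_assoc]
  refine ⟨g' ∘ f', hf'.comp hg' (hf'.maps_sup (fun x hx => ?_) fun x hx => ?_), fun x hx => ?_,
    fun x hx => ?_, fun a ha κ hκ hκT => ?_⟩
  · rw [hfP x hx]; exact Subgroup.mem_sup_left (hm x hx)
  · have := Subgroup.mul_mem _ (Subgroup.mem_sup_right hx : x ∈ R ⊔ X) (Subgroup.mem_sup_left (hzR x hx))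
    rwa [mul_inv_cancel_left] at this
  · show g' (f' x) = g (f x)
    rw [hfP x hx, hgP _ (hm x hx)]
  · show x⁻¹ * g' (f' x) ∈ T
    rw [hval x hx]
    exact T.mul_mem (hgz x hx) (hg.mem_S (hzR x hx))
  · show a⁻¹ * g' (f' a) = (κ a)⁻¹ * g' (f' (κ a))
    rw [hval a ha, hval _ (kappa_mem hκ hκT ha), hgi a ha κ hκ hκT, hfi a ha κ hκ hκT]

/-- Cocycles invert. -/
theorem hasCocycle_inv (hT : F.StronglyClosed T) (hEF : E.IsSubsystemOf F) {f g : Ω → Ω}
    (hf : MapFn E P f) (hr : f '' P = (R : Set Ω)) (hg : MapFn E R g) (hinv : ∀ x ∈ P, g (f x) = x)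
    (hP : TCentric F T P) (hCf : HasCocycle F T P f) : HasCocycle F T R g := by
  set X := centralizerIn S T with hX
  have hfF := mapFn_of_subsystem hEF hf
  obtain ⟨f', hf', hfP, hfz, hfi⟩ := hCf
  have hzR : ∀ x ∈ X, x⁻¹ * f' x ∈ R := fun x hx => cocycle_mem_image hT hP hfF hr hf' hfP hx (hfz x hx)
  obtain ⟨M, -, hM⟩ := hf'.exists_image
  obtain ⟨g', hg', -, hg'₁, -⟩ := hf'.exists_inv hM
  have hRM : R ≤ M := fun y hy => by
    obtain ⟨x, hx, rfl⟩ := exists_of_image hr hy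
    rw [← hfP x hx]; exact mem_of_image hM (Subgroup.mem_sup_left hx)
  have hXM : X ≤ M := fun x hx => by
    have := M.mul_mem (mem_of_image hM (Subgroup.mem_sup_right hx)) (M.inv_mem (hRM (hzR x hx)))
    rwa [mul_inv_rev, inv_inv, mul_inv_cancel_left] at this
  have hgR : ∀ y ∈ R, g' y = g y := fun y hy => by
    obtain ⟨x, hx, rfl⟩ := exists_of_image hr hy
    rw [hinv x hx, ← hfP x hx, hg'₁ x (Subgroup.mem_sup_left hx)]
  have hval : ∀ x ∈ X, x⁻¹ * g' x = (g (x⁻¹ * f' x))⁻¹ := fun x hx => by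
    have h1 := hg'.map_mul (hXM hx) (hRM (hzR x hx))
    rw [mul_inv_cancel_left, hgR _ (hzR x hx), hg'₁ x (Subgroup.mem_sup_right hx)] at h1
    rw [inv_mul_eq_iff_eq_mul, eq_mul_inv_iff_mul_eq]
    exact h1.symm
  refine ⟨g', hg'.mono (sup_le hRM hXM), hgR, fun x hx => ?_, fun a ha κ hκ hκT => ?_⟩
  · rw [hval x hx]; exact T.inv_mem (hg.mem_S (hzR x hx))
  · rw [hval a ha, hval _ (kappa_mem hκ hκT ha), hfi a ha κ hκ hκT]

/-- Every map of `E` from a subgroup centric among the subgroups of `T` has a cocycle. -/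
theorem hasCocycle (hS : IsPGroup p S) (hE : E.IsNormalIn F p) {f : Ω → Ω} (hf : MapFn E P f)
    (hP : TCentric F T P) : HasCocycle F T P f := by
  have hE' := hE
  obtain ⟨⟨hEs, hF, hEi⟩, hext⟩ := hE
  have hT := hEi.2.1
  have hTS := hT.1
  have hST := hS.to_le hTS
  have := finite_of_le hTS
  have hp : p.Prime := Fact.out
  set X := centralizerIn S T with hX
  refine alperin_induction hST hEs (fun P f => TCentric F T P → HasCocycle F T P f)
    (fun _ h e hP => let ⟨g, hg, hgP, h1, h2⟩ := h hP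
      ⟨g, hg, fun x hx => (hgP x hx).trans (e x hx), h1, h2⟩)
    (fun hf h hR hRc => let ⟨g, hg, hgP, h1, h2⟩ := h (hRc.of_le hR hf.le_S)
      ⟨g, hg.mono (sup_le_sup_right hR X), fun x hx => hgP x (hR hx), h1, h2⟩)
    ?_ ?_ ?_ P f hf hP
  · rintro P R f g hf hCf hg hCg hm hP
    exact hasCocycle_comp hT hEi.1 hf hg hm hP (hCf hP) hCg
  · rintro P R f g hf hCf hr hg hinv hR
    have hP : TCentric F T P := hR.of_conj hT (isConj_symm ((mapFn_of_subsystem hEi.1 hf).isConj hr))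
    exact hasCocycle_inv hT hEi.1 hf hr hg hinv hP (hCf hP)
  -- automorphisms
  intro Q hQn hQc hQrad ih a ha har hQ
  have hQT : Q ≤ T := hQn.1
  have hQS := hQT.trans hTS
  obtain ⟨α, hα, hαe⟩ := ha.exists_aut har
  have := finite_mulAut hQT
  have hQXS : Q ⊔ X ≤ S := sup_le hQS centralizerIn_le
  let K : Subgroup (E.autGroup Q) :=
    { carrier := {b | ∀ f : Ω → Ω, (∀ x : Q, f x = (((b : MulAut Q) x : Q) : Ω)) → HasCocycle F T Q f}
      one_mem' := fun f hf => ⟨id, mapFn_id hQXS, fun x hx => (hf ⟨x, hx⟩).symm,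
        fun x _ => by simp, fun a _ κ _ _ => by simp⟩
      mul_mem' := by
        intro b₁ b₂ h₁ h₂ f hf
        obtain ⟨f₁, hf₁, -, hf₁e⟩ := exists_mapFn_of_aut hQT b₁.2
        obtain ⟨f₂, hf₂, -, hf₂e⟩ := exists_mapFn_of_aut hQT b₂.2
        obtain ⟨g, hg, hgQ, hgz, hgi⟩ := hasCocycle_comp hT hEi.1 hf₂ hf₁
          (fun x hx => by rw [hf₂e ⟨x, hx⟩]; exact Subtype.mem _) hQ (h₂ f₂ hf₂e) fun _ => h₁ f₁ hf₁e
        refine ⟨g, hg, fun x hx => (hgQ x hx).trans ?_, hgz, hgi⟩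
        show f₁ (f₂ x) = f x
        rw [hf₂e ⟨x, hx⟩, hf₁e, hf ⟨x, hx⟩]
        rfl
      inv_mem' := by
        intro b h f hf
        obtain ⟨f₀, hf₀, hf₀r, hf₀e⟩ := exists_mapFn_of_aut hQT b.2
        obtain ⟨f₁, hf₁, -, hf₁e⟩ := exists_mapFn_of_aut hQT (Subgroup.inv_mem _ b.2)
        obtain ⟨g, hg, hgQ, hgz, hgi⟩ := hasCocycle_inv hT hEi.1 hf₀ hf₀r hf₁
          (fun x hx => by rw [hf₀e ⟨x, hx⟩, hf₁e, MulAut.inv_apply_self]) hQ (h f₀ hf₀e)
        exact ⟨g, hg, fun x hx => (hgQ x hx).trans ((hf₁e ⟨x, hx⟩).trans (hf ⟨x, hx⟩).symm), hgz, hgi⟩ }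
  suffices h : K = ⊤ from (h ▸ Subgroup.mem_top _ : (⟨α, hα⟩ : E.autGroup Q) ∈ K) a fun x => (hαe x).symm
  rcases eq_or_ne Q T with rfl | hne
  · -- the group `T` itself
    have hU0S : Q ⊔ X ≤ S := hQXS
    have := finite_mulAut hU0S
    have hcop : ∀ a : E.autGroup Q, (orderOf a).Coprime p → a ∈ K := by
      intro a hac f hf
      have hac' : (orderOf (a : MulAut Q)).Coprime p := by rwa [Subgroup.orderOf_coe]
      obtain ⟨B₀, hB₀, hB₀a, hB₀z⟩ := hext a a.2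
      have hz : ∀ (m : ℕ) (x : ↥(Q ⊔ X)), (x : Ω) ∈ X →
          (x : Ω)⁻¹ * (((B₀ ^ m) x : ↥(Q ⊔ X)) : Ω) ∈ Q ⊓ Subgroup.centralizer (Q : Set Ω) := by
        intro m
        induction m with
        | zero => intro x _; simp
        | succ m ih =>
          intro x hx
          have h1 := ih x hx
          have h2 : (((B₀ ^ m) x : ↥(Q ⊔ X)) : Ω) ∈ X := by
            simpa using X.mul_mem hx (⟨hQS h1.1, h1.2⟩ : _ ∈ X)
          have := Subgroup.mul_mem _ h1 (hB₀z _ h2)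
          rw [pow_succ', MulAut.mul_apply]
          simpa [mul_assoc] using this
      have hres : ∀ (m : ℕ) (t : Q),
          (((B₀ ^ m) (Subgroup.inclusion le_sup_left t) : ↥(Q ⊔ X)) : Ω) =
            ((((a : MulAut Q) ^ m) t : Q) : Ω) := by
        intro m
        induction m with
        | zero => intro t; rfl
        | succ m ih =>
          intro t
          rw [pow_succ', MulAut.mul_apply, pow_succ', MulAut.mul_apply, ← hB₀a]
          congr 2
          exact Subtype.ext (ih t)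
      obtain ⟨k, m, hm, hord⟩ := Nat.exists_eq_pow_mul_and_not_dvd (orderOf_pos B₀).ne' p hp.ne_one
      obtain ⟨d, hd₁, hd₂⟩ := Nat.chineseRemainder (hac'.pow_right k) 1 0
      obtain ⟨e, rfl⟩ : p ^ k ∣ d := Nat.modEq_zero_iff_dvd.mp hd₂
      have hda : (a : MulAut Q) ^ (p ^ k * e) = a := by
        conv_rhs => rw [← pow_one (a : MulAut Q)]
        exact pow_eq_pow_iff_modEq.mpr hd₁
      have hBm : (B₀ ^ (p ^ k * e)) ^ m = 1 := by
        rw [← pow_mul, show p ^ k * e * m = p ^ k * m * e by ring, ← hord, pow_mul, pow_orderOf_eq_one, one_pow]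
      obtain ⟨β, hβ, -, hβe⟩ := exists_mapFn_of_aut hU0S (Subgroup.pow_mem _ hB₀ (p ^ k * e))
      refine ⟨β, hβ, fun x hx => ?_, fun x hx => ?_, fun b hb κ hκ hκT => ?_⟩
      · have := hres (p ^ k * e) ⟨x, hx⟩
        rw [hda] at this
        exact ((hβe ⟨x, Subgroup.mem_sup_left hx⟩).trans this).trans (hf ⟨x, hx⟩).symm
      · rw [hβe ⟨x, Subgroup.mem_sup_right hx⟩]; exact (hz _ ⟨x, Subgroup.mem_sup_right hx⟩ hx).1
      · exact invariant_of_coprime hS hF hT (Subgroup.pow_mem _ hB₀ _)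
          ((hp.coprime_iff_not_dvd).mpr hm).symm hBm (hz _) hβ hβe hκ hκT hb
    rw [eq_top_iff]
    rintro ⟨α, hα⟩ -
    obtain ⟨a, haR, g, hg, b, hab, hb⟩ :=
      FullyAutomized.exists_mul (((saturated_iff_top_and_receptive hST).mp hEs).1) hα
    have hbE : b ∈ E.autGroup Q := (mem_autGroup le_rfl).mpr (mem_of_conj le_rfl hg fun x => hb x)
    have hbK : (⟨b, hbE⟩ : E.autGroup Q) ∈ K := by
      intro f hf
      have hfix : ∀ x ∈ X, g * x * g⁻¹ = x := fun x hx => by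
        rw [(mem_centralizerIn.mp hx).2 g hg, mul_inv_cancel_right]
      refine ⟨_, mapFn_conj hQXS (hTS hg), fun x hx => ((hf ⟨x, hx⟩).trans (hb ⟨x, hx⟩)).symm,
        fun x hx => by simp [hfix x hx], fun a ha κ hκ hκT => ?_⟩
      simp [hfix a ha, hfix _ (kappa_mem hκ hκT ha)]
    have hαe : (⟨α, hα⟩ : E.autGroup Q) = a * ⟨b, hbE⟩ := Subtype.ext hab
    rw [hαe]
    exact K.mul_mem (CfsgLib.Transfer.pResidual_le_iff.mpr hcop haR) hbK
  -- smaller groups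
  have hlt : Q < T := lt_of_le_of_ne hQT hne
  have hNlt : Nat.card Q < Nat.card (normalizerIn T Q) :=
    card_lt_card normalizerIn_le (Fusion.lt_normalizerIn hST le_rfl hlt)
  obtain ⟨hQa, hQr⟩ := fullyNormalized_good hST hEs hQn
  obtain ⟨-, U, hU⟩ := hQa
  set Nn := Subgroup.normalClosure ((U : Subgroup (E.autGroup Q)) : Set (E.autGroup Q)) with hNn
  have hNK : Nn ≤ K := by
    refine (Subgroup.closure_le _).mpr fun x hx => ?_
    obtain ⟨u, hu, hux⟩ := Group.mem_conjugatesOfSet_iff.mp hx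
    obtain ⟨δ, rfl⟩ := isConj_iff.mp hux
    obtain ⟨t, htT, hte⟩ := mem_autInducedBy.mp (Subgroup.mem_subgroupOf.mp (hU.le hu))
    intro f hf
    obtain ⟨g, hg, hgQ, hgz, hgi⟩ := hasCocycle_conj hS hF hT hEi.1 hQ δ.2 ⟨htT, mem_normalizer_of_aut hte⟩ hte
    exact ⟨g, hg, fun x hx => (hgQ ⟨x, hx⟩).trans (hf ⟨x, hx⟩).symm, hgz, hgi⟩
  have hnK : Subgroup.normalizer ((U : Subgroup (E.autGroup Q)) : Set (E.autGroup Q)) ≤ K := by
    intro k hk f hf
    obtain ⟨κ, hκ, hκr, hκe⟩ := exists_map_of_mem_autGroup hQT k.2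
    have hN : normalizerIn T Q ≤ extender T Q κ := by
      rintro g ⟨hgT, hgN⟩
      obtain ⟨c, hc, hce⟩ := exists_autInducedBy (K := T) hgT hgN
      have hm : (⟨c, autInducedBy_le_autGroup hQT hc⟩ : E.autGroup Q) ∈ (U : Subgroup (E.autGroup Q)) :=
        hU.ge hc
      obtain ⟨s, hs, hse⟩ := mem_autInducedBy.mp (hU.le ((Subgroup.mem_normalizer_iff.mp hk _).mp hm))
      refine mem_extender.mpr ⟨hgT, hgN, s, hs, fun x hx => ?_⟩
      rw [hκe, hκe, ← hse]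
      simp [← hce x]
    obtain ⟨ρ, hρ, hρe⟩ := Fusion.exists_extension hQr hκ hκr (le_normalizerIn hQT) hN
    obtain ⟨r, hr, hre⟩ := mapFn_of_hom hρ
    obtain ⟨g, hg, hgN, hgz, hgi⟩ := ih _ r hr hNlt (hQ.of_le (le_normalizerIn hQT) inf_le_left)
    refine ⟨g, hg.mono (sup_le_sup_right (le_normalizerIn hQT) X), fun x hx => ?_, hgz, hgi⟩
    rw [hgN _ (le_normalizerIn hQT hx), ← hre ⟨x, le_normalizerIn hQT hx⟩, hf ⟨x, hx⟩]
    exact (hρe ⟨x, hx⟩).trans (hκe ⟨x, hx⟩)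
  rw [eq_top_iff, ← Sylow.normalizer_sup_eq_top' (N := Nn) U Subgroup.le_normalClosure]
  exact sup_le hnK hNK

/-- Every map of `E` extends to a map fixing `a⁻¹ b` for `a`, `b` conjugate in `C_F(T)`. -/
theorem goodElt_focal (hS : IsPGroup p S) (hE : E.IsNormalIn F p) {a : Ω} {κ : Ω → Ω}
    (hκ : MapFn F (T ⊔ Subgroup.zpowers a) κ) (hκT : ∀ t ∈ T, κ t = t) (ha : a ∈ centralizerIn S T) :
    GoodElt F E (a⁻¹ * κ a) := by
  obtain ⟨⟨hEs, hF, hEi⟩, -⟩ := id hE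
  have hT := hEi.2.1
  have hTS := hT.1
  have hST := hS.to_le hTS
  have := finite_of_le hTS
  set X := centralizerIn S T with hX
  set c := a⁻¹ * κ a with hc
  have hb := kappa_mem hκ hκT ha
  have hcX : c ∈ X := X.mul_mem (X.inv_mem ha) hb
  refine ⟨hcX, fun P f hf => ?_⟩
  refine alperin_induction hST hEs
    (fun P f => ∃ g, MapFn F (P ⊔ Subgroup.zpowers c) g ∧ (∀ x ∈ P, g x = f x) ∧ g c = c)
    (fun _ ⟨g, hg, hP, hQ⟩ e => ⟨g, hg, fun x hx => (hP x hx).trans (e x hx), hQ⟩)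
    (fun _ ⟨g, hg, hP, hQ⟩ hR => ⟨g, hg.mono (sup_le_sup_right hR _), fun x hx => hP x (hR hx), hQ⟩)
    ?_ ?_ ?_ P f hf
  · rintro P R f g - ⟨f', hf', hfP, hfc⟩ - ⟨g', hg', hgP, hgc⟩ hm
    refine ⟨g' ∘ f', hf'.comp hg' (hf'.maps_sup (fun x hx => ?_) fun x hx => ?_), fun x hx => ?_, ?_⟩
    · rw [hfP x hx]; exact Subgroup.mem_sup_left (hm x hx)
    · exact Subgroup.mem_sup_right (hfc ▸ mapFn_zpowers hf' (Subgroup.mem_sup_right (Subgroup.mem_zpowers c)) x hx)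
    · show g' (f' x) = g (f x)
      rw [hfP x hx, hgP _ (hm x hx)]
    · show g' (f' c) = c
      rw [hfc, hgc]
  · rintro P R f g hf ⟨f', hf', hfP, hfc⟩ hr - hinv
    obtain ⟨M, -, hM⟩ := hf'.exists_image
    obtain ⟨g', hg', -, hg'₁, -⟩ := hf'.exists_inv hM
    have hcP : c ∈ P ⊔ Subgroup.zpowers c := Subgroup.mem_sup_right (Subgroup.mem_zpowers c)
    have hle : R ⊔ Subgroup.zpowers c ≤ M := by
      refine sup_le (fun y hy => ?_) (Subgroup.zpowers_le.mpr ?_)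
      · obtain ⟨x, hx, rfl⟩ := exists_of_image hr hy
        rw [← hfP x hx]; exact mem_of_image hM (Subgroup.mem_sup_left hx)
      · rw [← hfc]; exact mem_of_image hM hcP
    refine ⟨g', hg'.mono hle, fun y hy => ?_, ?_⟩
    · obtain ⟨x, hx, rfl⟩ := exists_of_image hr hy
      rw [hinv x hx, ← hfP x hx, hg'₁ x (Subgroup.mem_sup_left hx)]
    · conv_lhs => rw [← hfc]
      exact hg'₁ c hcP
  intro Q hQn hQc _ _ f hf _
  obtain ⟨g, hg, hgQ, hgz, hgi⟩ := hasCocycle hS hE hf (tcentric_of_centric hEi hQc)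
  refine ⟨g, hg.mono (sup_le_sup_left (Subgroup.zpowers_le.mpr hcX) Q), hgQ, ?_⟩
  obtain ⟨za, hza⟩ : ∃ z, z = a⁻¹ * g a := ⟨_, rfl⟩
  have hga : g a = a * za := by rw [hza, mul_inv_cancel_left]
  have hgb : g (κ a) = κ a * za := by rw [hza, hgi a ha κ hκ hκT, mul_inv_cancel_left]
  rw [hc, hg.map_mul (Subgroup.inv_mem _ (Subgroup.mem_sup_right ha)) (Subgroup.mem_sup_right hb),
    hg.map_inv (Subgroup.mem_sup_right ha), hga, hgb]
  have h1 := (mem_centralizerIn.mp hcX).2 za (hza ▸ hgz a ha)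
  calc (a * za)⁻¹ * (κ a * za) = za⁻¹ * (c * za) := by rw [hc]; group
    _ = za⁻¹ * (za * c) := by rw [h1]
    _ = c := by group

/-- The focal subgroup of `C_F(T)` lies in `C_S(E)`. -/
theorem focal_le_subsystemCentralizer (hS : IsPGroup p S) (hE : E.IsNormalIn F p)
    (D : FusionSystem (centralizerIn S T)) (hD : F.IsCentralizerSystem T D) :
    D.focalSubgroup ≤ subsystemCentralizer F E := by
  rw [FusionSystem.focalSubgroup, Subgroup.closure_le]
  rintro _ ⟨P, φ, x, hφ, rfl⟩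
  obtain ⟨hφF, hP, hφS, ψ, hψ, hψP, hψT⟩ := (hD P).le hφ
  obtain ⟨κ, hκ, hκe⟩ := mapFn_of_hom hψ
  refine Subgroup.subset_closure ?_
  have hle : T ⊔ Subgroup.zpowers (x : Ω) ≤ P ⊔ T :=
    sup_le le_sup_right (Subgroup.zpowers_le.mpr (Subgroup.mem_sup_left x.2))
  have hκx : κ x = φ x := (hκe ⟨x, Subgroup.mem_sup_left x.2⟩).symm.trans (hψP x)
  show GoodElt F E ((x : Ω)⁻¹ * φ x)
  rw [← hκx]
  exact goodElt_focal hS hE (hκ.mono hle)
    (fun t ht => (hκe ⟨t, Subgroup.mem_sup_right ht⟩).symm.trans (hψT ⟨t, ht⟩)) (hP x.2)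

end CfsgLib.Fusion
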