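import Cfsg.Agent.Lib.Fusion.GroupNormalSub
import Cfsg.Agent.Lib.Fusion.Normal

/-!
# Invariant subsystems and strong invariance
-/

namespace CfsgLib.Fusion

open Cfsg Cfsg.FusionSystem

variable {Ω : Type*} [Group Ω] {S T : Subgroup Ω} {F : FusionSystem S} {E : FusionSystem T} {P Q : Subgroup Ω}

/-- Strong invariance. -/
def IsStronglyInvariant (F : FusionSystem S) (E : FusionSystem T) : Prop :=
  ∀ (P Q : Subgroup Ω) (hPQ : P ≤ Q) (_ : Q ≤ T) (φ : P →* Ω) (_ : φ ∈ E.Hom P) (hφQ : ∀ x : P, φ x ∈ Q)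
    (ψ : Q →* Ω) (_ : ψ ∈ F.Hom Q), ∃ χ ∈ E.Hom ((P.subgroupOf Q).map ψ),
      ∀ (x : P) (hx : ψ (Subgroup.inclusion hPQ x) ∈ (P.subgroupOf Q).map ψ),
        χ ⟨ψ (Subgroup.inclusion hPQ x), hx⟩ = ψ ⟨φ x, hφQ x⟩

theorem stronglyInvariant_of_invariant (hE : E.IsInvariantIn F) : IsStronglyInvariant F E := by
  intro P Q hPQ hQT φ hφ hφQ ψ hψ
  obtain ⟨-, -, hinv, hfrat⟩ := hE
  obtain ⟨α, hα, ψ₀, hψ₀, hψe⟩ := hfrat Q hQT ψ hψ
  obtain ⟨θ, hθ, hθr, hθe⟩ := exists_restrict hψ₀ hPQ rfl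
  obtain ⟨θi, hθi, hθir, hθi₁, -⟩ := exists_inv hθ hθr
  obtain ⟨μ, hμ, hμe⟩ := exists_comp hθi hφ fun y => hθir.le ⟨y, rfl⟩
  obtain ⟨ν, hν, hνe⟩ := exists_comp hμ hψ₀ fun y => by rw [hμe]; exact hφQ _
  obtain ⟨χ, hχ, hχe⟩ := hinv _ (le_S hν) ν hν α hα
  have hle : (P.subgroupOf Q).map ψ ≤
      (((P.subgroupOf Q).map ψ₀).subgroupOf T).map (T.subtype.comp α.toMonoidHom) := by
    rintro _ ⟨x, hx, rfl⟩
    exact ⟨⟨ψ₀ x, apply_mem_S hψ₀ x⟩, ⟨x, hx, rfl⟩, (hψe x _).symm⟩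
  refine ⟨_, restrict_mem hle hχ, fun x hx => ?_⟩
  have h1 : ψ (Subgroup.inclusion hPQ x) = ((α ⟨θ x, apply_mem_S hθ x⟩ : T) : Ω) := by
    rw [hψe _ (apply_mem_S hψ₀ _)]
    congr 2
    exact Subtype.ext (hθe x).symm
  have hmem : θ x ∈ (P.subgroupOf Q).map ψ₀ := hθr.le ⟨x, rfl⟩
  have h2 := hχe ⟨θ x, hmem⟩ (apply_mem_S hν _) (hle (h1 ▸ hx))
  show χ _ = _
  refine Eq.trans (apply_eq_of_coe_eq ?_) (h2.trans ?_)
  · exact h1
  · rw [hψe ⟨φ x, hφQ x⟩ (apply_mem_S hψ₀ _)]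
    congr 2
    refine Subtype.ext ?_
    show ν _ = ψ₀ _
    rw [hνe]
    refine apply_eq_of_coe_eq ?_
    show μ _ = φ x
    rw [hμe]
    exact apply_eq_of_coe_eq (hθi₁ x hmem)

theorem invariance_of_strong (hT : F.StronglyClosed T) (h : IsStronglyInvariant F E) (P : Subgroup Ω)
    (hPT : P ≤ T) (φ : P →* Ω) (hφ : φ ∈ E.Hom P) (α : MulAut T) (hα : α ∈ F.autGroup T) :
    ∃ χ ∈ E.Hom ((P.subgroupOf T).map (T.subtype.comp α.toMonoidHom)),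
      ∀ (x : P) (hφx : φ x ∈ T)
        (hαx : ((α ⟨x, hPT x.2⟩ : T) : Ω) ∈ (P.subgroupOf T).map (T.subtype.comp α.toMonoidHom)),
        χ ⟨(α ⟨x, hPT x.2⟩ : T), hαx⟩ = ((α ⟨φ x, hφx⟩ : T) : Ω) := by
  obtain ⟨χ, hχ, hχe⟩ := h P T hPT le_rfl φ hφ (apply_mem_S hφ) _ ((mem_autGroup hT.1).mp hα)
  exact ⟨χ, hχ, fun x hφx hαx => hχe x hαx⟩

/-- The maps of `F` on subgroups of `T` that factor through `Aut_F(T)` and `E`. -/
def frattiniHom (F : FusionSystem S) (E : FusionSystem T) (P : Subgroup Ω) : Set (P →* Ω) :=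
  {φ | φ ∈ F.Hom P ∧ P ≤ T ∧
    ∃ α ∈ F.autGroup T, ∃ φ₀ ∈ E.Hom P, ∀ (x : P) (hx : φ₀ x ∈ T), φ x = ((α ⟨φ₀ x, hx⟩ : T) : Ω)}

/-- These maps form a system over `T`. -/
def frattiniSystem (hT : F.StronglyClosed T) (h : IsStronglyInvariant F E) : FusionSystem T where
  Hom := frattiniHom F E
  le_of_mem := by
    rintro P φ ⟨-, hP, α, -, φ₀, hφ₀, he⟩
    exact ⟨hP, fun x => by rw [he x (apply_mem_S hφ₀ x)]; exact Subtype.mem _⟩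
  injective_of_mem h := F.injective_of_mem h.1
  conj_mem := fun {P g} hP hg =>
    ⟨F.conj_mem (hP.trans hT.1) (hT.1 hg), hP, 1, Subgroup.one_mem _, _, E.conj_mem hP hg, fun x _ => rfl⟩
  comp_mem := by
    rintro P Q φ ψ ⟨hφ, hP, α, hα, φ₀, hφ₀, hφe⟩ ⟨hψ, hQ, β, hβ, ψ₀, hψ₀, hψe⟩ hm
    obtain ⟨χ, hχ, hχe⟩ := invariance_of_strong hT h Q hQ ψ₀ hψ₀ α⁻¹ (Subgroup.inv_mem _ hα)
    have hval : ∀ x : P, φ₀ x = ((α⁻¹ ⟨φ x, hQ (hm x)⟩ : T) : Ω) := fun x => by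
      have e : (⟨φ x, hQ (hm x)⟩ : T) = α ⟨φ₀ x, apply_mem_S hφ₀ x⟩ := Subtype.ext (hφe x _)
      rw [e, MulAut.inv_apply_self]
    have hmem : ∀ x : P, φ₀ x ∈ (Q.subgroupOf T).map (T.subtype.comp (α⁻¹ : MulAut T).toMonoidHom) :=
      fun x => ⟨⟨φ x, hQ (hm x)⟩, hm x, (hval x).symm⟩
    obtain ⟨μ, hμ, hμe⟩ := exists_comp hφ₀ hχ hmem
    refine ⟨F.comp_mem hφ hψ hm, hP, β * α, Subgroup.mul_mem _ hβ hα, μ, hμ, fun x hx => ?_⟩
    show ψ ⟨φ x, hm x⟩ = _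
    rw [hψe _ (apply_mem_S hψ₀ _), MulAut.mul_apply]
    congr 2
    have h2 : μ x = ((α⁻¹ ⟨ψ₀ ⟨φ x, hm x⟩, apply_mem_S hψ₀ _⟩ : T) : Ω) := by
      rw [hμe, ← hχe ⟨φ x, hm x⟩ (apply_mem_S hψ₀ _) (hval x ▸ hmem x)]
      exact apply_eq_of_coe_eq (hval x)
    have h3 : (⟨μ x, hx⟩ : T) = α⁻¹ ⟨ψ₀ ⟨φ x, hm x⟩, apply_mem_S hψ₀ _⟩ := Subtype.ext h2
    rw [h3, MulAut.apply_inv_self]
  inv_mem := by
    rintro P φ ⟨hφ, hP, α, hα, φ₀, hφ₀, hφe⟩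
    obtain ⟨ψ, hψ, hψe⟩ := F.inv_mem hφ
    obtain ⟨ψ₀, hψ₀, hψ₀e⟩ := E.inv_mem hφ₀
    obtain ⟨χ, hχ, hχe⟩ := invariance_of_strong hT h _ (range_le_S hφ₀) ψ₀ hψ₀ α hα
    have hle : φ.range ≤ (φ₀.range.subgroupOf T).map (T.subtype.comp α.toMonoidHom) := by
      rintro _ ⟨x, rfl⟩
      exact ⟨⟨φ₀ x, apply_mem_S hφ₀ x⟩, ⟨x, rfl⟩, (hφe x _).symm⟩
    refine ⟨ψ, ⟨hψ, ?_, α⁻¹, Subgroup.inv_mem _ hα, _, restrict_mem hle hχ, ?_⟩, hψe⟩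
    · rintro _ ⟨x, rfl⟩
      rw [hφe x (apply_mem_S hφ₀ x)]; exact Subtype.mem _
    · rintro ⟨_, x, rfl⟩ hx
      rw [hψe]
      have hz : φ₀ x ∈ φ₀.range := ⟨x, rfl⟩
      have h1 : (χ.comp (Subgroup.inclusion hle)) ⟨φ x, x, rfl⟩ = ((α ⟨x, hP x.2⟩ : T) : Ω) := by
        refine Eq.trans (apply_eq_of_coe_eq (φ := χ)
          (y := ⟨((α ⟨φ₀ x, apply_mem_S hφ₀ x⟩ : T) : Ω), hφe x (apply_mem_S hφ₀ x) ▸ hle ⟨x, rfl⟩⟩)
          (hφe x (apply_mem_S hφ₀ x))) ?_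
        refine Eq.trans (hχe ⟨φ₀ x, hz⟩ (apply_mem_S hψ₀ _) (hφe x (apply_mem_S hφ₀ x) ▸ hle ⟨x, rfl⟩)) ?_
        congr 2
        exact Subtype.ext (hψ₀e x)
      have h2 : (⟨_, hx⟩ : T) = α ⟨x, hP x.2⟩ := Subtype.ext h1
      rw [h2, MulAut.inv_apply_self]

variable [Finite S] {p : ℕ} [Fact p.Prime]

/-- Strong invariance gives the Frattini condition. -/
theorem frattini_of_strong (hS : IsPGroup p S) (hF : F.IsSaturated p) (hE : E.IsSubsystemOf F)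
    (hT : F.StronglyClosed T) (h : IsStronglyInvariant F E) (hP : P ≤ T) {φ : P →* Ω}
    (hφ : φ ∈ F.Hom P) : φ ∈ frattiniHom F E P := by
  suffices H : ∀ (n : ℕ) (P : Subgroup Ω), Nat.card T - Nat.card P < n → P ≤ T →
      F.Hom P ⊆ (frattiniSystem hT h).Hom P from H _ P (Nat.lt_succ_self _) hP hφ
  intro n
  induction n with
  | zero => intro P hn; omega
  | succ n ih =>
  intro P hn hP φ hφ
  set D := frattiniSystem hT h
  have hPS := hP.trans hT.1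
  have : Finite T := finite_of_le hT.1
  have hφT : ∀ x : P, φ x ∈ T := hT.2 P hP φ hφ
  by_cases hPT : P = T
  · subst hPT
    obtain ⟨α, hα, hαe⟩ := exists_aut hφ (range_eq_of_card_le hφ hT.1 hφT le_rfl)
    exact ⟨hφ, le_rfl, α, hα, _, subtype_mem le_rfl, fun x hx => (hαe x).symm⟩
  have hlt : P < T := lt_of_le_of_ne hP hPT
  obtain ⟨Q, hQc, hQn⟩ := exists_fullyNormalized (F := F) hPS
  obtain ⟨hQa, hQr⟩ := fullyNormalized_good hS hF hQn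
  have hcardQ : Nat.card Q = Nat.card P := IsConj.card_eq hQc
  have hQT : Q ≤ T := by
    obtain ⟨θ, hθ, rfl⟩ := hQc
    rintro _ ⟨x, rfl⟩; exact hT.2 P hP θ hθ x
  have hgrow : ∀ {A B : Subgroup Ω}, B ≤ T → A < B → Nat.card A = Nat.card P → F.Hom B ⊆ D.Hom B := by
    intro A B hB hAB hcard
    refine ih B ?_ hB
    have := finite_of_le (hB.trans hT.1)
    have h1 : Nat.card A < Nat.card B :=
      lt_of_not_ge fun hge => hAB.ne (eq_of_le_of_card_le hAB.le hge)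
    have h2 : Nat.card B ≤ Nat.card T := Subgroup.card_le_of_le hB
    omega
  have hstep : ∀ R : Subgroup Ω, R ≤ T → F.IsConj R Q →
      ∃ θ, θ ∈ D.Hom R ∧ θ ∈ F.Hom R ∧ θ.range = Q := by
    intro R hRT hR
    obtain ⟨χ, hχ, -, hχR⟩ := exists_normalizer_hom hS hQa hQr hR
    have hcardR : Nat.card R = Nat.card P := (IsConj.card_eq hR).symm.trans hcardQ
    have hRlt : R < T := lt_of_le_of_ne hRT fun he => hPT <| eq_of_le_of_card_le hP (by rw [← hcardR, he])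
    have hle : normalizerIn T R ≤ normalizerIn S R := inf_le_inf_right _ hT.1
    have hD := hgrow (normalizerIn_le (S := T)) (lt_normalizerIn hS hT.1 hRlt) hcardR (restrict_mem hle hχ)
    obtain ⟨θ, hθ, hθr, hθe⟩ := exists_restrict hχ ((le_normalizerIn hRT).trans hle) hχR
    exact ⟨θ, restrict_of (le_normalizerIn hRT) hD hθe, hθ, hθr⟩
  have hP'T : φ.range ≤ T := by rintro _ ⟨x, rfl⟩; exact hφT x
  obtain ⟨θ₁, hθ₁D, hθ₁, hθ₁r⟩ := hstep P hP hQc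
  obtain ⟨θ₂, hθ₂D, hθ₂, hθ₂r⟩ := hstep φ.range hP'T (isConj_trans (isConj_symm ⟨φ, hφ, rfl⟩) hQc)
  obtain ⟨θi, hθi, hθir, hθi₁, -⟩ := exists_inv hθ₁ hθ₁r
  obtain ⟨θj, hθjD, hθjr, hθj₁, -⟩ := exists_inv hθ₂D hθ₂r
  obtain ⟨μ, hμ, hμe⟩ := exists_comp hθi hφ fun y => hθir.le ⟨y, rfl⟩
  obtain ⟨ν, hν, hνe⟩ := exists_comp hμ hθ₂ fun y => by rw [hμe]; exact ⟨_, rfl⟩
  obtain ⟨α, hα, hαe⟩ := exists_aut hν (range_eq_of_card_le hν hQn.1 (fun y => by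
    rw [hνe]; exact hθ₂r.le ⟨_, rfl⟩) le_rfl)
  -- `Aut_F(Q)` lies in `D`
  have hαD : α ∈ D.autGroup Q := by
    have := finite_mulAut hQn.1
    obtain ⟨-, R, hR⟩ := hQa
    set N := (E.autGroup Q).subgroupOf (F.autGroup Q)
    haveI : N.Normal := by
      refine ⟨fun a ha b => ?_⟩
      have hbm := (mem_autGroup hQn.1).mp b.2
      have ha' := (mem_autGroup hQT).mp (ha : (a : MulAut Q) ∈ E.autGroup Q)
      obtain ⟨χ, hχ, hχe⟩ := h Q Q le_rfl hQT _ ha' (fun x => Subtype.mem _) _ hbm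
      have hle : Q ≤ (Q.subgroupOf Q).map (Q.subtype.comp (b : MulAut Q).toMonoidHom) := fun y hy =>
        ⟨(b : MulAut Q)⁻¹ ⟨y, hy⟩, Subtype.mem _, by
          show (((b : MulAut Q) ((b : MulAut Q)⁻¹ ⟨y, hy⟩) : Q) : Ω) = y
          rw [MulAut.apply_inv_self]⟩
      refine (mem_autGroup hQT).mpr (restrict_of hle hχ fun y => ?_)
      obtain ⟨x, rfl⟩ := (b : MulAut Q).surjective y
      show (((b : MulAut Q) ((a : MulAut Q) ((b : MulAut Q)⁻¹ ((b : MulAut Q) x))) : Q) : Ω) = _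
      rw [MulAut.inv_apply_self]
      exact (hχe x (hle (Subtype.mem _))).symm
    obtain ⟨k, hk, e, he, hke⟩ := exists_mul_of_normal R N ⟨α, hα⟩
    have hkD : (k : MulAut Q) ∈ D.autGroup Q := by
      obtain ⟨κ, hκ, hκr, hκe⟩ := exists_map_of_mem_autGroup hQn.1 k.2
      have hQlt : Q < T := lt_of_le_of_ne hQT fun he' => hPT <| eq_of_le_of_card_le hP (by rw [← hcardQ, he'])
      have hN : normalizerIn T Q ≤ extender S Q κ := by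
        rintro g ⟨hgT, hgN⟩
        obtain ⟨c, hc, hce⟩ := exists_autInducedBy (K := T) hgT hgN
        have hcE : c ∈ E.autGroup Q := autInducedBy_le_autGroup hQT hc
        have hcS : c ∈ autInducedBy S Q := autInducedBy_mono hT.1 Q hc
        have hm : (⟨c, autInducedBy_le_autGroup hQn.1 hcS⟩ : F.autGroup Q) ∈ R.toSubgroup ⊓ N :=
          ⟨hR.ge hcS, hcE⟩
        obtain ⟨s, hs, hse⟩ := mem_autInducedBy.mp (hR.le ((Subgroup.mem_normalizer_iff.mp hk _).mp hm).1)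
        refine mem_extender.mpr ⟨hT.1 hgT, hgN, s, hs, fun x hx => ?_⟩
        rw [hκe, hκe, ← hse]
        simp [← hce x]
      obtain ⟨ρ, hρ, hρe⟩ := exists_extension hQr hκ hκr (le_normalizerIn hQT) hN
      have hρD := hgrow (normalizerIn_le (S := T)) (lt_normalizerIn hS hT.1 hQlt) hcardQ hρ
      exact (mem_autGroup hQT).mpr (restrict_of (le_normalizerIn hQT) hρD fun x => ((hρe x).trans (hκe x)).symm)
    have heD : (e : MulAut Q) ∈ D.autGroup Q :=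
      (mem_autGroup hQT).mpr ⟨(mem_autGroup hQn.1).mp e.2, hQT, 1, Subgroup.one_mem _, _,
        (mem_autGroup hQT).mp he, fun x hx => rfl⟩
    have hα' : α = (k : MulAut Q) * (e : MulAut Q) := congrArg Subtype.val hke
    exact hα' ▸ Subgroup.mul_mem _ hkD heD
  obtain ⟨φ₁, hφ₁, hφ₁e⟩ := exists_comp hθ₁D ((mem_autGroup hQT).mp hαD) fun x => hθ₁r.le ⟨x, rfl⟩
  refine comp_of hφ₁ hθjD (fun x => by rw [hφ₁e]; exact Subtype.mem _) fun x => ?_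
  have h1 : φ₁ x = θ₂ ⟨φ x, ⟨x, rfl⟩⟩ := by
    rw [hφ₁e, autMap_apply, hαe, hνe]
    refine apply_eq_of_coe_eq ?_
    show μ _ = φ x
    rw [hμe]
    exact apply_eq_of_coe_eq (hθi₁ x _)
  rw [eq_comm]
  exact (apply_eq_of_coe_eq (φ := θj) h1).trans (hθj₁ ⟨φ x, ⟨x, rfl⟩⟩ (hθ₂r.le ⟨_, rfl⟩))

theorem invariant_iff_strong (hS : IsPGroup p S) (hF : F.IsSaturated p) (hE : E.IsSubsystemOf F)
    (hT : F.StronglyClosed T) : E.IsInvariantIn F ↔ IsStronglyInvariant F E :=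
  ⟨stronglyInvariant_of_invariant, fun h => ⟨hE, hT, invariance_of_strong hT h,
    fun _ hP _ hφ => (frattini_of_strong hS hF hE hT h hP hφ).2.2⟩⟩

end CfsgLib.Fusion
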