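import Cfsg.Agent.Lib.Fusion.GroupNormalSub
import Cfsg.Agent.Lib.Fusion.Invariant
import Cfsg.Agent.Lib.Fusion.Centric
import Cfsg.Agent.Lib.Fusion.Normal
import Cfsg.Agent.Lib.PCore.Basic

/-!
# Normal subsystems of a strictly `p`-constrained group come from normal subgroups

Let `Q = O_p(G)` contain its centralizer, let `E` be normal in `F_S(G)` over `T`, and put
`R = Q ⊓ T`. The elements of `G` that induce an element of `Aut_E(R)` on `R` and act trivially on
`Q / R` form a normal subgroup `K`; the subgroup sought is `T ⊔ O^p(K)`.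
-/

namespace CfsgLib.Fusion

open Cfsg Cfsg.FusionSystem
open scoped commutatorElement

/-! ### Generalities -/

section general

variable {Ω : Type*} [Group Ω] {S T : Subgroup Ω} {F : FusionSystem S} {E : FusionSystem T}

/-- In a strongly invariant subsystem every automorphism group is normalized by that of the system. -/
theorem autGroup_conj_mem_of_strong (h : IsStronglyInvariant F E) {P : Subgroup Ω} (hPT : P ≤ T)
    (hTS : T ≤ S) {a b : MulAut P} (ha : a ∈ E.autGroup P) (hb : b ∈ F.autGroup P) :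
    b * a * b⁻¹ ∈ E.autGroup P := by
  obtain ⟨χ, hχ, hχe⟩ := h P P le_rfl hPT _ ((mem_autGroup hPT).mp ha) (fun x => Subtype.mem _) _
    ((mem_autGroup (hPT.trans hTS)).mp hb)
  have hle : P ≤ (P.subgroupOf P).map (P.subtype.comp b.toMonoidHom) := fun y hy =>
    ⟨b⁻¹ ⟨y, hy⟩, Subtype.mem _, by
      show ((b (b⁻¹ ⟨y, hy⟩) : P) : Ω) = y
      rw [MulAut.apply_inv_self]⟩
  refine (mem_autGroup hPT).mpr (restrict_of hle hχ fun y => ?_)
  obtain ⟨x, rfl⟩ := b.surjective y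
  show ((b (a (b⁻¹ (b x))) : P) : Ω) = _
  rw [MulAut.inv_apply_self]
  exact (hχe x (hle (Subtype.mem _))).symm

/-- Two elements of `p'`-order of two normal subgroups differing by an element of `p`-power order. -/
theorem mem_of_pair {W : Type*} [Group W] [Finite W] {p : ℕ} [Fact p.Prime] {N₁ N₂ : Subgroup W}
    [N₁.Normal] [N₂.Normal] {a b : W} (ha : a ∈ N₁) (hb : b ∈ N₂) (hac : (orderOf a).Coprime p)
    (hbc : (orderOf b).Coprime p) {k : ℕ} (hγ : (a⁻¹ * b) ^ p ^ k = 1) : a ∈ N₂ := by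
  have hp : p.Prime := Fact.out
  set π := QuotientGroup.mk' (N₁ ⊓ N₂) with hπdef
  have hcomm : Commute (π a) (π b) := by
    rw [commute_iff_eq, ← map_mul, ← map_mul, hπdef, QuotientGroup.mk'_apply, QuotientGroup.mk'_apply,
      QuotientGroup.eq]
    refine ⟨?_, ?_⟩
    · have h1 := Subgroup.Normal.conj_mem (inferInstance : N₁.Normal) _ (N₁.inv_mem ha) b⁻¹
      have := N₁.mul_mem h1 ha
      simpa [mul_assoc] using this
    · have h1 := Subgroup.Normal.conj_mem (inferInstance : N₂.Normal) _ hb a⁻¹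
      have := N₂.mul_mem (N₂.inv_mem hb) h1
      simpa [mul_assoc] using this
  have h1 : orderOf ((π a)⁻¹ * π b) ∣ Nat.lcm (orderOf a) (orderOf b) := by
    refine hcomm.inv_left.orderOf_mul_dvd_lcm.trans (Nat.lcm_dvd (Dvd.dvd.trans ?_ (Nat.dvd_lcm_left _ _))
      ((orderOf_map_dvd π b).trans (Nat.dvd_lcm_right _ _)))
    rw [orderOf_inv]; exact orderOf_map_dvd π a
  have h2 : orderOf ((π a)⁻¹ * π b) ∣ p ^ k := by
    refine orderOf_dvd_of_pow_eq_one ?_
    rw [← map_inv, ← map_mul, ← map_pow, hγ, map_one]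
  have hcop : (Nat.lcm (orderOf a) (orderOf b)).Coprime (p ^ k) :=
    Nat.Coprime.coprime_dvd_left (Nat.lcm_dvd_mul _ _) ((hac.mul_left hbc).pow_right k)
  have h3 : (π a)⁻¹ * π b = 1 := orderOf_eq_one_iff.mp (Nat.eq_one_of_dvd_coprimes hcop h1 h2)
  rw [← map_inv, ← map_mul, hπdef, QuotientGroup.mk'_apply, QuotientGroup.eq_one_iff] at h3
  have h4 := N₂.mul_mem hb (N₂.inv_mem h3.2)
  simpa using h4

variable [Finite S] {p : ℕ} [Fact p.Prime]

/-- Two subsystems over `T`, invariant in `F`, with a common normal centric subgroup on which their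
automorphisms agree: one is contained in the other. -/
theorem le_of_common_centric (hS : IsPGroup p S) {E₁ E₂ : FusionSystem T} (hTS : T ≤ S)
    (h₁s : E₁.IsSaturated p) (h₂s : E₂.IsSaturated p) (h₁F : E₁.IsSubsystemOf F)
    (h₂F : E₂.IsSubsystemOf F) (h₁i : IsStronglyInvariant F E₁) (h₂i : IsStronglyInvariant F E₂)
    {R : Subgroup Ω} (h₁n : E₁.IsNormal R) (h₂n : E₂.IsNormal R) (h₂c : E₂.IsCentric R)
    (hA : E₁.autGroup R ≤ E₂.autGroup R) : E₁ ≤ E₂ := by
  have := finite_of_le hTS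
  have hST := hS.to_le hTS
  have hp : p.Prime := Fact.out
  refine alperin hST h₁s _ fun P hP => ?_
  obtain ⟨hPT, hRP, hPa⟩ : P ≤ T ∧ R ≤ P ∧ E₁.IsFullyAutomized p P := by
    rcases hP with rfl | hP
    · exact ⟨le_rfl, h₁n.1, ((saturated_iff_top_and_receptive hST).mp h₁s).1⟩
    · exact ⟨hP.1.1, IsNormal.le_centric_radical hST h₁n hP.1 (radical_of_essential hP hST),
        (fullyNormalized_good hST h₁s hP.2.1).1⟩
  have hPS := hPT.trans hTS
  have := finite_mulAut hPS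
  have := finite_of_le hPS
  intro α hα
  obtain ⟨a, haR, g, hg, b, rfl, hb⟩ := FullyAutomized.exists_mul hPa hα
  refine Subgroup.mul_mem _ ?_ ((mem_autGroup hPT).mpr (mem_of_conj hPT hg fun x => hb x))
  suffices hgen : pResidual p (E₁.autGroup P) ≤ (E₂.autGroup P).comap (E₁.autGroup P).subtype from hgen haR
  refine CfsgLib.Transfer.pResidual_le_iff.mpr fun β hβc => ?_
  show (β : MulAut P) ∈ E₂.autGroup P
  obtain ⟨β, hβ⟩ := β
  rw [Subgroup.orderOf_mk] at hβc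
  -- the restriction to `R`
  have hRT : R ≤ T := h₁n.1
  have hβR : ∀ x : P, (x : Ω) ∈ R → ((β x : P) : Ω) ∈ R := fun x hx =>
    StronglyClosed.aut_mem (IsNormal.stronglyClosed h₁n) hPT hβ x hx
  obtain ⟨φ, hφ, hφe⟩ : ∃ φ ∈ E₁.Hom R, ∀ x : R, φ x = ((β ⟨x, hRP x.2⟩ : P) : Ω) :=
    ⟨_, restrict_mem hRP ((mem_autGroup hPT).mp hβ), fun _ => rfl⟩
  obtain ⟨ρ, hρ, hρe⟩ := exists_aut hφ (range_eq_of_card_le hφ hRT (fun x => by
    rw [hφe]; exact hβR _ x.2) le_rfl)
  obtain ⟨φ', hφ', hφ'r, hφ'e⟩ := exists_map_of_mem_autGroup hRT (hA hρ)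
  have hφ'β : ∀ x : R, φ' x = ((β ⟨x, hRP x.2⟩ : P) : Ω) := fun x =>
    (hφ'e x).trans ((hρe x).trans (hφe x))
  have hRn : E₂.IsFullyNormalized R := ⟨hRT, fun W hW => by
    obtain ⟨θ, hθ, rfl⟩ := hW
    rw [range_eq_of_card_le hθ hRT (fun x => (IsNormal.stronglyClosed h₂n).2 R le_rfl θ hθ x) le_rfl]⟩
  have hTN : T ≤ Subgroup.normalizer (R : Set Ω) := StronglyClosed.le_normalizer (IsNormal.stronglyClosed h₂n)
  have hext : P ≤ extender T R φ' := fun x hx => by
    refine mem_extender.mpr ⟨hPT hx, hTN (hPT hx), (β ⟨x, hx⟩ : P), hPT (Subtype.mem _), fun r hr => ?_⟩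
    rw [hφ'β, hφ'β, ← Subgroup.coe_inv, ← Subgroup.coe_mul, ← Subgroup.coe_mul, ← map_inv, ← map_mul,
      ← map_mul]
    congr 2
  obtain ⟨ψ, hψ, hψe⟩ := exists_extension (fullyNormalized_good hST h₂s hRn).2 hφ' hφ'r hRP hext
  have hψR : ∀ x : R, ψ ⟨x, hRP x.2⟩ = ((β ⟨x, hRP x.2⟩ : P) : Ω) := fun x => (hψe x).trans (hφ'β x)
  have hdiff : ∀ x : P, ((β x : P) : Ω)⁻¹ * ψ x ∈ R := by
    intro x
    refine h₂c.2 R (isConj_refl hRT) (mem_centralizerIn.mpr
      ⟨T.mul_mem (T.inv_mem (hPT (Subtype.mem _))) (apply_mem_S hψ x), fun r hr => ?_⟩)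
    obtain ⟨w, hw⟩ := hφ'r.ge hr
    subst hw
    have hm : (x : Ω) * w * (x : Ω)⁻¹ ∈ R :=
      (Subgroup.mem_normalizer_iff.mp (hTN (hPT x.2)) w).mp w.2
    have e1 := hψR ⟨_, hm⟩
    have e2 : ψ ⟨(x : Ω) * w * (x : Ω)⁻¹, hRP hm⟩ = ψ x * ψ ⟨w, hRP w.2⟩ * (ψ x)⁻¹ := by
      rw [← map_inv, ← map_mul, ← map_mul]; rfl
    have e3 : ((β ⟨(x : Ω) * w * (x : Ω)⁻¹, hRP hm⟩ : P) : Ω) =
        ((β x : P) : Ω) * (β ⟨w, hRP w.2⟩ : P) * ((β x : P) : Ω)⁻¹ := by
      refine (congrArg (fun z => ((β z : P) : Ω)) (show (⟨(x : Ω) * w * (x : Ω)⁻¹, hRP hm⟩ : P) =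
        x * ⟨w, hRP w.2⟩ * x⁻¹ from rfl)).trans ?_
      simp
    rw [hφ'β]
    rw [e2, e3, hψR] at e1
    calc ((β ⟨w, hRP w.2⟩ : P) : Ω) * (((β x : P) : Ω)⁻¹ * ψ x)
        = ((β x : P) : Ω)⁻¹ * (((β x : P) : Ω) * (β ⟨w, hRP w.2⟩ : P) * ((β x : P) : Ω)⁻¹) * ψ x := by group
      _ = ((β x : P) : Ω)⁻¹ * (ψ x * (β ⟨w, hRP w.2⟩ : P) * (ψ x)⁻¹) * ψ x := by rw [e1]
      _ = _ := by group
  have hψP : ∀ x : P, ψ x ∈ P := fun x => by
    have := P.mul_mem (β x).2 (hRP (hdiff x))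
    rwa [mul_inv_cancel_left] at this
  obtain ⟨α, hα₂, hαe⟩ := exists_aut hψ (range_eq_of_card_le hψ hPT hψP le_rfl)
  -- powers of `α` agree with those of `β` on `R`
  have hpow : ∀ (m : ℕ) (x : P), (x : Ω) ∈ R → (α ^ m) x = (β ^ m) x ∧ (((β ^ m) x : P) : Ω) ∈ R := by
    intro m
    induction m with
    | zero => intro x hx; exact ⟨rfl, hx⟩
    | succ m ih =>
      intro x hx
      obtain ⟨h1, h2⟩ := ih x hx
      rw [pow_succ', pow_succ', MulAut.mul_apply, MulAut.mul_apply, h1]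
      exact ⟨Subtype.ext ((hαe _).trans (hψR ⟨_, h2⟩)), hβR _ h2⟩
  obtain ⟨n, m, hm, hord⟩ := Nat.exists_eq_pow_mul_and_not_dvd (orderOf_pos α).ne' p hp.ne_one
  obtain ⟨c, hc₁, hc₂⟩ := Nat.chineseRemainder (hβc.pow_right n) 1 0
  obtain ⟨d, rfl⟩ : p ^ n ∣ c := Nat.modEq_zero_iff_dvd.mp hc₂
  have hβpow : β ^ (p ^ n * d) = β := by
    conv_rhs => rw [← pow_one β]
    exact pow_eq_pow_iff_modEq.mpr hc₁
  set α' := α ^ (p ^ n * d)
  have hα'c : (orderOf α').Coprime p := by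
    refine Nat.Coprime.coprime_dvd_left (k := m) ?_ ((hp.coprime_iff_not_dvd).mpr hm).symm
    refine orderOf_dvd_of_pow_eq_one ?_
    rw [← pow_mul, show p ^ n * d * m = p ^ n * m * d by ring, ← hord, pow_mul, pow_orderOf_eq_one, one_pow]
  -- the difference has `p`-power order
  have hfix : ∀ x : P, (x : Ω) ∈ R → (β⁻¹ * α') x = x := fun x hx => by
    rw [MulAut.mul_apply, (hpow _ x hx).1, hβpow, MulAut.inv_apply_self]
  have hPR : (R.subgroupOf P).Normal :=
    ⟨fun r hr x => (Subgroup.mem_normalizer_iff.mp (hTN (hPT x.2)) r).mp hr⟩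
  have hγdiff : ∀ x : P, x⁻¹ * (β⁻¹ * α') x ∈ R.subgroupOf P := by
    intro x
    show ((x⁻¹ * (β⁻¹ * α') x : P) : Ω) ∈ R
    refine h₂c.2 R (isConj_refl hRT) (mem_centralizerIn.mpr ⟨hPT (Subtype.mem _), fun r hr => ?_⟩)
    have h1 : (β⁻¹ * α') (x * ⟨r, hRP hr⟩ * x⁻¹) = x * ⟨r, hRP hr⟩ * x⁻¹ :=
      hfix _ ((Subgroup.mem_normalizer_iff.mp (hTN (hPT x.2)) r).mp hr)
    rw [map_mul, map_mul, map_inv, hfix ⟨r, hRP hr⟩ hr] at h1
    have h2 : (⟨r, hRP hr⟩ : P) * (x⁻¹ * (β⁻¹ * α') x) = x⁻¹ * (β⁻¹ * α') x * ⟨r, hRP hr⟩ := by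
      calc (⟨r, hRP hr⟩ : P) * (x⁻¹ * (β⁻¹ * α') x)
          = x⁻¹ * (x * ⟨r, hRP hr⟩ * x⁻¹) * (β⁻¹ * α') x := by group
        _ = x⁻¹ * ((β⁻¹ * α') x * ⟨r, hRP hr⟩ * ((β⁻¹ * α') x)⁻¹) * (β⁻¹ * α') x := by rw [h1]
        _ = _ := by group
    exact congrArg Subtype.val h2
  obtain ⟨k, hk⟩ := exists_pow_eq_one_of_stabilizes (p := p) (hS.to_le hPS) (n := 1)
    (fun i => if i = 0 then R.subgroupOf P else ⊤) (fun i hi => by simp) (by simp) (α := β⁻¹ * α')
    ⟨0, fun x hx => by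
      rw [pow_zero, pow_one]
      exact hfix x (by simpa [Subgroup.mem_subgroupOf] using hx)⟩
    (fun i hi x _ => by
      obtain rfl : i = 0 := by omega
      simpa using hγdiff x)
  -- conclude in `Aut_F(P)`
  have hβF : β ∈ F.autGroup P := (mem_autGroup hPS).mpr (h₁F P ((mem_autGroup hPT).mp hβ))
  have hα'₂ : α' ∈ E₂.autGroup P := Subgroup.pow_mem _ hα₂ _
  have hα'F : α' ∈ F.autGroup P := (mem_autGroup hPS).mpr (h₂F P ((mem_autGroup hPT).mp hα'₂))
  haveI : ((E₁.autGroup P).subgroupOf (F.autGroup P)).Normal :=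
    ⟨fun u hu v => autGroup_conj_mem_of_strong h₁i hPT hTS hu v.2⟩
  haveI : ((E₂.autGroup P).subgroupOf (F.autGroup P)).Normal :=
    ⟨fun u hu v => autGroup_conj_mem_of_strong h₂i hPT hTS hu v.2⟩
  exact mem_of_pair (p := p) (N₁ := (E₁.autGroup P).subgroupOf (F.autGroup P))
    (N₂ := (E₂.autGroup P).subgroupOf (F.autGroup P))
    (a := ⟨β, hβF⟩) (b := ⟨α', hα'F⟩) hβ hα'₂ (by rw [Subgroup.orderOf_mk]; exact hβc)
    (by rw [Subgroup.orderOf_mk]; exact hα'c) (k := k) (Subtype.ext hk)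

end general

/-! ### The group -/

section group

variable {G : Type*} [Group G] [Finite G] {p : ℕ} [Fact p.Prime]

/-- The elements fixing `R` pointwise and acting trivially on `O_p(G) / R`. -/
theorem mem_pCore_of_stabilizes (hG : Subgroup.centralizer ((pCore p G : Subgroup G) : Set G) ≤ pCore p G)
    {R : Subgroup G} [hRn : R.Normal] (hRQ : R ≤ pCore p G) {x : G} (h₁ : ∀ r ∈ R, x * r * x⁻¹ = r)
    (h₂ : ∀ q ∈ pCore p G, x * q * x⁻¹ * q⁻¹ ∈ R) : x ∈ pCore p G := by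
  have hQn : (pCore p G).Normal := Subgroup.sSup_normal _ fun _ h => h.1
  have hQp : IsPGroup p (pCore p G) := CfsgLib.PCore.pCore_isPGroup
  let K₀ : Subgroup G :=
    { carrier := {x | (∀ r ∈ R, x * r * x⁻¹ = r) ∧ ∀ q ∈ pCore p G, x * q * x⁻¹ * q⁻¹ ∈ R}
      one_mem' := ⟨fun r _ => by simp, fun q _ => by simp [R.one_mem]⟩
      mul_mem' := by
        rintro a b ⟨ha₁, ha₂⟩ ⟨hb₁, hb₂⟩
        refine ⟨fun r hr => ?_, fun q hq => ?_⟩
        · calc a * b * r * (a * b)⁻¹ = a * (b * r * b⁻¹) * a⁻¹ := by group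
            _ = r := by rw [hb₁ r hr, ha₁ r hr]
        · have := R.mul_mem (hRn.conj_mem _ (hb₂ q hq) a) (ha₂ q hq)
          have e : a * (b * q * b⁻¹ * q⁻¹) * a⁻¹ * (a * q * a⁻¹ * q⁻¹) = a * b * q * (a * b)⁻¹ * q⁻¹ := by
            group
          exact e ▸ this
      inv_mem' := by
        rintro a ⟨ha₁, ha₂⟩
        refine ⟨fun r hr => ?_, fun q hq => ?_⟩
        · conv_lhs => rw [← ha₁ r hr]
          group
        · have := hRn.conj_mem _ (R.inv_mem (ha₂ q hq)) a⁻¹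
          have e : a⁻¹ * (a * q * a⁻¹ * q⁻¹)⁻¹ * a⁻¹⁻¹ = a⁻¹ * q * a⁻¹⁻¹ * q⁻¹ := by group
          exact e ▸ this }
  have hn : K₀.Normal := by
    refine ⟨fun a ⟨ha₁, ha₂⟩ g => ⟨fun r hr => ?_, fun q hq => ?_⟩⟩
    · have h := ha₁ _ (hRn.conj_mem r hr g⁻¹)
      calc g * a * g⁻¹ * r * (g * a * g⁻¹)⁻¹ = g * (a * (g⁻¹ * r * g⁻¹⁻¹) * a⁻¹) * g⁻¹ := by group
        _ = r := by rw [h]; group
    · have h := hRn.conj_mem _ (ha₂ _ (hQn.conj_mem q hq g⁻¹)) g
      have e : g * (a * (g⁻¹ * q * g⁻¹⁻¹) * a⁻¹ * (g⁻¹ * q * g⁻¹⁻¹)⁻¹) * g⁻¹ =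
          g * a * g⁻¹ * q * (g * a * g⁻¹)⁻¹ * q⁻¹ := by group
      exact e ▸ h
  have hp : IsPGroup p K₀ := by
    rintro ⟨a, ha₁, ha₂⟩
    obtain ⟨k, hk⟩ := exists_pow_eq_one_of_stabilizes (p := p) hQp (n := 1)
      (fun i => if i = 0 then R.subgroupOf (pCore p G) else ⊤) (fun i hi => by simp) (by simp)
      (α := MulAut.conjNormal a)
      ⟨0, fun x hx => by
        rw [pow_zero, pow_one]
        exact Subtype.ext ((MulAut.conjNormal_apply _ _).trans (ha₁ _ (by simpa [Subgroup.mem_subgroupOf] using hx)))⟩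
      (fun i hi x _ => by
        obtain rfl : i = 0 := by omega
        have h := hRn.conj_mem _ (ha₂ _ x.2) ((x : G)⁻¹)
        simp only [if_true, Subgroup.mem_subgroupOf, Subgroup.coe_mul, Subgroup.coe_inv,
          MulAut.conjNormal_apply]
        have e : (x : G)⁻¹ * (a * (x : G) * a⁻¹ * (x : G)⁻¹) * (x : G)⁻¹⁻¹ =
            (x : G)⁻¹ * (a * (x : G) * a⁻¹) := by group
        exact e ▸ h)
    have hc : a ^ p ^ k ∈ Subgroup.centralizer ((pCore p G : Subgroup G) : Set G) := by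
      intro q hq
      have h := congrArg (fun f : MulAut (pCore p G) => ((f ⟨q, hq⟩ : pCore p G) : G)) hk
      simp only [MulAut.one_apply, ← map_pow, MulAut.conjNormal_apply] at h
      exact (mul_inv_eq_iff_eq_mul.mp h).symm
    obtain ⟨l, hl⟩ := hQp ⟨_, hG hc⟩
    refine ⟨k + l, Subtype.ext ?_⟩
    have := congrArg Subtype.val hl
    simpa [pow_add, pow_mul] using this
  exact CfsgLib.PCore.le_pCore hn hp (⟨h₁, h₂⟩ : x ∈ K₀)

variable (S : Sylow p G) {T : Subgroup G} {R : Subgroup G}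

/-- `O_p(G) ⊓ T` is normal for `T` strongly closed. -/
theorem normal_pCore_inf (hT : (groupFusionSystem (S : Subgroup G)).StronglyClosed T) :
    (pCore p G ⊓ T).Normal := by
  have hQn : (pCore p G).Normal := Subgroup.sSup_normal _ fun _ h => h.1
  refine ⟨fun x hx g => ⟨hQn.conj_mem x hx.1 g, ?_⟩⟩
  exact hT.2 (pCore p G ⊓ T) inf_le_right (conjHom _ g)
    (group_conjHom_mem (inf_le_right.trans hT.1)
      fun y hy => CfsgLib.PCore.pCore_le_sylow S (hQn.conj_mem y hy.1 g)) ⟨x, hx⟩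

/-- A normal subgroup of `G` inside `T` is normal in every saturated subsystem over `T`. -/
theorem isNormal_in_subsystem {E : FusionSystem T} (hEs : E.IsSaturated p)
    (hE : E.IsSubsystemOf (groupFusionSystem (S : Subgroup G))) (hTS : T ≤ S) [hRn : R.Normal]
    (hRT : R ≤ T) : E.IsNormal R := by
  have hTp : IsPGroup p T := S.2.to_le hTS
  refine (isNormal_iff_stronglyClosed_le hTp hEs).mpr ⟨⟨hRT, fun W hW φ hφ x => ?_⟩, fun P hc hr => ?_⟩
  · obtain ⟨-, -, g, hg⟩ := hE W hφ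
    rw [hg]; exact hRn.conj_mem _ (hW x.2) g
  refine le_of_centric_radical hTp hc hr hRT
    (fun g _ => mem_normalizer_of_forall fun y hy => hRn.conj_mem y hy g)
    (A := autInducedBy R P) ((autInducedBy_mono hRT P).trans (autInducedBy_le_autGroup hc.1))
    (isPGroup_autInducedBy (hTp.to_le hRT) P) ?_ fun q hq a ha => mem_autInducedBy.mpr ⟨q, hq, ha⟩
  intro a ha b hb
  obtain ⟨q, hq, hqe⟩ := mem_autInducedBy.mp ha
  obtain ⟨-, -, g, hg⟩ := hE P ((mem_autGroup hc.1).mp hb)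
  refine mem_autInducedBy.mpr ⟨_, hRn.conj_mem q hq g, fun y => ?_⟩
  obtain ⟨w, rfl⟩ := b.surjective y
  show ((b (a (b⁻¹ (b w))) : P) : G) = _
  rw [MulAut.inv_apply_self, ← autMap_apply b, ← autMap_apply b w, hg, hg, hqe]
  group

/-- `C_T(O_p(G) ⊓ T)` lies in `O_p(G) ⊓ T`. -/
theorem isCentric_in_subsystem (hG : Subgroup.centralizer ((pCore p G : Subgroup G) : Set G) ≤ pCore p G)
    (hT : (groupFusionSystem (S : Subgroup G)).StronglyClosed T) {E : FusionSystem T}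
    (hE : E.IsSubsystemOf (groupFusionSystem (S : Subgroup G))) : E.IsCentric (pCore p G ⊓ T) := by
  have hRn := normal_pCore_inf S hT
  have hQn : (pCore p G).Normal := Subgroup.sSup_normal _ fun _ h => h.1
  refine ⟨inf_le_right, fun W hW => ?_⟩
  obtain ⟨φ, hφ, rfl⟩ := hW
  obtain ⟨-, -, g, hg⟩ := hE _ hφ
  have hr : φ.range = pCore p G ⊓ T := by
    rw [range_of_conj hg]
    refine le_antisymm ?_ fun y hy => ⟨g⁻¹ * y * g, ?_, by simp [mul_assoc]⟩
    · rintro _ ⟨y, hy, rfl⟩; exact hRn.conj_mem y hy g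
    · simpa using hRn.conj_mem y hy g⁻¹
  rw [hr]
  rintro c hc
  obtain ⟨hcT, hcC⟩ := mem_centralizerIn'.mp hc
  refine ⟨mem_pCore_of_stabilizes hG inf_le_left (fun r hr => hcC ⟨r, hr⟩) fun q hq => ⟨?_, ?_⟩, hcT⟩
  · exact Subgroup.mul_mem _ (hQn.conj_mem q hq c) (Subgroup.inv_mem _ hq)
  · have := T.mul_mem hcT (conj_mem_of_normalizer' hT hq hcT)
    simpa [mul_assoc] using this
where
  conj_mem_of_normalizer' (hT : (groupFusionSystem (S : Subgroup G)).StronglyClosed T) {q c : G}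
      (hq : q ∈ pCore p G) (hc : c ∈ T) : q * c⁻¹ * q⁻¹ ∈ T :=
    (Subgroup.mem_normalizer_iff.mp (StronglyClosed.le_normalizer hT (CfsgLib.PCore.pCore_le_sylow S hq)) _).mp
      (T.inv_mem hc)

/-- The group `K`. -/
def inducingGroup (Q : Subgroup G) (R : Subgroup G) [hR : R.Normal] (A : Subgroup (MulAut R)) : Subgroup G :=
  (A.comap (MulAut.conjNormal (H := R))) ⊓
    { carrier := {x | ∀ q ∈ Q, x * q * x⁻¹ * q⁻¹ ∈ R}
      one_mem' := fun q _ => by simp [R.one_mem]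
      mul_mem' := fun {a b} ha hb q hq => by
        have := R.mul_mem (hR.conj_mem _ (hb q hq) a) (ha q hq)
        have e : a * (b * q * b⁻¹ * q⁻¹) * a⁻¹ * (a * q * a⁻¹ * q⁻¹) = a * b * q * (a * b)⁻¹ * q⁻¹ := by
          group
        exact e ▸ this
      inv_mem' := fun {a} ha q hq => by
        have := hR.conj_mem _ (R.inv_mem (ha q hq)) a⁻¹
        have e : a⁻¹ * (a * q * a⁻¹ * q⁻¹)⁻¹ * a⁻¹⁻¹ = a⁻¹ * q * a⁻¹⁻¹ * q⁻¹ := by group
        exact e ▸ this }

theorem mem_inducingGroup {Q R : Subgroup G} [R.Normal] {A : Subgroup (MulAut R)} {x : G} :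
    x ∈ inducingGroup Q R A ↔ MulAut.conjNormal x ∈ A ∧ ∀ q ∈ Q, x * q * x⁻¹ * q⁻¹ ∈ R := Iff.rfl

/-- A `p`-element modulo `R` moved by an element `y` of order prime to `p` into a coset fixed by it. -/
theorem mem_of_coprime_moving {R : Subgroup G} [R.Normal] {y q d : G} (hy : (orderOf y).Coprime p)
    (hd : y * q * y⁻¹ = q * d) (hdR : y * d * y⁻¹ * d⁻¹ ∈ R) {k : ℕ} (hdp : d ^ p ^ k = 1) : d ∈ R := by
  set π := QuotientGroup.mk' R
  have hyd : Commute (π y) (π d) := by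
    have h1 : π (y * d * y⁻¹ * d⁻¹) = 1 := (QuotientGroup.eq_one_iff _).mpr hdR
    rw [map_mul, map_mul, map_mul, map_inv, map_inv, mul_inv_eq_one, mul_inv_eq_iff_eq_mul] at h1
    exact h1
  have key : ∀ m : ℕ, π y ^ m * π q = π q * π d ^ m * π y ^ m := by
    intro m
    induction m with
    | zero => simp
    | succ m ih =>
      have h1 : π y * π q = π q * π d * π y := by
        rw [← map_mul, ← map_mul, ← map_mul, ← hd, inv_mul_cancel_right]
      rw [pow_succ', mul_assoc, ih, ← mul_assoc, ← mul_assoc, h1, mul_assoc (π q * π d),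
        (hyd.pow_right m).eq, pow_succ' (π d)]
      simp only [mul_assoc]
  have h2 := key (orderOf y)
  rw [← map_pow, pow_orderOf_eq_one, map_one, one_mul, mul_one] at h2
  have h3 : orderOf (π d) ∣ orderOf y := orderOf_dvd_of_pow_eq_one (mul_eq_left.mp h2.symm)
  have h4 : orderOf (π d) ∣ p ^ k := orderOf_dvd_of_pow_eq_one (by rw [← map_pow, hdp, map_one])
  exact (QuotientGroup.eq_one_iff d).mp
    (orderOf_eq_one_iff.mp (Nat.eq_one_of_dvd_coprimes (hy.pow_right k) h3 h4))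

/-- The defining property of the subgroup sought. -/
def IsSubgroupFor (T : Subgroup G) (E : FusionSystem T) (H : Subgroup G) : Prop :=
  ∃ hTH : T ≤ H, H.Normal ∧ (∃ U : Sylow p H, (U : Subgroup H) = T.subgroupOf H) ∧
    ∀ P : Subgroup G, E.Hom P = (fusionSystemOfSubgroup H T hTH).Hom P

theorem exists_subgroup_of_normal
    (hG : Subgroup.centralizer ((pCore p G : Subgroup G) : Set G) ≤ pCore p G) (hTS : T ≤ S)
    (E : FusionSystem T) (hE : E.IsNormalIn (groupFusionSystem (S : Subgroup G)) p) :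
    ∃ H : Subgroup G, IsSubgroupFor (p := p) T E H ∧
      ∀ H' : Subgroup G, IsSubgroupFor (p := p) T E H' → H' = H := by
  have hp : p.Prime := Fact.out
  obtain ⟨hwn, hext⟩ := hE
  obtain ⟨hEs, hFs, hinv⟩ := hwn
  have hTsc := hinv.2.1
  have hEF := hinv.1
  have hstrong := stronglyInvariant_of_invariant hinv
  set F := groupFusionSystem (S : Subgroup G) with hF
  set Q := pCore p G with hQdef
  have hQn : Q.Normal := Subgroup.sSup_normal _ fun _ h => h.1
  have hQS : Q ≤ S := CfsgLib.PCore.pCore_le_sylow S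
  have hQp : IsPGroup p Q := S.2.to_le hQS
  have hTp : IsPGroup p T := S.2.to_le hTS
  have hSN : (S : Subgroup G) ≤ Subgroup.normalizer (T : Set G) := StronglyClosed.le_normalizer hTsc
  set R := Q ⊓ T with hRdef
  haveI hRn : R.Normal := normal_pCore_inf S hTsc
  have hRT : R ≤ T := inf_le_right
  have hEn : E.IsNormal R := isNormal_in_subsystem S hEs hEF hTS hRT
  have hEc : E.IsCentric R := isCentric_in_subsystem S hG hTsc hEF
  set A := E.autGroup R with hA
  have hautF : ∀ (P : Subgroup G), P ≤ S → ∀ a : MulAut P, a ∈ F.autGroup P ↔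
      ∃ g : G, ∀ x : P, ((a x : P) : G) = g * (x : G) * g⁻¹ := fun P hP a => by
    rw [hF, autGroup_group hP, mem_autInducedBy]; simp
  have hEA : ∀ (P : Subgroup G), P ≤ T → ∀ a ∈ E.autGroup P, a ∈ F.autGroup P := fun P hP a ha =>
    (mem_autGroup (hP.trans hTS)).mpr (hEF P ((mem_autGroup hP).mp ha))
  set K := inducingGroup Q R A with hK
  have hKn : K.Normal := by
    refine ⟨fun x hx g => ?_⟩
    obtain ⟨hx₁, hx₂⟩ := mem_inducingGroup.mp hx
    refine mem_inducingGroup.mpr ⟨?_, fun q hq => ?_⟩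
    · rw [map_mul, map_mul, map_inv]
      exact autGroup_conj_mem_of_strong hstrong hRT hTS hx₁
        ((hautF R (hRT.trans hTS) _).mpr ⟨g, fun x => MulAut.conjNormal_apply _ _⟩)
    · have h := hRn.conj_mem _ (hx₂ _ (hQn.conj_mem q hq g⁻¹)) g
      have e : g * (x * (g⁻¹ * q * g⁻¹⁻¹) * x⁻¹ * (g⁻¹ * q * g⁻¹⁻¹)⁻¹) * g⁻¹ =
          g * x * g⁻¹ * q * (g * x * g⁻¹)⁻¹ * q⁻¹ := by group
      exact e ▸ h
  have hTK : T ≤ K := fun t ht => mem_inducingGroup.mpr ⟨(mem_autGroup hRT).mpr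
      (mem_of_conj hRT ht fun x => MulAut.conjNormal_apply _ _), fun q hq => by
    refine ⟨Q.mul_mem (hQn.conj_mem q hq t) (Q.inv_mem hq), ?_⟩
    have := T.mul_mem ht ((Subgroup.mem_normalizer_iff.mp (hSN (hQS hq)) _).mp (T.inv_mem ht))
    simpa [mul_assoc] using this⟩
  -- every automorphism of `R` in `E` is induced by an element of `K`
  have hsurj : ∀ α ∈ A, ∃ x ∈ K, MulAut.conjNormal x = α := by
    have hst := (saturated_iff_top_and_receptive hTp).mp hEs
    have := finite_mulAut hTS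
    -- `Aut_S(T) ∩ Aut_E(T) = Inn(T)`
    have hinn : ∀ a ∈ autInducedBy (S : Subgroup G) T, a ∈ E.autGroup T → a ∈ Inn T := by
      intro a ha haE
      obtain ⟨-, U, hU⟩ := hst.1
      have hX : IsPGroup p ((autInducedBy (S : Subgroup G) T).subgroupOf (E.autGroup T)) :=
        (isPGroup_autInducedBy S.2 T).comap_subtype
      have h1 : (U : Subgroup (E.autGroup T)) ≤ (autInducedBy (S : Subgroup G) T).subgroupOf (E.autGroup T) :=
        fun u hu => autInducedBy_mono hTS T (hU.le hu)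
      have h2 := U.3 hX h1
      rw [← autInducedBy_self]
      exact hU.le (h2.le (show (⟨a, haE⟩ : E.autGroup T) ∈ _ from ha))
    -- restrictions of `Aut_E(T)`
    have hres : ∀ α ∈ E.autGroup T, ∃ x ∈ K, ∀ r : R, x * (r : G) * x⁻¹ = ((α ⟨r, hRT r.2⟩ : T) : G) := by
      intro α hα
      let I : Subgroup (MulAut T) :=
        { carrier := {α | ∃ x ∈ K, ∀ r : R, x * (r : G) * x⁻¹ = ((α ⟨r, hRT r.2⟩ : T) : G)}
          one_mem' := ⟨1, K.one_mem, fun r => by simp⟩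
          mul_mem' := by
            rintro a b ⟨x, hx, hxe⟩ ⟨y, hy, hye⟩
            refine ⟨x * y, K.mul_mem hx hy, fun r => ?_⟩
            have hr : ((b ⟨r, hRT r.2⟩ : T) : G) ∈ R := by rw [← hye]; exact hRn.conj_mem _ r.2 y
            calc x * y * (r : G) * (x * y)⁻¹ = x * (y * r * y⁻¹) * x⁻¹ := by group
              _ = ((a (b ⟨r, hRT r.2⟩) : T) : G) := by rw [hye]; exact hxe ⟨_, hr⟩
          inv_mem' := by
            rintro a ⟨x, hx, hxe⟩
            refine ⟨x⁻¹, K.inv_mem hx, fun r => ?_⟩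
            have h := hxe ⟨_, hRn.conj_mem _ r.2 x⁻¹⟩
            have e : x * (x⁻¹ * (r : G) * x⁻¹⁻¹) * x⁻¹ = r := by group
            rw [e] at h
            have h2 : a⁻¹ ⟨r, hRT r.2⟩ = ⟨x⁻¹ * (r : G) * x⁻¹⁻¹, hRT (hRn.conj_mem _ r.2 x⁻¹)⟩ := by
              rw [MulAut.inv_apply, MulEquiv.symm_apply_eq]
              exact Subtype.ext h
            rw [h2] }
      suffices hle : E.autGroup T ≤ I from hle hα
      intro α hα
      obtain ⟨a, haR, t, ht, b, rfl, hb⟩ := FullyAutomized.exists_mul hst.1 hα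
      refine Subgroup.mul_mem _ ?_ ⟨t, hTK ht, fun r => (hb ⟨r, hRT r.2⟩).symm⟩
      suffices hgen : pResidual p (E.autGroup T) ≤ I.comap (E.autGroup T).subtype from hgen haR
      refine CfsgLib.Transfer.pResidual_le_iff.mpr fun β hβc => ?_
      obtain ⟨β', hβ', hβT, hβC⟩ := hext β β.2
      obtain ⟨y, hy⟩ := (hautF _ (sup_le hTS centralizerIn_le) β').mp hβ'
      have hyT : ∀ x : T, y * (x : G) * y⁻¹ = (((β : MulAut T) x : T) : G) := fun x => by
        rw [← hβT, hy]; rfl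
      have hyN : y ∈ Subgroup.normalizer (T : Set G) := mem_normalizer_of_forall fun x hx => by
        rw [hyT ⟨x, hx⟩]; exact Subtype.mem _
      have hypow : ∀ m : ℕ, (∀ x : T, y ^ m * (x : G) * (y ^ m)⁻¹ = ((((β : MulAut T) ^ m) x : T) : G)) ∧
          ∀ c ∈ centralizerIn (S : Subgroup G) T, ∃ z ∈ T, y ^ m * c * (y ^ m)⁻¹ = c * z := by
        intro m
        induction m with
        | zero => exact ⟨fun x => by simp, fun c _ => ⟨1, T.one_mem, by simp⟩⟩
        | succ m ih =>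
          refine ⟨fun x => ?_, fun c hc => ?_⟩
          · rw [pow_succ', pow_succ', MulAut.mul_apply, ← hyT, ← ih.1]; group
          · obtain ⟨z, hz, hze⟩ := ih.2 c hc
            have h1 := hβC ⟨c, Subgroup.mem_sup_right hc⟩ hc
            rw [hy] at h1
            refine ⟨c⁻¹ * (y * c * y⁻¹) * (y * z * y⁻¹),
              T.mul_mem h1.1 ((Subgroup.mem_normalizer_iff.mp hyN z).mp hz), ?_⟩
            calc y ^ (m + 1) * c * (y ^ (m + 1))⁻¹ = y * (y ^ m * c * (y ^ m)⁻¹) * y⁻¹ := by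
                  rw [pow_succ']; group
              _ = y * (c * z) * y⁻¹ := by rw [hze]
              _ = _ := by group
      -- make the order prime to `p`
      obtain ⟨n, m, hm, hord⟩ := Nat.exists_eq_pow_mul_and_not_dvd (orderOf_pos y).ne' p hp.ne_one
      rw [← Subgroup.orderOf_coe] at hβc
      obtain ⟨c, hc₁, hc₂⟩ := Nat.chineseRemainder (hβc.pow_right n) 1 0
      obtain ⟨d, rfl⟩ : p ^ n ∣ c := Nat.modEq_zero_iff_dvd.mp hc₂
      have hβpow : (β : MulAut T) ^ (p ^ n * d) = β := by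
        conv_rhs => rw [← pow_one (β : MulAut T)]
        exact pow_eq_pow_iff_modEq.mpr hc₁
      set z := y ^ (p ^ n * d) with hzdef
      have hzc : (orderOf z).Coprime p := by
        refine Nat.Coprime.coprime_dvd_left (k := m) ?_ ((hp.coprime_iff_not_dvd).mpr hm).symm
        refine orderOf_dvd_of_pow_eq_one ?_
        rw [hzdef, ← pow_mul, show p ^ n * d * m = p ^ n * m * d by ring, ← hord, pow_mul,
          pow_orderOf_eq_one, one_pow]
      obtain ⟨hzT, hzC⟩ := hypow (p ^ n * d)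
      rw [hβpow] at hzT
      refine ⟨z, mem_inducingGroup.mpr ⟨?_, fun q hq => ?_⟩, fun r => hzT ⟨r, hRT r.2⟩⟩
      · exact (mem_autGroup hRT).mpr (restrict_of hRT ((mem_autGroup le_rfl).mp β.2)
          fun r => (MulAut.conjNormal_apply _ _).trans (hzT ⟨r, hRT r.2⟩))
      set d := q⁻¹ * (z * q * z⁻¹) with hddef
      have hdQ : d ∈ Q := Q.mul_mem (Q.inv_mem hq) (hQn.conj_mem q hq z)
      have hqN : q ∈ Subgroup.normalizer (T : Set G) := hSN (hQS hq)
      have hzN : z ∈ Subgroup.normalizer (T : Set G) := Subgroup.pow_mem _ hyN _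
      obtain ⟨cq, hcq, hcqe⟩ := exists_autInducedBy (P := T) (hQS (Q.inv_mem hq))
        (Subgroup.inv_mem _ hqN)
      obtain ⟨cd, hcd, hcde⟩ := exists_autInducedBy (P := T) (hQS hdQ) (hSN (hQS hdQ))
      have hcdE : cd ∈ E.autGroup T := by
        have h1 := autGroup_conj_mem_of_strong hstrong le_rfl hTS β.2 (autInducedBy_le_autGroup hTS hcq)
        have h2 : cd = cq * (β : MulAut T) * cq⁻¹ * (β : MulAut T)⁻¹ := by
          rw [eq_mul_inv_iff_mul_eq, eq_mul_inv_iff_mul_eq]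
          refine MulEquiv.ext fun x => Subtype.ext ?_
          simp only [MulAut.mul_apply]
          rw [hcde, ← hzT, hcqe, hcqe, ← hzT, hddef]
          simp only [hzdef]
          group
        rw [h2]; exact Subgroup.mul_mem _ h1 (Subgroup.inv_mem _ β.2)
      obtain ⟨t, hte⟩ := mem_inn.mp (hinn cd hcd hcdE)
      have hdC : (t : G)⁻¹ * d ∈ centralizerIn (S : Subgroup G) T := mem_centralizerIn'.mpr
        ⟨(S : Subgroup G).mul_mem (hTS (T.inv_mem t.2)) (hQS hdQ), fun x => by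
          have h1 := hcde x
          rw [hte] at h1
          simp only [Subgroup.coe_mul, Subgroup.coe_inv] at h1
          calc (t : G)⁻¹ * d * (x : G) * ((t : G)⁻¹ * d)⁻¹ = (t : G)⁻¹ * (d * x * d⁻¹) * t := by group
            _ = x := by rw [← h1]; group⟩
      obtain ⟨w, hw, hwe⟩ := hzC _ hdC
      have hzdR : z * d * z⁻¹ * d⁻¹ ∈ R := by
        refine ⟨Q.mul_mem (hQn.conj_mem d hdQ z) (Q.inv_mem hdQ), ?_⟩
        have e : z * d * z⁻¹ * d⁻¹ =
            (z * (t : G) * z⁻¹ * (t : G)⁻¹) * ((t : G) * ((t : G)⁻¹ * d) * w * ((t : G)⁻¹ * d)⁻¹ * (t : G)⁻¹) := by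
          calc z * d * z⁻¹ * d⁻¹ = z * (t : G) * z⁻¹ * (z * ((t : G)⁻¹ * d) * z⁻¹) * d⁻¹ := by group
            _ = z * (t : G) * z⁻¹ * ((t : G)⁻¹ * d * w) * d⁻¹ := by rw [hwe]
            _ = _ := by group
        rw [e]
        refine T.mul_mem (T.mul_mem (by rw [hzT]; exact Subtype.mem _) (T.inv_mem t.2)) ?_
        have h5 := (Subgroup.mem_normalizer_iff.mp (Subgroup.mul_mem _ (Subgroup.le_normalizer t.2)
          (hSN hdC.1)) w).mp hw
        simpa [mul_assoc] using h5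
      obtain ⟨k, hk⟩ := hQp ⟨d, hdQ⟩
      have h6 := mem_of_coprime_moving hzc (show z * q * z⁻¹ = q * d by rw [hddef]; group) hzdR
        (congrArg Subtype.val hk)
      have h7 := hRn.conj_mem d h6 q
      rw [hddef] at h7
      simpa [mul_assoc] using h7
    -- Frattini argument in `Aut_E(R)`
    intro α hα
    have hRfn : E.IsFullyNormalized R := ⟨hRT, fun W hW => by
      obtain ⟨θ, hθ, rfl⟩ := hW
      rw [range_eq_of_card_le hθ hRT (fun x => (IsNormal.stronglyClosed hEn).2 R le_rfl θ hθ x) le_rfl]⟩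
    obtain ⟨hRa, hRr⟩ := fullyNormalized_good hTp hEs hRfn
    have := finite_mulAut (hRT.trans hTS)
    obtain ⟨-, U, hU⟩ := hRa
    set I := (K.map (MulAut.conjNormal (H := R))).subgroupOf A with hI
    haveI : I.Normal := by
      refine ⟨fun a ha b => ?_⟩
      obtain ⟨x, hx, hxe⟩ := ha
      obtain ⟨g, hg⟩ := (hautF R (hRT.trans hTS) _).mp (hEA R hRT _ b.2)
      have hbg : (b : MulAut R) = MulAut.conjNormal g :=
        MulEquiv.ext fun r => Subtype.ext ((hg r).trans (MulAut.conjNormal_apply _ _).symm)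
      refine ⟨g * x * g⁻¹, hKn.conj_mem x hx g, ?_⟩
      show MulAut.conjNormal (g * x * g⁻¹) = (b : MulAut R) * (a : MulAut R) * (b : MulAut R)⁻¹
      rw [map_mul, map_mul, map_inv, ← hbg]
      exact congrArg (fun e => (b : MulAut R) * e * (b : MulAut R)⁻¹) hxe
    have hUI : (U : Subgroup A) ≤ I := fun u hu => by
      obtain ⟨t, ht, hte⟩ := mem_autInducedBy.mp (hU.le hu)
      exact ⟨t, hTK ht, MulEquiv.ext fun r => Subtype.ext ((MulAut.conjNormal_apply _ _).trans (hte r).symm)⟩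
    obtain ⟨k, hk, i, hi, hki⟩ := exists_mul_of_normal U I ⟨α, hα⟩
    rw [inf_eq_left.mpr hUI] at hk
    obtain ⟨κ, hκ, hκr, hκe⟩ := exists_map_of_mem_autGroup hRT k.2
    have hTN : T ≤ Subgroup.normalizer (R : Set G) := fun t _ =>
      mem_normalizer_of_forall fun x hx => hRn.conj_mem x hx t
    have hextT : T ≤ extender T R κ := fun g hg => by
      obtain ⟨c, hc, hce⟩ := exists_autInducedBy (K := T) hg (hTN hg)
      have hm : (⟨c, autInducedBy_le_autGroup hRT hc⟩ : A) ∈ (U : Subgroup A) := hU.ge hc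
      obtain ⟨s, hs, hse⟩ := mem_autInducedBy.mp (hU.le ((Subgroup.mem_normalizer_iff.mp hk _).mp hm))
      refine mem_extender.mpr ⟨hg, hTN hg, s, hs, fun x hx => ?_⟩
      rw [hκe, hκe, ← hse]
      simp [← hce x]
    obtain ⟨ψ, hψ, hψe⟩ := exists_extension hRr hκ hκr hRT hextT
    obtain ⟨γ, hγ, hγe⟩ := exists_aut hψ (range_eq_of_card_le hψ le_rfl (apply_mem_S hψ) le_rfl)
    obtain ⟨x, hx, hxe⟩ := hres γ hγ
    obtain ⟨y, hy, hye⟩ := hi
    refine ⟨x * y, K.mul_mem hx hy, ?_⟩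
    rw [map_mul, hye, show (α : MulAut R) = (k : MulAut R) * (i : MulAut R) from congrArg Subtype.val hki]
    refine congrArg (fun e => e * (i : MulAut R)) (MulEquiv.ext fun r => Subtype.ext ?_)
    exact ((MulAut.conjNormal_apply _ _).trans (hxe r)).trans ((hγe _).trans ((hψe r).trans (hκe r)))
  -- the focal subgroup of `K`
  set SK := (S : Subgroup G) ⊓ K with hSK
  obtain ⟨U, hU⟩ := exists_sylow_inf S K
  have hdec : ∀ u ∈ SK, ∃ t ∈ T, t⁻¹ * u ∈ K ∧ t⁻¹ * u ∈ Q ∧ ∀ r ∈ R, t⁻¹ * u * r * (t⁻¹ * u)⁻¹ = r := by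
    intro u hu
    have hRfn : E.IsFullyNormalized R := ⟨hRT, fun W hW => by
      obtain ⟨θ, hθ, rfl⟩ := hW
      rw [range_eq_of_card_le hθ hRT (fun x => (IsNormal.stronglyClosed hEn).2 R le_rfl θ hθ x) le_rfl]⟩
    obtain ⟨-, V, hV⟩ := (fullyNormalized_good hTp hEs hRfn).1
    obtain ⟨hu₁, -⟩ := mem_inducingGroup.mp hu.2
    have hX : IsPGroup p ((autInducedBy (S : Subgroup G) R).subgroupOf A) :=
      (isPGroup_autInducedBy S.2 R).comap_subtype
    have h1 : (V : Subgroup A) ≤ (autInducedBy (S : Subgroup G) R).subgroupOf A :=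
      fun v hv => autInducedBy_mono hTS R (hV.le hv)
    obtain ⟨t, ht, hte⟩ := mem_autInducedBy.mp (hV.le ((V.3 hX h1).le
      (show (⟨_, hu₁⟩ : A) ∈ _ from mem_autInducedBy.mpr ⟨u, hu.1, fun x => MulAut.conjNormal_apply _ _⟩)))
    have hm : t⁻¹ * u ∈ K := K.mul_mem (K.inv_mem (hTK ht)) hu.2
    have hfix : ∀ r ∈ R, t⁻¹ * u * r * (t⁻¹ * u)⁻¹ = r := fun r hr => by
      have h2 : u * r * u⁻¹ = t * r * t⁻¹ := (MulAut.conjNormal_apply u ⟨r, hr⟩).symm.trans (hte ⟨r, hr⟩)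
      calc t⁻¹ * u * r * (t⁻¹ * u)⁻¹ = t⁻¹ * (u * r * u⁻¹) * t := by group
        _ = r := by rw [h2]; group
    exact ⟨t, ht, hm, mem_pCore_of_stabilizes hG inf_le_left hfix (mem_inducingGroup.mp hm).2, hfix⟩
  set O := (pResidual p K).map K.subtype with hO
  have hfoc : ∀ x ∈ O, x ∈ S → x ∈ T := by
    rintro _ ⟨x, hx, rfl⟩ hxS
    have h1 := CfsgLib.Transfer.inf_pResidual_le_focal U
      (Subgroup.mem_inf.mpr ⟨hU.ge (⟨hxS, x.2⟩ : (x : G) ∈ (S : Subgroup G) ⊓ K), hx⟩)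
    suffices (U : Subgroup K).focalSubgroup ≤ T.comap K.subtype from this h1
    rw [Subgroup.focalSubgroup_def, Subgroup.closure_le]
    rintro _ ⟨hmU, u, hu, g, rfl⟩
    have huS : (u : G) ∈ SK := hU.le hu
    have hwS : (g : G) * u * (g : G)⁻¹ ∈ (S : Subgroup G) := by
      have h2 : ((u⁻¹ * ⁅u, g⁆ : K) : G) ∈ SK := hU.le (Subgroup.mul_mem _ (Subgroup.inv_mem _ hu) hmU)
      have h3 := (S : Subgroup G).inv_mem h2.1
      simpa [commutatorElement_def, mul_assoc] using h3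
    obtain ⟨t, ht, hkK, hkQ, -⟩ := hdec _ huS
    set k := t⁻¹ * (u : G) with hkdef
    have hkR : k * ((g : G) * k * (g : G)⁻¹)⁻¹ ∈ R := by
      have := R.inv_mem ((mem_inducingGroup.mp g.2).2 k hkQ)
      simpa [mul_assoc] using this
    have hgt : (g : G) * t * (g : G)⁻¹ ∈ (S : Subgroup G) := by
      have := (S : Subgroup G).mul_mem hwS ((S : Subgroup G).inv_mem (hQS (hQn.conj_mem k hkQ g)))
      rw [show (g : G) * u * (g : G)⁻¹ * ((g : G) * k * (g : G)⁻¹)⁻¹ = (g : G) * t * (g : G)⁻¹ from by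
        rw [hkdef]; group] at this
      exact this
    have hle : Subgroup.zpowers t ≤ T := Subgroup.zpowers_le.mpr ht
    have ht' : (g : G) * t * (g : G)⁻¹ ∈ T := hTsc.2 _ hle (conjHom _ (g : G))
      (group_conjHom_mem (hle.trans hTS) fun y hy => by
        obtain ⟨j, rfl⟩ := Subgroup.mem_zpowers_iff.mp hy
        rw [← conj_zpow]; exact (S : Subgroup G).zpow_mem hgt j) ⟨t, Subgroup.mem_zpowers t⟩
    show ((⁅u, g⁆ : K) : G) ∈ T
    have e : ((⁅u, g⁆ : K) : G) =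
        t * (k * ((g : G) * k * (g : G)⁻¹)⁻¹) * ((g : G) * t * (g : G)⁻¹)⁻¹ := by
      rw [hkdef]; simp [commutatorElement_def, mul_assoc]
    rw [e]
    exact T.mul_mem (T.mul_mem ht (hRT hkR)) (T.inv_mem ht')
  have hON : O.Normal := by
    haveI := CfsgLib.Transfer.pResidual_characteristic (G := K) (p := p)
    exact inferInstanceAs ((pResidual p K).map K.subtype).Normal
  have hKgen : SK ⊔ O = K := by
    have h1 := congrArg (Subgroup.map K.subtype) (CfsgLib.Transfer.sylow_sup_pResidual U)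
    rw [Subgroup.map_sup, hU, Subgroup.map_subgroupOf_eq_of_le inf_le_right, ← MonoidHom.range_eq_map,
      Subgroup.range_subtype] at h1
    exact h1
  have hOK : O ≤ K := Subgroup.map_subtype_le _
  set H := T ⊔ O with hHdef
  have hnormT : ∀ g : G, g ∈ Subgroup.normalizer (SK : Set G) → ∀ t ∈ T, g * t * g⁻¹ ∈ T := fun g hg t ht =>
    hTsc.2 T le_rfl (conjHom T g) (group_conjHom_mem hTS fun y hy =>
      ((Subgroup.mem_normalizer_iff.mp hg y).mp ⟨hTS hy, hTK hy⟩).1) ⟨t, ht⟩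
  have hHmem : ∀ h : G, h ∈ H ↔ ∃ t ∈ T, ∃ o ∈ O, h = t * o := fun h => by
    rw [hHdef, Subgroup.mem_sup_of_normal_right]
    exact ⟨fun ⟨a, ha, b, hb, e⟩ => ⟨a, ha, b, hb, e.symm⟩, fun ⟨a, ha, b, hb, e⟩ => ⟨a, ha, b, hb, e.symm⟩⟩
  have hHn : H.Normal := by
    have key : ∀ g : G, (∀ t ∈ T, g * t * g⁻¹ ∈ H) → ∀ h ∈ H, g * h * g⁻¹ ∈ H := by
      intro g hg h hh
      obtain ⟨t, ht, o, ho, rfl⟩ := (hHmem h).mp hh
      have e : g * (t * o) * g⁻¹ = g * t * g⁻¹ * (g * o * g⁻¹) := by group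
      rw [e]
      exact H.mul_mem (hg t ht) (Subgroup.mem_sup_right (hON.conj_mem o ho g))
    refine ⟨fun h hh g => ?_⟩
    obtain ⟨a, ha, b, hb, rfl⟩ := exists_mul_of_normal S K g
    have hb' : ∀ h ∈ H, b * h * b⁻¹ ∈ H := by
      rw [← hKgen, Subgroup.mem_sup_of_normal_right] at hb
      obtain ⟨s, hs, o, ho, rfl⟩ := hb
      intro h hh
      have h1 : o * h * o⁻¹ ∈ H := H.mul_mem (H.mul_mem (Subgroup.mem_sup_right ho) hh)
        (H.inv_mem (Subgroup.mem_sup_right ho))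
      have := key s (fun t ht => Subgroup.mem_sup_left
        ((Subgroup.mem_normalizer_iff.mp (hSN hs.1) t).mp ht)) _ h1
      simpa [mul_assoc] using this
    have := key a (fun t ht => Subgroup.mem_sup_left (hnormT a ha t ht)) _ (hb' h hh)
    simpa [mul_assoc] using this
  have hSH : (S : Subgroup G) ⊓ H = T := by
    refine le_antisymm (fun x hx => ?_) (le_inf hTS le_sup_left)
    obtain ⟨t, ht, o, ho, rfl⟩ := (hHmem x).mp hx.2
    refine T.mul_mem ht (hfoc o ho ?_)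
    have := (S : Subgroup G).mul_mem ((S : Subgroup G).inv_mem (hTS ht)) hx.1
    rwa [inv_mul_cancel_left] at this
  have hHK : H ≤ K := sup_le hTK hOK
  have hHA : ∀ α ∈ A, ∃ h ∈ H, MulAut.conjNormal h = α := by
    intro α hα
    obtain ⟨x, hx, rfl⟩ := hsurj α hα
    rw [← hKgen, Subgroup.mem_sup_of_normal_right] at hx
    obtain ⟨u, hu, o, ho, rfl⟩ := hx
    obtain ⟨t, ht, -, -, hfix⟩ := hdec u hu
    refine ⟨t * o, (hHmem _).mpr ⟨t, ht, o, ho, rfl⟩, MulEquiv.ext fun r => Subtype.ext ?_⟩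
    rw [MulAut.conjNormal_apply, MulAut.conjNormal_apply]
    calc t * o * (r : G) * (t * o)⁻¹ = t * (o * r * o⁻¹) * t⁻¹ := by group
      _ = t * (t⁻¹ * u * (o * r * o⁻¹) * (t⁻¹ * u)⁻¹) * t⁻¹ := by rw [hfix _ (hRn.conj_mem _ r.2 o)]
      _ = _ := by group
  -- systems of subgroups with the property
  have hautH : ∀ (H' : Subgroup G) (hTH : T ≤ H') (α : MulAut R),
      α ∈ (fusionSystemOfSubgroup H' T hTH).autGroup R ↔ ∃ h ∈ H', MulAut.conjNormal h = α := by
    intro H' hTH α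
    rw [mem_autGroup hRT]
    constructor
    · rintro ⟨-, -, h, hh, hhe⟩
      exact ⟨h, hh, MulEquiv.ext fun r => Subtype.ext ((MulAut.conjNormal_apply _ _).trans (hhe r).symm)⟩
    · rintro ⟨h, hh, rfl⟩
      exact ⟨hRT, fun r => hRT (Subtype.mem _), h, hh, fun r => MulAut.conjNormal_apply _ _⟩
  -- existence
  obtain ⟨UH, hUH⟩ := exists_sylow_inf S H
  have hEH : E = fusionSystemOfSubgroup H T le_sup_left := by
    have hsat : (fusionSystemOfSubgroup H T le_sup_left).IsSaturated p ∧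
        IsStronglyInvariant F (fusionSystemOfSubgroup H T le_sup_left) ∧
        (fusionSystemOfSubgroup H T le_sup_left).IsSubsystemOf F := by
      have h1 := group_normal_subsystem S H
      generalize (inf_le_right : (S : Subgroup G) ⊓ H ≤ H) = hle at h1
      revert hle
      rw [hSH]
      intro hle h1
      exact ⟨h1.1.1, stronglyInvariant_of_invariant h1.1.2.2, h1.1.2.2.1⟩
    obtain ⟨hHs, hHi, hHsub⟩ := hsat
    have hHn' := isNormal_in_subsystem (R := R) S hHs hHsub hTS hRT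
    have hHc := isCentric_in_subsystem S hG hTsc hHsub
    refine le_antisymm' (le_of_common_centric S.2 hTS hEs hHs hEF hHsub hstrong hHi hEn hHn' hHc ?_)
      (le_of_common_centric S.2 hTS hHs hEs hHsub hEF hHi hstrong hHn' hEn hEc ?_)
    · intro α hα
      exact (hautH H le_sup_left α).mpr (hHA α hα)
    · intro α hα
      obtain ⟨h, hh, rfl⟩ := (hautH H le_sup_left α).mp hα
      exact (mem_inducingGroup.mp (hHK hh)).1
  refine ⟨H, ⟨le_sup_left, hHn, ⟨UH, by rw [hUH, hSH]⟩, fun P => by rw [hEH]⟩, ?_⟩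
  -- uniqueness
  rintro H' ⟨hTH', hH'n, ⟨V, hV⟩, hEH'⟩
  have hSH' : (S : Subgroup G) ⊓ H' = T := by
    refine le_antisymm ?_ (le_inf hTS hTH')
    have h1 : ((S : Subgroup G) ⊓ H').subgroupOf H' = V := by
      refine V.3 (S.2.to_le inf_le_left).comap_subtype ?_
      rw [hV]
      exact fun x hx => ⟨hTS hx, x.2⟩
    intro x hx
    exact (h1.trans hV).le (show (⟨x, hx.2⟩ : H') ∈ ((S : Subgroup G) ⊓ H').subgroupOf H' from hx)
  have hA' : ∀ α : MulAut R, α ∈ A ↔ ∃ h ∈ H', MulAut.conjNormal h = α := fun α => by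
    rw [← hautH H' hTH', hA, mem_autGroup hRT, mem_autGroup hRT, hEH']
  have hH'K : H' ≤ K := fun x hx => mem_inducingGroup.mpr ⟨(hA' _).mpr ⟨x, hx, rfl⟩, fun q hq => by
    have hmQ : x * q * x⁻¹ * q⁻¹ ∈ Q := Q.mul_mem (hQn.conj_mem q hq x) (Q.inv_mem hq)
    refine ⟨hmQ, hSH'.le ⟨hQS hmQ, ?_⟩⟩
    have := H'.mul_mem hx (hH'n.conj_mem _ (H'.inv_mem hx) q)
    simpa [mul_assoc] using this⟩
  apply le_antisymm
  · intro x hx
    have hgen : (V : Subgroup H') ⊔ pResidual p H' = ⊤ := CfsgLib.Transfer.sylow_sup_pResidual V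
    suffices (V : Subgroup H') ⊔ pResidual p H' ≤ H.comap H'.subtype from
      this (hgen ▸ Subgroup.mem_top (⟨x, hx⟩ : H'))
    refine sup_le (fun v hv => Subgroup.mem_sup_left (hV.le hv)) fun v hv => ?_
    exact Subgroup.mem_sup_right (show (v : G) ∈ O from ⟨Subgroup.inclusion hH'K v,
      CfsgLib.Transfer.map_pResidual_le (Subgroup.inclusion hH'K) ⟨v, hv, rfl⟩, rfl⟩)
  · intro h hh
    obtain ⟨h', hh', he⟩ := (hA' _).mp ((mem_inducingGroup.mp (hHK hh)).1)
    have hm : h'⁻¹ * h ∈ K := K.mul_mem (K.inv_mem (hH'K hh')) (hHK hh)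
    have hfix : ∀ r ∈ R, h'⁻¹ * h * r * (h'⁻¹ * h)⁻¹ = r := fun r hr => by
      have h2 := congrArg (fun e : MulAut R => ((e ⟨r, hr⟩ : R) : G)) he
      simp only [MulAut.conjNormal_apply] at h2
      calc h'⁻¹ * h * r * (h'⁻¹ * h)⁻¹ = h'⁻¹ * (h * r * h⁻¹) * h' := by group
        _ = r := by rw [← h2]; group
    have hq : h'⁻¹ * h ∈ Q := mem_pCore_of_stabilizes hG inf_le_left hfix (mem_inducingGroup.mp hm).2
    have hH'H : h' ∈ H := by
      have hgen : (V : Subgroup H') ⊔ pResidual p H' = ⊤ := CfsgLib.Transfer.sylow_sup_pResidual V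
      suffices (V : Subgroup H') ⊔ pResidual p H' ≤ H.comap H'.subtype from
        this (hgen ▸ Subgroup.mem_top (⟨h', hh'⟩ : H'))
      refine sup_le (fun v hv => Subgroup.mem_sup_left (hV.le hv)) fun v hv => ?_
      exact Subgroup.mem_sup_right (show (v : G) ∈ O from ⟨Subgroup.inclusion hH'K v,
        CfsgLib.Transfer.map_pResidual_le (Subgroup.inclusion hH'K) ⟨v, hv, rfl⟩, rfl⟩)
    have hT' : h'⁻¹ * h ∈ T := hSH.le ⟨hQS hq, H.mul_mem (H.inv_mem hH'H) hh⟩
    have := H'.mul_mem hh' (hTH' hT')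
    rwa [mul_inv_cancel_left] at this

end group

end CfsgLib.Fusion
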