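import Cfsg.Agent.Lib.Fusion.CentralizerFocal
import Cfsg.Agent.Lib.Fusion.StrictlyConstrained
import Cfsg.Agent.Lib.Struct76.Basic
import Cfsg.Agent.Lib.Techniques.Basic
import Mathlib.GroupTheory.Transfer

/-!
# Exact cocycles on the Sylow closure of an automizer of a normal subsystem

For `E` normal in `F` over `T`, `Q` centric among the subgroups of `T` and `a` in `C_S(T)`, the
automorphisms of `Q` in the normal closure of `Aut_T(Q)` in `Aut_E(Q)` extend to maps moving `a` by a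
cocycle that is exactly multiplicative and vanishes on `Aut_T(Q)`. This comes from the normal closure
`L` of `Aut_T(W)` in `Aut_F(W C_S(W))`, `W` fully normalized: the part of `L` fixing `W` is central, so
it dies in the transfer, hence is trivial.
-/

set_option autoImplicit false

namespace CfsgLib.Fusion

open Cfsg Cfsg.FusionSystem CfsgLib.FusionNormal
open scoped IsMulCommutative

variable {Ω : Type*} [Group Ω] {S T : Subgroup Ω} {F : FusionSystem S} {E : FusionSystem T}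
variable {W Y P Q R : Subgroup Ω} [Finite S] {p : ℕ} [Fact p.Prime]

/-- A map fixing `W` and moving `c ∈ C_S(W)` by `t` makes `N_T(W)` centralize `t`. -/
theorem commute_of_fix (hS : IsPGroup p S) (hF : F.IsSaturated p) (hT : F.StronglyClosed T)
    (hWc : TCentric F T W) {u : Ω} (hu : u ∈ normalizerIn T W) {c t : Ω} (hc : c ∈ centralizerIn S W)
    {κ : Ω → Ω} (hκ : MapFn F (W ⊔ Subgroup.zpowers c) κ) (hκW : ∀ w ∈ W, κ w = w)
    (hκc : κ c = c * t) : u * t * u⁻¹ = t := by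
  have hW : W ≤ S := hWc.le.trans hT.1
  obtain ⟨W', θ, hn, hθ, hθW, hθN⟩ := exists_fullyNormalized_mapFn hS hF hW
  set N := normalizerIn S W with hNdef
  have huN : u ∈ N := ⟨hT.1 hu.1, hu.2⟩
  have hcN : c ∈ N := centralizerIn_le_normalizerIn hc
  have hWN : W ≤ N := le_normalizerIn hW
  have hWκ : κ '' W = (W : Set Ω) := (Set.image_congr hκW).trans (Set.image_id _)
  have hκN : κ c ∈ N := centralizerIn_le_normalizerIn
    (hκ.mem_centralizerIn le_sup_left hWκ (Subgroup.mem_sup_right (Subgroup.mem_zpowers c)) hc)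
  have hD : W ⊔ Subgroup.zpowers c ≤ N := sup_le hWN (Subgroup.zpowers_le.mpr hcN)
  obtain ⟨M, -, hM⟩ := hθ.exists_image
  obtain ⟨θi, hθi, -, hθi₁, -⟩ := hθ.exists_inv hM
  have hle : W' ⊔ Subgroup.zpowers (θ c) ≤ M := sup_le
    (fun y hy => by obtain ⟨x, hx, rfl⟩ := exists_of_image hθW hy; exact mem_of_image hM (hWN hx))
    (Subgroup.zpowers_le.mpr (mem_of_image hM hcN))
  have hm1 : ∀ y ∈ W' ⊔ Subgroup.zpowers (θ c), θi y ∈ W ⊔ Subgroup.zpowers c :=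
    (hθi.mono hle).maps_sup
      (fun y hy => by
        obtain ⟨x, hx, rfl⟩ := exists_of_image hθW hy
        rw [hθi₁ x (hWN hx)]; exact Subgroup.mem_sup_left hx)
      fun y hy => Subgroup.mem_sup_right
        (hθi₁ c hcN ▸ mapFn_zpowers hθi (mem_of_image hM hcN) y hy)
  have hm2 : ∀ y ∈ W ⊔ Subgroup.zpowers c, κ y ∈ N := hκ.maps_sup
    (fun y hy => by rw [hκW y hy]; exact hWN hy)
    fun y hy => (Subgroup.zpowers_le.mpr hκN)
      (mapFn_zpowers hκ (Subgroup.mem_sup_right (Subgroup.mem_zpowers c)) y hy)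
  have hκ' : MapFn F (W' ⊔ Subgroup.zpowers (θ c)) (θ ∘ κ ∘ θi) :=
    ((hθi.mono hle).comp hκ hm1).comp hθ fun y hy => hm2 _ (hm1 y hy)
  have hκ'W : ∀ w ∈ W', (θ ∘ κ ∘ θi) w = w := by
    intro w hw
    obtain ⟨x, hx, rfl⟩ := exists_of_image hθW hw
    show θ (κ (θi (θ x))) = θ x
    rw [hθi₁ x (hWN hx), hκW x hx]
  have key := commutator_invariant hS hF hT (hWc.of_conj hT ((hθ.mono hWN).isConj hθW))
    (isFullyCentralized_of_fullyNormalized hS hF hn) hκ' hκ'W (hθ.mem_centralizerIn hWN hθW hcN hc)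
    (t₀ := θ u) ⟨mapFn_mem hT hθ huN hu.1, (hθN u huN).2⟩
  have e1 : (θ ∘ κ ∘ θi) (θ c) = θ (κ c) := by
    show θ (κ (θi (θ c))) = _
    rw [hθi₁ c hcN]
  rw [e1] at key
  have e2 : ∀ y ∈ N, θ u * θ y * (θ u)⁻¹ * (θ y)⁻¹ = θ (u * y * u⁻¹ * y⁻¹) := fun y hy => by
    rw [hθ.map_mul (N.mul_mem (N.mul_mem huN hy) (N.inv_mem huN)) (N.inv_mem hy), hθ.map_conj huN hy,
      hθ.map_inv hy]
  rw [e2 c hcN, e2 _ hκN] at key
  have h := hθ.injOn (N.mul_mem (N.mul_mem (N.mul_mem huN hcN) (N.inv_mem huN)) (N.inv_mem hcN))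
    (N.mul_mem (N.mul_mem (N.mul_mem huN hκN) (N.inv_mem huN)) (N.inv_mem hκN)) key
  rw [hκc] at h
  calc u * t * u⁻¹ = (u * c * u⁻¹)⁻¹ * (u * (c * t) * u⁻¹ * (c * t)⁻¹) * (c * t) := by group
    _ = (u * c * u⁻¹)⁻¹ * (u * c * u⁻¹ * c⁻¹) * (c * t) := by rw [← h]
    _ = t := by group

/-- A subgroup fully normalized in `F` is fully normalized in every subsystem over a strongly closed
subgroup. -/
theorem isFullyNormalized_of_stronglyClosed (hS : IsPGroup p S) (hF : F.IsSaturated p)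
    (hT : F.StronglyClosed T) (hEF : E.IsSubsystemOf F) (hWT : W ≤ T) (hWn : F.IsFullyNormalized W) :
    E.IsFullyNormalized W := by
  refine ⟨hWT, fun V hV => ?_⟩
  obtain ⟨φ, hφ, rfl⟩ := hV
  obtain ⟨f, hf, -, hfN⟩ := exists_normalizer_mapFn hS hF hWn (isConj_symm ⟨φ, hEF W hφ, rfl⟩)
  have hle : normalizerIn T φ.range ≤ normalizerIn S φ.range := inf_le_inf_right _ hT.1
  obtain ⟨ψ, hψ, hψe⟩ := hf.mono hle
  refine card_le_of_map hψ (inf_le_left.trans hT.1) fun x => ?_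
  rw [hψe]
  exact ⟨mapFn_mem hT hf (hle x.2) x.2.1, (hfN _ (hle x.2)).2⟩

/-! ### The lifting group -/

/-- The normal closure of `Aut_T(W)` in the automizer of `R`. -/
def liftGroup (F : FusionSystem S) (T W R : Subgroup Ω) : Subgroup (MulAut R) :=
  Subgroup.closure {B | ∃ γ ∈ F.autGroup R, ∃ u ∈ normalizerIn T W, ∃ c : MulAut R,
    (∀ x : R, ((c x : R) : Ω) = u * x * u⁻¹) ∧ B = γ * c * γ⁻¹}

theorem liftGroup_spec (hS : IsPGroup p S) (hE : E.IsNormalIn F p) (hW : TCentric F T W)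
    (hWn : F.IsFullyNormalized W) (hR : R = W ⊔ centralizerIn S W) :
    liftGroup F T W R ≤ F.autGroup R ∧
      (∀ B ∈ liftGroup F T W R, ∀ x : R, (x : Ω) ∈ centralizerIn S W →
        (x : Ω)⁻¹ * ((B x : R) : Ω) ∈ W ∧ ((B x : R) : Ω) ∈ centralizerIn S W) ∧
      ∀ B ∈ liftGroup F T W R, (∀ x : R, (x : Ω) ∈ W → B x = x) → B = 1 := by
  obtain ⟨⟨hEs, hF, hEi⟩, -⟩ := id hE
  have hT := hEi.2.1
  have hEF := hEi.1
  have hTS := hT.1
  have hWT := hW.le
  have hWS := hWT.trans hTS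
  set C := centralizerIn S W with hC
  set U := normalizerIn T W with hU
  have hWR : W ≤ R := hR.symm ▸ le_sup_left
  have hCR : C ≤ R := hR.symm ▸ le_sup_right
  have hRS : R ≤ S := hR.le.trans (sup_le hWS centralizerIn_le)
  have := finite_of_le hRS
  have := finite_of_le hWS
  have := finite_mulAut hRS
  have hdec : ∀ x ∈ R, ∃ w ∈ W, ∃ c ∈ C, w * c = x := fun x hx =>
    CfsgLib.Techniques.exists_mul_of_mem_sup (fun w hw => Subgroup.mem_normalizer_iff.mpr fun c => by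
      have hh : ∀ c ∈ C, ∀ v ∈ W, v * c * v⁻¹ = c := fun c hc v hv => by
        rw [(mem_centralizerIn.mp hc).2 v hv, mul_inv_cancel_right]
      refine ⟨fun hc => by rw [hh c hc w hw]; exact hc, fun hc => ?_⟩
      have h1 := hh _ hc w⁻¹ (W.inv_mem hw)
      rw [show w⁻¹ * (w * c * w⁻¹) * w⁻¹⁻¹ = c by group] at h1
      rw [h1]; exact hc) (hR.le hx)
  have hRT : ∀ x ∈ R, x ∈ T → x ∈ W := by
    intro x hx hxT
    obtain ⟨w, hw, c, hc, rfl⟩ := hdec x hx
    refine W.mul_mem hw (TCentric.centralizer_le hTS hW (mem_centralizerIn.mpr ⟨?_, (mem_centralizerIn.mp hc).2⟩))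
    simpa using T.mul_mem (T.inv_mem (hWT hw)) hxT
  have hWC : ∀ z ∈ W, z ∈ C → ∀ c ∈ C, z * c = c * z := fun z hz _ c hc => (mem_centralizerIn.mp hc).2 z hz
  -- automorphisms of `R`
  have hγfn : ∀ γ ∈ F.autGroup R, ∀ x : R, ∀ h : (x : Ω) ∈ W, ((γ x : R) : Ω) ∈ W := by
    intro γ hγ x hx
    obtain ⟨g, hg, -, hge⟩ := exists_mapFn_of_aut hRS hγ
    rw [← hge]
    exact hRT _ (by rw [hge]; exact Subtype.mem _) (mapFn_mem hT hg x.2 (hWT hx))
  have hγC : ∀ γ ∈ F.autGroup R, ∀ x : R, (x : Ω) ∈ C → ((γ x : R) : Ω) ∈ C := by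
    intro γ hγ x hx
    refine mem_centralizerIn.mpr ⟨hRS (Subtype.mem _), fun y hy => ?_⟩
    have h1 := hγfn _ (Subgroup.inv_mem _ hγ) ⟨y, hWR hy⟩ hy
    have h2 : (γ⁻¹ ⟨y, hWR hy⟩ : R) * x = x * γ⁻¹ ⟨y, hWR hy⟩ :=
      Subtype.ext ((mem_centralizerIn.mp hx).2 _ h1)
    have h3 := congrArg (fun z => ((γ z : R) : Ω)) h2
    simpa using h3
  -- conjugations by `U`
  have hUR : ∀ u ∈ U, u ∈ Subgroup.normalizer (R : Set Ω) := by
    intro u hu
    refine mem_normalizer_of_forall fun x hx => ?_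
    obtain ⟨w, hw, c, hc, rfl⟩ := hdec x hx
    have e : u * (w * c) * u⁻¹ = (u * w * u⁻¹) * (u * c * u⁻¹) := by group
    rw [e]
    refine R.mul_mem (hWR (conj_mem_of_normalizer hu.2 hw)) (hCR (mem_centralizerIn.mpr
      ⟨S.mul_mem (S.mul_mem (hTS hu.1) hc.1) (S.inv_mem (hTS hu.1)), fun v hv => ?_⟩))
    have h1 := (mem_centralizerIn.mp hc).2 _ ((Subgroup.mem_normalizer_iff''.mp hu.2 v).mp hv)
    calc v * (u * c * u⁻¹) = u * (u⁻¹ * v * u * c) * u⁻¹ := by group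
      _ = u * c * u⁻¹ * v := by rw [h1]; group
  have hcex : ∀ u ∈ U, ∃ c ∈ F.autGroup R, ∀ x : R, ((c x : R) : Ω) = u * x * u⁻¹ := by
    intro u hu
    obtain ⟨c, hc, hce⟩ := exists_autInducedBy (K := S) (hTS hu.1) (hUR u hu)
    exact ⟨c, autInducedBy_le_autGroup hRS hc, hce⟩
  have hcmem : ∀ u ∈ U, ∀ c : MulAut R, (∀ x : R, ((c x : R) : Ω) = u * x * u⁻¹) → c ∈ F.autGroup R := by
    intro u hu c hc
    exact (mem_autGroup hRS).mpr (mem_of_conj hRS (hTS hu.1) hc)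
  have hcC : ∀ u ∈ U, ∀ x ∈ C, x⁻¹ * (u * x * u⁻¹) ∈ W := by
    intro u hu x hx
    have hm : u * x * u⁻¹ ∈ C := by
      obtain ⟨c, hc, hce⟩ := hcex u hu
      have := hγC c hc ⟨x, hCR hx⟩ hx
      rwa [hce] at this
    refine TCentric.centralizer_le hTS hW (mem_centralizerIn.mpr
      ⟨?_, (mem_centralizerIn.mp (C.mul_mem (C.inv_mem hx) hm)).2⟩)
    have := T.mul_mem (conj_mem_of_normalizer (StronglyClosed.le_normalizer hT (S.inv_mem hx.1)) hu.1)
      (T.inv_mem hu.1)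
    simpa [mul_assoc] using this
  -- membership and moving
  set L := liftGroup F T W R with hLdef
  have hLG : L ≤ F.autGroup R := by
    refine (Subgroup.closure_le _).mpr ?_
    rintro _ ⟨γ, hγ, u, hu, c, hc, rfl⟩
    exact Subgroup.mul_mem _ (Subgroup.mul_mem _ hγ (hcmem u hu c hc)) (Subgroup.inv_mem _ hγ)
  have hLgen : ∀ γ ∈ F.autGroup R, ∀ u ∈ U, ∀ c : MulAut R,
      (∀ x : R, ((c x : R) : Ω) = u * x * u⁻¹) → γ * c * γ⁻¹ ∈ L := fun γ hγ u hu c hc =>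
    Subgroup.subset_closure ⟨γ, hγ, u, hu, c, hc, rfl⟩
  have hLn : ∀ γ ∈ F.autGroup R, ∀ B ∈ L, γ * B * γ⁻¹ ∈ L := by
    intro γ hγ
    have h : L ≤ L.comap (MulAut.conj γ).toMonoidHom := by
      refine (Subgroup.closure_le _).mpr ?_
      rintro _ ⟨δ, hδ, u, hu, c, hc, rfl⟩
      show γ * (δ * c * δ⁻¹) * γ⁻¹ ∈ L
      rw [show γ * (δ * c * δ⁻¹) * γ⁻¹ = (γ * δ) * c * (γ * δ)⁻¹ by group]
      exact hLgen _ (Subgroup.mul_mem _ hγ hδ) u hu c hc
    exact fun B hB => h hB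
  let M : Subgroup (MulAut R) :=
    { carrier := {B | B ∈ F.autGroup R ∧ ∀ x : R, (x : Ω) ∈ C → (x : Ω)⁻¹ * ((B x : R) : Ω) ∈ W}
      one_mem' := ⟨Subgroup.one_mem _, fun x _ => by simp [W.one_mem]⟩
      mul_mem' := by
        rintro A B ⟨hA, hA'⟩ ⟨hB, hB'⟩
        refine ⟨Subgroup.mul_mem _ hA hB, fun x hx => ?_⟩
        have h1 := W.mul_mem (hB' x hx) (hA' (B x) (hγC B hB x hx))
        rw [MulAut.mul_apply]
        simpa [mul_assoc] using h1
      inv_mem' := by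
        rintro A ⟨hA, hA'⟩
        refine ⟨Subgroup.inv_mem _ hA, fun x hx => ?_⟩
        have h1 := W.inv_mem (hA' (A⁻¹ x) (hγC _ (Subgroup.inv_mem _ hA) x hx))
        rw [MulAut.apply_inv_self] at h1
        simpa using h1 }
  have hLM : L ≤ M := by
    refine (Subgroup.closure_le _).mpr ?_
    rintro _ ⟨γ, hγ, u, hu, c, hc, rfl⟩
    refine ⟨hLG (hLgen γ hγ u hu c hc), fun x hx => ?_⟩
    set y := γ⁻¹ x with hy
    have hyC := hγC _ (Subgroup.inv_mem _ hγ) x hx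
    have h1 : ((y⁻¹ * c y : R) : Ω) ∈ W := by
      rw [Subgroup.coe_mul, Subgroup.coe_inv, hc]
      exact hcC u hu _ hyC
    have h2 := hγfn γ hγ _ h1
    rw [map_mul, map_inv, hy, MulAut.apply_inv_self] at h2
    rw [MulAut.mul_apply, MulAut.mul_apply]
    exact h2
  refine ⟨hLG, fun B hB x hx => ⟨(hLM hB).2 x hx, hγC B (hLG hB) x hx⟩, ?_⟩
  -- restriction to `W`
  have hres : ∀ B ∈ L, ∃ δ ∈ E.autGroup W, ∀ x : W, ((δ x : W) : Ω) = ((B ⟨x, hWR x.2⟩ : R) : Ω) := by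
    intro B hB
    let N : Subgroup (MulAut R) :=
      { carrier := {B | ∃ δ ∈ E.autGroup W, ∀ x : W, ((δ x : W) : Ω) = ((B ⟨x, hWR x.2⟩ : R) : Ω)}
        one_mem' := ⟨1, Subgroup.one_mem _, fun x => rfl⟩
        mul_mem' := by
          rintro A B ⟨δ, hδ, he⟩ ⟨ε, hε, he'⟩
          refine ⟨δ * ε, Subgroup.mul_mem _ hδ hε, fun x => ?_⟩
          rw [MulAut.mul_apply, MulAut.mul_apply, he]
          congr 2
          exact Subtype.ext (he' x)
        inv_mem' := by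
          rintro A ⟨δ, hδ, he⟩
          refine ⟨δ⁻¹, Subgroup.inv_mem _ hδ, fun x => ?_⟩
          have h1 := he (δ⁻¹ x)
          rw [MulAut.apply_inv_self] at h1
          have h2 : A ⟨((δ⁻¹ x : W) : Ω), hWR (Subtype.mem _)⟩ = ⟨x, hWR x.2⟩ := Subtype.ext h1.symm
          rw [← h2, MulAut.inv_apply_self] }
    refine (show L ≤ N from (Subgroup.closure_le _).mpr ?_) hB
    rintro _ ⟨γ, hγ, u, hu, c, hc, rfl⟩
    obtain ⟨g, hg, -, hge⟩ := exists_mapFn_of_aut hRS hγ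
    have hgW : g '' W = (W : Set Ω) := (hg.mono hWR).image_eq_of_maps hWS
      (fun x hx => by rw [hge ⟨x, hWR hx⟩]; exact hγfn γ hγ _ hx) le_rfl
    obtain ⟨γ₀, hγ₀, hγ₀e⟩ := (hg.mono hWR).exists_aut hgW
    obtain ⟨c₀, hc₀, hc₀e⟩ := exists_autInducedBy (K := T) hu.1 hu.2
    refine ⟨γ₀ * c₀ * γ₀⁻¹, autGroup_conj_mem_of_strong (stronglyInvariant_of_invariant hEi) hWT hTS
      (autInducedBy_le_autGroup hWT hc₀) hγ₀, fun x => ?_⟩
    have hγi : ((γ₀⁻¹ x : W) : Ω) = ((γ⁻¹ ⟨x, hWR x.2⟩ : R) : Ω) := by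
      have h1 := hγ₀e (γ₀⁻¹ x)
      rw [MulAut.apply_inv_self, hge ⟨_, hWR (Subtype.mem _)⟩] at h1
      have h2 : γ ⟨((γ₀⁻¹ x : W) : Ω), hWR (Subtype.mem _)⟩ = ⟨x, hWR x.2⟩ := Subtype.ext h1.symm
      rw [← h2, MulAut.inv_apply_self]
    rw [MulAut.mul_apply, MulAut.mul_apply, MulAut.mul_apply, MulAut.mul_apply, hγ₀e,
      hge ⟨_, hWR (Subtype.mem _)⟩]
    congr 2
    refine Subtype.ext ?_
    show ((c₀ (γ₀⁻¹ x) : W) : Ω) = _
    rw [hc₀e, hc, hγi]
  -- the part fixing `W` is central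
  have hcentral : ∀ k ∈ L, (∀ x : R, (x : Ω) ∈ W → k x = x) → ∀ B ∈ L, B * k = k * B := by
    suffices h : ∀ k ∈ L, (∀ x : R, (x : Ω) ∈ W → k x = x) → ∀ u ∈ U, ∀ c : MulAut R,
        (∀ x : R, ((c x : R) : Ω) = u * x * u⁻¹) → c * k = k * c by
      intro k hk hkW
      suffices hle : L ≤ Subgroup.centralizer {k} by
        exact fun B hB => Subgroup.mem_centralizer_singleton_iff.mp (hle hB)
      refine (Subgroup.closure_le _).mpr ?_
      rintro _ ⟨γ, hγ, u, hu, c, hc, rfl⟩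
      rw [SetLike.mem_coe, Subgroup.mem_centralizer_singleton_iff]
      have h1 := h (γ⁻¹ * k * γ⁻¹⁻¹) (hLn _ (Subgroup.inv_mem _ hγ) k hk) (fun x hx => by
        rw [MulAut.mul_apply, MulAut.mul_apply, inv_inv, hkW _ (hγfn γ hγ x hx), MulAut.inv_apply_self]) u hu c hc
      calc γ * c * γ⁻¹ * k = γ * (c * (γ⁻¹ * k * γ⁻¹⁻¹)) * γ⁻¹ := by group
        _ = k * (γ * c * γ⁻¹) := by rw [h1]; group
    intro k hk hkW u hu c hc
    refine MulEquiv.ext fun x => ?_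
    obtain ⟨w, hw, d, hd, he⟩ := hdec x x.2
    have hxe : x = ⟨w, hWR hw⟩ * ⟨d, hCR hd⟩ := Subtype.ext he.symm
    rw [hxe, map_mul, map_mul]
    congr 1
    · rw [MulAut.mul_apply, MulAut.mul_apply, hkW _ hw, hkW]
      rw [hc]; exact conj_mem_of_normalizer hu.2 hw
    set dR : R := ⟨d, hCR hd⟩ with hdR
    obtain ⟨t, ht⟩ : ∃ t : R, t = dR⁻¹ * k dR := ⟨_, rfl⟩
    have htW : (t : Ω) ∈ W := ht ▸ (hLM hk).2 dR hd
    have htC : (t : Ω) ∈ C := ht ▸ C.mul_mem (C.inv_mem hd) (hγC k (hLG hk) dR hd)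
    obtain ⟨f, hf, -, hfe⟩ := exists_mapFn_of_aut hRS (hLG hk)
    have hfix := commute_of_fix hS hF hT hW hu hd
      (hf.mono (sup_le hWR (Subgroup.zpowers_le.mpr (hCR hd))))
      (fun v hv => by rw [hfe ⟨v, hWR hv⟩, hkW _ hv]) (t := t) (by
        rw [hfe dR]
        show _ = ((dR * t : R) : Ω)
        rw [ht, mul_inv_cancel_left])
    have hwu := hcC u hu d hd
    set v : R := ⟨d⁻¹ * (u * d * u⁻¹), hWR hwu⟩ with hv
    have hcd : c dR = dR * v := Subtype.ext (by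
      show ((c dR : R) : Ω) = d * (d⁻¹ * (u * d * u⁻¹))
      rw [hc, mul_inv_cancel_left])
    have hkd : k dR = dR * t := by rw [ht, mul_inv_cancel_left]
    have hct : c t = t := Subtype.ext (by rw [hc]; exact hfix)
    rw [MulAut.mul_apply, MulAut.mul_apply, hkd, hcd, map_mul, map_mul, hct, hcd, hkd,
      hkW v hwu, mul_assoc, mul_assoc]
    congr 1
    exact Subtype.ext ((mem_centralizerIn.mp htC).2 _ hwu)
  intro k hk hkW
  -- `R` is fully normalized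
  have hRc : F.IsFullyNormalized R := by
    refine ⟨hRS, fun R' hR' => ?_⟩
    obtain ⟨g, hg, hgr⟩ := isConj_iff.mp hR'
    have hR'S : R' ≤ S := by
      intro y hy
      obtain ⟨x, hx, rfl⟩ := exists_of_image hgr hy
      exact hg.mem_S hx
    obtain ⟨W', -, hW'⟩ := (hg.mono hWR).exists_image
    have h1 : normalizerIn S R' ≤ normalizerIn S W' := by
      intro s hs
      have := finite_of_le (show W' ≤ S from fun y hy => by
        obtain ⟨x, hx, rfl⟩ := exists_of_image hW' hy; exact hg.mem_S (hWR hx))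
      refine ⟨hs.1, mem_normalizer_of_forall fun y hy => ?_⟩
      obtain ⟨x, hx, rfl⟩ := exists_of_image hW' hy
      obtain ⟨z, hz, hze⟩ := exists_of_image hgr (conj_mem_of_normalizer hs.2 (mem_of_image hgr (hWR hx)))
      have hzT : g z ∈ T := hze ▸ conj_mem_of_normalizer (StronglyClosed.le_normalizer hT hs.1)
        (mapFn_mem hT hg (hWR hx) (hWT hx))
      rw [← hze]
      exact mem_of_image hW' (hRT z hz ((mapFn_mem_iff hT hg hz).mp hzT))
    have h2 : normalizerIn S W ≤ normalizerIn S R := by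
      intro s hs
      refine ⟨hs.1, mem_normalizer_of_forall fun x hx => ?_⟩
      obtain ⟨w, hw, d, hd, rfl⟩ := hdec x hx
      have e : s * (w * d) * s⁻¹ = (s * w * s⁻¹) * (s * d * s⁻¹) := by group
      rw [e]
      refine R.mul_mem (hWR (conj_mem_of_normalizer hs.2 hw)) (hCR (mem_centralizerIn.mpr
        ⟨S.mul_mem (S.mul_mem hs.1 hd.1) (S.inv_mem hs.1), fun v hv => ?_⟩))
      have h1 := (mem_centralizerIn.mp hd).2 _ ((Subgroup.mem_normalizer_iff''.mp hs.2 v).mp hv)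
      calc v * (s * d * s⁻¹) = s * (s⁻¹ * v * s * d) * s⁻¹ := by group
        _ = s * d * s⁻¹ * v := by rw [h1]; group
    have := finite_of_le (normalizerIn_le (S := S) (P := W'))
    have := finite_of_le (normalizerIn_le (S := S) (P := R))
    exact (Subgroup.card_le_of_le h1).trans
      ((hWn.2 W' ((hg.mono hWR).isConj hW')).trans (Subgroup.card_le_of_le h2))
  obtain ⟨⟨-, PR, hPR⟩, hRr⟩ := fullyNormalized_good hS hF hRc
  have hEn := isFullyNormalized_of_stronglyClosed hS hF hT hEF hWT hWn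
  have := finite_of_le hTS
  obtain ⟨⟨-, PW, hPW⟩, -⟩ := fullyNormalized_good (hS.to_le hTS) hEs hEn
  have := finite_mulAut hWT
  -- elements of `Aut_T` inside `Aut_S(R)`
  have hind : ∀ ψ ∈ F.autGroup R, ∀ u ∈ U, ∀ c : MulAut R, (∀ x : R, ((c x : R) : Ω) = u * x * u⁻¹) →
      ψ * c * ψ⁻¹ ∈ autInducedBy S R →
      ∃ v ∈ U, ∀ x : R, (((ψ * c * ψ⁻¹) x : R) : Ω) = v * x * v⁻¹ := by
    intro ψ hψ u hu c hc hm
    obtain ⟨s, hs, hse⟩ := mem_autInducedBy.mp hm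
    obtain ⟨φ, hφ, hφr, hφe⟩ := exists_map_of_mem_autGroup hRS hψ
    have hue : u ∈ extender S R φ := by
      refine mem_extender.mpr ⟨hTS hu.1, hUR u hu, s, hs, fun x hx => ?_⟩
      rw [hφe, hφe, ← hse]
      simp only [MulAut.mul_apply, MulAut.inv_apply_self]
      exact congrArg (fun z => ((ψ z : R) : Ω)) (Subtype.ext (hc x).symm)
    obtain ⟨ρ, hρ, hρe⟩ := Fusion.exists_extension hRr hφ hφr
      (le_extender hRS (apply_mem_S hφ)) le_rfl
    obtain ⟨r, hr, hre⟩ := mapFn_of_hom hρ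
    have hR' : R ≤ extender S R φ := le_extender hRS (apply_mem_S hφ)
    have hconj : ∀ x : R, (((ψ * c * ψ⁻¹) x : R) : Ω) = r u * x * (r u)⁻¹ := by
      intro x
      obtain ⟨y, rfl⟩ := ψ.surjective x
      have hy : ∀ z : R, r z = ((ψ z : R) : Ω) := fun z =>
        ((hre ⟨z, hR' z.2⟩).symm.trans (hρe z)).trans (hφe z)
      simp only [MulAut.mul_apply, MulAut.inv_apply_self]
      rw [← hy, ← hy, ← hr.map_conj hue (hR' y.2), hc]
    refine ⟨r u, ⟨mapFn_mem hT hr hue hu.1, mem_normalizer_of_forall fun y hy => ?_⟩, hconj⟩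
    have h1 := hconj ⟨y, hWR hy⟩
    exact hRT _ (h1 ▸ Subtype.mem _) (T.mul_mem (T.mul_mem (mapFn_mem hT hr hue hu.1) (hWT hy))
      (T.inv_mem (mapFn_mem hT hr hue hu.1)))
  -- the group
  let L' : Subgroup (F.autGroup R) := L.subgroupOf (F.autGroup R)
  have hL'n : L'.Normal := ⟨fun B hB γ => hLn γ γ.2 B hB⟩
  obtain ⟨P₁, hP₁⟩ := CfsgLib.Struct76.exists_sylow_inf_normal PR L'
  let ev : L' → MulAut R := fun n => ((n : F.autGroup R) : MulAut R)
  let K' : Subgroup L' :=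
    { carrier := {n | ∀ x : R, (x : Ω) ∈ W → ev n x = x}
      one_mem' := fun x _ => rfl
      mul_mem' := fun {a b} ha hb x hx => by
        show ev a (ev b x) = x
        rw [hb x hx, ha x hx]
      inv_mem' := fun {a} ha x hx => by
        show (ev a)⁻¹ x = x
        conv_lhs => rw [← ha x hx]
        exact MulAut.inv_apply_self _ _ _ }
  have hK'c : ∀ z ∈ K', ∀ n : L', n * z = z * n := fun z hz n =>
    Subtype.ext (Subtype.ext (hcentral (ev z) z.2 hz (ev n) n.2))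
  have : IsMulCommutative K' := ⟨⟨fun a b => Subtype.ext (hK'c b b.2 a)⟩⟩
  -- decomposition
  have hP₁mem : ∀ n : L', n ∈ (P₁ : Subgroup L') ↔ ev n ∈ autInducedBy S R := by
    intro n
    rw [hP₁, Subgroup.mem_subgroupOf, hPR, Subgroup.mem_subgroupOf]
  have hex : ∀ n : (P₁ : Subgroup L'), ∃ k : K', ∃ u ∈ U,
      ∀ x : R, ((ev (n : L') x : R) : Ω) = u * ((ev (k : L') x : R) : Ω) * u⁻¹ := by
    intro n
    obtain ⟨s, hs, hse⟩ := mem_autInducedBy.mp ((hP₁mem _).mp n.2)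
    obtain ⟨δ, hδ, hδe⟩ := hres (ev (n : L')) (n : L').2
    have hδs : δ ∈ autInducedBy S W := mem_autInducedBy.mpr ⟨s, hs, fun x => by rw [hδe, hse]⟩
    have hbig : (autInducedBy S W).subgroupOf (E.autGroup W) = (PW : Subgroup (E.autGroup W)) := by
      refine PW.is_maximal' ((isPGroup_autInducedBy hS W).comap_subtype) ?_
      rw [hPW]
      exact fun x hx => autInducedBy_mono hTS W hx
    have hm : (⟨δ, hδ⟩ : E.autGroup W) ∈ (PW : Subgroup (E.autGroup W)) := hbig.le hδs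
    rw [hPW] at hm
    obtain ⟨u, huT, hue⟩ := mem_autInducedBy.mp hm
    have hu : u ∈ U := ⟨huT, mem_normalizer_of_aut hue⟩
    obtain ⟨c, hc, hce⟩ := hcex u hu
    have hcL : c ∈ L := by
      have := hLgen 1 (Subgroup.one_mem _) u hu c hce
      simpa using this
    refine ⟨⟨(⟨⟨c, hc⟩, hcL⟩ : L')⁻¹ * (n : L'), fun x hx => ?_⟩, u, hu, fun x => ?_⟩
    · show c⁻¹ (ev (n : L') x) = x
      have h1 : c x = ev (n : L') x := Subtype.ext (by
        rw [hce, ← hue ⟨x, hx⟩]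
        exact hδe ⟨x, hx⟩)
      rw [← h1, MulAut.inv_apply_self]
    · show _ = u * ((c⁻¹ (ev (n : L') x) : R) : Ω) * u⁻¹
      rw [← hce, MulAut.apply_inv_self]
  choose π₀ πu hπu hπe using hex
  have huniq : ∀ (k k' : K') (u u' : Ω), u ∈ U → u' ∈ U →
      (∀ x : R, u * ((ev (k : L') x : R) : Ω) * u⁻¹ = u' * ((ev (k' : L') x : R) : Ω) * u'⁻¹) → k = k' := by
    intro k k' u u' hu hu' h
    have hv : u'⁻¹ * u ∈ centralizerIn T W := mem_centralizerIn.mpr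
      ⟨T.mul_mem (T.inv_mem hu'.1) hu.1, fun w hw => by
        have h1 := h ⟨w, hWR hw⟩
        rw [k.2 _ hw, k'.2 _ hw] at h1
        calc w * (u'⁻¹ * u) = u'⁻¹ * (u' * w * u'⁻¹) * u := by group
          _ = u'⁻¹ * u * w := by rw [← h1]; group⟩
    have hvW := TCentric.centralizer_le hTS hW hv
    refine Subtype.ext (Subtype.ext (Subtype.ext (MulEquiv.ext fun x => Subtype.ext ?_)))
    show ((ev (k : L') x : R) : Ω) = ((ev (k' : L') x : R) : Ω)
    have h1 := h x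
    obtain ⟨w, hw, d, hd, he⟩ := hdec _ (ev (k : L') x).2
    have hcomm : (u'⁻¹ * u) * ((ev (k : L') x : R) : Ω) = ((ev (k : L') x : R) : Ω) * (u'⁻¹ * u) := by
      rw [← he, ← mul_assoc, ← (mem_centralizerIn.mp hv).2 w hw, mul_assoc,
        (mem_centralizerIn.mp hd).2 _ hvW, mul_assoc]
    calc ((ev (k : L') x : R) : Ω) = (u'⁻¹ * u * ((ev (k : L') x : R) : Ω)) * (u'⁻¹ * u)⁻¹ := by
          rw [hcomm]; group
      _ = u'⁻¹ * (u * ((ev (k : L') x : R) : Ω) * u⁻¹) * u' := by group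
      _ = _ := by rw [h1]; group
  let π : (P₁ : Subgroup L') →* K' := MonoidHom.mk' π₀ fun m n => by
    refine huniq _ _ (πu (m * n)) (πu m * πu n) (hπu _) (Subgroup.mul_mem _ (hπu m) (hπu n)) fun x => ?_
    rw [← hπe]
    show ((ev (m : L') (ev (n : L') x) : R) : Ω) = _
    obtain ⟨c, hc, hce⟩ := hcex _ (hπu n)
    have h1 : ev (n : L') x = c (ev (π₀ n : L') x) := Subtype.ext ((hπe n x).trans (hce _).symm)
    have h2 : ev (π₀ m : L') (c (ev (π₀ n : L') x)) = c (ev (π₀ m : L') (ev (π₀ n : L') x)) := by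
      have := hcentral (ev (π₀ m : L')) (π₀ m : L').2 (π₀ m).2 c (by
        simpa using hLgen 1 (Subgroup.one_mem _) _ (hπu n) c hce)
      exact (congrArg (fun e : MulAut R => e (ev (π₀ n : L') x)) this).symm
    rw [hπe m, h1, h2, hce]
    show _ = πu m * πu n * ((ev (π₀ m : L') (ev (π₀ n : L') x) : R) : Ω) * (πu m * πu n)⁻¹
    group
  set τ := MonoidHom.transfer π with hτ
  have hτgen : ∀ γ (hγ : γ ∈ F.autGroup R) u, u ∈ U → ∀ c : MulAut R,
      (∀ x : R, ((c x : R) : Ω) = u * x * u⁻¹) → ∀ n : L', ev n = γ * c * γ⁻¹ → τ n = 1 := by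
    intro γ hγ u hu c hc n hn
    classical
    have := Fintype.ofFinite (Quotient (MulAction.orbitRel (Subgroup.zpowers n) (L' ⧸ (P₁ : Subgroup L'))))
    rw [hτ, MonoidHom.transfer_eq_prod_quotient_orbitRel_zpowers_quot]
    refine Finset.prod_eq_one fun q _ => ?_
    set g₀ := q.out.out with hg₀
    set m := Function.minimalPeriod (n • ·) q.out with hm
    have hmem := QuotientGroup.out_conj_pow_minimalPeriod_mem (P₁ : Subgroup L') n q.out
    have hpow : ∀ j : ℕ, ∀ x : R, (((c ^ j) x : R) : Ω) = u ^ j * x * (u ^ j)⁻¹ := by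
      intro j
      induction j with
      | zero => intro x; simp
      | succ j ih =>
        intro x
        rw [pow_succ' c, MulAut.mul_apply, hc, ih, pow_succ' u]
        group
    have hev : ev (g₀⁻¹ * n ^ m * g₀) =
        ((ev g₀)⁻¹ * γ) * c ^ m * ((ev g₀)⁻¹ * γ)⁻¹ := by
      show (ev g₀)⁻¹ * (ev n) ^ m * ev g₀ = _
      rw [hn, conj_pow]
      group
    obtain ⟨v, hv, hve⟩ := hind _ (Subgroup.mul_mem _ (Subgroup.inv_mem _ (g₀ : F.autGroup R).2) hγ) (u ^ m)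
      (Subgroup.pow_mem _ hu m) (c ^ m) (hpow m) (hev ▸ (hP₁mem _).mp hmem)
    refine huniq _ 1 (πu ⟨_, hmem⟩) v (hπu _) hv fun x => ?_
    refine (hπe ⟨_, hmem⟩ x).symm.trans ?_
    show ((ev (g₀⁻¹ * n ^ m * g₀) x : R) : Ω) = v * (x : Ω) * v⁻¹
    rw [hev]
    exact hve x
  have hτ1 : ∀ n : L', τ n = 1 := by
    let Z : Subgroup (MulAut R) := τ.ker.map ((F.autGroup R).subtype.comp L'.subtype)
    have hle : L ≤ Z := by
      refine (Subgroup.closure_le _).mpr ?_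
      rintro _ ⟨γ, hγ, u, hu, c, hc, rfl⟩
      exact ⟨⟨⟨_, hLG (hLgen γ hγ u hu c hc)⟩, hLgen γ hγ u hu c hc⟩,
        hτgen γ hγ u hu c hc _ rfl, rfl⟩
    intro n
    obtain ⟨m, hm, hme⟩ := hle n.2
    rw [show n = m from Subtype.ext (Subtype.ext hme.symm)]
    exact hm
  let n₀ : L' := ⟨⟨k, hLG hk⟩, hk⟩
  have hn₀ : n₀ ∈ K' := hkW
  have hkey : ∀ (j : ℕ) (g₀ : L'), g₀⁻¹ * n₀ ^ j * g₀ ∈ (P₁ : Subgroup L') →
      g₀⁻¹ * n₀ ^ j * g₀ = n₀ ^ j := fun j g₀ _ => by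
    rw [mul_assoc, ← hK'c _ (K'.pow_mem hn₀ j) g₀, inv_mul_cancel_left]
  have h1 := hτ1 n₀
  rw [hτ, MonoidHom.transfer_eq_pow π n₀ hkey] at h1
  have hmem := MonoidHom.transfer_eq_pow_aux (H := (P₁ : Subgroup L')) n₀ hkey
  set i := (P₁ : Subgroup L').index with hi
  have h2 : π ⟨n₀ ^ i, hmem⟩ = ⟨n₀ ^ i, K'.pow_mem hn₀ i⟩ := by
    refine huniq _ _ (πu ⟨n₀ ^ i, hmem⟩) 1 (hπu _) (Subgroup.one_mem _) fun x => ?_
    rw [one_mul, inv_one, mul_one]
    exact (hπe ⟨_, hmem⟩ x).symm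
  have h3 : n₀ ^ i = 1 := congrArg Subtype.val (h2.symm.trans h1)
  obtain ⟨j, hj⟩ : ∃ j : ℕ, k ^ p ^ j = 1 := by
    obtain ⟨l, hl⟩ := IsPGroup.iff_card.mp (hS.to_le hWS)
    refine ⟨l, MulEquiv.ext fun x => ?_⟩
    obtain ⟨w, hw, d, hd, he⟩ := hdec x x.2
    rw [show x = ⟨w, hWR hw⟩ * ⟨d, hCR hd⟩ from Subtype.ext he.symm, map_mul, map_mul]
    set dR : R := ⟨d, hCR hd⟩
    have htW : ((dR⁻¹ * k dR : R) : Ω) ∈ W := (hLM hk).2 dR hd
    have hfix : ∀ (m : ℕ) (y : R), (y : Ω) ∈ W → (k ^ m) y = y := by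
      intro m
      induction m with
      | zero => intro y _; rfl
      | succ m ih => intro y hy; rw [pow_succ, MulAut.mul_apply, hkW y hy, ih y hy]
    have hpow : ∀ m : ℕ, (k ^ m) dR = dR * (dR⁻¹ * k dR) ^ m := by
      intro m
      induction m with
      | zero => simp
      | succ m ih =>
        have hd' : k dR = dR * (dR⁻¹ * k dR) := (mul_inv_cancel_left _ _).symm
        rw [pow_succ, MulAut.mul_apply]
        conv_lhs => rw [hd']
        rw [map_mul, ih, hfix m _ htW, mul_assoc, ← pow_succ]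
    rw [hfix _ _ hw, hpow]
    have h5 : (dR⁻¹ * k dR) ^ p ^ l = 1 := by
      have : Finite W := finite_of_le hWS
      have h6 : (⟨_, htW⟩ : W) ^ p ^ l = 1 := by rw [← hl]; exact pow_card_eq_one'
      exact Subtype.ext (by simpa using congrArg Subtype.val h6)
    rw [h5, mul_one, MulAut.one_apply, MulAut.one_apply]
  have h4 : n₀ ^ p ^ j = 1 := Subtype.ext (Subtype.ext hj)
  have hco : Nat.Coprime i (p ^ j) :=
    ((Fact.out : p.Prime).coprime_iff_not_dvd.mpr P₁.not_dvd_index).symm.pow_right j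
  have h5 : n₀ = 1 := orderOf_eq_one_iff.mp
    (Nat.eq_one_of_dvd_coprimes hco (orderOf_dvd_of_pow_eq_one h3) (orderOf_dvd_of_pow_eq_one h4))
  exact congrArg (fun n : L' => ev n) h5

/-! ### Transport -/

/-- The normal closure of `Aut_T(Q)` in `Aut_E(Q)`. -/
def baseGroup (E : FusionSystem T) (Q : Subgroup Ω) : Subgroup (MulAut Q) :=
  Subgroup.closure {α | ∃ δ ∈ E.autGroup Q, ∃ c ∈ autInducedBy T Q, α = δ * c * δ⁻¹}

omit [Finite S] in
theorem baseGroup_le (hQT : Q ≤ T) : baseGroup E Q ≤ E.autGroup Q := by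
  refine (Subgroup.closure_le _).mpr ?_
  rintro _ ⟨δ, hδ, c, hc, rfl⟩
  exact Subgroup.mul_mem _ (Subgroup.mul_mem _ hδ (autInducedBy_le_autGroup hQT hc)) (Subgroup.inv_mem _ hδ)

/-- The automorphisms in `baseGroup E Q` extend to maps moving `a` by an exact cocycle. -/
theorem exists_lift (hS : IsPGroup p S) (hE : E.IsNormalIn F p) (hQ : TCentric F T Q) {a : Ω}
    (ha : a ∈ centralizerIn S T) :
    ∃ w : MulAut Q → Q,
      (∀ α ∈ baseGroup E Q, (w α : Ω) ∈ Subgroup.centralizer (Q : Set Ω) ∧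
        ∃ g, MapFn F (Q ⊔ Subgroup.zpowers a) g ∧ (∀ x : Q, g x = ((α x : Q) : Ω)) ∧ g a = a * w α) ∧
      (∀ α ∈ baseGroup E Q, ∀ β ∈ baseGroup E Q, w (α * β) = w α * α (w β)) ∧
      ∀ c ∈ autInducedBy T Q, w c = 1 := by
  obtain ⟨⟨hEs, hF, hEi⟩, -⟩ := id hE
  have hT := hEi.2.1
  have hEF := hEi.1
  have hTS := hT.1
  have hQT := hQ.le
  have hQS := hQT.trans hTS
  obtain ⟨W, θ, hWn, hθ, hθW, hθN⟩ := exists_fullyNormalized_mapFn hS hF hQS
  set N := normalizerIn S Q with hN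
  have hQN : Q ≤ N := le_normalizerIn hQS
  have haQ : a ∈ centralizerIn S Q :=
    ⟨ha.1, Subgroup.centralizer_le (SetLike.coe_subset_coe.mpr hQT) ha.2⟩
  have haN : a ∈ N := centralizerIn_le_normalizerIn haQ
  have hWc : TCentric F T W := hQ.of_conj hT ((hθ.mono hQN).isConj hθW)
  obtain ⟨M, -, hM⟩ := hθ.exists_image
  obtain ⟨θi, hθi, -, hθi₁, hθi₂⟩ := hθ.exists_inv hM
  have hWM : W ≤ M := fun y hy => by
    obtain ⟨x, hx, rfl⟩ := exists_of_image hθW hy; exact mem_of_image hM (hQN hx)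
  have hθiW : ∀ y ∈ W, θi y ∈ Q := fun y hy => by
    obtain ⟨x, hx, rfl⟩ := exists_of_image hθW hy; rw [hθi₁ x (hQN hx)]; exact hx
  obtain ⟨R, hR⟩ : ∃ R, R = W ⊔ centralizerIn S W := ⟨_, rfl⟩
  obtain ⟨hLG, hstab, hinj⟩ := liftGroup_spec hS hE hWc hWn hR
  have hWR : W ≤ R := hR.symm ▸ le_sup_left
  have hCR : centralizerIn S W ≤ R := hR.symm ▸ le_sup_right
  have hRS : R ≤ S := hR.le.trans (sup_le (hWc.le.trans hTS) centralizerIn_le)
  have := finite_of_le hRS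
  have hθQ : ∀ x : Q, θ x ∈ R := fun x => hWR (mem_of_image hθW x.2)
  have hb : θ a ∈ centralizerIn S W := hθ.mem_centralizerIn hQN hθW haN haQ
  -- lifting automorphisms
  let Rel : MulAut Q → MulAut R → Prop := fun α B =>
    ∀ x : Q, ((B ⟨θ x, hθQ x⟩ : R) : Ω) = θ ((α x : Q) : Ω)
  let A' : Subgroup (MulAut Q) :=
    { carrier := {α | ∃ B ∈ liftGroup F T W R, Rel α B}
      one_mem' := ⟨1, Subgroup.one_mem _, fun x => rfl⟩
      mul_mem' := by
        rintro α β ⟨A, hA, hAe⟩ ⟨B, hB, hBe⟩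
        refine ⟨A * B, Subgroup.mul_mem _ hA hB, fun x => ?_⟩
        rw [MulAut.mul_apply, MulAut.mul_apply, ← hAe]
        congr 2
        exact Subtype.ext (hBe x)
      inv_mem' := by
        rintro α ⟨A, hA, hAe⟩
        refine ⟨A⁻¹, Subgroup.inv_mem _ hA, fun x => ?_⟩
        have h1 := hAe (α⁻¹ x)
        rw [MulAut.apply_inv_self] at h1
        have h2 : A ⟨θ ((α⁻¹ x : Q) : Ω), hθQ _⟩ = ⟨θ x, hθQ x⟩ := Subtype.ext h1
        rw [← h2, MulAut.inv_apply_self] }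
  have hA' : baseGroup E Q ≤ A' := by
    refine (Subgroup.closure_le _).mpr ?_
    rintro _ ⟨δ, hδ, c, hc, rfl⟩
    obtain ⟨t, ht, hte⟩ := mem_autInducedBy.mp hc
    have htN : t ∈ N := ⟨hTS ht, mem_normalizer_of_aut hte⟩
    obtain ⟨d, hd, hdr, hde⟩ := exists_mapFn_of_aut hQT hδ
    have hdF := mapFn_of_subsystem hEF hd
    have hδ₁ : MapFn F W (θ ∘ d ∘ θi) := ((hθi.mono hWM).comp hdF hθiW).comp (hθ.mono hQN)
      fun y hy => mem_of_image hdr (hθiW y hy)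
    have hWS := hWc.le.trans hTS
    have hδ₁r := hδ₁.image_eq_of_maps hWS
      (fun y hy => mem_of_image hθW (mem_of_image hdr (hθiW y hy))) le_rfl
    obtain ⟨D, hD, hDe⟩ := hδ₁.extend_centralizer hS hF
      (isFullyCentralized_of_fullyNormalized hS hF hWn) hδ₁r
    have hDW : D '' W = (W : Set Ω) := (Set.image_congr fun y hy => hDe y hy).trans hδ₁r
    have hDr : D '' R = (R : Set Ω) := by
      have hD' : MapFn F R D := hR ▸ hD
      refine hD'.image_eq_of_maps hRS ?_ le_rfl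
      rw [hR]
      exact hD.maps_sup (fun y hy => Subgroup.mem_sup_left (mem_of_image hDW hy))
        fun y hy => Subgroup.mem_sup_right
          (hD.mem_centralizerIn le_sup_left hDW (Subgroup.mem_sup_right hy) hy)
    obtain ⟨γ, hγ, hγe⟩ := (show MapFn F R D from hR ▸ hD).exists_aut hDr
    set v := θ t with hv
    have hvU : v ∈ normalizerIn T W := ⟨mapFn_mem hT hθ htN ht, (hθN t htN).2⟩
    have hvR : v ∈ Subgroup.normalizer (R : Set Ω) := by
      refine mem_normalizer_of_forall fun y hy => ?_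
      rw [hR] at hy ⊢
      exact (mapFn_conj (F := F) (sup_le hWS centralizerIn_le) (hTS hvU.1)).maps_sup
        (fun w hw => Subgroup.mem_sup_left (conj_mem_of_normalizer hvU.2 hw))
        (fun w hw => Subgroup.mem_sup_right (mem_centralizerIn.mpr
          ⟨S.mul_mem (S.mul_mem (hTS hvU.1) hw.1) (S.inv_mem (hTS hvU.1)), fun x hx => by
            have h1 := (mem_centralizerIn.mp hw).2 _ ((Subgroup.mem_normalizer_iff''.mp hvU.2 x).mp hx)
            calc x * (v * w * v⁻¹) = v * (v⁻¹ * x * v * w) * v⁻¹ := by group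
              _ = v * w * v⁻¹ * x := by rw [h1]; group⟩)) y hy
    obtain ⟨c', -, hc'⟩ := exists_autInducedBy (K := S) (hTS hvU.1) hvR
    refine ⟨γ * c' * γ⁻¹, Subgroup.subset_closure ⟨γ, hγ, v, hvU, c', hc', rfl⟩, fun x => ?_⟩
    have hγθ : ∀ y : Q, ((γ ⟨θ y, hθQ y⟩ : R) : Ω) = θ ((δ y : Q) : Ω) := fun y => by
      rw [hγe, hDe _ (mem_of_image hθW y.2)]
      show θ (d (θi (θ y))) = _
      rw [hθi₁ _ (hQN y.2), hde]
    obtain ⟨y, rfl⟩ := δ.surjective x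
    have h1 : (⟨θ ((δ y : Q) : Ω), hθQ _⟩ : R) = γ ⟨θ y, hθQ y⟩ := Subtype.ext (hγθ y).symm
    simp only [MulAut.mul_apply, MulAut.inv_apply_self, h1]
    have h2 : c' ⟨θ y, hθQ y⟩ = ⟨θ ((c y : Q) : Ω), hθQ _⟩ := Subtype.ext (by
      rw [hc']
      show _ = θ ((c y : Q) : Ω)
      rw [hte, hθ.map_conj htN (hQN y.2)])
    rw [h2, hγθ]
  have huniq : ∀ α (A B : MulAut R), A ∈ liftGroup F T W R → B ∈ liftGroup F T W R →
      Rel α A → Rel α B → A = B := by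
    intro α A B hA hB hAe hBe
    refine (inv_mul_eq_one.mp (hinj (B⁻¹ * A) (Subgroup.mul_mem _ (Subgroup.inv_mem _ hB) hA) ?_)).symm
    intro x hx
    obtain ⟨q, hq, hqx⟩ := exists_of_image hθW hx
    have hxe : x = ⟨θ q, hθQ ⟨q, hq⟩⟩ := Subtype.ext hqx.symm
    have h1 : A x = B x := Subtype.ext (by rw [hxe]; exact (hAe ⟨q, hq⟩).trans (hBe ⟨q, hq⟩).symm)
    rw [MulAut.mul_apply, h1, MulAut.inv_apply_self]
  classical
  let bR : R := ⟨θ a, hCR hb⟩
  have hval : ∀ B ∈ liftGroup F T W R, ((bR⁻¹ * B bR : R) : Ω) ∈ W := fun B hB => (hstab B hB bR hb).1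
  let w : MulAut Q → Q := fun α => if h : ∃ B ∈ liftGroup F T W R, Rel α B then
    ⟨θi ((bR⁻¹ * h.choose bR : R) : Ω), hθiW _ (hval _ h.choose_spec.1)⟩ else 1
  have hw : ∀ α B, B ∈ liftGroup F T W R → Rel α B → ((B bR : R) : Ω) = θ a * θ (w α) ∧
      (w α : Ω) = θi ((bR⁻¹ * B bR : R) : Ω) := by
    intro α B hB hBe
    have h : ∃ B ∈ liftGroup F T W R, Rel α B := ⟨B, hB, hBe⟩
    have hwe : (w α : Ω) = θi ((bR⁻¹ * B bR : R) : Ω) := by
      simp only [w, dif_pos h]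
      rw [huniq α _ B h.choose_spec.1 hB h.choose_spec.2 hBe]
    refine ⟨?_, hwe⟩
    rw [hwe, hθi₂ _ (hWM (hval B hB))]
    show _ = (bR : Ω) * _
    rw [Subgroup.coe_mul, Subgroup.coe_inv, mul_inv_cancel_left]
  have hwc : ∀ α ∈ baseGroup E Q, (w α : Ω) ∈ Subgroup.centralizer (Q : Set Ω) := by
    intro α hα
    obtain ⟨B, hB, hBe⟩ := hA' hα
    obtain ⟨-, hwe⟩ := hw α B hB hBe
    intro x hx
    have hC : ((bR⁻¹ * B bR : R) : Ω) ∈ centralizerIn S W :=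
      (centralizerIn S W).mul_mem ((centralizerIn S W).inv_mem hb) (hstab B hB bR hb).2
    have hwM := hWM (hval B hB)
    have h1 := (mem_centralizerIn.mp hC).2 (θ x) (mem_of_image hθW hx)
    have hxM := mem_of_image hM (hQN hx)
    have h2 := congrArg θi h1
    rwa [hθi.map_mul hxM hwM, hθi.map_mul hwM hxM, hθi₁ x (hQN hx), ← hwe] at h2
  refine ⟨w, fun α hα => ⟨hwc α hα, ?_⟩, ?_, ?_⟩
  · obtain ⟨B, hB, hBe⟩ := hA' hα
    obtain ⟨f, hf, -, hfe⟩ := exists_mapFn_of_aut hRS (hLG hB)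
    have hle : Q ⊔ Subgroup.zpowers a ≤ N := sup_le hQN (Subgroup.zpowers_le.mpr haN)
    have hm1 : ∀ x ∈ Q ⊔ Subgroup.zpowers a, θ x ∈ R := (hθ.mono hle).maps_sup
      (fun x hx => hθQ ⟨x, hx⟩) fun x hx => (Subgroup.zpowers_le.mpr (hCR hb))
        (mapFn_zpowers hθ haN x hx)
    have hfb : f (θ a) = θ a * θ (w α) := by rw [← (hw α B hB hBe).1]; exact hfe bR
    have haM := mem_of_image hM haN
    have hwM : θ (w α : Ω) ∈ M := mem_of_image hM (hQN (w α).2)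
    have hm2 : ∀ x ∈ Q ⊔ Subgroup.zpowers a, f (θ x) ∈ M :=
      ((hθ.mono hle).comp hf hm1).maps_sup
        (fun x hx => by
          show f (θ x) ∈ M
          rw [hfe ⟨θ x, hθQ ⟨x, hx⟩⟩, hBe ⟨x, hx⟩]
          exact mem_of_image hM (hQN (Subtype.mem _)))
        fun x hx => (Subgroup.zpowers_le.mpr (show f (θ a) ∈ M from hfb ▸ M.mul_mem haM hwM))
          (mapFn_zpowers ((hθ.mono hle).comp hf hm1) (Subgroup.mem_sup_right (Subgroup.mem_zpowers a)) x hx)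
    refine ⟨θi ∘ f ∘ θ, ((hθ.mono hle).comp hf hm1).comp hθi hm2, fun x => ?_, ?_⟩
    · show θi (f (θ x)) = _
      rw [hfe ⟨θ x, hθQ x⟩, hBe x, hθi₁ _ (hQN (Subtype.mem _))]
    · show θi (f (θ a)) = _
      rw [hfb, hθi.map_mul haM hwM, hθi₁ a haN, hθi₁ _ (hQN (w α).2)]
  · intro α hα β hβ
    obtain ⟨A, hA, hAe⟩ := hA' hα
    obtain ⟨B, hB, hBe⟩ := hA' hβ
    have hAB : Rel (α * β) (A * B) := fun x => by
      rw [MulAut.mul_apply, MulAut.mul_apply, ← hAe]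
      congr 2
      exact Subtype.ext (hBe x)
    have h1 := (hw _ _ (Subgroup.mul_mem _ hA hB) hAB).1
    have h2 : B bR = bR * ⟨θ (w β), hθQ _⟩ := Subtype.ext (hw β B hB hBe).1
    rw [MulAut.mul_apply, h2, map_mul, Subgroup.coe_mul, (hw α A hA hAe).1, hAe, mul_assoc] at h1
    have h3 := mul_left_cancel h1
    rw [← hθ.map_mul (hQN (w α).2) (hQN (Subtype.mem _))] at h3
    exact Subtype.ext (hθ.injOn (hQN (Subtype.mem _)) (hQN (Q.mul_mem (w α).2 (Subtype.mem _))) h3.symm)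
  · intro c hc
    have hcb : c ∈ baseGroup E Q := Subgroup.subset_closure ⟨1, Subgroup.one_mem _, c, hc, by group⟩
    obtain ⟨t, ht, hte⟩ := mem_autInducedBy.mp hc
    have htN : t ∈ N := ⟨hTS ht, mem_normalizer_of_aut hte⟩
    set v := θ t with hv
    have hvU : v ∈ normalizerIn T W := ⟨mapFn_mem hT hθ htN ht, (hθN t htN).2⟩
    have hvR : v ∈ Subgroup.normalizer (R : Set Ω) := by
      refine mem_normalizer_of_forall fun y hy => ?_
      rw [hR] at hy ⊢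
      exact (mapFn_conj (F := F) (sup_le (hWc.le.trans hTS) centralizerIn_le) (hTS hvU.1)).maps_sup
        (fun w hw => Subgroup.mem_sup_left (conj_mem_of_normalizer hvU.2 hw))
        (fun w hw => Subgroup.mem_sup_right (mem_centralizerIn.mpr
          ⟨S.mul_mem (S.mul_mem (hTS hvU.1) hw.1) (S.inv_mem (hTS hvU.1)), fun x hx => by
            have h1 := (mem_centralizerIn.mp hw).2 _ ((Subgroup.mem_normalizer_iff''.mp hvU.2 x).mp hx)
            calc x * (v * w * v⁻¹) = v * (v⁻¹ * x * v * w) * v⁻¹ := by group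
              _ = v * w * v⁻¹ * x := by rw [h1]; group⟩)) y hy
    obtain ⟨c', hc'G, hc'⟩ := exists_autInducedBy (K := S) (hTS hvU.1) hvR
    have hc'L : c' ∈ liftGroup F T W R :=
      Subgroup.subset_closure ⟨1, Subgroup.one_mem _, v, hvU, c', hc', by group⟩
    have hrel : Rel c c' := fun x => by
      rw [hc', hte, hθ.map_conj htN (hQN x.2)]
    obtain ⟨-, hwe⟩ := hw c c' hc'L hrel
    have h1 : c' bR = bR := Subtype.ext (by
      rw [hc']
      show v * θ a * v⁻¹ = θ a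
      rw [hv, ← hθ.map_conj htN haN, (mem_centralizerIn.mp ha).2 t ht, mul_inv_cancel_right])
    rw [h1, inv_mul_cancel] at hwe
    refine Subtype.ext ?_
    rw [hwe]
    exact hθi.map_one

/-- An element of `Z(Q)` by which a map fixing a suitable `Y ≤ Q` moves `a` is fixed by `baseGroup E Q`. -/
theorem amb_fixed (hS : IsPGroup p S) (hE : E.IsNormalIn F p) (hQ : TCentric F T Q) {a : Ω}
    (ha : a ∈ centralizerIn S T) (hYQ : Y ≤ Q) (hY : TCentric F T Y)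
    (hYE : ∀ δ ∈ E.autGroup Q, ∀ x : Q, (x : Ω) ∈ Y → ((δ x : Q) : Ω) ∈ Y)
    (hYU : normalizerIn T Q ≤ Subgroup.normalizer (Y : Set Ω))
    (hZ : ∀ x ∈ Q, x ∈ Subgroup.centralizer (Q : Set Ω) → x ∈ Y) {t : Ω} (htQ : t ∈ Q)
    (htC : t ∈ Subgroup.centralizer (Q : Set Ω)) {h : Ω → Ω} (hh : MapFn F (Y ⊔ Subgroup.zpowers a) h)
    (hhY : ∀ y ∈ Y, h y = y) (hha : h a = a * t) :
    ∀ α ∈ baseGroup E Q, α ⟨t, htQ⟩ = ⟨t, htQ⟩ := by
  obtain ⟨⟨hEs, hF, hEi⟩, -⟩ := id hE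
  have hT := hEi.2.1
  have hEF := hEi.1
  have hTS := hT.1
  have hQT := hQ.le
  set X := centralizerIn S T with hX
  have haY : a ∈ centralizerIn S Y :=
    ⟨ha.1, Subgroup.centralizer_le (SetLike.coe_subset_coe.mpr hY.le) ha.2⟩
  intro α hα
  let A : Subgroup (MulAut Q) :=
    { carrier := {α | α ⟨t, htQ⟩ = ⟨t, htQ⟩}
      one_mem' := rfl
      mul_mem' := fun {a b} ha hb => by
        show a (b _) = _
        rw [hb, ha]
      inv_mem' := fun {a} ha => by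
        show a⁻¹ _ = _
        conv_lhs => rw [← ha]
        exact MulAut.inv_apply_self _ _ _ }
  refine (show baseGroup E Q ≤ A from (Subgroup.closure_le _).mpr ?_) hα
  rintro _ ⟨δ, hδ, c, hc, rfl⟩
  obtain ⟨u, hu, hue⟩ := mem_autInducedBy.mp hc
  -- transport `h` by `δ⁻¹`
  obtain ⟨d, hd, hdr, hde⟩ := exists_mapFn_of_aut hQT (Subgroup.inv_mem _ hδ)
  obtain ⟨g, hg, hgQ, hgz, -⟩ := hasCocycle hS hE hd hQ
  obtain ⟨M, -, hM⟩ := hg.exists_image
  obtain ⟨gi, hgi, -, hgi₁, hgi₂⟩ := hg.exists_inv hM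
  have haX : a ∈ Q ⊔ X := Subgroup.mem_sup_right ha
  set z := a⁻¹ * g a with hz
  have hzQ : z ∈ Q := cocycle_mem_image hT hQ (mapFn_of_subsystem hEF hd) hdr hg hgQ ha (hgz a ha)
  have haQ : a ∈ centralizerIn S Q :=
    ⟨ha.1, Subgroup.centralizer_le (SetLike.coe_subset_coe.mpr hQT) ha.2⟩
  have hgr : g '' Q = (Q : Set Ω) := (Set.image_congr hgQ).trans hdr
  have hzC : z ∈ Subgroup.centralizer (Q : Set Ω) :=
    ((centralizerIn S Q).mul_mem ((centralizerIn S Q).inv_mem haQ)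
      (hg.mem_centralizerIn le_sup_left hgr haX haQ)).2
  set z' : Q := (δ ⟨z, hzQ⟩)⁻¹ with hz'
  have hz'C : (z' : Ω) ∈ Subgroup.centralizer (Q : Set Ω) := by
    intro x hx
    have h1 : (δ⁻¹ ⟨x, hx⟩ : Q) * ⟨z, hzQ⟩ = ⟨z, hzQ⟩ * δ⁻¹ ⟨x, hx⟩ := Subtype.ext (hzC _ (Subtype.mem _))
    have h2 := congrArg δ h1
    rw [map_mul, map_mul, MulAut.apply_inv_self] at h2
    have h3 : (⟨x, hx⟩ : Q) * z' = z' * ⟨x, hx⟩ := Commute.inv_right (show Commute (⟨x, hx⟩ : Q) (δ ⟨z, hzQ⟩) from h2)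
    exact congrArg Subtype.val h3
  have hgz' : g z' = z⁻¹ := by
    rw [hgQ _ z'.2, hde, hz', map_inv, MulAut.inv_apply_self]
    rfl
  have haz : g (a * z') = a := by
    rw [hg.map_mul haX (Subgroup.mem_sup_left z'.2), hgz', show g a = a * z by rw [hz, mul_inv_cancel_left],
      mul_inv_cancel_right]
  have haz'D : a * z' ∈ Q ⊔ X := Subgroup.mul_mem _ haX (Subgroup.mem_sup_left z'.2)
  have haM : a ∈ M := haz ▸ mem_of_image hM haz'D
  have hgia : gi a = a * z' := by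
    conv_lhs => rw [← haz]
    exact hgi₁ _ haz'D
  have hgY : ∀ y ∈ Y, ∃ y' ∈ Y, g y' = y := fun y hy =>
    ⟨_, hYE δ hδ ⟨y, hYQ hy⟩ hy, by rw [hgQ _ (Subtype.mem _), hde, MulAut.inv_apply_self]⟩
  have hle : Y ⊔ Subgroup.zpowers a ≤ M := sup_le (fun y hy => by
    obtain ⟨y', hy', rfl⟩ := hgY y hy
    exact mem_of_image hM (Subgroup.mem_sup_left (hYQ hy'))) (Subgroup.zpowers_le.mpr haM)
  have hz'Y : (z' : Ω) ∈ Y := hZ _ z'.2 hz'C
  have hm1 : ∀ y ∈ Y ⊔ Subgroup.zpowers a, gi y ∈ Y ⊔ Subgroup.zpowers a :=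
    (hgi.mono hle).maps_sup (fun y hy => by
      obtain ⟨y', hy', rfl⟩ := hgY y hy
      rw [hgi₁ y' (Subgroup.mem_sup_left (hYQ hy'))]
      exact Subgroup.mem_sup_left hy') fun y hy => by
      have := mapFn_zpowers hgi haM y hy
      rw [hgia] at this
      exact (Subgroup.zpowers_le.mpr (Subgroup.mul_mem _ (Subgroup.mem_sup_right (Subgroup.mem_zpowers a))
        (Subgroup.mem_sup_left hz'Y))) this
  have hm2 : ∀ y ∈ Y ⊔ Subgroup.zpowers a, h y ∈ Q ⊔ X := hh.maps_sup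
    (fun y hy => by rw [hhY y hy]; exact Subgroup.mem_sup_left (hYQ hy))
    fun y hy => (Subgroup.zpowers_le.mpr (show h a ∈ Q ⊔ X from hha ▸
      Subgroup.mul_mem _ haX (Subgroup.mem_sup_left htQ)))
      (mapFn_zpowers hh (Subgroup.mem_sup_right (Subgroup.mem_zpowers a)) y hy)
  have hh' : MapFn F (Y ⊔ Subgroup.zpowers a) (g ∘ h ∘ gi) :=
    ((hgi.mono hle).comp hh hm1).comp hg fun y hy => hm2 _ (hm1 y hy)
  have hh'Y : ∀ y ∈ Y, (g ∘ h ∘ gi) y = y := by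
    intro y hy
    obtain ⟨y', hy', rfl⟩ := hgY y hy
    show g (h (gi (g y'))) = g y'
    rw [hgi₁ y' (Subgroup.mem_sup_left (hYQ hy')), hhY y' hy']
  set t' : Q := δ⁻¹ ⟨t, htQ⟩ with ht'
  have hgt : g t = t' := by rw [hgQ t htQ, hde ⟨t, htQ⟩]
  have hh'a : (g ∘ h ∘ gi) a = a * t' := by
    show g (h (gi a)) = _
    rw [hgia, hh.map_mul (Subgroup.mem_sup_right (Subgroup.mem_zpowers a)) (Subgroup.mem_sup_left hz'Y),
      hha, hhY _ hz'Y, hg.map_mul (Subgroup.mul_mem _ haX (Subgroup.mem_sup_left htQ))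
      (Subgroup.mem_sup_left z'.2), hg.map_mul haX (Subgroup.mem_sup_left htQ), hgt, hgz',
      show g a = a * z by rw [hz, mul_inv_cancel_left], mul_assoc a z, ← hzC _ t'.2, ← mul_assoc,
      mul_inv_cancel_right]
  have key := commute_of_fix hS hF hT hY ⟨hu, hYU ⟨hu, mem_normalizer_of_aut hue⟩⟩ haY hh' hh'Y hh'a
  show (δ * c * δ⁻¹) ⟨t, htQ⟩ = ⟨t, htQ⟩
  rw [MulAut.mul_apply, MulAut.mul_apply, ← ht', show c t' = t' from Subtype.ext ((hue t').trans key),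
    ht', MulAut.apply_inv_self]

end CfsgLib.Fusion
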