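import Cfsg.Agent.Lib.Fusion.GroupHyperfocal
import Cfsg.Agent.Lib.Fusion.Realized

/-!
# The subsystem of a normal subgroup
-/

namespace CfsgLib.Fusion

open Cfsg Cfsg.FusionSystem
open scoped Pointwise

variable {G : Type*} [Group G] [Finite G] {p : ℕ} [Fact p.Prime] (S : Sylow p G) (H : Subgroup G) [H.Normal]

theorem exists_sylow_inf : ∃ T : Sylow p H, (T : Subgroup H) = ((S : Subgroup G) ⊓ H).subgroupOf H :=
  (exists_sylow_iff inf_le_right).mpr (card_sylow_inf_normal S H)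

omit [Finite G] [Fact p.Prime] in
theorem normalizer_sylow_inf {g : G} (hg : g ∈ Subgroup.normalizer (((S : Subgroup G) ⊓ H : Subgroup G) : Set G))
    {x : G} (hx : x ∈ (S : Subgroup G) ⊓ H) : g * x * g⁻¹ ∈ (S : Subgroup G) ⊓ H :=
  (Subgroup.mem_normalizer_iff.mp hg x).mp hx

theorem stronglyClosed_inf_normal :
    (groupFusionSystem (S : Subgroup G)).StronglyClosed ((S : Subgroup G) ⊓ H) := by
  refine ⟨inf_le_left, fun R hR φ hφ x => ?_⟩
  obtain ⟨-, hS, g, hg⟩ := hφ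
  refine ⟨hS x, ?_⟩
  rw [hg]
  exact Subgroup.Normal.conj_mem inferInstance _ (hR x.2).2 g

theorem saturated_fusionSystemOfSubgroup :
    (fusionSystemOfSubgroup H ((S : Subgroup G) ⊓ H) inf_le_right).IsSaturated p := by
  obtain ⟨T, hT⟩ := exists_sylow_inf S H
  refine saturated_of_realized (ι := Subgroup.inclusion (inf_le_right : (S : Subgroup G) ⊓ H ≤ H)) ?_ T ?_
  · refine ⟨Subgroup.inclusion_injective _, fun P hP φ hφ => ⟨?_, ?_⟩⟩
    · rintro ⟨-, -, g, hg, hge⟩
      exact ⟨⟨g, hg⟩, fun x => Subtype.ext (hge x)⟩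
    · rintro ⟨g, hge⟩
      exact ⟨hP, hφ, g, g.2, fun x => congrArg Subtype.val (hge x)⟩
  · rw [hT]
    ext x
    exact ⟨fun hx => ⟨⟨x, hx⟩, rfl⟩, fun ⟨y, hy⟩ => hy ▸ y.2⟩

/-- The Frattini factorization of an element of `G`. -/
theorem exists_mul_of_normal (g : G) :
    ∃ k ∈ Subgroup.normalizer (((S : Subgroup G) ⊓ H : Subgroup G) : Set G), ∃ h ∈ H, g = k * h := by
  obtain ⟨T, hT⟩ := exists_sylow_inf S H
  have htop := T.normalizer_sup_eq_top
  rw [hT, Subgroup.map_subgroupOf_eq_of_le inf_le_right] at htop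
  have hg : g ∈ Subgroup.normalizer (((S : Subgroup G) ⊓ H : Subgroup G) : Set G) ⊔ H :=
    htop ▸ Subgroup.mem_top g
  rw [Subgroup.mem_sup_of_normal_right] at hg
  obtain ⟨k, hk, h, hh, rfl⟩ := hg
  exact ⟨k, hk, h, hh, rfl⟩

/-- An element of `N_H(T)` can be corrected by `C_H(T)` to normalize `C_S(T)`. -/
theorem exists_correct {h : G} (hh : h ∈ H)
    (hN : h ∈ Subgroup.normalizer (((S : Subgroup G) ⊓ H : Subgroup G) : Set G)) :
    ∃ y ∈ H, y ∈ Subgroup.centralizer (((S : Subgroup G) ⊓ H : Subgroup G) : Set G) ∧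
      ∀ c ∈ centralizerIn (S : Subgroup G) ((S : Subgroup G) ⊓ H),
        y * h * c * (y * h)⁻¹ ∈ centralizerIn (S : Subgroup G) ((S : Subgroup G) ⊓ H) := by
  set T := (S : Subgroup G) ⊓ H with hTdef
  set C := centralizerIn (S : Subgroup G) T with hC
  set D := H ⊓ Subgroup.centralizer (T : Set G) with hD
  set Y := C ⊔ D with hY
  have hYC : Y ≤ Subgroup.centralizer (T : Set G) := sup_le inf_le_right inf_le_right
  have hSN : NormalizerSylow S T := by
    refine (group_fullyNormalized_iff inf_le_left).mp ⟨inf_le_left, fun Q _ => ?_⟩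
    have hS : normalizerIn (S : Subgroup G) T = S := by
      refine le_antisymm inf_le_left fun s hs => ⟨hs, mem_normalizer_of_forall fun x hx => ?_⟩
      exact ⟨(S : Subgroup G).mul_mem ((S : Subgroup G).mul_mem hs hx.1) ((S : Subgroup G).inv_mem hs),
        Subgroup.Normal.conj_mem inferInstance x hx.2 s⟩
    rw [hS]
    exact Subgroup.card_le_of_le inf_le_left
  have hcard : Nat.card C = p ^ (Nat.card Y).factorization p := by
    refine le_antisymm (card_le_sylowCard le_sup_left (isPGroup_centralizerIn S T)) ?_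
    rw [centralizerSylow hSN]
    exact Nat.pow_le_pow_right (Fact.out : p.Prime).pos
      ((Nat.factorization_le_iff_dvd Nat.card_pos.ne' Nat.card_pos.ne').mpr (Subgroup.card_dvd_of_le hYC) p)
  have hconj : C.map (MulAut.conj h).toMonoidHom ≤ Y := by
    rintro _ ⟨c, hc, rfl⟩
    show h * c * h⁻¹ ∈ Y
    have h1 : h * c * h⁻¹ ∈ Subgroup.centralizer (T : Set G) := conj_mem_centralizer hN hc.2
    have h3 : c⁻¹ * (h * c * h⁻¹) ∈ D := by
      refine ⟨?_, Subgroup.mul_mem _ (Subgroup.inv_mem _ hc.2) h1⟩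
      have := H.mul_mem (Subgroup.Normal.conj_mem (inferInstance : H.Normal) h hh c⁻¹) (H.inv_mem hh)
      rw [inv_inv] at this
      simpa [mul_assoc] using this
    have := Y.mul_mem (Subgroup.mem_sup_left hc) (Subgroup.mem_sup_right h3)
    rwa [mul_inv_cancel_left] at this
  obtain ⟨z, hz, hzC⟩ := exists_conj_into hconj ((isPGroup_centralizerIn S T).map _) le_sup_left hcard
  have hDN : C ≤ Subgroup.normalizer (D : Set G) := fun c hc => by
    refine mem_normalizer_of_forall fun x hx => ⟨Subgroup.Normal.conj_mem inferInstance x hx.1 c, ?_⟩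
    exact conj_mem_centralizer (Subgroup.centralizer_le_normalizer _ hc.2) hx.2
  have hset : z ∈ ((C : Set G) * (D : Set G)) := by
    have he := Subgroup.coe_mul_of_left_le_normalizer_right C D hDN
    exact (Set.ext_iff.mp he z).mp hz
  obtain ⟨c₀, hc₀, y, hy, rfl⟩ := hset
  refine ⟨y, hy.1, hy.2, fun c hc => ?_⟩
  have := C.mul_mem (C.mul_mem (C.inv_mem hc₀) (hzC _ ⟨c, hc, rfl⟩)) hc₀
  have e : c₀⁻¹ * (c₀ * y * ((MulAut.conj h).toMonoidHom c) * (c₀ * y)⁻¹) * c₀ = y * h * c * (y * h)⁻¹ := by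
    show c₀⁻¹ * (c₀ * y * (h * c * h⁻¹) * (c₀ * y)⁻¹) * c₀ = _
    group
  exact e ▸ this

/-- The fusion system of a normal subgroup is a normal subsystem. -/
theorem group_normal_subsystem :
    (fusionSystemOfSubgroup H ((S : Subgroup G) ⊓ H) inf_le_right).IsNormalIn
      (groupFusionSystem (S : Subgroup G)) p := by
  set T := (S : Subgroup G) ⊓ H with hTdef
  set F := groupFusionSystem (S : Subgroup G)
  have hTS : T ≤ S := inf_le_left
  have haut : ∀ a, a ∈ F.autGroup T ↔ ∃ g : G, ∀ x : T, ((a x : T) : G) = g * (x : G) * g⁻¹ := fun a => by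
    rw [autGroup_group hTS, mem_autInducedBy]
    simp
  refine ⟨⟨saturated_fusionSystemOfSubgroup S H, group_saturated S, ?_, stronglyClosed_inf_normal S H, ?_, ?_⟩, ?_⟩
  · rintro P φ ⟨hP, hφT, g, -, hg⟩
    exact ⟨hP.trans hTS, fun x => hTS (hφT x), g, hg⟩
  · rintro P hPT φ ⟨hP, hφT, h, hh, hhe⟩ α hα
    obtain ⟨k, hk⟩ := (haut α).mp hα
    have hkN : k ∈ Subgroup.normalizer (T : Set G) := mem_normalizer_of_aut hk
    refine ⟨conjHom _ (k * h * k⁻¹), ⟨?_, ?_, k * h * k⁻¹,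
      Subgroup.Normal.conj_mem inferInstance h hh k, fun _ => rfl⟩, ?_⟩
    · rintro _ ⟨x, -, rfl⟩; exact Subtype.mem _
    · rintro ⟨_, x, hx, rfl⟩
      show k * h * k⁻¹ * ((α x : T) : G) * (k * h * k⁻¹)⁻¹ ∈ T
      rw [hk]
      have h1 := hφT ⟨x, hx⟩
      rw [hhe] at h1
      have h2 := (Subgroup.mem_normalizer_iff.mp hkN _).mp h1
      have e : k * h * k⁻¹ * (k * (x : G) * k⁻¹) * (k * h * k⁻¹)⁻¹ = k * (h * x * h⁻¹) * k⁻¹ := by group
      exact e.symm ▸ h2
    · intro x hφx hαx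
      rw [conjHom_apply, hk, hk]
      show k * h * k⁻¹ * (k * (x : G) * k⁻¹) * (k * h * k⁻¹)⁻¹ = k * φ x * k⁻¹
      rw [hhe]; group
  · rintro P hPT φ ⟨-, hφS, g, hg⟩
    obtain ⟨k, hk, h, hh, rfl⟩ := exists_mul_of_normal S H g
    have hφT : ∀ x : P, φ x ∈ T := fun x => ⟨hφS x, by
      rw [hg]; exact Subgroup.Normal.conj_mem inferInstance _ (hPT x.2).2 _⟩
    obtain ⟨α, -, hα⟩ := exists_autInducedBy (K := (⊤ : Subgroup G)) (Subgroup.mem_top k) hk
    refine ⟨α, (haut α).mpr ⟨k, hα⟩, conjHom P h, ⟨hPT, fun x => ?_, h, hh, fun _ => rfl⟩, fun x hx => ?_⟩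
    · rw [conjHom_apply]
      refine (Subgroup.mem_normalizer_iff.mp hk _).mpr ?_
      have e : k * (h * (x : G) * h⁻¹) * k⁻¹ = k * h * x * (k * h)⁻¹ := by group
      rw [e, ← hg]; exact hφT x
    · rw [hα, hg]
      show _ = k * (h * (x : G) * h⁻¹) * k⁻¹
      group
  · intro α hα
    obtain ⟨-, -, h, hh, hhe⟩ := (mem_autGroup le_rfl).mp hα
    have hhN : h ∈ Subgroup.normalizer (T : Set G) := mem_normalizer_of_aut hhe
    obtain ⟨y, hyH, hyC, hy⟩ := exists_correct S H hh hhN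
    set C := centralizerIn (S : Subgroup G) T
    have hT' : ∀ x ∈ T, y * h * x * (y * h)⁻¹ = h * x * h⁻¹ := fun x hx => by
      have h1 := (Subgroup.mem_normalizer_iff.mp hhN x).mp hx
      have h2 := Subgroup.mem_centralizer_iff.mp hyC _ h1
      calc y * h * x * (y * h)⁻¹ = y * (h * x * h⁻¹) * y⁻¹ := by group
        _ = h * x * h⁻¹ := by rw [← h2]; group
    have hgN : y * h ∈ Subgroup.normalizer ((T ⊔ C : Subgroup G) : Set G) := by
      refine mem_normalizer_of_forall fun x hx => ?_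
      have hle : T ⊔ C ≤ (T ⊔ C).comap (MulAut.conj (y * h)).toMonoidHom :=
        sup_le (fun a ha => Subgroup.mem_sup_left (show y * h * a * (y * h)⁻¹ ∈ T by
            rw [hT' a ha]; exact (Subgroup.mem_normalizer_iff.mp hhN a).mp ha))
          (fun a ha => Subgroup.mem_sup_right (hy a ha))
      exact hle hx
    obtain ⟨β, hβ, hβe⟩ := exists_autInducedBy (K := (⊤ : Subgroup G)) (Subgroup.mem_top (y * h)) hgN
    refine ⟨β, ?_, fun x => ?_, fun c hc => ?_⟩
    · rw [autGroup_group (sup_le hTS centralizerIn_le)]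
      exact hβ
    · rw [hβe]
      exact (hT' x x.2).trans (hhe x).symm
    · rw [hβe]
      have h1 := hy _ hc
      refine ⟨⟨(S : Subgroup G).mul_mem ((S : Subgroup G).inv_mem hc.1) h1.1, ?_⟩,
        Subgroup.mul_mem _ (Subgroup.inv_mem _ hc.2) h1.2⟩
      have h2 := H.mul_mem (Subgroup.Normal.conj_mem (inferInstance : H.Normal) _ (H.mul_mem hyH hh) (c : G)⁻¹)
        (H.inv_mem (H.mul_mem hyH hh))
      rw [inv_inv] at h2
      have e : (c : G)⁻¹ * (y * h) * (c : G) * (y * h)⁻¹ = (c : G)⁻¹ * (y * h * c * (y * h)⁻¹) := by group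
      exact e ▸ h2

end CfsgLib.Fusion
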