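import Cfsg.Agent.Lib.Fusion.Hyperfocal
import Cfsg.Agent.Lib.Fusion.Normal
import Cfsg.Agent.Lib.FusionNormal.Alperin

/-!
# Subsystems of `p`-power index over a normal subgroup of `S` are normal
-/

namespace CfsgLib.Fusion

open Cfsg Cfsg.FusionSystem CfsgLib.FusionNormal

variable {Ω : Type*} [Group Ω] {S T : Subgroup Ω} {F : FusionSystem S} {E : FusionSystem T}
variable {P Q R : Subgroup Ω} {p : ℕ}

theorem conj_mem_of_subgroupOf_normal (hTS : T ≤ S) (hTn : (T.subgroupOf S).Normal) {g x : Ω}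
    (hg : g ∈ S) (hx : x ∈ T) : g * x * g⁻¹ ∈ T :=
  hTn.conj_mem ⟨x, hTS hx⟩ hx ⟨g, hg⟩

theorem conj_mem_iff_of_subgroupOf_normal (hTS : T ≤ S) (hTn : (T.subgroupOf S).Normal) {g x : Ω}
    (hg : g ∈ S) : g * x * g⁻¹ ∈ T ↔ x ∈ T := by
  refine ⟨fun h => ?_, conj_mem_of_subgroupOf_normal hTS hTn hg⟩
  have := conj_mem_of_subgroupOf_normal hTS hTn (S.inv_mem hg) h
  rwa [show g⁻¹ * (g * x * g⁻¹) * g⁻¹⁻¹ = x by group] at this

variable [Finite S] [Fact p.Prime]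

/-- A normal subgroup of `S` containing the hyperfocal subgroup is strongly closed. -/
theorem stronglyClosed_of_hyperfocal_le (hS : IsPGroup p S) (hF : F.IsSaturated p) (hTS : T ≤ S)
    (hTn : (T.subgroupOf S).Normal) (hT : F.hyperfocalSubgroup p ≤ T) : F.StronglyClosed T := by
  refine ⟨hTS, fun R hR φ hφ x => ?_⟩
  refine (rel_of_mem hS hF (r := fun a b => a ∈ T ↔ b ∈ T)
    ⟨fun _ => Iff.rfl, Iff.symm, Iff.trans⟩
    (fun g hg y _ => (conj_mem_iff_of_subgroupOf_normal hTS hTn hg).symm) ?_ hφ x).mp (hR x.2)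
  intro P _ hP ha α hα x
  obtain ⟨a, haR, g, hg, b, rfl, hb⟩ := FullyAutomized.exists_mul ha hα
  have h1 := hT (mem_hyperfocal hP haR (b x))
  rw [MulAut.mul_apply, ← conj_mem_iff_of_subgroupOf_normal hTS hTn hg, ← hb]
  constructor
  · intro h
    simpa using T.mul_mem h h1
  · intro h
    have := T.mul_mem h (T.inv_mem h1)
    simpa using this

omit [Finite S] [Fact p.Prime] in
theorem inter_mem_of_aut (hT : F.StronglyClosed T) (hR : R ≤ S) (a : F.autGroup R) (x : ↥(R ⊓ T)) :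
    (((a : MulAut R) ⟨x, x.2.1⟩ : R) : Ω) ∈ R ⊓ T :=
  ⟨Subtype.mem _, StronglyClosed.aut_mem hT hR a.2 _ x.2.2⟩

/-- Restriction of automorphisms to the part inside a strongly closed subgroup. -/
def interAut (hT : F.StronglyClosed T) (hR : R ≤ S) (a : F.autGroup R) : MulAut ↥(R ⊓ T) where
  toFun x := ⟨_, inter_mem_of_aut hT hR a x⟩
  invFun x := ⟨_, inter_mem_of_aut hT hR a⁻¹ x⟩
  left_inv x := Subtype.ext (congrArg Subtype.val
    (MulAut.inv_apply_self _ (a : MulAut R) ⟨x, x.2.1⟩) :)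
  right_inv x := Subtype.ext (congrArg Subtype.val
    (MulAut.apply_inv_self _ (a : MulAut R) ⟨x, x.2.1⟩) :)
  map_mul' x y := Subtype.ext (congrArg Subtype.val
    (map_mul (a : MulAut R) ⟨x, x.2.1⟩ ⟨y, y.2.1⟩) :)

omit [Finite S] [Fact p.Prime] in
/-- Restrictions of `O^p(Aut_F(R))` lie in `O^p(Aut_F(R ⊓ T))`. -/
theorem exists_residual_restrict (hT : F.StronglyClosed T) (hR : R ≤ S) {a : F.autGroup R}
    (ha : a ∈ pResidual p (F.autGroup R)) :
    ∃ b : F.autGroup (R ⊓ T), b ∈ pResidual p (F.autGroup (R ⊓ T)) ∧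
      ∀ x : ↥(R ⊓ T), ((((b : MulAut ↥(R ⊓ T)) x : ↥(R ⊓ T))) : Ω) = ((a : MulAut R) ⟨x, x.2.1⟩ : R) := by
  let f : F.autGroup R →* F.autGroup (R ⊓ T) :=
    MonoidHom.mk' (fun a => ⟨interAut hT hR a, (mem_autGroup (inf_le_left.trans hR)).mpr
      (restrict_of inf_le_left ((mem_autGroup hR).mp a.2) fun x => rfl)⟩)
      fun a b => Subtype.ext (MulEquiv.ext fun x => Subtype.ext rfl)
  exact ⟨f a, CfsgLib.Transfer.map_pResidual_le f ⟨a, ha, rfl⟩, fun x => rfl⟩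

omit [Finite S] [Fact p.Prime] in
theorem mem_autGroup_of_residual (hE : E.HasPPowerIndexIn F p) (hP : P ≤ T) {a : F.autGroup P}
    (ha : a ∈ pResidual p (F.autGroup P)) : (a : MulAut P) ∈ E.autGroup P :=
  hE.2.2 P hP ⟨a, ha, rfl⟩

omit [Finite S] [Fact p.Prime] in
theorem residual_le_of_subsystem (hE : E.IsSubsystemOf F) (hP : P ≤ T) {a : E.autGroup P}
    (ha : a ∈ pResidual p (E.autGroup P)) :
    ∃ b : F.autGroup P, b ∈ pResidual p (F.autGroup P) ∧ (b : MulAut P) = (a : MulAut P) := by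
  have hle : E.autGroup P ≤ F.autGroup P := fun α hα =>
    (mem_autGroup (le_S (hE P (subtype_mem hP)))).mpr (hE P ((mem_autGroup hP).mp hα))
  exact ⟨_, CfsgLib.Transfer.map_pResidual_le (Subgroup.inclusion hle) ⟨a, ha, rfl⟩, rfl⟩

/-- The maps of `E` carried into `E` by all maps of `F` on the whole of `T`. -/
def invPart (F : FusionSystem S) (E : FusionSystem T) : FusionSystem T where
  Hom P := {φ | φ ∈ E.Hom P ∧ ∀ β : Ω → Ω, MapFn F T β → (∀ x ∈ T, β x ∈ T) → ∀ R : Subgroup Ω,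
    β '' P = (R : Set Ω) → ∃ χ, MapFn E R χ ∧ ∀ x : P, χ (β x) = β (φ x)}
  le_of_mem h := E.le_of_mem h.1
  injective_of_mem h := E.injective_of_mem h.1
  conj_mem := by
    intro P g hP hg
    refine ⟨E.conj_mem hP hg, fun β hβ hβT R hR => ?_⟩
    have hRT : R ≤ T := fun y hy => by
      obtain ⟨x, hx, rfl⟩ := exists_of_image hR hy
      exact hβT x (hP hx)
    exact ⟨_, mapFn_conj hRT (hβT g hg), fun x => (hβ.map_conj hg (hP x.2)).symm⟩
  comp_mem := by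
    rintro P Q φ ψ ⟨hφ, hφE⟩ ⟨hψ, hψE⟩ hm
    refine ⟨E.comp_mem hφ hψ hm, fun β hβ hβT R hR => ?_⟩
    obtain ⟨R', -, hR'⟩ := (hβ.mono (le_S hψ)).exists_image
    obtain ⟨χ₁, hχ₁, hχ₁e⟩ := hφE β hβ hβT R hR
    obtain ⟨χ₂, hχ₂, hχ₂e⟩ := hψE β hβ hβT R' hR'
    refine ⟨χ₂ ∘ χ₁, hχ₁.comp hχ₂ fun y hy => ?_, fun x => ?_⟩
    · obtain ⟨x, hx, rfl⟩ := exists_of_image hR hy
      rw [hχ₁e ⟨x, hx⟩]
      exact mem_of_image hR' (hm _)
    · show χ₂ (χ₁ _) = _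
      rw [hχ₁e, hχ₂e ⟨φ x, hm x⟩]
      rfl
  inv_mem := by
    rintro P φ ⟨hφ, hφE⟩
    obtain ⟨ψ, hψ, hψe⟩ := E.inv_mem hφ
    refine ⟨ψ, ⟨hψ, fun β hβ hβT R hR => ?_⟩, hψe⟩
    obtain ⟨R', -, hR'⟩ := (hβ.mono (le_S hφ)).exists_image
    obtain ⟨χ, hχ, hχe⟩ := hφE β hβ hβT R' hR'
    have him : χ '' R' = (R : Set Ω) := by
      rw [← hR', ← hR, Set.image_image]
      ext y
      constructor
      · rintro ⟨x, hx, rfl⟩
        exact ⟨φ ⟨x, hx⟩, ⟨_, rfl⟩, (hχe ⟨x, hx⟩).symm⟩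
      · rintro ⟨_, ⟨x, rfl⟩, rfl⟩
        exact ⟨x, x.2, hχe x⟩
    obtain ⟨ξ, hξ, -, hξe, -⟩ := hχ.exists_inv him
    refine ⟨ξ, hξ, ?_⟩
    rintro ⟨_, x, rfl⟩
    rw [hψe]
    show ξ (β (φ x)) = _
    rw [← hχe]
    exact hξe _ (mem_of_image hR' x.2)

theorem le_invPart (hS : IsPGroup p S) (hE : E.IsSaturated p) (hEi : E.HasPPowerIndexIn F p)
    (hTS : T ≤ S) : E ≤ invPart F E := by
  have := finite_of_le hTS
  refine alperin (hS.to_le hTS) hE _ fun P hP => ?_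
  obtain ⟨hPT, hPa⟩ : P ≤ T ∧ E.IsFullyAutomized p P := by
    rcases hP with rfl | hP
    · exact ⟨le_rfl, ((saturated_iff_top_and_receptive (hS.to_le hTS)).mp hE).1⟩
    · exact ⟨hP.1.1, (fullyNormalized_good (hS.to_le hTS) hE hP.2.1).1⟩
  intro α hα
  obtain ⟨a, haR, g, hg, b, rfl, hb⟩ := FullyAutomized.exists_mul hPa hα
  refine Subgroup.mul_mem _ ?_ ((mem_autGroup hPT).mpr (mem_of_conj hPT hg fun x => hb x))
  refine (mem_autGroup hPT).mpr ⟨(mem_autGroup hPT).mp a.2, fun β hβ _ R hR => ?_⟩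
  obtain ⟨θ, hθ, hθe⟩ := hβ.mono hPT
  have hθr : θ.range = R := SetLike.coe_injective (by rw [← MapFn.image_eq_range hθe, hR])
  obtain ⟨e, he⟩ := exists_equiv hθ hθr
  obtain ⟨a', ha'R, ha'⟩ := residual_le_of_subsystem hEi.1 hPT haR
  let f : F.autGroup P →* F.autGroup R :=
    ((MulAut.congr e).toMonoidHom.comp (F.autGroup P).subtype).codRestrict _
      fun a => autGroup_congr_mem hθ he a.2
  by_cases hRT : R ≤ T
  · obtain ⟨χ, hχ, -, hχe⟩ := exists_mapFn_of_aut hRT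
      (mem_autGroup_of_residual hEi hRT (CfsgLib.Transfer.map_pResidual_le f ⟨a', ha'R, rfl⟩))
    refine ⟨χ, hχ, fun x => ?_⟩
    show χ (β x) = β (((a : MulAut P) x : P) : Ω)
    rw [← hθe, ← hθe, ← he, ← he, hχe]
    show ((e ((a' : MulAut P) (e.symm (e x))) : R) : Ω) = _
    rw [MulEquiv.symm_apply_apply, ha']
  · exact absurd (fun y hy => by
      obtain ⟨x, hx, rfl⟩ := exists_of_image hR hy
      exact (by assumption : ∀ x ∈ T, β x ∈ T) x (hPT hx)) hRT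

/-- A map of `F` on the whole of `T` carries the maps of a saturated subsystem of `p`-power index
into themselves. -/
theorem transport_of_pIndex (hS : IsPGroup p S) (hE : E.IsSaturated p)
    (hEi : E.HasPPowerIndexIn F p) (hTS : T ≤ S) {f β : Ω → Ω} (hf : MapFn E P f) (hβ : MapFn F T β)
    (hβT : ∀ x ∈ T, β x ∈ T) (hR : β '' P = (R : Set Ω)) :
    ∃ g, MapFn E R g ∧ ∀ x ∈ P, g (β x) = β (f x) := by
  obtain ⟨φ, hφ, he⟩ := hf
  obtain ⟨χ, hχ, hχe⟩ := (le_invPart hS hE hEi hTS P hφ).2 β hβ hβT R hR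
  exact ⟨χ, hχ, fun x hx => (hχe ⟨x, hx⟩).trans (by rw [he])⟩

/-- The maps of `F` which are, inside `T`, conjugations after maps of `E`. -/
def conjPart (hS : IsPGroup p S) (hE : E.IsSaturated p) (hEi : E.HasPPowerIndexIn F p)
    (hT : F.StronglyClosed T) : FusionSystem S where
  Hom P := {φ | φ ∈ F.Hom P ∧ ∃ s ∈ S, ∃ f₀, MapFn E (P ⊓ T) f₀ ∧
    ∀ x : P, (x : Ω) ∈ T → φ x = s * f₀ x * s⁻¹}
  le_of_mem h := F.le_of_mem h.1
  injective_of_mem h := F.injective_of_mem h.1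
  conj_mem hP hg := ⟨F.conj_mem hP hg, _, hg, id, mapFn_id inf_le_right, fun x _ => rfl⟩
  comp_mem := by
    rintro P Q φ ψ ⟨hφ, s, hs, f, hf, hfe⟩ ⟨hψ, t, ht, g, hg, hge⟩ hm
    refine ⟨F.comp_mem hφ hψ hm, t * s, S.mul_mem ht hs, ?_⟩
    have hs' := S.inv_mem hs
    have hnor : ∀ x ∈ T, s⁻¹ * x * s⁻¹⁻¹ ∈ T := fun x hx =>
      conj_mem_of_normalizer (StronglyClosed.le_normalizer hT hs') hx
    obtain ⟨R', -, hR'⟩ := ((mapFn_conj (F := F) hT.1 hs').mono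
      (inf_le_right : Q ⊓ T ≤ T)).exists_image
    obtain ⟨χ, hχ, hχe⟩ := transport_of_pIndex hS hE hEi hT.1 hg (mapFn_conj hT.1 hs') hnor hR'
    have hval : ∀ x : P, (x : Ω) ∈ T → f x = s⁻¹ * φ x * s⁻¹⁻¹ := fun x hx => by
      rw [hfe x hx]; group
    have hin : ∀ x : P, (x : Ω) ∈ T → φ x ∈ Q ⊓ T := fun x hx =>
      ⟨hm x, StronglyClosed.apply_mem hT hφ x hx⟩
    refine ⟨χ ∘ f, hf.comp hχ fun x hx => ?_, fun x hx => ?_⟩
    · rw [hval ⟨x, hx.1⟩ hx.2]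
      exact mem_of_image hR' (hin ⟨x, hx.1⟩ hx.2)
    · show ψ ⟨φ x, hm x⟩ = t * s * χ (f x) * (t * s)⁻¹
      rw [hge ⟨φ x, hm x⟩ (hin x hx).2, hval x hx, hχe _ (hin x hx)]
      group
  inv_mem := by
    rintro P φ ⟨hφ, s, hs, f, hf, hfe⟩
    obtain ⟨ψ, hψ, hψe⟩ := F.inv_mem hφ
    refine ⟨ψ, ⟨hψ, s⁻¹, S.inv_mem hs, ?_⟩, hψe⟩
    obtain ⟨R₀, hR₀S, hR₀⟩ := hf.exists_image
    obtain ⟨g₀, hg₀, -, hg₀e, -⟩ := hf.exists_inv hR₀
    have hnor : ∀ x ∈ T, s * x * s⁻¹ ∈ T := fun x hx =>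
      conj_mem_of_normalizer (StronglyClosed.le_normalizer hT hs) hx
    have hR : (fun x => s * x * s⁻¹) '' R₀ = ((φ.range ⊓ T : Subgroup Ω) : Set Ω) := by
      rw [← hR₀, Set.image_image]
      ext y
      constructor
      · rintro ⟨x, hx, rfl⟩
        show s * f x * s⁻¹ ∈ φ.range ⊓ T
        exact ⟨⟨⟨x, hx.1⟩, hfe ⟨x, hx.1⟩ hx.2⟩, hnor _ (hf.mem_S hx)⟩
      · rintro ⟨⟨x, rfl⟩, hy⟩
        have hx : (x : Ω) ∈ T := by
          rw [← hψe x]; exact StronglyClosed.apply_mem hT hψ _ hy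
        exact ⟨x, ⟨x.2, hx⟩, (hfe x hx).symm⟩
    obtain ⟨χ, hχ, hχe⟩ := transport_of_pIndex hS hE hEi hT.1 hg₀ (mapFn_conj hT.1 hs) hnor hR
    refine ⟨χ, hχ, ?_⟩
    rintro ⟨_, x, rfl⟩ hy
    have hx : (x : Ω) ∈ T := by
      rw [← hψe x]; exact StronglyClosed.apply_mem hT hψ _ hy
    rw [hψe]
    show (x : Ω) = s⁻¹ * χ (φ x) * s⁻¹⁻¹
    rw [hfe x hx, hχe _ (mem_of_image hR₀ (⟨x.2, hx⟩ : (x : Ω) ∈ P ⊓ T)),
      hg₀e x ⟨x.2, hx⟩]
    group

theorem le_conjPart (hS : IsPGroup p S) (hF : F.IsSaturated p) (hE : E.IsSaturated p)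
    (hEi : E.HasPPowerIndexIn F p) (hT : F.StronglyClosed T) : F ≤ conjPart hS hE hEi hT := by
  refine alperin hS hF _ fun P hP => ?_
  obtain ⟨hPS, hPa⟩ : P ≤ S ∧ F.IsFullyAutomized p P := by
    rcases hP with rfl | hP
    · exact ⟨le_rfl, ((saturated_iff_top_and_receptive hS).mp hF).1⟩
    · exact ⟨hP.1.1, (fullyNormalized_good hS hF hP.2.1).1⟩
  intro α hα
  obtain ⟨a, haR, g, hg, b, rfl, hb⟩ := FullyAutomized.exists_mul hPa hα
  refine Subgroup.mul_mem _ ?_ ((mem_autGroup hPS).mpr (mem_of_conj hPS hg fun x => hb x))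
  obtain ⟨c, hcR, hc⟩ := exists_residual_restrict hT hPS haR
  obtain ⟨f, hf, -, hfe⟩ := exists_mapFn_of_aut (F := E) (inf_le_right : P ⊓ T ≤ T)
    (mem_autGroup_of_residual hEi inf_le_right hcR)
  refine (mem_autGroup hPS).mpr ⟨(mem_autGroup hPS).mp a.2, 1, S.one_mem, f, hf, fun x hx => ?_⟩
  show (((a : MulAut P) x : P) : Ω) = _
  rw [hfe ⟨x, x.2, hx⟩, hc, one_mul, inv_one, mul_one]

/-- The automorphisms of `T` extending to `T C_S(T)` trivially modulo the centre of `T`. -/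
def extSub (hT : F.StronglyClosed T) : Subgroup (MulAut T) :=
  Subgroup.closure {α | ∃ β ∈ F.autGroup (T ⊔ centralizerIn S T),
    (∀ x : T, ((β (Subgroup.inclusion le_sup_left x) : ↥(T ⊔ centralizerIn S T)) : Ω) = ((α x : T) : Ω)) ∧
    ∀ c : ↥(T ⊔ centralizerIn S T), (c : Ω) ∈ centralizerIn S T →
      (c : Ω)⁻¹ * ((β c : ↥(T ⊔ centralizerIn S T)) : Ω) ∈ T ⊓ Subgroup.centralizer (T : Set Ω)}

omit [Finite S] [Fact p.Prime] in
theorem mem_extSub (hT : F.StronglyClosed T) {α : MulAut T} :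
    α ∈ extSub hT ↔ ∃ β ∈ F.autGroup (T ⊔ centralizerIn S T),
      (∀ x : T, ((β (Subgroup.inclusion le_sup_left x) : ↥(T ⊔ centralizerIn S T)) : Ω) = ((α x : T) : Ω)) ∧
      ∀ c : ↥(T ⊔ centralizerIn S T), (c : Ω) ∈ centralizerIn S T →
        (c : Ω)⁻¹ * ((β c : ↥(T ⊔ centralizerIn S T)) : Ω) ∈ T ⊓ Subgroup.centralizer (T : Set Ω) := by
  refine ⟨fun h => ?_, fun h => Subgroup.subset_closure h⟩
  induction h using Subgroup.closure_induction with
  | mem x hx => exact hx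
  | one => exact ⟨1, Subgroup.one_mem _, fun x => rfl, fun c _ => by simp [Subgroup.one_mem]⟩
  | mul a b _ _ ha hb =>
    obtain ⟨β₁, hβ₁, h₁, h₁'⟩ := ha
    obtain ⟨β₂, hβ₂, h₂, h₂'⟩ := hb
    refine ⟨β₁ * β₂, Subgroup.mul_mem _ hβ₁ hβ₂, fun x => ?_, fun c hc => ?_⟩
    · rw [MulAut.mul_apply, MulAut.mul_apply, ← h₁]
      congr 2
      exact Subtype.ext (h₂ x)
    · obtain ⟨hzT, hzC⟩ := h₂' c hc
      set z : T := ⟨_, hzT⟩
      have hz : β₂ c = c * Subgroup.inclusion le_sup_left z := Subtype.ext (by simp [z])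
      rw [MulAut.mul_apply, hz, map_mul, Subgroup.coe_mul, ← mul_assoc]
      refine Subgroup.mul_mem _ (h₁' c hc) ?_
      rw [h₁]
      refine ⟨Subtype.mem _, Subgroup.mem_centralizer_iff.mpr fun t ht => ?_⟩
      obtain ⟨t', ht'⟩ := a.surjective ⟨t, ht⟩
      have hcomm : t' * z = z * t' := Subtype.ext (Subgroup.mem_centralizer_iff.mp hzC _ t'.2)
      have := congrArg (fun u => ((a u : T) : Ω)) hcomm
      simpa [ht'] using this
  | inv a _ ha =>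
    obtain ⟨β, hβ, h₁, h₁'⟩ := ha
    have hT' : ∀ x : T, β⁻¹ (Subgroup.inclusion le_sup_left x) =
        Subgroup.inclusion le_sup_left (a⁻¹ x) := fun x => by
      rw [MulAut.inv_apply, MulEquiv.symm_apply_eq]
      refine Subtype.ext ?_
      rw [h₁, MulAut.apply_inv_self]
      rfl
    refine ⟨β⁻¹, Subgroup.inv_mem _ hβ, fun x => by rw [hT']; rfl, fun c hc => ?_⟩
    set c' := β⁻¹ c with hc'
    have hcent : (c' : Ω) ∈ centralizerIn S T := by
      refine ⟨sup_le hT.1 centralizerIn_le c'.2, Subgroup.mem_centralizer_iff.mpr fun t ht => ?_⟩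
      have h : Subgroup.inclusion le_sup_left (a ⟨t, ht⟩) * c = c * Subgroup.inclusion le_sup_left (a ⟨t, ht⟩) :=
        Subtype.ext ((mem_centralizerIn.mp hc).2 _ (Subtype.mem _))
      have h2 := congrArg (⇑β⁻¹) h
      rw [map_mul, map_mul, hT', MulAut.inv_apply_self] at h2
      exact congrArg Subtype.val h2
    obtain ⟨hzT, hzC⟩ := h₁' c' hcent
    have hb : β c' = c := by rw [hc', MulAut.apply_inv_self]
    rw [hb] at hzT hzC
    have := Subgroup.inv_mem (T ⊓ Subgroup.centralizer (T : Set Ω)) ⟨hzT, hzC⟩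
    simpa using this

/-- A saturated subsystem of `p`-power index over a normal subgroup of `S` is normal. -/
theorem isNormalIn_of_pIndex (hS : IsPGroup p S) (hF : F.IsSaturated p) (hTS : T ≤ S)
    (hTn : (T.subgroupOf S).Normal) (hE : E.IsSaturated p) (hEi : E.HasPPowerIndexIn F p) :
    E.IsNormalIn F p := by
  have hT := stronglyClosed_of_hyperfocal_le hS hF hTS hTn hEi.2.1
  have := finite_of_le hTS
  refine ⟨⟨hE, hF, hEi.1, hT, fun P hPT φ hφ α hα => ?_, fun P hPT φ hφ => ?_⟩, fun α hα => ?_⟩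
  · obtain ⟨b, hb, hbr, hbe⟩ := exists_mapFn_of_aut hT.1 hα
    obtain ⟨f, hf, hfe⟩ := mapFn_of_hom hφ
    have hR : b '' P = (((P.subgroupOf T).map (T.subtype.comp α.toMonoidHom) : Subgroup Ω) : Set Ω) := by
      ext y
      constructor
      · rintro ⟨x, hx, rfl⟩
        exact ⟨⟨x, hPT hx⟩, hx, (hbe ⟨x, hPT hx⟩).symm⟩
      · rintro ⟨x, hx, rfl⟩
        exact ⟨x, hx, hbe x⟩
    obtain ⟨g, ⟨χ, hχ, hχe⟩, hge⟩ :=
      transport_of_pIndex hS hE hEi hTS hf hb (fun x hx => mem_of_image hbr hx) hR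
    refine ⟨χ, hχ, fun x hφx hαx => ?_⟩
    rw [hχe, ← hbe ⟨φ x, hφx⟩, ← hbe ⟨x, hPT x.2⟩, hge x x.2]
    exact congrArg b (hfe x).symm
  · obtain ⟨-, s, hs, f₀, hf₀, hfe⟩ := le_conjPart hS hF hE hEi hT P hφ
    rw [inf_eq_left.mpr hPT] at hf₀
    obtain ⟨φ₀, hφ₀, hφ₀e⟩ := hf₀
    obtain ⟨γ, hγ, hγe⟩ := exists_autInducedBy (P := T) hs (StronglyClosed.le_normalizer hT hs)
    exact ⟨γ, autInducedBy_le_autGroup hTS hγ, φ₀, hφ₀,
      fun x hx => by rw [hγe, hfe x (hPT x.2), ← hφ₀e]⟩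
  rw [← mem_extSub hT]
  obtain ⟨a, haR, g, hg, b, rfl, hb⟩ := FullyAutomized.exists_mul
    ((saturated_iff_top_and_receptive (hS.to_le hTS)).mp hE).1 hα
  refine Subgroup.mul_mem _ ?_ ((mem_extSub hT).mpr ?_)
  swap
  · have hU : T ⊔ centralizerIn S T ≤ S := sup_le hTS centralizerIn_le
    obtain ⟨c, hc, hce⟩ := exists_autInducedBy (P := T ⊔ centralizerIn S T) (hTS hg)
      (Subgroup.le_normalizer (Subgroup.mem_sup_left hg))
    refine ⟨c, autInducedBy_le_autGroup hU hc, fun x => (hce _).trans (hb x).symm, fun y hy => ?_⟩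
    rw [hce, (mem_centralizerIn.mp hy).2 g hg]
    simp [Subgroup.one_mem]
  suffices H : pResidual p (E.autGroup T) ≤ (extSub hT).comap (E.autGroup T).subtype from H haR
  refine CfsgLib.Transfer.pResidual_le_iff.mpr fun α hα => (mem_extSub hT).mpr ?_
  have hp : p.Prime := Fact.out
  have hαF : (α : MulAut T) ∈ F.autGroup T := (mem_autGroup hTS).mpr (hEi.1 T ((mem_autGroup le_rfl).mp α.2))
  set U := T ⊔ centralizerIn S T
  have hU : U ≤ S := sup_le hTS centralizerIn_le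
  have hTf : F.IsFullyCentralized T := ⟨hTS, fun R hR => by
    obtain ⟨φ, hφ, rfl⟩ := hR
    rw [range_eq_of_card_le hφ hTS (fun x => StronglyClosed.apply_mem hT hφ x x.2) le_rfl]⟩
  obtain ⟨f, hf, hfr, hfe⟩ := exists_mapFn_of_aut hTS hαF
  obtain ⟨g, hg, hge⟩ := hf.extend_centralizer hS hF hTf hfr
  have hgU : g '' U = (U : Set Ω) := by
    refine hg.image_eq_of_maps hU (hg.maps_sup (fun x hx => ?_) fun x hx => ?_) le_rfl
    · rw [hge x hx]; exact Subgroup.mem_sup_left (mem_of_image hfr hx)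
    · exact Subgroup.mem_sup_right (hg.mem_centralizerIn le_sup_left
        ((Set.image_congr fun y hy => hge y hy).trans hfr) (Subgroup.mem_sup_right hx) hx)
  obtain ⟨β₀, hβ₀, hβ₀e⟩ := hg.exists_aut hgU
  have hres : ∀ (k : ℕ) (x : T), (β₀ ^ k) (Subgroup.inclusion le_sup_left x) =
      Subgroup.inclusion le_sup_left (((α : MulAut T) ^ k) x) := by
    intro k
    induction k with
    | zero => intro x; rfl
    | succ k ih =>
      intro x
      rw [pow_succ', pow_succ', MulAut.mul_apply, MulAut.mul_apply, ih]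
      refine Subtype.ext ?_
      rw [hβ₀e]
      exact (hge _ (Subtype.mem _)).trans (hfe _)
  have := finite_mulAut hU
  obtain ⟨n, m, hm, hord⟩ := Nat.exists_eq_pow_mul_and_not_dvd (orderOf_pos β₀).ne' p hp.ne_one
  have hcop : Nat.Coprime (orderOf (α : MulAut T)) p := by rw [Subgroup.orderOf_coe]; exact hα
  obtain ⟨k, hk₁, hk₂⟩ := Nat.chineseRemainder (hcop.pow_right n) 1 0
  obtain ⟨d, rfl⟩ : p ^ n ∣ k := Nat.modEq_zero_iff_dvd.mp hk₂
  have hαk : (α : MulAut T) ^ (p ^ n * d) = α := by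
    conv_rhs => rw [← pow_one (α : MulAut T)]
    exact pow_eq_pow_iff_modEq.mpr hk₁
  set β : F.autGroup U := ⟨β₀, hβ₀⟩ ^ (p ^ n * d)
  have hβ : β ∈ pResidual p (F.autGroup U) := by
    refine CfsgLib.Transfer.mem_pResidual (Nat.Coprime.coprime_dvd_left (k := m) ?_ ?_)
    · refine orderOf_dvd_of_pow_eq_one (Subtype.ext ?_)
      show (β₀ ^ (p ^ n * d)) ^ m = 1
      rw [← pow_mul, show p ^ n * d * m = p ^ n * m * d by ring, ← hord, pow_mul,
        pow_orderOf_eq_one, one_pow]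
    · exact ((hp.coprime_iff_not_dvd).mpr hm).symm
  have hβT : ∀ x : T, (β : MulAut U) (Subgroup.inclusion le_sup_left x) =
      Subgroup.inclusion le_sup_left ((α : MulAut T) x) := fun x => by
    show (β₀ ^ (p ^ n * d)) _ = _
    rw [hres, hαk]
  refine ⟨β, β.2, fun x => by rw [hβT]; rfl, fun c hc => ⟨hEi.2.1 (mem_hyperfocal hU hβ c), ?_⟩⟩
  refine Subgroup.mem_centralizer_iff.mpr fun t ht => ?_
  obtain ⟨t', ht'⟩ := (α : MulAut T).surjective ⟨t, ht⟩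
  have hcomm : Subgroup.inclusion le_sup_left t' * c = c * Subgroup.inclusion le_sup_left t' :=
    Subtype.ext ((mem_centralizerIn.mp hc).2 _ t'.2)
  have h2 := congrArg (⇑(β : MulAut U)) hcomm
  rw [map_mul, map_mul, hβT, ht'] at h2
  have h3 : t * ((((β : MulAut U) c) : U) : Ω) = ((((β : MulAut U) c) : U) : Ω) * t :=
    congrArg Subtype.val h2
  have h4 : t * (c : Ω)⁻¹ = (c : Ω)⁻¹ * t :=
    (Commute.inv_right ((mem_centralizerIn.mp hc).2 t ht : Commute t (c : Ω))).eq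
  rw [← mul_assoc, h4, mul_assoc, h3, mul_assoc]

end CfsgLib.Fusion
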