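import Cfsg.Agent.Lib.Fusion.TwistVal
import Cfsg.Agent.Lib.Fusion.PIndex
import Cfsg.Agent.Lib.Fusion.GroupNormalSub
import Mathlib.GroupTheory.SpecificGroups.Cyclic

/-!
# Existence and uniqueness of saturated subsystems of `p`-power index

For a maximal subgroup `M` of `S` containing the hyperfocal subgroup, the maps on subgroups of `M`
having a twisting of trivial transfer value form a saturated subsystem of `p`-power index.
-/

namespace CfsgLib.Fusion

open Cfsg Cfsg.FusionSystem CfsgLib.FusionNormal StableBiset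

universe u

variable {Ω : Type u} [Group Ω] {S M : Subgroup Ω} {F : FusionSystem S} {p : ℕ}
variable {A : Type u} [CommGroup A]

/-- A homomorphism invariant under the system, with kernel `M` and image of order `p`. -/
structure IndexData (F : FusionSystem S) (M : Subgroup Ω) (p : ℕ) (h : S →* A) : Prop where
  le : M ≤ S
  card : Nat.card A = p
  surj : Function.Surjective h
  ker : ∀ s : S, h s = 1 ↔ (s : Ω) ∈ M
  inv : ∀ (P : Subgroup Ω) (φ : P →* Ω) (hφ : φ ∈ F.Hom P) (x : P),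
    h ⟨φ x, apply_mem_S hφ x⟩ = h ⟨x, le_S hφ x.2⟩

variable {h : S →* A} (D : IndexData F M p h) (B : StableBiset F p)

theorem IndexData.pow_eq_one (D : IndexData F M p h) (a : A) : a ^ p = 1 := by
  rw [← D.card]; exact pow_card_eq_one'

theorem IndexData.stronglyClosed (D : IndexData F M p h) : F.StronglyClosed M :=
  ⟨D.le, fun R hR φ hφ x =>
    (D.ker ⟨φ x, apply_mem_S hφ x⟩).mp ((D.inv R φ hφ x).trans ((D.ker _).mpr (hR x.2)))⟩

/-- The maps inside `M` with a twisting of trivial value. -/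
def valKer [Finite S] : FusionSystem M where
  Hom P := {φ | φ ∈ F.Hom P ∧ P ≤ M ∧ (∀ x : P, φ x ∈ M) ∧ ∃ e, B.Twists φ e ∧ B.val h e = 1}
  le_of_mem hφ := ⟨hφ.2.1, hφ.2.2.1⟩
  injective_of_mem hφ := F.injective_of_mem hφ.1
  conj_mem := by
    intro P g hP hg
    refine ⟨F.conj_mem (hP.trans D.le) (D.le hg), hP, fun x => M.mul_mem (M.mul_mem hg (hP x.2)) (M.inv_mem hg),
      _, B.twists_leftE (s := ⟨g, D.le hg⟩) fun x => rfl, ?_⟩
    rw [B.val_leftE h D.inv, (D.ker _).mpr hg, one_pow]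
  comp_mem := by
    rintro P Q φ ψ ⟨hφ, hP, -, e, he, hev⟩ ⟨hψ, -, hψM, e', he', he'v⟩ hm
    refine ⟨F.comp_mem hφ hψ hm, hP, fun x => hψM _, _, he.comp hφ he' hm fun x => rfl, ?_⟩
    rw [B.val_trans h he.rightEquiv he'.rightEquiv, hev, he'v, one_mul]
  inv_mem := by
    rintro P φ ⟨hφ, hP, hφM, e, he, hev⟩
    obtain ⟨ψ, hψ, hψe⟩ := F.inv_mem hφ
    refine ⟨ψ, ⟨hψ, ?_, ?_, e.symm, he.symm hφ hψe, ?_⟩, hψe⟩
    · rintro _ ⟨x, rfl⟩; exact hφM x
    · rintro ⟨_, x, rfl⟩; rw [hψe]; exact hP x.2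
    · rw [B.val_symm h he.rightEquiv, hev, inv_one]

variable {B}

theorem IndexData.coprime_orb [Finite S] [Fact p.Prime] (D : IndexData F M p h) : (Nat.card A).Coprime (Nat.card B.Orb) := by
  rw [D.card]; exact ((Fact.out : p.Prime).coprime_iff_not_dvd).mpr B.not_dvd_card_orb

theorem IndexData.finite [Fact p.Prime] (D : IndexData F M p h) : Finite A :=
  Nat.finite_of_card_ne_zero (by rw [D.card]; exact (Fact.out : p.Prime).ne_zero)

/-- An `S`-multiple of any map on a subgroup of `M` lies in the kernel system. -/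
theorem exists_mem_valKer [Finite S] [Fact p.Prime] {P : Subgroup Ω} (hP : P ≤ M) {φ : P →* Ω}
    (hφ : φ ∈ F.Hom P) :
    ∃ s ∈ S, ∀ χ : P →* Ω, (∀ x : P, χ x = s * φ x * s⁻¹) → χ ∈ (valKer D B).Hom P := by
  have := D.finite
  obtain ⟨e, he⟩ := B.exists_twists hφ
  obtain ⟨a, ha⟩ := (powCoprime D.coprime_orb).surjective (B.val h e)⁻¹
  obtain ⟨s, rfl⟩ := D.surj a
  refine ⟨s, s.2, fun χ hχ => ?_⟩
  have hS' : χ ∈ F.Hom P := comp_of hφ (F.conj_mem le_rfl s.2) (apply_mem_S hφ) hχ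
  refine ⟨hS', hP, fun x => D.stronglyClosed.2 P hP χ hS' x, _,
    he.comp hφ (B.twists_leftE (P := S) (φ := conjHom S s) fun x => rfl) (apply_mem_S hφ) hχ, ?_⟩
  rw [B.val_trans h he.rightEquiv (B.twists_leftE (P := S) (φ := conjHom S (s : Ω)) fun x => rfl).rightEquiv,
    B.val_leftE h D.inv]
  exact mul_eq_one_iff_eq_inv.mpr ha

include D in
/-- Two twistings of one map: their values differ by the image of some centralizing element. -/
theorem exists_centralizing [Finite S] [Fact p.Prime] (hS : IsPGroup p S) (hF : F.IsSaturated p)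
    {P Q : Subgroup Ω} {φ : P →* Ω} (hφ : φ ∈ F.Hom P) (hQ : φ.range = Q) (hQf : F.IsFullyCentralized Q)
    {e e' : B.X ≃ B.X} (he : B.Twists φ e) (he' : B.Twists φ e') :
    ∃ c : S, (c : Ω) ∈ centralizerIn S Q ∧ h c ^ Nat.card B.Orb * B.val h e' = B.val h e := by
  classical
  have := D.finite
  have hp : p.Prime := Fact.out
  by_cases hC : ∀ R, F.IsConj Q R → ∀ c : S, (c : Ω) ∈ centralizerIn S R → h c = 1
  · refine ⟨1, ⟨Subtype.mem _, Subgroup.one_mem _⟩, ?_⟩
    rw [map_one, one_pow, one_mul]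
    subst hQ
    obtain ⟨ψ, hψ, hψe⟩ := F.inv_mem hφ
    have hQS := range_le_S hφ
    have h1 : B.Twists φ.range.subtype (e.symm.trans e') := (he.symm hφ hψe).comp hψ he' (fun y => by
      obtain ⟨_, x, rfl⟩ := y
      rw [hψe]; exact x.2) (by
      rintro ⟨_, x, rfl⟩
      exact congrArg φ (Subtype.ext (hψe x)).symm)
    have h2 := B.val_eq_one h hS D.pow_eq_one D.inv hQS hC h1
    rw [B.val_trans h he.rightEquiv.symm he'.rightEquiv, B.val_symm h he.rightEquiv, mul_inv_eq_one] at h2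
    exact h2
  · push_neg at hC
    obtain ⟨R, hR, c, hc, hc1⟩ := hC
    obtain ⟨θ, hθ, hθr⟩ := isConj_symm hR
    obtain ⟨f, hf, hfe⟩ := mapFn_of_hom hθ
    have hfr : f '' R = (Q : Set Ω) := by rw [MapFn.image_eq_range hfe, hθr]
    obtain ⟨g, hg, hge⟩ := hf.extend_centralizer hS hF hQf hfr
    have hgr : g '' R = (Q : Set Ω) := (Set.image_congr fun y hy => hge y hy).trans hfr
    have hgc : g c ∈ centralizerIn S Q := hg.mem_centralizerIn le_sup_left hgr (Subgroup.mem_sup_right hc) hc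
    obtain ⟨γ, hγ, hγe⟩ := hg
    have hd : h ⟨g c, hgc.1⟩ ≠ 1 := by
      have h1 := D.inv _ γ hγ ⟨c, Subgroup.mem_sup_right hc⟩
      rw [show (⟨g c, hgc.1⟩ : S) = ⟨γ ⟨c, Subgroup.mem_sup_right hc⟩, apply_mem_S hγ _⟩ from
        Subtype.ext (hγe ⟨c, Subgroup.mem_sup_right hc⟩).symm, h1]
      exact hc1
    obtain ⟨a, ha⟩ := (powCoprime D.coprime_orb).surjective (B.val h e * (B.val h e')⁻¹)
    have : Fact (Nat.card A).Prime := ⟨by rw [D.card]; exact hp⟩
    obtain ⟨k, hk⟩ := mem_zpowers_of_prime_card (G := A) (g' := a) rfl hd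
    refine ⟨(⟨g c, hgc.1⟩ : S) ^ k, (Subgroup.zpow_mem (centralizerIn S Q) hgc k : _), ?_⟩
    rw [map_zpow]
    show (h ⟨g c, hgc.1⟩ ^ k) ^ Nat.card B.Orb * _ = _
    rw [show h ⟨g c, hgc.1⟩ ^ k = a from hk, show a ^ Nat.card B.Orb = _ from ha, inv_mul_cancel_right]

/-- A conjugation lying in the kernel system is, on a fully centralized subgroup, one by an element
of `M`. -/
theorem exists_mem_of_conj [Finite S] [Fact p.Prime] (hS : IsPGroup p S) (hF : F.IsSaturated p)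
    {Q : Subgroup Ω} (hQf : F.IsFullyCentralized Q) {s : Ω} (hs : s ∈ S)
    (hsn : s ∈ Subgroup.normalizer (Q : Set Ω)) {φ : Q →* Ω} (hφ : φ ∈ (valKer D B).Hom Q)
    (hφe : ∀ x : Q, φ x = s * (x : Ω) * s⁻¹) :
    ∃ t ∈ M, ∀ x : Q, φ x = t * (x : Ω) * t⁻¹ := by
  have := D.finite
  obtain ⟨hφF, hQM, -, e, he, hev⟩ := hφ
  have hr : φ.range = Q := range_eq_of_card_le hφF hQf.1 (fun x => by
    rw [hφe]; exact conj_mem_of_normalizer hsn x.2) le_rfl
  obtain ⟨c, hc, hce⟩ :=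
    exists_centralizing D hS hF hφF hr hQf he (B.twists_leftE (s := (⟨s, hs⟩ : S)) hφe)
  rw [B.val_leftE h D.inv, hev, ← mul_pow] at hce
  have h1 : h c * h ⟨s, hs⟩ = 1 :=
    (powCoprime D.coprime_orb).injective (hce.trans (one_pow (M := A) (Nat.card B.Orb)).symm)
  rw [← map_mul, D.ker] at h1
  refine ⟨(c : Ω) * s, h1, fun x => ?_⟩
  have hm : s * (x : Ω) * s⁻¹ ∈ Q := conj_mem_of_normalizer hsn x.2
  have h2 : (c : Ω) * (s * x * s⁻¹) * (c : Ω)⁻¹ = s * x * s⁻¹ := (mem_centralizerIn'.mp hc).2 ⟨_, hm⟩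
  rw [hφe]
  exact h2.symm.trans (by group)

variable [Finite S] [Fact p.Prime]

theorem valKer_receptive (hS : IsPGroup p S) (hF : F.IsSaturated p) {Q : Subgroup Ω} (hQM : Q ≤ M)
    (hQf : F.IsFullyCentralized Q) : (valKer D B).IsReceptive Q := by
  refine ⟨hQM, fun P φ hφ hr => ?_⟩
  obtain ⟨hφF, hPM, -, e, he, hev⟩ := hφ
  have hle : extender M P φ ≤ extender S P φ := fun g hg => by
    obtain ⟨h1, h2, s, hs, h3⟩ := mem_extender.mp hg
    exact mem_extender.mpr ⟨D.le h1, h2, s, D.le hs, h3⟩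
  have hPN : P ≤ extender M P φ := fun g hg => mem_extender.mpr ⟨hPM hg, Subgroup.le_normalizer hg,
    φ ⟨g, hg⟩, D.stronglyClosed.2 P hPM φ hφF _, fun x hx => by
      rw [← map_inv φ, ← map_mul φ, ← map_mul φ]; exact apply_eq_of_coe_eq rfl⟩
  obtain ⟨ψ, hψ, hψe⟩ := exists_extension (receptive_of_fullyCentralized hS hF hQf) hφF hr hPN hle
  obtain ⟨e', he'⟩ := B.exists_twists hψ
  obtain ⟨c, hc, hce⟩ :=
    exists_centralizing D hS hF hφF hr hQf he (he'.restrict hPN fun x => (hψe x).symm)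
  obtain ⟨χ, hχ, hχe⟩ := exists_conj_comp hψ hc.1
  refine ⟨χ, ⟨hχ, fun g hg => (mem_extender.mp hg).1,
    fun x => D.stronglyClosed.2 _ (fun g hg => (mem_extender.mp hg).1) χ hχ x, _,
    he'.comp hψ (B.twists_leftE (P := S) (φ := conjHom S (c : Ω)) fun x => rfl) (apply_mem_S hψ) hχe, ?_⟩,
    fun x hx hN => ?_⟩
  · rw [B.val_trans h he'.rightEquiv (B.twists_leftE (P := S) (φ := conjHom S (c : Ω)) fun x => rfl).rightEquiv,
      B.val_leftE h D.inv, hce, hev]
  · rw [hχe, show ψ ⟨x, hN⟩ = φ ⟨x, hx⟩ from hψe ⟨x, hx⟩]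
    exact (mem_centralizerIn'.mp hc).2 ⟨_, hr.le ⟨_, rfl⟩⟩

theorem valKer_subsystem : (valKer D B).IsSubsystemOf F := fun _ _ hφ => hφ.1

theorem valKer_autGroup_le {P : Subgroup Ω} (hP : P ≤ M) : (valKer D B).autGroup P ≤ F.autGroup P :=
  fun _ hα => (mem_autGroup (hP.trans D.le)).mpr ((mem_autGroup hP).mp hα).1

theorem valKer_normal {P : Subgroup Ω} (hP : P ≤ M) :
    (((valKer D B).autGroup P).subgroupOf (F.autGroup P)).Normal := by
  refine ⟨fun a ha b => ?_⟩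
  obtain ⟨-, -, -, e, he, hev⟩ := (mem_autGroup hP).mp ha
  have hPS := hP.trans D.le
  have hbm := (mem_autGroup hPS).mp b.2
  obtain ⟨eb, heb⟩ := B.exists_twists hbm
  have hbi := (mem_autGroup hPS).mp (Subgroup.inv_mem _ b.2)
  have hebi : B.Twists (P.subtype.comp ((b : MulAut P)⁻¹).toMonoidHom) eb.symm := by
    intro q a' a'' ha' ha'' c x
    rw [Equiv.symm_apply_eq, heb ((b : MulAut P)⁻¹ q) a'' a' ha'' ?_ c, Equiv.apply_symm_apply]
    rw [ha']
    show (q : Ω) = (((b : MulAut P) ((b : MulAut P)⁻¹ q) : P) : Ω)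
    rw [MulAut.apply_inv_self]
  refine (mem_autGroup hP).mpr ⟨(mem_autGroup hPS).mp (b * a * b⁻¹).2, hP, fun x => hP (Subtype.mem _), _,
    (hebi.comp hbi he (fun x => Subtype.mem _)
      (χ := P.subtype.comp ((a : MulAut P) * (b : MulAut P)⁻¹).toMonoidHom) fun x => rfl).comp
      ((mem_autGroup hPS).mp (a * b⁻¹).2) heb (fun x => Subtype.mem _) fun x => rfl, ?_⟩
  rw [B.val_trans h (heb.rightEquiv.symm.trans he.rightEquiv) heb.rightEquiv,
    B.val_trans h heb.rightEquiv.symm he.rightEquiv, B.val_symm h heb.rightEquiv, hev, one_mul,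
    mul_inv_cancel]

theorem valKer_fullyAutomized (hS : IsPGroup p S) (hF : F.IsSaturated p) {Q : Subgroup Ω} (hQM : Q ≤ M)
    (hQn : F.IsFullyNormalized Q) : (valKer D B).IsFullyAutomized p Q := by
  have hQf := fullyCentralized_of_receptive (fullyNormalized_good hS hF hQn).2
  obtain ⟨-, R, hR⟩ := (fullyNormalized_good hS hF hQn).1
  have := finite_mulAut (hQM.trans D.le)
  have := valKer_normal D hQM (B := B)
  obtain ⟨U, hU⟩ := exists_sylow_inf R (((valKer D B).autGroup Q).subgroupOf (F.autGroup Q))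
  refine ⟨hQM, U.mapSurjective
    (f := (Subgroup.subgroupOfEquivOfLe (valKer_autGroup_le D hQM)).toMonoidHom) (MulEquiv.surjective _), ?_⟩
  show (U.toSubgroup).map _ = _
  rw [hU]
  ext α
  constructor
  · rintro ⟨⟨⟨β, hβF⟩, hβ⟩, ⟨hβR, -⟩, rfl⟩
    obtain ⟨s, hs, hse⟩ := mem_autInducedBy.mp (hR.le hβR)
    obtain ⟨t, ht, hte⟩ := exists_mem_of_conj D hS hF hQf hs (mem_normalizer_of_aut hse)
      ((mem_autGroup hQM).mp hβ) hse
    exact mem_autInducedBy.mpr ⟨t, ht, hte⟩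
  · intro hα
    refine ⟨⟨⟨α, valKer_autGroup_le D hQM α.2⟩, α.2⟩, ⟨hR.ge ?_, α.2⟩, rfl⟩
    exact autInducedBy_mono D.le Q hα

theorem valKer_saturated (hS : IsPGroup p S) (hF : F.IsSaturated p) : (valKer D B).IsSaturated p := by
  intro P hP
  obtain ⟨Q₀, ⟨φ, hφ, rfl⟩, hn⟩ := exists_fullyNormalized (F := F) (hP.trans D.le)
  obtain ⟨s, hs, hsχ⟩ := exists_mem_valKer D hP hφ (B := B)
  obtain ⟨χ, hχF, hχe⟩ := exists_conj_comp hφ hs
  have hχ := hsχ χ hχe
  have hconj : F.IsConj φ.range χ.range :=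
    isConj_trans (isConj_symm ⟨φ, hφ, rfl⟩) ⟨χ, hχF, rfl⟩
  have hQM : χ.range ≤ M := range_le_S hχ
  have hn' : F.IsFullyNormalized χ.range := by
    refine ⟨hQM.trans D.le, fun R hR => (hn.2 R (isConj_trans hconj hR)).trans ?_⟩
    have := finite_of_le (normalizerIn_le (S := S) (P := χ.range))
    refine card_le_of_map (F.conj_mem (normalizerIn_le (S := S) (P := φ.range)) hs) normalizerIn_le fun g => ?_
    refine ⟨S.mul_mem (S.mul_mem hs g.2.1) (S.inv_mem hs), ?_⟩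
    show s * (g : Ω) * s⁻¹ ∈ Subgroup.normalizer (χ.range : Set Ω)
    have := finite_of_le (hQM.trans D.le)
    refine mem_normalizer_of_forall ?_
    rintro _ ⟨x, rfl⟩
    obtain ⟨y, hy⟩ := conj_mem_of_normalizer g.2.2 (⟨x, rfl⟩ : φ x ∈ φ.range)
    refine ⟨y, ?_⟩
    rw [hχe, hχe, hy]
    group
  exact ⟨_, ⟨χ, hχ, rfl⟩, valKer_fullyAutomized D hS hF hQM hn',
    valKer_receptive D hS hF hQM (fullyCentralized_of_receptive (fullyNormalized_good hS hF hn').2)⟩

theorem valKer_pIndex (hT : F.hyperfocalSubgroup p ≤ M) : (valKer D B).HasPPowerIndexIn F p := by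
  refine ⟨valKer_subsystem D, hT, fun P hP => ?_⟩
  rw [Subgroup.map_le_iff_le_comap, CfsgLib.Transfer.pResidual_le_iff]
  intro α hα
  have hp : p.Prime := Fact.out
  have hPS := hP.trans D.le
  obtain ⟨e, he⟩ := B.exists_twists ((mem_autGroup hPS).mp α.2)
  have hpow : ∀ k : ℕ, ∃ e' : B.X ≃ B.X,
      B.Twists (P.subtype.comp (((α : MulAut P) ^ k)).toMonoidHom) e' ∧ B.val h e' = B.val h e ^ k := by
    intro k
    induction k with
    | zero => exact ⟨Equiv.refl _, fun q a a' ha ha' b x => by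
        rw [show a = a' from Subtype.ext (ha.trans ha'.symm)]; rfl, by rw [B.val_refl, pow_zero]⟩
    | succ k ih =>
      obtain ⟨e', he', hv⟩ := ih
      exact ⟨e'.trans e, he'.comp ((mem_autGroup hPS).mp (Subgroup.pow_mem _ α.2 k)) he
          (fun x => Subtype.mem _) fun x => by rw [pow_succ']; rfl,
        by rw [B.val_trans h he'.rightEquiv he.rightEquiv, hv, pow_succ']⟩
  obtain ⟨k, hk₁, hk₂⟩ := Nat.chineseRemainder (n := orderOf α) (m := p) hα 1 0
  obtain ⟨d, rfl⟩ : p ∣ k := Nat.modEq_zero_iff_dvd.mp hk₂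
  have hαk : α ^ (p * d) = α := by
    conv_rhs => rw [← pow_one α]
    exact pow_eq_pow_iff_modEq.mpr hk₁
  obtain ⟨e', he', hv⟩ := hpow (p * d)
  rw [show (α : MulAut P) ^ (p * d) = α from congrArg Subtype.val hαk] at he'
  refine (mem_autGroup hP).mpr ⟨(mem_autGroup hPS).mp α.2, hP, fun x => hP (Subtype.mem _), e', he', ?_⟩
  rw [hv, pow_mul, D.pow_eq_one, one_pow]

/-! ### The theorem -/

theorem le_of_pIndex {T : Subgroup Ω} {E E' : FusionSystem T} (hS : IsPGroup p S) (hTS : T ≤ S)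
    (hE : E.IsSaturated p) (hEi : E.IsSubsystemOf F) (hE' : E'.HasPPowerIndexIn F p) : E ≤ E' := by
  have := finite_of_le hTS
  refine alperin (hS.to_le hTS) hE _ fun P hP => ?_
  obtain ⟨hPT, hPa⟩ : P ≤ T ∧ E.IsFullyAutomized p P := by
    rcases hP with rfl | hP
    · exact ⟨le_rfl, ((saturated_iff_top_and_receptive (hS.to_le hTS)).mp hE).1⟩
    · exact ⟨hP.1.1, (fullyNormalized_good (hS.to_le hTS) hE hP.2.1).1⟩
  intro α hα
  obtain ⟨a, haR, g, hg, b, rfl, hb⟩ := FullyAutomized.exists_mul hPa hα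
  refine Subgroup.mul_mem _ ?_ ((mem_autGroup hPT).mpr (mem_of_conj hPT hg fun x => hb x))
  obtain ⟨a', ha'R, ha'⟩ := residual_le_of_subsystem hEi hPT haR
  rw [← ha']
  exact mem_autGroup_of_residual hE' hPT ha'R

theorem hyperfocal_mono {E : FusionSystem M} (hE : E.IsSubsystemOf F) :
    E.hyperfocalSubgroup p ≤ F.hyperfocalSubgroup p := by
  rw [FusionSystem.hyperfocalSubgroup, Subgroup.closure_le]
  rintro _ ⟨P, α, x, hP, hα, rfl⟩
  obtain ⟨b, hb, hbe⟩ := residual_le_of_subsystem hE hP hα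
  rw [← hbe]
  exact mem_hyperfocal (hP.trans (le_S (hE M (subtype_mem le_rfl)))) hb x

theorem exists_index_step (hS : IsPGroup p S) (hF : F.IsSaturated p) {T : Subgroup Ω}
    (hT : F.hyperfocalSubgroup p ≤ T) (hTlt : T < S) :
    ∃ (M : Subgroup Ω) (E : FusionSystem M), T ≤ M ∧ M < S ∧ E.IsSaturated p ∧ E.HasPPowerIndexIn F p := by
  have hp : p.Prime := Fact.out
  obtain ⟨n, hn⟩ := IsPGroup.iff_card.mp hS
  have := finite_of_le hTlt.le
  obtain ⟨j, hj⟩ := IsPGroup.iff_card.mp (hS.to_le hTlt.le)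
  have hjn : j < n := by
    have h1 : Nat.card T < Nat.card S := lt_of_not_ge fun hge => hTlt.ne (eq_of_le_of_card_le hTlt.le hge)
    rw [hj, hn] at h1
    exact (Nat.pow_lt_pow_iff_right hp.one_lt).mp h1
  obtain ⟨K, hK, hTK⟩ := Sylow.exists_subgroup_card_pow_prime_le (G := S) (p := p) (m := n - 1)
    (by rw [hn]; exact pow_dvd_pow p (Nat.sub_le n 1) : p ^ (n - 1) ∣ Nat.card S)
    (T.subgroupOf S) (n := j)
    ((Nat.card_congr (Subgroup.subgroupOfEquivOfLe hTlt.le).toEquiv).trans hj) (by omega)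
  have hidx : K.index = p := by
    have h1 := K.card_mul_index
    rw [hK, hn, ← pow_sub_one_mul (by omega : n ≠ 0) p] at h1
    exact Nat.eq_of_mul_eq_mul_left (pow_pos hp.pos _) h1
  have hKn : K.Normal := Subgroup.normal_of_index_eq_minFac_card (by
    rw [hidx, hn, Nat.pow_minFac (by omega), hp.minFac_eq])
  let A := S ⧸ K
  have hcard : Nat.card A = p := by rw [← Subgroup.index_eq_card]; exact hidx
  have : IsCyclic A := isCyclic_of_prime_card hcard
  let _ : CommGroup A := IsCyclic.commGroup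
  set M := K.map S.subtype with hMdef
  have hMS : M ≤ S := by rintro _ ⟨x, -, rfl⟩; exact x.2
  have hTM : T ≤ M := fun x hx => ⟨⟨x, hTlt.le hx⟩, hTK hx, rfl⟩
  have hker : ∀ s : S, QuotientGroup.mk' K s = 1 ↔ (s : Ω) ∈ M := fun s => by
    rw [QuotientGroup.mk'_apply, QuotientGroup.eq_one_iff]
    exact ⟨fun hs => ⟨s, hs, rfl⟩, fun ⟨y, hy, hye⟩ => Subtype.ext hye ▸ hy⟩
  have hfoc : F.focalSubgroup ≤ M := by
    rw [focal_eq hS hF]
    refine sup_le (hT.trans hTM) (Subgroup.commutator_le.mpr fun a ha b hb => ?_)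
    refine (hker ⟨_, S.mul_mem (S.mul_mem (S.mul_mem ha hb) (S.inv_mem ha)) (S.inv_mem hb)⟩).mp ?_
    show QuotientGroup.mk' K (⟨a, ha⟩ * ⟨b, hb⟩ * (⟨a, ha⟩ : S)⁻¹ * (⟨b, hb⟩ : S)⁻¹) = 1
    rw [map_mul, map_mul, map_mul, map_inv, map_inv, mul_comm (QuotientGroup.mk' K _) (QuotientGroup.mk' K _)]
    group
  have D : IndexData F M p (QuotientGroup.mk' K : S →* A) :=
    { le := hMS
      card := hcard
      surj := QuotientGroup.mk'_surjective K
      ker := hker
      inv := fun P φ hφ x => by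
        rw [eq_comm, ← inv_mul_eq_one, ← map_inv, ← map_mul, hker]
        exact hfoc (Subgroup.subset_closure ⟨P, φ, x, hφ, rfl⟩) }
  obtain ⟨B⟩ := exists_biset hS hF
  refine ⟨M, valKer D B, hTM, lt_of_le_of_ne hMS fun he => ?_, valKer_saturated D hS hF,
    valKer_pIndex D (hT.trans hTM)⟩
  have h1 : Nat.card M = p ^ (n - 1) := by
    rw [hMdef, Subgroup.card_map_of_injective S.subtype_injective, hK]
  rw [he, hn] at h1
  exact absurd (Nat.pow_right_injective hp.two_le h1) (by omega)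

theorem exists_pIndex {T : Subgroup Ω} (hS : IsPGroup p S) (hF : F.IsSaturated p) (hTS : T ≤ S)
    (hT : F.hyperfocalSubgroup p ≤ T) :
    ∃ E : FusionSystem T, E.IsSaturated p ∧ E.HasPPowerIndexIn F p := by
  suffices H : ∀ (n : ℕ) (S : Subgroup Ω) [Finite S] (F : FusionSystem S), Nat.card S < n → IsPGroup p S →
      F.IsSaturated p → T ≤ S → F.hyperfocalSubgroup p ≤ T →
      ∃ E : FusionSystem T, E.IsSaturated p ∧ E.HasPPowerIndexIn F p from
    H _ S F (Nat.lt_succ_self _) hS hF hTS hT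
  intro n
  induction n with
  | zero => intros; omega
  | succ n ih =>
  intro S _ F hn hS hF hTS hT
  by_cases hTe : T = S
  · subst hTe
    refine ⟨F, hF, fun P => subset_rfl, hyperfocal_le F p, fun P _ => Subgroup.map_subtype_le _⟩
  obtain ⟨M, E₁, hTM, hMS, hE₁, hE₁i⟩ := exists_index_step hS hF hT (lt_of_le_of_ne hTS hTe)
  have := finite_of_le hMS.le
  have hc : Nat.card M < Nat.card S := lt_of_not_ge fun hge => hMS.ne (eq_of_le_of_card_le hMS.le hge)
  obtain ⟨E, hE, hEi⟩ := ih M E₁ (by omega) (hS.to_le hMS.le) hE₁ hTM ((hyperfocal_mono hE₁i.1).trans hT)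
  refine ⟨E, hE, fun P => (hEi.1 P).trans (hE₁i.1 P), hT, fun P hP => ?_⟩
  rw [Subgroup.map_le_iff_le_comap, CfsgLib.Transfer.pResidual_le_iff]
  intro α hα
  have hm := mem_autGroup_of_residual hE₁i (hP.trans hTM) (CfsgLib.Transfer.mem_pResidual hα)
  exact mem_autGroup_of_residual hEi hP (a := ⟨α, hm⟩)
    (CfsgLib.Transfer.mem_pResidual (by rw [Subgroup.orderOf_mk, Subgroup.orderOf_coe]; exact hα))

theorem pIndex_exists_unique {T : Subgroup Ω} (hS : IsPGroup p S) (hF : F.IsSaturated p) (hTS : T ≤ S)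
    (hT : F.hyperfocalSubgroup p ≤ T) :
    ∃ E : FusionSystem T, (E.IsSaturated p ∧ E.HasPPowerIndexIn F p) ∧
      ∀ E' : FusionSystem T, E'.IsSaturated p → E'.HasPPowerIndexIn F p → E' = E := by
  obtain ⟨E, hE, hEi⟩ := exists_pIndex hS hF hTS hT
  exact ⟨E, ⟨hE, hEi⟩, fun E' hE' hEi' =>
    le_antisymm' (le_of_pIndex hS hTS hE' hEi'.1 hEi) (le_of_pIndex hS hTS hE hEi.1 hEi')⟩

end CfsgLib.Fusion
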