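import Cfsg.Agent.Lib.Fusion.PPrimeCharValue
import Cfsg.Agent.Lib.Fusion.Centric

/-!
# The family of automorphism groups of value one

For a centric `P` with `P ∩ T` centric in `E` the automorphisms of value one are those whose
restriction to `P ∩ T` has value one. The other centric subgroups reduce, at a fully normalized
conjugate `Q`, to the larger subgroup `Q (N_S(Q) ∩ C_T(Q ∩ T))`. The result is a family in the sense
of `PPrimeGen.IsFamily`.
-/

namespace CfsgLib.Fusion.PPrimeChar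

open Cfsg Cfsg.FusionSystem CfsgLib.Fusion CfsgLib.FusionNormal CfsgLib.Fusion.PPrimeRes
open scoped Pointwise

variable {Ω : Type*} [Group Ω] {S T : Subgroup Ω} {F : FusionSystem S} {E : FusionSystem T}
variable {Δ : Type*} [Group Δ] {χ : ↥(F.autGroup T) →* Δ} {P Q R W H : Subgroup Ω} {p : ℕ}
variable {f g : Ω → Ω} {a b : MulAut P}

/-- `P ∩ T` is centric in `E`. -/
def Good (E : FusionSystem T) (P : Subgroup Ω) : Prop := E.IsCentric (P ⊓ T)

theorem Good.mono (hP : Good E P) (hPW : P ≤ W) : Good E W :=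
  IsCentric.of_le hP (inf_le_inf_right _ hPW) inf_le_right

/-- `Q (N_S(Q) ∩ C_T(Q ∩ T))`. -/
def hull (S T Q : Subgroup Ω) : Subgroup Ω :=
  Q ⊔ (normalizerIn S Q ⊓ centralizerIn T (Q ⊓ T))

theorem le_hull : Q ≤ hull S T Q := le_sup_left

theorem hull_le_normalizerIn (hQ : Q ≤ S) : hull S T Q ≤ normalizerIn S Q :=
  sup_le (le_normalizerIn hQ) inf_le_left

theorem hull_le (hQ : Q ≤ S) : hull S T Q ≤ S := (hull_le_normalizerIn hQ).trans normalizerIn_le

/-- The transport of an automorphism along a map. -/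
theorem exists_conj_aut {h : Ω → Ω} (hh : MapFn F W h) (hr : h '' W = (R : Set Ω)) {c : MulAut W}
    (hc : c ∈ F.autGroup W) :
    ∃ c' ∈ F.autGroup R, ∀ x ∈ W, ev c' (h x) = h (ev c x) := by
  obtain ⟨hi, hhi, hhir, hhi₁, -⟩ := hh.exists_inv hr
  have hm : MapFn F R (h ∘ (ev c ∘ hi)) :=
    (hhi.comp (mapFn_ev hh.le_S hc) fun y hy => mem_of_image hhir hy).comp hh
      fun y hy => ev_mem c (mem_of_image hhir hy)
  obtain ⟨c', hc', hc'e⟩ := exists_ev hm (by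
    rw [Set.image_comp, Set.image_comp, hhir, image_ev, hr])
  refine ⟨c', hc', fun x hx => ?_⟩
  rw [hc'e _ (mem_of_image hr hx)]
  show h (ev c (hi (h x))) = _
  rw [hhi₁ x hx]

theorem ev_pow_transport {h : Ω → Ω} (hr : h '' W = (R : Set Ω)) {c : MulAut W} {c' : MulAut R}
    (e : ∀ x ∈ W, ev c' (h x) = h (ev c x)) (n : ℕ) :
    ∀ x ∈ W, ev (c' ^ n) (h x) = h (ev (c ^ n) x) := by
  induction n with
  | zero => intro x hx; rw [pow_zero, pow_zero, ev_one (mem_of_image hr hx), ev_one hx]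
  | succ n ih =>
    intro x hx
    rw [pow_succ, pow_succ, ev_mul _ _ (mem_of_image hr hx), e x hx, ih _ (ev_mem c hx),
      ev_mul _ _ hx]

variable [Finite S] [Fact p.Prime]

omit [Fact p.Prime] in
theorem ev_mem_inf (hT : F.StronglyClosed T) (hP : P ≤ S) (ha : a ∈ F.autGroup P) {x : Ω}
    (hx : x ∈ P ⊓ T) : ev a x ∈ P ⊓ T :=
  ⟨ev_mem a hx.1, map_mem_of_sc hT (mapFn_ev hP ha) hx.1 hx.2⟩

omit [Fact p.Prime] in
theorem image_inf (hT : F.StronglyClosed T) (hf : MapFn F P f) (hr : f '' P = (R : Set Ω)) :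
    f '' (P ⊓ T : Subgroup Ω) = ((R ⊓ T : Subgroup Ω) : Set Ω) := by
  ext y
  constructor
  · rintro ⟨x, hx, rfl⟩
    exact ⟨mem_of_image hr hx.1, map_mem_of_sc hT hf hx.1 hx.2⟩
  · intro hy
    obtain ⟨g, hg, hgr, -, hg₂⟩ := hf.exists_inv hr
    exact ⟨g y, ⟨mem_of_image hgr hy.1, map_mem_of_sc hT hg hy.1 hy.2⟩, hg₂ y hy.1⟩

omit [Fact p.Prime] in
theorem Good.map (hE : E.IsInvariantIn F) (hP : Good E P) (hf : MapFn F P f)
    (hr : f '' P = (R : Set Ω)) : Good E R :=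
  centric_of_F hE hP ((hf.mono inf_le_left).isConj (image_inf hE.2.1 hf hr)) inf_le_right

/-! ### The stabilizer of `Q ∩ T` and `Q / Q ∩ T` -/

/-- Automorphisms fixing `Q ∩ T` and acting trivially on `Q` modulo `T`. -/
def stab (_hT : F.StronglyClosed T) (_hQ : Q ≤ S) : Subgroup (MulAut Q) where
  carrier := {a | a ∈ F.autGroup Q ∧ (∀ x ∈ Q, x ∈ T → ev a x = x) ∧
    ∀ x ∈ Q, x⁻¹ * ev a x ∈ T}
  one_mem' := ⟨Subgroup.one_mem _, fun x hx _ => ev_one hx, fun x hx => by simp [ev_one hx]⟩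
  mul_mem' := by
    rintro a b ⟨ha, ha₁, ha₂⟩ ⟨hb, hb₁, hb₂⟩
    refine ⟨Subgroup.mul_mem _ ha hb, fun x hx hxT => ?_, fun x hx => ?_⟩
    · rw [ev_mul a b hx, hb₁ x hx hxT, ha₁ x hx hxT]
    · have := T.mul_mem (hb₂ x hx) (ha₂ _ (ev_mem b hx))
      rwa [mul_assoc, mul_inv_cancel_left, ← ev_mul a b hx] at this
  inv_mem' := by
    rintro a ⟨ha, ha₁, ha₂⟩
    refine ⟨Subgroup.inv_mem _ ha, fun x hx hxT => ?_, fun x hx => ?_⟩
    · conv_lhs => rw [← ha₁ x hx hxT]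
      exact ev_inv_ev a hx
    · have := T.inv_mem (ha₂ _ (ev_mem a⁻¹ hx))
      rw [ev_ev_inv a hx] at this
      simpa using this

theorem stab_le_autInducedBy (hS : IsPGroup p S) (hT : F.StronglyClosed T) (hQ : Q ≤ S)
    (hQa : F.IsFullyAutomized p Q) : stab hT hQ ≤ autInducedBy S Q := by
  have := finite_of_le hQ
  have hp : IsPGroup p (stab hT hQ) := by
    rintro ⟨a, ha, ha₁, ha₂⟩
    obtain ⟨k, hk⟩ : ∃ k, a ^ p ^ k = 1 := by
      refine exists_pow_eq_one_of_stabilizes (hS.to_le hQ) (n := 1)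
        (fun i => if i = 0 then T.subgroupOf Q else ⊤) (fun i hi => ?_) rfl ⟨0, fun x hx => ?_⟩
        fun i hi x _ => ?_
      · obtain rfl : i = 0 := by omega
        simp
      · rw [if_pos rfl, Subgroup.mem_subgroupOf] at hx
        refine Subtype.ext ?_
        rw [pow_zero, pow_one, ← ev_coe a x.2]
        exact ha₁ _ x.2 hx
      · obtain rfl : i = 0 := by omega
        rw [if_pos rfl, Subgroup.mem_subgroupOf, Subgroup.coe_mul, Subgroup.coe_inv,
          ← ev_coe a x.2]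
        exact ha₂ _ x.2
    exact ⟨k, Subtype.ext hk⟩
  obtain ⟨β, hβ, hβA⟩ := FullyAutomized.exists_conj hQa (A := stab hT hQ) (fun x hx => hx.1) hp
  intro a ha
  have hconj : β⁻¹ * a * β ∈ stab hT hQ := by
    obtain ⟨ha, ha₁, ha₂⟩ := ha
    have hm : ∀ x ∈ Q, x ∈ T → ev β x ∈ T := fun x hx hxT => map_mem_of_sc hT (mapFn_ev hQ hβ) hx hxT
    have hi := mapFn_ev hQ (Subgroup.inv_mem _ hβ)
    refine ⟨Subgroup.mul_mem _ (Subgroup.mul_mem _ (Subgroup.inv_mem _ hβ) ha) hβ,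
      fun x hx hxT => ?_, fun x hx => ?_⟩
    · rw [ev_mul _ _ hx, ev_mul _ _ (ev_mem β hx), ha₁ _ (ev_mem β hx) (hm x hx hxT), ev_inv_ev β hx]
    · rw [ev_mul _ _ hx, ev_mul _ _ (ev_mem β hx)]
      have h1 : x⁻¹ = ev β⁻¹ (ev β x)⁻¹ := by rw [hi.map_inv (ev_mem β hx), ev_inv_ev β hx]
      rw [h1, ← hi.map_mul (Q.inv_mem (ev_mem β hx)) (ev_mem a (ev_mem β hx))]
      exact map_mem_of_sc hT hi (Q.mul_mem (Q.inv_mem (ev_mem β hx)) (ev_mem a (ev_mem β hx)))
        (ha₂ _ (ev_mem β hx))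
  have := hβA _ hconj
  simpa [mul_assoc] using this

/-! ### Extensions -/

omit [Fact p.Prime] [Finite S] in
theorem exists_extension_sup (hR : F.IsReceptive R) (hf : MapFn F Q f)
    (hr : f '' Q = (R : Set Ω)) (hQW : Q ≤ W ⊔ H)
    (hW : ∀ g ∈ W, g ∈ normalizerIn S Q ∧ ∃ s ∈ S, ∀ x ∈ Q, f (g * x * g⁻¹) = s * f x * s⁻¹)
    (hH : ∀ g ∈ H, g ∈ normalizerIn S Q ∧ ∃ s ∈ S, ∀ x ∈ Q, f (g * x * g⁻¹) = s * f x * s⁻¹) :
    ∃ k, MapFn F (W ⊔ H) k ∧ ∀ x ∈ Q, k x = f x := by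
  obtain ⟨φ, hφ, he⟩ := hf
  have hφr : φ.range = R := SetLike.coe_injective (by rw [← MapFn.image_eq_range he, hr])
  have hK : ∀ g, (g ∈ normalizerIn S Q ∧ ∃ s ∈ S, ∀ x ∈ Q, f (g * x * g⁻¹) = s * f x * s⁻¹) →
      g ∈ extender S Q φ := by
    rintro g ⟨hg, s, hs, hse⟩
    exact mem_extender.mpr ⟨hg.1, hg.2, s, hs, fun x hx => by rw [he, he]; exact hse x x.2⟩
  obtain ⟨ψ, hψ, hψe⟩ := Fusion.exists_extension hR hφ hφr hQW
    (sup_le (fun g hg => hK g (hW g hg)) fun g hg => hK g (hH g hg))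
  obtain ⟨k, hk, hke⟩ := mapFn_of_hom hψ
  exact ⟨k, hk, fun x hx => ((hke ⟨x, hQW hx⟩).symm.trans (hψe ⟨x, hx⟩)).trans (he ⟨x, hx⟩)⟩

omit [Fact p.Prime] [Finite S] in
theorem ext_cond {k : Ω → Ω} (hk : MapFn F W k) (hQW : Q ≤ W) (hWN : W ≤ normalizerIn S Q)
    (he : ∀ x ∈ Q, k x = f x) :
    ∀ g ∈ W, g ∈ normalizerIn S Q ∧ ∃ s ∈ S, ∀ x ∈ Q, f (g * x * g⁻¹) = s * f x * s⁻¹ :=
  fun g hg => ⟨hWN hg, k g, hk.mem_S hg, fun x hx => by
    rw [← he x hx, ← he _ (conj_mem_of_normalizer (hWN hg).2 hx)]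
    exact hk.map_conj hg (hQW hx)⟩

theorem exists_hull_hom (hS : IsPGroup p S) (hF : F.IsSaturated p) (hT : F.StronglyClosed T)
    (hR : F.IsFullyNormalized R) (hg : MapFn F Q g) (hr : g '' Q = (R : Set Ω)) :
    ∃ g', MapFn F (hull S T Q) g' ∧ (∀ x ∈ Q, g' x = g x) ∧
      ∀ x ∈ hull S T Q, g' x ∈ hull S T R := by
  obtain ⟨hRa, hRr⟩ := fullyNormalized_good hS hF hR
  have hQS := hg.le_S
  have hinf := image_inf hT hg hr
  obtain ⟨g', hg', hg'e⟩ := exists_extension_sup (W := Q)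
    (H := normalizerIn S Q ⊓ centralizerIn T (Q ⊓ T)) hRr hg hr le_sup_left
    (ext_cond hg le_rfl (le_normalizerIn hQS) fun _ _ => rfl) (by
      intro c hc
      obtain ⟨hcN, hcC⟩ := hc
      refine ⟨hcN, ?_⟩
      obtain ⟨α, hα, hαe⟩ := exists_autInducedBy (K := S) hcN.1 hcN.2
      obtain ⟨α', hα', hα'e⟩ := exists_conj_aut hg hr (autInducedBy_le_autGroup hQS hα)
      have hev : ∀ x ∈ Q, ev α x = c * x * c⁻¹ := fun x hx => by rw [ev_coe α hx]; exact hαe _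
      have hst : α' ∈ stab hT hR.1 := by
        refine ⟨hα', fun y hy hyT => ?_, fun y hy => ?_⟩
        · obtain ⟨x, hx, rfl⟩ := exists_of_image hinf (y := y) ⟨hy, hyT⟩
          rw [hα'e x hx.1, hev x hx.1, ← (mem_centralizerIn.mp hcC).2 x hx, mul_inv_cancel_right]
        · obtain ⟨x, hx, rfl⟩ := exists_of_image hr hy
          have hcx := conj_mem_of_normalizer hcN.2 hx
          rw [hα'e x hx, hev x hx, ← hg.map_inv hx, ← hg.map_mul (Q.inv_mem hx) hcx]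
          refine map_mem_of_sc hT hg (Q.mul_mem (Q.inv_mem hx) hcx) ?_
          have h1 := map_mem_of_sc hT (mapFn_conj (F := F) (P := S) le_rfl (S.inv_mem (hQS hx)))
            hcN.1 hcC.1
          have := T.mul_mem h1 (T.inv_mem hcC.1)
          simpa [mul_assoc] using this
      obtain ⟨s, hs, hse⟩ := mem_autInducedBy.mp (stab_le_autInducedBy hS hT hR.1 hRa hst)
      refine ⟨s, hs, fun x hx => ?_⟩
      rw [← hev x hx, ← hα'e x hx, ev_coe α' (mem_of_image hr hx)]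
      exact hse _)
  have hg'r : g' '' Q = (R : Set Ω) := (Set.image_congr hg'e).trans hr
  refine ⟨g', hg', hg'e, hg'.maps_sup
    (fun x hx => Subgroup.mem_sup_left (mem_of_image hg'r hx))
    (fun c hc => Subgroup.mem_sup_right ?_)⟩
  have hcW : c ∈ Q ⊔ (normalizerIn S Q ⊓ centralizerIn T (Q ⊓ T)) := Subgroup.mem_sup_right hc
  refine ⟨hg'.mem_normalizerIn le_sup_left hg'r hcW hc.1.2,
    mem_centralizerIn.mpr ⟨map_mem_of_sc hT hg' hcW hc.2.1, fun y hy => ?_⟩⟩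
  obtain ⟨x, hx, rfl⟩ := exists_of_image hinf hy
  have hxW : x ∈ Q ⊔ (normalizerIn S Q ⊓ centralizerIn T (Q ⊓ T)) := Subgroup.mem_sup_left hx.1
  rw [← hg'e x hx.1, ← hg'.map_mul hxW hcW, ← hg'.map_mul hcW hxW, (mem_centralizerIn.mp hc.2).2 x hx]

theorem exists_hull_map (hS : IsPGroup p S) (hF : F.IsSaturated p) (hT : F.StronglyClosed T)
    (hQ : F.IsFullyNormalized Q) (hR : F.IsFullyNormalized R) (hg : MapFn F Q g)
    (hr : g '' Q = (R : Set Ω)) :
    ∃ g', MapFn F (hull S T Q) g' ∧ (∀ x ∈ Q, g' x = g x) ∧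
      g' '' (hull S T Q) = (hull S T R : Set Ω) := by
  obtain ⟨g', hg', hg'e, hg'm⟩ := exists_hull_hom hS hF hT hR hg hr
  obtain ⟨gi, hgi, hgir, -, -⟩ := hg.exists_inv hr
  obtain ⟨k, ⟨φ, hφ, hφe⟩, -, hkm⟩ := exists_hull_hom hS hF hT hQ hgi hgir
  refine ⟨g', hg', hg'e, hg'.image_eq_of_maps (hull_le hR.1) hg'm ?_⟩
  exact card_le_of_map hφ (hull_le hQ.1) fun x => by rw [hφe]; exact hkm x x.2

theorem lt_hull (h : Setup p F E χ) (hQ : F.IsFullyNormalized Q) (hbad : ¬ Good E Q) :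
    Q < hull S T Q := by
  have hT := h.sc
  have hTS := h.hTS
  have hQS := hQ.1
  have hX : Q ⊓ T ≤ S := inf_le_left.trans hQS
  obtain ⟨X₂, k, hX₂n, hk, hkX, -⟩ := exists_fullyNormalized_mapFn h.hS h.hF hX
  have hQN : Q ≤ normalizerIn S (Q ⊓ T) := fun q hq => by
    have := finite_of_le hX
    exact ⟨hQS hq, mem_normalizer_of_forall fun x hx => ⟨Q.mul_mem (Q.mul_mem hq hx.1) (Q.inv_mem hq),
      map_mem_of_sc hT (mapFn_conj (F := F) (P := S) le_rfl (hQS hq)) (hTS hx.2) hx.2⟩⟩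
  obtain ⟨R, hRS, hR⟩ := (hk.mono hQN).exists_image
  have hX₂ : X₂ = R ⊓ T := SetLike.coe_injective (hkX.symm.trans (image_inf hT (hk.mono hQN) hR))
  have hX₂T : X₂ ≤ T := hX₂ ▸ inf_le_right
  have hX₂R : X₂ ≤ R := hX₂ ▸ inf_le_left
  have hC : ¬ centralizerIn T X₂ ≤ X₂ := by
    intro hC
    have hX₂c : E.IsCentric X₂ := by
      refine ⟨hX₂T, fun Y hY c hc => ?_⟩
      obtain ⟨u, hu, hur⟩ := isConj_iff.mp (isConj_symm hY)
      obtain ⟨u', hu', hu'e⟩ := (mapFn_of_sub h.inv'.1 hu).extend_centralizer h.hS h.hF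
        (isFullyCentralized_of_fullyNormalized h.hS h.hF hX₂n) hur
      have hcW : c ∈ Y ⊔ centralizerIn S Y := Subgroup.mem_sup_right ⟨hTS hc.1, hc.2⟩
      have h1 : u' c ∈ centralizerIn T X₂ := mem_centralizerIn.mpr
        ⟨map_mem_of_sc hT hu' hcW hc.1, (mem_centralizerIn.mp (hu'.mem_centralizerIn le_sup_left
          ((Set.image_congr hu'e).trans hur) hcW ⟨hTS hc.1, hc.2⟩)).2⟩
      obtain ⟨x, hx, hxe⟩ := exists_of_image hur (hC h1)
      rw [← hu'e x hx] at hxe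
      rw [← hu'.injOn (Subgroup.mem_sup_left hx) hcW hxe]
      exact hx
    exact hbad (centric_of_F h.inv' hX₂c
      (isConj_symm ((hk.mono (le_normalizerIn hX)).isConj hkX)) inf_le_right)
  have hCR : ¬ centralizerIn T X₂ ≤ R := fun hle => hC fun c hc => hX₂ ▸ ⟨hle hc, hc.1⟩
  have hC' : centralizerIn T X₂ ≤ S := centralizerIn_le.trans hTS
  have hRC : R ≤ Subgroup.normalizer (centralizerIn T X₂ : Set Ω) := fun r hr => by
    have := finite_of_le hC'
    refine mem_normalizer_of_forall fun c hc => mem_centralizerIn.mpr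
      ⟨map_mem_of_sc hT (mapFn_conj (F := F) (P := S) le_rfl (hRS hr)) (hC' hc) hc.1, fun x hx => ?_⟩
    have hx' : r⁻¹ * x * r ∈ X₂ := by
      rw [hX₂] at hx ⊢
      refine ⟨R.mul_mem (R.mul_mem (R.inv_mem hr) hx.1) hr, ?_⟩
      simpa using
        map_mem_of_sc hT (mapFn_conj (F := F) (P := S) le_rfl (S.inv_mem (hRS hr))) (hRS hx.1) hx.2
    calc x * (r * c * r⁻¹) = r * (r⁻¹ * x * r * c) * r⁻¹ := by group
      _ = r * (c * (r⁻¹ * x * r)) * r⁻¹ := by rw [(mem_centralizerIn.mp hc).2 _ hx']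
      _ = r * c * r⁻¹ * x := by group
  have hlt : R < R ⊔ centralizerIn T X₂ :=
    lt_of_le_of_ne le_sup_left fun he => hCR (he ▸ le_sup_right)
  obtain ⟨y, hy, hyR⟩ := SetLike.exists_of_lt (Fusion.lt_normalizerIn h.hS (sup_le hRS hC') hlt)
  have hym : y ∈ ((R : Set Ω) * (centralizerIn T X₂ : Set Ω) : Set Ω) := by
    rw [← Subgroup.coe_mul_of_left_le_normalizer_right R _ hRC]
    exact hy.1
  obtain ⟨r, hr, c, hc, rfl⟩ := hym
  have hcR : c ∉ R := fun hcR => hyR (R.mul_mem hr hcR)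
  have hcN : c ∈ normalizerIn S R := ⟨hC' hc, by
    have := Subgroup.mul_mem _ (Subgroup.inv_mem _ (Subgroup.le_normalizer hr)) hy.2
    rwa [inv_mul_cancel_left] at this⟩
  obtain ⟨v, hv, hvR, hvN⟩ := exists_normalizer_mapFn h.hS h.hF hQ
    (isConj_symm ((hk.mono hQN).isConj hR))
  have hvT := map_mem_of_sc hT hv hcN hc.1
  have hle := le_normalizerIn hRS
  have hvc : v c ∈ centralizerIn T (Q ⊓ T) := by
    refine mem_centralizerIn.mpr ⟨hvT, fun z hz => ?_⟩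
    obtain ⟨x, hx, rfl⟩ := exists_of_image (image_inf hT (hv.mono hle) hvR) hz
    rw [← hv.map_mul (hle hx.1) hcN, ← hv.map_mul hcN (hle hx.1),
      (mem_centralizerIn.mp hc).2 x (hX₂ ▸ hx)]
  refine lt_of_le_of_ne le_hull fun he => hcR ?_
  have hvQ : v c ∈ Q := he.ge (Subgroup.mem_sup_right ⟨hvN c hcN, hvc⟩)
  obtain ⟨x, hx, hxe⟩ := exists_of_image hvR hvQ
  rwa [← hv.injOn (hle hx) hcN hxe]

/-! ### The family -/

/-- The automorphisms of value one of a good subgroup. -/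
def goodSub (h : Setup p F E χ) (hP : Good E P) : Subgroup (MulAut P) where
  carrier := {a | a ∈ F.autGroup P ∧ P ≤ S ∧ V E χ (P ⊓ T) (ev a) 1} ∪ {1}
  one_mem' := Or.inr rfl
  mul_mem' := by
    rintro a b (⟨ha, hPS, hva⟩ | rfl) (⟨hb, hPS', hvb⟩ | rfl)
    · have := hvb.comp h.inv' hva fun x hx => ev_mem_inf h.sc hPS hb hx
      rw [mul_one] at this
      exact Or.inl ⟨Subgroup.mul_mem _ ha hb, hPS, this.congr fun x hx => (ev_mul a b hx.1).symm⟩
    · rw [mul_one]; exact Or.inl ⟨ha, hPS, hva⟩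
    · rw [one_mul]; exact Or.inl ⟨hb, hPS', hvb⟩
    · rw [mul_one]; exact Or.inr rfl
  inv_mem' := by
    rintro a (⟨ha, hPS, hva⟩ | rfl)
    · have hai := Subgroup.inv_mem _ ha
      obtain ⟨d, hd⟩ := exists_v (χ := χ) h.inv' inf_le_right ((mapFn_ev hPS hai).mono inf_le_left)
      have h1 := (hd.comp h.inv' hva fun x hx => ev_mem_inf h.sc hPS hai hx).congr (g := id)
        fun x hx => ev_ev_inv a hx.1
      have h2 := V.unique h hP h1 (v_of_E (mapFn_id inf_le_right))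
      rw [one_mul] at h2
      exact Or.inl ⟨hai, hPS, h2 ▸ hd⟩
    · rw [inv_one]; exact Or.inr rfl

/-- The automorphisms all whose transports to fully normalized subgroups `Q` extend to elements of
`K Q` on the hull of `Q`. -/
def liftSub (F : FusionSystem S) (T : Subgroup Ω) (K : ∀ Q, Subgroup (MulAut (hull S T Q)))
    (P : Subgroup Ω) : Subgroup (MulAut P) where
  carrier := {a | a ∈ F.autGroup P ∧ ∀ (Q : Subgroup Ω) (g : Ω → Ω), F.IsFullyNormalized Q →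
    MapFn F P g → g '' P = (Q : Set Ω) → ∃ a' ∈ K Q, ∀ x ∈ P, ev a' (g x) = g (ev a x)}
  one_mem' := ⟨Subgroup.one_mem _, fun Q g _ _ hgr => ⟨1, Subgroup.one_mem _, fun x hx => by
    rw [ev_one (le_hull (mem_of_image hgr hx)), ev_one hx]⟩⟩
  mul_mem' := by
    rintro a b ⟨ha, ha'⟩ ⟨hb, hb'⟩
    refine ⟨Subgroup.mul_mem _ ha hb, fun Q g hQ hg hgr => ?_⟩
    obtain ⟨a', haK, hae⟩ := ha' Q g hQ hg hgr
    obtain ⟨b', hbK, hbe⟩ := hb' Q g hQ hg hgr
    exact ⟨a' * b', Subgroup.mul_mem _ haK hbK, fun x hx => by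
      rw [ev_mul _ _ (le_hull (mem_of_image hgr hx)), hbe x hx, hae _ (ev_mem b hx), ev_mul a b hx]⟩
  inv_mem' := by
    rintro a ⟨ha, ha'⟩
    refine ⟨Subgroup.inv_mem _ ha, fun Q g hQ hg hgr => ?_⟩
    obtain ⟨a', haK, hae⟩ := ha' Q g hQ hg hgr
    refine ⟨a'⁻¹, Subgroup.inv_mem _ haK, fun x hx => ?_⟩
    have hy := ev_mem a⁻¹ hx
    have h1 := hae _ hy
    rw [ev_ev_inv a hx] at h1
    rw [← h1, ev_inv_ev _ (le_hull (mem_of_image hgr hy))]

/-- The automorphisms of value one. -/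
noncomputable def G (h : Setup p F E χ) (P : Subgroup Ω) : Subgroup (MulAut P) := by
  classical
  exact if hP : Good E P then goodSub h hP else
    liftSub F T (fun Q =>
      if _hQ : Nat.card P < Nat.card (hull S T Q) ∧ hull S T Q ≤ S then G h (hull S T Q) else ⊥) P
termination_by Nat.card S - Nat.card P
decreasing_by
  have := card_le_card_S _hQ.2
  omega

theorem mem_G_good (h : Setup p F E χ) (hP : Good E P) (hPS : P ≤ S) :
    a ∈ G h P ↔ a ∈ F.autGroup P ∧ V E χ (P ⊓ T) (ev a) 1 := by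
  rw [G, dif_pos hP]
  constructor
  · rintro (⟨ha, -, hv⟩ | rfl)
    · exact ⟨ha, hv⟩
    · exact ⟨Subgroup.one_mem _, (v_of_E (mapFn_id inf_le_right)).congr fun x hx => (ev_one hx.1).symm⟩
  · exact fun ha => Or.inl ⟨ha.1, hPS, ha.2⟩

theorem card_lt_hull (h : Setup p F E χ) (hP : ¬ Good E P) (hQ : F.IsFullyNormalized Q)
    (hg : MapFn F P g) (hgr : g '' P = (Q : Set Ω)) : Nat.card P < Nat.card (hull S T Q) := by
  obtain ⟨gi, hgi, hgir, -, -⟩ := hg.exists_inv hgr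
  have hlt := lt_hull h hQ fun hQg => hP (hQg.map h.inv' hgi hgir)
  rw [← hg.card_image hgr]
  exact card_lt_card (hull_le hQ.1) hlt

theorem mem_G_bad (h : Setup p F E χ) (hP : ¬ Good E P) :
    a ∈ G h P ↔ a ∈ F.autGroup P ∧ ∀ (Q : Subgroup Ω) (g : Ω → Ω), F.IsFullyNormalized Q →
      MapFn F P g → g '' P = (Q : Set Ω) →
      ∃ a' ∈ G h (hull S T Q), ∀ x ∈ P, ev a' (g x) = g (ev a x) := by
  rw [G, dif_neg hP]
  refine and_congr_right fun _ => forall₄_congr fun Q g hQ hg => ?_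
  refine forall_congr' fun hgr => ?_
  beta_reduce
  rw [dif_pos ⟨card_lt_hull h hP hQ hg hgr, hull_le hQ.1⟩]

theorem G_le (h : Setup p F E χ) : G h P ≤ F.autGroup P := fun a ha => by
  by_cases hP : Good E P
  · rw [G, dif_pos hP] at ha
    rcases ha with ⟨ha, -⟩ | rfl
    · exact ha
    · exact Subgroup.one_mem _
  · exact ((mem_G_bad h hP).mp ha).1

theorem G_congr (h : Setup p F E χ) {u : Ω → Ω} (hu : MapFn F P u) (hur : u '' P = (R : Set Ω))
    (ha : a ∈ G h P) {c : MulAut R} (e : ∀ x ∈ P, ev c (u x) = u (ev a x)) : c ∈ G h R := by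
  have hPS := hu.le_S
  have hRS : R ≤ S := IsConj.le_right (hu.isConj hur)
  obtain ⟨ui, hui, huir, hui₁, hui₂⟩ := hu.exists_inv hur
  have haF := G_le h ha
  have hc : c ∈ F.autGroup R := by
    refine mem_autGroup_of_ev (((hui.comp (mapFn_ev hPS haF) fun y hy => mem_of_image huir hy).comp hu
      fun y hy => ev_mem a (mem_of_image huir hy)).congr fun y hy => ?_)
    show u (ev a (ui y)) = ev c y
    rw [← e _ (mem_of_image huir hy), hui₂ y hy]
  by_cases hP : Good E P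
  · have hR : Good E R := hP.map h.inv' hu hur
    have hva := ((mem_G_good h hP hPS).mp ha).2
    have hX := image_inf h.sc hu hur
    have hXi := image_inf h.sc hui huir
    obtain ⟨d, hd⟩ := exists_v (χ := χ) h.inv' inf_le_right (hui.mono (inf_le_left : R ⊓ T ≤ R))
    obtain ⟨d', hd'⟩ := exists_v (χ := χ) h.inv' inf_le_right (hu.mono (inf_le_left : P ⊓ T ≤ P))
    have hid := (hd.comp h.inv' hd' fun y hy => mem_of_image hXi hy).congr (g := id)
      fun y hy => hui₂ y hy.1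
    have hdd := V.unique h hR hid (v_of_E (mapFn_id inf_le_right))
    have h1 := (hd.comp h.inv' hva fun y hy => mem_of_image hXi hy).comp h.inv' hd'
      fun y hy => ev_mem_inf h.sc hPS haF (mem_of_image hXi hy)
    rw [one_mul, hdd] at h1
    refine (mem_G_good h hR hRS).mpr ⟨hc, h1.congr fun y hy => ?_⟩
    show u (ev a (ui y)) = ev c y
    rw [← e _ (mem_of_image huir hy.1), hui₂ y hy.1]
  · have hR : ¬ Good E R := fun hR => hP (hR.map h.inv' hui huir)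
    refine (mem_G_bad h hR).mpr ⟨hc, fun Q g hQ hg hgr => ?_⟩
    obtain ⟨a', ha', hae⟩ := ((mem_G_bad h hP).mp ha).2 Q (g ∘ u) hQ
      (hu.comp hg fun x hx => mem_of_image hur hx) (image_comp hur hgr)
    refine ⟨a', ha', fun y hy => ?_⟩
    obtain ⟨x, hx, rfl⟩ := exists_of_image hur hy
    rw [e x hx]
    exact hae x hx

theorem G_congr_iff (h : Setup p F E χ) {u : Ω → Ω} (hu : MapFn F P u)
    (hur : u '' P = (R : Set Ω)) {c : MulAut R} (e : ∀ x ∈ P, ev c (u x) = u (ev a x)) :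
    a ∈ G h P ↔ c ∈ G h R := by
  refine ⟨fun ha => G_congr h hu hur ha e, fun hc => ?_⟩
  obtain ⟨ui, hui, huir, hui₁, -⟩ := hu.exists_inv hur
  refine G_congr h hui huir hc fun y hy => ?_
  obtain ⟨x, hx, rfl⟩ := exists_of_image hur hy
  rw [hui₁ x hx, e x hx, hui₁ _ (ev_mem a hx)]

theorem G_mem_of_pow (h : Setup p F E χ) (hPc : F.IsCentric P) (ha : a ∈ F.autGroup P) {k : ℕ}
    (hk : a ^ p ^ k = 1) : a ∈ G h P := by
  suffices H : ∀ (n : ℕ) (P : Subgroup Ω), Nat.card S - Nat.card P < n → F.IsCentric P →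
      ∀ a ∈ F.autGroup P, ∀ k : ℕ, a ^ p ^ k = 1 → a ∈ G h P from
    H _ P (Nat.lt_succ_self _) hPc a ha k hk
  intro n
  induction n with
  | zero => intro P hn; omega
  | succ n ih =>
  intro P hn hPc a ha k hk
  by_cases hP : Good E P
  · exact (mem_G_good h hP hPc.1).mpr ⟨ha, v_one_of_pow_centric h ((mapFn_ev hPc.1 ha).mono inf_le_left)
      inf_le_left hP (fun x hx => ev_mem_inf h.sc hPc.1 ha hx) hk⟩
  refine (mem_G_bad h hP).mpr ⟨ha, fun Q g hQ hg hgr => ?_⟩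
  obtain ⟨b, hb, hbe⟩ := exists_conj_aut hg hgr ha
  have hbk : ∀ y ∈ Q, ev (b ^ p ^ k) y = y := fun y hy => by
    obtain ⟨x, hx, rfl⟩ := exists_of_image hgr hy
    rw [ev_pow_transport hgr hbe _ x hx, hk, ev_one hx]
  obtain ⟨g', hg', hg'e, hg'r⟩ :=
    exists_hull_map h.hS h.hF h.sc hQ hQ (mapFn_ev hQ.1 hb) (image_ev b)
  obtain ⟨a', ha', ha'e⟩ := exists_ev hg' hg'r
  have hQc : F.IsCentric Q := IsCentric.of_conj hPc (hg.isConj hgr)
  have hagree : ∀ y ∈ Q, ev a' y = ev b y := fun y hy => (ha'e y (le_hull hy)).trans (hg'e y hy)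
  have hpow : ∀ m, ∀ y ∈ Q, ev (a' ^ m) y = ev (b ^ m) y := by
    intro m
    induction m with
    | zero => intro y hy; rw [pow_zero, pow_zero, ev_one (le_hull hy), ev_one hy]
    | succ m ihm =>
      intro y hy
      rw [pow_succ, pow_succ, ev_mul _ _ (le_hull hy), hagree y hy, ihm _ (ev_mem b hy),
        ev_mul _ _ hy]
  obtain ⟨z, hz, hze⟩ := exists_conj_of_fixed h.hS h.hF hQc le_hull (hull_le_normalizerIn hQ.1)
    (mapFn_ev (hull_le hQ.1) (Subgroup.pow_mem _ ha' (p ^ k)))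
    fun y hy => by rw [hpow _ y hy, hbk y hy]
  have hz' : a' ^ p ^ k = MulAut.conj (⟨z, le_hull hz⟩ : hull S T Q) :=
    MulEquiv.ext fun y => Subtype.ext (by
      rw [← ev_coe _ y.2, hze _ y.2]; rfl)
  obtain ⟨l, hl⟩ := h.hS ⟨z, hQ.1 hz⟩
  have hl' : (⟨z, le_hull hz⟩ : hull S T Q) ^ p ^ l = 1 := Subtype.ext (congrArg Subtype.val hl :)
  have hcard := card_lt_hull h hP hQ hg hgr
  have hle := card_le_card_S (R := hull S T Q) (hull_le hQ.1)
  refine ⟨a', ih _ (by omega) (IsCentric.of_le hQc le_hull (hull_le hQ.1)) a' ha' (k + l) ?_,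
    fun x hx => ?_⟩
  · rw [pow_add, pow_mul, hz', ← map_pow, hl', map_one]
  · rw [hagree _ (mem_of_image hgr hx), hbe x hx]

theorem agree_inner (h : Setup p F E χ) (hQ : F.IsCentric Q) (hQW : Q ≤ W) (hf : MapFn F W f)
    (hg : MapFn F W g) (e : ∀ x ∈ Q, f x = g x) :
    ∃ z ∈ Q, ∀ y ∈ W, g y = f (z * y * z⁻¹) := by
  obtain ⟨φ, hφ, hφe⟩ := hf
  obtain ⟨ψ, hψ, hψe⟩ := hg
  obtain ⟨z, hz, -, hze⟩ := exists_inner_of_agree h.hS h.hF hQW hQ hφ hψ
    fun x hx => by rw [hφe, hψe]; exact e x hx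
  refine ⟨z, hz, fun y hy => ?_⟩
  rw [← hψe ⟨y, hy⟩, hze, hφe]
  rfl

theorem G_agree (h : Setup p F E χ) (hQ : F.IsCentric Q) (hQW : Q ≤ W) (hW : W ≤ S)
    {c c' : MulAut W} (hc : c ∈ F.autGroup W) (hc' : c' ∈ F.autGroup W)
    (e : ∀ x ∈ Q, ev c x = ev c' x) : c ∈ G h W ↔ c' ∈ G h W := by
  obtain ⟨z, hz, hze⟩ := agree_inner h hQ hQW (mapFn_ev hW hc) (mapFn_ev hW hc') e
  set w : MulAut W := MulAut.conj (⟨z, hQW hz⟩ : W)
  obtain ⟨l, hl⟩ := h.hS ⟨z, hW (hQW hz)⟩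
  have hl' : (⟨z, hQW hz⟩ : W) ^ p ^ l = 1 := Subtype.ext (congrArg Subtype.val hl :)
  have hw : w ∈ G h W := by
    refine G_mem_of_pow h (IsCentric.of_le hQ hQW hW) (mem_autGroup_of_ev ((mapFn_conj hW
      (hW (hQW hz))).congr fun y hy => ?_)) (k := l) (by rw [← map_pow, hl', map_one])
    rw [ev_coe w hy]; rfl
  have hce : c' = c * w := ev_ext fun y hy => by
    rw [hze y hy, ev_mul _ _ hy, ev_coe w hy]; rfl
  rw [hce]
  exact (Subgroup.mul_mem_cancel_right _ hw).symm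

theorem exists_restrict_ev (hW : W ≤ S) {c : MulAut W} (hc : c ∈ F.autGroup W) (hRW : R ≤ W)
    (hm : ∀ x ∈ R, ev c x ∈ R) : ∃ c' ∈ F.autGroup R, ∀ x ∈ R, ev c' x = ev c x := by
  have hf := (mapFn_ev hW hc).mono hRW
  exact exists_ev hf (hf.image_eq_of_maps (hRW.trans hW) hm le_rfl)

/-- An automorphism of an overgroup has value one exactly when its restriction does. -/
theorem G_restrict_iff (h : Setup p F E χ) (hPc : F.IsCentric P) (hPW : P ≤ W) (hW : W ≤ S)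
    {c : MulAut W} (hc : c ∈ F.autGroup W) (ha : a ∈ F.autGroup P)
    (e : ∀ x ∈ P, ev c x = ev a x) : c ∈ G h W ↔ a ∈ G h P := by
  suffices H : ∀ (n : ℕ) (P W : Subgroup Ω), Nat.card S - Nat.card P < n → F.IsCentric P → P ≤ W →
      W ≤ S → ∀ c ∈ F.autGroup W, ∀ a ∈ F.autGroup P, (∀ x ∈ P, ev c x = ev a x) →
      (c ∈ G h W ↔ a ∈ G h P) from H _ P W (Nat.lt_succ_self _) hPc hPW hW c hc a ha e
  intro n
  induction n with
  | zero => intro P W hn; omega
  | succ n ih =>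
  intro P W hn hPc hPW hW c hc a ha e
  rcases eq_or_lt_of_le hPW with rfl | hlt
  · rw [ev_ext e]
  by_cases hP : Good E P
  · rw [mem_G_good h (hP.mono hPW) hW, mem_G_good h hP hPc.1]
    have hle : P ⊓ T ≤ W ⊓ T := inf_le_inf_right _ hPW
    refine ⟨fun hv => ⟨ha, (hv.2.mono hle).congr fun x hx => e x hx.1⟩, fun hv => ⟨hc, ?_⟩⟩
    obtain ⟨d, hd⟩ := exists_v (χ := χ) h.inv' inf_le_right
      ((mapFn_ev hW hc).mono (inf_le_left : W ⊓ T ≤ W))
    rwa [V.unique h hP ((hd.mono hle).congr fun x hx => e x hx.1) hv.2] at hd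
  -- the case of an overgroup normalizing `P`
  have step : ∀ W : Subgroup Ω, P < W → W ≤ normalizerIn S P → ∀ c ∈ F.autGroup W,
      (∀ x ∈ P, ev c x = ev a x) → (c ∈ G h W ↔ a ∈ G h P) := by
    intro W hlt hWN c hc e
    have hPS := hPc.1
    have hW := hWN.trans normalizerIn_le
    obtain ⟨Q, u, hQ, hu, huP, hum⟩ := exists_fullyNormalized_mapFn h.hS h.hF hPS
    have huPm := hu.mono (le_normalizerIn hPS)
    have huW := hu.mono hWN
    obtain ⟨W', hW'S, hW'⟩ := huW.exists_image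
    obtain ⟨a₁, ha₁, ha₁e⟩ := exists_conj_aut huPm huP ha
    obtain ⟨c₁, hc₁, hc₁e⟩ := exists_conj_aut huW hW' hc
    rw [G_congr_iff h huW hW' hc₁e, G_congr_iff h huPm huP ha₁e]
    have hQc : F.IsCentric Q := IsCentric.of_conj hPc (huPm.isConj huP)
    have hQbad : ¬ Good E Q := fun hQg => by
      obtain ⟨ui, hui, huir, -⟩ := huPm.exists_inv huP
      exact hP (hQg.map h.inv' hui huir)
    have hQW' : Q ≤ W' := fun y hy => by
      obtain ⟨x, hx, rfl⟩ := exists_of_image huP hy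
      exact mem_of_image hW' (hlt.le hx)
    have hW'N : W' ≤ normalizerIn S Q := fun y hy => by
      obtain ⟨x, hx, rfl⟩ := exists_of_image hW' hy
      exact hum x (hWN hx)
    have e₁ : ∀ y ∈ Q, ev c₁ y = ev a₁ y := fun y hy => by
      obtain ⟨x, hx, rfl⟩ := exists_of_image huP hy
      rw [hc₁e x (hlt.le hx), ha₁e x hx, e x hx]
    have hcard : Nat.card P < Nat.card W' := by
      rw [huW.card_image hW']; exact card_lt_card hW hlt
    set H := hull S T Q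
    have hQH : Q ≤ H := le_hull
    have hHN : H ≤ normalizerIn S Q := hull_le_normalizerIn hQ.1
    have hHS : H ≤ S := hull_le hQ.1
    have hcardH : Nat.card P < Nat.card H := card_lt_hull h hP hQ huPm huP
    obtain ⟨g₁, hg₁, hg₁e, hg₁r⟩ :=
      exists_hull_map h.hS h.hF h.sc hQ hQ (mapFn_ev hQ.1 ha₁) (image_ev a₁)
    have hW2 : W' ⊔ H ≤ S := sup_le hW'S hHS
    obtain ⟨d, hd, hde⟩ := exists_extension_sup (fullyNormalized_good h.hS h.hF hQ).2
      (mapFn_ev hQ.1 ha₁) (image_ev a₁) (le_sup_of_le_left hQW')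
      (ext_cond (mapFn_ev hW'S hc₁) hQW' hW'N e₁) (ext_cond hg₁ hQH hHN hg₁e)
    have hdW : ∀ y ∈ W', d y ∈ W' := by
      obtain ⟨z, hz, hze⟩ := agree_inner h hQc hQW' (mapFn_ev hW'S hc₁) (hd.mono le_sup_left)
        fun x hx => by rw [e₁ x hx, hde x hx]
      intro y hy
      rw [hze y hy]
      exact ev_mem c₁ (W'.mul_mem (W'.mul_mem (hQW' hz) hy) (W'.inv_mem (hQW' hz)))
    have hdH : ∀ y ∈ H, d y ∈ H := by
      obtain ⟨z, hz, hze⟩ := agree_inner h hQc hQH hg₁ (hd.mono le_sup_right)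
        fun x hx => by rw [hg₁e x hx, hde x hx]
      intro y hy
      rw [hze y hy]
      exact mem_of_image hg₁r (H.mul_mem (H.mul_mem (hQH hz) hy) (H.inv_mem (hQH hz)))
    obtain ⟨D, hD, hDe⟩ := exists_ev hd (hd.image_eq_of_maps hW2 (hd.maps_sup
      (fun x hx => Subgroup.mem_sup_left (hdW x hx)) fun x hx => Subgroup.mem_sup_right (hdH x hx))
      le_rfl)
    obtain ⟨DW, hDW, hDWe⟩ := exists_restrict_ev hW2 hD le_sup_left fun x hx => by
      rw [hDe x (Subgroup.mem_sup_left hx)]; exact hdW x hx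
    obtain ⟨DH, hDH, hDHe⟩ := exists_restrict_ev hW2 hD le_sup_right fun x hx => by
      rw [hDe x (Subgroup.mem_sup_right hx)]; exact hdH x hx
    have hW'c := IsCentric.of_le hQc hQW' hW'S
    have hHc := IsCentric.of_le hQc hQH hHS
    have hb₁ := card_le_card_S (R := W') hW'S
    have hb₂ := card_le_card_S (R := H) hHS
    rw [G_agree h hQc hQW' hW'S hc₁ hDW fun x hx => by
        rw [e₁ x hx, hDWe x (hQW' hx), hDe x (Subgroup.mem_sup_left (hQW' hx)), hde x hx],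
      ← ih W' (W' ⊔ H) (by omega) hW'c le_sup_left hW2 D hD DW hDW fun x hx => (hDWe x hx).symm,
      ih H (W' ⊔ H) (by omega) hHc le_sup_right hW2 D hD DH hDH fun x hx => (hDHe x hx).symm]
    have hDHQ : ∀ x ∈ Q, ev DH x = ev a₁ x := fun x hx => by
      rw [hDHe x (hQH hx), hDe x (Subgroup.mem_sup_right (hQH hx)), hde x hx]
    constructor
    · intro hG
      refine (mem_G_bad h hQbad).mpr ⟨ha₁, fun R g hR hg hgr => ?_⟩
      obtain ⟨g', hg', hg'e, hg'r⟩ := exists_hull_map h.hS h.hF h.sc hQ hR hg hgr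
      obtain ⟨c', hc', hc'e⟩ := exists_conj_aut hg' hg'r hDH
      refine ⟨c', G_congr h hg' hg'r hG hc'e, fun x hx => ?_⟩
      rw [← hg'e x hx, hc'e x (hQH hx), hDHQ x hx, hg'e _ (ev_mem a₁ hx)]
    · intro hG
      obtain ⟨a', ha', ha'e⟩ := ((mem_G_bad h hQbad).mp hG).2 Q id hQ (mapFn_id hQ.1) (Set.image_id _)
      exact (G_agree h hQc hQH hHS (G_le h ha') hDH fun x hx =>
        ((ha'e x hx).trans (hDHQ x hx).symm)).mp ha'
  have hltN : P < normalizerIn W P := Fusion.lt_normalizerIn h.hS hW hlt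
  have hN₁W : normalizerIn W P ≤ W := inf_le_left
  obtain ⟨c₁, hc₁, hc₁e⟩ := exists_restrict_ev hW hc hN₁W fun x hx =>
    ⟨ev_mem c hx.1, ((mapFn_ev hW hc).mem_normalizerIn hPW
      ((Set.image_congr e).trans (image_ev a)) hx.1 hx.2).2⟩
  have hle := card_le_card_S (R := normalizerIn W P) (hN₁W.trans hW)
  have hlt' := card_lt_card (hN₁W.trans hW) hltN
  rw [ih (normalizerIn W P) W (by omega) (IsCentric.of_le hPc hltN.le (hN₁W.trans hW)) hN₁W hW c hc
    c₁ hc₁ fun x hx => (hc₁e x hx).symm]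
  exact step _ hltN (inf_le_inf_right _ hW) c₁ hc₁ fun x hx => by
    rw [hc₁e x (hltN.le hx), e x hx]

theorem isFamily_G (h : Setup p F E χ) : PPrimeGen.IsFamily p F (G h) where
  le _ _ := G_le h
  pAuts _ hP := pPrimeAut_le fun a ha k hk =>
    G_mem_of_pow h hP ha (k := k) (by rw [← hk, pow_orderOf_eq_one])
  congr P R φ _ hφ e he a ha := by
    obtain ⟨u, hu, hue⟩ := mapFn_of_hom hφ
    have hur : u '' P = (R : Set Ω) := by
      ext y
      constructor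
      · rintro ⟨x, hx, rfl⟩
        rw [← hue ⟨x, hx⟩, ← he]; exact Subtype.mem _
      · intro hy
        exact ⟨(e.symm ⟨y, hy⟩ : P), Subtype.mem _, by rw [← hue, ← he, MulEquiv.apply_symm_apply]⟩
    refine G_congr h hu hur ha fun x hx => ?_
    have h1 : u x = ((e ⟨x, hx⟩ : R) : Ω) := (hue ⟨x, hx⟩).symm.trans (he _).symm
    rw [ev_coe a hx, ← hue, ← he, h1, ev_coe _ (Subtype.mem _)]
    show ((e (a (e.symm (e ⟨x, hx⟩))) : R) : Ω) = _
    rw [MulEquiv.symm_apply_apply]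
  ascend Q _ hQc a ha b hb hab :=
    (G_restrict_iff h hQc (le_normalizerIn hQc.1) normalizerIn_le ha (G_le h hb) fun x hx => by
      rw [ev_coe a (le_normalizerIn hQc.1 hx), ev_coe b hx]
      exact hab ⟨x, hx⟩ _).mpr hb

end CfsgLib.Fusion.PPrimeChar
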