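import Cfsg.Agent.Lib.Fusion.RelativeInvariant
import Cfsg.Agent.Lib.Fusion.CentralizerFocal
import Cfsg.Agent.Lib.Fusion.PIndexExist
import Cfsg.Agent.Lib.Fusion.PPrimeCharFamily

/-!
# The centralizer of a normal subsystem as a normal subsystem

For `E` normal in `F` over `T`, the subsystem of `p`-power index of `C_F(T)` over `C_S(E)` is normal in `F`.
-/

set_option autoImplicit false

namespace CfsgLib.Fusion

open Cfsg Cfsg.FusionSystem CfsgLib.FusionNormal

variable {Ω : Type*} [Group Ω] {S T : Subgroup Ω} {F : FusionSystem S} {E : FusionSystem T}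
variable {P Y : Subgroup Ω} [Finite S] {p : ℕ} [Fact p.Prime]

/-- A map between subgroups centralizing a strongly closed `T` extends to `T`. -/
theorem exists_extension_over (hS : IsPGroup p S) (hF : F.IsSaturated p) (hT : F.StronglyClosed T)
    (hP : P ≤ centralizerIn S T) {f : Ω → Ω} (hf : MapFn F P f)
    (hfm : ∀ x ∈ P, f x ∈ centralizerIn S T) :
    ∃ g, MapFn F (P ⊔ T) g ∧ (∀ x ∈ P, g x = f x) ∧ g '' T = (T : Set Ω) := by
  have hTS := hT.1
  obtain ⟨R, hRS, hR⟩ := hf.exists_image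
  have hTR : T ≤ centralizerIn S R := fun t ht => mem_centralizerIn.mpr ⟨hTS ht, fun y hy => by
    obtain ⟨x, hx, rfl⟩ := exists_of_image hR hy
    exact ((mem_centralizerIn.mp (hfm x hx)).2 t ht).symm⟩
  have hTP : T ≤ centralizerIn S P := fun t ht =>
    mem_centralizerIn.mpr ⟨hTS ht, fun y hy => ((mem_centralizerIn.mp (hP hy)).2 t ht).symm⟩
  obtain ⟨Q, f', hQn, hf', hf'R, -⟩ := exists_fullyNormalized_mapFn hS hF hRS
  have hQc := fullyCentralized_of_receptive (fullyNormalized_good hS hF hQn).2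
  have hRT : R ⊔ T ≤ normalizerIn S R :=
    sup_le (le_normalizerIn hRS) (hTR.trans centralizerIn_le_normalizerIn)
  have hfc : MapFn F P (f' ∘ f) := hf.comp hf' fun x hx => hRT (Subgroup.mem_sup_left (mem_of_image hR hx))
  obtain ⟨g₁, hg₁, hg₁e⟩ := hfc.extend_centralizer hS hF hQc (image_comp hR hf'R)
  obtain ⟨M, -, hM⟩ := (hf'.mono hRT).exists_image
  obtain ⟨k, hk, -, hk₁, -⟩ := (hf'.mono hRT).exists_inv hM
  have hf'T := image_T hT (hf'.mono hRT) le_sup_right
  have hPT : P ⊔ T ≤ P ⊔ centralizerIn S P := sup_le_sup_left hTP P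
  have hm : ∀ x ∈ P ⊔ T, g₁ x ∈ M := (hg₁.mono hPT).maps_sup
    (fun x hx => by
      rw [hg₁e x hx]
      exact mem_of_image hM (Subgroup.mem_sup_left (mem_of_image hR hx)))
    fun t ht => by
      obtain ⟨u, hu, hue⟩ := exists_of_image hf'T
        (mapFn_mem hT hg₁ (hPT (Subgroup.mem_sup_right ht)) ht)
      exact hue ▸ mem_of_image hM (Subgroup.mem_sup_right hu)
  have hg : MapFn F (P ⊔ T) (k ∘ g₁) := (hg₁.mono hPT).comp hk hm
  exact ⟨k ∘ g₁, hg, fun x hx => (congrArg k (hg₁e x hx)).trans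
    (hk₁ _ (Subgroup.mem_sup_left (mem_of_image hR hx))), image_T hT hg le_sup_right⟩

/-- The automorphism groups of `C_F(T)` are carried into one another by the maps of `F`. -/
theorem autInvariant_fixSystem (hS : IsPGroup p S) (hF : F.IsSaturated p) (hT : F.StronglyClosed T)
    (hY : Y ≤ centralizerIn S T) : AutInvariant F (fixSystem F hT.1) Y := by
  intro P R θ e hP hR hθ he a ha
  obtain ⟨f, hf, hfe⟩ := mapFn_of_hom hθ
  obtain ⟨g, hg, hge, -⟩ := exists_extension_over hS hF hT (hP.trans hY) hf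
    fun x hx => by rw [← hfe ⟨x, hx⟩, ← he]; exact hY (hR (Subtype.mem _))
  obtain ⟨A, hA, hAe, hAT⟩ := exists_fix_mapFn hT.1 (hP.trans hY) ha
  obtain ⟨M, -, hM⟩ := hg.exists_image
  obtain ⟨k, hk, hkr, hk₁, hk₂⟩ := hg.exists_inv hM
  have hge' : ∀ x : P, g x = ((e x : R) : Ω) := fun x => by rw [hge x x.2, ← hfe, he]
  have hRM : R ⊔ T ≤ M := by
    refine sup_le (fun y hy => ?_) fun t ht => ?_
    · have := hge' (e.symm ⟨y, hy⟩)
      rw [MulEquiv.apply_symm_apply] at this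
      change g _ = y at this
      rw [← this]
      exact mem_of_image hM (Subgroup.mem_sup_left (Subtype.mem _))
    · obtain ⟨u, hu, rfl⟩ := exists_of_image (image_T hT hg le_sup_right) ht
      exact mem_of_image hM (Subgroup.mem_sup_right hu)
  have hAm : ∀ x ∈ P ⊔ T, A x ∈ P ⊔ T := hA.maps_sup
    (fun x hx => Subgroup.mem_sup_left (by rw [hAe ⟨x, hx⟩]; exact Subtype.mem _))
    fun t ht => Subgroup.mem_sup_right (by rw [hAT t ht]; exact ht)
  have h1 : MapFn F (R ⊔ T) (g ∘ A ∘ k) :=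
    ((hk.comp hA fun x hx => mem_of_image hkr hx).comp hg
      fun x hx => hAm _ (mem_of_image hkr hx)).mono hRM
  refine mem_fix_autGroup hT.1 (hR.trans hY) h1 (fun r => ?_) fun t ht => ?_
  · have h2 : k r = ((e.symm r : P) : Ω) := by
      have := hk₁ _ (Subgroup.mem_sup_left (T := T) (e.symm r).2)
      rwa [hge', MulEquiv.apply_symm_apply] at this
    show g (A (k r)) = _
    rw [h2, hAe, hge']
    rfl
  · have hkt : k t ∈ T := mapFn_mem hT hk (hRM (Subgroup.mem_sup_right ht)) ht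
    show g (A (k t)) = t
    rw [hAT _ hkt, hk₂ t (hRM (Subgroup.mem_sup_right ht))]

omit [Finite S] [Fact p.Prime] in
theorem mem_of_pow_mem_coprime {A : Type*} [Group A] {H : Subgroup A} {d : A} {n j : ℕ}
    (hn : n.Coprime p) (hd : d ^ p ^ j = 1) (h : d ^ n ∈ H) : d ∈ H := by
  obtain ⟨m, hm⟩ := exists_pow_eq_self_of_coprime
    (Nat.Coprime.coprime_dvd_right (orderOf_dvd_of_pow_eq_one hd) (hn.pow_right j))
  rw [← hm]
  exact H.pow_mem h m

/-- The subsystem of `p`-power index of `C_F(T)` over `C_S(E)` is normal in `F`. -/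
theorem exists_centralizer_normal (hS : IsPGroup p S) (hE : E.IsNormalIn F p) :
    ∃ D : FusionSystem (subsystemCentralizer F E),
      D.IsNormalIn F p ∧ ∀ P : Subgroup Ω, D.Hom P ⊆ F.centralizerHom T P := by
  have hF := hE.1.2.1
  have hT := hE.1.2.2.2.1
  have hTS := hT.1
  set Y := subsystemCentralizer F E with hYdef
  have hY : Y ≤ centralizerIn S T := subsystemCentralizer_le
  have hYs : F.StronglyClosed Y := stronglyClosed_subsystemCentralizer hS hE
  have hYS := hYs.1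
  have hTY : T ≤ centralizerIn S Y := fun t ht =>
    mem_centralizerIn.mpr ⟨hTS ht, fun y hy => ((mem_centralizerIn.mp (hY hy)).2 t ht).symm⟩
  have := finite_of_le (centralizerIn_le : centralizerIn S T ≤ S)
  have hGhom : ∀ P, (fixSystem F hTS).Hom P = F.centralizerHom T P := fun P => extHom_bot F T P
  have hGsat : (fixSystem F hTS).IsSaturated p :=
    centralizerSystem_saturated hS hF (isFullyCentralized_of_stronglyClosed hT) hGhom
  have hGF : (fixSystem F hTS).IsSubsystemOf F := fun P φ hφ => ((hGhom P).le hφ).1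
  have hfoc : (fixSystem F hTS).hyperfocalSubgroup p ≤ Y :=
    (hyperfocal_le_focal _ p).trans (focal_le_subsystemCentralizer hS hE _ hGhom)
  obtain ⟨D, hD, hDi⟩ := exists_pIndex (hS.to_le centralizerIn_le) hGsat hY hfoc
  have htr := autInvariant_fixSystem hS hF hT hY
  refine ⟨D, ⟨isWeaklyNormalIn_of_relative hS hF hYs hY htr hGF hD hDi, fun α hα => ?_⟩,
    fun P φ hφ => (hGhom P).le (hDi.1 P hφ)⟩
  -- the extension condition
  have := finite_of_le hYS
  have hp : p.Prime := Fact.out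
  set U := Y ⊔ centralizerIn S Y
  have hU : U ≤ S := sup_le hYS centralizerIn_le
  rw [← mem_extSub hYs]
  obtain ⟨a, haR, g, hg, b, rfl, hb⟩ := FullyAutomized.exists_mul
    ((saturated_iff_top_and_receptive (hS.to_le hYS)).mp hD).1 hα
  refine Subgroup.mul_mem _ ?_ ((mem_extSub hYs).mpr ?_)
  swap
  · obtain ⟨c, hc, hce⟩ := exists_autInducedBy (P := U) (hYS hg)
      (Subgroup.le_normalizer (Subgroup.mem_sup_left hg))
    refine ⟨c, autInducedBy_le_autGroup hU hc, fun x => (hce _).trans (hb x).symm, fun y hy => ?_⟩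
    rw [hce, (mem_centralizerIn.mp hy).2 g hg]
    simp [Subgroup.one_mem]
  suffices H : pResidual p (D.autGroup Y) ≤ (extSub hYs).comap (D.autGroup Y).subtype from H haR
  refine CfsgLib.Transfer.pResidual_le_iff.mpr fun α hα => (mem_extSub hYs).mpr ?_
  have hαG : (α : MulAut Y) ∈ (fixSystem F hTS).autGroup Y :=
    (mem_autGroup hY).mpr (hDi.1 Y ((mem_autGroup le_rfl).mp α.2))
  obtain ⟨A, hA, hAe, hAT⟩ := exists_fix_mapFn hTS hY hαG
  set Q := Y ⊔ T
  have hQS : Q ≤ S := sup_le hYS hTS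
  have hQim : ∀ h : Ω → Ω, MapFn F Q h → h '' Q = (Q : Set Ω) := fun h hh =>
    hh.image_eq_of_maps hQS (hh.maps_sup
      (fun x hx => Subgroup.mem_sup_left (mapFn_mem hYs hh (Subgroup.mem_sup_left hx) hx))
      fun x hx => Subgroup.mem_sup_right (mapFn_mem hT hh (Subgroup.mem_sup_right hx) hx)) le_rfl
  have hQc : F.IsFullyCentralized Q := ⟨hQS, fun X hX => by
    obtain ⟨h, hh, hhX⟩ := isConj_iff.mp hX
    rw [SetLike.coe_injective (hhX.symm.trans (hQim h hh))]⟩
  have hQn : ∀ c ∈ S, c ∈ normalizerIn S Q := fun c hc =>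
    ⟨hc, by
      have := finite_of_le hQS
      exact mem_normalizer_of_forall fun x hx =>
        mem_of_image (hQim _ (mapFn_conj hQS hc)) hx⟩
  have hAY : ∀ y ∈ Y, A y ∈ Y := fun y hy => by rw [hAe ⟨y, hy⟩]; exact Subtype.mem _
  obtain ⟨B, hB, hBe⟩ := PPrimeChar.exists_extension_sup (W := Y) (H := centralizerIn S Y)
    (receptive_of_fullyCentralized hS hF hQc) hA (hQim A hA) (sup_le_sup_left hTY Y)
    (fun c hc => ⟨hQn c (hYS hc), A c, hYS (hAY c hc),
      fun x hx => hA.map_conj (Subgroup.mem_sup_left hc) hx⟩)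
    (fun c hc => ⟨hQn c hc.1, c, hc.1, fun x hx => by
      have hcn : ∀ z ∈ Q, c * z * c⁻¹ ∈ Q := fun z hz => conj_mem_of_normalizer (hQn c hc.1).2 hz
      refine MapFn.eq_on_sup ((mapFn_conj hQS hc.1).comp hA hcn) (hA.conj_comp hc.1) ?_ ?_ x hx
      · intro z hz
        show A (c * z * c⁻¹) = c * A z * c⁻¹
        rw [← (mem_centralizerIn.mp hc).2 z hz, mul_inv_cancel_right,
          ← (mem_centralizerIn.mp hc).2 _ (hAY z hz), mul_inv_cancel_right]
      · intro z hz
        show A (c * z * c⁻¹) = c * A z * c⁻¹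
        rw [hAT _ (conj_mem_of_normalizer (StronglyClosed.le_normalizer hT hc.1) hz), hAT z hz]⟩)
  have hQU : Q ≤ U := sup_le_sup_left hTY Y
  have hBY := image_T hYs hB le_sup_left
  have hBU : B '' U = (U : Set Ω) := hB.image_eq_of_maps hU (hB.maps_sup
    (fun x hx => Subgroup.mem_sup_left (mem_of_image hBY hx))
    fun x hx => Subgroup.mem_sup_right
      (hB.mem_centralizerIn le_sup_left hBY (Subgroup.mem_sup_right hx) hx)) le_rfl
  obtain ⟨β₀, hβ₀, hβ₀e⟩ := hB.exists_aut hBU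
  have hfix₀ : ∀ x : U, (x : Ω) ∈ T → β₀ x = x := fun x hx => Subtype.ext (by
    rw [hβ₀e, hBe x (Subgroup.mem_sup_right hx), hAT x hx])
  have hres : ∀ (k : ℕ) (x : Y), (β₀ ^ k) (Subgroup.inclusion le_sup_left x) =
      Subgroup.inclusion le_sup_left (((α : MulAut Y) ^ k) x) := by
    intro k
    induction k with
    | zero => intro x; rfl
    | succ k ih =>
      intro x
      rw [pow_succ', pow_succ', MulAut.mul_apply, MulAut.mul_apply, ih]
      refine Subtype.ext ?_
      rw [hβ₀e]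
      exact (hBe _ (Subgroup.mem_sup_left (Subtype.mem _))).trans (hAe _)
  have := finite_mulAut hU
  obtain ⟨n, m, hm, hord⟩ := Nat.exists_eq_pow_mul_and_not_dvd (orderOf_pos β₀).ne' p hp.ne_one
  have hcop : Nat.Coprime (orderOf (α : MulAut Y)) p := by rw [Subgroup.orderOf_coe]; exact hα
  obtain ⟨k, hk₁, hk₂⟩ := Nat.chineseRemainder (hcop.pow_right n) 1 0
  obtain ⟨d, rfl⟩ : p ^ n ∣ k := Nat.modEq_zero_iff_dvd.mp hk₂
  have hαk : (α : MulAut Y) ^ (p ^ n * d) = α := by
    conv_rhs => rw [← pow_one (α : MulAut Y)]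
    exact pow_eq_pow_iff_modEq.mpr hk₁
  obtain ⟨β, hβdef⟩ : ∃ β : MulAut U, β = β₀ ^ (p ^ n * d) := ⟨_, rfl⟩
  have hβF : β ∈ F.autGroup U := hβdef ▸ Subgroup.pow_mem _ hβ₀ _
  have hβm : β ^ m = 1 := by
    rw [hβdef, ← pow_mul, show p ^ n * d * m = p ^ n * m * d by ring, ← hord, pow_mul,
      pow_orderOf_eq_one, one_pow]
  have hmp : m.Coprime p := ((hp.coprime_iff_not_dvd).mpr hm).symm
  have hβY : ∀ x : Y, β (Subgroup.inclusion le_sup_left x) =
      Subgroup.inclusion le_sup_left ((α : MulAut Y) x) := fun x => by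
    rw [hβdef, hres, hαk]
  have hβT : ∀ x : U, (x : Ω) ∈ T → β x = x := fun x hx => by
    rw [hβdef]
    induction (p ^ n * d) with
    | zero => rfl
    | succ j ih => rw [pow_succ', MulAut.mul_apply, ih, hfix₀ x hx]
  obtain ⟨f, hf, hfr, hfe⟩ := exists_mapFn_of_aut hU hβF
  have hfY := image_T hYs hf le_sup_left
  have hTU : T ≤ U := hTY.trans le_sup_right
  have hfT : ∀ t ∈ T, f t = t := fun t ht => by rw [hfe ⟨t, hTU ht⟩, hβT ⟨t, hTU ht⟩ ht]
  -- the displacement centralizes `T` and `Y`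
  have hdis : ∀ c ∈ centralizerIn S Y, c⁻¹ * f c ∈ centralizerIn S T ∧ c⁻¹ * f c ∈ centralizerIn S Y := by
    intro c hc
    have hfc : f c ∈ centralizerIn S Y :=
      hf.mem_centralizerIn le_sup_left hfY (Subgroup.mem_sup_right hc) hc
    refine ⟨mem_centralizerIn.mpr ⟨S.mul_mem (S.inv_mem hc.1) hfc.1, fun t ht => ?_⟩,
      Subgroup.mul_mem _ ((centralizerIn S Y).inv_mem hc) hfc⟩
    have h1 := hf.map_conj (Subgroup.mem_sup_right hc) (hTU ht)
    rw [hfT t ht, hfT _ (conj_mem_of_normalizer (StronglyClosed.le_normalizer hT hc.1) ht)] at h1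
    calc t * (c⁻¹ * f c) = c⁻¹ * (c * t * c⁻¹) * f c := by group
      _ = c⁻¹ * (f c * t * (f c)⁻¹) * f c := by rw [h1]
      _ = c⁻¹ * f c * t := by group
  refine ⟨β, hβF, fun x => by rw [hβY]; rfl, fun c hc => ?_⟩
  rw [← hfe]
  obtain ⟨hdT, hdY⟩ := hdis c hc
  refine ⟨?_, hdY.2⟩
  obtain ⟨u, hudef⟩ : ∃ u, u = (c : Ω)⁻¹ * f c := ⟨_, rfl⟩
  rw [← hudef] at hdT hdY ⊢
  -- modulo `Y` the displacement is fixed
  have hy : u⁻¹ * f u ∈ Y := Subgroup.subset_closure (goodElt_focal hS hE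
    (hf.mono (sup_le hTU (Subgroup.zpowers_le.mpr (Subgroup.mem_sup_right hdY)))) hfT hdT)
  obtain ⟨v, hvdef⟩ : ∃ v, v = u⁻¹ * f u := ⟨_, rfl⟩
  rw [← hvdef] at hy
  have hiter : ∀ j : ℕ, ∃ z ∈ Y, (((β ^ j) c : U) : Ω) = c * u ^ j * z := by
    intro j
    induction j with
    | zero => exact ⟨1, Y.one_mem, by simp⟩
    | succ j ih =>
      obtain ⟨z, hz, hze⟩ := ih
      refine ⟨v ^ j * f z, Y.mul_mem (Y.pow_mem hy j) (mem_of_image hfY hz), ?_⟩
      have huU : u ∈ U := Subgroup.mem_sup_right hdY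
      rw [pow_succ', MulAut.mul_apply, ← hfe, hze,
        hf.map_mul (U.mul_mem c.2 (U.pow_mem huU j)) (Subgroup.mem_sup_left hz),
        hf.map_mul c.2 (U.pow_mem huU j), hf.map_pow huU]
      have h1 : f (c : Ω) = c * u := by rw [hudef, mul_inv_cancel_left]
      have h2 : f u = u * v := by rw [hvdef, mul_inv_cancel_left]
      have h3 : Commute u v := ((mem_centralizerIn.mp hdY).2 v hy).symm
      rw [h1, h2, h3.mul_pow, pow_succ']
      group
  obtain ⟨z, hz, hze⟩ := hiter m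
  rw [hβm] at hze
  have h4 : u ^ m = z⁻¹ := by
    have h5 : (c : Ω) * (u ^ m * z) = c * 1 := by rw [← mul_assoc, mul_one]; exact hze.symm
    exact eq_inv_of_mul_eq_one_left (mul_left_cancel h5)
  obtain ⟨j, hj⟩ := hS ⟨u, hdY.1⟩
  exact mem_of_pow_mem_coprime hmp (congrArg Subtype.val hj) (h4 ▸ Y.inv_mem hz)

end CfsgLib.Fusion
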