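import Cfsg.Agent.Lib.Fusion.Saturated

/-!
# An induction principle for maps of saturated systems, and two applications

`hom_induction` reduces a property of maps that is closed under composition, inversion and
restriction to a Frattini condition on the automorphism groups of fully automized receptive
subgroups. It gives congruent extensions modulo a strongly closed subgroup and the criterion:
a strongly closed subgroup with a central series of strongly closed subgroups is normal.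
-/

set_option autoImplicit false

namespace CfsgLib.FusionExtend

open Cfsg Cfsg.FusionSystem CfsgLib.Fusion
open scoped Pointwise

variable {Ω : Type*} [Group Ω] {S : Subgroup Ω} {F : FusionSystem S}

/-- Maps of the system preserve membership in a strongly closed subgroup. -/
theorem sc_apply {A : Subgroup Ω} (hA : F.StronglyClosed A) {P : Subgroup Ω} {φ : P →* Ω}
    (hφ : φ ∈ F.Hom P) (x : P) (hx : (x : Ω) ∈ A) : φ x ∈ A :=
  hA.2 (P ⊓ A) inf_le_right _ (restrict_mem inf_le_left hφ) ⟨x, x.2, hx⟩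

theorem sc_normalizer {A : Subgroup Ω} (hA : F.StronglyClosed A) :
    S ≤ Subgroup.normalizer (A : Set Ω) := by
  intro g hg
  rw [Subgroup.mem_normalizer_iff]
  have h : ∀ s ∈ S, ∀ x ∈ A, s * x * s⁻¹ ∈ A := fun s hs x hx =>
    sc_apply hA (F.conj_mem hA.1 hs) ⟨x, hx⟩ hx
  refine fun x => ⟨h g hg x, fun hx => ?_⟩
  have h2 := h g⁻¹ (S.inv_mem hg) _ hx
  simpa [mul_assoc] using h2

theorem sc_self : F.StronglyClosed S :=
  ⟨le_rfl, fun _ _ _ hφ x => apply_mem_S hφ x⟩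

theorem sc_bot : F.StronglyClosed ⊥ := by
  refine ⟨bot_le, fun R hR φ _ x => ?_⟩
  have hx : x = 1 := Subtype.ext ((Subgroup.mem_bot).mp (hR x.2))
  rw [hx, map_one]
  exact Subgroup.one_mem _

/-- On a subgroup containing it, a map carries a strongly closed subgroup onto itself. -/
theorem sc_map_eq [Finite S] {A : Subgroup Ω} (hA : F.StronglyClosed A) {P : Subgroup Ω}
    {φ : P →* Ω} (hφ : φ ∈ F.Hom P) (hAP : A ≤ P) : (A.subgroupOf P).map φ = A := by
  have := finite_of_le hA.1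
  refine eq_of_le_of_card_le ?_ (card_map_subgroupOf (F.injective_of_mem hφ) hAP).ge
  rintro _ ⟨x, hx, rfl⟩
  exact sc_apply hA hφ x hx

/-- A map sends elements outside a strongly closed subgroup outside. -/
theorem sc_apply_iff {A : Subgroup Ω} (hA : F.StronglyClosed A) {P : Subgroup Ω} {φ : P →* Ω}
    (hφ : φ ∈ F.Hom P) (x : P) : φ x ∈ A ↔ (x : Ω) ∈ A := by
  refine ⟨fun h => ?_, sc_apply hA hφ x⟩
  obtain ⟨ψ, hψ, -, hi, -⟩ := exists_inv hφ (rfl : φ.range = φ.range)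
  rw [← hi x ⟨x, rfl⟩]
  exact sc_apply hA hψ _ h

/-- The induction principle: a property of maps that passes to restrictions, composites and
inverses, holds on the subgroups in `Big` (among them `S`), and, on every other fully automized
receptive `Q`, holds on the elements of a normal subgroup `K` of `Aut_F(Q)` such that some
element of `N_S(Q)` outside `Q` acts on `Q` as an element of `K`, holds on all maps. -/
theorem hom_induction [Finite S] {p : ℕ} [Fact p.Prime] (hS : IsPGroup p S) (hF : F.IsSaturated p)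
    (C : ∀ P : Subgroup Ω, (P →* Ω) → Prop) (Big : Subgroup Ω → Prop)
    (hrestrict : ∀ (P R : Subgroup Ω) (φ : P →* Ω), φ ∈ F.Hom P → C P φ → ∀ (hRP : R ≤ P) (χ : R →* Ω),
      (∀ x : R, χ x = φ ⟨x, hRP x.2⟩) → C R χ)
    (hcomp : ∀ (P Q : Subgroup Ω) (φ : P →* Ω) (ψ : Q →* Ω), φ ∈ F.Hom P → ψ ∈ F.Hom Q →
      C P φ → C Q ψ → ∀ (h : ∀ x : P, φ x ∈ Q) (χ : P →* Ω), (∀ x : P, χ x = ψ ⟨φ x, h x⟩) → C P χ)
    (hinv : ∀ (P Q : Subgroup Ω) (φ : P →* Ω) (ψ : Q →* Ω), φ ∈ F.Hom P → ψ ∈ F.Hom Q → φ.range = Q →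
      (∀ (x : P) (h : φ x ∈ Q), ψ ⟨φ x, h⟩ = (x : Ω)) → C P φ → C Q ψ)
    (hbigS : Big S) (hbig : ∀ (P : Subgroup Ω) (φ : P →* Ω), φ ∈ F.Hom P → Big P → C P φ)
    (hK : ∀ Q : Subgroup Ω, F.IsFullyAutomized p Q → F.IsReceptive Q → ¬ Big Q →
      ∃ K : Subgroup (F.autGroup Q), K.Normal ∧
        (∀ κ ∈ K, C Q (Q.subtype.comp ((κ : F.autGroup Q) : MulAut Q).toMonoidHom)) ∧
        ∃ g ∈ normalizerIn S Q, g ∉ Q ∧ ∃ κ ∈ K,
          ∀ x : Q, ((((κ : F.autGroup Q) : MulAut Q) x : Q) : Ω) = g * (x : Ω) * g⁻¹) :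
    ∀ (P : Subgroup Ω) (φ : P →* Ω), φ ∈ F.Hom P → C P φ := by
  suffices h : ∀ (n : ℕ) (P : Subgroup Ω) (φ : P →* Ω), Nat.card S - Nat.card P < n →
      φ ∈ F.Hom P → C P φ from fun P φ hφ => h _ P φ (Nat.lt_succ_self _) hφ
  intro n
  induction n with
  | zero => intro P φ h; omega
  | succ n ih =>
  intro P φ hn hφ
  by_cases hPS : P = S
  · exact hbig P φ hφ (hPS ▸ hbigS)
  have hP : P < S := lt_of_le_of_ne (le_S hφ) hPS
  obtain ⟨Q, hQc, hQa, hQr⟩ := hF P hP.le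
  have hQS : Q ≤ S := hQa.1
  have := finite_of_le hP.le
  have := finite_of_le hQS
  have hgrow : ∀ (M N : Subgroup Ω) (ψ : N →* Ω), M ≤ N → Nat.card M = Nat.card P →
      ¬ N ≤ M → ψ ∈ F.Hom N → C N ψ := by
    intro M N ψ hMN hM hne hψ
    refine ih N ψ ?_ hψ
    have := finite_of_le (le_S hψ)
    have h1 : Nat.card M < Nat.card N := by
      refine lt_of_not_ge fun hle => hne ?_
      rw [eq_of_le_of_card_le hMN hle]
    have h2 : Nat.card N ≤ Nat.card S := card_le_of_map (subtype_mem (F := F) (le_S hψ)) le_rfl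
      fun x => le_S hψ x.2
    omega
  -- every conjugate of `Q` reaches `Q` by a good map
  have good : ∀ R : Subgroup Ω, F.IsConj R Q → ∃ χ ∈ F.Hom R, χ.range = Q ∧ C R χ := by
    intro R hR
    obtain ⟨f, hf, -, hfR⟩ := exists_normalizer_hom hS hQa hQr hR
    have hRS : R ≤ S := IsConj.le_left hR
    obtain ⟨χ, hχ, hχr, hχe⟩ := exists_restrict hf (le_normalizerIn hRS) hfR
    have hRc : Nat.card R = Nat.card P := (IsConj.card_eq hR).symm.trans (IsConj.card_eq hQc)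
    have hlt : R < S := lt_of_le_of_ne hRS fun h => hPS
      (eq_of_le_of_card_le hP.le (by rw [← hRc, h]))
    have hg := lt_normalizerIn hS le_rfl hlt
    exact ⟨χ, hχ, hχr, hrestrict _ _ f hf
      (hgrow R _ f (le_normalizerIn hRS) hRc hg.not_ge hf) (le_normalizerIn hRS) χ hχe⟩
  -- every automorphism of `Q` is good
  have haut : ∀ α : MulAut Q, α ∈ F.autGroup Q → C Q (Q.subtype.comp α.toMonoidHom) := by
    intro α hα
    by_cases hB : Big Q
    · exact hbig Q _ ((mem_autGroup hQS).mp hα) hB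
    obtain ⟨K, hKn, hKC, g, hg, hgQ, κ₀, hκ₀, hκ₀g⟩ := hK Q hQa hQr hB
    obtain ⟨-, T, hT⟩ := hQa
    have := finite_mulAut hQS
    -- `T ⊓ K` is a Sylow subgroup of `K`; the Frattini argument
    have hκ₀T : κ₀ ∈ (T : Subgroup (F.autGroup Q)) := by
      rw [hT]
      exact Subgroup.mem_subgroupOf.mpr (mem_autInducedBy.mpr ⟨g, hg.1, hκ₀g⟩)
    obtain ⟨U, hU⟩ := ((T.2.to_le (inf_le_left (b := K))).comap_subtype (K := K)).exists_le_sylow
    have hUT : (U : Subgroup K).map K.subtype = (T : Subgroup (F.autGroup Q)) ⊓ K := by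
      refine le_antisymm ?_ fun y hy => ⟨⟨y, hy.2⟩, hU hy, rfl⟩
      obtain ⟨T', hT'⟩ := (U.2.map K.subtype).exists_le_sylow
      obtain ⟨a, ha⟩ := MulAction.exists_smul_eq (F.autGroup Q) T' T
      have hsub : ((U : Subgroup K).map K.subtype).map (MulAut.conj a).toMonoidHom ≤
          (T : Subgroup (F.autGroup Q)) ⊓ K := by
        rintro _ ⟨y, hy, rfl⟩
        refine ⟨?_, ?_⟩
        · rw [← ha, Sylow.coe_subgroup_smul]
          exact Subgroup.smul_mem_pointwise_smul _ (MulAut.conj a) _ (hT' hy)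
        · exact hKn.conj_mem y (Subgroup.map_subtype_le _ hy) a
      have hc : Nat.card ((U : Subgroup K).map K.subtype) ≤
          Nat.card ↥((T : Subgroup (F.autGroup Q)) ⊓ K) := by
        refine le_trans (Nat.card_congr (Subgroup.equivMapOfInjective _ (MulAut.conj a).toMonoidHom
          (MulAut.conj a).injective).toEquiv).le ?_
        exact Subgroup.card_le_of_le hsub
      have hle : (T : Subgroup (F.autGroup Q)) ⊓ K ≤ (U : Subgroup K).map K.subtype :=
        fun y hy => ⟨⟨y, hy.2⟩, hU hy, rfl⟩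
      exact (eq_of_le_of_card_le hle hc).symm.le
    have hfr : (⟨α, hα⟩ : F.autGroup Q) ∈
        K ⊔ Subgroup.normalizer (((U : Subgroup K).map K.subtype : Subgroup (F.autGroup Q)) :
          Set (F.autGroup Q)) := by
      rw [sup_comm, Sylow.normalizer_sup_eq_top U]
      exact Subgroup.mem_top _
    obtain ⟨κ, hκ, β, hβN, hκβ⟩ := Subgroup.mem_sup_of_normal_left.mp hfr
    rw [hUT] at hβN
    obtain ⟨β', hβ', hβr, hβe⟩ := exists_map_of_mem_autGroup hQS β.2
    -- `β` extends beyond `Q`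
    have hgext : g ∈ extender S Q β' := by
      have h1 := (Subgroup.mem_normalizer_iff.mp hβN κ₀).mp ⟨hκ₀T, hκ₀⟩
      have h2 : β * κ₀ * β⁻¹ ∈ (autInducedBy S Q).subgroupOf (F.autGroup Q) := hT ▸ h1.1
      obtain ⟨h, hh, hhe⟩ := mem_autInducedBy.mp (Subgroup.mem_subgroupOf.mp h2)
      refine mem_extender.mpr ⟨hg.1, hg.2, h, hh, fun x hx => ?_⟩
      rw [hβe, hβe, ← hhe]
      simp [← hκ₀g x]
    obtain ⟨ψ, hψ, hψe⟩ := exists_extension hQr hβ' hβr (le_sup_left (b := Subgroup.zpowers g))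
      (sup_le (le_extender hQS (apply_mem_S hβ')) (Subgroup.zpowers_le.mpr hgext))
    have hψC := hgrow Q _ ψ le_sup_left (IsConj.card_eq hQc)
      (fun h => hgQ (h (Subgroup.mem_sup_right (Subgroup.mem_zpowers g)))) hψ
    have hβC : C Q β' := hrestrict _ _ ψ hψ hψC le_sup_left β' fun x => (hψe x).symm
    refine hcomp Q Q β' _ hβ' ((mem_autGroup hQS).mp κ.2) hβC (hKC κ hκ)
      (fun x => hβr.le ⟨x, rfl⟩) _ fun x => ?_
    have h3 : α = (κ : MulAut Q) * (β : MulAut Q) := by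
      have := congrArg (fun z : F.autGroup Q => (z : MulAut Q)) hκβ
      simpa using this.symm
    rw [h3]
    simp [hβe]
  -- an arbitrary map
  obtain ⟨χ, hχ, hχr, hχC⟩ := good P hQc
  set R := φ.range with hR
  have hRQ : F.IsConj R Q := isConj_trans (isConj_symm ⟨φ, hφ, rfl⟩) hQc
  obtain ⟨χ', hχ', hχ'r, hχ'C⟩ := good R hRQ
  obtain ⟨χi, hχi, hχir, hχi₁, -⟩ := exists_inv hχ hχr
  obtain ⟨χ'i, hχ'i, hχ'ir, hχ'i₁, -⟩ := exists_inv hχ' hχ'r
  obtain ⟨θ, hθ, hθe⟩ := exists_comp hχi hφ fun y => hχir.le ⟨y, rfl⟩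
  obtain ⟨a, ha, hae⟩ := exists_comp hθ hχ' fun y => ⟨_, (hθe y).symm⟩
  have har : a.range = Q := by
    refine range_eq_of_card_le ha hQS (fun y => ?_) le_rfl
    rw [hae]
    exact hχ'r.le ⟨_, rfl⟩
  obtain ⟨α, hα, hαe⟩ := exists_aut ha har
  have haC : C Q a := by
    have h := haut α hα
    have he : Q.subtype.comp α.toMonoidHom = a := MonoidHom.ext hαe
    rwa [he] at h
  obtain ⟨b, hb, hbe⟩ := exists_comp hχ ha fun x => hχr.le ⟨x, rfl⟩
  have hbC : C P b := hcomp _ _ χ a hχ ha hχC haC (fun x => hχr.le ⟨x, rfl⟩) b hbe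
  have hχ'iC : C Q χ'i := hinv _ _ χ' χ'i hχ' hχ'i hχ'r hχ'i₁ hχ'C
  refine hcomp _ _ b χ'i hb hχ'i hbC hχ'iC (fun x => ?_) φ fun x => ?_
  · rw [hbe]; exact har.le ⟨_, rfl⟩
  · refine ((apply_eq_of_coe_eq ?_).trans (hχ'i₁ ⟨φ x, x, rfl⟩ (hχ'r.le ⟨_, rfl⟩))).symm
    show b x = χ' ⟨φ x, _⟩
    rw [hbe, hae]
    refine apply_eq_of_coe_eq ?_
    show θ _ = φ x
    rw [hθe]
    exact apply_eq_of_coe_eq (hχi₁ x _)

/-- If `Q` does not contain the strongly closed subgroup `A`, some element of `A` outside `Q`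
normalizes `Q`. -/
theorem exists_mem_normalizerIn [Finite S] {p : ℕ} [Fact p.Prime] (hS : IsPGroup p S)
    {A Q : Subgroup Ω} (hA : F.StronglyClosed A) (hQ : Q ≤ S) (hAQ : ¬ A ≤ Q) :
    ∃ a ∈ A, a ∈ normalizerIn S Q ∧ a ∉ Q := by
  have hlt : Q < Q ⊔ A := lt_of_le_of_ne le_sup_left fun h => hAQ (h ▸ le_sup_right)
  obtain ⟨g, hg, hgQ⟩ := SetLike.exists_of_lt (lt_normalizerIn hS (sup_le hQ hA.1) hlt)
  have hgs : g ∈ ((Q : Set Ω) * (A : Set Ω)) := by
    rw [← Subgroup.coe_mul_of_left_le_normalizer_right Q A (hQ.trans (sc_normalizer hA))]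
    exact hg.1
  obtain ⟨q, hq, a, ha, rfl⟩ := hgs
  refine ⟨a, ha, ⟨hA.1 ha, ?_⟩, fun h => hgQ (Q.mul_mem hq h)⟩
  have h1 := Subgroup.mul_mem _ (Subgroup.inv_mem _ (Subgroup.le_normalizer hq)) hg.2
  rwa [inv_mul_cancel_left] at h1

/-- Modulo a strongly closed subgroup every map extends to a map on `P S₀`. -/
theorem exists_congr_extension [Finite S] {p : ℕ} [Fact p.Prime] (hS : IsPGroup p S)
    (hF : F.IsSaturated p) {A : Subgroup Ω} (hA : F.StronglyClosed A) {P : Subgroup Ω} {φ : P →* Ω}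
    (hφ : φ ∈ F.Hom P) :
    ∃ ψ ∈ F.Hom (P ⊔ A), ∀ x : P, (φ x)⁻¹ * ψ ⟨x, Subgroup.mem_sup_left x.2⟩ ∈ A := by
  have cong : ∀ (R : Subgroup Ω) (ψ : R →* Ω), ψ ∈ F.Hom R → ∀ a b : R, (a : Ω)⁻¹ * b ∈ A →
      (ψ a)⁻¹ * ψ b ∈ A := fun R ψ hψ a b h => by
    rw [← map_inv, ← map_mul]
    exact sc_apply hA hψ _ h
  refine hom_induction hS hF
    (fun P φ => ∃ ψ ∈ F.Hom (P ⊔ A), ∀ x : P, (φ x)⁻¹ * ψ ⟨x, Subgroup.mem_sup_left x.2⟩ ∈ A)
    (fun P => A ≤ P) ?_ ?_ ?_ hA.1 ?_ ?_ P φ hφ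
  · intro P R φ _ ⟨ψ, hψ, h⟩ hRP χ hχ
    refine ⟨_, restrict_mem (sup_le_sup_right hRP A) hψ, fun x => ?_⟩
    rw [hχ]
    exact h ⟨x, hRP x.2⟩
  · intro P Q φ ψ hφ hψ ⟨φ', hφ', h₁⟩ ⟨ψ', hψ', h₂⟩ hm χ hχ
    have hm' : ∀ x : (P ⊔ A : Subgroup Ω), φ' x ∈ Q ⊔ A := by
      have hle : P ⊔ A ≤ ((Q ⊔ A).comap φ').map (P ⊔ A).subtype := by
        refine sup_le (fun y hy => ⟨⟨y, Subgroup.mem_sup_left hy⟩, ?_, rfl⟩)
          (fun y hy => ⟨⟨y, Subgroup.mem_sup_right hy⟩, ?_, rfl⟩)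
        · show φ' _ ∈ Q ⊔ A
          have e : φ' ⟨y, Subgroup.mem_sup_left hy⟩ =
              φ ⟨y, hy⟩ * ((φ ⟨y, hy⟩)⁻¹ * φ' ⟨y, Subgroup.mem_sup_left hy⟩) := by group
          rw [e]
          exact Subgroup.mul_mem _ (Subgroup.mem_sup_left (hm _)) (Subgroup.mem_sup_right (h₁ ⟨y, hy⟩))
        · exact Subgroup.mem_sup_right (sc_apply hA hφ' _ hy)
      intro x
      obtain ⟨y, hy, hyx⟩ := hle x.2
      have : y = x := Subtype.ext hyx
      subst this
      exact hy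
    obtain ⟨θ, hθ, hθe⟩ := exists_comp hφ' hψ' hm'
    refine ⟨θ, hθ, fun x => ?_⟩
    rw [hθe, hχ]
    have e1 := cong _ ψ' hψ' ⟨φ x, Subgroup.mem_sup_left (hm x)⟩
      ⟨φ' ⟨x, Subgroup.mem_sup_left x.2⟩, hm' _⟩ (h₁ x)
    have e2 := A.mul_mem (h₂ ⟨φ x, hm x⟩) e1
    simpa [mul_assoc] using e2
  · intro P Q φ ψ hφ hψ hr hi ⟨φ', hφ', h₁⟩
    obtain ⟨ψ', hψ', -, hi', -⟩ := exists_inv hφ' (rfl : φ'.range = φ'.range)
    have hle : Q ⊔ A ≤ φ'.range := by
      have hAr : A ≤ φ'.range := fun a ha => by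
        obtain ⟨x, -, hx⟩ := (sc_map_eq hA hφ' le_sup_right).ge ha
        exact ⟨x, hx⟩
      refine sup_le (fun y hy => ?_) hAr
      obtain ⟨x, rfl⟩ := hr.ge hy
      have h2 := φ'.range.mul_mem ⟨⟨x, Subgroup.mem_sup_left x.2⟩, rfl⟩ (φ'.range.inv_mem (hAr (h₁ x)))
      simpa using h2
    refine ⟨_, restrict_mem hle hψ', fun y => ?_⟩
    obtain ⟨x, hx⟩ := hr.ge y.2
    have e0 : ψ y = (x : Ω) := by
      refine Eq.trans (apply_eq_of_coe_eq hx.symm) (hi x (hr.le ⟨x, rfl⟩))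
    have hrange : φ' ⟨x, Subgroup.mem_sup_left x.2⟩ ∈ φ'.range := ⟨_, rfl⟩
    have h1' : (φ' ⟨x, Subgroup.mem_sup_left x.2⟩)⁻¹ * (y : Ω) ∈ A := by
      have := A.inv_mem (h₁ x)
      rw [hx] at this
      simpa using this
    have e1 := cong _ ψ' hψ' ⟨_, hrange⟩ ⟨(y : Ω), hle (Subgroup.mem_sup_left y.2)⟩ h1'
    rw [hi'] at e1
    rw [e0]
    exact e1
  · intro P φ hφ hAP
    refine ⟨_, restrict_mem (sup_le le_rfl hAP) hφ, fun x => ?_⟩
    have : (φ x)⁻¹ * φ x ∈ A := by rw [inv_mul_cancel]; exact A.one_mem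
    exact this
  · intro Q hQa hQr hAQ
    have hQS := hQa.1
    let K : Subgroup (F.autGroup Q) :=
      { carrier := {κ | ∀ x : Q, (x : Ω)⁻¹ * (((κ : MulAut Q) x : Q) : Ω) ∈ A}
        one_mem' := fun x => by simp
        mul_mem' := fun {a b} ha hb x => by
          have := A.mul_mem (hb x) (ha ((b : MulAut Q) x))
          simpa [mul_assoc] using this
        inv_mem' := fun {a} ha x => by
          have := A.inv_mem (ha (((a : MulAut Q))⁻¹ x))
          simpa [MulAut.inv_def] using this }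
    refine ⟨K, ⟨fun κ hκ a x => ?_⟩, fun κ hκ => ?_, ?_⟩
    · obtain ⟨f, hf, -, hfe⟩ := exists_map_of_mem_autGroup hQS a.2
      set y : Q := (a : MulAut Q)⁻¹ x with hy
      have h1 := cong Q f hf y ((κ : MulAut Q) y) (hκ y)
      rw [hfe, hfe] at h1
      simpa [hy, MulAut.inv_def] using h1
    · refine ⟨_, subtype_mem (sup_le hQS hA.1), fun x => ?_⟩
      have := A.inv_mem (hκ x)
      simpa using this
    · obtain ⟨a, ha, haN, haQ⟩ := exists_mem_normalizerIn hS hA hQS hAQ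
      obtain ⟨α, hα, hαe⟩ := exists_autInducedBy (K := S) haN.1 haN.2
      refine ⟨a, haN, haQ, ⟨α, autInducedBy_le_autGroup hQS hα⟩, fun x => ?_, hαe⟩
      show (x : Ω)⁻¹ * ((α x : Q) : Ω) ∈ A
      rw [hαe]
      have hn := sc_normalizer hA (hQS x.2)
      have h1 := (Subgroup.mem_normalizer_iff'.mp hn ((x : Ω)⁻¹ * a)).mpr (by simpa using ha)
      simpa [mul_assoc] using A.mul_mem h1 (A.inv_mem ha)

/-- A strongly closed subgroup with a central series of strongly closed subgroups is normal. -/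
theorem isNormal_of_central_series [Finite S] {p : ℕ} [Fact p.Prime] (hS : IsPGroup p S)
    (hF : F.IsSaturated p) {A : Subgroup Ω} (hA : F.StronglyClosed A) (T : ℕ → Subgroup Ω) (n : ℕ)
    (h0 : T 0 = ⊥) (hn : T n = A) (hT : ∀ i, F.StronglyClosed (T i))
    (hc : ∀ i < n, ⁅T (i + 1), A⁆ ≤ T i) : F.IsNormal A := by
  refine ⟨hA.1, fun P φ hφ => ?_⟩
  suffices h : ∃ ψ ∈ F.Hom (P ⊔ A), ∀ x : P, ψ ⟨x, Subgroup.mem_sup_left x.2⟩ = φ x by
    obtain ⟨ψ, hψ, h⟩ := h
    exact ⟨ψ, hψ, h, sc_map_eq hA hψ le_sup_right⟩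
  refine hom_induction hS hF
    (fun P φ => ∃ ψ ∈ F.Hom (P ⊔ A), ∀ x : P, ψ ⟨x, Subgroup.mem_sup_left x.2⟩ = φ x)
    (fun P => A ≤ P) ?_ ?_ ?_ hA.1 ?_ ?_ P φ hφ
  · intro P R φ _ ⟨ψ, hψ, h⟩ hRP χ hχ
    exact ⟨_, restrict_mem (sup_le_sup_right hRP A) hψ, fun x => by rw [hχ]; exact h ⟨x, hRP x.2⟩⟩
  · intro P Q φ ψ hφ hψ ⟨φ', hφ', h₁⟩ ⟨ψ', hψ', h₂⟩ hm χ hχ
    have hm' : ∀ x : (P ⊔ A : Subgroup Ω), φ' x ∈ Q ⊔ A := by
      have hle : P ⊔ A ≤ ((Q ⊔ A).comap φ').map (P ⊔ A).subtype := by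
        refine sup_le (fun y hy => ⟨⟨y, Subgroup.mem_sup_left hy⟩, ?_, rfl⟩)
          (fun y hy => ⟨⟨y, Subgroup.mem_sup_right hy⟩, ?_, rfl⟩)
        · exact Subgroup.mem_sup_left ((h₁ ⟨y, hy⟩).symm ▸ hm _)
        · exact Subgroup.mem_sup_right (sc_apply hA hφ' _ hy)
      intro x
      obtain ⟨y, hy, hyx⟩ := hle x.2
      have : y = x := Subtype.ext hyx
      subst this
      exact hy
    obtain ⟨θ, hθ, hθe⟩ := exists_comp hφ' hψ' hm'
    refine ⟨θ, hθ, fun x => ?_⟩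
    rw [hθe, hχ, ← h₂]
    exact apply_eq_of_coe_eq (h₁ x)
  · intro P Q φ ψ hφ hψ hr hi ⟨φ', hφ', h₁⟩
    obtain ⟨ψ', hψ', -, hi', -⟩ := exists_inv hφ' (rfl : φ'.range = φ'.range)
    have hle : Q ⊔ A ≤ φ'.range := by
      refine sup_le (fun y hy => ?_) fun a ha => ?_
      · obtain ⟨x, rfl⟩ := hr.ge hy
        exact ⟨_, h₁ x⟩
      · obtain ⟨x, -, hx⟩ := (sc_map_eq hA hφ' le_sup_right).ge ha
        exact ⟨x, hx⟩
    refine ⟨_, restrict_mem hle hψ', fun y => ?_⟩
    obtain ⟨x, hx⟩ := hr.ge y.2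
    have e0 : ψ y = (x : Ω) := Eq.trans (apply_eq_of_coe_eq hx.symm) (hi x (hr.le ⟨x, rfl⟩))
    rw [e0, ← hi' ⟨x, Subgroup.mem_sup_left x.2⟩ ⟨_, rfl⟩]
    exact apply_eq_of_coe_eq (P := φ'.range) (((h₁ x).trans hx).symm)
  · intro P φ hφ hAP
    exact ⟨_, restrict_mem (sup_le le_rfl hAP) hφ, fun x => apply_eq_of_coe_eq rfl⟩
  · intro Q hQa hQr hAQ
    have hQS := hQa.1
    let act : F.autGroup Q → Q → Q := fun κ x => (κ : MulAut Q) x
    have hinv : ∀ (κ : F.autGroup Q) (x : Q) (B : Subgroup Ω), F.StronglyClosed B →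
        ((x : Ω) ∈ B → ((act κ x : Q) : Ω) ∈ B) := by
      intro κ x B hB hx
      obtain ⟨f, hf, -, hfe⟩ := exists_map_of_mem_autGroup hQS κ.2
      have := sc_apply hB hf x hx
      rwa [hfe] at this
    let K : Subgroup (F.autGroup Q) :=
      { carrier := {κ | (∀ x : Q, (x : Ω)⁻¹ * ((act κ x : Q) : Ω) ∈ A) ∧
          ∀ i < n, ∀ x : Q, (x : Ω) ∈ T (i + 1) → (x : Ω)⁻¹ * ((act κ x : Q) : Ω) ∈ T i}
        one_mem' := ⟨fun x => by simp [act], fun i _ x _ => by simp [act]⟩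
        mul_mem' := fun {a b} ha hb => by
          refine ⟨fun x => ?_, fun i hi x hx => ?_⟩
          · have := A.mul_mem (hb.1 x) (ha.1 (act b x))
            simpa [act, mul_assoc] using this
          · have := (T i).mul_mem (hb.2 i hi x hx) (ha.2 i hi (act b x) (hinv b x _ (hT _) hx))
            simpa [act, mul_assoc] using this
        inv_mem' := fun {a} ha => by
          refine ⟨fun x => ?_, fun i hi x hx => ?_⟩
          · have := A.inv_mem (ha.1 (act a⁻¹ x))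
            simpa [act, MulAut.inv_def] using this
          · have := (T i).inv_mem (ha.2 i hi (act a⁻¹ x) (hinv a⁻¹ x _ (hT _) hx))
            simpa [act, MulAut.inv_def] using this }
    have hKn : K.Normal := by
      refine ⟨fun κ hκ a => ⟨fun x => ?_, fun i hi x hx => ?_⟩⟩
      · have h2 := hinv a ((act a⁻¹ x)⁻¹ * act κ (act a⁻¹ x)) A hA (hκ.1 (act a⁻¹ x))
        simpa [act, MulAut.inv_def] using h2
      · have h2 := hinv a ((act a⁻¹ x)⁻¹ * act κ (act a⁻¹ x)) (T i) (hT i)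
          (hκ.2 i hi _ (hinv a⁻¹ x _ (hT _) hx))
        simpa [act, MulAut.inv_def] using h2
    have := finite_of_le hQS
    have := finite_mulAut hQS
    obtain ⟨e, he⟩ := (hS.to_le hQS).exists_card_eq
    have hKp : IsPGroup p (K.map (F.autGroup Q).subtype) := by
      refine IsPGroup.map (fun κ => ⟨e * (n + 1), ?_⟩) _
      have key : ∀ i ≤ n, ∀ x : Q, (x : Ω) ∈ T i →
          (((κ : F.autGroup Q) : MulAut Q) ^ p ^ (e * i)) x = x := by
        intro i
        induction i with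
        | zero =>
          intro _ x hx
          rw [h0, Subgroup.mem_bot] at hx
          have : x = 1 := Subtype.ext hx
          rw [this, map_one]
        | succ i ihi =>
          intro hi x hx
          set β := ((κ : F.autGroup Q) ^ p ^ (e * i) : F.autGroup Q) with hβ
          have hβe : (β : MulAut Q) = ((κ : F.autGroup Q) : MulAut Q) ^ p ^ (e * i) := by
            rw [hβ, SubgroupClass.coe_pow]
          have hy := (K.pow_mem κ.2 (p ^ (e * i))).2 i hi x hx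
          set y : Q := x⁻¹ * (β : MulAut Q) x with hydef
          have hyfix : (β : MulAut Q) y = y := by
            rw [hβe]; exact ihi (by omega) y hy
          have hpow : ∀ m : ℕ, ((β : MulAut Q) ^ m) x = x * y ^ m := by
            intro m
            induction m with
            | zero => simp
            | succ m ihm =>
              rw [pow_succ', MulAut.mul_apply, ihm, map_mul, map_pow, hyfix, pow_succ']
              rw [show (β : MulAut Q) x = x * y by rw [hydef, mul_inv_cancel_left]]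
              rw [mul_assoc]
          have h3 := hpow (p ^ e)
          rw [hβe, ← pow_mul, ← pow_add] at h3
          rw [show e * (i + 1) = e * i + e by ring, h3, ← he, pow_card_eq_one', mul_one]
      apply Subtype.ext
      apply Subtype.ext
      refine MulEquiv.ext fun x => ?_
      rw [SubmonoidClass.coe_pow, SubmonoidClass.coe_pow]
      show _ = x
      set β := ((κ : F.autGroup Q) ^ p ^ (e * n) : F.autGroup Q) with hβ
      have hβe : (β : MulAut Q) = ((κ : F.autGroup Q) : MulAut Q) ^ p ^ (e * n) := by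
        rw [hβ, SubgroupClass.coe_pow]
      have hy := (K.pow_mem κ.2 (p ^ (e * n))).1 x
      set y : Q := x⁻¹ * (β : MulAut Q) x with hydef
      have hyfix : (β : MulAut Q) y = y := by
        rw [hβe]; exact key n le_rfl y (hn ▸ hy)
      have hpow : ∀ m : ℕ, ((β : MulAut Q) ^ m) x = x * y ^ m := by
        intro m
        induction m with
        | zero => simp
        | succ m ihm =>
          rw [pow_succ', MulAut.mul_apply, ihm, map_mul, map_pow, hyfix, pow_succ']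
          rw [show (β : MulAut Q) x = x * y by rw [hydef, mul_inv_cancel_left]]
          rw [mul_assoc]
      have h3 := hpow (p ^ e)
      rw [hβe, ← pow_mul, ← pow_add] at h3
      rw [show e * (n + 1) = e * n + e by ring, h3, ← he, pow_card_eq_one', mul_one]
    have hKS : ∀ κ ∈ K, ((κ : F.autGroup Q) : MulAut Q) ∈ autInducedBy S Q := by
      intro κ hκ
      obtain ⟨α, hα, hαK⟩ := FullyAutomized.exists_conj hQa (Subgroup.map_subtype_le K) hKp
      have h2 := hKn.conj_mem κ hκ (⟨α, hα⟩ : F.autGroup Q)⁻¹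
      have h3 := hαK _ ⟨_, h2, rfl⟩
      simpa [mul_assoc] using h3
    refine ⟨K, hKn, fun κ hκ => ?_, ?_⟩
    · obtain ⟨g, hg, hge⟩ := mem_autInducedBy.mp (hKS κ hκ)
      exact ⟨_, F.conj_mem (sup_le hQS hA.1) hg, fun x => (hge x).symm⟩
    · obtain ⟨a, ha, haN, haQ⟩ := exists_mem_normalizerIn hS hA hQS hAQ
      obtain ⟨α, hα, hαe⟩ := exists_autInducedBy (K := S) haN.1 haN.2
      refine ⟨a, haN, haQ, ⟨α, autInducedBy_le_autGroup hQS hα⟩, ⟨fun x => ?_, fun i hi x hx => ?_⟩,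
        hαe⟩
      · show (x : Ω)⁻¹ * ((α x : Q) : Ω) ∈ A
        rw [hαe]
        have hnx := sc_normalizer hA (hQS x.2)
        have h1 := (Subgroup.mem_normalizer_iff'.mp hnx ((x : Ω)⁻¹ * a)).mpr (by simpa using ha)
        simpa [mul_assoc] using A.mul_mem h1 (A.inv_mem ha)
      · show (x : Ω)⁻¹ * ((α x : Q) : Ω) ∈ T i
        rw [hαe]
        have := hc i hi (Subgroup.commutator_mem_commutator ((T (i + 1)).inv_mem hx) ha)
        simpa [commutatorElement_def, mul_assoc] using this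

/-- An abelian strongly closed subgroup of a saturated system is normal. -/
theorem isNormal_of_abelian [Finite S] {p : ℕ} [Fact p.Prime] (hS : IsPGroup p S)
    (hF : F.IsSaturated p) {A : Subgroup Ω} (hA : F.StronglyClosed A) (hab : ⁅A, A⁆ = ⊥) :
    F.IsNormal A :=
  isNormal_of_central_series hS hF hA (fun i => if i = 0 then ⊥ else A) 1 rfl rfl
    (fun i => by split <;> first | exact sc_bot | exact hA)
    (fun i hi => by
      obtain rfl : i = 0 := by omega
      simp [hab])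

end CfsgLib.FusionExtend
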