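import Cfsg.Agent.Lib.Fusion.ExtSaturated
import Cfsg.Agent.Lib.Fusion.Alperin
import Cfsg.Agent.Lib.Fusion.Hyperfocal
import Cfsg.Agent.Lib.Fusion.Normal
import Cfsg.Agent.Lib.Fusion.Stabilizer
import Cfsg.Agent.Lib.FusionNormal.Alperin

/-!
# Maps centralizing a centric subgroup of a strongly closed subgroup

Two lemmas used for the centralizer of a normal subsystem over `T`. If `W ≤ T` is centric among the
subgroups of `T`, the maps fixing `W` respect centralizing `N_T(W)`; and an automorphism of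
`T C_S(T)` of order prime to `p` acting trivially modulo the centre of `T` commutes with the maps
fixing `T`.
-/

namespace CfsgLib.Fusion

open Cfsg Cfsg.FusionSystem CfsgLib.FusionNormal

variable {Ω : Type*} [Group Ω] {S T : Subgroup Ω} {F : FusionSystem S} {W P Q R A : Subgroup Ω}
variable {p : ℕ}

/-! ### Maps as functions -/

theorem mapFn_fixed {f : Ω → Ω} (hf : MapFn F P f) {x : Ω} (hx : x ∈ P) (hfx : f x = x) :
    ∀ y ∈ Subgroup.zpowers x, f y = y := by
  obtain ⟨φ, -, he⟩ := hf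
  intro y hy
  obtain ⟨j, rfl⟩ := Subgroup.mem_zpowers_iff.mp hy
  have h : φ ((⟨x, hx⟩ : P) ^ j) = x ^ j := by rw [map_zpow, he]; exact congrArg (· ^ j) hfx
  rw [he] at h
  simpa using h

theorem mapFn_zpowers {f : Ω → Ω} (hf : MapFn F P f) {x : Ω} (hx : x ∈ P) :
    ∀ y ∈ Subgroup.zpowers x, f y ∈ Subgroup.zpowers (f x) := by
  obtain ⟨φ, -, he⟩ := hf
  intro y hy
  obtain ⟨j, rfl⟩ := Subgroup.mem_zpowers_iff.mp hy
  have h : φ ((⟨x, hx⟩ : P) ^ j) = f x ^ j := by rw [map_zpow, he]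
  rw [he] at h
  exact Subgroup.mem_zpowers_iff.mpr ⟨j, by simpa using h.symm⟩

/-- An injective map carrying `P` into `Q` of no greater order carries it onto `Q`. -/
theorem MapFn.exists_preimage [Finite S] {f : Ω → Ω} (hf : MapFn F R f) (hPR : P ≤ R) (hQ : Q ≤ S)
    (hm : ∀ x ∈ P, f x ∈ Q) (hc : Nat.card Q ≤ Nat.card P) {y : Ω} (hy : y ∈ Q) :
    ∃ x ∈ P, f x = y :=
  exists_of_image ((hf.mono hPR).image_eq_of_maps hQ hm hc) hy

/-! ### Centricity inside `T` -/

/-- `W` is centric among subgroups of `T`, for all maps of `F`. -/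
def TCentric (F : FusionSystem S) (T W : Subgroup Ω) : Prop :=
  W ≤ T ∧ ∀ V, F.IsConj W V → centralizerIn T V ≤ V

theorem TCentric.le (h : TCentric F T W) : W ≤ T := h.1

theorem TCentric.centralizer_le (hTS : T ≤ S) (h : TCentric F T W) : centralizerIn T W ≤ W :=
  h.2 W (isConj_refl (h.1.trans hTS))

theorem TCentric.of_conj (hT : F.StronglyClosed T) (h : TCentric F T W) (hV : F.IsConj W Q) :
    TCentric F T Q := by
  refine ⟨?_, fun V hQV => h.2 V (isConj_trans hV hQV)⟩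
  obtain ⟨φ, hφ, rfl⟩ := hV
  rintro _ ⟨x, rfl⟩
  exact hT.2 W h.1 φ hφ x

theorem TCentric.of_le (h : TCentric F T W) (hWQ : W ≤ Q) (hQT : Q ≤ T) : TCentric F T Q := by
  refine ⟨hQT, fun V hV => ?_⟩
  obtain ⟨φ, hφ, rfl⟩ := hV
  intro c hc
  obtain ⟨χ, hχ, hχr, -⟩ := exists_restrict hφ hWQ rfl
  have hle : χ.range ≤ φ.range := by
    rw [hχr]
    rintro _ ⟨x, -, rfl⟩
    exact ⟨x, rfl⟩
  exact hle (h.2 _ ⟨χ, hχ, rfl⟩ (mem_centralizerIn.mpr
    ⟨hc.1, fun x hx => (mem_centralizerIn.mp hc).2 x (hle hx)⟩))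

/-! ### Automorphisms trivial modulo fixed points -/

/-- An automorphism fixing `A ⊓ K` pointwise and moving elements inside their cosets of it is inner
when it lies in an automorphism group normalizing `K` whose largest normal `p`-subgroup is inner. -/
theorem exists_inner_of_fixer [Finite S] [Fact p.Prime] (hS : IsPGroup p S) (hA : A ≤ S)
    {H : Subgroup (MulAut A)} (hin : ∀ X : Subgroup H, X.Normal → IsPGroup p X → X.map H.subtype ≤ Inn A)
    {K : Subgroup Ω} (hK : ∀ b ∈ H, ∀ x : A, (x : Ω) ∈ K → ((b x : A) : Ω) ∈ K) {e : MulAut A} (he : e ∈ H)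
    (hfix : ∀ x : A, (x : Ω) ∈ K → e x = x) (hmov : ∀ x : A, (x : Ω)⁻¹ * ((e x : A) : Ω) ∈ K) :
    ∃ r : A, ∀ x : A, e x = r * x * r⁻¹ := by
  have := finite_of_le hA
  let X : Subgroup H :=
    { carrier := {e | (∀ x : A, (x : Ω) ∈ K → (e : MulAut A) x = x) ∧
        ∀ x : A, (x : Ω)⁻¹ * (((e : MulAut A) x : A) : Ω) ∈ K}
      one_mem' := ⟨fun x _ => rfl, fun x => by simp [K.one_mem]⟩
      mul_mem' := by
        rintro a b ⟨ha₁, ha₂⟩ ⟨hb₁, hb₂⟩
        refine ⟨fun x hx => ?_, fun x => ?_⟩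
        · rw [Subgroup.coe_mul, MulAut.mul_apply, hb₁ x hx, ha₁ x hx]
        · rw [Subgroup.coe_mul, MulAut.mul_apply]
          have := K.mul_mem (hb₂ x) (ha₂ ((b : MulAut A) x))
          simpa [mul_assoc] using this
      inv_mem' := by
        rintro a ⟨ha₁, ha₂⟩
        refine ⟨fun x hx => ?_, fun x => ?_⟩
        · rw [Subgroup.coe_inv, MulAut.inv_apply, MulEquiv.symm_apply_eq, ha₁ x hx]
        · have := K.inv_mem (ha₂ ((a : MulAut A)⁻¹ x))
          rw [MulAut.apply_inv_self] at this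
          simpa [mul_assoc] using this }
  have hXn : X.Normal := by
    refine ⟨fun a ha b => ⟨fun x hx => ?_, fun x => ?_⟩⟩
    · rw [Subgroup.coe_mul, Subgroup.coe_mul, Subgroup.coe_inv, MulAut.mul_apply, MulAut.mul_apply,
        ha.1 _ (hK _ (H.inv_mem b.2) x hx), MulAut.apply_inv_self]
    · have h := hK _ b.2 (((b : MulAut A)⁻¹ x)⁻¹ * (a : MulAut A) ((b : MulAut A)⁻¹ x))
        (ha.2 ((b : MulAut A)⁻¹ x))
      rw [map_mul, map_inv, MulAut.apply_inv_self] at h
      exact h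
  have hXp : IsPGroup p X := by
    rintro ⟨a, ha₁, ha₂⟩
    have hpow : ∀ (m : ℕ) (x : A), ((a : MulAut A) ^ m) x = x * (x⁻¹ * (a : MulAut A) x) ^ m :=
      fun m x => coe_pow_apply_of_fixed (ha₁ _ (ha₂ x)) m
    have : Fintype A := Fintype.ofFinite A
    obtain ⟨l, hl⟩ : ∃ l, ∀ y : A, y ^ p ^ l = 1 := by
      choose f hf using hS.to_le hA
      exact ⟨Finset.univ.sup f, fun y => orderOf_dvd_iff_pow_eq_one.mp
        ((orderOf_dvd_of_pow_eq_one (hf y)).trans (pow_dvd_pow _ (Finset.le_sup (Finset.mem_univ y))))⟩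
    refine ⟨l, Subtype.ext (Subtype.ext (MulEquiv.ext fun x => ?_))⟩
    show (((a : MulAut A)) ^ p ^ l) x = x
    rw [hpow, hl, mul_one]
  exact mem_inn.mp (hin X hXn hXp ⟨⟨e, he⟩, ⟨hfix, hmov⟩, rfl⟩)

theorem inn_of_radical_or_top {G₀ : FusionSystem S} (h : G₀.IsRadical p A) (X : Subgroup (G₀.autGroup A))
    (hX : X.Normal) (hXp : IsPGroup p X) : X.map (G₀.autGroup A).subtype ≤ Inn A :=
  (Subgroup.map_mono (CfsgLib.PCore.le_pCore hX hXp)).trans h.2.le

theorem inn_of_top [Finite S] [Fact p.Prime] {G₀ : FusionSystem S} (h : G₀.IsFullyAutomized p S)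
    (X : Subgroup (G₀.autGroup S)) (hX : X.Normal) (hXp : IsPGroup p X) :
    X.map (G₀.autGroup S).subtype ≤ Inn S := by
  obtain ⟨-, U, hU⟩ := h
  have := finite_mulAut (le_refl S)
  rintro _ ⟨a, ha, rfl⟩
  rw [← autInducedBy_self]
  exact hU.le ((haveI := hX; hXp.le_sylow_of_normal U) ha)

/-! ### The centralizer system of a subgroup -/

/-- `C_F(W)`. -/
abbrev fixSystem (F : FusionSystem S) (hW : W ≤ S) : FusionSystem (centralizerIn S W) :=
  extSystem F hW ⊥ (centralizerIn S W) isKNormalizer_bot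

theorem exists_fix_mapFn (hW : W ≤ S) (hA : A ≤ centralizerIn S W) {α : MulAut A}
    (hα : α ∈ (fixSystem F hW).autGroup A) :
    ∃ g, MapFn F (A ⊔ W) g ∧ (∀ x : A, g x = ((α x : A) : Ω)) ∧ ∀ w ∈ W, g w = w := by
  obtain ⟨-, -, -, ψ, hψ, hψe, κ, hκ, hκe⟩ := (mem_autGroup hA).mp hα
  obtain ⟨g, hg, hge⟩ := mapFn_of_hom hψ
  refine ⟨g, hg, fun x => ?_, fun w hw => ?_⟩
  · rw [← hge ⟨x, Subgroup.mem_sup_left x.2⟩]; exact hψe x
  · rw [← hge ⟨w, Subgroup.mem_sup_right hw⟩]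
    refine (hκe ⟨w, hw⟩).trans ?_
    rw [Subgroup.mem_bot.mp hκ]; rfl

theorem mem_fix_autGroup (hW : W ≤ S) (hA : A ≤ centralizerIn S W) {α : MulAut A} {g : Ω → Ω}
    (hg : MapFn F (A ⊔ W) g) (hα : ∀ x : A, g x = ((α x : A) : Ω)) (hfix : ∀ w ∈ W, g w = w) :
    α ∈ (fixSystem F hW).autGroup A := by
  refine (mem_autGroup hA).mpr ⟨(hg.mono le_sup_left).mem fun x => (hα x).symm, hA,
    fun x => hA (α x).2, ?_⟩
  obtain ⟨ψ, hψ, hψe⟩ := hg
  exact ⟨ψ, hψ, fun x => (hψe _).trans (hα x), 1, Subgroup.one_mem _, fun x => (hψe _).trans (hfix x x.2)⟩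

variable [Finite S] [Fact p.Prime]

/-- An automorphism group of `C_F(W)` met in the fusion theorem: centric with inner `O_p`. -/
theorem good_of_alperin {G₀ : FusionSystem S} (hS : IsPGroup p S)
    (hA : A = S ∨ G₀.IsEssential p A) (ha : G₀.IsFullyAutomized p A) :
    G₀.IsCentric A ∧
      ∀ X : Subgroup (G₀.autGroup A), X.Normal → IsPGroup p X → X.map (G₀.autGroup A).subtype ≤ Inn A := by
  rcases hA with rfl | hA
  · refine ⟨⟨le_rfl, fun Q hQ => ?_⟩, fun X => inn_of_top ha X⟩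
    rw [eq_of_le_of_card_le (IsConj.le_right hQ) (IsConj.card_eq hQ).ge]
    exact centralizerIn_le
  · exact ⟨hA.1, fun X => inn_of_radical_or_top (radical_of_essential hA hS) X⟩

/-- `A W` is centric in `F` when `A` is centric in `C_F(W)` and `W` is fully centralized. -/
theorem isCentric_sup_of_fix (hS : IsPGroup p S) (hF : F.IsSaturated p) (hW : W ≤ S)
    (hWf : F.IsFullyCentralized W) (hA : A ≤ centralizerIn S W)
    (hc : (fixSystem F hW).IsCentric A) : F.IsCentric (A ⊔ W) := by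
  refine ⟨sup_le (hA.trans centralizerIn_le) hW, fun V hV => ?_⟩
  obtain ⟨θ, hθ, hθr⟩ := isConj_iff.mp hV
  intro c hc'
  obtain ⟨hcS, hcV⟩ := mem_centralizerIn.mp hc'
  obtain ⟨W'', -, hW''⟩ := (hθ.mono le_sup_right).exists_image
  obtain ⟨ρ, hρ, hρr, hρ₁, hρ₂⟩ := (hθ.mono le_sup_right).exists_inv hW''
  obtain ⟨ρ', hρ', hρ'e⟩ := hρ.extend_centralizer hS hF hWf hρr
  have hρ'r : ρ' '' W'' = (W : Set Ω) := (Set.image_congr fun y hy => hρ'e y hy).trans hρr
  have hVW : ∀ y ∈ W'', y ∈ V := fun y hy => by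
    obtain ⟨x, hx, rfl⟩ := exists_of_image hW'' hy
    exact mem_of_image hθr (Subgroup.mem_sup_right hx)
  have hθA : ∀ a ∈ A, θ a ∈ centralizerIn S W'' := fun a ha =>
    hθ.mem_centralizerIn le_sup_right hW'' (Subgroup.mem_sup_left ha) (hA ha)
  have hdom : ∀ z ∈ A ⊔ W, θ z ∈ W'' ⊔ centralizerIn S W'' :=
    hθ.maps_sup (fun a ha => Subgroup.mem_sup_right (hθA a ha))
      fun w hw => Subgroup.mem_sup_left (mem_of_image hW'' hw)
  have hcomp := hθ.comp hρ' hdom
  have hfix : ∀ w ∈ W, ρ' (θ w) = w := fun w hw => by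
    rw [hρ'e _ (mem_of_image hW'' hw), hρ₁ w hw]
  obtain ⟨A'', -, hA''⟩ := (hcomp.mono le_sup_left).exists_image
  have hA''C : A'' ≤ centralizerIn S W := fun y hy => by
    obtain ⟨a, ha, rfl⟩ := exists_of_image hA'' hy
    exact hρ'.mem_centralizerIn le_sup_left hρ'r (Subgroup.mem_sup_right (hθA a ha)) (hθA a ha)
  have hconj : (fixSystem F hW).IsConj A A'' := by
    obtain ⟨φ, hφ, hφe⟩ := hcomp.mono (le_sup_left : A ≤ A ⊔ W)
    refine ⟨φ, ⟨hφ, hA, fun x => hA''C (by rw [hφe]; exact mem_of_image hA'' x.2), ?_⟩,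
      SetLike.coe_injective (by rw [← MapFn.image_eq_range hφe, hA''])⟩
    obtain ⟨ψ, hψ, hψe⟩ := hcomp
    exact ⟨ψ, hψ, fun x => (hψe _).trans (hφe x).symm, 1, Subgroup.one_mem _,
      fun x => (hψe _).trans (hfix x x.2)⟩
  have hcW'' : c ∈ centralizerIn S W'' := mem_centralizerIn.mpr ⟨hcS, fun y hy => hcV y (hVW y hy)⟩
  have hcA : ρ' c ∈ centralizerIn (centralizerIn S W) A'' := by
    refine mem_centralizerIn.mpr ⟨hρ'.mem_centralizerIn le_sup_left hρ'r (Subgroup.mem_sup_right hcW'') hcW'',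
      fun y hy => ?_⟩
    obtain ⟨a, ha, rfl⟩ := exists_of_image hA'' hy
    show ρ' (θ a) * ρ' c = ρ' c * ρ' (θ a)
    rw [← hρ'.map_mul (Subgroup.mem_sup_right (hθA a ha)) (Subgroup.mem_sup_right hcW''),
      ← hρ'.map_mul (Subgroup.mem_sup_right hcW'') (Subgroup.mem_sup_right (hθA a ha)),
      hcV _ (mem_of_image hθr (Subgroup.mem_sup_left ha))]
  obtain ⟨a, ha, hae⟩ := exists_of_image hA'' (hc.2 _ hconj hcA)
  have : c = θ a := hρ'.injOn (Subgroup.mem_sup_right hcW'') (Subgroup.mem_sup_right (hθA a ha)) hae.symm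
  rw [this]
  exact mem_of_image hθr (Subgroup.mem_sup_left ha)

/-- Maps fixing `W` respect centralizing `N_T(W)`, and then extend to it. -/
theorem transport_normalizer (hS : IsPGroup p S) (hF : F.IsSaturated p) (hT : F.StronglyClosed T)
    (hWc : TCentric F T W) (hWf : F.IsFullyCentralized W) {κ : Ω → Ω} {b : Ω}
    (hκ : MapFn F (W ⊔ Subgroup.zpowers b) κ) (hκW : ∀ w ∈ W, κ w = w)
    (hb : b ∈ centralizerIn S (normalizerIn T W)) :
    κ b ∈ centralizerIn S (normalizerIn T W) ∧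
      ∃ ξ, MapFn F (normalizerIn T W ⊔ Subgroup.zpowers b) ξ ∧
        (∀ u ∈ normalizerIn T W, ξ u ∈ normalizerIn T W) ∧ ξ b = κ b := by
  have hTS := hT.1
  have hWT := hWc.le
  have hW := hWT.trans hTS
  set U := normalizerIn T W with hU
  have hUS : U ≤ S := inf_le_left.trans hTS
  have hWU : W ≤ U := le_normalizerIn hWT
  set C := centralizerIn S W with hC
  have := finite_of_le (centralizerIn_le : C ≤ S)
  have hG₀ : (fixSystem F hW).IsSaturated p :=
    centralizerSystem_saturated hS hF hWf fun P => extHom_bot F W P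
  -- the relation
  let r : Ω → Ω → Prop := fun x y => (x ∈ centralizerIn S U ↔ y ∈ centralizerIn S U) ∧
    (x ∈ centralizerIn S U → ∃ ξ, MapFn F (U ⊔ Subgroup.zpowers x) ξ ∧ (∀ u ∈ U, ξ u ∈ U) ∧ ξ x = y)
  have hr : Equivalence r := by
    refine ⟨fun x => ⟨Iff.rfl, fun hx => ⟨id, mapFn_id (sup_le hUS (Subgroup.zpowers_le.mpr hx.1)),
      fun u hu => hu, rfl⟩⟩, fun {x y} ⟨hxy, h⟩ => ⟨hxy.symm, fun hy => ?_⟩,
      fun {x y z} ⟨hxy, h⟩ ⟨hyz, h'⟩ => ⟨hxy.trans hyz, fun hx => ?_⟩⟩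
    · obtain ⟨ξ, hξ, hξU, hξx⟩ := h (hxy.mpr hy)
      obtain ⟨M, -, hM⟩ := hξ.exists_image
      obtain ⟨η, hη, -, hη₁, -⟩ := hξ.exists_inv hM
      have hle : U ⊔ Subgroup.zpowers y ≤ M := by
        refine sup_le (fun u hu => ?_) (Subgroup.zpowers_le.mpr (hξx ▸ mem_of_image hM (Subgroup.mem_sup_right (Subgroup.mem_zpowers x))))
        obtain ⟨v, hv, rfl⟩ := MapFn.exists_preimage hξ le_sup_left hUS hξU le_rfl hu
        exact mem_of_image hM (Subgroup.mem_sup_left hv)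
      refine ⟨η, hη.mono hle, fun u hu => ?_, ?_⟩
      · obtain ⟨v, hv, rfl⟩ := MapFn.exists_preimage hξ le_sup_left hUS hξU le_rfl hu
        rw [hη₁ v (Subgroup.mem_sup_left hv)]; exact hv
      · rw [← hξx, hη₁ x (Subgroup.mem_sup_right (Subgroup.mem_zpowers x))]
    · obtain ⟨ξ, hξ, hξU, hξx⟩ := h hx
      obtain ⟨ξ', hξ', hξ'U, hξ'y⟩ := h' (hxy.mp hx)
      refine ⟨ξ' ∘ ξ, hξ.comp hξ' (hξ.maps_sup (fun u hu => Subgroup.mem_sup_left (hξU u hu))
        fun v hv => Subgroup.mem_sup_right (hξx ▸ mapFn_zpowers hξ (Subgroup.mem_sup_right (Subgroup.mem_zpowers x)) v hv)),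
        fun u hu => hξ'U _ (hξU u hu), ?_⟩
      show ξ' (ξ x) = z
      rw [hξx, hξ'y]
  have hCU : ∀ g ∈ C, g ∈ Subgroup.normalizer (U : Set Ω) := fun g hg => by
    have := finite_of_le hUS
    refine mem_normalizer_of_forall fun u hu => ⟨?_, ?_⟩
    · exact conj_mem_of_normalizer (StronglyClosed.le_normalizer hT hg.1) hu.1
    · exact Subgroup.mul_mem _ (Subgroup.mul_mem _ (centralizerIn_le_normalizerIn hg).2 hu.2)
        (Subgroup.inv_mem _ (centralizerIn_le_normalizerIn hg).2)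
  have hconj : ∀ g ∈ C, ∀ x ∈ C, r x (g * x * g⁻¹) := by
    intro g hg x hx
    have key : ∀ g ∈ C, ∀ x, x ∈ centralizerIn S U → g * x * g⁻¹ ∈ centralizerIn S U := by
      intro g hg x hx
      refine mem_centralizerIn.mpr ⟨S.mul_mem (S.mul_mem hg.1 hx.1) (S.inv_mem hg.1), fun u hu => ?_⟩
      have h1 := (mem_centralizerIn.mp hx).2 _ ((Subgroup.mem_normalizer_iff''.mp (hCU g hg) u).mp hu)
      calc u * (g * x * g⁻¹) = g * (g⁻¹ * u * g * x) * g⁻¹ := by group
        _ = g * x * g⁻¹ * u := by rw [h1]; group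
    refine ⟨⟨key g hg x, fun h => ?_⟩, fun hx' => ⟨_, mapFn_conj (sup_le hUS (Subgroup.zpowers_le.mpr hx'.1)) hg.1,
      fun u hu => conj_mem_of_normalizer (hCU g hg) hu, rfl⟩⟩
    have := key g⁻¹ (C.inv_mem hg) _ h
    simpa [mul_assoc] using this
  have hkey : r b (κ b) := by
    have hbC : b ∈ C := mem_centralizerIn.mpr ⟨hb.1, fun w hw => (mem_centralizerIn.mp hb).2 w (hWU hw)⟩
    have hκW' : κ '' W = (W : Set Ω) := by
      conv_rhs => rw [← Set.image_id (W : Set Ω)]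
      exact Set.image_congr hκW
    have hm : κ b ∈ C := hκ.mem_centralizerIn le_sup_left hκW' (Subgroup.mem_sup_right (Subgroup.mem_zpowers b)) hbC
    obtain ⟨φ, hφ, hφe⟩ := hκ.mono (le_sup_right : Subgroup.zpowers b ≤ _)
    have hmem : φ ∈ (fixSystem F hW).Hom (Subgroup.zpowers b) := by
      refine ⟨hφ, Subgroup.zpowers_le.mpr hbC, fun x => ?_, ?_⟩
      · rw [hφe]
        exact (Subgroup.zpowers_le.mpr hm) (mapFn_zpowers hκ (Subgroup.mem_sup_right (Subgroup.mem_zpowers b)) x x.2)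
      obtain ⟨ψ, hψ, hψe⟩ := hκ.mono (sup_comm (a := Subgroup.zpowers b) (b := W)).le
      exact ⟨ψ, hψ, fun x => (hψe _).trans (hφe x).symm, 1, Subgroup.one_mem _,
        fun x => (hψe _).trans (hκW x x.2)⟩
    have := rel_of_mem (F := fixSystem F hW) (hS.to_le centralizerIn_le) hG₀ hr hconj ?_ hmem
      ⟨b, Subgroup.mem_zpowers b⟩
    · rwa [hφe] at this
    -- automorphisms of the subgroups in the fusion theorem
    intro A hA hAC hAa α hα x
    obtain ⟨hAc, hin⟩ := good_of_alperin (hS.to_le centralizerIn_le) hA hAa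
    have hAS : A ≤ S := hAC.trans centralizerIn_le
    set M := A ⊔ W with hM
    have hMc := isCentric_sup_of_fix hS hF hW hWf hAC hAc
    have hMr : F.IsReceptive M := receptive_of_fullyCentralized hS hF (isFullyCentralized_of_centric hMc)
    have hCW : ∀ z ∈ C, z ∈ T → z ∈ W := fun z hz hzT =>
      TCentric.centralizer_le hTS hWc (mem_centralizerIn.mpr ⟨hzT, (mem_centralizerIn.mp hz).2⟩)
    have hZA : ∀ z ∈ C, z ∈ T → z ∈ A := fun z hz hzT => by
      refine hAc.2 A (isConj_refl hAC) (mem_centralizerIn.mpr ⟨hz, fun a ha => ?_⟩)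
      exact ((mem_centralizerIn.mp (hAC ha)).2 z (hCW z hz hzT)).symm
    have haC : ∀ t ∈ U, ∀ a ∈ C, t * a * t⁻¹ * a⁻¹ ∈ C ∧ t * a * t⁻¹ * a⁻¹ ∈ T := by
      intro t ht a ha
      refine ⟨C.mul_mem ?_ (C.inv_mem ha), ?_⟩
      · refine mem_centralizerIn.mpr ⟨S.mul_mem (S.mul_mem (hUS ht) ha.1) (S.inv_mem (hUS ht)), fun w hw => ?_⟩
        have h1 := (mem_centralizerIn.mp ha).2 _ ((Subgroup.mem_normalizer_iff''.mp ht.2 w).mp hw)
        calc w * (t * a * t⁻¹) = t * (t⁻¹ * w * t * a) * t⁻¹ := by group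
          _ = t * a * t⁻¹ * w := by rw [h1]; group
      · have := T.mul_mem ht.1 (conj_mem_of_normalizer (StronglyClosed.le_normalizer hT ha.1) (T.inv_mem ht.1))
        simpa [mul_assoc] using this
    have hUA : ∀ t ∈ U, ∀ a ∈ A, t * a * t⁻¹ ∈ A := fun t ht a ha => by
      obtain ⟨h1, h2⟩ := haC t ht a (hAC ha)
      simpa using A.mul_mem (hZA _ h1 h2) ha
    -- each automorphism keeps the elements centralizing `U`
    suffices H : ∀ β ∈ (fixSystem F hW).autGroup A, ∀ x : A, (x : Ω) ∈ centralizerIn S U →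
        ((β x : A) : Ω) ∈ centralizerIn S U ∧
          ∃ ξ, MapFn F (U ⊔ Subgroup.zpowers (x : Ω)) ξ ∧ (∀ u ∈ U, ξ u ∈ U) ∧ ξ x = ((β x : A) : Ω) by
      refine ⟨⟨fun h => (H α hα x h).1, fun h => ?_⟩, fun h => (H α hα x h).2⟩
      have := (H α⁻¹ (Subgroup.inv_mem _ hα) (α x) h).1
      rwa [MulAut.inv_apply_self] at this
    intro β hβ x hx
    obtain ⟨g, hg, hge, hgW⟩ := exists_fix_mapFn hW hAC hβ
    obtain ⟨φ, hφ, hφe⟩ := hg
    have hgA : ∀ a ∈ A, g a ∈ A := fun a ha => by rw [hge ⟨a, ha⟩]; exact Subtype.mem _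
    have hg' : MapFn F M g := ⟨φ, hφ, hφe⟩
    have hgr : g '' M = (M : Set Ω) := hg'.image_eq_of_maps (sup_le hAS hW)
      (hg'.maps_sup (fun a ha => Subgroup.mem_sup_left (hgA a ha))
        fun w hw => Subgroup.mem_sup_right (by rw [hgW w hw]; exact hw)) le_rfl
    have hφr : φ.range = M := SetLike.coe_injective (by rw [← MapFn.image_eq_range hφe, hgr])
    -- every element of `U` lies in the extender
    have hext : ∀ t ∈ U, ∃ r : A, t ∈ extender S M φ ∧
        ∀ y ∈ M, g (t * y * t⁻¹) = (r : Ω) * t * g y * ((r : Ω) * t)⁻¹ := by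
      intro t ht
      have htA : t ∈ Subgroup.normalizer (A : Set Ω) := by
        have := finite_of_le hAS
        exact mem_normalizer_of_forall fun a ha => hUA t ht a ha
      obtain ⟨ct, -, hcte⟩ := exists_autInducedBy (K := S) (hUS ht) htA
      set e : MulAut A := β * ct * β⁻¹ * ct⁻¹ with he
      obtain ⟨gi, hgi, hgir, hgi₁, hgi₂⟩ := hg'.exists_inv hgr
      have hgiW : ∀ w ∈ W, gi w = w := fun w hw => by
        conv_lhs => rw [← hgW w hw]
        exact hgi₁ w (Subgroup.mem_sup_right hw)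
      have htM : ∀ s ∈ U, ∀ y ∈ M, s * y * s⁻¹ ∈ M := fun s hs y hy =>
        (mapFn_conj (F := F) (sup_le hAS hW) (hUS hs)).maps_sup
          (fun a ha => Subgroup.mem_sup_left (hUA s hs a ha))
          (fun w hw => Subgroup.mem_sup_right (conj_mem_of_normalizer hs.2 hw)) y hy
      have hgi' : ∀ y ∈ M, gi y ∈ M := fun y hy => mem_of_image hgir hy
      have heG : e ∈ (fixSystem F hW).autGroup A := by
        have h1 : MapFn F M (fun y => g (t * gi (t⁻¹ * y * t⁻¹⁻¹) * t⁻¹)) :=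
          (((mapFn_conj (sup_le hAS hW) (S.inv_mem (hUS ht))).comp hgi
            (fun y hy => htM t⁻¹ (U.inv_mem ht) y hy)).comp (mapFn_conj (sup_le hAS hW) (hUS ht))
            (fun y hy => hgi' _ (htM t⁻¹ (U.inv_mem ht) y hy))).comp hg'
            fun y hy => htM t ht _ (hgi' _ (htM t⁻¹ (U.inv_mem ht) y hy))
        refine mem_fix_autGroup hW hAC h1 (fun a => ?_) fun w hw => ?_
        · have hcti : t⁻¹ * (a : Ω) * t⁻¹⁻¹ = ((ct⁻¹ a : A) : Ω) := by
            have := hcte (ct⁻¹ a)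
            rw [MulAut.apply_inv_self] at this
            rw [this]; group
          rw [hcti]
          have hβi : gi ((ct⁻¹ a : A) : Ω) = ((β⁻¹ (ct⁻¹ a) : A) : Ω) := by
            have := hge (β⁻¹ (ct⁻¹ a))
            rw [MulAut.apply_inv_self] at this
            rw [← this]
            exact hgi₁ _ (Subgroup.mem_sup_left (Subtype.mem _))
          rw [hβi, ← hcte, hge]
          rfl
        · have hw' : t⁻¹ * w * t⁻¹⁻¹ ∈ W := conj_mem_of_normalizer (U.inv_mem ht).2 hw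
          show g (t * gi (t⁻¹ * w * t⁻¹⁻¹) * t⁻¹) = w
          rw [hgiW _ hw', show t * (t⁻¹ * w * t⁻¹⁻¹) * t⁻¹ = w by group, hgW w hw]
      have hKinv : ∀ b ∈ (fixSystem F hW).autGroup A, ∀ a : A, (a : Ω) ∈ T → ((b a : A) : Ω) = a := by
        intro b hb a ha
        obtain ⟨k, -, hke, hkW⟩ := exists_fix_mapFn hW hAC hb
        rw [← hke]; exact hkW _ (hCW _ (hAC a.2) ha)
      have hfixT : ∀ a : A, (a : Ω) ∈ T → e a = a := fun a ha => Subtype.ext (hKinv e heG a ha)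
      have hmov : ∀ a : A, (a : Ω)⁻¹ * ((e a : A) : Ω) ∈ T := by
        intro a
        -- `c_t` moves elements inside their cosets and `β` fixes the difference
        have hz : ∀ y : A, ((ct y : A) : Ω) * (y : Ω)⁻¹ ∈ T ∧ ((ct y : A) : Ω) * (y : Ω)⁻¹ ∈ C := fun y => by
          rw [hcte]; exact ⟨(haC t ht y (hAC y.2)).2, (haC t ht y (hAC y.2)).1⟩
        have h1 := (hz (β⁻¹ (ct⁻¹ a))).1
        have h2 := (hz (ct⁻¹ a)).1
        rw [MulAut.apply_inv_self] at h2
        set y := β⁻¹ (ct⁻¹ a) with hy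
        set q : A := ⟨((ct y : A) : Ω) * (y : Ω)⁻¹, hZA _ (hz y).2 h1⟩
        have hq : ct y = q * y := Subtype.ext (by simp [q])
        have hea : e a = q * ct⁻¹ a := by
          rw [he]
          show β (ct y) = _
          rw [hq, map_mul, hy, MulAut.apply_inv_self]
          congr 1
          exact Subtype.ext (hKinv β hβ q h1)
        rw [hea, Subgroup.coe_mul]
        have h3 : (q : Ω) * ((ct⁻¹ a : A) : Ω) * (a : Ω)⁻¹ ∈ T := by
          have := T.mul_mem (h1 : (q : Ω) ∈ T) (T.inv_mem h2)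
          simpa [q, mul_assoc] using this
        have h4 := conj_mem_of_normalizer (StronglyClosed.le_normalizer hT (S.inv_mem (hAS a.2))) h3
        simpa [mul_assoc] using h4
      obtain ⟨r₀, hr₀⟩ := exists_inner_of_fixer (hS.to_le centralizerIn_le) hAC hin (K := T)
        (fun b hb a ha => by rw [hKinv b hb a ha]; exact ha) heG hfixT hmov
      have heq : ∀ y ∈ M, g (t * y * t⁻¹) = (r₀ : Ω) * t * g y * ((r₀ : Ω) * t)⁻¹ := by
        intro y hy
        have h1' : MapFn F M fun y => g (t * y * t⁻¹) :=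
          (mapFn_conj (sup_le hAS hW) (hUS ht)).comp hg' fun y hy => htM t ht y hy
        have h2' : MapFn F M fun y => (r₀ : Ω) * t * g y * ((r₀ : Ω) * t)⁻¹ :=
          hg'.conj_comp (S.mul_mem (hAS r₀.2) (hUS ht))
        refine MapFn.eq_on_sup h1' h2' (fun a ha => ?_) (fun w hw => ?_) y hy
        · have h5 := hr₀ (ct (β ⟨a, ha⟩))
          rw [he] at h5
          simp only [MulAut.mul_apply, MulAut.inv_apply_self] at h5
          have h6 := congrArg Subtype.val h5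
          rw [← hge, hcte] at h6
          simp only [Subgroup.coe_mul, Subgroup.coe_inv, hcte] at h6
          show g (t * a * t⁻¹) = _
          rw [h6, ← hge]
          group
        · show g (t * w * t⁻¹) = _
          rw [hgW _ (conj_mem_of_normalizer ht.2 hw), hgW w hw]
          have := (mem_centralizerIn.mp (hAC r₀.2)).2 _ (conj_mem_of_normalizer ht.2 hw)
          calc t * w * t⁻¹ = t * w * t⁻¹ * (r₀ : Ω) * (r₀ : Ω)⁻¹ := by group
            _ = (r₀ : Ω) * (t * w * t⁻¹) * (r₀ : Ω)⁻¹ := by rw [this]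
            _ = _ := by group
      refine ⟨r₀, mem_extender.mpr ⟨hUS ht, ?_, (r₀ : Ω) * t, S.mul_mem (hAS r₀.2) (hUS ht),
        fun y _ => ?_⟩, heq⟩
      · have := finite_of_le (sup_le hAS hW : M ≤ S)
        exact mem_normalizer_of_forall fun y hy => htM t ht y hy
      · rw [hφe, hφe]
        exact heq y y.2
    obtain ⟨ψ, hψ, hψe⟩ := exists_extension hMr hφ hφr (le_sup_left : M ≤ M ⊔ U)
      (sup_le (le_extender (sup_le hAS hW) (apply_mem_S hφ)) fun t ht => (hext t ht).choose_spec.1)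
    obtain ⟨G, hG, hGe⟩ := mapFn_of_hom hψ
    have hGM : ∀ y ∈ M, G y = g y := fun y hy => by
      rw [← hGe ⟨y, Subgroup.mem_sup_left hy⟩, hψe ⟨y, hy⟩, hφe]
    have hGU : ∀ u ∈ U, G u ∈ U := by
      intro u hu
      obtain ⟨r₀, -, hr₀⟩ := hext u hu
      have huT : G u ∈ T := by
        rw [← hGe ⟨u, Subgroup.mem_sup_right hu⟩]
        exact StronglyClosed.apply_mem hT hψ _ hu.1
      have hc : ((r₀ : Ω) * u)⁻¹ * G u ∈ centralizerIn S M := by
        refine mem_centralizerIn.mpr ⟨S.mul_mem (S.inv_mem (S.mul_mem (hAS r₀.2) (hUS hu))) (hTS huT), fun z hz => ?_⟩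
        obtain ⟨y, hy, rfl⟩ := exists_of_image hgr hz
        have huN : u * y * u⁻¹ ∈ M := (mapFn_conj (F := F) (sup_le hAS hW) (hUS hu)).maps_sup
          (fun a ha => Subgroup.mem_sup_left (hUA u hu a ha))
          (fun w hw => Subgroup.mem_sup_right (conj_mem_of_normalizer hu.2 hw)) y hy
        have h1 := hr₀ y hy
        rw [← hGM _ huN, hG.map_conj (Subgroup.mem_sup_right hu) (Subgroup.mem_sup_left hy), hGM y hy] at h1
        calc g y * (((r₀ : Ω) * u)⁻¹ * G u)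
            = ((r₀ : Ω) * u)⁻¹ * ((r₀ : Ω) * u * g y * ((r₀ : Ω) * u)⁻¹) * G u := by group
          _ = _ := by rw [← h1]; group
      have hm : u⁻¹ * G u ∈ M := by
        have h3 := hMc.2 M (isConj_refl hMc.1) hc
        have h4 : u⁻¹ * (r₀ : Ω) * u⁻¹⁻¹ ∈ A := hUA u⁻¹ (U.inv_mem hu) r₀ r₀.2
        have := M.mul_mem (Subgroup.mem_sup_left h4 : _ ∈ M) h3
        simpa [mul_assoc] using this
      have hAW : ∀ z ∈ M, z ∈ T → z ∈ W := by
        intro z hz hzT
        have he := Subgroup.coe_mul_of_right_le_normalizer_left W A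
          ((hAC.trans centralizerIn_le_normalizerIn).trans inf_le_right)
        rw [hM, sup_comm, ← SetLike.mem_coe, he] at hz
        obtain ⟨w, hw, a, ha, rfl⟩ := hz
        have haT : a ∈ T := by
          have := T.mul_mem (T.inv_mem (hWT hw)) hzT
          rwa [inv_mul_cancel_left] at this
        exact W.mul_mem hw (hCW a (hAC ha) haT)
      have := U.mul_mem hu (hWU (hAW _ hm (T.mul_mem (T.inv_mem hu.1) huT)))
      rwa [mul_inv_cancel_left] at this
    have hxM : (x : Ω) ∈ M := Subgroup.mem_sup_left x.2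
    have hle : U ⊔ Subgroup.zpowers (x : Ω) ≤ M ⊔ U :=
      sup_le le_sup_right (Subgroup.zpowers_le.mpr (Subgroup.mem_sup_left hxM))
    refine ⟨mem_centralizerIn.mpr ⟨hAS (Subtype.mem _), fun u hu => ?_⟩, G, hG.mono hle, hGU, (hGM _ hxM).trans (hge x)⟩
    obtain ⟨v, hv, rfl⟩ := MapFn.exists_preimage hG le_sup_right hUS hGU le_rfl hu
    rw [← hge x, ← hGM _ hxM, ← hG.map_mul (Subgroup.mem_sup_right hv) (Subgroup.mem_sup_left hxM),
      ← hG.map_mul (Subgroup.mem_sup_left hxM) (Subgroup.mem_sup_right hv), (mem_centralizerIn.mp hx).2 v hv]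
  exact ⟨hkey.1.mp hb, hkey.2 hb⟩

end CfsgLib.Fusion
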