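import Cfsg.Agent.Lib.Fusion.Invariant
import Cfsg.Agent.Lib.Fusion.SubsystemKey

/-!
# The centralizer in `S` of a normal subsystem

For `E` normal in `F` over `T`, an element of `C_S(T)` is good when all maps of `E` extend to maps of
`F` fixing it. The good elements form a strongly closed subgroup.
-/

namespace CfsgLib.Fusion

open Cfsg Cfsg.FusionSystem CfsgLib.FusionNormal

variable {Ω : Type*} [Group Ω] {S T : Subgroup Ω} {F : FusionSystem S} {E : FusionSystem T}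
variable {W P Q R : Subgroup Ω}

/-! ### Generalities -/

theorem mapFn_eq_closure {f g : Ω → Ω} (hf : MapFn F P f) (hg : MapFn F P g) {X : Set Ω}
    (hX : Subgroup.closure X ≤ P) (h : ∀ x ∈ X, f x = g x) : ∀ x ∈ Subgroup.closure X, f x = g x := by
  obtain ⟨φ, -, he⟩ := hf
  obtain ⟨ψ, -, hge⟩ := hg
  have hle : Subgroup.closure X ≤ (φ.eqLocus ψ).map P.subtype :=
    (Subgroup.closure_le _).mpr fun x hx =>
      ⟨⟨x, hX (Subgroup.subset_closure hx)⟩, show φ _ = ψ _ by rw [he, hge]; exact h x hx, rfl⟩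
  intro x hx
  obtain ⟨y, hy, rfl⟩ := hle hx
  show f (y : Ω) = g y
  rw [← he, ← hge]; exact hy

theorem mapFn_mem {f : Ω → Ω} (hT : F.StronglyClosed T) (hf : MapFn F P f) {x : Ω} (hx : x ∈ P)
    (hxT : x ∈ T) : f x ∈ T := by
  obtain ⟨φ, hφ, he⟩ := hf
  rw [← he ⟨x, hx⟩]
  exact StronglyClosed.apply_mem hT hφ ⟨x, hx⟩ hxT

theorem mapFn_mem_iff {f : Ω → Ω} (hT : F.StronglyClosed T) (hf : MapFn F P f) {x : Ω} (hx : x ∈ P) :
    f x ∈ T ↔ x ∈ T := by
  refine ⟨fun h => ?_, mapFn_mem hT hf hx⟩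
  obtain ⟨M, -, hM⟩ := hf.exists_image
  obtain ⟨g, hg, -, hg₁, -⟩ := hf.exists_inv hM
  rw [← hg₁ x hx]
  exact mapFn_mem hT hg (mem_of_image hM hx) h

theorem mapFn_of_subsystem (hEF : E.IsSubsystemOf F) {f : Ω → Ω} (hf : MapFn E P f) : MapFn F P f := by
  obtain ⟨φ, hφ, he⟩ := hf
  exact ⟨φ, hEF P hφ, he⟩

theorem eq_one_of_coprime [Finite S] {p : ℕ} (hS : IsPGroup p S) {z : Ω} (hz : z ∈ S) {n : ℕ}
    (hn : n.Coprime p) (h : z ^ n = 1) : z = 1 := by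
  obtain ⟨k, hk⟩ := hS ⟨z, hz⟩
  refine orderOf_eq_one_iff.mp (Nat.eq_one_of_dvd_coprimes (hn.pow_right k) (orderOf_dvd_of_pow_eq_one h)
    (orderOf_dvd_of_pow_eq_one ?_))
  simpa using congrArg Subtype.val hk

/-- Frattini factorization of a map on a subgroup of `T`. -/
theorem exists_frattini (hE : E.IsInvariantIn F) (hP : P ≤ T) {f : Ω → Ω} (hf : MapFn F P f) :
    ∃ a f₀ : Ω → Ω, MapFn F T a ∧ MapFn E P f₀ ∧ ∀ x ∈ P, f x = a (f₀ x) := by
  obtain ⟨φ, hφ, he⟩ := hf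
  obtain ⟨α, hα, φ₀, hφ₀, hφe⟩ := hE.2.2.2 P hP φ hφ
  obtain ⟨a, ha, -, hae⟩ := exists_mapFn_of_aut hE.2.1.1 hα
  obtain ⟨f₀, hf₀, hf₀e⟩ := mapFn_of_hom hφ₀
  refine ⟨a, f₀, ha, hf₀, fun x hx => ?_⟩
  rw [← he ⟨x, hx⟩, hφe _ (apply_mem_S hφ₀ _), ← hf₀e ⟨x, hx⟩]
  exact (hae ⟨φ₀ ⟨x, hx⟩, apply_mem_S hφ₀ _⟩).symm

/-- Centric subgroups of an invariant subsystem are centric among the subgroups of `T` for `F`. -/
theorem tcentric_of_centric (hE : E.IsInvariantIn F) (hW : E.IsCentric W) : TCentric F T W := by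
  refine ⟨hW.1, fun V hV => ?_⟩
  obtain ⟨φ, hφ, rfl⟩ := hV
  obtain ⟨α, -, φ₀, hφ₀, hφe⟩ := hE.2.2.2 W hW.1 φ hφ
  intro c hc
  obtain ⟨hcT, hcC⟩ := mem_centralizerIn.mp hc
  have hd : ((α⁻¹ ⟨c, hcT⟩ : T) : Ω) ∈ centralizerIn T φ₀.range := by
    refine mem_centralizerIn.mpr ⟨Subtype.mem _, ?_⟩
    rintro _ ⟨x, rfl⟩
    have hx := apply_mem_S hφ₀ x
    have h1 : (α ⟨φ₀ x, hx⟩ : T) * ⟨c, hcT⟩ = ⟨c, hcT⟩ * α ⟨φ₀ x, hx⟩ := by
      refine Subtype.ext ?_
      show ((α ⟨φ₀ x, hx⟩ : T) : Ω) * c = c * ((α ⟨φ₀ x, hx⟩ : T) : Ω)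
      rw [← hφe x hx]
      exact hcC _ ⟨x, rfl⟩
    have h2 := congrArg (fun y => ((α⁻¹ y : T) : Ω)) h1
    simpa using h2
  obtain ⟨x, hx⟩ := hW.2 _ ⟨φ₀, hφ₀, rfl⟩ hd
  refine ⟨x, ?_⟩
  have hx' := apply_mem_S hφ₀ x
  rw [hφe x hx', show (⟨φ₀ x, hx'⟩ : T) = α⁻¹ ⟨c, hcT⟩ from Subtype.ext hx, MulAut.apply_inv_self]

/-- A map of `C_F(W)` on a cyclic subgroup from a map fixing `W`. -/
theorem exists_fix_hom (hW : W ≤ S) {b : Ω} (hb : b ∈ centralizerIn S W) {κ : Ω → Ω}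
    (hκ : MapFn F (W ⊔ Subgroup.zpowers b) κ) (hκW : ∀ w ∈ W, κ w = w) :
    ∃ φ ∈ (fixSystem F hW).Hom (Subgroup.zpowers b), ∀ x, φ x = κ x := by
  have hr : κ '' W = (W : Set Ω) := by
    conv_rhs => rw [← Set.image_id (W : Set Ω)]
    exact Set.image_congr hκW
  have hm : κ b ∈ centralizerIn S W :=
    hκ.mem_centralizerIn le_sup_left hr (Subgroup.mem_sup_right (Subgroup.mem_zpowers b)) hb
  obtain ⟨φ, hφ, hφe⟩ := hκ.mono (le_sup_right : Subgroup.zpowers b ≤ _)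
  refine ⟨φ, ⟨hφ, Subgroup.zpowers_le.mpr hb, fun x => ?_, ?_⟩, hφe⟩
  · rw [hφe]
    exact (Subgroup.zpowers_le.mpr hm) (mapFn_zpowers hκ (Subgroup.mem_sup_right (Subgroup.mem_zpowers b)) x x.2)
  obtain ⟨ψ, hψ, hψe⟩ := hκ.mono (sup_comm (a := Subgroup.zpowers b) (b := W)).le
  exact ⟨ψ, hψ, fun x => (hψe _).trans (hφe x).symm, 1, Subgroup.one_mem _,
    fun x => (hψe _).trans (hκW x x.2)⟩

variable [Finite S] {p : ℕ} [Fact p.Prime]

theorem isFullyCentralized_of_stronglyClosed (hT : F.StronglyClosed T) : F.IsFullyCentralized T := by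
  refine ⟨hT.1, fun R hR => ?_⟩
  obtain ⟨φ, hφ, rfl⟩ := hR
  rw [range_eq_of_card_le hφ hT.1 (fun x => hT.2 T le_rfl φ hφ x) le_rfl]

theorem image_T {γ : Ω → Ω} (hT : F.StronglyClosed T) (hγ : MapFn F P γ) (hTP : T ≤ P) :
    γ '' T = (T : Set Ω) :=
  (hγ.mono hTP).image_eq_of_maps hT.1 (fun _ hx => mapFn_mem hT hγ (hTP hx) hx) le_rfl

/-- An automorphism of `T` extends to `T C_S(T)`. -/
theorem exists_top_extension (hS : IsPGroup p S) (hF : F.IsSaturated p) (hT : F.StronglyClosed T)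
    {a : Ω → Ω} (ha : MapFn F T a) :
    ∃ b, MapFn F (T ⊔ centralizerIn S T) b ∧ (∀ t ∈ T, b t = a t) ∧
      ∀ c ∈ centralizerIn S T, b c ∈ centralizerIn S T := by
  obtain ⟨b, hb, hbe⟩ := ha.extend_centralizer hS hF (isFullyCentralized_of_stronglyClosed hT) (image_T hT ha le_rfl)
  exact ⟨b, hb, hbe, fun c hc =>
    hb.mem_centralizerIn le_sup_left (image_T hT hb le_sup_left) (Subgroup.mem_sup_right hc) hc⟩

/-! ### Good elements -/

/-- Every map of `E` extends to a map of `F` fixing `c`. -/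
def GoodElt (F : FusionSystem S) (E : FusionSystem T) (c : Ω) : Prop :=
  c ∈ centralizerIn S T ∧ ∀ (P : Subgroup Ω) (f : Ω → Ω), MapFn E P f →
    ∃ g, MapFn F (P ⊔ Subgroup.zpowers c) g ∧ (∀ x ∈ P, g x = f x) ∧ g c = c

/-- `C_S(E)`. -/
def subsystemCentralizer (F : FusionSystem S) (E : FusionSystem T) : Subgroup Ω :=
  Subgroup.closure {c | GoodElt F E c}

theorem subsystemCentralizer_le : subsystemCentralizer F E ≤ centralizerIn S T :=
  (Subgroup.closure_le _).mpr fun _ hc => hc.1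

theorem GoodElt.mem_centralizerIn {c : Ω} (hW : W ≤ T) (hc : GoodElt F E c) : c ∈ centralizerIn S W :=
  ⟨hc.1.1, Subgroup.centralizer_le (SetLike.coe_subset_coe.mpr hW) hc.1.2⟩

/-- Maps defined on `T` move good elements to good elements. -/
theorem GoodElt.apply (hE : E.IsInvariantIn F) {γ : Ω → Ω} {c : Ω}
    (hγ : MapFn F (T ⊔ Subgroup.zpowers c) γ) (hc : GoodElt F E c) : GoodElt F E (γ c) := by
  have hT := hE.2.1
  have hcD : c ∈ T ⊔ Subgroup.zpowers c := Subgroup.mem_sup_right (Subgroup.mem_zpowers c)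
  have hγT := image_T hT hγ le_sup_left
  refine ⟨hγ.mem_centralizerIn le_sup_left hγT hcD hc.1, fun P f hf => ?_⟩
  have hPT : P ≤ T := hf.le_S
  obtain ⟨M, -, hM⟩ := hγ.exists_image
  obtain ⟨γi, hγi, -, hγi₁, hγi₂⟩ := hγ.exists_inv hM
  have hTM : T ≤ M := fun x hx => by
    obtain ⟨y, hy, rfl⟩ := exists_of_image hγT hx
    exact mem_of_image hM (Subgroup.mem_sup_left hy)
  obtain ⟨α, hα, hαe⟩ := (hγi.mono hTM).exists_aut (image_T hT hγi hTM)
  obtain ⟨φ, hφ, hfe⟩ := hf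
  obtain ⟨χ, hχ, hχe⟩ := hE.2.2.1 P hPT φ hφ α hα
  set P' := (P.subgroupOf T).map (T.subtype.comp α.toMonoidHom)
  obtain ⟨f', hf', hf'e⟩ := mapFn_of_hom hχ
  have hmem : ∀ x ∈ P, γi x ∈ P' := fun x hx => ⟨⟨x, hPT hx⟩, hx, hαe ⟨x, hPT hx⟩⟩
  have hval : ∀ x ∈ P, f' (γi x) = γi (f x) := fun x hx => by
    have hfx : φ ⟨x, hx⟩ ∈ T := apply_mem_S hφ _
    have hm : ((α ⟨x, hPT hx⟩ : T) : Ω) ∈ P' := ⟨⟨x, hPT hx⟩, hx, rfl⟩
    have h1 := hχe ⟨x, hx⟩ hfx hm
    rw [hf'e, hαe ⟨φ ⟨x, hx⟩, hfx⟩] at h1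
    change f' ((α ⟨x, hPT hx⟩ : T) : Ω) = γi (φ ⟨x, hx⟩) at h1
    rwa [hαe ⟨x, hPT hx⟩, hfe ⟨x, hx⟩] at h1
  obtain ⟨g, hg, hge, hgc⟩ := hc.2 P' f' hf'
  have hle : P ⊔ Subgroup.zpowers (γ c) ≤ M :=
    sup_le (hPT.trans hTM) (Subgroup.zpowers_le.mpr (mem_of_image hM hcD))
  have h1 : ∀ x ∈ P ⊔ Subgroup.zpowers (γ c), γi x ∈ P' ⊔ Subgroup.zpowers c :=
    (hγi.mono hle).maps_sup (fun x hx => Subgroup.mem_sup_left (hmem x hx)) fun x hx =>
      Subgroup.mem_sup_right (hγi₁ c hcD ▸ mapFn_zpowers hγi (mem_of_image hM hcD) x hx)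
  have h2 : ∀ x ∈ P' ⊔ Subgroup.zpowers c, g x ∈ T ⊔ Subgroup.zpowers c :=
    hg.maps_sup (fun x hx => Subgroup.mem_sup_left (by rw [hge x hx]; exact hf'.mem_S hx)) fun x hx =>
      Subgroup.mem_sup_right (hgc ▸ mapFn_zpowers hg (Subgroup.mem_sup_right (Subgroup.mem_zpowers c)) x hx)
  refine ⟨γ ∘ g ∘ γi, ((hγi.mono hle).comp hg h1).comp hγ fun x hx => h2 _ (h1 x hx), fun x hx => ?_, ?_⟩
  · show γ (g (γi x)) = f x
    rw [hge _ (hmem x hx), hval x hx]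
    exact hγi₂ _ (hTM (hfe ⟨x, hx⟩ ▸ apply_mem_S hφ _))
  · show γ (g (γi (γ c))) = γ c
    rw [hγi₁ c hcD, hgc]

/-! ### Automorphisms of `T` -/

/-- An extension of order prime to `p` of an automorphism of `T` fixes the good elements. -/
theorem fixed_of_coprime (hS : IsPGroup p S) (hF : F.IsSaturated p) (hE : E.IsInvariantIn F)
    {B : MulAut ↥(T ⊔ centralizerIn S T)} (hB : B ∈ F.autGroup (T ⊔ centralizerIn S T)) {n : ℕ}
    (hn : n.Coprime p) (hBn : B ^ n = 1)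
    (hz : ∀ x : ↥(T ⊔ centralizerIn S T), (x : Ω) ∈ centralizerIn S T →
      (x : Ω)⁻¹ * ((B x : ↥(T ⊔ centralizerIn S T)) : Ω) ∈ T ⊓ Subgroup.centralizer (T : Set Ω))
    {α : MulAut T} (hα : α ∈ E.autGroup T)
    (hBα : ∀ t : T, ((B (Subgroup.inclusion le_sup_left t) : ↥(T ⊔ centralizerIn S T)) : Ω) = ((α t : T) : Ω))
    {c : Ω} (hc : GoodElt F E c) :
    B ⟨c, Subgroup.mem_sup_right hc.1⟩ = ⟨c, Subgroup.mem_sup_right hc.1⟩ := by
  have hT := hE.2.1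
  have hTS := hT.1
  have hU0S : (T ⊔ centralizerIn S T) ≤ S := sup_le hTS centralizerIn_le
  have := finite_of_le hU0S
  have := finite_of_le (centralizerIn_le : (centralizerIn S T) ≤ S)
  obtain ⟨β, hβ, hβr, hβe⟩ := exists_mapFn_of_aut hU0S hB
  obtain ⟨βi, hβi, hβir, hβi₁, hβi₂⟩ := hβ.exists_inv hβr
  have hz' : ∀ x ∈ (centralizerIn S T), x⁻¹ * β x ∈ T ∧ x⁻¹ * β x ∈ Subgroup.centralizer (T : Set Ω) := fun x hx => by
    have := hz ⟨x, Subgroup.mem_sup_right hx⟩ hx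
    rwa [← hβe] at this
  have hzZ : ∀ z, z ∈ T → z ∈ Subgroup.centralizer (T : Set Ω) → z ∈ (centralizerIn S T) := fun z h1 h2 => ⟨hTS h1, h2⟩
  have hβT : ∀ t ∈ T, β t ∈ T := fun t ht => mapFn_mem hT hβ (Subgroup.mem_sup_left ht) ht
  -- the relation
  let r : Ω → Ω → Prop := fun x y => x⁻¹ * β x = y⁻¹ * β y
  have hr : Equivalence r := ⟨fun _ => rfl, Eq.symm, Eq.trans⟩
  have hconj : ∀ g ∈ (centralizerIn S T), ∀ x ∈ (centralizerIn S T), r x (g * x * g⁻¹) := by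
    intro g hg x hx
    obtain ⟨hzg, hzgC⟩ := hz' g hg
    obtain ⟨hzx, -⟩ := hz' x hx
    show x⁻¹ * β x = (g * x * g⁻¹)⁻¹ * β (g * x * g⁻¹)
    have e1 : g⁻¹ * β g * x = x * (g⁻¹ * β g) := (mem_centralizerIn.mp hx).2 _ hzg
    have e2 : g⁻¹ * β g * (x⁻¹ * β x) = x⁻¹ * β x * (g⁻¹ * β g) :=
      (Subgroup.mem_centralizer_iff.mp hzgC _ hzx).symm
    have e3 : x⁻¹ * β x * g = g * (x⁻¹ * β x) := (mem_centralizerIn.mp hg).2 _ hzx
    rw [hβ.map_conj (Subgroup.mem_sup_right hg) (Subgroup.mem_sup_right hx)]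
    calc x⁻¹ * β x = g * (x⁻¹ * β x) * g⁻¹ := by rw [← e3]; group
      _ = g * x⁻¹ * (x * (g⁻¹ * β g)) * (x⁻¹ * β x) * (g⁻¹ * β g)⁻¹ * g⁻¹ := by
          calc g * (x⁻¹ * β x) * g⁻¹
              = g * ((g⁻¹ * β g) * (x⁻¹ * β x) * (g⁻¹ * β g)⁻¹) * g⁻¹ := by rw [e2]; group
            _ = _ := by group
      _ = _ := by rw [← e1]; group
  -- the key fact
  have hkey : ∀ (P : Subgroup Ω) (φ : P →* Ω), φ ∈ (fixSystem F hTS).Hom P → ∀ x : P, r x (φ x) := by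
    intro P φ hφ x
    have hG₀ : (fixSystem F hTS).IsSaturated p :=
      centralizerSystem_saturated hS hF (isFullyCentralized_of_stronglyClosed hT) fun P => extHom_bot F T P
    refine rel_of_mem (F := fixSystem F hTS) (hS.to_le centralizerIn_le) hG₀ hr hconj ?_ hφ x
    intro A hA hAZ hAa α' hα' x
    obtain ⟨hAc, hin⟩ := good_of_alperin (hS.to_le centralizerIn_le) hA hAa
    have hAS : A ≤ S := hAZ.trans centralizerIn_le
    have := finite_of_le hAS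
    have hAU : A ≤ (T ⊔ centralizerIn S T) := hAZ.trans le_sup_right
    have hZA : ∀ z, z ∈ T → z ∈ Subgroup.centralizer (T : Set Ω) → z ∈ A := fun z h1 h2 =>
      hAc.2 A (isConj_refl hAZ) (mem_centralizerIn.mpr ⟨hzZ z h1 h2,
        fun a ha => ((mem_centralizerIn.mp (hAZ ha)).2 z h1).symm⟩)
    have hβA : ∀ a ∈ A, β a ∈ A := fun a ha => by
      obtain ⟨h1, h2⟩ := hz' a (hAZ ha)
      simpa using A.mul_mem ha (hZA _ h1 h2)
    obtain ⟨b, -, hbe⟩ := (hβ.mono hAU).exists_aut ((hβ.mono hAU).image_eq_of_maps hAS hβA le_rfl)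
    have hKinv : ∀ a' ∈ (fixSystem F hTS).autGroup A, ∀ a : A, (a : Ω) ∈ T → a' a = a := by
      intro a' ha' a ha
      obtain ⟨k, -, hke, hkW⟩ := exists_fix_mapFn hTS hAZ ha'
      exact Subtype.ext (by rw [← hke]; exact hkW _ ha)
    obtain ⟨g, hg, hge, hgT⟩ := exists_fix_mapFn hTS hAZ hα'
    set M := A ⊔ T with hM
    have hMS : M ≤ S := sup_le hAS hTS
    have hMU : M ≤ (T ⊔ centralizerIn S T) := sup_le hAU le_sup_left
    have hgM : ∀ y ∈ M, g y ∈ M := hg.maps_sup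
      (fun a ha => Subgroup.mem_sup_left (by rw [hge ⟨a, ha⟩]; exact Subtype.mem _))
      (fun t ht => Subgroup.mem_sup_right (by rw [hgT t ht]; exact ht))
    have hgr := hg.image_eq_of_maps hMS hgM le_rfl
    obtain ⟨gi, hgi, hgir, hgi₁, -⟩ := hg.exists_inv hgr
    have hβM : ∀ y ∈ M, β y ∈ M := (hβ.mono hMU).maps_sup (fun a ha => Subgroup.mem_sup_left (hβA a ha))
      fun t ht => Subgroup.mem_sup_right (hβT t ht)
    have hβMr := (hβ.mono hMU).image_eq_of_maps hMS hβM le_rfl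
    obtain ⟨bi, hbi, hbir, hbi₁, hbi₂⟩ := (hβ.mono hMU).exists_inv hβMr
    set e : MulAut A := b * α' * b⁻¹ * α'⁻¹ with he
    have heG : e ∈ (fixSystem F hTS).autGroup A := by
      have h1 : MapFn F M (fun y => β (g (bi (gi y)))) :=
        ((hgi.comp hbi fun y hy => mem_of_image hgir hy).comp hg
          fun y hy => mem_of_image hbir (mem_of_image hgir hy)).comp (hβ.mono hMU)
          fun y hy => hgM _ (mem_of_image hbir (mem_of_image hgir hy))
      refine mem_fix_autGroup hTS hAZ h1 (fun a => ?_) fun w hw => ?_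
      · have h2 : gi (a : Ω) = ((α'⁻¹ a : A) : Ω) := by
          have := hge (α'⁻¹ a)
          rw [MulAut.apply_inv_self] at this
          rw [← this]
          exact hgi₁ _ (Subgroup.mem_sup_left (Subtype.mem _))
        have h3 : bi ((α'⁻¹ a : A) : Ω) = ((b⁻¹ (α'⁻¹ a) : A) : Ω) := by
          have := hbe (b⁻¹ (α'⁻¹ a))
          rw [MulAut.apply_inv_self] at this
          rw [this]
          exact hbi₁ _ (Subgroup.mem_sup_left (Subtype.mem _))
        rw [h2, h3, hge, ← hbe]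
        rfl
      · have h2 : gi w = w := by
          conv_lhs => rw [← hgT w hw]
          exact hgi₁ w (Subgroup.mem_sup_right hw)
        show β (g (bi (gi w))) = w
        rw [h2, hgT _ (mapFn_mem hT hbi (Subgroup.mem_sup_right hw) hw), hbi₂ w (Subgroup.mem_sup_right hw)]
    have hmov : ∀ a : A, (a : Ω)⁻¹ * ((e a : A) : Ω) ∈ T := by
      intro a
      set u := b⁻¹ (α'⁻¹ a) with hu
      obtain ⟨h1, h2⟩ := hz' (u : Ω) (hAZ u.2)
      let z : A := ⟨(u : Ω)⁻¹ * β u, hZA _ h1 h2⟩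
      have hbu : b u = u * z := Subtype.ext (by simp [z, hbe])
      have h3 : α' u = a * z⁻¹ := by
        have h4 : b u = α'⁻¹ a := by rw [hu, MulAut.apply_inv_self]
        have h5 : a = α' (u * z) := by rw [← hbu, h4, MulAut.apply_inv_self]
        rw [h5, map_mul, hKinv α' hα' z h1, mul_inv_cancel_right]
      have h6 : e a = b a * (b z)⁻¹ := by
        rw [he]
        show b (α' u) = _
        rw [h3, map_mul, map_inv]
      rw [h6, Subgroup.coe_mul, Subgroup.coe_inv, hbe, hbe, ← mul_assoc]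
      exact T.mul_mem (hz' _ (hAZ a.2)).1 (T.inv_mem (hβT _ h1))
    obtain ⟨r₀, hr₀⟩ := exists_inner_of_fixer (hS.to_le centralizerIn_le) hAZ hin (K := T)
      (fun a' ha' a ha => by rw [hKinv a' ha' a ha]; exact ha) heG (hKinv e heG) hmov
    have hcr : b * α' * b⁻¹ = MulAut.conj r₀ * α' := by
      have : e = MulAut.conj r₀ := MulEquiv.ext fun x => hr₀ x
      rw [← this, he, inv_mul_cancel_right]
    have hbconj : b * MulAut.conj r₀ * b⁻¹ = MulAut.conj r₀ := by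
      refine MulEquiv.ext fun x => Subtype.ext ?_
      show ((b (r₀ * b⁻¹ x * r₀⁻¹) : A) : Ω) = (r₀ : Ω) * x * (r₀ : Ω)⁻¹
      obtain ⟨h1, -⟩ := hz' (r₀ : Ω) (hAZ r₀.2)
      rw [map_mul, map_mul, map_inv, MulAut.apply_inv_self]
      simp only [Subgroup.coe_mul, Subgroup.coe_inv, hbe]
      have h2 : (r₀ : Ω)⁻¹ * β r₀ * x = x * ((r₀ : Ω)⁻¹ * β r₀) :=
        (mem_centralizerIn.mp (hAZ x.2)).2 _ h1
      calc β r₀ * x * (β r₀)⁻¹ = (r₀ : Ω) * ((r₀ : Ω)⁻¹ * β r₀ * x) * (β r₀)⁻¹ := by group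
        _ = _ := by rw [h2]; group
    have hpow : ∀ m : ℕ, b ^ m * α' * (b ^ m)⁻¹ = MulAut.conj r₀ ^ m * α' := by
      intro m
      induction m with
      | zero => simp
      | succ m ih =>
        calc b ^ (m + 1) * α' * (b ^ (m + 1))⁻¹ = b * (b ^ m * α' * (b ^ m)⁻¹) * b⁻¹ := by
              rw [pow_succ']; group
          _ = (b * MulAut.conj r₀ * b⁻¹) ^ m * (b * α' * b⁻¹) := by rw [ih, conj_pow]; group
          _ = _ := by rw [hbconj, hcr, pow_succ, mul_assoc]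
    have hbB : ∀ (m : ℕ) (a : A), (((b ^ m) a : A) : Ω) =
        (((B ^ m) ⟨a, hAU a.2⟩ : ↥(T ⊔ centralizerIn S T)) : Ω) := by
      intro m
      induction m with
      | zero => intro a; rfl
      | succ m ih =>
        intro a
        rw [pow_succ', MulAut.mul_apply, hbe, ih, pow_succ', MulAut.mul_apply, hβe]
    have hbn : b ^ n = 1 := MulEquiv.ext fun a => Subtype.ext (by rw [hbB, hBn]; rfl)
    have hconj1 : MulAut.conj r₀ = 1 := by
      have h1 := hpow n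
      rw [hbn, one_mul, inv_one, mul_one, right_eq_mul] at h1
      obtain ⟨k, hk⟩ := (hS.to_le hAS) r₀
      refine orderOf_eq_one_iff.mp (Nat.eq_one_of_dvd_coprimes (hn.pow_right k) (orderOf_dvd_of_pow_eq_one h1)
        (orderOf_dvd_of_pow_eq_one ?_))
      rw [← map_pow, hk, map_one]
    rw [hconj1, one_mul, mul_inv_eq_iff_eq_mul] at hcr
    show (x : Ω)⁻¹ * β x = ((α' x : A) : Ω)⁻¹ * β ((α' x : A) : Ω)
    have h1 : x⁻¹ * b x = (α' x)⁻¹ * b (α' x) := by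
      have h2 : ((x⁻¹ * b x : A) : Ω) ∈ T := by simpa [hbe] using (hz' _ (hAZ x.2)).1
      conv_lhs => rw [← hKinv α' hα' _ h2, map_mul, map_inv]
      show _ * (α' * b) x = _ * (b * α') x
      rw [hcr]
    simpa [hbe] using congrArg Subtype.val h1
  -- apply it to the conjugation of `β c` to `c`
  have hcU : c ∈ (T ⊔ centralizerIn S T) := Subgroup.mem_sup_right hc.1
  obtain ⟨hz₁, hz₂⟩ := hz' c hc.1
  obtain ⟨f, hf, -, hfe⟩ := exists_mapFn_of_aut le_rfl hα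
  obtain ⟨ψ, hψ, hψe, hψc⟩ := hc.2 T f hf
  have hβc : β c ∈ (centralizerIn S T) := hβ.mem_centralizerIn le_sup_left (image_T hT hβ le_sup_left) hcU hc.1
  have hm : ∀ x ∈ T ⊔ Subgroup.zpowers (β c), βi x ∈ T ⊔ Subgroup.zpowers c :=
    (hβi.mono (sup_le le_sup_left (Subgroup.zpowers_le.mpr (Subgroup.mem_sup_right hβc)))).maps_sup
      (fun x hx => Subgroup.mem_sup_left (mapFn_mem hT hβi (Subgroup.mem_sup_left hx) hx))
      fun x hx => Subgroup.mem_sup_right (hβi₁ c hcU ▸ mapFn_zpowers hβi (Subgroup.mem_sup_right hβc) x hx)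
  have hκ : MapFn F (T ⊔ Subgroup.zpowers (β c)) (ψ ∘ βi) :=
    (hβi.mono (sup_le le_sup_left (Subgroup.zpowers_le.mpr (Subgroup.mem_sup_right hβc)))).comp hψ hm
  have hκT : ∀ t ∈ T, (ψ ∘ βi) t = t := fun t ht => by
    have h1 := mapFn_mem hT hβi (Subgroup.mem_sup_left ht) ht
    show ψ (βi t) = t
    rw [hψe _ h1, hfe ⟨_, h1⟩, ← hBα, ← hβe]
    exact hβi₂ t (Subgroup.mem_sup_left ht)
  obtain ⟨φ, hφ, hφe⟩ := exists_fix_hom hTS hβc hκ hκT
  have h1 := hkey _ φ hφ ⟨β c, Subgroup.mem_zpowers _⟩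
  rw [hφe] at h1
  change (β c)⁻¹ * β (β c) = (ψ (βi (β c)))⁻¹ * β (ψ (βi (β c))) at h1
  rw [hβi₁ c hcU, hψc] at h1
  set z := c⁻¹ * β c with hzdef
  have hβz : β z = z := by
    rw [hzdef, hβ.map_mul ((T ⊔ centralizerIn S T).inv_mem hcU) (mem_of_image hβr hcU), hβ.map_inv hcU]
    exact h1
  have hiter : ∀ m : ℕ, (((B ^ m) ⟨c, hcU⟩ : ↥(T ⊔ centralizerIn S T)) : Ω) = c * z ^ m := by
    intro m
    induction m with
    | zero => simp
    | succ m ih =>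
      rw [pow_succ', MulAut.mul_apply, ← hβe, ih, hβ.map_mul hcU (Subgroup.mem_sup_left (T.pow_mem hz₁ m)),
        hβ.map_pow (Subgroup.mem_sup_left hz₁), hβz, pow_succ', ← mul_assoc, hzdef, mul_inv_cancel_left]
  have hzn := hiter n
  rw [hBn] at hzn
  have hz1 : z = 1 := eq_one_of_coprime hS (hTS hz₁) hn (left_eq_mul.mp hzn)
  refine Subtype.ext ?_
  rw [← hβe]
  exact (inv_mul_eq_one.mp hz1).symm

/-- The automorphisms of `T` in `E` extend fixing `C_S(E)`. -/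
theorem exists_fix_top (hS : IsPGroup p S) (hE : E.IsNormalIn F p) {α : MulAut T} (hα : α ∈ E.autGroup T) :
    ∃ g, MapFn F (T ⊔ subsystemCentralizer F E) g ∧ (∀ t : T, g t = ((α t : T) : Ω)) ∧
      ∀ c ∈ subsystemCentralizer F E, g c = c := by
  obtain ⟨⟨hEs, hF, hEi⟩, hext⟩ := hE
  have hT := hEi.2.1
  have hTS := hT.1
  have := finite_of_le hTS
  have hp : p.Prime := Fact.out
  set C := subsystemCentralizer F E with hC
  have hCS : C ≤ S := subsystemCentralizer_le.trans centralizerIn_le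
  have hDS : T ⊔ C ≤ S := sup_le hTS hCS
  let K : Subgroup (E.autGroup T) :=
    { carrier := {a | ∃ g, MapFn F (T ⊔ C) g ∧ (∀ t : T, g t = (((a : MulAut T) t : T) : Ω)) ∧ ∀ c ∈ C, g c = c}
      one_mem' := ⟨id, mapFn_id hDS, fun _ => rfl, fun _ _ => rfl⟩
      mul_mem' := by
        rintro a b ⟨g, hg, hgT, hgC⟩ ⟨h, hh, hhT, hhC⟩
        refine ⟨g ∘ h, hh.comp hg (hh.maps_sup
          (fun t ht => Subgroup.mem_sup_left (by rw [hhT ⟨t, ht⟩]; exact Subtype.mem _))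
          fun c hc => Subgroup.mem_sup_right (by rw [hhC c hc]; exact hc)), fun t => ?_, fun c hc => ?_⟩
        · show g (h t) = _
          rw [hhT, hgT]; rfl
        · show g (h c) = c
          rw [hhC c hc, hgC c hc]
      inv_mem' := by
        rintro a ⟨g, hg, hgT, hgC⟩
        obtain ⟨gi, hgi, -, hgi₁, -⟩ := hg.exists_inv (hg.image_eq_of_maps hDS (hg.maps_sup
          (fun t ht => Subgroup.mem_sup_left (by rw [hgT ⟨t, ht⟩]; exact Subtype.mem _))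
          fun c hc => Subgroup.mem_sup_right (by rw [hgC c hc]; exact hc)) le_rfl)
        refine ⟨gi, hgi, fun t => ?_, fun c hc => ?_⟩
        · have h1 := hgT ((a : MulAut T)⁻¹ t)
          rw [MulAut.apply_inv_self] at h1
          rw [← h1]
          exact hgi₁ _ (Subgroup.mem_sup_left (Subtype.mem _))
        · conv_lhs => rw [← hgC c hc]
          exact hgi₁ c (Subgroup.mem_sup_right hc) }
  suffices h : (⟨α, hα⟩ : E.autGroup T) ∈ K from h
  have hcop : ∀ a : E.autGroup T, (orderOf a).Coprime p → a ∈ K := by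
    intro a hac
    have hac' : (orderOf (a : MulAut T)).Coprime p := by rwa [Subgroup.orderOf_coe]
    obtain ⟨B₀, hB₀, hB₀a, hB₀z⟩ := hext a a.2
    have hU0S : T ⊔ centralizerIn S T ≤ S := sup_le hTS centralizerIn_le
    have := finite_mulAut hU0S
    have hz : ∀ (m : ℕ) (x : ↥(T ⊔ centralizerIn S T)), (x : Ω) ∈ centralizerIn S T →
        (x : Ω)⁻¹ * (((B₀ ^ m) x : ↥(T ⊔ centralizerIn S T)) : Ω) ∈ T ⊓ Subgroup.centralizer (T : Set Ω) := by
      intro m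
      induction m with
      | zero => intro x _; simp
      | succ m ih =>
        intro x hx
        have h1 := ih x hx
        have h2 : (((B₀ ^ m) x : ↥(T ⊔ centralizerIn S T)) : Ω) ∈ centralizerIn S T := by
          simpa using (centralizerIn S T).mul_mem hx (⟨hTS h1.1, h1.2⟩ : _ ∈ centralizerIn S T)
        have := Subgroup.mul_mem _ h1 (hB₀z _ h2)
        rw [pow_succ', MulAut.mul_apply]
        simpa [mul_assoc] using this
    have hres : ∀ (m : ℕ) (t : T),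
        (((B₀ ^ m) (Subgroup.inclusion le_sup_left t) : ↥(T ⊔ centralizerIn S T)) : Ω) =
          ((((a : MulAut T) ^ m) t : T) : Ω) := by
      intro m
      induction m with
      | zero => intro t; rfl
      | succ m ih =>
        intro t
        rw [pow_succ', MulAut.mul_apply, pow_succ', MulAut.mul_apply, ← hB₀a]
        congr 2
        exact Subtype.ext (ih t)
    obtain ⟨k, m, hm, hord⟩ := Nat.exists_eq_pow_mul_and_not_dvd (orderOf_pos B₀).ne' p hp.ne_one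
    obtain ⟨d, hd₁, hd₂⟩ := Nat.chineseRemainder (hac'.pow_right k) 1 0
    obtain ⟨e, rfl⟩ : p ^ k ∣ d := Nat.modEq_zero_iff_dvd.mp hd₂
    have hda : (a : MulAut T) ^ (p ^ k * e) = a := by
      conv_rhs => rw [← pow_one (a : MulAut T)]
      exact pow_eq_pow_iff_modEq.mpr hd₁
    have hBm : (B₀ ^ (p ^ k * e)) ^ m = 1 := by
      rw [← pow_mul, show p ^ k * e * m = p ^ k * m * e by ring, ← hord, pow_mul, pow_orderOf_eq_one, one_pow]
    obtain ⟨β, hβ, -, hβe⟩ := exists_mapFn_of_aut hU0S (Subgroup.pow_mem _ hB₀ (p ^ k * e))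
    refine ⟨β, hβ.mono (sup_le_sup_left subsystemCentralizer_le T), fun t => ?_, ?_⟩
    · have := hres (p ^ k * e) t
      rw [hda] at this
      exact (hβe _).trans this
    · refine mapFn_eq_closure hβ (mapFn_id hU0S) (subsystemCentralizer_le.trans le_sup_right) fun c hc => ?_
      have h1 := fixed_of_coprime hS hF hEi (Subgroup.pow_mem _ hB₀ _) ((hp.coprime_iff_not_dvd).mpr hm).symm
        hBm (hz _) a.2 (fun t => by rw [hres, hda]) hc
      exact (hβe ⟨c, Subgroup.mem_sup_right hc.1⟩).trans (congrArg Subtype.val h1)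
  obtain ⟨a, haR, g, hg, b, hab, hb⟩ :=
    FullyAutomized.exists_mul (((saturated_iff_top_and_receptive (hS.to_le hTS)).mp hEs).1) hα
  have hbE : b ∈ E.autGroup T := (mem_autGroup le_rfl).mpr (mem_of_conj le_rfl hg fun x => hb x)
  have hbK : (⟨b, hbE⟩ : E.autGroup T) ∈ K := by
    refine ⟨_, mapFn_conj hDS (hTS hg), fun t => (hb t).symm, fun c hc => ?_⟩
    rw [(mem_centralizerIn.mp (subsystemCentralizer_le hc)).2 g hg, mul_inv_cancel_right]
  have hαe : (⟨α, hα⟩ : E.autGroup T) = a * ⟨b, hbE⟩ := Subtype.ext hab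
  rw [hαe]
  exact K.mul_mem (CfsgLib.Transfer.pResidual_le_iff.mpr hcop haR) hbK

/-! ### Arbitrary maps -/

/-- A conjugate of an inner automorphism of `N_T(Q)` extends fixing `C_S(E)`. -/
theorem exists_fix_conj (hS : IsPGroup p S) (hF : F.IsSaturated p) (hE : E.IsInvariantIn F)
    (hQ : TCentric F T Q)
    (ih : ∀ f, MapFn E (normalizerIn T Q) f → ∃ g, MapFn F (normalizerIn T Q ⊔ subsystemCentralizer F E) g ∧
      (∀ x ∈ normalizerIn T Q, g x = f x) ∧ ∀ c ∈ subsystemCentralizer F E, g c = c)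
    {δ ct : MulAut Q} (hδ : δ ∈ E.autGroup Q) {t : Ω} (ht : t ∈ normalizerIn T Q)
    (hct : ∀ x : Q, ((ct x : Q) : Ω) = t * (x : Ω) * t⁻¹) :
    ∃ g, MapFn F (Q ⊔ subsystemCentralizer F E) g ∧ (∀ x : Q, g x = (((δ * ct * δ⁻¹) x : Q) : Ω)) ∧
      ∀ c ∈ subsystemCentralizer F E, g c = c := by
  have hT := hE.2.1
  have hTS := hT.1
  have hQT := hQ.le
  have hQS := hQT.trans hTS
  set C := subsystemCentralizer F E with hC
  set N := normalizerIn T Q with hN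
  have hNT : N ≤ T := inf_le_left
  have hQN : Q ≤ N := le_normalizerIn hQT
  obtain ⟨W, θ, hWn, hθ, hθW, hθN⟩ := exists_fullyNormalized_mapFn hS hF hQS
  have hNS : N ≤ normalizerIn S Q := inf_le_inf_right _ hTS
  obtain ⟨a, f₀, ha, hf₀, hθe⟩ := exists_frattini hE hNT (hθ.mono hNS)
  obtain ⟨A, hA, hAa, hAZ⟩ := exists_top_extension hS hF hT ha
  obtain ⟨F₀, hF₀, hF₀e, hF₀C⟩ := ih f₀ hf₀
  have hF₀m : ∀ x ∈ N ⊔ C, F₀ x ∈ T ⊔ centralizerIn S T := hF₀.maps_sup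
    (fun x hx => Subgroup.mem_sup_left (by rw [hF₀e x hx]; exact hf₀.mem_S hx))
    fun x hx => Subgroup.mem_sup_right (by rw [hF₀C x hx]; exact subsystemCentralizer_le hx)
  obtain ⟨θ', hθ'def⟩ : ∃ θ' : Ω → Ω, θ' = A ∘ F₀ := ⟨_, rfl⟩
  have hθ' : MapFn F (N ⊔ C) θ' := hθ'def ▸ hF₀.comp hA hF₀m
  have hθ'N : ∀ x ∈ N, θ' x = θ x := fun x hx => by
    subst hθ'def
    show A (F₀ x) = θ x
    rw [hF₀e x hx, hAa _ (hf₀.mem_S hx), hθe x hx]
  have hθ'C : ∀ c ∈ C, θ' c ∈ centralizerIn S T := fun c hc => by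
    subst hθ'def
    show A (F₀ c) ∈ _
    rw [hF₀C c hc]; exact hAZ c (subsystemCentralizer_le hc)
  have hWT : W ≤ T := fun y hy => by
    obtain ⟨x, hx, rfl⟩ := exists_of_image hθW hy
    exact mapFn_mem hT hθ (hNS (hQN hx)) (hQT hx)
  have hWS := hWT.trans hTS
  have hWf := isFullyCentralized_of_fullyNormalized hS hF hWn
  have hWc : TCentric F T W := hQ.of_conj hT ((hθ.mono (hNS.trans' hQN)).isConj hθW)
  have hθ'W : θ' '' Q = (W : Set Ω) :=
    (Set.image_congr fun x hx => hθ'N x (hQN hx)).trans hθW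
  set D := Q ⊔ C with hD
  have hDN : D ≤ N ⊔ C := sup_le_sup_right hQN C
  obtain ⟨M', -, hM'⟩ := (hθ'.mono hDN).exists_image
  obtain ⟨ι, hι, hιr, hι₁, hι₂⟩ := (hθ'.mono hDN).exists_inv hM'
  have hWM' : W ≤ M' := fun y hy => by
    obtain ⟨x, hx, rfl⟩ := exists_of_image hθ'W hy
    exact mem_of_image hM' (Subgroup.mem_sup_left hx)
  have hιW : ∀ y ∈ W, ι y ∈ Q := fun y hy => by
    obtain ⟨x, hx, rfl⟩ := exists_of_image hθ'W hy
    rw [hι₁ x (Subgroup.mem_sup_left hx)]; exact hx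
  -- `δ` transported to `W` and extended
  obtain ⟨d, hd, hdr, hde⟩ := exists_mapFn_of_aut hQT hδ
  have hdF := mapFn_of_subsystem hE.1 hd
  have hδ₁ : MapFn F W (θ' ∘ d ∘ ι) := ((hι.mono hWM').comp hdF hιW).comp (hθ'.mono (hQN.trans le_sup_left))
    fun y hy => mem_of_image hdr (hιW y hy)
  have hδ₁r := hδ₁.image_eq_of_maps hWS (fun y hy => mem_of_image hθ'W (mem_of_image hdr (hιW y hy))) le_rfl
  obtain ⟨Δ, hΔ, hΔe⟩ := hδ₁.extend_centralizer hS hF hWf hδ₁r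
  set M := W ⊔ centralizerIn S W with hMdef
  have hMS : M ≤ S := sup_le hWS centralizerIn_le
  have hΔW : Δ '' W = (W : Set Ω) := (Set.image_congr fun y hy => hΔe y hy).trans hδ₁r
  have hΔr := hΔ.image_eq_of_maps hMS (hΔ.maps_sup (fun y hy => Subgroup.mem_sup_left (mem_of_image hΔW hy))
    fun y hy => Subgroup.mem_sup_right (hΔ.mem_centralizerIn le_sup_left hΔW (Subgroup.mem_sup_right hy) hy))
    le_rfl
  obtain ⟨Δi, hΔi, hΔir, hΔi₁, hΔi₂⟩ := hΔ.exists_inv hΔr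
  set t₁ := θ' t with ht₁
  have ht₁N : t₁ ∈ normalizerIn T W := by
    have h1 : t₁ = θ t := hθ'N t ht
    refine ⟨?_, ?_⟩
    · rw [h1]; exact mapFn_mem hT hθ (hNS ht) ht.1
    · rw [h1]; exact (hθN t (hNS ht)).2
  have ht₁M : ∀ y ∈ M, t₁ * y * t₁⁻¹ ∈ M := fun y hy =>
    (mapFn_conj (F := F) hMS (hTS ht₁N.1)).maps_sup
      (fun w hw => Subgroup.mem_sup_left (conj_mem_of_normalizer ht₁N.2 hw))
      (fun w hw => Subgroup.mem_sup_right (mem_centralizerIn.mpr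
        ⟨S.mul_mem (S.mul_mem (hTS ht₁N.1) hw.1) (S.inv_mem (hTS ht₁N.1)), fun v hv => by
          have h1 := (mem_centralizerIn.mp hw).2 _ ((Subgroup.mem_normalizer_iff''.mp ht₁N.2 v).mp hv)
          calc v * (t₁ * w * t₁⁻¹) = t₁ * (t₁⁻¹ * v * t₁ * w) * t₁⁻¹ := by group
            _ = t₁ * w * t₁⁻¹ * v := by rw [h1]; group⟩)) y hy
  obtain ⟨η, hηdef⟩ : ∃ η : Ω → Ω, η = fun y => Δ (t₁ * Δi y * t₁⁻¹) := ⟨_, rfl⟩
  have hη : MapFn F M η := hηdef ▸ (hΔi.comp (mapFn_conj hMS (hTS ht₁N.1))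
    fun y hy => mem_of_image hΔir hy).comp hΔ fun y hy => ht₁M _ (mem_of_image hΔir hy)
  have hθ'M : ∀ x ∈ D, θ' x ∈ M := (hθ'.mono hDN).maps_sup
    (fun x hx => Subgroup.mem_sup_left (mem_of_image hθ'W hx))
    fun x hx => Subgroup.mem_sup_right ⟨(hθ'C x hx).1,
      Subgroup.centralizer_le (SetLike.coe_subset_coe.mpr hWT) (hθ'C x hx).2⟩
  have hηC : ∀ c ∈ C, η (θ' c) = θ' c := by
    refine mapFn_eq_closure ((hθ'.mono hDN).comp hη hθ'M) (hθ'.mono hDN) le_sup_right ?_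
    intro c hc
    have hcC : c ∈ C := Subgroup.subset_closure hc
    have hcD : c ∈ D := Subgroup.mem_sup_right hcC
    show η (θ' c) = θ' c
    set b := θ' c with hb
    have hbM : b ∈ M := hθ'M c hcD
    have hbM' : b ∈ M' := mem_of_image hM' hcD
    obtain ⟨ψ₀, hψ₀, hψ₀e, hψ₀c⟩ := hc.2 Q d hd
    have hle : W ⊔ Subgroup.zpowers b ≤ M' := sup_le hWM' (Subgroup.zpowers_le.mpr hbM')
    have hm1 : ∀ y ∈ W ⊔ Subgroup.zpowers b, ι y ∈ Q ⊔ Subgroup.zpowers c :=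
      (hι.mono hle).maps_sup (fun y hy => Subgroup.mem_sup_left (hιW y hy))
        fun y hy => Subgroup.mem_sup_right (hι₁ c hcD ▸ mapFn_zpowers hι hbM' y hy)
    have hm2 : ∀ y ∈ Q ⊔ Subgroup.zpowers c, ψ₀ y ∈ Q ⊔ Subgroup.zpowers c := hψ₀.maps_sup
      (fun y hy => Subgroup.mem_sup_left (by rw [hψ₀e y hy]; exact mem_of_image hdr hy))
      fun y hy => Subgroup.mem_sup_right
        (hψ₀c ▸ mapFn_zpowers hψ₀ (Subgroup.mem_sup_right (Subgroup.mem_zpowers c)) y hy)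
    have hQc : Q ⊔ Subgroup.zpowers c ≤ D := sup_le le_sup_left (Subgroup.zpowers_le.mpr hcD)
    have hψ : MapFn F (W ⊔ Subgroup.zpowers b) (θ' ∘ ψ₀ ∘ ι) :=
      ((hι.mono hle).comp hψ₀ hm1).comp (hθ'.mono (hQc.trans hDN)) fun y hy => hm2 _ (hm1 y hy)
    have hψb : (θ' ∘ ψ₀ ∘ ι) b = b := by
      show θ' (ψ₀ (ι b)) = b
      rw [hb, hι₁ c hcD, hψ₀c]
    have hψW : ∀ w ∈ W, (θ' ∘ ψ₀ ∘ ι) w = Δ w := fun w hw => by
      rw [hΔe w hw]
      show θ' (ψ₀ (ι w)) = θ' (d (ι w))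
      rw [hψ₀e _ (hιW w hw)]
    have hψm : ∀ y ∈ W ⊔ Subgroup.zpowers b, (θ' ∘ ψ₀ ∘ ι) y ∈ M := fun y hy =>
      hθ'M _ (hQc (hm2 _ (hm1 y hy)))
    obtain ⟨hcomm, -⟩ := transport_normalizer hS hF hT hWc hWf (hψ.comp hΔi hψm)
      (fun w hw => by
        show Δi ((θ' ∘ ψ₀ ∘ ι) w) = w
        rw [hψW w hw]; exact hΔi₁ w (Subgroup.mem_sup_left hw))
      ⟨(hθ'C c hcC).1, Subgroup.centralizer_le (SetLike.coe_subset_coe.mpr inf_le_left) (hθ'C c hcC).2⟩
    have h1 : Δi b ∈ centralizerIn S (normalizerIn T W) := by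
      have e : (Δi ∘ θ' ∘ ψ₀ ∘ ι) b = Δi b := by
        show Δi ((θ' ∘ ψ₀ ∘ ι) b) = Δi b
        rw [hψb]
      rwa [e] at hcomm
    rw [hηdef]
    show Δ (t₁ * Δi b * t₁⁻¹) = b
    rw [(mem_centralizerIn.mp h1).2 t₁ ht₁N, mul_inv_cancel_right, hΔi₂ b hbM]
  -- the values on `Q`
  have hηQ : ∀ x : Q, η (θ' x) = θ' (((δ * ct * δ⁻¹) x : Q) : Ω) := by
    intro x
    have hyN : ∀ y : Q, (y : Ω) ∈ N ⊔ C := fun y => Subgroup.mem_sup_left (hQN y.2)
    have hΔθ : ∀ y : Q, Δ (θ' y) = θ' ((δ y : Q) : Ω) := fun y => by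
      rw [hΔe _ (mem_of_image hθ'W y.2)]
      show θ' (d (ι (θ' y))) = _
      rw [hι₁ _ (Subgroup.mem_sup_left y.2), hde]
    have h1 : Δi (θ' x) = θ' ((δ⁻¹ x : Q) : Ω) := by
      have := hΔθ (δ⁻¹ x)
      rw [MulAut.apply_inv_self] at this
      rw [← this]
      exact hΔi₁ _ (Subgroup.mem_sup_left (mem_of_image hθ'W (Subtype.mem _)))
    rw [hηdef]
    show Δ (t₁ * Δi (θ' x) * t₁⁻¹) = _
    rw [h1, ht₁, ← hθ'.map_conj (Subgroup.mem_sup_left ht) (hyN _), ← hct, hΔθ]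
    rfl
  have hηm : ∀ x ∈ D, η (θ' x) ∈ M' := ((hθ'.mono hDN).comp hη hθ'M).maps_sup
    (fun x hx => by
      show η (θ' x) ∈ M'
      rw [hηQ ⟨x, hx⟩]
      exact mem_of_image hM' (Subgroup.mem_sup_left (Subtype.mem _)))
    fun x hx => by
      show η (θ' x) ∈ M'
      rw [hηC x hx]
      exact mem_of_image hM' (Subgroup.mem_sup_right hx)
  refine ⟨ι ∘ η ∘ θ', ((hθ'.mono hDN).comp hη hθ'M).comp hι hηm, fun x => ?_, fun c hc => ?_⟩
  · show ι (η (θ' x)) = _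
    rw [hηQ]
    exact hι₁ _ (Subgroup.mem_sup_left (Subtype.mem _))
  · show ι (η (θ' c)) = c
    rw [hηC c hc]
    exact hι₁ _ (Subgroup.mem_sup_right hc)

/-- Every map of `E` extends to a map of `F` fixing `C_S(E)`. -/
theorem exists_fix_of_mapFn (hS : IsPGroup p S) (hE : E.IsNormalIn F p) {f : Ω → Ω} (hf : MapFn E P f) :
    ∃ g, MapFn F (P ⊔ subsystemCentralizer F E) g ∧ (∀ x ∈ P, g x = f x) ∧
      ∀ c ∈ subsystemCentralizer F E, g c = c := by
  have hE' := hE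
  obtain ⟨⟨hEs, hF, hEi⟩, -⟩ := hE
  have hT := hEi.2.1
  have hTS := hT.1
  have hST := hS.to_le hTS
  have := finite_of_le hTS
  set C := subsystemCentralizer F E with hC
  have hCS : C ≤ S := subsystemCentralizer_le.trans centralizerIn_le
  refine alperin_induction hST hEs
    (fun P f => ∃ g, MapFn F (P ⊔ C) g ∧ (∀ x ∈ P, g x = f x) ∧ ∀ c ∈ C, g c = c)
    (fun _ ⟨g, hg, hP, hQ⟩ e => ⟨g, hg, fun x hx => (hP x hx).trans (e x hx), hQ⟩)
    (fun _ ⟨g, hg, hP, hQ⟩ hR => ⟨g, hg.mono (sup_le_sup_right hR C), fun x hx => hP x (hR hx), hQ⟩)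
    ?_ ?_ ?_ P f hf
  · rintro P R f g - ⟨f', hf', hfP, hfC⟩ - ⟨g', hg', hgP, hgC⟩ hm
    refine ⟨g' ∘ f', hf'.comp hg' (hf'.maps_sup (fun x hx => ?_) fun x hx => ?_), fun x hx => ?_,
      fun c hc => ?_⟩
    · rw [hfP x hx]; exact Subgroup.mem_sup_left (hm x hx)
    · rw [hfC x hx]; exact Subgroup.mem_sup_right hx
    · show g' (f' x) = g (f x)
      rw [hfP x hx, hgP _ (hm x hx)]
    · show g' (f' c) = c
      rw [hfC c hc, hgC c hc]
  · rintro P R f g hf ⟨f', hf', hfP, hfC⟩ hr - hinv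
    obtain ⟨M, -, hM⟩ := hf'.exists_image
    obtain ⟨g', hg', -, hg'₁, -⟩ := hf'.exists_inv hM
    have hle : R ⊔ C ≤ M := by
      refine sup_le (fun y hy => ?_) fun y hy => ?_
      · obtain ⟨x, hx, rfl⟩ := exists_of_image hr hy
        rw [← hfP x hx]; exact mem_of_image hM (Subgroup.mem_sup_left hx)
      · rw [← hfC y hy]; exact mem_of_image hM (Subgroup.mem_sup_right hy)
    refine ⟨g', hg'.mono hle, fun y hy => ?_, fun c hc => ?_⟩
    · obtain ⟨x, hx, rfl⟩ := exists_of_image hr hy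
      rw [hinv x hx, ← hfP x hx, hg'₁ x (Subgroup.mem_sup_left hx)]
    · conv_lhs => rw [← hfC c hc]
      exact hg'₁ c (Subgroup.mem_sup_right hc)
  intro Q hQn hQc hQrad ih a ha har
  have hQT : Q ≤ T := hQn.1
  obtain ⟨α, hα, hαe⟩ := ha.exists_aut har
  rcases eq_or_ne Q T with rfl | hne
  · obtain ⟨g, hg, hgT, hgC⟩ := exists_fix_top hS hE' hα
    exact ⟨g, hg, fun x hx => (hgT ⟨x, hx⟩).trans (hαe _), hgC⟩
  have hlt : Q < T := lt_of_le_of_ne hQT hne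
  have hNlt : Nat.card Q < Nat.card (normalizerIn T Q) :=
    card_lt_card normalizerIn_le (Fusion.lt_normalizerIn hST le_rfl hlt)
  have := finite_mulAut hQT
  have hQCS : Q ⊔ C ≤ S := sup_le (hQT.trans hTS) hCS
  let K : Subgroup (E.autGroup Q) :=
    { carrier := {a | ∃ g, MapFn F (Q ⊔ C) g ∧ (∀ x : Q, g x = (((a : MulAut Q) x : Q) : Ω)) ∧ ∀ c ∈ C, g c = c}
      one_mem' := ⟨id, mapFn_id hQCS, fun _ => rfl, fun _ _ => rfl⟩
      mul_mem' := by
        rintro a b ⟨g, hg, hgT, hgC⟩ ⟨h, hh, hhT, hhC⟩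
        refine ⟨g ∘ h, hh.comp hg (hh.maps_sup
          (fun t ht => Subgroup.mem_sup_left (by rw [hhT ⟨t, ht⟩]; exact Subtype.mem _))
          fun c hc => Subgroup.mem_sup_right (by rw [hhC c hc]; exact hc)), fun t => ?_, fun c hc => ?_⟩
        · show g (h t) = _
          rw [hhT, hgT]; rfl
        · show g (h c) = c
          rw [hhC c hc, hgC c hc]
      inv_mem' := by
        rintro a ⟨g, hg, hgT, hgC⟩
        obtain ⟨gi, hgi, -, hgi₁, -⟩ := hg.exists_inv (hg.image_eq_of_maps hQCS (hg.maps_sup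
          (fun t ht => Subgroup.mem_sup_left (by rw [hgT ⟨t, ht⟩]; exact Subtype.mem _))
          fun c hc => Subgroup.mem_sup_right (by rw [hgC c hc]; exact hc)) le_rfl)
        refine ⟨gi, hgi, fun t => ?_, fun c hc => ?_⟩
        · have h1 := hgT ((a : MulAut Q)⁻¹ t)
          rw [MulAut.apply_inv_self] at h1
          rw [← h1]
          exact hgi₁ _ (Subgroup.mem_sup_left (Subtype.mem _))
        · conv_lhs => rw [← hgC c hc]
          exact hgi₁ c (Subgroup.mem_sup_right hc) }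
  suffices h : K = ⊤ by
    obtain ⟨g, hg, hgQ, hgC⟩ := (h ▸ Subgroup.mem_top _ : (⟨α, hα⟩ : E.autGroup Q) ∈ K)
    exact ⟨g, hg, fun x hx => (hgQ ⟨x, hx⟩).trans (hαe _), hgC⟩
  obtain ⟨hQa, hQr⟩ := fullyNormalized_good hST hEs hQn
  obtain ⟨-, U, hU⟩ := hQa
  set Nn := Subgroup.normalClosure ((U : Subgroup (E.autGroup Q)) : Set (E.autGroup Q)) with hNn
  have hNK : Nn ≤ K := by
    refine (Subgroup.closure_le _).mpr fun x hx => ?_
    obtain ⟨u, hu, hux⟩ := Group.mem_conjugatesOfSet_iff.mp hx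
    obtain ⟨δ, rfl⟩ := isConj_iff.mp hux
    obtain ⟨t, htT, hte⟩ := mem_autInducedBy.mp (Subgroup.mem_subgroupOf.mp (hU.le hu))
    exact exists_fix_conj hS hF hEi (tcentric_of_centric hEi hQc)
      (fun f hf => ih _ f hf hNlt) δ.2 ⟨htT, mem_normalizer_of_aut hte⟩ hte
  have hnK : Subgroup.normalizer ((U : Subgroup (E.autGroup Q)) : Set (E.autGroup Q)) ≤ K := by
    intro k hk
    obtain ⟨κ, hκ, hκr, hκe⟩ := exists_map_of_mem_autGroup hQT k.2
    have hN : normalizerIn T Q ≤ extender T Q κ := by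
      rintro g ⟨hgT, hgN⟩
      obtain ⟨c, hc, hce⟩ := exists_autInducedBy (K := T) hgT hgN
      have hm : (⟨c, autInducedBy_le_autGroup hQT hc⟩ : E.autGroup Q) ∈ (U : Subgroup (E.autGroup Q)) :=
        hU.ge hc
      obtain ⟨s, hs, hse⟩ := mem_autInducedBy.mp (hU.le ((Subgroup.mem_normalizer_iff.mp hk _).mp hm))
      refine mem_extender.mpr ⟨hgT, hgN, s, hs, fun x hx => ?_⟩
      rw [hκe, hκe, ← hse]
      simp [← hce x]
    obtain ⟨ρ, hρ, hρe⟩ := Fusion.exists_extension hQr hκ hκr (le_normalizerIn hQT) hN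
    obtain ⟨r, hr, hre⟩ := mapFn_of_hom hρ
    obtain ⟨g, hg, hgN, hgC⟩ := ih _ r hr hNlt
    refine ⟨g, hg.mono (sup_le_sup_right (le_normalizerIn hQT) C), fun x => ?_, hgC⟩
    rw [hgN _ (le_normalizerIn hQT x.2), ← hre ⟨x, le_normalizerIn hQT x.2⟩]
    exact (hρe x).trans (hκe x)
  rw [eq_top_iff, ← Sylow.normalizer_sup_eq_top' (N := Nn) U Subgroup.le_normalClosure]
  exact sup_le hnK hNK

theorem goodElt_of_mem (hS : IsPGroup p S) (hE : E.IsNormalIn F p) {c : Ω}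
    (hc : c ∈ subsystemCentralizer F E) : GoodElt F E c := by
  refine ⟨subsystemCentralizer_le hc, fun P f hf => ?_⟩
  obtain ⟨g, hg, hgP, hgC⟩ := exists_fix_of_mapFn hS hE hf
  exact ⟨g, hg.mono (sup_le_sup_left (Subgroup.zpowers_le.mpr hc) P), hgP, hgC c hc⟩

/-! ### Strong closure -/

/-- For `R` centric radical, `R ⊓ T` is centric among the subgroups of `T`. -/
theorem tcentric_inf_of_radical (hS : IsPGroup p S) (hF : F.IsSaturated p) (hT : F.StronglyClosed T)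
    (hRc : F.IsCentric R) (hRr : F.IsRadical p R) : TCentric F T (R ⊓ T) := by
  have hTS := hT.1
  have hRS := hRc.1
  set W := R ⊓ T with hW
  have hWS : W ≤ S := inf_le_left.trans hRS
  obtain ⟨W', θ, hW'n, hθ, hθW, hθN⟩ := exists_fullyNormalized_mapFn hS hF hWS
  have hRN : R ≤ normalizerIn S W := fun r hr => by
    have := finite_of_le hWS
    exact ⟨hRS hr, mem_normalizer_of_forall fun x hx => ⟨R.mul_mem (R.mul_mem hr hx.1) (R.inv_mem hr),
      conj_mem_of_normalizer (StronglyClosed.le_normalizer hT (hRS hr)) hx.2⟩⟩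
  have hθR := hθ.mono hRN
  have hWR : W ≤ R := inf_le_left
  have hW'T : W' ≤ T := fun y hy => by
    obtain ⟨x, hx, rfl⟩ := exists_of_image hθW hy
    exact mapFn_mem hT hθR (hWR hx) hx.2
  suffices hC : centralizerIn T W' ≤ W' by
    refine ⟨inf_le_right, fun V hV c hc => ?_⟩
    obtain ⟨χ, hχ, hχV, -⟩ := exists_normalizer_mapFn hS hF hW'n
      (isConj_trans (isConj_symm hV) ((hθR.mono hWR).isConj hθW))
    obtain ⟨hcT, hcC⟩ := mem_centralizerIn.mp hc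
    have hcS : c ∈ centralizerIn S V := mem_centralizerIn.mpr ⟨hTS hcT, hcC⟩
    have hcN : c ∈ normalizerIn S V := centralizerIn_le_normalizerIn hcS
    have hVN : V ≤ normalizerIn S V := le_normalizerIn (IsConj.le_right hV)
    have h1 : χ c ∈ centralizerIn T W' :=
      ⟨mapFn_mem hT hχ hcN hcT, (hχ.mem_centralizerIn hVN hχV hcN hcS).2⟩
    obtain ⟨v, hv, hve⟩ := exists_of_image hχV (hC h1)
    rwa [← hχ.injOn (hVN hv) hcN hve]
  obtain ⟨R', hR'S, hR'⟩ := hθR.exists_image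
  have hRT' : ∀ z ∈ R', z ∈ T → z ∈ W' := fun z hz hzT => by
    obtain ⟨r, hr, rfl⟩ := exists_of_image hR' hz
    exact mem_of_image hθW ⟨hr, (mapFn_mem_iff hT hθR hr).mp hzT⟩
  set C' := centralizerIn T W' with hC'
  by_contra hcon
  obtain ⟨c, hc, hcW⟩ := SetLike.not_le_iff_exists.mp hcon
  have hR'N : R' ≤ Subgroup.normalizer (W' : Set Ω) := fun y hy => by
    obtain ⟨r, hr, rfl⟩ := exists_of_image hR' hy
    exact (hθN r (hRN hr)).2
  have hC'S : C' ≤ S := inf_le_left.trans hTS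
  have hR'C : R' ≤ Subgroup.normalizer (C' : Set Ω) := fun r hr => by
    have := finite_of_le hC'S
    refine mem_normalizer_of_forall fun x hx => mem_centralizerIn.mpr
      ⟨conj_mem_of_normalizer (StronglyClosed.le_normalizer hT (hR'S hr)) hx.1, fun v hv => ?_⟩
    have h1 := (mem_centralizerIn.mp hx).2 _ ((Subgroup.mem_normalizer_iff''.mp (hR'N hr) v).mp hv)
    calc v * (r * x * r⁻¹) = r * (r⁻¹ * v * r * x) * r⁻¹ := by group
      _ = r * x * r⁻¹ * v := by rw [h1]; group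
  have hlt : R' < R' ⊔ C' := lt_of_le_of_ne le_sup_left fun h =>
    hcW (hRT' c (h.symm ▸ Subgroup.mem_sup_right hc) hc.1)
  have hlt' := Fusion.lt_normalizerIn hS (sup_le hR'S hC'S) hlt
  obtain ⟨g, hg, hgR⟩ := SetLike.exists_of_lt hlt'
  have hg1 : g ∈ ((R' ⊔ C' : Subgroup Ω) : Set Ω) := hg.1
  rw [Subgroup.coe_mul_of_left_le_normalizer_right R' C' hR'C] at hg1
  obtain ⟨r, hr, x, hx, rfl⟩ := hg1
  have hxN : x ∈ Subgroup.normalizer (R' : Set Ω) := by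
    have := Subgroup.mul_mem _ (Subgroup.inv_mem _ (Subgroup.le_normalizer hr)) hg.2
    rwa [inv_mul_cancel_left] at this
  have hxR : x ∉ R' := fun h => hgR (R'.mul_mem hr h)
  have hxS : x ∈ S := hTS hx.1
  -- conjugation by `x`, pulled back to `R`
  obtain ⟨θi, hθi, hθir, hθi₁, hθi₂⟩ := hθR.exists_inv hR'
  have hcx : MapFn F R (fun y => θi (x * θ y * x⁻¹)) :=
    (hθR.conj_comp hxS).comp hθi fun y hy => conj_mem_of_normalizer hxN (mem_of_image hR' hy)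
  obtain ⟨e, he, hee⟩ := hcx.exists_aut (hcx.image_eq_of_maps hRS
    (fun y hy => mem_of_image hθir (conj_mem_of_normalizer hxN (mem_of_image hR' hy))) le_rfl)
  have hθe : ∀ y : R, θ ((e y : R) : Ω) = x * θ y * x⁻¹ := fun y => by
    rw [hee]
    exact hθi₂ _ (conj_mem_of_normalizer hxN (mem_of_image hR' y.2))
  obtain ⟨r₀, hr₀⟩ := exists_inner_of_fixer hS hRS (inn_of_radical_or_top hRr) (K := T)
    (fun b hb y hy => StronglyClosed.aut_mem hT hRS hb y hy) he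
    (fun y hy => Subtype.ext (by
      refine hθR.injOn (Subtype.mem _) y.2 ((hθe y).trans ?_)
      rw [← (mem_centralizerIn.mp hx).2 _ (mem_of_image hθW ⟨y.2, hy⟩)]
      group))
    (fun y => by
      refine (mapFn_mem_iff hT hθR (R.mul_mem (R.inv_mem y.2) (Subtype.mem _))).mp ?_
      rw [hθR.map_mul (R.inv_mem y.2) (Subtype.mem _), hθR.map_inv y.2, hθe]
      have := T.mul_mem (conj_mem_of_normalizer (StronglyClosed.le_normalizer hT
        (S.inv_mem (hθR.mem_S y.2))) hx.1) (T.inv_mem hx.1)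
      simpa [mul_assoc] using this)
  refine hxR ?_
  have h1 : (θ r₀)⁻¹ * x ∈ centralizerIn S R' := by
    refine mem_centralizerIn.mpr ⟨S.mul_mem (S.inv_mem (hθR.mem_S r₀.2)) hxS, fun z hz => ?_⟩
    obtain ⟨y, hy, rfl⟩ := exists_of_image hR' hz
    have h2 := hθe ⟨y, hy⟩
    rw [hr₀, Subgroup.coe_mul, Subgroup.coe_mul, Subgroup.coe_inv, hθR.map_conj r₀.2 hy] at h2
    calc θ y * ((θ r₀)⁻¹ * x) = (θ r₀)⁻¹ * (θ r₀ * θ y * (θ r₀)⁻¹) * x := by group
      _ = _ := by rw [h2]; group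
  have h3 := R'.mul_mem (mem_of_image hR' r₀.2) (hRc.2 R' (hθR.isConj hR') h1)
  rwa [mul_inv_cancel_left] at h3

/-- A map defined on a centric `W` moves `C_S(E)` into itself. -/
theorem apply_mem_of_tcentric (hS : IsPGroup p S) (hE : E.IsNormalIn F p) (hW : TCentric F T W) {x : Ω}
    (hx : x ∈ subsystemCentralizer F E) {ψ : Ω → Ω} (hψ : MapFn F (W ⊔ Subgroup.zpowers x) ψ) :
    ψ x ∈ subsystemCentralizer F E := by
  have hF := hE.1.2.1
  have hEi := hE.1.2.2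
  have hT := hEi.2.1
  have hTS := hT.1
  have := finite_of_le hTS
  set C := subsystemCentralizer F E with hC
  suffices H : ∀ (n : ℕ) (W : Subgroup Ω) (x : Ω) (ψ : Ω → Ω), Nat.card T - Nat.card W < n →
      TCentric F T W → x ∈ C → MapFn F (W ⊔ Subgroup.zpowers x) ψ → ψ x ∈ C from
    H _ W x ψ (Nat.lt_succ_self _) hW hx hψ
  intro n
  induction n with
  | zero => intro W x ψ h; omega
  | succ n ih =>
  intro W x ψ hn hW hx hψ
  have hgood := goodElt_of_mem hS hE hx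
  rcases eq_or_ne W T with rfl | hne
  · exact Subgroup.subset_closure (hgood.apply hEi hψ)
  have hWT := hW.le
  have hcard : ∀ {W₁ N : Subgroup Ω}, N ≤ T → W₁ < N → Nat.card W₁ = Nat.card W →
      Nat.card T - Nat.card N < n := by
    intro W₁ N hN hlt hc
    have h1 := FusionNormal.card_lt_card (S := T) hN hlt
    have h2 := Subgroup.card_le_of_le hN
    omega
  have hST := hS.to_le hTS
  have hxD : x ∈ W ⊔ Subgroup.zpowers x := Subgroup.mem_sup_right (Subgroup.mem_zpowers x)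
  have hxW := hgood.mem_centralizerIn hWT
  obtain ⟨W₂, hW₂S, hψW⟩ := (hψ.mono le_sup_left).exists_image
  have hW₂T : W₂ ≤ T := fun y hy => by
    obtain ⟨w, hw, rfl⟩ := exists_of_image hψW hy
    exact mapFn_mem hT hψ (Subgroup.mem_sup_left hw) (hWT hw)
  have hcW₂ : Nat.card W₂ = Nat.card W := (hψ.mono le_sup_left).card_image hψW
  have hψx : ψ x ∈ centralizerIn S W₂ := hψ.mem_centralizerIn le_sup_left hψW hxD hxW
  obtain ⟨W', θ, hW'n, hθ, hθW, -⟩ := exists_fullyNormalized_mapFn hS hF hW₂S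
  have hW₂N : W₂ ≤ normalizerIn S W₂ := le_normalizerIn hW₂S
  have hψm : ∀ y ∈ W ⊔ Subgroup.zpowers x, ψ y ∈ normalizerIn S W₂ := hψ.maps_sup
    (fun y hy => hW₂N (mem_of_image hψW hy))
    fun y hy => (Subgroup.zpowers_le.mpr (centralizerIn_le_normalizerIn hψx)) (mapFn_zpowers hψ hxD y hy)
  have hκ₀ : MapFn F (W ⊔ Subgroup.zpowers x) (θ ∘ ψ) := hψ.comp hθ hψm
  have hκ₀W : (θ ∘ ψ) '' W = (W' : Set Ω) := image_comp hψW hθW
  have hW'c : TCentric F T W' := hW.of_conj hT ((hκ₀.mono le_sup_left).isConj hκ₀W)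
  obtain ⟨a, f₀, ha, hf₀, hae⟩ := exists_frattini hEi hWT (hκ₀.mono le_sup_left)
  obtain ⟨A, hA, hAa, hAZ⟩ := exists_top_extension hS hF hT ha
  obtain ⟨g, hg, hge, hgx⟩ := hgood.2 W f₀ hf₀
  have hgm : ∀ y ∈ W ⊔ Subgroup.zpowers x, g y ∈ T ⊔ centralizerIn S T := hg.maps_sup
    (fun y hy => Subgroup.mem_sup_left (by rw [hge y hy]; exact hf₀.mem_S hy))
    fun y hy => Subgroup.mem_sup_right (Subgroup.zpowers_le.mpr hgood.1 (hgx ▸ mapFn_zpowers hg hxD y hy))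
  have hθ' : MapFn F (W ⊔ Subgroup.zpowers x) (A ∘ g) := hg.comp hA hgm
  have hθ'x : (A ∘ g) x = A x := by
    show A (g x) = A x
    rw [hgx]
  have hAx : A x ∈ C := Subgroup.subset_closure
    (hgood.apply hEi (hA.mono (sup_le_sup_left (Subgroup.zpowers_le.mpr hgood.1) T)))
  have hθ'W : ∀ w ∈ W, (A ∘ g) w = (θ ∘ ψ) w := fun w hw => by
    show A (g w) = _
    rw [hge w hw, hAa _ (hf₀.mem_S hw), hae w hw]
  obtain ⟨M, -, hM⟩ := hθ'.exists_image
  obtain ⟨ι, hι, hιr, hι₁, -⟩ := hθ'.exists_inv hM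
  have hle : W' ⊔ Subgroup.zpowers (A x) ≤ M := by
    refine sup_le (fun y hy => ?_) (Subgroup.zpowers_le.mpr (hθ'x ▸ mem_of_image hM hxD))
    obtain ⟨w, hw, rfl⟩ := exists_of_image hκ₀W hy
    rw [← hθ'W w hw]; exact mem_of_image hM (Subgroup.mem_sup_left hw)
  have hκ : MapFn F (W' ⊔ Subgroup.zpowers (A x)) ((θ ∘ ψ) ∘ ι) :=
    (hι.mono hle).comp hκ₀ fun y hy => mem_of_image hιr (hle hy)
  have hW'T := hW'c.le
  obtain ⟨-, ξ, hξ, -, hξx⟩ := transport_normalizer hS hF hT hW'c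
    (isFullyCentralized_of_fullyNormalized hS hF hW'n) hκ
    (fun w hw => by
      obtain ⟨v, hv, rfl⟩ := exists_of_image hκ₀W hw
      show (θ ∘ ψ) (ι ((θ ∘ ψ) v)) = _
      rw [← hθ'W v hv, hι₁ v (Subgroup.mem_sup_left hv), hθ'W v hv])
    ((goodElt_of_mem hS hE hAx).mem_centralizerIn inf_le_left)
  have hκx : ((θ ∘ ψ) ∘ ι) (A x) = θ (ψ x) := by
    show θ (ψ (ι (A x))) = θ (ψ x)
    rw [← hθ'x, hι₁ x hxD]
  have hW'ne : W' ≠ T := fun h => hne (eq_of_le_of_card_le hWT (by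
    rw [← h, (hκ₀.mono le_sup_left).card_image hκ₀W]))
  have hU : W' < normalizerIn T W' := Fusion.lt_normalizerIn hST le_rfl (lt_of_le_of_ne hW'T hW'ne)
  have hy : θ (ψ x) ∈ C := by
    rw [← hκx, ← hξx]
    exact ih _ _ _ (hcard inf_le_left hU ((hκ₀.mono le_sup_left).card_image hκ₀W))
      (hW'c.of_le hU.le inf_le_left) hAx hξ
  -- back by `θ`
  have hN₂ : normalizerIn T W₂ ≤ normalizerIn S W₂ := inf_le_inf_right _ hTS
  have hW₂ne : W₂ ≠ T := fun h => hne (eq_of_le_of_card_le hWT (by rw [← h, hcW₂]))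
  have hU₂ : W₂ < normalizerIn T W₂ := Fusion.lt_normalizerIn hST le_rfl (lt_of_le_of_ne hW₂T hW₂ne)
  obtain ⟨N', -, hN'⟩ := (hθ.mono hN₂).exists_image
  obtain ⟨M₂, -, hM₂⟩ := hθ.exists_image
  obtain ⟨θi, hθi, -, hθi₁, -⟩ := hθ.exists_inv hM₂
  have hN'T : N' ≤ T := fun y hy => by
    obtain ⟨z, hz, rfl⟩ := exists_of_image hN' hy
    exact mapFn_mem hT hθ (hN₂ hz) hz.1
  have hW'N' : W' ≤ N' := fun y hy => by
    obtain ⟨z, hz, rfl⟩ := exists_of_image hθW hy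
    exact mem_of_image hN' (hU₂.le hz)
  have hψxN : ψ x ∈ normalizerIn S W₂ := centralizerIn_le_normalizerIn hψx
  have hle₂ : N' ⊔ Subgroup.zpowers (θ (ψ x)) ≤ M₂ := by
    refine sup_le (fun y hy => ?_) (Subgroup.zpowers_le.mpr (mem_of_image hM₂ hψxN))
    obtain ⟨z, hz, rfl⟩ := exists_of_image hN' hy
    exact mem_of_image hM₂ (hN₂ hz)
  rw [← hθi₁ _ hψxN]
  refine ih N' _ θi ?_ (hW'c.of_le hW'N' hN'T) hy (hθi.mono hle₂)
  have h1 := (hθ.mono hN₂).card_image hN'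
  have h2 := hcard (N := normalizerIn T W₂) inf_le_left hU₂ hcW₂
  omega

/-- `C_S(E)` is strongly closed. -/
theorem stronglyClosed_subsystemCentralizer (hS : IsPGroup p S) (hE : E.IsNormalIn F p) :
    F.StronglyClosed (subsystemCentralizer F E) := by
  have hF := hE.1.2.1
  have hEi := hE.1.2.2
  have hT := hEi.2.1
  set C := subsystemCentralizer F E with hC
  refine ⟨subsystemCentralizer_le.trans centralizerIn_le, fun R hR φ hφ x => ?_⟩
  let r : Ω → Ω → Prop := fun a b => a ∈ C ↔ b ∈ C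
  suffices h : r x (φ x) from h.mp (hR x.2)
  refine rel_of_mem hS hF (r := r) ⟨fun _ => Iff.rfl, Iff.symm, Iff.trans⟩ ?_ ?_ hφ x
  · have key : ∀ g ∈ S, ∀ x ∈ C, g * x * g⁻¹ ∈ C := fun g hg x hx => Subgroup.subset_closure
      (GoodElt.apply (γ := fun y => g * y * g⁻¹) (c := x) hEi (mapFn_conj (sup_le hT.1 (Subgroup.zpowers_le.mpr
        ((subsystemCentralizer_le hx).1))) hg) (goodElt_of_mem hS hE hx))
    refine fun g hg x _ => ⟨key g hg x, fun h => ?_⟩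
    have := key g⁻¹ (S.inv_mem hg) _ h
    simpa [mul_assoc] using this
  intro P hP hPS hPa α hα y
  have hW : TCentric F T (P ⊓ T) := by
    rcases hP with rfl | hP
    · rw [inf_eq_right.mpr hT.1]
      refine ⟨le_rfl, fun V hV => ?_⟩
      obtain ⟨θ, hθ, rfl⟩ := hV
      rw [range_eq_of_card_le hθ hT.1 (fun z => hT.2 T le_rfl θ hθ z) le_rfl]
      exact inf_le_left
    · exact tcentric_inf_of_radical hS hF hT hP.1 (radical_of_essential hP hS)
  have key : ∀ β ∈ F.autGroup P, ∀ y : P, (y : Ω) ∈ C → ((β y : P) : Ω) ∈ C := by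
    intro β hβ y hy
    obtain ⟨b, hb, -, hbe⟩ := exists_mapFn_of_aut hPS hβ
    rw [← hbe]
    exact apply_mem_of_tcentric hS hE hW hy (hb.mono (sup_le inf_le_left (Subgroup.zpowers_le.mpr y.2)))
  refine ⟨key α hα y, fun h => ?_⟩
  have := key α⁻¹ (Subgroup.inv_mem _ hα) (α y) h
  rwa [MulAut.inv_apply_self] at this

/-- The maps of `E` lie in `C_F(C_S(E))`. -/
theorem hom_subset_centralizerHom (hS : IsPGroup p S) (hE : E.IsNormalIn F p) (P : Subgroup Ω) :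
    E.Hom P ⊆ F.centralizerHom (subsystemCentralizer F E) P := by
  intro φ hφ
  obtain ⟨f, hf, hfe⟩ := mapFn_of_hom hφ
  obtain ⟨g, hg, hgP, hgC⟩ := exists_fix_of_mapFn hS hE hf
  obtain ⟨ψ, hψ, hψe⟩ := hg
  have hTC : T ≤ centralizerIn S (subsystemCentralizer F E) := fun t ht =>
    mem_centralizerIn.mpr ⟨hE.1.2.2.2.1.1 ht,
      fun c hc => ((mem_centralizerIn.mp (subsystemCentralizer_le hc)).2 t ht).symm⟩
  exact ⟨hE.1.2.2.1 P hφ, (le_S hφ).trans hTC, fun x => hTC (apply_mem_S hφ x), ψ, hψ,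
    fun x => (hψe _).trans ((hgP x x.2).trans (hfe x).symm), fun x => (hψe _).trans (hgC x x.2)⟩

/-- `C_S(E)` is the largest such subgroup. -/
theorem le_subsystemCentralizer {Y : Subgroup Ω} (hY : Y ≤ centralizerIn S T)
    (h : ∀ P : Subgroup Ω, E.Hom P ⊆ F.centralizerHom Y P) : Y ≤ subsystemCentralizer F E := by
  intro y hy
  refine Subgroup.subset_closure ⟨hY hy, fun P f hf => ?_⟩
  obtain ⟨φ, hφ, hφe⟩ := hf
  obtain ⟨-, -, -, ψ, hψ, hψP, hψY⟩ := h P hφ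
  obtain ⟨g, hg, hge⟩ := mapFn_of_hom hψ
  refine ⟨g, hg.mono (sup_le_sup_left (Subgroup.zpowers_le.mpr hy) P), fun x hx => ?_, ?_⟩
  · rw [← hge ⟨x, Subgroup.mem_sup_left hx⟩]
    exact (hψP ⟨x, hx⟩).trans (hφe _)
  · rw [← hge ⟨y, Subgroup.mem_sup_right hy⟩]
    exact hψY ⟨y, hy⟩

end CfsgLib.Fusion
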