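import Cfsg.Agent.Lib.FusionNormal.Maps
import Cfsg.Agent.Lib.Fusion.Stabilizer
import Cfsg.Agent.Lib.Fusion.Extend
import Cfsg.Agent.Lib.Fusion.SubsystemCentralizer

/-!
# Extending maps to a strongly closed subgroup

Let `R` and `U` be strongly closed and `A = U ⊓ R`. A map of `F` on a subgroup `P ⊇ A` normalized by `R`
that fixes `A` elementwise and moves the elements of `P` only within `U` extends to `P R`.
-/

set_option autoImplicit false
set_option linter.unusedSectionVars false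

namespace CfsgLib.FusionClosedExt

open Cfsg Cfsg.FusionSystem CfsgLib.Fusion CfsgLib.FusionNormal

variable {Ω : Type*} [Group Ω] {S : Subgroup Ω} {F : FusionSystem S} {P Q R U : Subgroup Ω}

theorem conj_mem_of_closed [Finite S] (hU : F.StronglyClosed U) {s u : Ω} (hs : s ∈ S) (hu : u ∈ U) :
    s * u * s⁻¹ ∈ U :=
  mapFn_mem hU (mapFn_conj hU.1 hs) hu hu

theorem comm_mem [Finite S] (hU : F.StronglyClosed U) (hR : F.StronglyClosed R) {n u : Ω} (hn : n ∈ R)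
    (hu : u ∈ U) : u⁻¹ * (n * u * n⁻¹) ∈ U ⊓ R := by
  refine ⟨U.mul_mem (U.inv_mem hu) (conj_mem_of_closed hU (hR.1 hn) hu), ?_⟩
  have h := conj_mem_of_closed hR (S.inv_mem (hU.1 hu)) hn
  rw [inv_inv] at h
  have := R.mul_mem h (R.inv_mem hn)
  simpa [mul_assoc] using this

/-- `β` acts like `n` on `P ⊓ U ⊓ R` and on `P` modulo `U`, and trivially on `P ⊓ U` modulo `R`. -/
def KP (R U : Subgroup Ω) {P : Subgroup Ω} (n : Ω) (β : MulAut P) : Prop :=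
  n ∈ R ∧ (∀ x : P, (x : Ω) ∈ U → (x : Ω)⁻¹ * ((β x : P) : Ω) ∈ U ⊓ R) ∧
    (∀ x : P, (x : Ω) ∈ U ⊓ R → ((β x : P) : Ω) = n * x * n⁻¹) ∧
    ∀ x : P, (n * (x : Ω) * n⁻¹)⁻¹ * ((β x : P) : Ω) ∈ U

variable [Finite S]

theorem KP.mul (hU : F.StronglyClosed U) (hR : F.StronglyClosed R) {n m : Ω} {a b : MulAut P}
    (ha : KP R U n a) (hb : KP R U m b) (hRP : ∀ r ∈ R, ∀ x ∈ P, r * x * r⁻¹ ∈ P) :
    KP R U (n * m) (a * b) := by
  obtain ⟨hn, ha1, ha2, ha3⟩ := ha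
  obtain ⟨hm, hb1, hb2, hb3⟩ := hb
  have hAU : ∀ x : P, (x : Ω) ∈ U → ((b x : P) : Ω) ∈ U := fun x hx => by
    have := U.mul_mem hx (hb1 x hx).1
    simpa using this
  refine ⟨R.mul_mem hn hm, fun x hx => ?_, fun x hx => ?_, fun x => ?_⟩
  · have := (U ⊓ R).mul_mem (hb1 x hx) (ha1 (b x) (hAU x hx))
    simpa [mul_assoc] using this
  · have hbx : ((b x : P) : Ω) ∈ U ⊓ R := by
      rw [hb2 x hx]
      exact ⟨conj_mem_of_closed hU (hR.1 hm) hx.1, R.mul_mem (R.mul_mem hm hx.2) (R.inv_mem hm)⟩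
    rw [MulAut.mul_apply, ha2 _ hbx, hb2 x hx]; group
  · set y : P := ⟨m * (x : Ω) * m⁻¹, hRP m hm x x.2⟩ with hy
    have hu : ((y⁻¹ * b x : P) : Ω) ∈ U := hb3 x
    have h1 : ((a (y⁻¹ * b x) : P) : Ω) ∈ U := by
      have := U.mul_mem hu (ha1 _ hu).1
      rwa [mul_inv_cancel_left] at this
    have h2 := U.mul_mem (ha3 y) h1
    rw [map_mul a, map_inv a] at h2
    rw [MulAut.mul_apply]
    simpa [hy, mul_assoc] using h2

theorem KP.inv (hU : F.StronglyClosed U) (hR : F.StronglyClosed R) {n : Ω} {a : MulAut P}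
    (ha : KP R U n a) (hRP : ∀ r ∈ R, ∀ x ∈ P, r * x * r⁻¹ ∈ P) : KP R U n⁻¹ a⁻¹ := by
  obtain ⟨hn, ha1, ha2, ha3⟩ := ha
  have hn' : n⁻¹ ∈ S := S.inv_mem (hR.1 hn)
  have hmodU : ∀ x : P, (n⁻¹ * (x : Ω) * n)⁻¹ * ((a⁻¹ x : P) : Ω) ∈ U := fun x => by
    have h1 := ha3 (a⁻¹ x)
    rw [MulAut.apply_inv_self] at h1
    have h2 := conj_mem_of_closed hU hn' (U.inv_mem h1)
    simpa [mul_assoc] using h2
  refine ⟨R.inv_mem hn, fun x hx => ?_, fun x hx => ?_, fun x => by simpa using hmodU x⟩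
  · have hy : ((a⁻¹ x : P) : Ω) ∈ U := by
      have h1 := conj_mem_of_closed hU hn' hx
      rw [inv_inv] at h1
      have := U.mul_mem h1 (hmodU x)
      simpa [mul_assoc] using this
    have h2 := (U ⊓ R).inv_mem (ha1 _ hy)
    rw [MulAut.apply_inv_self] at h2
    simpa using h2
  · set y : P := ⟨n⁻¹ * (x : Ω) * n, by simpa using hRP n⁻¹ (R.inv_mem hn) x x.2⟩ with hy
    have hyA : (y : Ω) ∈ U ⊓ R :=
      ⟨by simpa [hy] using conj_mem_of_closed hU hn' hx.1, R.mul_mem (R.mul_mem (R.inv_mem hn) hx.2) hn⟩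
    have h1 : a y = x := Subtype.ext (by rw [ha2 y hyA, hy]; group)
    rw [← h1, MulAut.inv_apply_self, h1]
    simp [hy]

theorem KP.one (hU : F.StronglyClosed U) : KP R U 1 (1 : MulAut P) :=
  ⟨R.one_mem, fun x _ => by simp [(U ⊓ R).one_mem], fun x _ => by simp, fun x => by simp [U.one_mem]⟩

variable {p : ℕ} [Fact p.Prime]

/-- The automorphisms of `P` in `F` that satisfy `KP` for some element of `R`. -/
def kGroup (F : FusionSystem S) (hU : F.StronglyClosed U) (hR : F.StronglyClosed R) (P : Subgroup Ω)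
    (hRP : ∀ r ∈ R, ∀ x ∈ P, r * x * r⁻¹ ∈ P) : Subgroup (MulAut P) where
  carrier := {a | a ∈ F.autGroup P ∧ ∃ n, KP R U n a}
  one_mem' := ⟨Subgroup.one_mem _, 1, KP.one hU⟩
  mul_mem' := fun ⟨ha, n, hn⟩ ⟨hb, m, hm⟩ => ⟨Subgroup.mul_mem _ ha hb, n * m, hn.mul hU hR hm hRP⟩
  inv_mem' := fun ⟨ha, n, hn⟩ => ⟨Subgroup.inv_mem _ ha, n⁻¹, hn.inv hU hR hRP⟩

theorem isPGroup_kGroup (hS : IsPGroup p S) (hU : F.StronglyClosed U) (hR : F.StronglyClosed R) (hP : P ≤ S)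
    (hRP : ∀ r ∈ R, ∀ x ∈ P, r * x * r⁻¹ ∈ P) : IsPGroup p (kGroup F hU hR P hRP) := by
  rintro ⟨a, ha, n, hn⟩
  have := finite_of_le hP
  obtain ⟨k, hk⟩ := hS ⟨n, hR.1 hn.1⟩
  have hk' : n ^ p ^ k = 1 := congrArg Subtype.val hk
  have hpow : ∀ i : ℕ, KP R U (n ^ i) (a ^ i) := fun i => by
    induction i with
    | zero => simpa using KP.one (P := P) hU
    | succ i ih => rw [pow_succ, pow_succ]; exact ih.mul hU hR hn hRP
  have h := hpow (p ^ k)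
  rw [hk'] at h
  obtain ⟨-, h1, h2, h3⟩ := h
  let L : ℕ → Subgroup P := fun i =>
    if i = 0 then (U ⊓ R).subgroupOf P else if i = 1 then U.subgroupOf P else ⊤
  obtain ⟨l, hl⟩ := exists_pow_eq_one_of_stabilizes (hS.to_le hP) L (n := 2)
    (fun i hi => by
      interval_cases i
      · simp only [L, ↓reduceIte, one_ne_zero, zero_add]
        exact fun x hx => hx.1
      · simp [L])
    (by simp [L]) (α := a ^ p ^ k)
    ⟨0, fun x hx => by
      rw [pow_zero, pow_one]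
      refine Subtype.ext ?_
      rw [h2 x (by simpa [L, Subgroup.mem_subgroupOf] using hx)]
      group⟩
    fun i hi x hx => by
      interval_cases i
      · simp only [L, ↓reduceIte, one_ne_zero, zero_add] at hx ⊢
        exact h1 x hx
      · simp only [L, ↓reduceIte, one_ne_zero]
        have := h3 x
        simp only [one_mul, inv_one, mul_one] at this
        exact this
  exact ⟨k + l, Subtype.ext (by simpa [pow_add, pow_mul] using hl)⟩

/-- `φ` carries the group of one subgroup into that of its image. -/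
theorem KP.congr {n : Ω} {a : MulAut P} (ha : KP R U n a) (hU : F.StronglyClosed U) (hR : F.StronglyClosed R)
    {φ : P →* Ω} (hφ : φ ∈ F.Hom P) {e : P ≃* Q} (he : ∀ x : P, ((e x : Q) : Ω) = φ x)
    (hfix : ∀ x : P, (x : Ω) ∈ U ⊓ R → φ x = x) (hmod : ∀ x : P, (x : Ω)⁻¹ * φ x ∈ U)
    (hA : U ⊓ R ≤ P) : KP R U n (MulAut.congr e a) := by
  obtain ⟨hn, ha1, ha2, ha3⟩ := ha
  have hval : ∀ x : P, ((MulAut.congr e a (e x) : Q) : Ω) = φ (a x) := fun x => by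
    show ((e (a (e.symm (e x))) : Q) : Ω) = _
    rw [MulEquiv.symm_apply_apply, he]
  refine ⟨hn, fun y hy => ?_, fun y hy => ?_, fun y => ?_⟩ <;> obtain ⟨x, rfl⟩ := e.surjective y
  · rw [he] at hy ⊢
    have hx : (x : Ω) ∈ U := by
      have := U.mul_mem hy (U.inv_mem (hmod x))
      simpa using this
    rw [hval, ← map_inv φ, ← map_mul φ]
    rw [hfix _ (ha1 x hx)]
    exact ha1 x hx
  · rw [he] at hy ⊢
    have hx' : φ ⟨φ x, hA hy⟩ = φ x := hfix _ hy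
    have hx : x = ⟨φ x, hA hy⟩ := (F.injective_of_mem hφ hx').symm
    have hxA : (x : Ω) ∈ U ⊓ R := by rw [hx]; exact hy
    rw [hval, hfix x hxA]
    refine (hfix _ ?_).trans (ha2 x hxA)
    rw [ha2 x hxA]
    exact ⟨conj_mem_of_closed hU (hR.1 hn) hxA.1, R.mul_mem (R.mul_mem hn hxA.2) (R.inv_mem hn)⟩
  · rw [he, hval]
    have h1 := U.mul_mem (ha3 x) (hmod (a x))
    have h2 : n * ((x : Ω)⁻¹ * φ x)⁻¹ * n⁻¹ ∈ U := conj_mem_of_closed hU (hR.1 hn) (U.inv_mem (hmod x))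
    have := U.mul_mem h2 h1
    simpa [mul_assoc] using this

theorem kGroup_conj (hU : F.StronglyClosed U) (hR : F.StronglyClosed R)
    (hRP : ∀ r ∈ R, ∀ x ∈ P, r * x * r⁻¹ ∈ P) (hP : P ≤ S) {r : Ω} (hr : r ∈ R) {c : MulAut P}
    (hc : ∀ x : P, ((c x : P) : Ω) = r * x * r⁻¹) : c ∈ kGroup F hU hR P hRP :=
  ⟨(mem_autGroup hP).mpr (mem_of_conj hP (hR.1 hr) hc), r, hr,
    fun x hx => by rw [hc]; exact comm_mem hU hR hr hx, fun x _ => hc x,
    fun x => by rw [hc, inv_mul_cancel]; exact U.one_mem⟩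

/-- Maps fixing `U ⊓ R` that move elements only within `U` extend to `R`. -/
theorem exists_extension_closed (hS : IsPGroup p S) (hF : F.IsSaturated p) (hU : F.StronglyClosed U)
    (hR : F.StronglyClosed R) (hA : U ⊓ R ≤ P) (hRP : ∀ r ∈ R, ∀ x ∈ P, r * x * r⁻¹ ∈ P)
    {f : Ω → Ω} (hf : MapFn F P f) (hfix : ∀ x ∈ U ⊓ R, f x = x) (hmod : ∀ x ∈ P, x⁻¹ * f x ∈ U)
    (hRQ : ∀ r ∈ R, ∀ x ∈ P, ∃ y ∈ P, f y = r * f x * r⁻¹) :
    ∃ g, MapFn F (P ⊔ R) g ∧ (∀ x ∈ P, g x = f x) ∧ g '' R = (R : Set Ω) := by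
  have hPS := hf.le_S
  obtain ⟨Q, hQS, hQ⟩ := hf.exists_image
  obtain ⟨φ, hφ, hφe⟩ := hf
  have hφr : φ.range = Q := SetLike.coe_injective (by rw [← MapFn.image_eq_range hφe, hQ])
  obtain ⟨e, he⟩ := exists_equiv hφ hφr
  have hRQ' : ∀ r ∈ R, ∀ x ∈ Q, r * x * r⁻¹ ∈ Q := fun r hr x hx => by
    obtain ⟨z, hz, rfl⟩ := exists_of_image hQ hx
    obtain ⟨y, hy, hye⟩ := hRQ r hr z hz
    exact hye ▸ mem_of_image hQ hy
  have hAQ : U ⊓ R ≤ Q := fun x hx => hfix x hx ▸ mem_of_image hQ (hA hx)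
  obtain ⟨Qn, h, hQn, hh, hhr, -⟩ := exists_fullyNormalized_mapFn hS hF hQS
  obtain ⟨hQna, hQnr⟩ := fullyNormalized_good hS hF hQn
  obtain ⟨ψ, hψ, hψe⟩ := hh.mono (le_normalizerIn hQS)
  have hψr : ψ.range = Qn := SetLike.coe_injective (by rw [← MapFn.image_eq_range hψe, hhr])
  obtain ⟨e₂, he₂⟩ := exists_equiv hψ hψr
  set K' := (kGroup F hU hR Q hRQ').map (MulAut.congr e₂).toMonoidHom with hK'
  have hK'F : K' ≤ F.autGroup Qn := by
    rintro _ ⟨a, ha, rfl⟩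
    exact autGroup_congr_mem hψ he₂ ha.1
  obtain ⟨α, hα, hαA⟩ := FullyAutomized.exists_conj hQna hK'F ((isPGroup_kGroup hS hU hR hQS hRQ').map _)
  obtain ⟨fα, hfα, hfαr, hfαe⟩ := exists_mapFn_of_aut hQn.1 hα
  set w : Ω → Ω := fα ∘ h with hw
  have hwm : MapFn F Q w := (hh.mono (le_normalizerIn hQS)).comp hfα fun x hx => mem_of_image hhr hx
  have hwr : w '' Q = (Qn : Set Ω) := image_comp hhr hfαr
  have hwval : ∀ x : Q, w x = ((α (e₂ x) : Qn) : Ω) := fun x => by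
    show fα (h x) = _
    rw [← hψe, ← he₂, hfαe]
  -- conjugation by `R` is carried into `Aut_S(Qn)`
  have key : ∀ r ∈ R, ∀ (a : MulAut Q), a ∈ kGroup F hU hR Q hRQ' →
      ∃ s ∈ S, ∀ x : Q, w ((a x : Q) : Ω) = s * w x * s⁻¹ := fun r _ a ha => by
    obtain ⟨s, hs, hse⟩ := mem_autInducedBy.mp (hαA _ ⟨a, ha, rfl⟩)
    refine ⟨s, hs, fun x => ?_⟩
    rw [hwval, hwval, ← hse]
    simp [MulAut.congr]
  have grow : ∀ (X : Subgroup Ω) (u : Ω → Ω), MapFn F X u → u '' X = (Qn : Set Ω) →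
      (∀ r ∈ R, ∀ x ∈ X, r * x * r⁻¹ ∈ X) →
      (∀ r ∈ R, ∃ s ∈ S, ∀ x ∈ X, u (r * x * r⁻¹) = s * u x * s⁻¹) →
      ∃ g, MapFn F (X ⊔ R) g ∧ ∀ x ∈ X, g x = u x := by
    intro X u hu hur hRX hs
    obtain ⟨χ, hχ, hχe⟩ := hu
    have hχr : χ.range = Qn := SetLike.coe_injective (by rw [← MapFn.image_eq_range hχe, hur])
    have := finite_of_le (Fusion.le_S hχ)
    obtain ⟨ξ, hξ, hξe⟩ := Fusion.exists_extension hQnr hχ hχr (le_sup_left : X ≤ X ⊔ R)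
      (sup_le (le_extender (Fusion.le_S hχ) (apply_mem_S hχ)) fun r hr => by
        obtain ⟨s, hs', hse⟩ := hs r hr
        exact mem_extender.mpr ⟨hR.1 hr, mem_normalizer_of_forall (hRX r hr), s, hs', fun x hx => by
          rw [hχe, hχe]; exact hse x x.2⟩)
    obtain ⟨g, hg, hge⟩ := mapFn_of_hom hξ
    exact ⟨g, hg, fun x hx => ((hge ⟨x, Subgroup.mem_sup_left hx⟩).symm.trans (hξe ⟨x, hx⟩)).trans (hχe _)⟩
  obtain ⟨g₂, hg₂, hg₂e⟩ := grow Q w hwm hwr hRQ' fun r hr => by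
    have := finite_of_le hQS
    obtain ⟨c, -, hc⟩ := exists_autInducedBy (K := R) (P := Q) hr (mem_normalizer_of_forall (hRQ' r hr))
    obtain ⟨s, hs, hse⟩ := key r hr c (kGroup_conj hU hR hRQ' hQS hr hc)
    exact ⟨s, hs, fun x hx => by rw [← hse ⟨x, hx⟩, hc]⟩
  have hfm : MapFn F P f := ⟨φ, hφ, hφe⟩
  obtain ⟨g₁, hg₁, hg₁e⟩ := grow P (w ∘ f) (hfm.comp hwm fun x hx => mem_of_image hQ hx)
    (image_comp hQ hwr) hRP fun r hr => by
      have := finite_of_le hPS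
      obtain ⟨c, -, hc⟩ := exists_autInducedBy (K := R) (P := P) hr (mem_normalizer_of_forall (hRP r hr))
      obtain ⟨hcF, n, hn⟩ := kGroup_conj hU hR hRP hPS hr hc
      obtain ⟨s, hs, hse⟩ := key r hr (MulAut.congr e c) ⟨autGroup_congr_mem hφ he hcF, n,
        hn.congr hU hR hφ he (fun x hx => (hφe x).trans (hfix x hx))
          (fun x => by rw [hφe]; exact hmod x x.2) hA⟩
      refine ⟨s, hs, fun x hx => ?_⟩
      have h1 := hse (e ⟨x, hx⟩)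
      simp only [MulAut.congr, MulEquiv.coe_mk, Equiv.coe_fn_mk, MulEquiv.trans_apply,
        MulEquiv.symm_apply_apply, he] at h1
      rw [hφe, hφe, hc] at h1
      exact h1
  obtain ⟨M, -, hM⟩ := hg₂.exists_image
  obtain ⟨k, hk, -, hk₁, -⟩ := hg₂.exists_inv hM
  have hR₂ := image_T hR hg₂ le_sup_right
  have hm : ∀ x ∈ P ⊔ R, g₁ x ∈ M := hg₁.maps_sup
    (fun x hx => by
      rw [hg₁e x hx, Function.comp_apply, ← hg₂e _ (mem_of_image hQ hx)]
      exact mem_of_image hM (Subgroup.mem_sup_left (mem_of_image hQ hx)))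
    fun r hr => by
      obtain ⟨z, hz, hze⟩ := exists_of_image hR₂ (mapFn_mem hR hg₁ (Subgroup.mem_sup_right hr) hr)
      exact hze ▸ mem_of_image hM (Subgroup.mem_sup_right hz)
  have hg : MapFn F (P ⊔ R) (k ∘ g₁) := hg₁.comp hk hm
  refine ⟨k ∘ g₁, hg, fun x hx => ?_, image_T hR hg le_sup_right⟩
  show k (g₁ x) = f x
  rw [hg₁e x hx, Function.comp_apply, ← hg₂e _ (mem_of_image hQ hx), hk₁ _ (Subgroup.mem_sup_left (mem_of_image hQ hx))]

end CfsgLib.FusionClosedExt
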