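import Cfsg.Agent.Lib.Fusion.ClosedExtension
import Cfsg.Agent.Lib.Fusion.CoreComponents

/-!
# Maps of a normal subsystem and a strongly closed subgroup

When the maps of a normal subsystem over `U` fix `U ⊓ R`, for `R` strongly closed, they extend to maps of
`F` moving `R` only within `U`.
-/

set_option autoImplicit false
set_option linter.unusedSectionVars false

namespace CfsgLib.FusionLayer

open Cfsg Cfsg.FusionSystem CfsgLib.Fusion CfsgLib.FusionNormal CfsgLib.Fusion.PPrimeRes CfsgLib.FusionClosedExt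
open scoped commutatorElement

variable {Ω : Type*} [Group Ω] {S : Subgroup Ω} {F : FusionSystem S} {P Q R Z : Subgroup Ω}
variable [Finite S] {p : ℕ} [Fact p.Prime]

/-- The property passes back along a map that extends to `R`. -/
theorem extFix_of_conj (hZ : F.StronglyClosed Z) {φ f f' A : Ω → Ω}
    (hA : MapFn F (P ⊔ R) A) (hAP : ∀ x ∈ P, A x = φ x) (hAR : A '' R = (R : Set Ω)) (hφQ : φ '' P = (Q : Set Ω)) (h : ExtFix F R Z Q f')
    (hfm : ∀ x ∈ P, f x ∈ P) (he : ∀ x ∈ P, φ (f x) = f' (φ x)) : ExtFix F R Z P f := by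
  obtain ⟨g, hg, hgQ, hgR⟩ := h
  obtain ⟨M, -, hM⟩ := hA.exists_image
  obtain ⟨B, hB, -, hBA, -⟩ := hA.exists_inv hM
  have hAm : ∀ x ∈ P ⊔ R, A x ∈ Q ⊔ R :=
    hA.maps_sup (fun x hx => Subgroup.mem_sup_left (by rw [hAP x hx]; exact mem_of_image hφQ hx))
      (fun x hx => Subgroup.mem_sup_right (mem_of_image hAR hx))
  have hgm : ∀ y ∈ Q ⊔ R, g y ∈ M :=
    hg.maps_sup (fun y hy => by
        obtain ⟨x, hx, rfl⟩ := exists_of_image hφQ hy
        rw [hgQ _ hy, ← he x hx, ← hAP _ (hfm x hx)]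
        exact mem_of_image hM (Subgroup.mem_sup_left (hfm x hx)))
      (fun y hy => by
        obtain ⟨x, hx, hxe⟩ := exists_of_image hAR (hgR y hy).1
        exact hxe ▸ mem_of_image hM (Subgroup.mem_sup_right hx))
  refine ⟨B ∘ g ∘ A, (hA.comp hg hAm).comp hB fun x hx => hgm _ (hAm x hx), fun x hx => ?_, fun r hr => ?_⟩
  · show B (g (A x)) = f x
    rw [hAP x hx, hgQ _ (mem_of_image hφQ hx), ← he x hx, ← hAP _ (hfm x hx),
      hBA _ (Subgroup.mem_sup_left (hfm x hx))]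
  · have hAr : A r ∈ R := mem_of_image hAR hr
    obtain ⟨y, hy, hye⟩ := exists_of_image hAR (hgR _ hAr).1
    have hB1 : B (g (A r)) = y := by rw [← hye, hBA y (Subgroup.mem_sup_right hy)]
    show B (g (A r)) ∈ R ∧ r⁻¹ * B (g (A r)) ∈ Z
    rw [hB1]
    refine ⟨hy, ?_⟩
    have hr' : r ∈ P ⊔ R := Subgroup.mem_sup_right hr
    have hy' : y ∈ P ⊔ R := Subgroup.mem_sup_right hy
    have h1 : A (r⁻¹ * y) ∈ Z := by
      rw [hA.map_mul ((P ⊔ R).inv_mem hr') hy', hA.map_inv hr', hye]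
      exact (hgR _ hAr).2
    have hry : r⁻¹ * y ∈ P ⊔ R := (P ⊔ R).mul_mem ((P ⊔ R).inv_mem hr') hy'
    obtain ⟨φB, hφB, hφBe⟩ := hB
    have h2 := StronglyClosed.apply_mem hZ hφB ⟨_, mem_of_image hM hry⟩ h1
    rw [hφBe] at h2
    change B (A (r⁻¹ * y)) ∈ Z at h2
    rwa [hBA _ hry] at h2

/-- Maps of `D` extend to `R`. -/
theorem exists_extension_normal (hS : IsPGroup p S) {U : Subgroup Ω} {D : FusionSystem U}
    (hD : D.IsNormalIn F p) (hR : F.StronglyClosed R)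
    (hfix : ∀ P f, MapFn D P f → ∃ g, MapFn F (P ⊔ (U ⊓ R)) g ∧ (∀ x ∈ P, g x = f x) ∧
      ∀ z ∈ U ⊓ R, g z = z) :
    ∀ P f, MapFn D P f → ∃ g, MapFn F (P ⊔ R) g ∧ (∀ x ∈ P, g x = f x) ∧ g '' R = (R : Set Ω) := by
  have hU := hD.1.2.2.2.1
  intro P f hf
  obtain ⟨g, hg, hgP, hgA⟩ := hfix P f hf
  have hnorm : ∀ X : Subgroup Ω, X ≤ U → U ⊓ R ≤ X → ∀ r ∈ R, ∀ x ∈ X, r * x * r⁻¹ ∈ X :=
    fun X hX hAX r hr x hx => by
      have := X.mul_mem hx (hAX (comm_mem hU hR hr (hX hx)))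
      rwa [mul_inv_cancel_left] at this
  have hle : P ⊔ (U ⊓ R) ≤ U := sup_le hf.le_S inf_le_left
  have hgU : ∀ x ∈ P ⊔ (U ⊓ R), g x ∈ U := fun x hx => mapFn_mem hU hg hx (hle hx)
  obtain ⟨M, -, hM⟩ := hg.exists_image
  obtain ⟨k, hk, hkP, hkR⟩ := exists_extension_closed hS hD.1.2.1 hU hR le_sup_right
    (hnorm _ hle le_sup_right) hg hgA (fun x hx => U.mul_mem (U.inv_mem (hle hx)) (hgU x hx))
    fun r hr x hx => by
      refine exists_of_image hM (hnorm M (fun y hy => ?_) (fun z hz => ?_) r hr _ (mem_of_image hM hx))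
      · obtain ⟨z, hz, rfl⟩ := exists_of_image hM hy
        exact hgU z hz
      · rw [← hgA z hz]; exact mem_of_image hM (Subgroup.mem_sup_right hz)
  exact ⟨k, hk.mono (sup_le_sup_right le_sup_left R),
    fun x hx => (hkP x (Subgroup.mem_sup_left hx)).trans (hgP x hx), hkR⟩

/-- The extensions to `U C_S(U)` extend to `R`. -/
theorem exists_extension_top (hS : IsPGroup p S) {U : Subgroup Ω} {D : FusionSystem U}
    (hD : D.IsNormalIn F p) (hR : F.StronglyClosed R)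
    (hfix : ∀ P f, MapFn D P f → ∃ g, MapFn F (P ⊔ (U ⊓ R)) g ∧ (∀ x ∈ P, g x = f x) ∧
      ∀ z ∈ U ⊓ R, g z = z) {a b : Ω → Ω} (ha : MapFn D U a) (hb : MapFn F (U ⊔ centralizerIn S U) b)
    (hbr : b '' (U ⊔ centralizerIn S U : Subgroup Ω) = ((U ⊔ centralizerIn S U : Subgroup Ω) : Set Ω))
    (hbU : ∀ x ∈ U, b x = a x) (hbC : ∀ c ∈ centralizerIn S U, c⁻¹ * b c ∈ U ⊓ Subgroup.centralizer (U : Set Ω)) :
    ∃ g, MapFn F (U ⊔ centralizerIn S U ⊔ R) g ∧ (∀ x ∈ U ⊔ centralizerIn S U, g x = b x) ∧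
      g '' R = (R : Set Ω) := by
  have hU := hD.1.2.2.2.1
  have hWS : U ⊔ centralizerIn S U ≤ S := sup_le hU.1 centralizerIn_le
  have hnorm : ∀ r ∈ R, ∀ x ∈ U ⊔ centralizerIn S U, r * x * r⁻¹ ∈ U ⊔ centralizerIn S U := fun r hr x hx => by
    refine (mapFn_conj (F := F) hWS (hR.1 hr)).maps_sup
      (fun y hy => Subgroup.mem_sup_left (conj_mem_of_closed hU (hR.1 hr) hy)) (fun c hc => ?_) x hx
    refine Subgroup.mem_sup_right (mem_centralizerIn.mpr
      ⟨S.mul_mem (S.mul_mem (hR.1 hr) hc.1) (S.inv_mem (hR.1 hr)), fun y hy => ?_⟩)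
    have h1 := (mem_centralizerIn.mp hc).2 _ (conj_mem_of_closed hU (S.inv_mem (hR.1 hr)) hy)
    rw [inv_inv] at h1
    calc y * (r * c * r⁻¹) = r * (r⁻¹ * y * r * c) * r⁻¹ := by group
      _ = r * c * r⁻¹ * y := by rw [h1]; group
  refine exists_extension_closed hS hD.1.2.1 hU hR (le_sup_of_le_left inf_le_left) hnorm hb
    (fun z hz => ?_) (fun x hx => ?_) fun r hr x hx => exists_of_image hbr (hnorm r hr _ (mem_of_image hbr hx))
  · obtain ⟨g, -, hgU, hgA⟩ := hfix U a ha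
    rw [hbU z hz.1, ← hgU z hz.1, hgA z hz]
  · rw [← SetLike.mem_coe, Subgroup.coe_mul_of_right_le_normalizer_left U (centralizerIn S U)
      fun c hc => StronglyClosed.le_normalizer hU hc.1] at hx
    obtain ⟨u, hu, c, hc, rfl⟩ := hx
    show (u * c)⁻¹ * b (u * c) ∈ U
    rw [hb.map_mul (Subgroup.mem_sup_left hu) (Subgroup.mem_sup_right hc)]
    have h1 := U.mul_mem (conj_mem_of_closed hU (S.inv_mem hc.1)
      (U.mul_mem (U.inv_mem hu) (mapFn_mem hU hb (Subgroup.mem_sup_left hu) hu))) (hbC c hc).1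
    simpa [mul_assoc] using h1

/-- Every map of a normal subsystem over `U` fixing `U ⊓ R` extends to one moving `R` only within `U`. -/
theorem extFix_of_normal_closed (hS : IsPGroup p S) {U : Subgroup Ω} {D : FusionSystem U}
    (hD : D.IsNormalIn F p) (hR : F.StronglyClosed R)
    (hfix : ∀ P f, MapFn D P f → ∃ g, MapFn F (P ⊔ (U ⊓ R)) g ∧ (∀ x ∈ P, g x = f x) ∧
      ∀ z ∈ U ⊓ R, g z = z) :
    ∀ (P : Subgroup Ω) (f : Ω → Ω), MapFn D P f → ExtFix F R U P f := by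
  have hDs := hD.1.1
  have hinv := hD.1.2.2
  have hUsc := hinv.2.1
  have hUS : U ≤ S := hUsc.1
  have hRS : R ≤ S := hR.1
  have : Finite U := finite_of_le hUS
  have hUp : IsPGroup p U := hS.to_le hUS
  have hRn : ∀ c ∈ S, ∀ r ∈ R, c * r * c⁻¹ ∈ R := fun c hc r hr =>
    (Subgroup.mem_normalizer_iff.mp
      (StronglyClosed.le_normalizer hR hc) r).mp hr
  have hUn : ∀ c ∈ S, ∀ u ∈ U, c * u * c⁻¹ ∈ U := fun c hc u hu =>
    (Subgroup.mem_normalizer_iff.mp (StronglyClosed.le_normalizer hUsc hc) u).mp hu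
  have hconj : ∀ (Q : Subgroup Ω) (u : Ω), Q ≤ U → u ∈ U → ExtFix F R U Q fun x => u * x * u⁻¹ :=
    fun Q u hQ hu => extFix_conj (hUS hu) (hQ.trans hUS) hRS (hRn u (hUS hu)) fun r hr => by
      have h1 := hUn r⁻¹ (S.inv_mem (hRS hr)) u hu
      rw [inv_inv] at h1
      simpa [mul_assoc] using U.mul_mem h1 (U.inv_mem hu)
  have hext := exists_extension_normal hS hD hR hfix
  let M : MapPred D :=
    { pred := fun P f => ExtFix F R U P f
      congr := fun h e => h.congr e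
      conj := fun {P g} hP hg => hconj P g hP hg
      comp := fun _ hf _ hg h => hf.comp hg h
      inv := fun {P Q f g} _ hf hr _ h => hf.inv hRS hr h }
  have hp : HasPAutsOnCentrics p D M.sub := by
    intro Q hQ
    refine pPrimeAut_le fun α hα k hk => ?_
    rw [mem_autGroup_iff_mapFn hQ.1] at hα ⊢
    obtain ⟨f, hf, hfe⟩ := hα
    refine ⟨f, M.mapFn_sub.mpr ⟨hf, ?_⟩, hfe⟩
    obtain ⟨Q', hQQ', hn⟩ := exists_fullyNormalized (F := D) hQ.1
    obtain ⟨φ₀, hφ₀, hr⟩ := hQQ'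
    obtain ⟨e, he⟩ := exists_equiv hφ₀ hr
    obtain ⟨hQ'a, -⟩ := fullyNormalized_good hUp hDs hn
    have hαA : α ∈ D.autGroup Q := (mem_autGroup_iff_mapFn hQ.1).mpr ⟨f, hf, hfe⟩
    have hα' : MulAut.congr e α ∈ D.autGroup Q' := by
      rw [← map_autGroup hφ₀ he]; exact ⟨α, hαA, rfl⟩
    have hord : orderOf (MulAut.congr e α) = p ^ k := by rw [MulEquiv.orderOf_eq]; exact hk
    have := finite_mulAut (hn.1)
    obtain ⟨γ, hγ, hγA⟩ := FullyAutomized.exists_conj hQ'a (Subgroup.zpowers_le.mpr hα')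
      (IsPGroup.of_card (by rw [Nat.card_zpowers, hord]))
    obtain ⟨u, hu, hue⟩ := mem_autInducedBy.mp (hγA _ (Subgroup.mem_zpowers _))
    obtain ⟨fφ, hfφ, hfφe⟩ := mapFn_of_hom hφ₀
    obtain ⟨fγ, hfγ, hfγr, hfγe⟩ := exists_mapFn_of_aut hn.1 hγ
    have hφe : ∀ x : Q, fφ x = ((e x : Q') : Ω) := fun x => (hfφe x).symm.trans (he x).symm
    have hφQ : fφ '' Q = (Q' : Set Ω) := by
      ext y
      constructor
      · rintro ⟨x, hx, rfl⟩; rw [hφe ⟨x, hx⟩]; exact Subtype.mem _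
      · exact fun hy => ⟨e.symm ⟨y, hy⟩, Subtype.mem _, by rw [hφe]; simp⟩
    obtain ⟨A, hA, hAP, hAR⟩ := hext _ _ (hfφ.comp hfγ fun x hx => mem_of_image hφQ hx)
    refine extFix_of_conj hUsc hA hAP hAR (by rw [Set.image_comp, hφQ, hfγr]) (hconj Q' u hn.1 hu)
      (fun x hx => by rw [hfe ⟨x, hx⟩]; exact Subtype.mem _) fun x hx => ?_
    show fγ (fφ (f x)) = u * fγ (fφ x) * u⁻¹
    rw [hfe ⟨x, hx⟩, hφe, hfγe, hφe ⟨x, hx⟩, hfγe, ← hue]
    simp
  have htop : D.autGroup U ≤ M.sub.autGroup U := by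
    intro α hα
    have hU : D.IsFullyAutomized p U := ((saturated_iff_top_and_receptive hUp).mp hDs).1
    obtain ⟨a, ha, g, hg, b, rfl, hb⟩ := FullyAutomized.exists_mul hU hα
    refine Subgroup.mul_mem _ ?_ ?_
    swap
    · exact (mem_autGroup_iff_mapFn le_rfl).mpr ⟨fun x => g * x * g⁻¹,
        M.mapFn_sub.mpr ⟨mapFn_conj le_rfl hg, hconj U g le_rfl hg⟩, fun x => (hb x).symm⟩
    refine (CfsgLib.Transfer.pResidual_le_iff.mpr fun β hβ => ?_ :
      pResidual p (D.autGroup U) ≤ (M.sub.autGroup U).subgroupOf (D.autGroup U)) ha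
    rw [Subgroup.mem_subgroupOf, mem_autGroup_iff_mapFn le_rfl]
    obtain ⟨f, hf, hfr, hfe⟩ := exists_mapFn_of_aut le_rfl β.2
    refine ⟨f, M.mapFn_sub.mpr ⟨hf, ?_⟩, hfe⟩
    obtain ⟨b₀, hb₀, hb₀r, hb₀U, hb₀C⟩ := FusionTransport.mapFn_extension hD hf hfr
    set C := centralizerIn S U with hC
    obtain ⟨B, hB, hBP, hBR⟩ := exists_extension_top hS hD hR hfix hf hb₀ hb₀r hb₀U hb₀C
    set W := U ⊔ C ⊔ R with hW
    have hWS : W ≤ S := sup_le (sup_le hUS centralizerIn_le) hRS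
    have hBW : B '' W = (W : Set Ω) := hB.image_eq_of_maps hWS
      (hB.maps_sup (fun x hx => Subgroup.mem_sup_left (by rw [hBP x hx]; exact mem_of_image hb₀r hx))
        fun x hx => Subgroup.mem_sup_right (mem_of_image hBR hx)) le_rfl
    obtain ⟨γ₀, hγ₀, hγ₀e⟩ := hB.exists_aut hBW
    have hUW : U ≤ W := le_sup_of_le_left le_sup_left
    have hRW : R ≤ W := le_sup_right
    have hγU : ∀ x : U, ((γ₀ ⟨x, hUW x.2⟩ : W) : Ω) = (((β : MulAut U) x : U) : Ω) := fun x => by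
      rw [hγ₀e]
      show B x = _
      rw [hBP x (Subgroup.mem_sup_left x.2), hb₀U x x.2, hfe]
    have hβn : (orderOf (β : MulAut U)).Coprime p := by rwa [Subgroup.orderOf_coe]
    obtain ⟨j, n, hn, hjn, hjU⟩ := exists_coprime_extension hWS hUW hβn hγU
    -- `γ₀` preserves `U` and fixes `C` modulo `U`
    have hγN : ∀ w : W, (w : Ω) ∈ U → ((γ₀ w : W) : Ω) ∈ U := fun w hw => by
      rw [show w = ⟨w, hUW hw⟩ from rfl, hγU ⟨w, hw⟩]; exact Subtype.mem _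
    have hγC : ∀ w : W, (w : Ω) ∈ C → ((γ₀ w : W) : Ω) ∈ C ∧ (w : Ω)⁻¹ * ((γ₀ w : W) : Ω) ∈ U :=
      fun w hw => by
        rw [hγ₀e, hBP _ (Subgroup.mem_sup_right hw)]
        have h1 := hb₀C _ hw
        refine ⟨?_, h1.1⟩
        have h2 : b₀ (w : Ω) = w * ((w : Ω)⁻¹ * b₀ w) := by group
        rw [h2]
        exact C.mul_mem hw (mem_centralizerIn.mpr ⟨hUS h1.1, fun y hy =>
          Subgroup.mem_centralizer_iff.mp h1.2 y hy⟩)
    have hγR : ∀ w : W, (w : Ω) ∈ R → ((γ₀ w : W) : Ω) ∈ R ∧ (w : Ω)⁻¹ * ((γ₀ w : W) : Ω) ∈ R :=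
      fun w hw => by
        rw [hγ₀e]
        exact ⟨mem_of_image hBR hw, R.mul_mem (R.inv_mem hw) (mem_of_image hBR hw)⟩
    obtain ⟨hδN, hδC⟩ := pow_stable hγN hγC j
    obtain ⟨-, hδR⟩ := pow_stable (N := R) (K := R) (fun w hw => (hγR w hw).1) hγR j
    set δ := γ₀ ^ j with hδ
    obtain ⟨G, hG, hGe⟩ := (mem_autGroup_iff_mapFn hWS).mp
      (Subgroup.pow_mem (F.autGroup W) hγ₀ j)
    refine ⟨G, hG.mono (sup_le hUW hRW), fun x hx => ?_, fun r hr => ?_⟩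
    · rw [hGe ⟨x, hUW hx⟩, hjU ⟨x, hx⟩, hfe ⟨x, hx⟩]
    rw [hGe ⟨r, hRW hr⟩]
    refine ⟨(hδR ⟨r, hRW hr⟩ hr).1, ?_⟩
    set y := (⟨r, hRW hr⟩ : W)⁻¹ * δ ⟨r, hRW hr⟩ with hydef
    have hyR : (y : Ω) ∈ R := (hδR ⟨r, hRW hr⟩ hr).2
    -- `y` induces an inner automorphism of `U`
    have hmem : ∀ c ∈ S, c ∈ Subgroup.normalizer (U : Set Ω) := fun c hc =>
      StronglyClosed.le_normalizer hUsc hc
    let A : Subgroup (D.autGroup U) := (autInducedBy R U).subgroupOf (D.autGroup U)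
    have hAn : A.Normal := ⟨fun a ha g => by
      obtain ⟨s, hs, hse⟩ := mem_autInducedBy.mp (Subgroup.mem_subgroupOf.mp ha)
      obtain ⟨fg, hfg, hfgr, hfge⟩ := exists_mapFn_of_aut le_rfl g.2
      obtain ⟨G', hG', hG'U, hG'R⟩ := hext _ _ hfg
      refine Subgroup.mem_subgroupOf.mpr (mem_autInducedBy.mpr
        ⟨G' s, mem_of_image hG'R hs, fun x => ?_⟩)
      obtain ⟨z, rfl⟩ := (g : MulAut U).surjective x
      have hz : G' (z : Ω) = (((g : MulAut U) z : U) : Ω) := by rw [hG'U z z.2, hfge]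
      rw [← hz]
      show ((((g : MulAut U) * (a : MulAut U) * (g : MulAut U)⁻¹) ((g : MulAut U) z) : U) : Ω) = _
      rw [MulAut.mul_apply, MulAut.mul_apply, MulAut.inv_apply_self, ← hfge, ← hG'U _ (Subtype.mem _),
        hse z, hG'.map_conj (Subgroup.mem_sup_right hs) (Subgroup.mem_sup_left z.2)]⟩
    have : Finite R := finite_of_le hRS
    have hAp : IsPGroup p A := by
      have h1 : IsPGroup p (autInducedBy R U) := by
        rw [autInducedBy_eq_map]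
        exact ((hS.to_le hRS).comap_subtype).map _
      exact h1.comap_of_injective _ (D.autGroup U).subtype_injective
    obtain ⟨T, hT⟩ := hU.2
    have hle : A ≤ (T : Subgroup (D.autGroup U)) :=
      (PCore.le_pCore hAn hAp).trans (PCore.pCore_le_sylow T)
    have hyA : ∃ a ∈ A, ∀ x : U, (((a : MulAut U) x : U) : Ω) = (y : Ω) * x * (y : Ω)⁻¹ := by
      obtain ⟨cy, hcy, hcye⟩ := exists_autInducedBy (K := R) hyR (hmem _ (hRS hyR))
      obtain ⟨cr, hcr, hcre⟩ := exists_autInducedBy (K := R) hr (hmem _ (hRS hr))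
      have hcrF : cr ∈ F.autGroup U := autInducedBy_le_autGroup hUS (autInducedBy_mono hRS U hcr)
      have hcy' : cy ∈ D.autGroup U := by
        obtain ⟨fb, hfb, -, hfbe⟩ := exists_mapFn_of_aut le_rfl β.2
        have hnorm : cr⁻¹ * (β : MulAut U) * cr * (β : MulAut U)⁻¹ ∈ D.autGroup U := by
          refine Subgroup.mul_mem _ ?_ (Subgroup.inv_mem _ β.2)
          have hm := (mem_autGroup hUS).mp (Subgroup.inv_mem _ hcrF)
          exact autGroup_congr_of_strong (stronglyInvariant_of_invariant hinv) le_rfl le_rfl hm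
            (e := cr⁻¹) (fun _ => rfl) β.2
        refine (?_ : cy = cr⁻¹ * (β : MulAut U) * cr * (β : MulAut U)⁻¹) ▸ hnorm
        refine MulEquiv.ext fun x => cr.injective (Subtype.ext ?_)
        obtain ⟨z, rfl⟩ := (β : MulAut U).surjective x
        rw [MulAut.mul_apply, MulAut.mul_apply, MulAut.mul_apply, MulAut.inv_apply_self,
          MulAut.apply_inv_self, hcre, hcye, ← hjU, ← hjU]
        have e1 : δ ⟨cr z, hUW (Subtype.mem _)⟩ =
            δ (⟨r, hRW hr⟩ * ⟨z, hUW z.2⟩ * ⟨r, hRW hr⟩⁻¹) :=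
          congrArg δ (Subtype.ext (hcre z))
        rw [e1, map_mul δ, map_mul δ, map_inv δ, hydef]
        simp only [Subgroup.coe_mul, Subgroup.coe_inv, mul_inv_rev, inv_inv, mul_assoc,
          mul_inv_cancel_left, mul_inv_cancel, mul_one]
      exact ⟨⟨cy, hcy'⟩, hcy, hcye⟩
    obtain ⟨a, haA, hae⟩ := hyA
    obtain ⟨u, hu, hue⟩ := mem_autInducedBy.mp (hT.le (hle haA) : (a : MulAut U) ∈ autInducedBy U U)
    have hcy : u⁻¹ * (y : Ω) ∈ C := by
      refine mem_centralizerIn'.mpr ⟨S.mul_mem (S.inv_mem (hUS hu)) (hRS hyR), fun x => ?_⟩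
      have h1 : (y : Ω) * x * (y : Ω)⁻¹ = u * x * u⁻¹ := (hae x).symm.trans (hue x)
      calc u⁻¹ * (y : Ω) * x * (u⁻¹ * (y : Ω))⁻¹ = u⁻¹ * ((y : Ω) * x * (y : Ω)⁻¹) * u := by group
        _ = x := by rw [h1]; group
    refine mem_of_coprime_stabilize hS hWS hUn hn hjn hδN ⟨r, hRW hr⟩ ?_
    rw [← hydef, Subgroup.mem_subgroupOf]
    set w : W := ⟨u⁻¹ * y, W.mul_mem (W.inv_mem (hUW hu)) y.2⟩ with hw
    have hyw : y = ⟨u, hUW hu⟩ * w := Subtype.ext (mul_inv_cancel_left u (y : Ω)).symm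
    rw [hyw, map_mul]
    have h3 : ((w : Ω)⁻¹ * ((δ w : W) : Ω)) ∈ U := (hδC w hcy).2
    have h4 : u⁻¹ * ((δ ⟨u, hUW hu⟩ : W) : Ω) ∈ U := U.mul_mem (U.inv_mem hu) (hδN _ hu)
    have h5 := U.mul_mem (hUn (w : Ω)⁻¹ (S.inv_mem (hWS w.2)) _ h4) h3
    simpa [mul_assoc] using h5
  intro P f hf
  obtain ⟨a, f₀, ha, hf₀, he⟩ := factors_of_map hUp hDs P f hf
  have h₀ : ExtFix F R U P f₀ :=
    (M.mapFn_sub.mp (mapFn_of_le (leastPAuts_le_of hp) hf₀)).2
  obtain ⟨α, hα, hαe⟩ := ha.exists_aut (mapFn_image_S ha)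
  obtain ⟨a', ha', -, ha'e⟩ := exists_mapFn_of_aut le_rfl (htop hα)
  refine (h₀.comp (M.mapFn_sub.mp ha').2 fun x hx => hf₀.mem_S hx).congr fun x hx => ?_
  show a' (f₀ x) = f x
  rw [he x hx, ha'e ⟨f₀ x, hf₀.mem_S hx⟩, hαe]

end CfsgLib.FusionLayer
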