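import Cfsg.Agent.Lib.Fusion.CentralProduct
import Cfsg.Agent.Lib.Fusion.CentralizerSubsystem
import Cfsg.Agent.Lib.Fusion.ConstrainedLocal
import Cfsg.Agent.S5148
import Cfsg.Agent.S5150
import Cfsg.Prelude.Def_FusionFitting

/-!
# The generalized Fitting subsystem

Given a layer and the product of commuting normal subsystems, `F*(F)` is normal; its centre is the
centralizer of `F*(F)` when systems without components are constrained.
-/

set_option autoImplicit false
set_option linter.unusedSectionVars false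

namespace CfsgLib.FusionGF

open Cfsg Cfsg.FusionSystem CfsgLib.Fusion CfsgLib.FusionNormal CfsgLib.FusionTransport

variable {Ω : Type*} [Group Ω] {S T U R : Subgroup Ω} {F : FusionSystem S} {E : FusionSystem T}
  [Finite S] {p : ℕ} [Fact p.Prime]

/-- An element fixed by all maps whose source contains it is central. -/
theorem isCentral_of_fixed (hS : IsPGroup p S) (hF : F.IsSaturated p) {Z : Subgroup Ω} (hZ : Z ≤ S)
    (h : ∀ P f, MapFn F P f → ∀ z ∈ Z, z ∈ P → f z = z) : F.IsCentral Z := by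
  have hc : Z ≤ centralizerIn S S := fun z hz => Fusion.mem_centralizerIn.mpr ⟨hZ hz, fun s hs => by
    have e := h S _ (mapFn_conj le_rfl hs) z hz (hZ hz)
    calc s * z = s * z * s⁻¹ * s := by group
      _ = z * s := by rw [e]⟩
  refine isCentral_of_mapFn hZ fun P f hf => ?_
  refine alperin_induction hS hF
    (fun P f => ∃ g, MapFn F (P ⊔ Z) g ∧ (∀ x ∈ P, g x = f x) ∧ ∀ z ∈ Z, g z = z)
    (fun _ ⟨g, hg, hP, hQ⟩ e => ⟨g, hg, fun x hx => (hP x hx).trans (e x hx), hQ⟩)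
    (fun _ ⟨g, hg, hP, hQ⟩ hR => ⟨g, hg.mono (sup_le_sup_right hR Z), fun x hx => hP x (hR hx), hQ⟩)
    ?_ ?_ ?_ P f hf
  · rintro P R f g - ⟨f', hf', hfP, hfZ⟩ - ⟨g', hg', hgP, hgZ⟩ hm
    refine ⟨g' ∘ f', hf'.comp hg' (hf'.maps_sup
      (fun x hx => by rw [hfP x hx]; exact Subgroup.mem_sup_left (hm x hx))
      fun x hx => by rw [hfZ x hx]; exact Subgroup.mem_sup_right hx), fun x hx => ?_, fun z hz => ?_⟩
    · show g' (f' x) = g (f x)
      rw [hfP x hx, hgP _ (hm x hx)]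
    · show g' (f' z) = z
      rw [hfZ z hz, hgZ z hz]
  · rintro P R f g hf ⟨f', hf', hfP, hfZ⟩ hr - hinv
    obtain ⟨M, -, hM⟩ := hf'.exists_image
    obtain ⟨g', hg', -, hg'₁, -⟩ := hf'.exists_inv hM
    have hle : R ⊔ Z ≤ M := by
      refine sup_le (fun y hy => ?_) fun y hy => ?_
      · obtain ⟨x, hx, rfl⟩ := exists_of_image hr hy
        rw [← hfP x hx]; exact mem_of_image hM (Subgroup.mem_sup_left hx)
      · rw [← hfZ y hy]; exact mem_of_image hM (Subgroup.mem_sup_right hy)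
    refine ⟨g', hg'.mono hle, fun y hy => ?_, fun z hz => ?_⟩
    · obtain ⟨x, hx, rfl⟩ := exists_of_image hr hy
      rw [hinv x hx, ← hfP x hx, hg'₁ x (Subgroup.mem_sup_left hx)]
    · conv_lhs => rw [← hfZ z hz]
      exact hg'₁ z (Subgroup.mem_sup_right hz)
  · intro Q _ hQc _ _ a ha _
    have hZQ : Z ≤ Q := fun z hz => hQc.2 Q (isConj_refl hQc.1)
      (Fusion.mem_centralizerIn.mpr ⟨hZ hz, fun q hq => (Fusion.mem_centralizerIn.mp (hc hz)).2 q (hQc.1 hq)⟩)
    exact ⟨a, ha.mono (sup_le le_rfl hZQ), fun _ _ => rfl, fun z hz => h Q a ha z hz (hZQ hz)⟩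

/-- A subgroup centralized by a saturated subsystem meets it in its centre. -/
theorem inf_le_center (hS : IsPGroup p S) (hTS : T ≤ S) (hE : E.IsSaturated p)
    (h : ∀ P, E.Hom P ⊆ F.centralizerHom R P) : T ⊓ R ≤ E.center := by
  have := finite_of_le hTS
  refine le_sSup (isCentral_of_fixed (hS.to_le hTS) hE inf_le_left fun P f hf z hz hzP => ?_)
  obtain ⟨φ, hφ, hφe⟩ := hf
  obtain ⟨-, -, -, ψ, hψ, hψP, hψR⟩ := h P hφ
  rw [← hφe ⟨z, hzP⟩, ← hψP ⟨z, hzP⟩]
  exact hψR ⟨z, hz.2⟩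

theorem inf_le_center_inner (hT : T ≤ centralizerIn S R) :
    R ⊓ T ≤ (innerFusionSystem R).center := by
  refine le_sSup (isCentral_of_mapFn inf_le_left fun P f hf => ?_)
  obtain ⟨hP, g, hg, hge⟩ := mapFn_inner.mp hf
  refine ⟨fun x => g * x * g⁻¹, mapFn_inner.mpr ⟨sup_le hP inf_le_left, g, hg, fun _ _ => rfl⟩,
    fun x hx => (hge x hx).symm, fun z hz => ?_⟩
  show g * z * g⁻¹ = z
  rw [(Fusion.mem_centralizerIn.mp (hT hz.2)).2 g hg, mul_inv_cancel_right]

theorem subsystem_of_subnormal {T S : Subgroup Ω} {C : FusionSystem T} {F : FusionSystem S} {p : ℕ}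
    (h : C.IsSubnormalIn F p) : C.IsSubsystemOf F := by
  induction h with
  | refl => exact fun _ => Set.Subset.rfl
  | step _ hN ih => exact fun P => (ih P).trans (hN.1.2.2.1 P)

theorem layer_centralizes (hS : IsPGroup p S) (hF : F.IsSaturated p) (hE : E.IsLayerOf F p) :
    T ≤ centralizerIn S F.core ∧ ∀ P, E.Hom P ⊆ F.centralizerHom F.core P :=
  have h := Cfsg.Agent.S5150.result p hS F hF E hE
  ⟨(h T (subtype_mem le_rfl)).2.1, h⟩

/-- A central product of two normal subsystems that is known for some `D` determines all of them. -/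
theorem cp_normal {T₁ T₂ : Subgroup Ω} {E₁ : FusionSystem T₁} {E₂ : FusionSystem T₂}
    {D : FusionSystem U} (h : IsCentralProductOf E₁ E₂ D) {D' : FusionSystem (T₁ ⊔ T₂)}
    (h' : IsCentralProductOf E₁ E₂ D') (hn : D'.IsNormalIn F p) : D.IsNormalIn F p := by
  obtain rfl := cp_sup h
  have e := funext fun P => Set.Subset.antisymm (cp_unique h' h P) (cp_unique h h' P)
  cases D; cases D'; cases e; exact hn

/-- The hypothesis that commuting normal subsystems have a normal central product. -/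
def HasProducts (F : FusionSystem S) (p : ℕ) : Prop :=
  ∀ (T₁ T₂ : Subgroup Ω) (E₁ : FusionSystem T₁) (E₂ : FusionSystem T₂), E₁.IsNormalIn F p → E₂.IsNormalIn F p →
    ⁅T₁, T₂⁆ = ⊥ → ∃ D : FusionSystem (T₁ ⊔ T₂), D.IsNormalIn F p ∧
      (T₁ ⊓ T₂ ≤ E₁.center → T₁ ⊓ T₂ ≤ E₂.center → IsCentralProductOf E₁ E₂ D)

/-- The product of the core and a layer. -/
theorem exists_product (hS : IsPGroup p S) (hF : F.IsSaturated p) (hprod : HasProducts F p)
    (hE : E.IsLayerOf F p) : ∃ D : FusionSystem (F.core ⊔ T),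
      D.IsNormalIn F p ∧ IsCentralProductOf (innerFusionSystem F.core) E D := by
  have hQ := CfsgLib.FusionExt.isNormal_core F
  obtain ⟨hTc, hEc⟩ := layer_centralizes hS hF hE
  obtain ⟨D, hD, hcp⟩ := hprod F.core T (innerFusionSystem F.core) E (inner_isNormalIn hS hF hQ) hE.1 (by
    rw [Subgroup.commutator_eq_bot_iff_le_centralizer]
    exact fun q hq t ht => ((Fusion.mem_centralizerIn.mp (hTc ht)).2 q hq).symm)
  refine ⟨D, hD, hcp (inf_le_center_inner hTc) ?_⟩
  rw [inf_comm]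
  exact inf_le_center hS (hTc.trans centralizerIn_le) hE.1.1.1 hEc

theorem exists_generalizedFitting (hS : IsPGroup p S) (hF : F.IsSaturated p) (hprod : HasProducts F p)
    (hlayer : ∃ (T : Subgroup Ω) (E : FusionSystem T), E.IsLayerOf F p) :
    ∃ (U : Subgroup Ω) (D : FusionSystem U), D.IsGeneralizedFittingOf F p := by
  obtain ⟨T, E, hE⟩ := hlayer
  obtain ⟨D, -, hcp⟩ := exists_product hS hF hprod hE
  exact ⟨_, D, T, E, hE, hcp⟩

theorem generalizedFitting_isNormalIn (hS : IsPGroup p S) (hF : F.IsSaturated p) (hprod : HasProducts F p)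
    {D : FusionSystem U} (hD : D.IsGeneralizedFittingOf F p) : D.IsNormalIn F p := by
  obtain ⟨T, E, hE, hcp⟩ := hD
  obtain ⟨D', hD', hcp'⟩ := exists_product hS hF hprod hE
  exact cp_normal hcp hcp' hD'

/-- The components lie in `F*(F)`. -/
theorem layer_le (hS : IsPGroup p S) (hF : F.IsSaturated p) (hE : E.IsLayerOf F p) {D : FusionSystem U}
    (hcp : IsCentralProductOf (innerFusionSystem F.core) E D) : E.IsSubsystemOf D := by
  obtain ⟨hTc, hEc⟩ := layer_centralizes hS hF hE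
  have hTS := hTc.trans centralizerIn_le
  have := finite_of_le hTS
  have := finite_of_le (CfsgLib.FusionExt.isNormal_core F).1
  refine cp_right_le hcp fun f P hf => ?_
  have hle : F.core ⊓ T ≤ E.center := by rw [inf_comm]; exact inf_le_center hS hTS hE.1.1.1 hEc
  obtain ⟨g, hg, hgP, hgZ⟩ := mapFn_central (CfsgLib.FusionExt.isCentral_center E) hf
  exact ⟨g, hg.mono (sup_le_sup_left hle P), hgP, fun z hz => hgZ z (hle hz)⟩

/-- The centre of a normal subsystem is centralized by it. -/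
theorem center_centralized {D : FusionSystem U} (hD : D.IsSubsystemOf F) (hUS : U ≤ S) :
    D.center ≤ centralizerIn S U ∧ ∀ P, D.Hom P ⊆ F.centralizerHom D.center P := by
  have := finite_of_le hUS
  have hc := CfsgLib.FusionExt.isCentral_center D
  have hzU := D.center_le_centralizer
  have hU : U ≤ centralizerIn S D.center := fun u hu =>
    Fusion.mem_centralizerIn.mpr ⟨hUS hu, fun z hz => (hzU hz u hu).symm⟩
  refine ⟨fun z hz => Fusion.mem_centralizerIn.mpr ⟨hUS (hc.1 hz), fun u hu => hzU hz u hu⟩, fun P φ hφ => ?_⟩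
  obtain ⟨ψ, hψ, hψP, hψZ⟩ := hc.2 P φ hφ
  exact ⟨hD P hφ, (Fusion.le_S hφ).trans hU, fun x => hU ((D.le_of_mem hφ).2 x), ψ, hD _ hψ, hψP, hψZ⟩

/-- The centre of `F*(F)` is its centralizer. -/
theorem le_center_of_centralized (hS : IsPGroup p S) (hF : F.IsSaturated p) {D : FusionSystem U}
    (hD : D.IsNormalIn F p) (hcore : F.core ≤ U)
    (hcomp : ∀ (T : Subgroup Ω) (C : FusionSystem T), C.IsComponentIn F p → C.IsSubsystemOf D)
    (hcons : ∀ {W : Subgroup Ω} (G : FusionSystem W), W ≤ S → G.IsSaturated p →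
      (¬ ∃ (T : Subgroup Ω) (C : FusionSystem T), C.IsComponentIn G p) → G.IsConstrained p)
    {Y : Subgroup Ω} (hY : Y ≤ centralizerIn S U) (h : ∀ P, D.Hom P ⊆ F.centralizerHom Y P) :
    Y ≤ D.center := by
  set W := subsystemCentralizer F D with hW
  obtain ⟨G, hG, hGc⟩ : ∃ G : FusionSystem W, G.IsNormalIn F p ∧ ∀ P, G.Hom P ⊆ F.centralizerHom U P :=
    exists_centralizer_normal hS hD
  have hWc : W ≤ centralizerIn S U := subsystemCentralizer_le
  have hWS := hWc.trans centralizerIn_le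
  have hUS : U ≤ S := hD.1.2.2.2.1.1
  have := finite_of_le hWS
  have hG' : G.IsConstrained p := by
    refine hcons G hWS hG.1.1 ?_
    rintro ⟨T, C, hC⟩
    have hCD := hcomp T C ⟨.step hC.1 hG, hC.2⟩
    have hCG : C.IsSubsystemOf G := subsystem_of_subnormal hC.1
    have hTU : T ≤ U := Fusion.le_S (hCD T (subtype_mem le_rfl))
    have := finite_of_le (hTU.trans hUS)
    have hfix : ∀ (P : Subgroup Ω) (φ : P →* Ω), φ ∈ C.Hom P → ∀ x : P, φ x = x := by
      intro P φ hφ x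
      obtain ⟨-, -, -, ψ, -, hψP, hψU⟩ := hGc P (hCG P hφ)
      have hxU : (x : Ω) ∈ U := hTU (Fusion.le_S hφ x.2)
      rw [← hψP x]
      exact hψU ⟨x, hxU⟩
    have hbot : C.hyperfocalSubgroup p = ⊥ := by
      rw [eq_bot_iff, FusionSystem.hyperfocalSubgroup, Subgroup.closure_le]
      rintro _ ⟨P, α, x, hP, -, rfl⟩
      have := hfix P _ ((mem_autGroup hP).mp α.2) x
      refine Subgroup.mem_bot.mpr ?_
      rw [inv_mul_eq_one]
      exact this.symm
    refine Cfsg.Agent.S5148.result p (hS.to_le (hTU.trans hUS)) C hC.2 ⟨⟨fun a b => Subtype.ext ?_⟩⟩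
    have ha : (a : Ω) = 1 := Subgroup.mem_bot.mp ((hC.2.2.1.symm.trans hbot).le a.2)
    have hb : (b : Ω) = 1 := Subgroup.mem_bot.mp ((hC.2.2.1.symm.trans hbot).le b.2)
    simp [ha, hb]
  have hcoreG : G.core ≤ U :=
    (le_core (CfsgLib.FusionLocal.isNormal_core_of_weaklyNormal hS hF hG.1)).trans hcore
  have hWU : W ≤ U := fun w hw => hcoreG (CfsgLib.FusionSolv.centralizerIn_le_core (hS.to_le hWS) hG'
    (Fusion.mem_centralizerIn.mpr ⟨hw, fun u hu => (Fusion.mem_centralizerIn.mp (hWc hw)).2 u (hcoreG hu)⟩))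
  have hYW : Y ≤ W := le_subsystemCentralizer hY h
  have := finite_of_le hUS
  refine le_sSup (isCentral_of_fixed (hS.to_le hUS) hD.1.1 (hYW.trans hWU) fun P f hf y hy hyP => ?_)
  obtain ⟨φ, hφ, hφe⟩ := hf
  obtain ⟨-, -, -, ψ, -, hψP, hψY⟩ := h P hφ
  rw [← hφe ⟨y, hyP⟩, ← hψP ⟨y, hyP⟩]
  exact hψY ⟨y, hy⟩

/-- Maps of a central product with source in the second factor are maps of that factor. -/
theorem cp_restrict {T₁ : Subgroup Ω} {E₁ : FusionSystem T₁} {D : FusionSystem U}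
    (h : IsCentralProductOf E₁ E D) {P : Subgroup Ω} (hP : P ≤ T) {f : Ω → Ω} (hf : MapFn D P f) :
    MapFn E P f := by
  obtain ⟨A, B, f₁, f₂, hf₁, hf₂, -, -, -, -, key⟩ := cp_split h hf
  have k : ∀ x ∈ P, x ∈ B ∧ f x = f₂ x := fun x hx => by
    obtain ⟨-, h₂, e⟩ := key 1 (one_mem _) x (hP hx) (by rwa [one_mul])
    rw [one_mul, hf₁.map_one, one_mul] at e
    exact ⟨h₂, e⟩
  exact (hf₂.mono fun x hx => (k x hx).1).congr fun x hx => (k x hx).2.symm

/-- Commutation of the factors of a central product. -/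
theorem cp_comm {T₁ : Subgroup Ω} {E₁ : FusionSystem T₁} {D : FusionSystem U}
    (h : IsCentralProductOf E₁ E D) : ∀ q ∈ T₁, ∀ v ∈ T, v * q = q * v := by
  obtain ⟨D₀, -, Z, θ, -, -, -, h₁, h₂, -⟩ := h
  intro q hq v hv
  have hx : ((q, 1) : Ω × Ω) ∈ T₁.prod T := Subgroup.mem_prod.mpr ⟨hq, T.one_mem⟩
  have hy : ((1, v) : Ω × Ω) ∈ T₁.prod T := Subgroup.mem_prod.mpr ⟨T₁.one_mem, hv⟩
  have hxy : ((q, v) : Ω × Ω) ∈ T₁.prod T := Subgroup.mem_prod.mpr ⟨hq, hv⟩
  have e : (⟨(1, v), hy⟩ : ↥(T₁.prod T)) * ⟨(q, 1), hx⟩ = ⟨(q, v), hxy⟩ :=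
    Subtype.ext (Prod.ext (one_mul q) (mul_one v))
  have := congrArg θ e
  rw [map_mul, h₁ q, h₂ v, theta_eq h₁ h₂] at this
  exact this

/-- A normal subsystem of the second factor is normal in a central product. -/
theorem isNormalIn_of_factor {E₁ : FusionSystem R} {D : FusionSystem U} [Finite U]
    (hcp : IsCentralProductOf E₁ E D) (hD : D.IsSaturated p) (hED : E.IsSubsystemOf D)
    {V : Subgroup Ω} {C : FusionSystem V} (hC : C.IsNormalIn E p) : C.IsNormalIn D p := by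
  obtain ⟨⟨hCs, -, hCE, hVsc, hinv, hfr⟩, hext⟩ := hC
  have hVT : V ≤ T := hVsc.1
  have hTU : T ≤ U := by rw [cp_sup hcp]; exact le_sup_right
  have := finite_of_le hTU
  have hRU : R ≤ U := by rw [cp_sup hcp]; exact le_sup_left
  have := finite_of_le hRU
  have hhom : ∀ P : Subgroup Ω, P ≤ T → D.Hom P = E.Hom P := fun P hP => Set.Subset.antisymm
    (hom_subset_iff_mapFn.mpr fun f hf => cp_restrict hcp hP hf) (hED P)
  have haut : ∀ P : Subgroup Ω, P ≤ T → ∀ α : MulAut P, α ∈ D.autGroup P ↔ α ∈ E.autGroup P := fun P hP α => by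
    rw [mem_autGroup hP, mem_autGroup (hP.trans hTU), hhom P hP]
  refine ⟨⟨hCs, hD, fun P φ hφ => hED P (hCE P hφ), ⟨hVT.trans hTU, fun W hW φ hφ => ?_⟩, ?_, ?_⟩, ?_⟩
  · exact hVsc.2 W hW φ ((hhom W (hW.trans hVT)).le hφ)
  · exact fun P hP φ hφ α hα => hinv P hP φ hφ α ((haut V hVT α).mp hα)
  · intro P hP φ hφ
    obtain ⟨α, hα, h⟩ := hfr P hP φ ((hhom P (hP.trans hVT)).le hφ)
    exact ⟨α, (haut V hVT α).mpr hα, h⟩
  intro α hα
  obtain ⟨β, hβ, hβe, hβc⟩ := hext α hα
  set W := V ⊔ centralizerIn T V with hW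
  have hWT : W ≤ T := sup_le hVT centralizerIn_le
  obtain ⟨g, hg, hgW, hge⟩ := exists_mapFn_of_aut hWT hβ
  set W' := V ⊔ centralizerIn U V with hW'
  have hW'U : W' ≤ U := sup_le (hVT.trans hTU) centralizerIn_le
  have hcQ := cp_comm hcp
  -- decomposition of the centralizer
  have hdec : ∀ c ∈ centralizerIn U V, ∃ q ∈ R, ∃ t ∈ centralizerIn T V, c = q * t := by
    intro c hc
    obtain ⟨A, B, f₁, f₂, -, -, hA, hB, -, hdec, -⟩ := cp_split (P := U) hcp (mapFn_id le_rfl)
    obtain ⟨q, hq, t, ht, e⟩ := hdec c (centralizerIn_le hc)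
    refine ⟨q, hA hq, t, Fusion.mem_centralizerIn.mpr ⟨hB ht, fun v hv => ?_⟩, e⟩
    have h1 := (Fusion.mem_centralizerIn.mp hc).2 v hv
    rw [e, ← mul_assoc, hcQ q (hA hq) v (hVT hv), mul_assoc, mul_assoc] at h1
    exact mul_left_cancel h1
  have hprodW : ∀ x ∈ W', ∃ q ∈ R, ∃ t ∈ W, x = q * t := by
    intro x hx
    rw [← SetLike.mem_coe, hW', Subgroup.coe_mul_of_left_le_normalizer_right V _
      fun v hv => Subgroup.le_centralizer_iff.mp (fun c hc => (Fusion.mem_centralizerIn.mp hc).2) hv |> fun h =>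
        Subgroup.centralizer_le_normalizer _ h] at hx
    obtain ⟨v, hv, c, hc, rfl⟩ := hx
    obtain ⟨q, hq, t, ht, rfl⟩ := hdec c hc
    refine ⟨q, hq, v * t, W.mul_mem (Subgroup.mem_sup_left hv) (Subgroup.mem_sup_right ht), ?_⟩
    show v * (q * t) = q * (v * t)
    rw [← mul_assoc, hcQ q hq v (hVT hv), mul_assoc]
  have hcz : R ⊓ T ≤ W := fun z hz =>
    Subgroup.mem_sup_right (Fusion.mem_centralizerIn.mpr ⟨hz.2, fun v hv => hcQ z hz.1 v (hVT hv)⟩)
  obtain ⟨k, hk, hke⟩ := cp_pair (P := W') hcp (f₁ := id) (mapFn_id le_rfl) hg inf_le_left hcz hprodW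
  have hkV : ∀ v : V, k v = ((α v : V) : Ω) := fun v => by
    have e := hke 1 (one_mem _) v (Subgroup.mem_sup_left v.2) (by rw [one_mul]; exact Subgroup.mem_sup_left v.2)
    rw [one_mul] at e
    rw [e, hge ⟨v, Subgroup.mem_sup_left v.2⟩]
    exact (one_mul _).trans (hβe v)
  have hkV' : k '' V = (V : Set Ω) := by
    refine (hk.mono le_sup_left).image_eq_of_maps (hVT.trans hTU) (fun v hv => ?_) le_rfl
    rw [hkV ⟨v, hv⟩]; exact Subtype.mem _
  obtain ⟨β', hβ', hβ'e⟩ := hk.exists_aut (hk.image_eq_of_maps hW'U (hk.maps_sup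
    (fun v hv => Subgroup.mem_sup_left (mem_of_image hkV' hv))
    fun c hc => Subgroup.mem_sup_right (hk.mem_centralizerIn le_sup_left hkV' (Subgroup.mem_sup_right hc) hc)) le_rfl)
  refine ⟨β', hβ', fun v => (hβ'e _).trans (hkV v), fun c hc => ?_⟩
  obtain ⟨q, hq, t, ht, e⟩ := hdec c hc
  have e' := hke q hq t (Subgroup.mem_sup_right ht) (e ▸ c.2)
  rw [hβ'e, e, e', hge ⟨t, Subgroup.mem_sup_right ht⟩]
  have := hβc ⟨t, Subgroup.mem_sup_right ht⟩ ht
  simpa [mul_assoc] using this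

/-- A normal subsystem of the layer is normal in `F*(F)`. -/
theorem isNormalIn_of_layer (hS : IsPGroup p S) (hF : F.IsSaturated p) (hE : E.IsLayerOf F p)
    {D : FusionSystem U} (hcp : IsCentralProductOf (innerFusionSystem F.core) E D) (hD : D.IsSaturated p)
    {V : Subgroup Ω} {C : FusionSystem V} (hC : C.IsNormalIn E p) : C.IsNormalIn D p := by
  have hUS : U ≤ S := by
    rw [cp_sup hcp]
    exact sup_le (CfsgLib.FusionExt.isNormal_core F).1 hE.1.1.2.2.2.1.1
  have := finite_of_le hUS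
  exact isNormalIn_of_factor hcp hD (layer_le hS hF hE hcp) hC

theorem generalizedFitting_center (hS : IsPGroup p S) (hF : F.IsSaturated p) (hprod : HasProducts F p)
    (hcons : ∀ {W : Subgroup Ω} (G : FusionSystem W), W ≤ S → G.IsSaturated p →
      (¬ ∃ (T : Subgroup Ω) (C : FusionSystem T), C.IsComponentIn G p) → G.IsConstrained p)
    {D : FusionSystem U} (hD : D.IsGeneralizedFittingOf F p) :
    (D.center ≤ centralizerIn S U ∧ ∀ P, D.Hom P ⊆ F.centralizerHom D.center P) ∧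
      ∀ Y : Subgroup Ω, Y ≤ centralizerIn S U → (∀ P, D.Hom P ⊆ F.centralizerHom Y P) → Y ≤ D.center := by
  have hn := generalizedFitting_isNormalIn hS hF hprod hD
  obtain ⟨T, E, hE, hcp⟩ := hD
  refine ⟨center_centralized hn.1.2.2.1 hn.1.2.2.2.1.1, fun Y hY h => ?_⟩
  refine le_center_of_centralized hS hF hn (by rw [cp_sup hcp]; exact le_sup_left)
    (fun V C hC P φ hφ => layer_le hS hF hE hcp P (hE.2.1 V C hC P hφ)) hcons hY h

/-- Components are normal in `F*(F)` when they are normal in the layer. -/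
theorem generalizedFitting_component_normal (hS : IsPGroup p S) (hF : F.IsSaturated p) (hprod : HasProducts F p)
    {V : Subgroup Ω} {C : FusionSystem V}
    (hlayer : ∀ (T : Subgroup Ω) (E : FusionSystem T), E.IsLayerOf F p → C.IsNormalIn E p)
    {D : FusionSystem U} (hD : D.IsGeneralizedFittingOf F p) : C.IsNormalIn D p := by
  have hn := generalizedFitting_isNormalIn hS hF hprod hD
  obtain ⟨T, E, hE, hcp⟩ := hD
  exact isNormalIn_of_layer hS hF hE hcp hn.1.1 (hlayer T E hE)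

end CfsgLib.FusionGF
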