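import Cfsg.Agent.Lib.Fusion.PPrimeLeast

/-!
# The `p'`-residual of a weakly normal subsystem is normal

Invariance comes from minimality. For the extension condition we use the family of automorphisms
whose conjugates at fully normalized `Q` extend to `Q C_S(Q)` acting trivially on `C_S(Q)` modulo
`T`.
-/

namespace CfsgLib.Fusion.PPrimeRes

open Cfsg Cfsg.FusionSystem CfsgLib.Fusion CfsgLib.FusionNormal CfsgLib.Fusion.PPrimeGen

variable {Ω : Type*} [Group Ω] {S T : Subgroup Ω} {F : FusionSystem S} {E : FusionSystem T}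
variable {Q N P R : Subgroup Ω} {p : ℕ}

/-! ### Invariance -/

/-- The maps of `F` on the subgroups of a strongly closed `T`. -/
def subSystem (hT : F.StronglyClosed T) : FusionSystem T where
  Hom P := {φ | φ ∈ F.Hom P ∧ P ≤ T}
  le_of_mem h := ⟨h.2, fun x => hT.2 _ h.2 _ h.1 x⟩
  injective_of_mem h := F.injective_of_mem h.1
  conj_mem hP hg := ⟨F.conj_mem (hP.trans hT.1) (hT.1 hg), hP⟩
  comp_mem hφ hψ h := ⟨F.comp_mem hφ.1 hψ.1 h, hφ.2⟩
  inv_mem := by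
    rintro P φ ⟨hφ, hP⟩
    obtain ⟨ψ, hψ, hψe⟩ := F.inv_mem hφ
    exact ⟨ψ, ⟨hψ, fun y ⟨x, hx⟩ => hx ▸ hT.2 P hP φ hφ x⟩, hψe⟩

theorem mapFn_subSystem {hT : F.StronglyClosed T} {f : Ω → Ω} :
    MapFn (subSystem hT) P f ↔ MapFn F P f ∧ P ≤ T := by
  constructor
  · rintro ⟨φ, hφ, he⟩; exact ⟨⟨φ, hφ.1, he⟩, hφ.2⟩
  · rintro ⟨⟨φ, hφ, he⟩, hP⟩; exact ⟨φ, ⟨hφ, hP⟩, he⟩

theorem centric_transport (hE : E.IsInvariantIn F) {a : Ω → Ω} (ha : MapFn F T a)
    (har : a '' T = (T : Set Ω)) (hP : E.IsCentric P) (hR : a '' P = (R : Set Ω)) :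
    E.IsCentric R := by
  have hRT : R ≤ T := fun y hy => by
    obtain ⟨x, hx, rfl⟩ := exists_of_image hR hy
    exact mem_of_image har (hP.1 hx)
  refine ⟨hRT, fun X hX c hc => ?_⟩
  obtain ⟨f, hf, hfr⟩ := isConj_iff.mp hX
  obtain ⟨b, hb, hbr, hb₁, hb₂⟩ := ha.exists_inv har
  have hbP : b '' R = (P : Set Ω) := by
    rw [← hR, Set.image_image]
    exact (Set.image_congr fun x hx => hb₁ x (hP.1 hx)).trans (Set.image_id' _)
  obtain ⟨χ, hχ, hχe⟩ := mapFn_transport hE hf hb hbr hbP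
  obtain ⟨X', hX'T, hX'⟩ := hχ.exists_image
  have hcT := (mem_centralizerIn.mp hc).1
  have hbc : b c ∈ centralizerIn T X' := by
    refine mem_centralizerIn.mpr ⟨mem_of_image hbr hcT, fun y hy => ?_⟩
    obtain ⟨x, hx, rfl⟩ := exists_of_image hX' hy
    obtain ⟨z, hz, rfl⟩ := exists_of_image hbP hx
    rw [hχe z hz, ← hb.map_mul (hf.mem_S hz) hcT, ← hb.map_mul hcT (hf.mem_S hz),
      (mem_centralizerIn.mp hc).2 _ (mem_of_image hfr hz)]
  obtain ⟨x, hx, hxe⟩ := exists_of_image hX' (hP.2 X' (hχ.isConj hX') hbc)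
  obtain ⟨z, hz, rfl⟩ := exists_of_image hbP hx
  rw [hχe z hz] at hxe
  rw [← hb.injOn (hf.mem_S hz) hcT hxe]
  exact mem_of_image hfr hz

theorem res_adm_sub [Finite T] (hE : E.IsInvariantIn F) :
    Adm p E (leastInv (Adm p E) (subSystem hE.2.1)) := by
  have hT := hE.2.1
  have hTS := hT.1
  refine ⟨fun P hP => pPrimeAut_le fun α hα k hk => (mem_autGroup hP.1).mpr
    ⟨⟨hE.1 P ((mem_autGroup hP.1).mp hα), hP.1⟩, fun X hX β hβ R hR => ?_⟩, ?_⟩
  · have hβF := (mapFn_subSystem.mp hβ).1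
    have har : β '' T = (T : Set Ω) := mapFn_image_S hβ
    obtain ⟨θ, hθ, hθe⟩ := (hβ.mono hP.1 : MapFn (subSystem hT) P β)
    have hθr : θ.range = R := SetLike.coe_injective (by rw [← MapFn.image_eq_range hθe, hR])
    obtain ⟨e, he⟩ := exists_equiv hθ hθr
    have hRc := centric_transport hE hβF har hP hR
    have h1 : orderOf (MulAut.congr e α) = p ^ k := by rw [MulEquiv.orderOf_eq]; exact hk
    have h2 := hX.1 R hRc (mem_pPrimeAut_of_pow (autGroup_congr_of_strong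
      (stronglyInvariant_of_invariant hE) hP.1 hRc.1 hθ.1 he hα) h1)
    obtain ⟨χ, hχ, -, hχe⟩ := exists_mapFn_of_aut hRc.1 h2
    refine ⟨χ, hχ, fun x => ?_⟩
    show χ (β x) = β ((α x : P) : Ω)
    rw [← hθe, ← hθe, ← he, ← he, hχe]
    show ((e (α (e.symm (e x))) : R) : Ω) = _
    rw [MulEquiv.symm_apply_apply]
  · intro a P hP ha haP
    obtain ⟨φ, hφ, hφe⟩ := ha
    refine ⟨φ, ⟨⟨hE.1 T hφ, le_rfl⟩, fun X hX β hβ R hR => ?_⟩, hφe⟩
    obtain rfl : R = T := SetLike.coe_injective (hR.symm.trans (mapFn_image_S hβ))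
    have hβF := (mapFn_subSystem.mp hβ).1
    obtain ⟨χ, hχ, hχe⟩ := mapFn_transport hE (⟨φ, hφ, hφe⟩ : MapFn E R a) hβF
      (mapFn_image_S hβ) hR
    obtain ⟨P', -, hP'⟩ := (hβF.mono hP.1).exists_image
    obtain ⟨ψ, ⟨hψ, hψE⟩, hψe⟩ := haP
    obtain ⟨ξ, hξ, hξe⟩ := hψE X hX β hβ P' hP'
    refine ⟨χ, hX.2 χ P' (centric_transport hE hβF (mapFn_image_S hβ) hP hP') hχ
      (hξ.congr fun y hy => ?_), fun x => ?_⟩
    · obtain ⟨x, hx, rfl⟩ := exists_of_image hP' hy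
      rw [hξe ⟨x, hx⟩, hψe, hχe x (hP.1 hx)]
    · rw [hχe x x.2, hφe]

variable [Fact p.Prime]

theorem res_invariant [Finite T] (hS : IsPGroup p S) (hE : E.IsWeaklyNormalIn F p) :
    (res p E).IsInvariantIn F := by
  obtain ⟨hEs, -, hEi⟩ := hE
  refine ⟨fun P φ hφ => hEi.1 P (res_le p E P hφ), hEi.2.1, fun P hPT φ hφ α hα => ?_,
    fun P hP φ hφ => ?_⟩
  · obtain ⟨b, hb, hbr, hbe⟩ := exists_mapFn_of_aut hEi.2.1.1 hα
    obtain ⟨R, -, hR⟩ := (hb.mono hPT).exists_image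
    have hR' : R = (P.subgroupOf T).map (T.subtype.comp α.toMonoidHom) := by
      refine SetLike.coe_injective (hR.symm.trans ?_)
      ext y
      constructor
      · rintro ⟨x, hx, rfl⟩; exact ⟨⟨x, hPT hx⟩, hx, (hbe ⟨x, hPT hx⟩).symm⟩
      · rintro ⟨x, hx, rfl⟩; exact ⟨x, hx, hbe x⟩
    subst hR'
    obtain ⟨χ, hχ, hχe⟩ := (res_le_of (res_adm_sub hEi) P hφ).2 (res p E) res_adm b
      (mapFn_subSystem.mpr ⟨hb, le_rfl⟩) _ hR
    obtain ⟨ψ, hψ, hψe⟩ := hχ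
    refine ⟨ψ, hψ, fun x hφx hαx => ?_⟩
    rw [hψe]
    show χ ((α ⟨x, hPT x.2⟩ : T) : Ω) = _
    rw [← hbe ⟨φ x, hφx⟩, ← hbe ⟨x, hPT x.2⟩, hχe]
  · obtain ⟨f, hf, hfe⟩ := mapFn_of_hom hφ
    obtain ⟨a, f₀, ha, har, hf₀, he⟩ := mapFn_frattini hEi hP hf
    obtain ⟨β, hβ, f₁, hf₁, hfe₁⟩ := exists_val (hS.to_le hEi.2.1.1) hEs hf₀
    obtain ⟨α, hα, hαe⟩ := ha.exists_aut har
    obtain ⟨φ₁, hφ₁, hφ₁e⟩ := hf₁
    refine ⟨α * β, Subgroup.mul_mem _ hα (autGroup_le_of_sub hEi.2.1.1 hEi.1 le_rfl hβ), φ₁, hφ₁,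
      fun x hx => ?_⟩
    rw [hfe, he x x.2, hfe₁ x x.2, ← hφ₁e, ev_coe β hx, MulAut.mul_apply, hαe]

omit [Fact p.Prime] in
/-- Centric subgroups of an invariant system are closed under conjugation in `F`. -/
theorem centric_of_F (hE : E.IsInvariantIn F) (hQ : E.IsCentric Q) (hc : F.IsConj Q R) (_ : R ≤ T) :
    E.IsCentric R := by
  obtain ⟨f, hf, hfr⟩ := isConj_iff.mp hc
  obtain ⟨a, f₀, ha, har, hf₀, he⟩ := mapFn_frattini hE hQ.1 hf
  obtain ⟨X, -, hX⟩ := hf₀.exists_image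
  refine centric_transport hE ha har (IsCentric.of_conj hQ (hf₀.isConj hX)) ?_
  rw [← hfr, ← hX, Set.image_image]
  exact Set.image_congr fun x hx => (he x hx).symm

/-! ### The family -/

/-- `b` extends to `Q C_S(Q)`, fixing `C_S(Q)` modulo `T`. -/
def trivSub [Finite S] (hT : F.StronglyClosed T) (hQ : Q ≤ T) : Subgroup (MulAut Q) where
  carrier := {b | ∃ f, MapFn F (Q ⊔ centralizerIn S Q) f ∧ (∀ x : Q, f x = ((b x : Q) : Ω)) ∧
    ∀ c ∈ centralizerIn S Q, c⁻¹ * f c ∈ T}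
  one_mem' := ⟨id, mapFn_id (sup_le (hQ.trans hT.1) centralizerIn_le), fun _ => rfl,
    fun c _ => by simp⟩
  mul_mem' := by
    rintro a b ⟨f, hf, hfe, hfc⟩ ⟨g, hg, hge, hgc⟩
    have hgQ : g '' Q = (Q : Set Ω) := by
      ext y
      constructor
      · rintro ⟨x, hx, rfl⟩; rw [hge ⟨x, hx⟩]; exact Subtype.mem _
      · exact fun hy => ⟨((b.symm ⟨y, hy⟩ : Q) : Ω), Subtype.mem _, by rw [hge]; simp⟩
    have hgC : ∀ c ∈ centralizerIn S Q, g c ∈ centralizerIn S Q := fun c hc =>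
      hg.mem_centralizerIn le_sup_left hgQ (Subgroup.mem_sup_right hc) hc
    have hgm : ∀ x ∈ Q ⊔ centralizerIn S Q, g x ∈ Q ⊔ centralizerIn S Q := hg.maps_sup
      (fun x hx => Subgroup.mem_sup_left (mem_of_image hgQ hx))
      (fun x hx => Subgroup.mem_sup_right (hgC x hx))
    refine ⟨f ∘ g, hg.comp hf hgm, fun x => ?_, fun c hc => ?_⟩
    · show f (g x) = _
      rw [hge, hfe]; rfl
    · show c⁻¹ * f (g c) ∈ T
      set t := c⁻¹ * g c with ht
      have htC : t ∈ centralizerIn S Q := Subgroup.mul_mem _ (Subgroup.inv_mem _ hc) (hgC c hc)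
      obtain ⟨φ, hφ, hφe⟩ := hf.mono
        (Subgroup.zpowers_le.mpr (Subgroup.mem_sup_right htC : t ∈ Q ⊔ centralizerIn S Q))
      have hft : f t ∈ T := by
        rw [← hφe ⟨t, Subgroup.mem_zpowers t⟩]
        exact hT.2 _ (Subgroup.zpowers_le.mpr (hgc c hc)) _ hφ _
      have e : g c = c * t := by rw [ht, mul_inv_cancel_left]
      rw [e, hf.map_mul (Subgroup.mem_sup_right hc) (Subgroup.mem_sup_right htC), ← mul_assoc]
      exact T.mul_mem (hfc c hc) hft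
  inv_mem' := by
    rintro a ⟨f, hf, hfe, hfc⟩
    have hfQ : f '' Q = (Q : Set Ω) := by
      ext y
      constructor
      · rintro ⟨x, hx, rfl⟩; rw [hfe ⟨x, hx⟩]; exact Subtype.mem _
      · exact fun hy => ⟨((a.symm ⟨y, hy⟩ : Q) : Ω), Subtype.mem _, by rw [hfe]; simp⟩
    have hM : f '' (Q ⊔ centralizerIn S Q : Subgroup Ω) = (Q ⊔ centralizerIn S Q : Subgroup Ω) :=
      hf.image_eq_of_maps hf.le_S (hf.maps_sup
        (fun x hx => Subgroup.mem_sup_left (mem_of_image hfQ hx))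
        (fun x hx => Subgroup.mem_sup_right
          (hf.mem_centralizerIn le_sup_left hfQ (Subgroup.mem_sup_right hx) hx))) le_rfl
    obtain ⟨g, hg, hgr, hg₁, hg₂⟩ := hf.exists_inv hM
    have hle : Q ⊔ centralizerIn S Q ≤ Q ⊔ centralizerIn S Q := le_rfl
    refine ⟨g, hg.mono hle, fun x => ?_, fun c hc => ?_⟩
    · rw [show ((x : Q) : Ω) = f ((a⁻¹ x : Q) : Ω) by rw [hfe, MulAut.apply_inv_self]]
      exact hg₁ _ (Subgroup.mem_sup_left (Subtype.mem _))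
    · have hgc := mem_of_image hgr (hle (Subgroup.mem_sup_right hc))
      have hgC : g c ∈ centralizerIn S Q := by
        have hgQ : g '' Q = (Q : Set Ω) := by
          rw [← hfQ, Set.image_image]
          exact ((Set.image_congr fun x hx => hg₁ x (Subgroup.mem_sup_left hx)).trans
            (Set.image_id' _)).trans hfQ.symm
        exact hg.mem_centralizerIn (le_sup_left.trans hle) hgQ (hle (Subgroup.mem_sup_right hc)) hc
      have h := hfc (g c) hgC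
      rw [hg₂ c (hle (Subgroup.mem_sup_right hc))] at h
      simpa using T.inv_mem h

section normal

variable [Finite S]

/-- A map on `Q C_S(Q)` fixing `Q` and stabilizing `Q C_S(Q) / Q` is induced by `C_S(Q)` when `Q` is
fully centralized. -/
theorem exists_conj_centralizer (hS : IsPGroup p S) (hF : F.IsSaturated p)
    (hQ : F.IsFullyCentralized Q) {τ : Ω → Ω} (hτ : MapFn F (Q ⊔ centralizerIn S Q) τ)
    (hfix : ∀ x ∈ Q, τ x = x) (hst : ∀ c ∈ centralizerIn S Q, c⁻¹ * τ c ∈ Q) :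
    ∃ c ∈ centralizerIn S Q, ∀ x ∈ Q ⊔ centralizerIn S Q, τ x = c * x * c⁻¹ := by
  set W := Q ⊔ centralizerIn S Q with hW
  have hQS := hQ.1
  have hWN : W ≤ normalizerIn S Q := sup_le_normalizerIn hQS
  have hWS : W ≤ S := hWN.trans normalizerIn_le
  have hQW : Q ≤ W := le_sup_left
  have hdiff : ∀ x ∈ W, x⁻¹ * τ x ∈ Q := by
    let D : Subgroup Ω :=
      { carrier := {x | x ∈ W ∧ x⁻¹ * τ x ∈ Q}
        one_mem' := ⟨W.one_mem, by rw [hτ.map_one]; simp⟩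
        mul_mem' := fun {x y} hx hy => ⟨W.mul_mem hx.1 hy.1, by
          have h := Q.mul_mem (conj_mem_of_normalizer (Subgroup.inv_mem _ (hWN hy.1).2) hx.2) hy.2
          rw [hτ.map_mul hx.1 hy.1]
          simpa [mul_assoc] using h⟩
        inv_mem' := fun {x} hx => ⟨W.inv_mem hx.1, by
          have h := Q.inv_mem (conj_mem_of_normalizer (hWN hx.1).2 hx.2)
          rw [hτ.map_inv hx.1]
          simpa [mul_assoc] using h⟩ }
    have hle : W ≤ D := sup_le (fun x hx => ⟨hQW hx, by rw [hfix x hx]; simp⟩)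
      (fun x hx => ⟨Subgroup.mem_sup_right hx, hst x hx⟩)
    exact fun x hx => (hle hx).2
  haveI := finite_of_le hWS
  haveI := finite_mulAut hWS
  have hτW : τ '' W = (W : Set Ω) := hτ.image_eq_of_maps hWS
    (fun x hx => by simpa using W.mul_mem hx (hQW (hdiff x hx))) le_rfl
  obtain ⟨α, hα, hαe⟩ := hτ.exists_aut hτW
  obtain ⟨k, hk⟩ : ∃ k, α ^ p ^ k = 1 := by
    refine exists_pow_eq_one_of_stabilizes (hS.to_le hWS) (n := 1)
      (fun i => if i = 0 then Q.subgroupOf W else ⊤) (fun i hi => ?_) rfl ⟨0, fun x hx => ?_⟩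
      fun i hi x hx => ?_
    · obtain rfl : i = 0 := by omega
      simp
    · rw [if_pos rfl, Subgroup.mem_subgroupOf] at hx
      refine Subtype.ext ?_
      simpa [hαe] using hfix _ hx
    · obtain rfl : i = 0 := by omega
      rw [if_pos rfl, Subgroup.mem_subgroupOf, Subgroup.coe_mul, Subgroup.coe_inv, hαe]
      exact hdiff _ x.2
  obtain ⟨W', hW'a, -, hW'c, -⟩ := exists_good_conj hS hF hWS
  obtain ⟨u₀, hu₀, hu₀r⟩ := isConj_iff.mp hW'c
  obtain ⟨φ, hφ, hφe⟩ := hu₀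
  obtain ⟨e, he⟩ := exists_equiv (Q := W') hφ
    (SetLike.coe_injective (by rw [← MapFn.image_eq_range hφe, hu₀r]))
  have hαp : IsPGroup p (Subgroup.zpowers α) := by
    obtain ⟨l, -, hl⟩ :=
      (Nat.dvd_prime_pow (Fact.out : p.Prime)).mp (orderOf_dvd_of_pow_eq_one hk)
    exact IsPGroup.of_card (by rw [Nat.card_zpowers, hl])
  obtain ⟨β, hβ, hβA⟩ := FullyAutomized.exists_conj hW'a
    (A := (Subgroup.zpowers α).map (MulAut.congr e).toMonoidHom)
    ((Subgroup.map_mono (Subgroup.zpowers_le.mpr hα)).trans (map_autGroup hφ he).le) (hαp.map _)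
  obtain ⟨h, hh, hhe⟩ := mem_autInducedBy.mp (hβA _ ⟨α, Subgroup.mem_zpowers α, rfl⟩)
  obtain ⟨b, hb, hbr, hbe⟩ := exists_mapFn_of_aut hW'a.1 hβ
  have hu : MapFn F W (b ∘ u₀) := MapFn.comp ⟨φ, hφ, hφe⟩ hb fun x hx => mem_of_image hu₀r hx
  have hue : ∀ x : W, (b ∘ u₀) x = ((β (e x) : W') : Ω) := fun x => by
    rw [← hbe]
    show b (u₀ (x : Ω)) = b ((e x : W') : Ω)
    rw [he, hφe]
  have hkey : ∀ x ∈ W, (b ∘ u₀) (τ x) = h * (b ∘ u₀) x * h⁻¹ := by
    intro x hx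
    have h1 := hhe (β (e ⟨x, hx⟩))
    rw [MulAut.mul_apply, MulAut.mul_apply, MulAut.inv_apply, MulEquiv.symm_apply_apply,
      ← hue ⟨x, hx⟩] at h1
    have h2 := hue (α ⟨x, hx⟩)
    rw [hαe] at h2
    rw [h2, ← h1]
    simp [MulAut.congr]
  obtain ⟨Q', -, hQ'⟩ := (hu.mono hQW).exists_image
  have hh' : h ∈ centralizerIn S Q' := by
    refine mem_centralizerIn'.mpr ⟨hh, fun y => ?_⟩
    obtain ⟨x, hx, hxy⟩ := exists_of_image hQ' y.2
    rw [← hxy, ← hkey x (hQW hx), hfix x hx]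
  have him := (hu.mono (le_sup_right : centralizerIn S Q ≤ W)).image_eq_of_maps centralizerIn_le
    (fun x hx => hu.mem_centralizerIn hQW hQ' (Subgroup.mem_sup_right hx) hx)
    (hQ.2 Q' ((hu.mono hQW).isConj hQ'))
  obtain ⟨z, hz, hzh⟩ := exists_of_image him hh'
  have hzW : z ∈ W := Subgroup.mem_sup_right hz
  refine ⟨z, hz, fun g hg => hu.injOn (mem_of_image hτW hg)
    (W.mul_mem (W.mul_mem hzW hg) (W.inv_mem hzW)) ?_⟩
  rw [hkey g hg, hu.map_conj hzW hg, hzh]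

omit [Fact p.Prime] in
theorem map_mem_of_sc (hT : F.StronglyClosed T) {f : Ω → Ω} (hf : MapFn F P f) {x : Ω} (hx : x ∈ P)
    (hxT : x ∈ T) : f x ∈ T := by
  obtain ⟨φ, hφ, hφe⟩ := hf.mono (Subgroup.zpowers_le.mpr hx)
  rw [← hφe ⟨x, Subgroup.mem_zpowers x⟩]
  exact hT.2 _ (Subgroup.zpowers_le.mpr hxT) φ hφ _

omit [Fact p.Prime] [Finite S] in
theorem le_of_conj_sc (hT : F.StronglyClosed T) {φ : P →* Ω} (hφ : φ ∈ F.Hom P) (hP : P ≤ T)
    {e : P ≃* R} (he : ∀ x : P, ((e x : R) : Ω) = φ x) : R ≤ T := fun y hy => by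
  obtain ⟨x, hx⟩ := e.surjective ⟨y, hy⟩
  rw [show y = φ x by rw [← he, hx]]
  exact hT.2 P hP φ hφ x

omit [Fact p.Prime] in
/-- `Aut_F(Q)` normalizes `trivSub` for fully centralized `Q`. -/
theorem trivSub_conj (hS : IsPGroup p S) (hF : F.IsSaturated p) [Fact p.Prime]
    (hT : F.StronglyClosed T) (hQT : Q ≤ T) (hQ : F.IsFullyCentralized Q) {a b : MulAut Q}
    (ha : a ∈ F.autGroup Q) (hb : b ∈ trivSub hT hQT) : a * b * a⁻¹ ∈ trivSub hT hQT := by
  obtain ⟨h, hh, hhr, hhe⟩ := exists_mapFn_of_aut (hQT.trans hT.1) ha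
  obtain ⟨g, hg, hge⟩ := hh.extend_centralizer hS hF hQ hhr
  have hgQ : g '' Q = (Q : Set Ω) := (Set.image_congr hge).trans hhr
  obtain ⟨f, hf, hfe, hfc⟩ := hb
  have hm : ∀ {k : Ω → Ω}, MapFn F (Q ⊔ centralizerIn S Q) k → k '' Q = (Q : Set Ω) →
      ∀ x ∈ Q ⊔ centralizerIn S Q, k x ∈ Q ⊔ centralizerIn S Q := fun {k} hk hkQ => hk.maps_sup
    (fun x hx => Subgroup.mem_sup_left (mem_of_image hkQ hx))
    (fun x hx => Subgroup.mem_sup_right
      (hk.mem_centralizerIn le_sup_left hkQ (Subgroup.mem_sup_right hx) hx))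
  have hfQ : f '' Q = (Q : Set Ω) := by
    ext y
    constructor
    · rintro ⟨x, hx, rfl⟩; rw [hfe ⟨x, hx⟩]; exact Subtype.mem _
    · exact fun hy => ⟨((b.symm ⟨y, hy⟩ : Q) : Ω), Subtype.mem _, by rw [hfe]; simp⟩
  obtain ⟨g', hg', hg'r, hg'₁, hg'₂⟩ :=
    hg.exists_inv (hg.image_eq_of_maps hg.le_S (hm hg hgQ) le_rfl)
  refine ⟨g ∘ f ∘ g', (hg'.comp hf fun x hx => mem_of_image hg'r hx).comp hg
    fun x hx => hm hf hfQ _ (mem_of_image hg'r hx), fun x => ?_, fun c hc => ?_⟩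
  · have hx : g' x = ((a⁻¹ x : Q) : Ω) := by
      refine hg.injOn (mem_of_image hg'r (Subgroup.mem_sup_left x.2))
        (Subgroup.mem_sup_left (Subtype.mem _)) ?_
      rw [hg'₂ _ (Subgroup.mem_sup_left x.2), hge _ (Subtype.mem _), hhe, MulAut.apply_inv_self]
    show g (f (g' x)) = _
    rw [hx, hfe, hge _ (Subtype.mem _), hhe]
    rfl
  · obtain ⟨d, hd, rfl⟩ := exists_of_image
      ((hg.mono (le_sup_right : centralizerIn S Q ≤ Q ⊔ _)).image_eq_of_maps centralizerIn_le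
        (fun x hx => hg.mem_centralizerIn le_sup_left hgQ (Subgroup.mem_sup_right hx) hx) le_rfl) hc
    show (g d)⁻¹ * g (f (g' (g d))) ∈ T
    have hdD : d ∈ Q ⊔ centralizerIn S Q := Subgroup.mem_sup_right hd
    rw [hg'₁ d hdD, ← hg.map_inv hdD, ← hg.map_mul (Subgroup.inv_mem _ hdD) (hm hf hfQ d hdD)]
    exact map_mem_of_sc hT hg (Subgroup.mul_mem _ (Subgroup.inv_mem _ hdD) (hm hf hfQ d hdD))
      (hfc d hd)

omit [Finite S] [Fact p.Prime] in
theorem congr_trans {A B C : Subgroup Ω} (e : A ≃* B) (e' : B ≃* C) (a : MulAut A) :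
    MulAut.congr e' (MulAut.congr e a) = MulAut.congr (e.trans e') a :=
  MulEquiv.ext fun _ => rfl

/-- The automorphisms whose fully normalized conjugates lie in `trivSub`. -/
def strongTriv (hT : F.StronglyClosed T) (P : Subgroup Ω) : Subgroup (MulAut P) where
  carrier := {a | ∀ (R : Subgroup Ω) (hR : R ≤ T) (φ : P →* Ω) (e : P ≃* R),
    F.IsFullyNormalized R → φ ∈ F.Hom P → (∀ x : P, ((e x : R) : Ω) = φ x) →
      MulAut.congr e a ∈ trivSub hT hR}
  one_mem' R hR φ e _ _ _ := by rw [map_one]; exact Subgroup.one_mem _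
  mul_mem' {a b} ha hb R hR φ e h₁ h₂ h₃ := by
    rw [map_mul]; exact Subgroup.mul_mem _ (ha R hR φ e h₁ h₂ h₃) (hb R hR φ e h₁ h₂ h₃)
  inv_mem' {a} ha R hR φ e h₁ h₂ h₃ := by
    rw [map_inv]; exact Subgroup.inv_mem _ (ha R hR φ e h₁ h₂ h₃)

omit [Fact p.Prime] [Finite S] in
theorem normalizerIn_le_of_map (hT : F.StronglyClosed T) {f : Ω → Ω} {N : Subgroup Ω}
    [Finite S] (hf : MapFn F N f) (hN : N ≤ T) (hQN : Q ≤ N) (hNQ : N ≤ normalizerIn T Q)
    (hr : f '' Q = (R : Set Ω)) {x : Ω} (hx : x ∈ N) : f x ∈ normalizerIn T R :=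
  ⟨map_mem_of_sc hT hf hx (hN hx), (hf.mem_normalizerIn hQN hr hx (hNQ hx).2).2⟩

theorem card_normalizerIn_le (hS : IsPGroup p S) (hF : F.IsSaturated p) (hT : F.StronglyClosed T)
    (hR : F.IsFullyNormalized R) (hc : F.IsConj Q R) (hQT : Q ≤ T) :
    Nat.card (normalizerIn T Q) ≤ Nat.card (normalizerIn T R) := by
  obtain ⟨g, hg, hgr, -⟩ := exists_normalizer_mapFn hS hF hR hc
  have hle : normalizerIn T Q ≤ normalizerIn S Q := inf_le_inf_right _ hT.1
  obtain ⟨φ, hφ, hφe⟩ := hg.mono hle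
  refine card_le_of_map hφ (normalizerIn_le.trans hT.1) fun x => ?_
  rw [hφe]
  exact normalizerIn_le_of_map hT (hg.mono hle) normalizerIn_le (le_normalizerIn hQT) le_rfl hgr x.2

theorem isFullyNormalized_sub (hS : IsPGroup p S) (hF : F.IsSaturated p) (hT : F.StronglyClosed T)
    (hE : E.IsSubsystemOf F) (hR : F.IsFullyNormalized R) (hRT : R ≤ T) :
    E.IsFullyNormalized R := by
  refine ⟨hRT, fun X hX => ?_⟩
  obtain ⟨f, hf, hfr⟩ := isConj_iff.mp hX
  exact card_normalizerIn_le hS hF hT hR (isConj_symm ((mapFn_of_sub hE hf).isConj hfr))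
    (IsConj.le_right hX)

theorem card_normalizerIn_eq (hS : IsPGroup p S) (hF : F.IsSaturated p) (hE : E.IsInvariantIn F)
    (hQ : E.IsFullyNormalized Q) (hR : F.IsFullyNormalized R) (hc : F.IsConj Q R) (hRT : R ≤ T) :
    Nat.card (normalizerIn T R) = Nat.card (normalizerIn T Q) := by
  refine le_antisymm ?_ (card_normalizerIn_le hS hF hE.2.1 hR hc hQ.1)
  obtain ⟨f, hf, hfr⟩ := isConj_iff.mp hc
  obtain ⟨a, f₀, ha, har, hf₀, he⟩ := mapFn_frattini hE hQ.1 hf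
  obtain ⟨X, hXT, hX⟩ := hf₀.exists_image
  obtain ⟨b, hb, hbr, hb₁, -⟩ := ha.exists_inv har
  have hbR : b '' R = (X : Set Ω) := by
    rw [← hfr, ← hX, Set.image_image]
    exact Set.image_congr fun x hx => by rw [he x hx, hb₁ _ (hf₀.mem_S hx)]
  obtain ⟨φ, hφ, hφe⟩ := hb.mono (normalizerIn_le : normalizerIn T R ≤ T)
  refine le_trans ?_ (hQ.2 X (hf₀.isConj hX))
  refine card_le_of_map hφ (normalizerIn_le.trans hE.2.1.1) fun x => ?_
  rw [hφe]
  exact normalizerIn_le_of_map hE.2.1 (hb.mono normalizerIn_le) normalizerIn_le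
    (le_normalizerIn hRT) le_rfl hbR x.2

theorem pPrimeAut_le_strongTriv (hS : IsPGroup p S) (hE : E.IsWeaklyNormalIn F p)
    (hP : P ≤ T) : pPrimeAut p E P ≤ strongTriv hE.2.2.2.1 P := by
  obtain ⟨hEs, hF, hEi⟩ := hE
  have hT := hEi.2.1
  refine pPrimeAut_le fun a ha k hk R hR φ e hRn hφ he => ?_
  haveI := finite_of_le hT.1
  haveI := finite_mulAut hR
  have ha' : MulAut.congr e a ∈ E.autGroup R :=
    autGroup_congr_of_strong (stronglyInvariant_of_invariant hEi) hP hR hφ he ha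
  obtain ⟨hRa, -⟩ := fullyNormalized_good (hS.to_le hT.1) hEs
    (isFullyNormalized_sub hS hF hT hEi.1 hRn hR)
  have hord : orderOf (MulAut.congr e a) = p ^ k := by rw [MulEquiv.orderOf_eq]; exact hk
  obtain ⟨γ, hγ, hγA⟩ := FullyAutomized.exists_conj hRa
    (Subgroup.zpowers_le.mpr ha') (IsPGroup.of_card (by rw [Nat.card_zpowers, hord]))
  obtain ⟨t, ht, hte⟩ := mem_autInducedBy.mp (hγA _ (Subgroup.mem_zpowers _))
  have htr : γ * MulAut.congr e a * γ⁻¹ ∈ trivSub hT hR := by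
    refine ⟨fun x => t * x * t⁻¹, mapFn_conj (sup_le (hR.trans hT.1) centralizerIn_le) (hT.1 ht),
      fun x => (hte x).symm, fun c hc => ?_⟩
    have h1 : c⁻¹ * t * c ∈ T := by
      have := map_mem_of_sc hT (mapFn_conj (F := F) (P := S) le_rfl (S.inv_mem hc.1)) (hT.1 ht) ht
      simpa using this
    have := T.mul_mem h1 (T.inv_mem ht)
    simpa [mul_assoc] using this
  have hfc := isFullyCentralized_of_fullyNormalized hS hF hRn
  have h := trivSub_conj hS hF hT hR hfc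
    (Subgroup.inv_mem _ (autGroup_le_of_sub hT.1 hEi.1 hR hγ)) htr
  simpa [mul_assoc] using h

theorem trivSub_of_restrict (hS : IsPGroup p S) (hE : E.IsWeaklyNormalIn F p)
    (hQn : E.IsFullyNormalized Q) (hQc : E.IsCentric Q) {M : Subgroup Ω} (hM : M ≤ T)
    {a : MulAut (normalizerIn T Q)} (ha : a ∈ E.autGroup (normalizerIn T Q)) {b : MulAut Q}
    (hb : b ∈ strongTriv hE.2.2.2.1 Q)
    (hab : ∀ (x : Q) (hx : (x : Ω) ∈ normalizerIn T Q),
      ((a ⟨x, hx⟩ : normalizerIn T Q) : Ω) = ((b x : Q) : Ω))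
    {φ : normalizerIn T Q →* Ω} (hφ : φ ∈ F.Hom (normalizerIn T Q))
    {e : normalizerIn T Q ≃* M} (he : ∀ x, ((e x : M) : Ω) = φ x)
    (hMn : F.IsFullyNormalized M) : MulAut.congr e a ∈ trivSub hE.2.2.2.1 hM := by
  obtain ⟨hEs, hF, hEi⟩ := hE
  have hT := hEi.2.1
  have hTS := hT.1
  haveI := finite_of_le hTS
  have hMS : M ≤ S := hM.trans hTS
  haveI := finite_of_le hMS
  haveI := finite_mulAut hMS
  have hQN : Q ≤ normalizerIn T Q := le_normalizerIn hQn.1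
  obtain ⟨f, hf, hfe⟩ := mapFn_of_hom hφ
  have he' : ∀ x : normalizerIn T Q, f x = ((e x : M) : Ω) := fun x => (hfe x).symm.trans (he x).symm
  have hfM : f '' (normalizerIn T Q) = (M : Set Ω) := by
    rw [MapFn.image_eq_range hfe]
    ext y
    constructor
    · rintro ⟨x, rfl⟩; rw [← he]; exact Subtype.mem _
    · exact fun hy => ⟨e.symm ⟨y, hy⟩, by rw [← he, MulEquiv.apply_symm_apply]⟩
  obtain ⟨Q', hQ'S, hQ'⟩ := (hf.mono hQN).exists_image
  have hQ'M : Q' ≤ M := fun y hy => by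
    obtain ⟨x, hx, rfl⟩ := exists_of_image hQ' hy
    exact mem_of_image hfM (hQN hx)
  have hQ'T : Q' ≤ T := hQ'M.trans hM
  have hMQ' : M ≤ normalizerIn S Q' := fun y hy => by
    obtain ⟨x, hx, rfl⟩ := exists_of_image hfM hy
    exact hf.mem_normalizerIn hQN hQ' hx hx.2
  -- a fully normalized conjugate of the image of `Q`
  obtain ⟨Q₀, g, hQ₀n, hg, hgQ, hgm⟩ := exists_fullyNormalized_mapFn hS hF hQ'S
  have hcQ : F.IsConj Q Q₀ := isConj_trans ((hf.mono hQN).isConj hQ')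
    ((hg.mono (le_normalizerIn hQ'S)).isConj hgQ)
  have hQ₀T : Q₀ ≤ T := fun y hy => by
    obtain ⟨x, hx, rfl⟩ := exists_of_image hgQ hy
    exact map_mem_of_sc hT hg (le_normalizerIn hQ'S hx) (hQ'T hx)
  have hgM : g '' M = (normalizerIn T Q₀ : Set Ω) := (hg.mono hMQ').image_eq_of_maps
    (normalizerIn_le.trans hTS)
    (fun x hx => ⟨map_mem_of_sc hT hg (hMQ' hx) (hM hx), (hgm x (hMQ' hx)).2⟩)
    (by rw [card_normalizerIn_eq hS hF hEi hQn hQ₀n hcQ hQ₀T, (hf.card_image hfM)])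
  -- the transport of `b` to `Q₀`
  have hgf : MapFn F Q (g ∘ f) := (hf.mono hQN).comp (hg.mono (le_normalizerIn hQ'S))
    fun x hx => mem_of_image hQ' hx
  obtain ⟨ψ, hψ, hψe⟩ := hgf
  obtain ⟨e₀, he₀⟩ := exists_equiv hψ
    (SetLike.coe_injective (by rw [← MapFn.image_eq_range hψe]; exact image_comp hQ' hgQ) :
      ψ.range = Q₀)
  obtain ⟨ψ₀, hψ₀, hψ₀e, hψ₀c⟩ := hb Q₀ hQ₀T ψ e₀ hQ₀n hψ he₀
  have hbQ : ∀ x : Q, ψ₀ (g (f x)) = g (f ((b x : Q) : Ω)) := fun x => by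
    have h1 : g (f x) = ((e₀ x : Q₀) : Ω) := (hψe x).symm.trans (he₀ x).symm
    have h2 : g (f ((b x : Q) : Ω)) = ((e₀ (b x) : Q₀) : Ω) := (hψe _).symm.trans (he₀ _).symm
    rw [h1, h2, hψ₀e]
    show ((e₀ (b (e₀.symm (e₀ x))) : Q₀) : Ω) = _
    rw [MulEquiv.symm_apply_apply]
  -- the transport of `a` to `M`
  set a' := MulAut.congr e a
  have ha' : a' ∈ E.autGroup M := autGroup_congr_of_strong (stronglyInvariant_of_invariant hEi)
    normalizerIn_le hM hφ he ha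
  have ha'e : ∀ x : normalizerIn T Q, ((a' (e x) : M) : Ω) = f ((a x : normalizerIn T Q) : Ω) :=
    fun x => by
      rw [he']
      show ((e (a (e.symm (e x))) : M) : Ω) = _
      rw [MulEquiv.symm_apply_apply]
  obtain ⟨fa, hfa, -, hfae⟩ := exists_mapFn_of_aut hMS (autGroup_le_of_sub hTS hEi.1 hM ha')
  have hfaQ : ∀ x ∈ Q', g (fa x) = ψ₀ (g x) ∧ fa x ∈ Q' := by
    intro x hx
    obtain ⟨z, hz, rfl⟩ := exists_of_image hQ' hx
    have h1 : fa (f z) = f ((b ⟨z, hz⟩ : Q) : Ω) := by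
      rw [← hab ⟨z, hz⟩ (hQN hz), ← ha'e, ← hfae]
      exact congrArg fa (he' ⟨z, hQN hz⟩)
    exact ⟨by rw [h1, hbQ ⟨z, hz⟩], by rw [h1]; exact mem_of_image hQ' (Subtype.mem _)⟩
  -- `ψ₀` extends to `N_T(Q₀) C_S(Q₀)`
  set D := Q₀ ⊔ centralizerIn S Q₀ with hD
  have hQ₀S := hQ₀n.1
  have hDN : D ≤ normalizerIn S Q₀ := sup_le_normalizerIn hQ₀S
  have hfc := isFullyCentralized_of_fullyNormalized hS hF hQ₀n
  have hDc := isCentric_sup_centralizer hfc
  have hMN : normalizerIn T Q₀ ≤ normalizerIn S Q₀ := inf_le_inf_right _ hTS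
  have hQ₀M : Q₀ ≤ normalizerIn T Q₀ := le_normalizerIn hQ₀T
  have hψ₀Q : ψ₀ '' Q₀ = (Q₀ : Set Ω) := by
    refine (hψ₀.mono le_sup_left).image_eq_of_maps hQ₀S (fun x hx => ?_) le_rfl
    rw [hψ₀e ⟨x, hx⟩]; exact Subtype.mem _
  have hψ₀D : ψ₀ '' D = (D : Set Ω) := hψ₀.image_eq_of_maps hψ₀.le_S (hψ₀.maps_sup
    (fun x hx => Subgroup.mem_sup_left (mem_of_image hψ₀Q hx))
    (fun x hx => Subgroup.mem_sup_right
      (hψ₀.mem_centralizerIn le_sup_left hψ₀Q (Subgroup.mem_sup_right hx) hx))) le_rfl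
  have hnD : ∀ z ∈ normalizerIn S Q₀, ∀ x ∈ D, z * x * z⁻¹ ∈ D := fun z hz =>
    (mapFn_conj (F := F) hψ₀.le_S hz.1).maps_sup
      (fun x hx => Subgroup.mem_sup_left (conj_mem_of_normalizer hz.2 hx))
      (fun c hc => Subgroup.mem_sup_right (by
        refine mem_centralizerIn.mpr ⟨S.mul_mem (S.mul_mem hz.1 hc.1) (S.inv_mem hz.1), fun y hy => ?_⟩
        have h := (mem_centralizerIn.mp hc).2 (z⁻¹ * y * z)
          (by simpa using conj_mem_of_normalizer (Subgroup.inv_mem _ hz.2) hy)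
        calc y * (z * c * z⁻¹) = z * (z⁻¹ * y * z * c) * z⁻¹ := by group
          _ = z * (c * (z⁻¹ * y * z)) * z⁻¹ := by rw [h]
          _ = z * c * z⁻¹ * y := by group))
  haveI : Finite D := finite_of_le hψ₀.le_S
  have hnD' : normalizerIn T Q₀ ≤ normalizerIn S D := fun z hz =>
    ⟨hTS hz.1, mem_normalizer_of_forall (hnD z (hMN hz))⟩
  obtain ⟨ψ₁, hψ₁, hψ₁e⟩ := hψ₀.exists_extension (N := D ⊔ normalizerIn T Q₀)
    (receptive_of_fullyCentralized hS hF (isFullyCentralized_of_centric hDc)) hψ₀D le_sup_left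
    (sup_le (le_normalizerIn hψ₀.le_S) hnD') (by
      let X : Subgroup Ω :=
        { carrier := {z | z ∈ normalizerIn S D ∧
            ∃ s ∈ S, ∀ x ∈ D, ψ₀ (z * x * z⁻¹) = s * ψ₀ x * s⁻¹}
          one_mem' := ⟨Subgroup.one_mem _, 1, S.one_mem, fun x _ => by simp⟩
          mul_mem' := fun {z w} ⟨hz, s, hs, hse⟩ ⟨hw, t, ht, hte⟩ =>
            ⟨Subgroup.mul_mem _ hz hw, s * t, S.mul_mem hs ht, fun x hx => by
              rw [show z * w * x * (z * w)⁻¹ = z * (w * x * w⁻¹) * z⁻¹ by group,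
                hse _ (conj_mem_of_normalizer hw.2 hx), hte x hx]
              group⟩
          inv_mem' := fun {z} ⟨hz, s, hs, hse⟩ =>
            ⟨Subgroup.inv_mem _ hz, s⁻¹, S.inv_mem hs, fun x hx => by
              have hx' : z⁻¹ * x * z ∈ D := by
                simpa using conj_mem_of_normalizer (Subgroup.inv_mem _ hz.2) hx
              have h := hse _ hx'
              rw [show z * (z⁻¹ * x * z) * z⁻¹ = x by group] at h
              rw [inv_inv, h]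
              group⟩ }
      suffices h : D ⊔ normalizerIn T Q₀ ≤ X from fun z hz => (h hz).2
      refine sup_le (fun d hd => ⟨le_normalizerIn hψ₀.le_S hd, ψ₀ d, hψ₀.mem_S hd, fun x hx =>
        hψ₀.map_conj hd hx⟩) fun z hz => ⟨hnD' hz, ?_⟩
      -- transport of the conjugation by `z`
      obtain ⟨y, hy, rfl⟩ := exists_of_image hgM hz
      have hym : fa y ∈ M := by rw [hfae ⟨y, hy⟩]; exact Subtype.mem _
      set s₁ := g (fa y) with hs₁
      have hs₁M : s₁ ∈ normalizerIn T Q₀ := mem_of_image hgM hym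
      have hzD : ∀ x ∈ D, g y * x * (g y)⁻¹ ∈ D := fun x hx => hnD _ (hMN hz) x hx
      obtain ⟨ψi, hψi, hψir, hψi₁, hψi₂⟩ := hψ₀.exists_inv hψ₀D
      have hs₁D : ∀ x ∈ D, s₁⁻¹ * x * s₁ ∈ D := fun x hx => by
        simpa using hnD _ (Subgroup.inv_mem _ (hMN hs₁M)) x hx
      have hconj : ∀ {w : Ω}, w ∈ S → MapFn F D fun x => w * x * w⁻¹ :=
        fun hw => mapFn_conj hψ₀.le_S hw
      have hτ' : MapFn F D fun x => s₁⁻¹ * ψ₀ (g y * ψi x * (g y)⁻¹) * s₁⁻¹⁻¹ :=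
        ((hψi.comp (hconj (hTS hz.1)) fun x hx => mem_of_image hψir hx).comp hψ₀
          fun x hx => hzD _ (mem_of_image hψir hx)).conj_comp (S.inv_mem (hTS hs₁M.1))
      obtain ⟨c, hc, hce⟩ := exists_conj_centralizer hS hF hfc hτ' (fun x hx => by
        show s₁⁻¹ * ψ₀ (g y * ψi x * (g y)⁻¹) * s₁⁻¹⁻¹ = x
        obtain ⟨x', hx', rfl⟩ := exists_of_image hψ₀Q hx
        obtain ⟨x'', hx'', rfl⟩ := exists_of_image hgQ hx'
        have hyx : y * x'' * y⁻¹ ∈ Q' := conj_mem_of_normalizer (hMQ' hy).2 hx''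
        rw [hψi₁ _ (Subgroup.mem_sup_left hx'),
          ← hg.map_conj (hMQ' hy) (le_normalizerIn hQ'S hx''), ← (hfaQ _ hyx).1,
          hfa.map_conj hy (hQ'M hx''),
          hg.map_conj (hMQ' hym) (le_normalizerIn hQ'S (hfaQ x'' hx'').2), (hfaQ x'' hx'').1]
        simp only [s₁]
        group) (fun d hd => by
        show d⁻¹ * (s₁⁻¹ * ψ₀ (g y * ψi d * (g y)⁻¹) * s₁⁻¹⁻¹) ∈ Q₀
        have hdD : d ∈ D := Subgroup.mem_sup_right hd
        have hψid : ψi d ∈ centralizerIn S Q₀ := by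
          obtain ⟨d', hd', rfl⟩ := exists_of_image ((hψ₀.mono
            (le_sup_right : centralizerIn S Q₀ ≤ D)).image_eq_of_maps centralizerIn_le
              (fun x hx => hψ₀.mem_centralizerIn le_sup_left hψ₀Q (Subgroup.mem_sup_right hx) hx)
              le_rfl) hd
          rw [hψi₁ d' (Subgroup.mem_sup_right hd')]; exact hd'
        set d' := ψi d with hd'
        have hd'D : d' ∈ D := Subgroup.mem_sup_right hψid
        have hdd : d = ψ₀ d' := (hψi₂ d hdD).symm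
        have hw : d'⁻¹ * (g y * d' * (g y)⁻¹) ∈ T := by
          have h1 := map_mem_of_sc hT (mapFn_conj (F := F) (P := S) le_rfl (S.inv_mem hψid.1))
            (hTS hz.1) hz.1
          have := T.mul_mem h1 (T.inv_mem hz.1)
          simpa [mul_assoc] using this
        have hzd := hzD d' hd'D
        have h2 : d⁻¹ * ψ₀ (g y * d' * (g y)⁻¹) ∈ T := by
          rw [hdd, ← hψ₀.map_inv hd'D, ← hψ₀.map_mul (D.inv_mem hd'D) hzd]
          exact map_mem_of_sc hT hψ₀ (D.mul_mem (D.inv_mem hd'D) hzd) hw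
        have hsd : d⁻¹ * s₁⁻¹ * d ∈ T := by
          have := map_mem_of_sc hT (mapFn_conj (F := F) (P := S) le_rfl (S.inv_mem hd.1))
            (S.inv_mem (hTS hs₁M.1)) (T.inv_mem hs₁M.1)
          simpa using this
        have hu : d⁻¹ * (s₁⁻¹ * ψ₀ (g y * d' * (g y)⁻¹) * s₁⁻¹⁻¹) ∈ T := by
          have := T.mul_mem (T.mul_mem hsd h2) hs₁M.1
          simpa [mul_assoc] using this
        have hxC : s₁⁻¹ * ψ₀ (g y * d' * (g y)⁻¹) * s₁⁻¹⁻¹ ∈ centralizerIn S Q₀ := by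
          have hcn : ∀ {w c : Ω}, w ∈ normalizerIn S Q₀ → c ∈ centralizerIn S Q₀ →
              w * c * w⁻¹ ∈ centralizerIn S Q₀ := fun {w c} hw hc => by
            refine mem_centralizerIn.mpr ⟨S.mul_mem (S.mul_mem hw.1 hc.1) (S.inv_mem hw.1),
              fun q hq => ?_⟩
            have h := (mem_centralizerIn.mp hc).2 (w⁻¹ * q * w)
              (by simpa using conj_mem_of_normalizer (Subgroup.inv_mem _ hw.2) hq)
            calc q * (w * c * w⁻¹) = w * (w⁻¹ * q * w * c) * w⁻¹ := by group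
              _ = w * (c * (w⁻¹ * q * w)) * w⁻¹ := by rw [h]
              _ = w * c * w⁻¹ * q := by group
          exact hcn (Subgroup.inv_mem _ (hMN hs₁M)) (hψ₀.mem_centralizerIn le_sup_left hψ₀Q hzd
            (hcn (hMN hz) hψid))
        exact IsCentric.centralizerIn_le' (centric_of_F hEi hQc hcQ hQ₀T)
          (mem_centralizerIn.mpr ⟨hu, fun q hq => ((mem_centralizerIn.mp
            (Subgroup.mul_mem _ (Subgroup.inv_mem _ hd) hxC)).2 q hq)⟩))
      refine ⟨s₁ * c, S.mul_mem (hTS hs₁M.1) hc.1, fun x hx => ?_⟩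
      have h := hce (ψ₀ x) (mem_of_image hψ₀D hx)
      rw [hψi₁ x hx] at h
      calc ψ₀ (g y * x * (g y)⁻¹)
          = s₁ * (s₁⁻¹ * ψ₀ (g y * x * (g y)⁻¹) * s₁⁻¹⁻¹) * s₁⁻¹ := by group
        _ = _ := by rw [h]; group)
  -- pull back to `M C_S(M)`
  have hMD : normalizerIn T Q₀ ≤ D ⊔ normalizerIn T Q₀ := le_sup_right
  have hψ₁Q : ψ₁ '' Q₀ = (Q₀ : Set Ω) :=
    (Set.image_congr fun x hx => hψ₁e x (Subgroup.mem_sup_left hx)).trans hψ₀Q
  have hψ₁M : ψ₁ '' (normalizerIn T Q₀) = (normalizerIn T Q₀ : Set Ω) :=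
    (hψ₁.mono hMD).image_eq_of_maps (normalizerIn_le.trans hTS)
      (fun x hx => normalizerIn_le_of_map hT (hψ₁.mono hMD) normalizerIn_le hQ₀M le_rfl hψ₁Q hx)
      le_rfl
  have hCM : M ⊔ centralizerIn S M ≤ normalizerIn S Q' := sup_le hMQ' fun c hc =>
    centralizerIn_le_normalizerIn (mem_centralizerIn.mpr
      ⟨hc.1, fun y hy => (mem_centralizerIn.mp hc).2 y (hQ'M hy)⟩)
  have hgCM : ∀ c ∈ centralizerIn S M, g c ∈ centralizerIn S Q₀ := fun c hc =>
    hg.mem_centralizerIn (le_normalizerIn hQ'S) hgQ (hCM (Subgroup.mem_sup_right hc))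
      (mem_centralizerIn.mpr ⟨hc.1, fun y hy => (mem_centralizerIn.mp hc).2 y (hQ'M hy)⟩)
  have hgW : ∀ x ∈ M ⊔ centralizerIn S M, g x ∈ D ⊔ normalizerIn T Q₀ := (hg.mono hCM).maps_sup
    (fun x hx => Subgroup.mem_sup_right (mem_of_image hgM hx))
    (fun x hx => Subgroup.mem_sup_left (Subgroup.mem_sup_right (hgCM x hx)))
  obtain ⟨G, hGS, hG⟩ := (hg.mono hCM).exists_image
  obtain ⟨g', hg', hg'r, hg'₁, hg'₂⟩ := (hg.mono hCM).exists_inv hG
  have hψC : ∀ c ∈ centralizerIn S M, ψ₁ (g c) ∈ G ∧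
      (g c)⁻¹ * ψ₁ (g c) ∈ G ⊓ T := by
    intro c hc
    have hgc := hgCM c hc
    rw [hψ₁e _ (Subgroup.mem_sup_right hgc)]
    have h := hψ₀c _ hgc
    have hC' := hψ₀.mem_centralizerIn le_sup_left hψ₀Q (Subgroup.mem_sup_right hgc) hgc
    have hQ₀G : (g c)⁻¹ * ψ₀ (g c) ∈ Q₀ :=
      IsCentric.centralizerIn_le' (centric_of_F hEi hQc hcQ hQ₀T) (mem_centralizerIn.mpr
        ⟨h, fun q hq => (mem_centralizerIn.mp
          (Subgroup.mul_mem _ (Subgroup.inv_mem _ hgc) hC')).2 q hq⟩)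
    have h2 : (g c)⁻¹ * ψ₀ (g c) ∈ G := by
      obtain ⟨z, hz, hze⟩ := exists_of_image hgQ hQ₀G
      rw [← hze]; exact mem_of_image hG (Subgroup.mem_sup_left (hQ'M hz))
    refine ⟨?_, h2, h⟩
    have := G.mul_mem (mem_of_image hG (Subgroup.mem_sup_right hc)) h2
    rwa [mul_inv_cancel_left] at this
  have hψW : ∀ x ∈ M ⊔ centralizerIn S M, ψ₁ (g x) ∈ G :=
    ((hg.mono hCM).comp hψ₁ hgW).maps_sup
      (fun x hx => by
        obtain ⟨z, hz, hze⟩ := exists_of_image hgM (mem_of_image hψ₁M (mem_of_image hgM hx))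
        show ψ₁ (g x) ∈ G
        rw [← hze]; exact mem_of_image hG (Subgroup.mem_sup_left hz))
      (fun x hx => (hψC x hx).1)
  have hb' : MapFn F (M ⊔ centralizerIn S M) (g' ∘ (ψ₁ ∘ g)) :=
    ((hg.mono hCM).comp hψ₁ hgW).comp hg' hψW
  have hb'M : ∀ x ∈ M, g' (ψ₁ (g x)) ∈ M := fun x hx => by
    obtain ⟨z, hz, hze⟩ := exists_of_image hgM (mem_of_image hψ₁M (mem_of_image hgM hx))
    rw [← hze, hg'₁ z (Subgroup.mem_sup_left hz)]; exact hz
  obtain ⟨β, hβ, hβe⟩ := (hb'.mono le_sup_left).exists_aut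
    ((hb'.mono le_sup_left).image_eq_of_maps hMS hb'M le_rfl)
  have hβT : β ∈ trivSub hT hM := by
    refine ⟨_, hb', fun x => (hβe x).symm, fun c hc => ?_⟩
    show c⁻¹ * g' (ψ₁ (g c)) ∈ T
    obtain ⟨h1, h2, h3⟩ := hψC c hc
    have hcW := Subgroup.mem_sup_right (S := M) hc
    rw [show ψ₁ (g c) = g c * ((g c)⁻¹ * ψ₁ (g c)) by group,
      hg'.map_mul (mem_of_image hG hcW) h2, hg'₁ c hcW, inv_mul_cancel_left]
    exact map_mem_of_sc hT hg' h2 h3
  have hagree : ∀ x : M, (x : Ω) ∈ Q' → β x = a' x := fun x hx => Subtype.ext (by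
    rw [hβe, ← hfae]
    show g' (ψ₁ (g x)) = fa x
    obtain ⟨h1, h2⟩ := hfaQ _ hx
    rw [hψ₁e _ (Subgroup.mem_sup_left (mem_of_image hgQ hx)), ← h1,
      hg'₁ _ (Subgroup.mem_sup_left (hQ'M h2))])
  have hQ'c : E.IsCentric Q' := centric_of_F hEi hQc ((hf.mono hQN).isConj hQ') hQ'T
  obtain ⟨i, j, ⟨k, hk⟩, hj, hij⟩ := exists_parts (p := p) a'
  have hpow : ∀ l : ℕ, ∀ x : M, (x : Ω) ∈ Q' →
      (β ^ l) x = (a' ^ l) x ∧ (((a' ^ l) x : M) : Ω) ∈ Q' := by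
    intro l
    induction l with
    | zero => intro x hx; simpa using hx
    | succ l ih =>
      intro x hx
      rw [pow_succ, pow_succ, MulAut.mul_apply, MulAut.mul_apply, hagree x hx]
      exact ih _ (by rw [← hfae]; exact (hfaQ _ hx).2)
  rw [← hij]
  refine Subgroup.mul_mem _ ?_ ?_
  · have h := pPrimeAut_le_strongTriv hS ⟨hEs, hF, hEi⟩ hM
      (mem_pPrimeAut_of_pow (Subgroup.pow_mem _ ha' i) hk) M hM M.subtype (MulEquiv.refl M) hMn
      (subtype_mem hMS) fun _ => rfl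
    rwa [show MulAut.congr (MulEquiv.refl M) (a' ^ i) = a' ^ i from MulEquiv.ext fun _ => rfl] at h
  obtain ⟨r, hr, hr1⟩ := exists_coprime_part (β ^ j) (m := orderOf (a' ^ j)) hj
  have har : (a' ^ j) ^ r = a' ^ j := by rw [pow_eq_pow_iff_modEq.mpr hr1, pow_one]
  have hσfix : ∀ x : M, (x : Ω) ∈ Q' → ((a' ^ j)⁻¹ * (β ^ j) ^ r) x = x := fun x hx => by
    rw [MulAut.mul_apply, ← pow_mul, (hpow (j * r) x hx).1, pow_mul, har, MulAut.inv_apply_self]
  obtain ⟨l, hl⟩ : ∃ l, ((a' ^ j)⁻¹ * (β ^ j) ^ r) ^ p ^ l = 1 := by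
    refine exists_pow_eq_one_of_stabilizes (hS.to_le hMS) (n := 1)
      (fun i => if i = 0 then Q'.subgroupOf M else ⊤) (fun i hi => ?_) rfl ⟨0, fun x hx => ?_⟩
      fun i hi x _ => ?_
    · obtain rfl : i = 0 := by omega
      simp
    · rw [if_pos rfl, Subgroup.mem_subgroupOf] at hx
      rw [pow_zero, pow_one]
      exact hσfix x hx
    · obtain rfl : i = 0 := by omega
      rw [if_pos rfl, Subgroup.mem_subgroupOf]
      set σ := (a' ^ j)⁻¹ * (β ^ j) ^ r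
      refine IsCentric.centralizerIn_le' hQ'c (mem_centralizerIn.mpr ⟨hM (Subtype.mem _),
        fun y hy => ?_⟩)
      set y' : M := ⟨y, hQ'M hy⟩
      have hc : ((x * y' * x⁻¹ : M) : Ω) ∈ Q' := conj_mem_of_normalizer (hMQ' x.2).2 hy
      have h2 : σ x * y' * (σ x)⁻¹ = x * y' * x⁻¹ := by
        rw [← hσfix (x * y' * x⁻¹) hc, map_mul, map_mul, map_inv, hσfix y' hy]
      have h3 : y' * (x⁻¹ * σ x) = (x⁻¹ * σ x) * y' := by
        rw [← mul_right_inj x, ← mul_left_inj (σ x)⁻¹]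
        calc x * (y' * (x⁻¹ * σ x)) * (σ x)⁻¹ = x * y' * x⁻¹ := by group
          _ = σ x * y' * (σ x)⁻¹ := h2.symm
          _ = _ := by group
      exact congrArg Subtype.val h3
  have hMfc := isFullyCentralized_of_fullyNormalized hS hF hMn
  set N₁ := (E.autGroup M).subgroupOf (F.autGroup M)
  set N₂ := (trivSub hT hM).subgroupOf (F.autGroup M)
  haveI : N₁.Normal := ⟨fun x hx y => autGroup_conj_mem_of_strong
    (stronglyInvariant_of_invariant hEi) hM hTS hx y.2⟩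
  haveI : N₂.Normal := ⟨fun x hx y => trivSub_conj hS hF hT hM hMfc y.2 hx⟩
  exact mem_of_pair (p := p) (N₁ := N₁) (N₂ := N₂)
    (a := ⟨a' ^ j, autGroup_le_of_sub hTS hEi.1 hM (Subgroup.pow_mem _ ha' j)⟩)
    (b := ⟨(β ^ j) ^ r, Subgroup.pow_mem _ (Subgroup.pow_mem _ hβ j) r⟩)
    (Subgroup.pow_mem _ ha' j) (Subgroup.pow_mem _ (Subgroup.pow_mem _ hβT j) r)
    (by rw [← Subgroup.orderOf_coe]; exact hj) (by rw [← Subgroup.orderOf_coe]; exact hr)
    (k := l) (Subtype.ext hl)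

/-- The automorphisms of `E` that are strongly trivial on centralizers form a family. -/
theorem isFamily_strongTriv (hS : IsPGroup p S) (hE : E.IsWeaklyNormalIn F p) :
    IsFamily p E fun P => E.autGroup P ⊓ strongTriv hE.2.2.2.1 P where
  le _ _ := inf_le_left
  pAuts _ hP := le_inf pPrimeAut_le_autGroup (pPrimeAut_le_strongTriv hS hE hP.1)
  congr P R φ hP hφ e he a ha := by
    refine ⟨autGroup_congr_mem hφ he ha.1, fun X hX ψ e' hXn hψ he' => ?_⟩
    rw [congr_trans]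
    obtain ⟨χ, hχ, hχe⟩ := exists_comp (hE.2.2.1 P hφ) hψ fun x => by rw [← he]; exact Subtype.mem _
    refine ha.2 X hX χ (e.trans e') hXn hχ fun x => ?_
    rw [hχe, MulEquiv.trans_apply, he']
    exact apply_eq_of_coe_eq (he x)
  ascend Q hQn hQc a ha b hb hab := ⟨ha, fun M hM φ e hMn hφ he =>
    trivSub_of_restrict hS hE hQn hQc hM ha hb.2 hab hφ he hMn⟩

/-- The residual of a weakly normal subsystem is normal. -/
theorem res_isNormalIn (hS : IsPGroup p S) (hE : E.IsWeaklyNormalIn F p) :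
    (res p E).IsNormalIn F p := by
  have hT := hE.2.2.2.1
  haveI := finite_of_le hT.1
  have hTp : IsPGroup p T := hS.to_le hT.1
  refine ⟨⟨res_isSaturated hTp hE.1, hE.2.1, res_invariant hS hE⟩, fun α hα => ?_⟩
  have hG := (PPrimeGen.res_autGroup_le hTp hE.1 (isFamily_strongTriv hS hE) hα).2
  have hTn : F.IsFullyNormalized T := by
    refine ⟨hT.1, fun X hX => ?_⟩
    obtain ⟨φ, hφ, hr⟩ := hX
    have hXT : X ≤ T := fun y hy => by
      obtain ⟨x, rfl⟩ := hr.ge hy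
      exact hT.2 T le_rfl φ hφ x
    rw [eq_of_le_of_card_le hXT (IsConj.card_eq ⟨φ, hφ, hr⟩).ge]
  obtain ⟨f, hf, hfe, hfc⟩ :=
    hG T le_rfl T.subtype (MulEquiv.refl T) hTn (subtype_mem hT.1) fun _ => rfl
  have hfT : f '' T = (T : Set Ω) := (hf.mono le_sup_left).image_eq_of_maps hT.1
    (fun x hx => by rw [hfe ⟨x, hx⟩]; exact Subtype.mem _) le_rfl
  obtain ⟨β, hβ, hβe⟩ := hf.exists_aut (hf.image_eq_of_maps hf.le_S (hf.maps_sup
    (fun x hx => Subgroup.mem_sup_left (mem_of_image hfT hx))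
    (fun x hx => Subgroup.mem_sup_right
      (hf.mem_centralizerIn le_sup_left hfT (Subgroup.mem_sup_right hx) hx))) le_rfl)
  refine ⟨β, hβ, fun x => ?_, fun c hc => ?_⟩
  · rw [hβe]
    exact hfe x
  · rw [hβe]
    refine ⟨hfc _ hc, ?_⟩
    have hfc' := hf.mem_centralizerIn le_sup_left hfT (Subgroup.mem_sup_right hc) hc
    exact (Subgroup.mul_mem _ (Subgroup.inv_mem _ hc) hfc').2

end normal

end CfsgLib.Fusion.PPrimeRes
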