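import Cfsg.Agent.Lib.FusionLayer.Basics
import Cfsg.Agent.Lib.Fusion.CoreComponents
import Cfsg.Agent.Lib.Fusion.PPrimeNormal
import Cfsg.Agent.Lib.Fusion.SubsystemCentralizer

/-!
# Normal subsystems of quasisimple systems

A normal subsystem of a quasisimple fusion system is the whole system or lives in the centre.
-/

set_option autoImplicit false
set_option linter.unusedSectionVars false

namespace CfsgLib.FusionQuasi

open Cfsg Cfsg.FusionSystem CfsgLib.Fusion CfsgLib.FusionNormal CfsgLib.FusionTransport CfsgLib.FusionLayer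

variable {Ω : Type*} [Group Ω] {S T : Subgroup Ω} {F : FusionSystem S} {N : FusionSystem T}
variable [Finite S] {p : ℕ} [Fact p.Prime]
variable {Ω' : Type*} [Group Ω'] {θ : S →* Ω'} {S' : Subgroup Ω'} {E : FusionSystem S'} {Z : Subgroup Ω}

/-- The image of a weakly normal subsystem in the factor system by a central subgroup. -/
theorem exists_image_system (hS : IsPGroup p S) (hZ : F.IsCentral Z) (hE : F.IsFactorSystem Z θ E)
    (hN : N.IsWeaklyNormalIn F p) :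
    ∃ (T' : Subgroup Ω') (N' : FusionSystem T'), T' = imageAlong θ T ∧ N'.IsWeaklyNormalIn E p ∧
      ∀ u : Ω' → Ω', MapFn N' T' u → ∃ k, MapFn N T k ∧ ∀ (t : Ω) (ht : t ∈ T) (hts : t ∈ S),
        ∃ h : k t ∈ S, u (θ ⟨t, hts⟩) = θ ⟨k t, h⟩ := by
  obtain ⟨hNs, hFs, hinv⟩ := hN
  have hTS : T ≤ S := hinv.2.1.1
  have := finite_of_le hTS
  have hZsc : F.StronglyClosed Z := stronglyClosed_of_central hZ
  have hk := hE.2.1
  set θ₁ : T →* Ω' := θ.comp (Subgroup.inclusion hTS) with hθ₁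
  have hk₁ : ∀ t : T, θ₁ t = 1 ↔ (t : Ω) ∈ T ⊓ Z := fun t =>
    (hk _).trans ⟨fun h => ⟨t.2, h⟩, fun h => h.2⟩
  have hA₁ : N.StronglyClosed (T ⊓ Z) := ⟨inf_le_left, fun R hR φ hφ x =>
    ⟨(N.le_of_mem hφ).2 x, hZsc.2 R (hR.trans inf_le_right) φ (hinv.1 R hφ) x⟩⟩
  set N' := FusionFactor.factorSystem N θ₁ (T ⊓ Z) hk₁ hA₁
  have hN'f : N.IsFactorSystem (T ⊓ Z) θ₁ N' := FusionFactor.factorSystem_isFactorSystem hk₁ hA₁
  have himg : θ₁.range = imageAlong θ T := by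
    ext y
    constructor
    · rintro ⟨t, rfl⟩; exact ⟨⟨t, hTS t.2⟩, t.2, rfl⟩
    · rintro ⟨s, hs, rfl⟩; exact ⟨⟨s, hs⟩, rfl⟩
  have hT'S : θ₁.range ≤ S' := himg ▸ (FusionFactor.imageAlong_le_range T).trans hE.2.2.1.le
  have hpre : ∀ Q : Subgroup Ω', ∀ t : Ω, t ∈ T → ∀ ht : t ∈ S,
      (θ ⟨t, ht⟩ ∈ Q ↔ t ∈ preimageAlong θ₁ Q) := fun Q t htT ht =>
    ⟨fun h => FusionFactor.mem_preimageAlong.mpr ⟨htT, h⟩,
      fun h => FusionFactor.map_mem_of_mem_preimageAlong h htT⟩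
  have hsplit : ∀ Q : Subgroup Ω', Q ≤ θ₁.range → preimageAlong θ Q ≤ preimageAlong θ₁ Q ⊔ Z := by
    intro Q hQ x hx
    obtain ⟨hxS, hxQ⟩ := FusionFactor.mem_preimageAlong.mp hx
    obtain ⟨t, ht⟩ := hQ hxQ
    have hz := (FusionFactor.theta_eq_iff hk ⟨t, hTS t.2⟩ ⟨x, hxS⟩).mp ht
    have h1 : (t : Ω) ∈ preimageAlong θ₁ Q := FusionFactor.mem_preimageAlong.mpr ⟨t.2, ht.symm ▸ hxQ⟩
    have := (preimageAlong θ₁ Q ⊔ Z).mul_mem (Subgroup.mem_sup_left h1) (Subgroup.mem_sup_right hz)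
    simpa using this
  refine ⟨θ₁.range, N', himg, ⟨FusionFactor.isSaturated_factor (hS.to_le hTS) hNs hA₁ hN'f,
    FusionFactor.isSaturated_factor hS hFs hZsc hE, isInvariantIn_of_mapFn ?_ ?_ ?_ ?_⟩, ?_⟩
  · -- a subsystem
    refine fun Q => hom_subset_iff_mapFn.mpr fun u hu => ?_
    obtain ⟨k, hk1, hk2⟩ := mapFn_factor hN'f hu
    have hQ : Q ≤ θ₁.range := hu.le_S
    obtain ⟨g, hg, hgP, hgZ⟩ := mapFn_central hZ (mapFn_of_sub hinv.1 hk1)
    refine FusionTransport.mapFn_of_factor hE hZsc (hQ.trans hT'S) (hg.mono (hsplit Q hQ)) u fun x hx => ?_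
    obtain ⟨t, ht⟩ := hQ (FusionFactor.map_mem_of_mem_preimageAlong hx x.2)
    have hz := (FusionFactor.theta_eq_iff hk ⟨t, hTS t.2⟩ x).mp ht
    have htQ : (t : Ω) ∈ preimageAlong θ₁ Q :=
      FusionFactor.mem_preimageAlong.mpr ⟨t.2, ht.symm ▸ FusionFactor.map_mem_of_mem_preimageAlong hx x.2⟩
    obtain ⟨hm, he⟩ := hk2 t htQ
    refine ⟨hg.mem_S (hsplit Q hQ hx), ?_⟩
    rw [← ht, he]
    refine (FusionFactor.theta_eq_iff hk ⟨k t, hTS hm⟩ ⟨g x, _⟩).mpr ?_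
    have hxe : (x : Ω) = t * ((t : Ω)⁻¹ * x) := (mul_inv_cancel_left _ _).symm
    show (k t)⁻¹ * g x ∈ Z
    rw [hxe, hg.map_mul (Subgroup.mem_sup_left htQ) (Subgroup.mem_sup_right hz), hgP _ htQ, hgZ _ hz,
      inv_mul_cancel_left]
    exact hz
  · -- strongly closed
    refine ⟨hT'S, fun R hR φ hφ y => ?_⟩
    obtain ⟨u, hu, hue⟩ := mapFn_of_hom hφ
    obtain ⟨k, hk1, hk2⟩ := mapFn_factor hE hu
    obtain ⟨t, ht⟩ := hR y.2
    have htR : (t : Ω) ∈ preimageAlong θ R := FusionFactor.mem_preimageAlong.mpr ⟨hTS t.2, ht.symm ▸ y.2⟩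
    obtain ⟨hm, he⟩ := hk2 ⟨t, hTS t.2⟩ htR
    rw [hue, ← ht]
    show u (θ ⟨t, _⟩) ∈ θ₁.range
    rw [he]
    exact ⟨⟨k t, mapFn_mem hinv.2.1 hk1 htR t.2⟩, rfl⟩
  · -- invariance
    intro Q Q' u a hu ha har haQ
    obtain ⟨k, hk1, hk2⟩ := mapFn_factor hN'f hu
    obtain ⟨A, hA, hA2⟩ := mapFn_factor hE ha
    have hTA : T ≤ preimageAlong θ θ₁.range := fun t ht =>
      FusionFactor.mem_preimageAlong.mpr ⟨hTS ht, ⟨⟨t, ht⟩, rfl⟩⟩
    have hAT := image_T hinv.2.1 hA hTA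
    have hQ : Q ≤ θ₁.range := hu.le_S
    have hAQ : A '' (preimageAlong θ₁ Q : Subgroup Ω) = (preimageAlong θ₁ Q' : Set Ω) := by
      ext y
      constructor
      · rintro ⟨x, hx, rfl⟩
        have hxT : x ∈ T := FusionFactor.preimageAlong_le Q hx
        have hyT : A x ∈ T := mem_of_image hAT hxT
        obtain ⟨hm, he⟩ := hA2 ⟨x, hTS hxT⟩ (hTA hxT)
        refine (hpre Q' _ hyT hm).mp ?_
        rw [← he]
        exact mem_of_image haQ ((hpre Q x hxT (hTS hxT)).mpr hx)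
      · intro hy
        have hyT : y ∈ T := FusionFactor.preimageAlong_le Q' hy
        obtain ⟨x, hx, rfl⟩ := exists_of_image hAT hyT
        obtain ⟨hm, he⟩ := hA2 ⟨x, hTS hx⟩ (hTA hx)
        have h1 := (hpre Q' _ hyT hm).mpr hy
        rw [← he] at h1
        obtain ⟨q, hq, hqe⟩ := exists_of_image haQ h1
        have := ha.injOn (hQ hq) ⟨⟨x, hx⟩, rfl⟩ hqe
        exact ⟨x, (hpre Q x hx (hTS hx)).mp (this ▸ hq), rfl⟩
    obtain ⟨χ, hχ, hχe⟩ := mapFn_transport hinv hk1 (hA.mono hTA) hAT hAQ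
    have hQ' : Q' ≤ θ₁.range := fun y hy => by
      obtain ⟨q, hq, rfl⟩ := exists_of_image haQ hy
      exact mem_of_image har (hQ hq)
    obtain ⟨u', hu', hu'e⟩ := mapFn_induce hN'f hA₁ hQ' hχ
    refine ⟨u', hu', fun q hq => ?_⟩
    obtain ⟨t, rfl⟩ := hQ hq
    have htQ : (t : Ω) ∈ preimageAlong θ₁ Q := FusionFactor.mem_preimageAlong.mpr ⟨t.2, hq⟩
    obtain ⟨hm, he⟩ := hA2 ⟨t, hTS t.2⟩ (hTA t.2)
    obtain ⟨hm', he'⟩ := hk2 t htQ
    obtain ⟨hm2, he2⟩ := hA2 ⟨k t, hTS hm'⟩ (hTA hm')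
    obtain ⟨hm3, he3⟩ := hu'e ⟨A t, mem_of_image hAT t.2⟩ (mem_of_image hAQ htQ)
    show u' (a (θ₁ t)) = a (u (θ₁ t))
    rw [he']
    show u' (a (θ ⟨t, _⟩)) = a (θ ⟨k t, _⟩)
    rw [he, he2]
    refine he3.trans ?_
    show θ ⟨χ (A t), _⟩ = _
    exact congrArg θ (Subtype.ext (hχe t htQ))
  · -- Frattini
    intro Q u hQ hu
    obtain ⟨k, hk1, hk2⟩ := mapFn_factor hE hu
    have hle : preimageAlong θ₁ Q ≤ preimageAlong θ Q := fun x hx => by
      obtain ⟨hxT, hxQ⟩ := FusionFactor.mem_preimageAlong.mp hx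
      exact FusionFactor.mem_preimageAlong.mpr ⟨hTS hxT, hxQ⟩
    obtain ⟨A, k₀, hA, hAr, hk₀, he⟩ := mapFn_frattini hinv (FusionFactor.preimageAlong_le Q) (hk1.mono hle)
    obtain ⟨a, ha, hae⟩ := mapFn_induce_any hS hFs hZsc hE hA
    rw [← himg] at ha
    obtain ⟨u₀, hu₀, hu₀e⟩ := mapFn_induce hN'f hA₁ hQ hk₀
    have haT : a '' θ₁.range = (θ₁.range : Set Ω') := by
      ext y
      constructor
      · rintro ⟨_, ⟨t, rfl⟩, rfl⟩
        obtain ⟨hm, hat⟩ := hae ⟨t, hTS t.2⟩ t.2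
        show a (θ ⟨t, _⟩) ∈ θ₁.range
        rw [hat]
        exact ⟨⟨A t, mem_of_image hAr t.2⟩, rfl⟩
      · rintro ⟨t, rfl⟩
        obtain ⟨x, hx, hxe⟩ := exists_of_image hAr t.2
        obtain ⟨hm, hat⟩ := hae ⟨x, hTS hx⟩ hx
        exact ⟨_, ⟨⟨x, hx⟩, rfl⟩, hat.trans (congrArg θ (Subtype.ext hxe))⟩
    refine ⟨a, u₀, ha, haT, hu₀, fun q hq => ?_⟩
    obtain ⟨t, rfl⟩ := hQ hq
    have htQ : (t : Ω) ∈ preimageAlong θ₁ Q := FusionFactor.mem_preimageAlong.mpr ⟨t.2, hq⟩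
    obtain ⟨h1, e1⟩ := hk2 ⟨t, hTS t.2⟩ (hle htQ)
    obtain ⟨h2, e2⟩ := hu₀e t htQ
    obtain ⟨h3, e3⟩ := hae ⟨k₀ t, hTS h2⟩ h2
    rw [e2]
    show u (θ ⟨t, _⟩) = a (θ ⟨k₀ t, _⟩)
    rw [e1, e3]
    exact congrArg θ (Subtype.ext (he t htQ))
  · -- maps on the whole image lift
    intro u hu
    obtain ⟨k, hk1, hk2⟩ := mapFn_factor hN'f hu
    have hT : T ≤ preimageAlong θ₁ θ₁.range := fun t ht =>
      FusionFactor.mem_preimageAlong.mpr ⟨ht, ⟨⟨t, ht⟩, rfl⟩⟩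
    refine ⟨k, hk1.mono hT, fun t ht hts => ?_⟩
    obtain ⟨h, e⟩ := hk2 ⟨t, ht⟩ (hT ht)
    exact ⟨hTS h, e⟩

/-- A normal subsystem of a quasisimple system is the whole system or central. -/
theorem eq_or_le_center (hS : IsPGroup p S) (hq : F.Quasisimple p) (hN : N.IsNormalIn F p) :
    F.IsSubnormalIn N p ∨ T ≤ F.center := by
  obtain ⟨E, hE, hEs, hne, hsimple⟩ := quasisimple_factor hq
  set Z := F.center with hZdef
  have hZ : F.IsCentral Z := FusionExt.isCentral_center F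
  set θ := QuotientGroup.mk' (Z.subgroupOf S) with hθ
  obtain ⟨T', N', hT', hN', hlift⟩ := exists_image_system hS hZ hE hN.1
  have hSq : IsPGroup p (⊤ : Subgroup (S ⧸ Z.subgroupOf S)) := (hS.to_quotient _).to_subgroup ⊤
  have hTS : T ≤ S := hN.1.2.2.2.1.1
  have hk := hE.2.1
  rcases hsimple T' (PPrimeRes.res p N') (PPrimeRes.res_isNormalIn hSq hN') with h | ⟨h, hhom⟩
  · refine Or.inr fun t ht => ?_
    have h1 : θ ⟨t, hTS ht⟩ ∈ T' := hT' ▸ ⟨⟨t, hTS ht⟩, ht, rfl⟩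
    rw [h, Subgroup.mem_bot] at h1
    exact (hk _).mp h1
  refine Or.inl ?_
  subst h
  have hTsc := hN.1.2.2.2.1
  have hST : S ≤ T ⊔ Z := fun s hs => by
    obtain ⟨t, htT, hte⟩ := hT'.le (Subgroup.mem_top (θ ⟨s, hs⟩))
    have h1 := (FusionFactor.theta_eq_iff hk t ⟨s, hs⟩).mp hte
    have := (T ⊔ Z).mul_mem (Subgroup.mem_sup_left htT) (Subgroup.mem_sup_right h1)
    simpa using this
  have hhyp : F.hyperfocalSubgroup p ≤ T := by
    refine (Subgroup.closure_le _).mpr ?_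
    rintro _ ⟨P, α, x, hP, -, rfl⟩
    obtain ⟨f, hf, -, hfe⟩ := exists_mapFn_of_aut hP α.2
    obtain ⟨g, hg, hgP, hgZ⟩ := mapFn_central hZ hf
    rw [SetLike.mem_coe, ← hfe, ← hgP _ x.2]
    have hxTZ := hST (hP x.2)
    rw [← SetLike.mem_coe, Subgroup.coe_mul_of_right_le_normalizer_left T Z
      fun z hz => StronglyClosed.le_normalizer hTsc (hZ.1 hz)] at hxTZ
    obtain ⟨t, ht, z, hz, htz⟩ := hxTZ
    replace htz : t * z = x := htz
    have htP : t ∈ P ⊔ Z := by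
      have := (P ⊔ Z).mul_mem (Subgroup.mem_sup_left x.2) ((P ⊔ Z).inv_mem (Subgroup.mem_sup_right hz))
      rwa [← htz, mul_inv_cancel_right] at this
    rw [← htz, hg.map_mul htP (Subgroup.mem_sup_right hz), hgZ z hz]
    have h1 : t⁻¹ * g t ∈ T := T.mul_mem (T.inv_mem ht) (mapFn_mem hTsc hg htP ht)
    have := conj_mem_of_normalizer (StronglyClosed.le_normalizer hTsc (S.inv_mem (hZ.1 hz))) h1
    simpa [mul_assoc] using this
  obtain rfl : T = S := le_antisymm hTS (hq.2.1.ge.trans hhyp)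
  have htop : ∀ α ∈ F.autGroup T, α ∈ N.autGroup T := by
    intro α hα
    obtain ⟨a, ha, har, hae⟩ := exists_mapFn_of_aut le_rfl hα
    obtain ⟨u, hu, hue⟩ := mapFn_induce_any hS hN.1.2.1 (stronglyClosed_of_central hZ) hE ha
    have hu' : MapFn N' ⊤ u := by
      rw [← hT'] at hu
      obtain ⟨φ, hφ, hφe⟩ := hu
      rw [← hhom] at hφ
      exact ⟨φ, PPrimeRes.res_le p N' _ hφ, hφe⟩
    obtain ⟨k, hk1, hk2⟩ := hlift u hu'
    have hkr : k '' T = (T : Set Ω) := hk1.image_eq_of_maps le_rfl (fun x hx => hk1.mem_S hx) le_rfl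
    obtain ⟨κ, hκ, hκe⟩ := hk1.exists_aut hkr
    have hκF : κ ∈ F.autGroup T :=
      (mem_autGroup le_rfl).mpr (hN.1.2.2.1 T ((mem_autGroup le_rfl).mp hκ))
    let K : Subgroup (F.autGroup T) :=
      { carrier := {b | ∀ x : T, (x : Ω)⁻¹ * (((b : MulAut T) x : T) : Ω) ∈ Z}
        one_mem' := fun x => by simp [Z.one_mem]
        mul_mem' := fun {b c} hb hc x => by
          have := Z.mul_mem (hc x) (hb ((c : MulAut T) x))
          simpa [mul_assoc] using this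
        inv_mem' := fun {b} hb x => by
          have := Z.inv_mem (hb ((b : MulAut T)⁻¹ x))
          simpa using this }
    have hfixZ : ∀ (b : F.autGroup T) (z : T), (z : Ω) ∈ Z → (((b : MulAut T) z : T) : Ω) = z :=
      fun b z hz => center_fixed ((mem_autGroup le_rfl).mp b.2) z hz
    have hKn : K.Normal := ⟨fun b hb c x => by
      have h1 := hb ((c : MulAut T)⁻¹ x)
      set y := (c : MulAut T)⁻¹ x with hy
      have h2 := hfixZ c (y⁻¹ * (b : MulAut T) y) (by simpa using h1)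
      rw [map_mul, map_inv, hy, MulAut.apply_inv_self] at h2
      show (x : Ω)⁻¹ * ((((c : MulAut T) * (b : MulAut T) * (c : MulAut T)⁻¹) x : T) : Ω) ∈ Z
      simp only [MulAut.mul_apply]
      rw [← hy]
      simp only [Subgroup.coe_mul, Subgroup.coe_inv] at h2
      rw [h2]
      exact h1⟩
    have hKp : IsPGroup p K := by
      rintro ⟨b, hb⟩
      let L : ℕ → Subgroup T := fun i => if i = 0 then Z.subgroupOf T else ⊤
      obtain ⟨l, hl⟩ := exists_pow_eq_one_of_stabilizes hS L (n := 1)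
        (fun i hi => by obtain rfl : i = 0 := (by omega); simp [L]) (by simp [L]) (α := (b : MulAut T))
        ⟨0, fun x hx => by
          rw [pow_zero, pow_one]
          exact Subtype.ext (hfixZ b x (by simpa [L, Subgroup.mem_subgroupOf] using hx))⟩
        fun i hi x _ => by
          obtain rfl : i = 0 := by omega
          simpa [L, Subgroup.mem_subgroupOf] using hb x
      exact ⟨l, Subtype.ext (Subtype.ext (by simpa using hl))⟩
    obtain ⟨P₀, hP₀⟩ := (((saturated_iff_top_and_receptive hS).mp hq.1).1).2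
    have hKle : K ≤ (P₀ : Subgroup (F.autGroup T)) :=
      (CfsgLib.PCore.le_pCore hKn hKp).trans (CfsgLib.PCore.pCore_le_sylow P₀)
    have hdiff : (⟨κ, hκF⟩ : F.autGroup T)⁻¹ * ⟨α, hα⟩ ∈ K := by
      intro x
      have hmod : ∀ z : T, ((κ z : T) : Ω)⁻¹ * ((α z : T) : Ω) ∈ Z := fun z => by
        obtain ⟨h2, e2⟩ := hk2 z z.2 z.2
        obtain ⟨h1, e1⟩ := hue z z.2
        rw [hκe, ← hae]
        exact (FusionFactor.theta_eq_iff hk ⟨k z, h2⟩ ⟨a z, h1⟩).mp (e2.symm.trans e1)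
      set y : T := κ⁻¹ (α x) with hy
      have h1 : ((κ (x⁻¹ * y) : T) : Ω) ∈ Z := by
        rw [map_mul, map_inv, hy, MulAut.apply_inv_self]
        exact hmod x
      have h2 := hfixZ ((⟨κ, hκF⟩ : F.autGroup T)⁻¹) (κ (x⁻¹ * y)) h1
      simp only [Subgroup.coe_inv, MulAut.inv_apply_self] at h2
      show (x : Ω)⁻¹ * ((κ⁻¹ (α x) : T) : Ω) ∈ Z
      rw [← hy]
      simp only [Subgroup.coe_mul, Subgroup.coe_inv] at h2
      rw [h2]
      simpa using h1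
    have hinn : ((⟨κ, hκF⟩ : F.autGroup T)⁻¹ * ⟨α, hα⟩ : F.autGroup T).1 ∈ autInducedBy T T :=
      Subgroup.mem_subgroupOf.mp (hP₀.le (hKle hdiff))
    have := N.autGroup T |>.mul_mem hκ (autInducedBy_le_autGroup le_rfl hinn)
    simpa using this
  have hle : ∀ P : Subgroup Ω, F.Hom P ⊆ N.Hom P := fun P => hom_subset_iff_mapFn.mpr fun f hf => by
    obtain ⟨a, f₀, ha, har, hf₀, he⟩ := mapFn_frattini hN.1.2.2 hf.le_S hf
    obtain ⟨α, hα, hαe⟩ := ha.exists_aut har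
    obtain ⟨a', ha', -, ha'e⟩ := exists_mapFn_of_aut le_rfl (htop α hα)
    refine (hf₀.comp ha' fun x hx => hf₀.mem_S hx).congr fun x hx => ?_
    show a' (f₀ x) = f x
    rw [he x hx, ha'e ⟨f₀ x, hf₀.mem_S hx⟩, hαe]
  have e := funext fun P => Set.Subset.antisymm (hN.1.2.2.1 P) (hle P)
  have : N = F := by cases N; cases F; cases e; rfl
  rw [this]
  exact .refl F p

end CfsgLib.FusionQuasi
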