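import Cfsg.Agent.Lib.Fusion.ClosedFix
import Cfsg.Agent.Lib.Fusion.QuasisimpleNormal
import Cfsg.Agent.Lib.Fusion.GeneralizedFitting

/-!
# A component and a normal subsystem

Given meets of normal subsystems, a component is subnormal in a given normal subsystem or commutes with
its group and has maps extending so as to fix that group.
-/

set_option autoImplicit false
set_option linter.unusedSectionVars false

namespace CfsgLib.FusionDichotomy

open Cfsg Cfsg.FusionSystem CfsgLib.Fusion CfsgLib.FusionNormal CfsgLib.FusionTransport CfsgLib.FusionLayer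

universe u

variable {Ω : Type u} [Group Ω]

/-- Two normal subsystems have a common normal subsystem over the intersection of their groups. -/
def MeetHyp (Ω : Type u) [Group Ω] (p : ℕ) : Prop :=
  ∀ (S : Subgroup Ω) (F : FusionSystem S), Finite S → IsPGroup p S → F.IsSaturated p →
    ∀ (T₁ T₂ : Subgroup Ω) (E₁ : FusionSystem T₁) (E₂ : FusionSystem T₂),
      E₁.IsNormalIn F p → E₂.IsNormalIn F p →
        ∃ D : FusionSystem (T₁ ⊓ T₂), D.IsNormalIn F p ∧ D.IsNormalIn E₁ p ∧ D.IsNormalIn E₂ p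

variable {S T R U : Subgroup Ω} {F : FusionSystem S} {C : FusionSystem T}

/-- The maps of `C` extend fixing `R`, with which `T` commutes. -/
def Cen (F : FusionSystem S) (C : FusionSystem T) (R : Subgroup Ω) : Prop :=
  (∀ t ∈ T, ∀ r ∈ R, t * r = r * t) ∧ ∀ (P : Subgroup Ω) (f : Ω → Ω), MapFn C P f → ExtFix F R ⊥ P f

theorem Cen.exists_fix (h : Cen F C R) {P : Subgroup Ω} {f : Ω → Ω} (hf : MapFn C P f) :
    ∃ g, MapFn F (P ⊔ R) g ∧ (∀ x ∈ P, g x = f x) ∧ ∀ r ∈ R, g r = r := by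
  obtain ⟨g, hg, hgP, hgR⟩ := h.2 P f hf
  exact ⟨g, hg, hgP, fun r hr => (inv_mul_eq_one.mp (Subgroup.mem_bot.mp (hgR r hr).2)).symm⟩

theorem Cen.mono (h : Cen F C R) (hU : U ≤ R) : Cen F C U :=
  ⟨fun t ht r hr => h.1 t ht r (hU hr), fun P f hf => by
    obtain ⟨g, hg, hgP, hgR⟩ := h.exists_fix hf
    exact ⟨g, hg.mono (sup_le_sup_left hU P), hgP, fun r hr => by rw [hgR r (hU hr)]; exact ⟨hr, by simp⟩⟩⟩

theorem Cen.of_sub {D : FusionSystem U} (h : Cen D C R) (hD : D.IsSubsystemOf F) : Cen F C R :=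
  ⟨h.1, fun P f hf => by
    obtain ⟨g, hg, hgP, hgR⟩ := h.2 P f hf
    exact ⟨g, mapFn_of_sub hD hg, hgP, hgR⟩⟩

variable [Finite S] {p : ℕ} [Fact p.Prime]

/-- A quasisimple system does not fix its own group. -/
theorem not_cen_of_le (hS : IsPGroup p S) (hTS : T ≤ S) (hq : C.Quasisimple p) (hTR : T ≤ R)
    (h : Cen F C R) : False := by
  have := finite_of_le hTS
  have hbot : C.hyperfocalSubgroup p = ⊥ := by
    rw [eq_bot_iff, FusionSystem.hyperfocalSubgroup, Subgroup.closure_le]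
    rintro _ ⟨P, α, x, hP, -, rfl⟩
    obtain ⟨f, hf, -, hfe⟩ := exists_mapFn_of_aut hP α.2
    obtain ⟨g, hg, hgP, hgR⟩ := h.exists_fix hf
    refine Subgroup.mem_bot.mpr ?_
    rw [inv_mul_eq_one, ← hfe, ← hgP x x.2, hgR x (hTR (hP x.2))]
  refine Cfsg.Agent.S5148.result p (hS.to_le hTS) C hq ⟨⟨fun a b => Subtype.ext ?_⟩⟩
  have ha : (a : Ω) = 1 := Subgroup.mem_bot.mp ((hq.2.1.symm.trans hbot).le a.2)
  have hb : (b : Ω) = 1 := Subgroup.mem_bot.mp ((hq.2.1.symm.trans hbot).le b.2)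
  simp [ha, hb]

/-- A component commuting with a normal subsystem lies in its centralizer. -/
theorem Cen.le_subsystemCentralizer (hS : IsPGroup p S) (hTS : T ≤ S) (hq : C.Quasisimple p)
    {N : FusionSystem R} (hN : N.IsNormalIn F p) (h : Cen F C R) : T ≤ subsystemCentralizer F N := by
  have hRS : R ≤ S := hN.1.2.2.2.1.1
  have hTc : T ≤ centralizerIn S R := fun t ht =>
    Fusion.mem_centralizerIn.mpr ⟨hTS ht, fun r hr => (h.1 t ht r hr).symm⟩
  have hG : ∀ P, (fixSystem F hRS).Hom P = F.centralizerHom R P := fun P => extHom_bot F R P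
  refine hq.2.1.ge.trans ((Subgroup.closure_le _).mpr ?_)
  rintro _ ⟨P, α, x, hP, -, rfl⟩
  refine focal_le_subsystemCentralizer hS hN _ hG
    (Subgroup.subset_closure ⟨P, P.subtype.comp (α : MulAut P).toMonoidHom, x, ?_, rfl⟩)
  rw [hG]
  obtain ⟨f, hf, -, hfe⟩ := exists_mapFn_of_aut hP α.2
  obtain ⟨g, hg, hgP, hgR⟩ := h.exists_fix hf
  have hgP' := hg.mono (le_sup_left : P ≤ P ⊔ R)
  obtain ⟨ψ, hψ, hψe⟩ := hg
  refine ⟨?_, hP.trans hTc, fun y => hTc (hP (Subtype.mem _)), ψ, hψ,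
    fun y => ?_, fun r => (hψe _).trans (hgR r r.2)⟩
  · exact hgP'.mem fun y => ((hgP y y.2).trans (hfe y)).symm
  · exact (hψe _).trans ((hgP y y.2).trans (hfe y))

/-- A component lies in a normal subsystem or commutes with it. -/
theorem dichotomy (hp : Fact p.Prime) (hfin : Finite S) (hmeet : MeetHyp Ω p) (hS : IsPGroup p S)
    (hC : C.IsSubnormalIn F p) (hq : C.Quasisimple p) {N : FusionSystem R} (hN : N.IsNormalIn F p) :
    C.IsSubnormalIn N p ∨ Cen F C R := by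
  induction hC generalizing R with
  | @refl F p =>
    have := hp
    have := hfin
    refine (FusionQuasi.eq_or_le_center hS hq hN).imp_right fun hle => ?_
    refine ⟨fun t ht r hr => Subgroup.mem_centralizer_iff.mp (F.center_le_centralizer (hle hr)) t ht,
      fun P f hf => ?_⟩
    obtain ⟨g, hg, hgP, hgZ⟩ := mapFn_central (FusionExt.isCentral_center F) hf
    exact ⟨g, hg.mono (sup_le_sup_left hle P), hgP, fun r hr => by
      rw [hgZ r (hle hr)]; exact ⟨hr, by simp⟩⟩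
  | @step U S C D F p hCD hD ih =>
    have := hp
    have := hfin
    have hinv := hD.1.2.2
    have hUS : U ≤ S := hinv.2.1.1
    have : Finite U := finite_of_le hUS
    have hRsc := hN.1.2.2.2.1
    have hTU := FusionTransport.le_of_subnormal hCD
    have hTS := hTU.trans hUS
    obtain ⟨M, hMF, hMD, hMN⟩ := hmeet S F hfin hS hD.1.2.1 U R D N hD hN
    rcases ih hp ‹Finite U› hmeet (hS.to_le hUS) hq hMD with h | h
    · exact Or.inl (.step h hMN)
    refine Or.inr ?_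
    have hY := (h.of_sub hinv.1).le_subsystemCentralizer hS hTS hq hMF
    obtain ⟨G, hG, hGc⟩ := exists_centralizer_normal hS hMF
    set U' := U ⊓ subsystemCentralizer F M with hU'
    obtain ⟨D', hD'F, hD'D, hD'G⟩ : ∃ D' : FusionSystem U', D'.IsNormalIn F p ∧ D'.IsNormalIn D p ∧
        D'.IsNormalIn G p := hmeet S F hfin hS hD.1.2.1 U (subsystemCentralizer F M) D G hD hG
    have hU'S : U' ≤ S := inf_le_left.trans hUS
    have : Finite U' := finite_of_le hU'S
    rcases ih hp ‹Finite U› hmeet (hS.to_le hUS) hq hD'D with h' | h'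
    swap
    · exact (not_cen_of_le (hS.to_le hUS) hTU hq (le_inf hTU hY) h').elim
    have hsubD' : C.IsSubsystemOf D' := FusionGF.subsystem_of_subnormal h'
    have hD'c : ∀ P, D'.Hom P ⊆ F.centralizerHom (U ⊓ R) P := fun P φ hφ => hGc P (hD'G.1.2.2.1 P hφ)
    have hAc : U' ⊓ R ≤ D'.center :=
      (inf_le_inf_left U' (le_refl R)).trans <| (le_inf inf_le_left
        (inf_le_inf_right R inf_le_left)).trans (FusionGF.inf_le_center hS hU'S hD'F.1.1 hD'c)
    have hfix : ∀ P f, MapFn D' P f → ∃ g, MapFn D' (P ⊔ (U' ⊓ R)) g ∧ (∀ x ∈ P, g x = f x) ∧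
        ∀ z ∈ U' ⊓ R, g z = z := fun P f hf => by
      obtain ⟨g, hg, hgP, hgZ⟩ := mapFn_central (FusionExt.isCentral_center D') hf
      exact ⟨g, hg.mono (sup_le_sup_left hAc P), hgP, fun z hz => hgZ z (hAc hz)⟩
    have hfixF : ∀ P f, MapFn D' P f → ∃ g, MapFn F (P ⊔ (U' ⊓ R)) g ∧ (∀ x ∈ P, g x = f x) ∧
        ∀ z ∈ U' ⊓ R, g z = z := fun P f hf => by
      obtain ⟨g, hg, h1, h2⟩ := hfix P f hf
      exact ⟨g, mapFn_of_sub hD'F.1.2.2.1 hg, h1, h2⟩
    have hRn : ∀ c ∈ S, ∀ r ∈ R, c * r * c⁻¹ ∈ R := fun c hc r hr =>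
      FusionClosedExt.conj_mem_of_closed hRsc hc hr
    refine extFix_bot_of_quasisimple hRsc.1 hRn (hS.to_le hTS) hq.1
      (fun P φ hφ => hinv.1 P (FusionGF.subsystem_of_subnormal hCD P hφ)) hq.2.1
      fun P α hP hα f hf hfe => ?_
    obtain ⟨g₁, hg₁, hg₁P, hg₁Z⟩ := hfix P f (mapFn_of_sub hsubD' hf)
    obtain ⟨g, hg, hgP, hgR⟩ := extFix_of_normal_closed hS hD'F hRsc hfixF _ _ hg₁
    have hfixZ : ∀ z ∈ U' ⊓ R, g z = z := fun z hz => by
      rw [hgP z (Subgroup.mem_sup_right hz), hg₁Z z hz]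
    set W := P ⊔ R with hW
    have hgW : MapFn F W g := hg.mono (sup_le_sup_right le_sup_left R)
    have hgf : ∀ x ∈ P, g x = f x := fun x hx => by
      rw [hgP x (Subgroup.mem_sup_left hx), hg₁P x hx]
    have hWS : W ≤ S := sup_le (hP.trans hTS) hRsc.1
    have hgr : g '' W = (W : Set Ω) := hgW.image_eq_of_maps hWS
      (hgW.maps_sup (fun x hx => Subgroup.mem_sup_left (by rw [hgf x hx, hfe ⟨x, hx⟩]; exact Subtype.mem _))
        fun x hx => Subgroup.mem_sup_right (hgR x hx).1) le_rfl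
    obtain ⟨β, hβ, hβe⟩ := hgW.exists_aut hgr
    have hPW : P ≤ W := le_sup_left
    have hRW : R ≤ W := le_sup_right
    have hβP : ∀ x : P, ((β ⟨x, hPW x.2⟩ : W) : Ω) = (((α : MulAut P) x : P) : Ω) := fun x => by
      rw [hβe]
      show g x = _
      rw [hgf x x.2, hfe]
    obtain ⟨j, n, hn, hjn, hjP⟩ := exists_coprime_extension hWS hPW
      (by rwa [Subgroup.orderOf_coe] : (orderOf (α : MulAut P)).Coprime p) hβP
    have hβR : ∀ w : W, (w : Ω) ∈ R → ((β w : W) : Ω) ∈ R ∧ (w : Ω)⁻¹ * ((β w : W) : Ω) ∈ U' ⊓ R :=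
      fun w hw => by
        rw [hβe]
        exact ⟨(hgR _ hw).1, (hgR _ hw).2, R.mul_mem (R.inv_mem hw) (hgR _ hw).1⟩
    have hβZ : ∀ w : W, (w : Ω) ∈ U' ⊓ R → ((β w : W) : Ω) ∈ U' ⊓ R := fun w hw => by
      rw [hβe, hfixZ _ hw]; exact hw
    have hfixW : ∀ w : W, (w : Ω) ∈ U' ⊓ R → (β ^ j) w = w := fun w hw => by
      have h1 : β w = w := Subtype.ext (by rw [hβe]; exact hfixZ _ hw)
      exact Nat.rec rfl (fun i hi => by rw [pow_succ, MulAut.mul_apply, h1, hi]) j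
    obtain ⟨-, hδR⟩ := pow_stable hβZ hβR j
    obtain ⟨K, hK, hKe⟩ := (mem_autGroup_iff_mapFn hWS).mp (Subgroup.pow_mem (F.autGroup W) hβ j)
    refine ⟨K, hK, fun x hx => ?_, fun r hr => ?_⟩
    · rw [hKe ⟨x, hPW hx⟩, hjP ⟨x, hx⟩, hfe ⟨x, hx⟩]
    rw [hKe ⟨r, hRW hr⟩]
    obtain ⟨h1, h2⟩ := hδR ⟨r, hRW hr⟩ hr
    refine ⟨h1, mem_of_coprime_stabilize (N := ⊥) hS hWS
      (fun s _ u hu => by rw [Subgroup.mem_bot] at hu ⊢; rw [hu]; group) hn hjn
      (fun w hw => by
        have : w = 1 := Subtype.ext (Subgroup.mem_bot.mp hw)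
        rw [this, map_one]; exact Subgroup.one_mem _) ⟨r, hRW hr⟩ ?_⟩
    rw [hfixW ((⟨r, hRW hr⟩ : W)⁻¹ * (β ^ j) ⟨r, hRW hr⟩) h2, inv_mul_cancel]
    exact Subgroup.one_mem _

/-- The dichotomy for a component. -/
theorem component_dichotomy (hmeet : MeetHyp Ω p) (hS : IsPGroup p S) (hC : C.IsComponentIn F p)
    {N : FusionSystem R} (hN : N.IsNormalIn F p) : C.IsComponentIn N p ∨ Cen F C R :=
  (dichotomy ‹_› ‹_› hmeet hS hC.1 hC.2 hN).imp_left fun h => ⟨h, hC.2⟩

/-- A component with group inside that of a normal subsystem is a component of it. -/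
theorem component_of_le (hmeet : MeetHyp Ω p) (hS : IsPGroup p S) (hC : C.IsComponentIn F p)
    {N : FusionSystem R} (hN : N.IsNormalIn F p) (hTR : T ≤ R) : C.IsComponentIn N p :=
  (component_dichotomy hmeet hS hC hN).resolve_right fun h =>
    not_cen_of_le hS (FusionTransport.le_of_subnormal hC.1) hC.2 hTR h

end CfsgLib.FusionDichotomy
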