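import Cfsg.Agent.Lib.Fusion.TransportNormal

/-!
# Images of subnormal subsystems and of components under maps of the system
-/

set_option autoImplicit false

namespace CfsgLib.FusionTransport

open Cfsg Cfsg.FusionSystem CfsgLib.Fusion CfsgLib.FusionNormal

variable {Ω : Type*} [Group Ω] {Ω' : Type*} [Group Ω']

theorem le_of_subnormal {T S : Subgroup Ω} {C : FusionSystem T} {F : FusionSystem S} {p : ℕ}
    (h : C.IsSubnormalIn F p) : T ≤ S := by
  induction h with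
  | refl => exact le_rfl
  | step _ hN ih => exact ih.trans hN.1.2.2.2.1.1

/-- Subnormality is transported. -/
theorem subnormal_transport {W U : Subgroup Ω} {C : FusionSystem W} {D : FusionSystem U} {p : ℕ}
    (hp : Fact p.Prime) (h : C.IsSubnormalIn D p) {T : Subgroup Ω} {T' : Subgroup Ω'} [Finite T]
    (hT : IsPGroup p T) {e : Emb T T'} {U' : Subgroup Ω'} {D' : FusionSystem U'} (hD : Rel e D D') :
    ∃ C' : FusionSystem (e.img W), Rel e C C' ∧ C'.IsSubnormalIn D' p := by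
  induction h generalizing U' with
  | refl G =>
    obtain rfl := hD.eq
    exact ⟨D', hD, .refl _ _⟩
  | @step U₁ U C D₁ D p _ hN ih =>
    have hR := rel_sys e D₁ (hN.1.2.2.2.1.1.trans hD.le)
    have := hp
    obtain ⟨C', hC', hs⟩ := ih hp hT hR
    exact ⟨C', hC', .step hs (hR.isNormalIn hT hD hN)⟩

section comp

variable {Ω'' : Type*} [Group Ω''] {T : Subgroup Ω} {T' : Subgroup Ω''} {A : Subgroup Ω'}
  {B : Subgroup Ω'} {B' : Subgroup Ω''} {e : Emb T T'} {e₀ : Emb T A} {e₁ : Emb B B'}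

theorem g_agree (hAB : A ≤ B) (h : ∀ x ∈ T, e.f x = e₁.f (e₀.f x)) {y : Ω''} (hy : y ∈ T') :
    e.g y = e₀.g (e₁.g y) := by
  have hx := e.g_mem y hy
  have h1 := h _ hx
  rw [e.fg y hy] at h1
  rw [h1, e₁.gf _ (hAB (e₀.f_mem _ hx)), e₀.gf _ hx, ← h1]

theorem img_agree (hAB : A ≤ B) (h : ∀ x ∈ T, e.f x = e₁.f (e₀.f x)) {P : Subgroup Ω} (hP : P ≤ T) :
    e₁.img (e₀.img P) = e.img P := by
  apply SetLike.coe_injective
  rw [← e₁.image_eq ((e₀.img_le P).trans hAB), ← e₀.image_eq hP, ← e.image_eq hP, Set.image_image]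
  exact Set.image_congr fun x hx => (h x (hP hx)).symm

theorem symm_img_agree (hAB : A ≤ B) (h : ∀ x ∈ T, e.f x = e₁.f (e₀.f x)) {Q : Subgroup Ω''} (hQ : Q ≤ T') :
    e₀.symm.img (e₁.symm.img Q) = e.symm.img Q := by
  ext x
  constructor
  · rintro ⟨hx, -, hq⟩
    exact ⟨hx, show e.f x ∈ Q from (h x hx).symm ▸ hq⟩
  · rintro ⟨hx, hq⟩
    exact ⟨hx, hAB (e₀.f_mem x hx), show e₁.f (e₀.f x) ∈ Q from h x hx ▸ hq⟩

/-- Relations compose. -/
theorem Rel.comp {U : Subgroup Ω} {X : FusionSystem U} {U₁ : Subgroup Ω'} {X₁ : FusionSystem U₁}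
    {U₂ : Subgroup Ω''} {X₂ : FusionSystem U₂} (h₀ : Rel e₀ X X₁) (h₁ : Rel e₁ X₁ X₂) (hAB : A ≤ B)
    (hU₂ : U₂ ≤ T') (h : ∀ x ∈ T, e.f x = e₁.f (e₀.f x)) : Rel e X X₂ := by
  refine ⟨h₀.le, ?_, fun {P k} hk => ?_, fun {Q k} hk => ?_⟩
  · rw [← img_agree hAB h h₀.le, h₀.eq, h₁.eq]
  · have hP : P ≤ T := hk.le_S.trans h₀.le
    have h1 := h₁.fwd (h₀.fwd hk)
    rw [img_agree hAB h hP] at h1
    refine h1.congr fun y hy => ?_
    show e₁.f (e₀.f (k (e₀.g (e₁.g y)))) = e.f (k (e.g y))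
    rw [← g_agree hAB h hy.1, h _ (h₀.le (hk.mem_S hy.2))]
  · have hQ : Q ≤ T' := hk.le_S.trans hU₂
    have h1 := h₀.bwd (h₁.bwd hk)
    rw [symm_img_agree hAB h hQ] at h1
    refine h1.congr fun x hx => ?_
    show e₀.g (e₁.g (k (e₁.f (e₀.f x)))) = e.g (k (e.f x))
    rw [← h x hx.1]
    exact (g_agree hAB h (hU₂ (hk.mem_S hx.2))).symm

end comp

/-- An isomorphism between subgroups given by a map of a system. -/
theorem exists_emb_of_mapFn {S P : Subgroup Ω} {F : FusionSystem S} {f : Ω → Ω} (hf : MapFn F P f)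
    {Q : Subgroup Ω} (hQ : f '' P = (Q : Set Ω)) :
    ∃ e : Emb P Q, (∀ x, e.f x = f x) ∧ MapFn F Q e.g := by
  obtain ⟨g, hg, hgr, hgf, hfg⟩ := hf.exists_inv hQ
  exact ⟨{ f := f, g := g
           f_mem := fun x hx => mem_of_image hQ hx
           g_mem := fun y hy => mem_of_image hgr hy
           gf := hgf, fg := hfg
           f_mul := fun x hx y hy => hf.map_mul hx hy }, fun _ => rfl, hg⟩

/-- An automorphism in the system carries an invariant subsystem to itself. -/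
theorem rel_invariant {S U : Subgroup Ω} {F : FusionSystem S} {D : FusionSystem U}
    (h : D.IsInvariantIn F) {e : Emb U U} (hf : MapFn F U e.f) (hg : MapFn F U e.g) : Rel e D D := by
  have key : ∀ (e : Emb U U), MapFn F U e.f → ∀ {P : Subgroup Ω} {k : Ω → Ω}, MapFn D P k →
      MapFn D (e.img P) (e.f ∘ k ∘ e.g) := by
    intro e hf P k hk
    obtain ⟨χ, hχ, hχe⟩ := mapFn_transport h hk hf (by rw [e.image_eq le_rfl, e.img_self])
      (e.image_eq hk.le_S)
    refine hχ.congr fun y hy => ?_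
    show χ y = e.f (k (e.g y))
    rw [← hχe _ hy.2, e.fg y hy.1]
  exact ⟨le_rfl, e.img_self, fun hk => key e hf hk, fun hk => key e.symm hg hk⟩

/-- The image of a subnormal subsystem under a map of the system is subnormal. -/
theorem subnormal_image {T S : Subgroup Ω} {C : FusionSystem T} {F : FusionSystem S} {p : ℕ}
    (hp : Fact p.Prime) (hC : C.IsSubnormalIn F p) (hS : IsPGroup p S) (hfin : Finite S) {T' : Subgroup Ω}
    (e : Emb T T') (hf : MapFn F T e.f) (E : FusionSystem T') (hE : Rel e C E) :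
    E.IsSubnormalIn F p := by
  induction hC generalizing T' with
  | @refl F p =>
    have := hfin
    have hfS := hf.image_eq_of_maps le_rfl (fun x hx => hf.mem_S hx) le_rfl
    obtain rfl : T' = T := SetLike.coe_injective (by rw [← hfS, e.image_eq le_rfl, e.img_self])
    obtain ⟨e', he', hg⟩ := exists_emb_of_mapFn hf hfS
    have hg' : MapFn F T' e.g := hg.congr fun y hy => by
      refine e'.f_inj (e'.g_mem y hy) (e.g_mem y hy) ?_
      rw [e'.fg y hy, he', e.fg y hy]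
    have hFF : Rel e F F := by
      refine ⟨le_rfl, e.img_self, fun {P k} hk => ?_, fun {Q k} hk => ?_⟩
      · exact ((hg'.mono (e.img_le P)).comp hk fun y hy => hy.2).comp hf
          fun y hy => hk.mem_S hy.2
      · exact ((hf.mono (e.symm.img_le Q)).comp hk fun y hy => hy.2).comp hg'
          fun y hy => hk.mem_S hy.2
    rw [hE.unique hFF]
    exact .refl _ _
  | @step U S C D F p hCD hN ih =>
    have := hfin
    have := hp
    have hTU : T ≤ U := le_of_subnormal hCD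
    have hUS : U ≤ S := hN.1.2.2.2.1.1
    obtain ⟨a, f₀, ha, har, hf₀, hfe⟩ := mapFn_frattini hN.1.2.2 hTU hf
    obtain ⟨Q, hQU, hQ⟩ := hf₀.exists_image
    obtain ⟨e₀, he₀, -⟩ := exists_emb_of_mapFn hf₀ hQ
    obtain ⟨e₁, he₁, hg₁⟩ := exists_emb_of_mapFn ha har
    have hDD : Rel e₁ D D :=
      rel_invariant hN.1.2.2 (ha.congr fun x _ => (he₁ x).symm) hg₁
    obtain ⟨C₀, hC₀⟩ : ∃ C₀ : FusionSystem Q, Rel e₀ C C₀ := by
      have h0 : ∃ C₀ : FusionSystem (e₀.img T), Rel e₀ C C₀ := ⟨_, rel_sys e₀ C le_rfl⟩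
      rwa [e₀.img_self] at h0
    have hagree : ∀ x ∈ T, e.f x = e₁.f (e₀.f x) := fun x hx => by
      rw [he₁, he₀]; exact hfe x hx
    have : Finite U := finite_of_le hUS
    have hsub : C₀.IsSubnormalIn D p :=
      ih hp (hS.to_le hUS) inferInstance e₀ (hf₀.congr fun x _ => (he₀ x).symm) C₀ hC₀
    obtain ⟨E₁, hE₁, hE₁D⟩ := subnormal_transport hp hsub (hS.to_le hUS) hDD
    obtain rfl : e₁.img Q = T' := by
      rw [← e₀.img_self, img_agree hQU hagree le_rfl, e.img_self]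
    have hrel : Rel e C E₁ := hC₀.comp hE₁ hQU le_rfl hagree
    rw [hE.unique hrel]
    exact .step hE₁D hN

/-- A factor system through a bijection, for maps as functions. -/
theorem mapFn_factor {S : Subgroup Ω} {F : FusionSystem S} {S₀ : Subgroup Ω} {θ : S →* Ω'}
    {S' : Subgroup Ω'} {E : FusionSystem S'} (hE : F.IsFactorSystem S₀ θ E) {Q : Subgroup Ω'}
    {u : Ω' → Ω'} (hu : MapFn E Q u) :
    ∃ k, MapFn F (preimageAlong θ Q) k ∧ ∀ x : S, (x : Ω) ∈ preimageAlong θ Q →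
      ∃ h : k x ∈ S, u (θ x) = θ ⟨k x, h⟩ := by
  obtain ⟨φ', hφ', he⟩ := hu
  obtain ⟨-, φ, hφ, hP, hφS, hm, hi⟩ := (hE.2.2.2 _ _).mp hφ'
  obtain ⟨k, hk, hke⟩ := mapFn_of_hom hφ
  refine ⟨k, hk, fun x hx => ⟨hk.mem_S hx, ?_⟩⟩
  have h1 := hi ⟨x, hx⟩
  rw [he] at h1
  refine h1.trans ?_
  congr 1
  exact Subtype.ext (hke _)

theorem mapFn_of_factor {S : Subgroup Ω} {F : FusionSystem S} {S₀ : Subgroup Ω} {θ : S →* Ω'}
    {S' : Subgroup Ω'} {E : FusionSystem S'} (hE : F.IsFactorSystem S₀ θ E) (hA : F.StronglyClosed S₀)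
    {Q : Subgroup Ω'} (hQ : Q ≤ S') {k : Ω → Ω} (hk : MapFn F (preimageAlong θ Q) k) (u : Ω' → Ω')
    (hu : ∀ x : S, (x : Ω) ∈ preimageAlong θ Q → ∃ h : k x ∈ S, u (θ x) = θ ⟨k x, h⟩) :
    MapFn E Q u := by
  obtain ⟨-, hk0, hr, hHom⟩ := hE
  obtain ⟨φ, hφ, hke⟩ := hk
  have hQr : Q ≤ θ.range := hr.symm ▸ hQ
  obtain ⟨φ', hφ'⟩ := FusionFactor.exists_induced hk0 hA hQr hφ
  refine ⟨φ', (hHom _ _).mpr ⟨hQ, φ, hφ, hφ'⟩, fun y => ?_⟩
  obtain ⟨hP, hφS, hm, hi⟩ := hφ'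
  obtain ⟨x, hx, hxP, hxy⟩ := FusionFactor.exists_preimage hQr y
  have hy : y = ⟨θ ⟨x, hP hxP⟩, hm ⟨x, hxP⟩⟩ := Subtype.ext hxy.symm
  obtain ⟨h2, h3⟩ := hu ⟨x, hx⟩ hxP
  conv_lhs => rw [hy]
  rw [hi ⟨x, hxP⟩, ← hxy, h3]
  congr 1
  exact Subtype.ext (hke _)

/-- The isomorphism between the quotient groups. -/
theorem exists_quotient_emb {T : Subgroup Ω} {T' : Subgroup Ω'} (e : Emb T T') (N : Subgroup T) [N.Normal]
    (N' : Subgroup T') [N'.Normal]
    (hN : ∀ x : T, (⟨e.f x, e.f_mem x x.2⟩ : T') ∈ N' ↔ x ∈ N) :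
    ∃ q : Emb (⊤ : Subgroup (T ⧸ N)) (⊤ : Subgroup (T' ⧸ N')), ∀ x : T,
      q.f (QuotientGroup.mk' N x) = QuotientGroup.mk' N' ⟨e.f x, e.f_mem x x.2⟩ := by
  let E : T ≃* T' :=
    { toFun := fun x => ⟨e.f x, e.f_mem x x.2⟩
      invFun := fun y => ⟨e.g y, e.g_mem y y.2⟩
      left_inv := fun x => Subtype.ext (e.gf x x.2)
      right_inv := fun y => Subtype.ext (e.fg y y.2)
      map_mul' := fun x y => Subtype.ext (e.f_mul x x.2 y y.2) }
  have hmap : N.map E.toMonoidHom = N' := by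
    ext y
    obtain ⟨x, rfl⟩ := E.surjective y
    constructor
    · rintro ⟨z, hz, hzx⟩
      obtain rfl : z = x := E.injective hzx
      exact (hN z).mpr hz
    · intro hx
      exact ⟨x, (hN x).mp hx, rfl⟩
  let Q := QuotientGroup.congr N N' E hmap
  exact ⟨{ f := Q, g := Q.symm
           f_mem := fun _ _ => trivial
           g_mem := fun _ _ => trivial
           gf := fun x _ => Q.symm_apply_apply x
           fg := fun y _ => Q.apply_symm_apply y
           f_mul := fun x _ y _ => map_mul Q x y }, fun x => rfl⟩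

/-- Quasisimplicity is transported. -/
theorem Rel.quasisimple {T : Subgroup Ω} {T' : Subgroup Ω'} [Finite T] [Finite T'] {p : ℕ}
    [Fact p.Prime] (hT : IsPGroup p T) (hT' : IsPGroup p T') {e : Emb T T'} {C : FusionSystem T}
    {E : FusionSystem T'} (h : Rel e C E) (hC : C.Quasisimple p) : E.Quasisimple p := by
  obtain ⟨hsat, hhyp, hsimple⟩ := hC
  refine ⟨h.isSaturated hT hsat, h.hyperfocal hhyp, fun E' hE' => ?_⟩
  set N := C.center.subgroupOf T with hN
  set θ := QuotientGroup.mk' N with hθ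
  set θ' := QuotientGroup.mk' (E.center.subgroupOf T') with hθ'
  have hcC : C.IsCentral C.center := FusionExt.isCentral_center C
  have hcE : E.IsCentral E.center := FusionExt.isCentral_center E
  have hk : ∀ s : T, θ s = 1 ↔ (s : Ω) ∈ C.center := fun s =>
    (QuotientGroup.eq_one_iff (N := N) s).trans Subgroup.mem_subgroupOf
  have hmem : ∀ x : T, e.f x ∈ E.center ↔ (x : Ω) ∈ C.center := fun x => by
    rw [← h.center, e.mem_img, e.gf x x.2]
    exact and_iff_right (e.f_mem x x.2)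
  obtain ⟨q, hq⟩ := exists_quotient_emb e N (E.center.subgroupOf T')
    (fun x => by rw [Subgroup.mem_subgroupOf]; exact hmem x)
  obtain ⟨E₀, hE₀⟩ : ∃ E₀ : FusionSystem (⊤ : Subgroup (T ⧸ N)), C.IsFactorSystem C.center θ E₀ := by
    have h0 : ∃ E₀ : FusionSystem θ.range, C.IsFactorSystem C.center θ E₀ :=
      ⟨_, FusionFactor.factorSystem_isFactorSystem hk (stronglyClosed_of_central hcC)⟩
    rwa [MonoidHom.range_eq_top.mpr (QuotientGroup.mk'_surjective N)] at h0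
  have hsurj : ∀ z : T ⧸ N, ∃ x : T, θ x = z := QuotientGroup.mk'_surjective N
  have hpre : ∀ P : Subgroup (T ⧸ N), e.img (preimageAlong θ P) = preimageAlong θ' (q.img P) := by
    intro P
    ext y
    rw [FusionFactor.mem_preimageAlong, e.mem_img, FusionFactor.mem_preimageAlong]
    have hy' : ∀ hy : y ∈ T', q.f (θ ⟨e.g y, e.g_mem y hy⟩) = θ' ⟨y, hy⟩ := fun hy => by
      rw [hq]
      exact congrArg θ' (Subtype.ext (e.fg y hy))
    constructor
    · rintro ⟨hy, _, hP⟩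
      exact ⟨hy, hy' hy ▸ q.f_mem_img le_top hP⟩
    · rintro ⟨hy, hP⟩
      refine ⟨hy, e.g_mem y hy, ?_⟩
      have h1 := hP.2
      rw [← hy' hy, q.gf _ trivial] at h1
      exact h1
  have hrel : Rel q E₀ E' := by
    refine ⟨le_rfl, q.img_self, fun {P u} hu => ?_, fun {Q u} hu => ?_⟩
    · obtain ⟨k, hk1, hk2⟩ := mapFn_factor hE₀ hu
      refine mapFn_of_factor hE' (stronglyClosed_of_central hcE) le_top (hpre P ▸ h.fwd hk1) _
        fun y hy => ?_
      rw [← hpre P] at hy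
      obtain ⟨h3, h4⟩ := hk2 ⟨e.g y, e.g_mem y y.2⟩ hy.2
      refine ⟨e.f_mem _ h3, ?_⟩
      show q.f (u (q.g (θ' y))) = θ' ⟨e.f (k (e.g y)), _⟩
      have hy' : θ' y = q.f (θ ⟨e.g y, e.g_mem y y.2⟩) := by
        rw [hq]; exact congrArg θ' (Subtype.ext (e.fg y y.2).symm)
      rw [hy', q.gf _ trivial, h4, hq]
    · obtain ⟨k, hk1, hk2⟩ := mapFn_factor hE' hu
      have hpq : e.symm.img (preimageAlong θ' Q) = preimageAlong θ (q.symm.img Q) := by
        rw [← q.img_symm (Q := Q) le_top, ← hpre, e.symm_img (FusionFactor.preimageAlong_le _),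
          q.img_symm le_top]
      refine mapFn_of_factor hE₀ (stronglyClosed_of_central hcC) le_top (hpq ▸ h.bwd hk1) _
        fun x hx => ?_
      rw [← hpq] at hx
      obtain ⟨h3, h4⟩ := hk2 ⟨e.f x, e.f_mem x x.2⟩ hx.2
      refine ⟨e.g_mem _ h3, ?_⟩
      show q.g (u (q.f (θ x))) = θ ⟨e.g (k (e.f x)), _⟩
      rw [hq, h4, ← q.gf (θ ⟨e.g (k (e.f x)), e.g_mem _ h3⟩) trivial, hq]
      exact congrArg q.g (congrArg θ' (Subtype.ext (e.fg _ h3).symm))
  have hpq : ∀ {H : Subgroup Ω} (M : Subgroup H) [M.Normal], IsPGroup p H →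
      IsPGroup p (⊤ : Subgroup (H ⧸ M)) :=
    fun M _ hH => (hH.to_quotient M).to_subgroup ⊤
  exact hrel.isSimple (hpq N hT) ((hT'.to_quotient _).to_subgroup ⊤) (hsimple E₀ hE₀)

end CfsgLib.FusionTransport
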