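import Cfsg.Agent.Lib.Fusion.EssentialFlag
import Cfsg.Agent.Lib.PGroup.SoftSubgroup
import Cfsg.Agent.Lib.OddOrder.PuigSeries
import Cfsg.Agent.Lib.Coprime.Basic
import Cfsg.Agent.Lib.PGroup.IndexP

/-!
Groups of order `p⁴` without a characteristic series having all steps of index `p`.
-/

set_option autoImplicit false

namespace CfsgLib.FusionFourth

open Cfsg
open scoped commutatorElement

variable {p : ℕ} [hp : Fact p.Prime] {K : Type*} [Group K]

/-- A subgroup invariant under all automorphisms. -/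
def Inv (L : Subgroup K) : Prop := ∀ a : MulAut K, ∀ x ∈ L, a x ∈ L

theorem inv_center : Inv (Subgroup.center K) := fun a x hx => by
  rw [Subgroup.mem_center_iff] at hx ⊢
  intro g
  obtain ⟨g, rfl⟩ := a.surjective g
  rw [← map_mul, ← map_mul, hx g]

theorem inv_commutator : Inv (commutator K) := fun a x hx => by
  have h : (commutator K).map (a : K →* K) ≤ commutator K := by
    rw [commutator_def, Subgroup.map_commutator]
    exact Subgroup.commutator_mono le_top le_top
  exact h ⟨x, hx, rfl⟩

/-- There is no characteristic series with steps of index `p`. -/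
def NoFlag (p : ℕ) (K : Type*) [Group K] : Prop :=
  ∀ L₁ L₂ L₃ : Subgroup K, Inv L₁ → Inv L₂ → Inv L₃ → L₁ ≤ L₂ → L₂ ≤ L₃ →
    Nat.card L₁ = p → Nat.card L₂ = p ^ 2 → Nat.card L₃ = p ^ 3 → False

/-- If `a` is outside a centre of order `p` and all its commutators are central, its centralizer has index `p`. -/
theorem centralizer_index [Finite K] (hZ : Nat.card (Subgroup.center K) = p) {a : K}
    (ha : a ∉ Subgroup.center K) (hc : ∀ h : K, ⁅h, a⁆ ∈ Subgroup.center K) :
    (Subgroup.centralizer ({a} : Set K)).index = p := by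
  have : Fact (Nat.card (Subgroup.center K)).Prime := ⟨by rw [hZ]; exact hp.out⟩
  let f : K →* Subgroup.center K :=
    { toFun := fun h => ⟨⁅h, a⁆, hc h⟩
      map_one' := Subtype.ext (by simp [commutatorElement_def])
      map_mul' := fun x y => Subtype.ext (CfsgLib.PGroup.commutatorElement_mul_left_of_central x y a (hc y)) }
  have hk : f.ker = Subgroup.centralizer ({a} : Set K) := by
    ext h
    rw [MonoidHom.mem_ker, Subgroup.mem_centralizer_singleton_iff]
    exact Subtype.ext_iff.trans commutatorElement_eq_one_iff_mul_comm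
  rcases Subgroup.eq_bot_or_eq_top_of_prime_card f.range with h | h
  · exfalso
    refine ha (Subgroup.mem_center_iff.mpr fun h' => ?_)
    have : (f h') = 1 := Subgroup.mem_bot.mp (h ▸ MonoidHom.mem_range.mpr ⟨h', rfl⟩)
    exact commutatorElement_eq_one_iff_mul_comm.mp (congrArg Subtype.val this)
  · rw [← hk, Subgroup.index_ker, h, Subgroup.card_top, hZ]

theorem card_of_index [Finite K] {n : ℕ} (hK : Nat.card K = p ^ (n + 1)) {L : Subgroup K} (hL : L.index = p) :
    Nat.card L = p ^ n := by
  have h := L.card_mul_index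
  rw [hL, hK, pow_succ] at h
  exact Nat.eq_of_mul_eq_mul_right hp.out.pos h

variable [Finite K]

/-- A proper inclusion of subgroups of a `p`-group multiplies the order by at least `p`. -/
theorem card_lt_mul {n : ℕ} (hK : Nat.card K = p ^ n) {L M : Subgroup K} (h : L < M) :
    Nat.card L * p ≤ Nat.card M := by
  obtain ⟨i, -, hi⟩ := (Nat.dvd_prime_pow hp.out).mp (hK ▸ Subgroup.card_subgroup_dvd_card L)
  obtain ⟨j, -, hj⟩ := (Nat.dvd_prime_pow hp.out).mp (hK ▸ Subgroup.card_subgroup_dvd_card M)
  have hne : Nat.card L < Nat.card M := by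
    rcases lt_or_ge (Nat.card L) (Nat.card M) with h' | h'
    · exact h'
    · exact absurd (Subgroup.eq_of_le_of_card_ge h.le h') h.ne
  rw [hi, hj] at hne ⊢
  rw [← pow_succ]
  exact Nat.pow_le_pow_right hp.out.pos ((Nat.pow_lt_pow_iff_right hp.out.one_lt).mp hne)

theorem inf_center_ne_bot (hP : IsPGroup p K) (D : Subgroup K) [D.Normal] (hD : D ≠ ⊥) :
    D ⊓ Subgroup.center K ≠ ⊥ := by
  have := hP.isNilpotent
  rw [inf_comm]
  exact CfsgLib.OddOrder.PuigSeries.inf_center_ne_bot D hD

/-- The case of an abelian centralizer of index `p` is impossible. -/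
theorem false_of_abelian (hK : Nat.card K = p ^ 4) (hZ : Nat.card (Subgroup.center K) = p)
    (hna : ¬ IsMulCommutative K) (hc : ∀ a b : K, ⁅a, b⁆ ∈ Subgroup.center K) {A : Subgroup K}
    (hA : Nat.card A = p ^ 3) (hab : ∀ x ∈ A, ∀ y ∈ A, x * y = y * x) : False := by
  have hne : A ≠ ⊤ := fun h => hna ⟨⟨fun x y => hab x (h ▸ Subgroup.mem_top x) y (h ▸ Subgroup.mem_top y)⟩⟩
  obtain ⟨c, -, hcA⟩ := SetLike.exists_of_lt hne.lt_top
  let g : A →* Subgroup.center K :=
    { toFun := fun x => ⟨⁅(x : K), c⁆, hc x c⟩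
      map_one' := Subtype.ext (by simp [commutatorElement_def])
      map_mul' := fun x y => Subtype.ext
        (CfsgLib.PGroup.commutatorElement_mul_left_of_central (x : K) y c (hc y c)) }
  have hker : g.ker.map A.subtype ≤ Subgroup.center K := by
    rintro _ ⟨x, hx, rfl⟩
    have hxc : Commute (x : K) c := commutatorElement_eq_one_iff_mul_comm.mp (congrArg Subtype.val hx)
    refine Subgroup.mem_center_iff.mpr fun w => ?_
    have htop : A ⊔ Subgroup.zpowers c = ⊤ := by
      refine Subgroup.eq_top_of_le_card _ ?_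
      have := card_lt_mul hK (lt_of_le_of_ne (le_sup_left : A ≤ A ⊔ Subgroup.zpowers c)
        fun h => hcA (h.symm ▸ Subgroup.mem_sup_right (Subgroup.mem_zpowers c)))
      rw [hA, ← pow_succ] at this
      rwa [hK]
    have hle : A ⊔ Subgroup.zpowers c ≤ Subgroup.centralizer ({(x : K)} : Set K) :=
      sup_le (fun y hy => Subgroup.mem_centralizer_singleton_iff.mpr (hab y hy x x.2))
        (Subgroup.zpowers_le.mpr (Subgroup.mem_centralizer_singleton_iff.mpr hxc.eq.symm))
    exact Subgroup.mem_centralizer_singleton_iff.mp (hle (htop ▸ Subgroup.mem_top w))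
  have h1 := Nat.le_of_dvd Nat.card_pos (Subgroup.card_dvd_of_le hker)
  rw [Subgroup.card_map_of_injective A.subtype_injective, hZ] at h1
  have h2 := g.ker.card_mul_index
  rw [Subgroup.index_ker, hA] at h2
  have h3 : Nat.card g.range ≤ p := hZ ▸ Subgroup.card_le_card_group g.range
  have h4 := Nat.mul_le_mul h1 h3
  rw [h2] at h4
  have : p ^ 3 ≤ p ^ 2 := by rwa [pow_two]
  exact absurd ((Nat.pow_le_pow_iff_right hp.out.one_lt).mp this) (by norm_num)

theorem commutator_ne_bot (hna : ¬ IsMulCommutative K) : commutator K ≠ ⊥ := by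
  intro h
  refine hna ⟨⟨fun a b => commutatorElement_eq_one_iff_mul_comm.mp ?_⟩⟩
  exact Subgroup.mem_bot.mp (h ▸ Subgroup.commutator_mem_commutator (Subgroup.mem_top a) (Subgroup.mem_top b))

/-- A non-abelian group of order `p⁴` without such a series has a centre of order `p²`. -/
theorem card_center (hK : Nat.card K = p ^ 4) (hna : ¬ IsMulCommutative K) (hf : NoFlag p K) :
    Nat.card (Subgroup.center K) = p ^ 2 := by
  have hp' : p.Prime := hp.out
  have hP : IsPGroup p K := IsPGroup.of_card hK
  have : Nontrivial K := Finite.one_lt_card_iff_nontrivial.mp (hK ▸ Nat.one_lt_pow (by norm_num) hp'.one_lt)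
  set Z := Subgroup.center K with hZdef
  obtain ⟨i, hi, hi'⟩ := (Nat.dvd_prime_pow hp').mp (hK ▸ Subgroup.card_subgroup_dvd_card Z)
  have hidx := Z.card_mul_index
  rw [hK, hi'] at hidx
  have h4 : Z.index = p ^ (4 - i) := by
    refine Nat.eq_of_mul_eq_mul_left (pow_pos hp'.pos i) (hidx.trans ?_)
    rw [← pow_add]; congr 1; omega
  interval_cases i
  · exfalso
    exact (Subgroup.nontrivial_iff_ne_bot _).mp hP.center_nontrivial (Subgroup.card_eq_one.mp hi')
  · exfalso
    rw [pow_one] at hi'
    set D := commutator K with hD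
    obtain ⟨j, hj, hj'⟩ := (Nat.dvd_prime_pow hp').mp (hK ▸ Subgroup.card_subgroup_dvd_card D)
    interval_cases j
    · exact commutator_ne_bot hna (Subgroup.card_eq_one.mp hj')
    · rw [pow_one] at hj'
      have hDZ : D ≤ Z := CfsgLib.SoftSubgroup.le_center_of_card_eq hP D hj'
      have hc : ∀ a b : K, ⁅a, b⁆ ∈ Z := fun a b =>
        hDZ (Subgroup.commutator_mem_commutator (Subgroup.mem_top a) (Subgroup.mem_top b))
      obtain ⟨a, -, ha⟩ : ∃ a ∈ (⊤ : Subgroup K), a ∉ Z := SetLike.exists_of_lt (lt_top_iff_ne_top.mpr fun h => hna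
        ⟨⟨fun x y => (Subgroup.mem_center_iff.mp (h ▸ Subgroup.mem_top x : x ∈ Z) y).symm⟩⟩)
      set A := Subgroup.centralizer ({a} : Set K) with hA
      have hAc : Nat.card A = p ^ 3 := card_of_index (n := 3) hK (centralizer_index hi' ha fun h => hc h a)
      obtain ⟨b, hb, hb'⟩ : ∃ b ∈ A, b ∉ Z ⊔ Subgroup.zpowers a := by
        by_contra! hle
        have h1 : ∀ x ∈ A, ∀ y ∈ A, x * y = y * x := by
          have h2 : A ≤ Z ⊔ Subgroup.zpowers a := hle
          intro x hx y hy
          obtain ⟨z, hz, w, ⟨m, rfl⟩, rfl⟩ := Subgroup.mem_sup_of_normal_left.mp (h2 hx)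
          obtain ⟨z', hz', w', ⟨m', rfl⟩, rfl⟩ := Subgroup.mem_sup_of_normal_left.mp (h2 hy)
          have c1 : ∀ g, Commute z g := fun g => (Subgroup.mem_center_iff.mp hz g).symm
          have c2 : ∀ g, Commute z' g := fun g => (Subgroup.mem_center_iff.mp hz' g).symm
          exact ((c1 _).mul_left ((((c2 _).symm)).mul_right (Commute.zpow_zpow_self a m m')))
        exact false_of_abelian hK hi' hna hc hAc h1
      set B := Subgroup.centralizer ({b} : Set K) with hB
      have hbZ : b ∉ Z := fun h => hb' (Subgroup.mem_sup_left h)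
      have hBc : Nat.card B = p ^ 3 := card_of_index (n := 3) hK (centralizer_index hi' hbZ fun h => hc h b)
      set C := Z ⊔ Subgroup.zpowers a ⊔ Subgroup.zpowers b with hC
      have hab : b * a = a * b := Subgroup.mem_centralizer_singleton_iff.mp hb
      have hzc : ∀ z ∈ Z, ∀ g, g * z = z * g := fun z hz => Subgroup.mem_center_iff.mp hz
      have hCA : C ≤ A := sup_le (sup_le (fun z hz => Subgroup.mem_centralizer_singleton_iff.mpr (hzc z hz a).symm)
        (Subgroup.zpowers_le.mpr (Subgroup.mem_centralizer_singleton_iff.mpr rfl))) (Subgroup.zpowers_le.mpr hb)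
      have hCB : C ≤ B := sup_le (sup_le (fun z hz => Subgroup.mem_centralizer_singleton_iff.mpr (hzc z hz b).symm)
        (Subgroup.zpowers_le.mpr (Subgroup.mem_centralizer_singleton_iff.mpr hab.symm)))
        (Subgroup.zpowers_le.mpr (Subgroup.mem_centralizer_singleton_iff.mpr rfl))
      have hlt1 : Z < Z ⊔ Subgroup.zpowers a :=
        lt_of_le_of_ne le_sup_left fun h => ha (h.symm ▸ Subgroup.mem_sup_right (Subgroup.mem_zpowers a))
      have hlt2 : Z ⊔ Subgroup.zpowers a < C :=
        lt_of_le_of_ne le_sup_left fun h => hb' (h.symm ▸ Subgroup.mem_sup_right (Subgroup.mem_zpowers b))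
      have hCc : p ^ 3 ≤ Nat.card C := by
        have s1 := card_lt_mul hK hlt1
        have s2 := card_lt_mul hK hlt2
        rw [hi'] at s1
        calc p ^ 3 = p * p * p := by ring
          _ ≤ Nat.card (Z ⊔ Subgroup.zpowers a : Subgroup K) * p := Nat.mul_le_mul_right _ s1
          _ ≤ _ := s2
      have hCA' : C = A := Subgroup.eq_of_le_of_card_ge hCA (hAc ▸ hCc)
      have hCB' : C = B := Subgroup.eq_of_le_of_card_ge hCB (hBc ▸ hCc)
      refine false_of_abelian hK hi' hna hc hAc fun x hx y hy => ?_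
      have hx' : x ∈ C := hCA' ▸ hx
      have hsub : C ≤ Subgroup.centralizer ({y} : Set K) := by
        refine sup_le (sup_le (fun z hz => Subgroup.mem_centralizer_singleton_iff.mpr (hzc z hz y).symm) ?_) ?_
        · exact Subgroup.zpowers_le.mpr (Subgroup.mem_centralizer_singleton_iff.mpr
            (Subgroup.mem_centralizer_singleton_iff.mp hy).symm)
        · exact Subgroup.zpowers_le.mpr (Subgroup.mem_centralizer_singleton_iff.mpr
            (Subgroup.mem_centralizer_singleton_iff.mp (hCB'.le (hCA'.ge hy))).symm)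
      exact Subgroup.mem_centralizer_singleton_iff.mp (hsub hx')
    · have hDn : D.Normal := by rw [hD]; infer_instance
      have hZD : Z ≤ D := by
        rcases Nat.Prime.eq_one_or_self_of_dvd hp' _ (hi' ▸ Subgroup.card_dvd_of_le (inf_le_left : Z ⊓ D ≤ Z)) with h | h
        · exfalso
          exact inf_center_ne_bot hP D (commutator_ne_bot hna) (by rw [inf_comm]; exact Subgroup.card_eq_one.mp h)
        · exact (Subgroup.eq_of_le_of_card_ge inf_le_left (by rw [h, hi'])).ge.trans inf_le_right
      obtain ⟨a, haD, haZ⟩ : ∃ a ∈ D, a ∉ Z := SetLike.exists_of_lt (lt_of_le_of_ne hZD fun h => by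
        rw [← h, hi'] at hj'
        exact absurd (Nat.pow_right_injective hp'.two_le (show p ^ 1 = p ^ 2 by rw [pow_one]; exact hj')) (by norm_num))
      have hcen : ∀ d ∈ D, ∀ h : K, ⁅h, d⁆ ∈ Z := by
        let π := QuotientGroup.mk' Z
        have hcd : Nat.card (D.map π) = p := by
          have h1 := CfsgLib.Coprime.card_map_mul_inf_ker π D
          rw [hj', QuotientGroup.ker_mk', inf_eq_left.mpr hZD, hi'] at h1
          exact Nat.eq_of_mul_eq_mul_right hp'.pos (h1.trans (by ring))
        have : (D.map π).Normal := hDn.map π (QuotientGroup.mk'_surjective _)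
        have hle := CfsgLib.SoftSubgroup.le_center_of_card_eq (hP.to_quotient Z) (D.map π) hcd
        intro d hd h
        rw [← QuotientGroup.eq_one_iff]
        show π _ = 1
        rw [map_commutatorElement]
        exact commutatorElement_eq_one_iff_mul_comm.mpr (Subgroup.mem_center_iff.mp (hle ⟨d, hd, rfl⟩) _)
      have hA := card_of_index (n := 3) hK (centralizer_index hi' haZ (hcen a haD))
      set A := Subgroup.centralizer ({a} : Set K) with hAdef
      have hsup : D = Z ⊔ Subgroup.zpowers a := by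
        refine (Subgroup.eq_of_le_of_card_ge (sup_le hZD (Subgroup.zpowers_le.mpr haD)) ?_).symm
        have s1 := card_lt_mul hK (lt_of_le_of_ne (le_sup_left : Z ≤ Z ⊔ Subgroup.zpowers a)
          fun h => haZ (h.symm ▸ Subgroup.mem_sup_right (Subgroup.mem_zpowers a)))
        rw [hj', pow_two]
        rwa [hi'] at s1
      have hCD : A = Subgroup.centralizer (D : Set K) := by
        refine le_antisymm ?_ (Subgroup.centralizer_le (Set.singleton_subset_iff.mpr haD))
        rw [← Subgroup.le_centralizer_iff, hsup]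
        refine sup_le (fun z hz => ?_) (Subgroup.zpowers_le.mpr ?_)
        · exact Subgroup.mem_centralizer_iff.mpr fun g _ => Subgroup.mem_center_iff.mp hz g
        · exact Subgroup.mem_centralizer_iff.mpr fun g hg => (Subgroup.mem_centralizer_singleton_iff.mp hg)
      have hAinv : Inv A := by
        rw [hCD]
        intro α x hx
        rw [Subgroup.mem_centralizer_iff] at hx ⊢
        intro d hd
        have := congrArg α (hx _ (inv_commutator α⁻¹ d hd))
        rwa [map_mul, map_mul, MulAut.apply_inv_self] at this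
      refine hf Z D A inv_center inv_commutator hAinv hZD ?_ hi' hj' hA
      rw [hAdef]
      intro d hd
      rw [hsup] at hd
      exact (sup_le (fun z hz => Subgroup.mem_centralizer_singleton_iff.mpr (Subgroup.mem_center_iff.mp hz a).symm)
        (Subgroup.zpowers_le.mpr (Subgroup.mem_centralizer_singleton_iff.mpr rfl))) hd
    · have hle := (CfsgLib.PGroup.commutator_le_frattini hP)
      obtain ⟨x, -, hx⟩ := SetLike.exists_of_lt (CfsgLib.PGroup.frattini_ne_top (P := K)).lt_top
      have hF : Nat.card (frattini K) = p ^ 3 := by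
        obtain ⟨k, hk, hk'⟩ := (Nat.dvd_prime_pow hp').mp (hK ▸ Subgroup.card_subgroup_dvd_card (frattini K))
        have h3 := Nat.le_of_dvd Nat.card_pos (Subgroup.card_dvd_of_le hle)
        rw [hj', hk'] at h3
        have := (Nat.pow_le_pow_iff_right hp'.one_lt).mp h3
        rcases (show k = 3 ∨ k = 4 by omega) with rfl | rfl
        · exact hk'
        · exact absurd (Subgroup.eq_top_of_card_eq _ (hk'.trans hK.symm)) CfsgLib.PGroup.frattini_ne_top
      have htop : Subgroup.zpowers x ⊔ frattini K = ⊤ := by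
        have hlt : frattini K < Subgroup.zpowers x ⊔ frattini K :=
          lt_of_le_of_ne le_sup_right fun h => hx (h.symm ▸ Subgroup.mem_sup_left (Subgroup.mem_zpowers x))
        have s1 := card_lt_mul hK hlt
        rw [hF] at s1
        exact Subgroup.eq_top_of_le_card _ (by rw [hK, pow_succ]; exact s1)
      have := frattini_nongenerating htop
      exact hna ⟨⟨fun u v => by
        obtain ⟨m, rfl⟩ := (this.ge (Subgroup.mem_top u) : u ∈ Subgroup.zpowers x)
        obtain ⟨n, rfl⟩ := (this.ge (Subgroup.mem_top v) : v ∈ Subgroup.zpowers x)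
        exact (Commute.zpow_zpow_self x m n).eq⟩⟩
    · exact hna ⟨⟨fun a b => absurd (Subgroup.eq_top_of_card_eq D (hj'.trans hK.symm))
        (fun h => CfsgLib.PGroup.frattini_ne_top (P := K)
          (top_le_iff.mp (h ▸ CfsgLib.PGroup.commutator_le_frattini hP)))⟩⟩
  · exact hi'
  all_goals
    exfalso
    have : IsCyclic (K ⧸ Z) := isCyclic_of_card_dvd_prime (p := p) (by
      rw [← Subgroup.index_eq_card, h4]; simp)
    exact hna ⟨⟨commutative_of_cyclic_center_quotient (QuotientGroup.mk' Z) (by rw [QuotientGroup.ker_mk'])⟩⟩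

theorem extraspecial_of_exponent (hK : Nat.card K = p ^ 3) (hna : ¬ IsMulCommutative K)
    (hexp : ∀ x : K, x ^ p = 1) : IsExtraspecial p K := by
  have hp' : p.Prime := hp.out
  have hP : IsPGroup p K := IsPGroup.of_card hK
  have : Nontrivial K := Finite.one_lt_card_iff_nontrivial.mp (hK ▸ Nat.one_lt_pow (by norm_num) hp'.one_lt)
  set Z := Subgroup.center K with hZdef
  obtain ⟨i, hi, hi'⟩ := (Nat.dvd_prime_pow hp').mp (hK ▸ Subgroup.card_subgroup_dvd_card Z)
  have hidx := Z.card_mul_index
  rw [hK, hi'] at hidx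
  have h4 : Z.index = p ^ (3 - i) := by
    refine Nat.eq_of_mul_eq_mul_left (pow_pos hp'.pos i) (hidx.trans ?_)
    rw [← pow_add]; congr 1; omega
  have hcyc : 2 ≤ i → False := fun h2 => by
    have : IsCyclic (K ⧸ Z) := isCyclic_of_card_dvd_prime (p := p) (by
      rw [← Subgroup.index_eq_card, h4]; exact (pow_dvd_pow p (show 3 - i ≤ 1 by omega)).trans (pow_one p).dvd)
    exact hna ⟨⟨commutative_of_cyclic_center_quotient (QuotientGroup.mk' Z) (by rw [QuotientGroup.ker_mk'])⟩⟩
  obtain rfl : i = 1 := by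
    rcases Nat.eq_zero_or_pos i with rfl | h
    · exact absurd (Subgroup.card_eq_one.mp hi') ((Subgroup.nontrivial_iff_ne_bot _).mp hP.center_nontrivial)
    · by_contra hne; exact hcyc (by omega)
  rw [pow_one] at hi'
  have hQc := IsPGroup.commutative_of_card_eq_prime_sq (p := p) (G := K ⧸ Z)
    (by rw [← Subgroup.index_eq_card, h4])
  have hle : commutator K ≤ Z := by
    rw [commutator_def, Subgroup.commutator_le]
    intro a _ b _
    rw [← QuotientGroup.eq_one_iff]
    show QuotientGroup.mk' Z _ = 1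
    rw [map_commutatorElement]
    exact commutatorElement_eq_one_iff_mul_comm.mpr (hQc _ _)
  have heq : commutator K = Z := by
    refine Subgroup.eq_of_le_of_card_ge hle ?_
    rcases hp'.eq_one_or_self_of_dvd _ (hi' ▸ Subgroup.card_dvd_of_le hle) with h | h
    · exact absurd (Subgroup.card_eq_one.mp h) (commutator_ne_bot hna)
    · rw [h, hi']
  refine ⟨⟨hP, le_antisymm ?_ ?_, heq⟩, hi'⟩
  · exact CfsgLib.PGroup.frattini_le_of (p := p) Z hle fun x => by rw [hexp]; exact Z.one_mem
  · exact heq.ge.trans (CfsgLib.PGroup.commutator_le_frattini hP)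

omit [Finite K] in
/-- A complement to a central element of order `p`. -/
theorem exists_direct [Finite K] (hP : IsPGroup p K) (hna : ¬ IsMulCommutative K) {z : K}
    (hz : z ∈ Subgroup.center K) (hzp : z ^ p = 1) (hzF : z ∉ frattini K) :
    ∃ M : Subgroup K, M.index = p ∧ z ∉ M ∧ ¬ IsMulCommutative M ∧
      Nonempty (K ≃* M × Multiplicative (ZMod p)) := by
  obtain ⟨M, hM, hzM⟩ : ∃ M : Subgroup K, IsCoatom M ∧ z ∉ M := by
    by_contra! h
    refine hzF ?_
    rw [frattini, Order.radical]
    simp only [Subgroup.mem_iInf, Set.mem_setOf_eq]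
    exact h
  have hi := CfsgLib.PGroup.index_of_isCoatom hP hM
  have hsup := CfsgLib.PGroup.sup_eq_top_of_notMem hi hzM
  have hzc : z ∈ Subgroup.centralizer (M : Set K) := fun g _ => Subgroup.mem_center_iff.mp hz g
  refine ⟨M, hi, hzM, fun h => hna (CfsgLib.PGroup.isMulCommutative_of_sup h hzc hsup), ?_⟩
  set C := Subgroup.zpowers z
  have hz1 : z ≠ 1 := fun h => hzM (h ▸ M.one_mem)
  have hzo : orderOf z = p := orderOf_eq_prime hzp hz1
  have hC : Nat.card C = p := by rw [Nat.card_zpowers, hzo]
  have hcom : ∀ (m : M) (c : C), Commute (M.subtype m) (C.subtype c) := fun m c =>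
    ((Subgroup.mem_center_iff.mp ((Subgroup.zpowers_le.mpr hz) c.2)) m)
  let f := MonoidHom.noncommCoprod M.subtype C.subtype hcom
  have hs : Function.Surjective f := by
    rw [← MonoidHom.range_eq_top, MonoidHom.noncommCoprod_range, Subgroup.range_subtype, Subgroup.range_subtype]
    exact hsup
  have hb : Function.Bijective f := (Nat.bijective_iff_surjective_and_card f).mpr ⟨hs, by
    rw [Nat.card_prod, hC, ← hi, M.card_mul_index]⟩
  exact ⟨(MulEquiv.ofBijective f hb).symm.trans ((MulEquiv.refl M).prodCongr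
    (mulEquivOfCyclicCardEq (by rw [hC]; simp)))⟩

/-- The non-abelian groups of order `p⁴` without such a series. -/
theorem nonabelian (hK : Nat.card K = p ^ 4) (hna : ¬ IsMulCommutative K) (hf : NoFlag p K) :
    (Odd p ∧ ∃ M : Subgroup K, IsExtraspecial p M ∧ Nat.card M = p ^ 3 ∧ (∀ x : M, x ^ p = 1) ∧
        Nonempty (K ≃* M × Multiplicative (ZMod p))) ∨
      (p = 2 ∧ Nonempty (K ≃* QuaternionGroup 2 × Multiplicative (ZMod 2))) ∨
      ((∀ x : K, x ^ (p ^ 2) = 1) ∧ IsCyclic (Subgroup.center K) ∧ Nat.card (Subgroup.center K) = p ^ 2) := by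
  have hp' : p.Prime := hp.out
  have hP : IsPGroup p K := IsPGroup.of_card hK
  have hZc := card_center hK hna hf
  set Z := Subgroup.center K with hZdef
  have hQ : Nat.card (K ⧸ Z) = p ^ 2 := by
    have := Z.card_mul_index
    rw [hZc, hK, show p ^ 4 = p ^ 2 * p ^ 2 by ring] at this
    rw [← Subgroup.index_eq_card]
    exact Nat.eq_of_mul_eq_mul_left (pow_pos hp'.pos 2) this
  have hQn : ¬ IsCyclic (K ⧸ Z) := fun h => hna
    ⟨⟨commutative_of_cyclic_center_quotient (QuotientGroup.mk' Z) (by rw [QuotientGroup.ker_mk'])⟩⟩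
  have hQc := IsPGroup.commutative_of_card_eq_prime_sq hQ
  have hpow : ∀ x : K, x ^ p ∈ Z := fun x => by
    rw [← QuotientGroup.eq_one_iff]
    show QuotientGroup.mk' Z (x ^ p) = 1
    rw [map_pow]
    by_contra hne
    exact hQn (isCyclic_of_orderOf_eq_card (QuotientGroup.mk' Z x) (by
      rw [hQ]; exact orderOf_eq_prime_pow (n := 1) (by rw [pow_one]; exact hne) (by rw [← hQ]; exact pow_card_eq_one')))
  have hc : ∀ a b : K, ⁅a, b⁆ ∈ Z := fun a b => by
    rw [← QuotientGroup.eq_one_iff]
    show QuotientGroup.mk' Z _ = 1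
    rw [map_commutatorElement]
    exact commutatorElement_eq_one_iff_mul_comm.mpr (hQc _ _)
  -- the derived subgroup has order `p`
  set D := commutator K with hDdef
  have hDZ : D ≤ Z := by rw [hDdef, commutator_def, Subgroup.commutator_le]; exact fun a _ b _ => hc a b
  have hD : Nat.card D = p := by
    obtain ⟨a, -, ha⟩ : ∃ a ∈ (⊤ : Subgroup K), a ∉ Z := SetLike.exists_of_lt (lt_top_iff_ne_top.mpr fun h => hna
      ⟨⟨fun x y => (Subgroup.mem_center_iff.mp (h ▸ Subgroup.mem_top x : x ∈ Z) y).symm⟩⟩)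
    set A := Z ⊔ Subgroup.zpowers a
    have hAc : p ^ 3 ≤ Nat.card A := by
      have := card_lt_mul hK (lt_of_le_of_ne (le_sup_left : Z ≤ A)
        fun h => ha (h.symm ▸ Subgroup.mem_sup_right (Subgroup.mem_zpowers a)))
      rwa [hZc, ← pow_succ] at this
    let φ : K →* K :=
      { toFun := fun h => ⁅h, a⁆
        map_one' := by simp [commutatorElement_def]
        map_mul' := fun x y => CfsgLib.PGroup.commutatorElement_mul_left_of_central x y a (hc y a) }
    have hφA : A ≤ φ.ker := sup_le (fun z hz => commutatorElement_eq_one_iff_mul_comm.mpr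
      (Subgroup.mem_center_iff.mp hz a).symm) (Subgroup.zpowers_le.mpr (commutatorElement_self a))
    have hR : Nat.card φ.range ≤ p := by
      have := φ.ker.card_mul_index
      rw [Subgroup.index_ker, hK, pow_succ] at this
      have h3 := hAc.trans (Nat.le_of_dvd Nat.card_pos (Subgroup.card_dvd_of_le hφA))
      exact Nat.le_of_mul_le_mul_left ((Nat.mul_le_mul_right _ h3).trans this.le) (pow_pos hp'.pos 3)
    have hRZ : φ.range ≤ Z := by rintro _ ⟨x, rfl⟩; exact hc x a
    have hRn : φ.range.Normal := ⟨fun x hx g => by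
      rw [(Subgroup.mem_center_iff.mp (hRZ hx) g), mul_inv_cancel_right]; exact hx⟩
    let π := QuotientGroup.mk' φ.range
    set U := (Subgroup.center (K ⧸ φ.range)).comap π with hU
    have hAU : A ≤ U := by
      refine sup_le (fun z hz => ?_) (Subgroup.zpowers_le.mpr ?_)
      · refine Subgroup.mem_center_iff.mpr fun q => ?_
        obtain ⟨q, rfl⟩ := QuotientGroup.mk'_surjective _ q
        rw [← map_mul, ← map_mul, Subgroup.mem_center_iff.mp hz q]
      · refine Subgroup.mem_center_iff.mpr fun q => ?_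
        obtain ⟨q, rfl⟩ := QuotientGroup.mk'_surjective _ q
        refine commutatorElement_eq_one_iff_mul_comm.mp ?_
        rw [← map_commutatorElement]
        exact (QuotientGroup.eq_one_iff _).mpr ⟨q, rfl⟩
    have hcomm : IsMulCommutative (K ⧸ φ.range) := by
      have hcy : IsCyclic (K ⧸ U) := by
        refine isCyclic_of_card_dvd_prime (p := p) ?_
        rw [← Subgroup.index_eq_card]
        refine (Subgroup.index_dvd_of_le hAU).trans ?_
        obtain ⟨k, -, hk⟩ := (Nat.dvd_prime_pow hp').mp (hK ▸ Subgroup.card_subgroup_dvd_card A)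
        have h2 := A.card_mul_index
        rw [hK, hk] at h2
        have h3k : 3 ≤ k := (Nat.pow_le_pow_iff_right hp'.one_lt).mp (hk ▸ hAc)
        refine Nat.dvd_of_mul_dvd_mul_left (pow_pos hp'.pos k) ?_
        rw [h2, ← pow_succ]
        exact pow_dvd_pow p (by omega)
      have : IsCyclic ((K ⧸ φ.range) ⧸ Subgroup.center (K ⧸ φ.range)) := by
        refine isCyclic_of_surjective (QuotientGroup.map U (Subgroup.center (K ⧸ φ.range)) π le_rfl) ?_
        intro q
        obtain ⟨q, rfl⟩ := QuotientGroup.mk'_surjective _ q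
        obtain ⟨w, rfl⟩ := QuotientGroup.mk'_surjective _ q
        exact ⟨QuotientGroup.mk' U w, rfl⟩
      exact ⟨⟨commutative_of_cyclic_center_quotient (QuotientGroup.mk' (Subgroup.center (K ⧸ φ.range)))
        (by rw [QuotientGroup.ker_mk'])⟩⟩
    have hDR : D ≤ φ.range := by
      rw [hDdef, commutator_def, Subgroup.commutator_le]
      intro x _ y _
      rw [← QuotientGroup.eq_one_iff]
      show π _ = 1
      rw [map_commutatorElement]
      exact commutatorElement_eq_one_iff_mul_comm.mpr (hcomm.is_comm.comm _ _)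
    refine le_antisymm ((Nat.le_of_dvd Nat.card_pos (Subgroup.card_dvd_of_le hDR)).trans hR) ?_
    have h1 := card_lt_mul hK (bot_lt_iff_ne_bot.mpr (commutator_ne_bot hna) : (⊥ : Subgroup K) < D)
    rwa [Subgroup.card_bot, one_mul] at h1
  -- the p-th powers lie in the derived subgroup
  let π := QuotientGroup.mk' D
  have hDc : ∀ x y : K, Commute (π x) (π y) := fun x y => commutatorElement_eq_one_iff_mul_comm.mp (by
    rw [← map_commutatorElement]
    exact (QuotientGroup.eq_one_iff _).mpr
      (Subgroup.commutator_mem_commutator (Subgroup.mem_top x) (Subgroup.mem_top y)))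
  have hZD : Nat.card (Z.map π) = p := by
    have h := CfsgLib.Coprime.card_map_mul_inf_ker π Z
    rw [QuotientGroup.ker_mk', inf_eq_left.mpr hDZ, hD, hZc, pow_two] at h
    exact Nat.eq_of_mul_eq_mul_right hp'.pos h
  have hDz : ∀ z ∈ Z, π z ^ p = 1 := fun z hz => by
    have h := congrArg Subtype.val (pow_card_eq_one' (G := Z.map π) (x := ⟨π z, z, hz, rfl⟩))
    rw [hZD] at h; exact h
  let f : K →* K ⧸ D := MonoidHom.mk' (fun x => π x ^ p) fun x y => by rw [map_mul, (hDc x y).mul_pow]
  have hfx : ∀ x, x ∈ f.ker ↔ x ^ p ∈ D := fun x => by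
    rw [MonoidHom.mem_ker, show f x = π x ^ p from rfl, ← map_pow]
    exact QuotientGroup.eq_one_iff _
  have hinvf : Inv f.ker := fun α x hx => by
    rw [hfx] at hx ⊢; rw [← map_pow]; exact inv_commutator α _ hx
  have hZf : Z ≤ f.ker := fun z hz => by rw [MonoidHom.mem_ker]; exact hDz z hz
  have hDpow : ∀ x : K, x ^ p ∈ D := fun x => by
    rw [← hfx]
    by_contra hx
    refine hf D Z f.ker inv_commutator inv_center hinvf hDZ hZf hD hZc (card_of_index (n := 3) hK ?_)
    have hle : f.range ≤ Z.map π := by rintro _ ⟨w, rfl⟩; exact ⟨w ^ p, hpow w, map_pow π w p⟩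
    rw [Subgroup.index_ker]
    rcases hp'.eq_one_or_self_of_dvd _ (hZD ▸ Subgroup.card_dvd_of_le hle) with h | h
    · exact absurd (MonoidHom.mem_ker.mpr (Subgroup.mem_bot.mp
        (Subgroup.card_eq_one.mp h ▸ MonoidHom.mem_range.mpr ⟨x, rfl⟩))) hx
    · exact h
  have hD1 : ∀ x ∈ D, x ^ p = 1 := fun x hx => by
    have h := congrArg Subtype.val (pow_card_eq_one' (G := D) (x := ⟨x, hx⟩))
    rw [hD] at h; exact h
  by_cases hcyc : IsCyclic Z
  · exact Or.inr (Or.inr ⟨fun x => by rw [pow_two, pow_mul]; exact hD1 _ (hDpow x), hcyc, hZc⟩)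
  have hZ1 : ∀ z ∈ Z, z ^ p = 1 := fun z hz => by
    by_contra hne
    refine hcyc (isCyclic_of_orderOf_eq_card (⟨z, hz⟩ : Z) ?_)
    rw [hZc, Subgroup.orderOf_mk]
    refine orderOf_eq_prime_pow (n := 1) (by rw [pow_one]; exact hne) ?_
    have h := congrArg Subtype.val (pow_card_eq_one' (G := Z) (x := ⟨z, hz⟩))
    rw [hZc] at h; exact h
  obtain ⟨z, hz, hzD⟩ : ∃ z ∈ Z, z ∉ D := SetLike.exists_of_lt (lt_of_le_of_ne hDZ fun h => by
    rw [h, hZc] at hD
    exact absurd (Nat.pow_right_injective hp'.two_le (show p ^ 2 = p ^ 1 by rw [pow_one]; exact hD)) (by norm_num))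
  have hzF : z ∉ frattini K := fun h => hzD
    (CfsgLib.PGroup.frattini_le_of (p := p) D le_rfl hDpow h)
  obtain ⟨M, hMi, hzM, hMna, hMe⟩ := exists_direct hP hna hz (hZ1 z hz) hzF
  have hMc : Nat.card M = p ^ 3 := card_of_index (n := 3) hK hMi
  rcases hp'.eq_two_or_odd' with rfl | hodd
  · refine Or.inr (Or.inl ⟨rfl, ?_⟩)
    -- all elements outside the centre have the same square
    set L := Subgroup.closure {x : K | x ^ 2 ≠ 1}
    have hLinv : Inv L := fun α x hx => by
      have : L ≤ L.comap (α : K →* K) := (Subgroup.closure_le _).mpr fun w hw =>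
        Subgroup.subset_closure (show α w ^ 2 ≠ 1 by rw [← map_pow]; exact fun h => hw (α.injective (h.trans (map_one α).symm)))
      exact this hx
    obtain ⟨x, hx⟩ : ∃ x : K, x ^ 2 ≠ 1 := by
      by_contra! hall
      refine hna ⟨⟨fun c d => ?_⟩⟩
      have hinv : ∀ w : K, w⁻¹ = w := fun w => inv_eq_of_mul_eq_one_right (by rw [← pow_two]; exact hall w)
      conv_rhs => rw [← hinv (d * c), mul_inv_rev, hinv c, hinv d]
    have hsq : ∀ (w : K), ∀ v ∈ Z, (w * v) ^ 2 = w ^ 2 := fun w v hv => by
      rw [(show Commute w v from Subgroup.mem_center_iff.mp hv w).mul_pow, hZ1 v hv, mul_one]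
    have hZL : Z ≤ L := fun v hv => by
      have := L.mul_mem (L.inv_mem (Subgroup.subset_closure (hx : x ∈ {x : K | x ^ 2 ≠ 1})))
        (Subgroup.subset_closure (show (x * v) ^ 2 ≠ 1 by rw [hsq x v hv]; exact hx))
      rwa [inv_mul_cancel_left] at this
    have hxZ : x ∉ Z := fun h => hx (hZ1 x h)
    set A := Z ⊔ Subgroup.zpowers x
    have hAL : A ≤ L := sup_le hZL (Subgroup.zpowers_le.mpr (Subgroup.subset_closure hx))
    have hAc : 2 ^ 3 ≤ Nat.card A := by
      have := card_lt_mul hK (lt_of_le_of_ne (le_sup_left : Z ≤ A)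
        fun h => hxZ (h.symm ▸ Subgroup.mem_sup_right (Subgroup.mem_zpowers x)))
      rwa [hZc, ← pow_succ] at this
    obtain ⟨y, hy, hyA⟩ : ∃ y : K, y ^ 2 ≠ 1 ∧ y ∉ A := by
      by_contra! hall
      have hLA : L = A := le_antisymm ((Subgroup.closure_le _).mpr hall) hAL
      refine hf D Z L inv_commutator inv_center hLinv hDZ hZL hD hZc (le_antisymm ?_ (hLA ▸ hAc))
      obtain ⟨k, hk4, hk⟩ := (Nat.dvd_prime_pow hp').mp (hK ▸ Subgroup.card_subgroup_dvd_card L)
      rw [hk]
      refine Nat.pow_le_pow_right (by norm_num) ?_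
      by_contra h4
      obtain rfl : k = 4 := by omega
      have hLt := Subgroup.eq_top_of_card_eq L (hk.trans hK.symm)
      refine hna (CfsgLib.PGroup.isMulCommutative_of_sup (A := Z)
        (Subgroup.le_centralizer_iff_isMulCommutative.mp fun a ha => fun b _ => Subgroup.mem_center_iff.mp ha b)
        (x := x) (fun b hb => (Subgroup.mem_center_iff.mp hb x).symm) (by have := hLt; rw [hLA] at this; exact this))
    have ht : ∀ w : K, w ^ 2 ≠ 1 → w ^ 2 = x ^ 2 := fun w hw => by
      have := (Nat.card_eq_two_iff' (⟨1, D.one_mem⟩ : D)).mp hD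
      exact congrArg Subtype.val (this.unique (y₁ := ⟨w ^ 2, hDpow w⟩) (y₂ := ⟨x ^ 2, hDpow x⟩)
        (fun h => hw (congrArg Subtype.val h)) (fun h => hx (congrArg Subtype.val h)))
    have hxy : ¬ Commute y x := fun h => by
      have hyA' : A ⊔ Subgroup.zpowers y = ⊤ := by
        refine Subgroup.eq_top_of_le_card _ ?_
        have := card_lt_mul hK (lt_of_le_of_ne (le_sup_left : A ≤ A ⊔ Subgroup.zpowers y)
          fun h => hyA (h.symm ▸ Subgroup.mem_sup_right (Subgroup.mem_zpowers y)))
        calc Nat.card K = 2 ^ 3 * 2 := by rw [hK, ← pow_succ]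
          _ ≤ _ := (Nat.mul_le_mul_right 2 hAc).trans this
      refine hna (CfsgLib.PGroup.isMulCommutative_of_sup (A := A) (x := y) ?_ ?_ hyA')
      · have hxc : IsMulCommutative A := by
          refine Subgroup.le_centralizer_iff_isMulCommutative.mp (sup_le ?_ ?_)
          · exact fun a ha b _ => Subgroup.mem_center_iff.mp ha b
          · rw [Subgroup.zpowers_le, Subgroup.mem_centralizer_iff]
            intro b hb
            have : A ≤ Subgroup.centralizer ({x} : Set K) := sup_le
              (fun a ha => Subgroup.mem_centralizer_singleton_iff.mpr (Subgroup.mem_center_iff.mp ha x).symm)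
              (Subgroup.zpowers_le.mpr (Subgroup.mem_centralizer_singleton_iff.mpr rfl))
            exact Subgroup.mem_centralizer_singleton_iff.mp (this hb)
        exact hxc
      · intro b hb
        have : A ≤ Subgroup.centralizer ({y} : Set K) := sup_le
          (fun a ha => Subgroup.mem_centralizer_singleton_iff.mpr (Subgroup.mem_center_iff.mp ha y).symm)
          (Subgroup.zpowers_le.mpr (Subgroup.mem_centralizer_singleton_iff.mpr h.eq.symm))
        exact Subgroup.mem_centralizer_singleton_iff.mp (this hb)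
    have hc' : ⁅y, x⁆ = x ^ 2 := by
      have hmem : ⁅y, x⁆ ∈ D := Subgroup.commutator_mem_commutator (Subgroup.mem_top y) (Subgroup.mem_top x)
      have := (Nat.card_eq_two_iff' (⟨1, D.one_mem⟩ : D)).mp hD
      exact congrArg Subtype.val (this.unique (y₁ := ⟨⁅y, x⁆, hmem⟩) (y₂ := ⟨x ^ 2, hDpow x⟩)
        (fun h => hxy (commutatorElement_eq_one_iff_mul_comm.mp (congrArg Subtype.val h)))
        (fun h => hx (congrArg Subtype.val h)))
    have hxy2 : (x * y) ^ 2 = x ^ 2 := by
      rw [CfsgLib.PGroup.mul_pow_of_central (hc y x), ht y hy, hc']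
      rw [show Nat.choose 2 2 = 1 from rfl, pow_one]
      have h1 : x ^ 2 * x ^ 2 = 1 := by rw [← pow_two]; exact hD1 _ (hDpow x)
      rw [h1, one_mul]
    have hout : ∀ w : K, w ∉ Z → w ^ 2 = x ^ 2 := by
      classical
      intro w hw
      let q := QuotientGroup.mk' Z
      have hfin : Finite (K ⧸ Z) := inferInstance
      have hneq : ∀ u v : K, q u = q v → u⁻¹ * v ∈ Z := fun u v h => QuotientGroup.eq.mp h
      have h1 : q x ≠ q 1 := fun h => hxZ (by simpa using hneq _ _ h.symm)
      have h2 : q y ≠ q 1 := fun h => hy (hZ1 y (by simpa using hneq _ _ h.symm))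
      have h3 : q x ≠ q y := fun h => hyA (by
        have := A.mul_mem (Subgroup.mem_sup_right (Subgroup.mem_zpowers x) : x ∈ A)
          (Subgroup.mem_sup_left (hneq _ _ h) : x⁻¹ * y ∈ A)
        rwa [mul_inv_cancel_left] at this)
      have h4 : q (x * y) ≠ q 1 := fun h => hx (hxy2 ▸ hZ1 _ (by simpa using hneq _ _ h.symm))
      have h5 : q (x * y) ≠ q x := fun h => hy (hZ1 y (by simpa using hneq _ _ h.symm))
      have h6 : q (x * y) ≠ q y := fun h => hxZ (by
        have := hneq _ _ h.symm
        rw [show y⁻¹ * (x * y) = y⁻¹ * x * (y⁻¹)⁻¹ by rw [inv_inv, mul_assoc]] at this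
        have h' := (inferInstance : Z.Normal).conj_mem _ this y
        rwa [inv_inv, show y * (y⁻¹ * x * y) * y⁻¹ = x by group] at h')
      have hcard : ({q 1, q x, q y, q (x * y)} : Finset (K ⧸ Z)).card = 4 := by
        rw [Finset.card_insert_of_notMem (by simp only [Finset.mem_insert, Finset.mem_singleton]; push Not; exact ⟨h1.symm, h2.symm, h4.symm⟩),
          Finset.card_insert_of_notMem (by simp only [Finset.mem_insert, Finset.mem_singleton]; push Not; exact ⟨h3, h5.symm⟩),
          Finset.card_insert_of_notMem (by simp only [Finset.mem_singleton]; exact h6.symm), Finset.card_singleton]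
      have hF := Fintype.ofFinite (K ⧸ Z)
      have huniv := Finset.eq_univ_of_card _ (hcard.trans (by rw [← Nat.card_eq_fintype_card, hQ]; norm_num))
      have hmem := huniv.ge (Finset.mem_univ (q w))
      simp only [Finset.mem_insert, Finset.mem_singleton] at hmem
      rcases hmem with h | h | h | h
      · exact absurd (by simpa using hneq _ _ h.symm) hw
      · rw [show w = x * (x⁻¹ * w) by group, hsq _ _ (hneq _ _ h.symm)]
      · rw [show w = y * (y⁻¹ * w) by group, hsq _ _ (hneq _ _ h.symm), ht y hy]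
      · rw [show w = x * y * ((x * y)⁻¹ * w) by group, hsq _ _ (hneq _ _ h.symm), hxy2]
    obtain ⟨e⟩ := hMe
    have hMD : ∀ m : M, orderOf m = 2 → (m : K) ∈ D := fun m hm => by
      have hm2 : (m : K) ^ 2 = 1 := by
        have := pow_orderOf_eq_one m; rw [hm] at this; exact congrArg Subtype.val this
      have hmZ : (m : K) ∈ Z := by
        by_contra h
        exact hx ((hout _ h).symm.trans hm2)
      have hle : M ⊓ Z = D := by
        have hDM : D ≤ M := (CfsgLib.PGroup.commutator_le_frattini hP).trans (by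
          obtain h | ⟨N, hN, hMN⟩ := eq_top_or_exists_le_coatom M
          · exact h ▸ le_top
          · have : M = N := Subgroup.eq_of_le_of_card_ge hMN (by
              rw [hMc, card_of_index (n := 3) hK (CfsgLib.PGroup.index_of_isCoatom hP hN)])
            exact this ▸ frattini_le_coatom hN)
        refine (Subgroup.eq_of_le_of_card_ge (le_inf hDM hDZ) ?_).symm
        rw [hD]
        have hlt : M ⊓ Z < Z := lt_of_le_of_ne inf_le_right fun h => hzM (h.ge hz).1
        have := card_lt_mul hK hlt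
        rw [hZc] at this
        omega
      exact hle.le ⟨m.2, hmZ⟩
    have hone : ∀ a b : M, orderOf a = 2 → orderOf b = 2 → a = b := fun a b ha hb => by
      have := (Nat.card_eq_two_iff' (⟨1, D.one_mem⟩ : D)).mp hD
      have := congrArg Subtype.val (this.unique (y₁ := ⟨a, hMD a ha⟩) (y₂ := ⟨b, hMD b hb⟩)
        (fun h => by
          have h' : a = 1 := Subtype.ext (congrArg (Subtype.val : D → K) h)
          rw [h', orderOf_one] at ha; exact absurd ha (by norm_num))
        (fun h => by
          have h' : b = 1 := Subtype.ext (congrArg (Subtype.val : D → K) h)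
          rw [h', orderOf_one] at hb; exact absurd hb (by norm_num)))
      exact Subtype.ext this
    rcases CfsgLib.TwoGroups.OneInvolution.isCyclic_or_quaternion (IsPGroup.of_card hMc) hone with h | ⟨n, hn, ⟨eq⟩⟩
    · exact absurd ⟨⟨fun a b => h.commGroup.mul_comm a b⟩⟩ hMna
    · have hc : Nat.card (QuaternionGroup (2 ^ n)) = 4 * 2 ^ n := by
        have : NeZero (2 ^ n) := ⟨by positivity⟩
        rw [Nat.card_eq_fintype_card, QuaternionGroup.card]
      have := (Nat.card_congr eq.toEquiv).symm.trans hMc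
      rw [hc] at this
      have hn1 : 2 ^ n = 2 := by omega
      rw [hn1] at eq
      exact ⟨e.trans (eq.prodCongr (MulEquiv.refl _))⟩
  · refine Or.inl ⟨hodd, M, ?_⟩
    let g : K →* K := MonoidHom.mk' (· ^ p) fun a b =>
      CfsgLib.PGroup.mul_pow_odd_of_central hodd (hc b a)
        (hD1 _ (Subgroup.commutator_mem_commutator (Subgroup.mem_top b) (Subgroup.mem_top a)))
    have hgx : ∀ x, x ∈ g.ker ↔ x ^ p = 1 := fun x => MonoidHom.mem_ker
    have hall : ∀ x : K, x ^ p = 1 := by
      by_contra! hne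
      obtain ⟨x, hx⟩ := hne
      have hgr : Nat.card g.range = p := by
        have hle : g.range ≤ D := by rintro _ ⟨w, rfl⟩; exact hDpow w
        rcases hp'.eq_one_or_self_of_dvd _ (hD ▸ Subgroup.card_dvd_of_le hle) with h | h
        · exact absurd (Subgroup.mem_bot.mp (Subgroup.card_eq_one.mp h ▸ MonoidHom.mem_range.mpr ⟨x, rfl⟩)) hx
        · exact h
      refine hf D Z g.ker inv_commutator inv_center (fun α w hw => ?_) hDZ (fun w hw => (hgx w).mpr (hZ1 w hw))
        hD hZc (card_of_index (n := 3) hK (by rw [Subgroup.index_ker, hgr]))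
      rw [hgx] at hw ⊢; rw [← map_pow, hw, map_one]
    have hallM : ∀ x : M, x ^ p = 1 := fun x => Subtype.ext (hall x)
    exact ⟨extraspecial_of_exponent hMc hMna hallM, hMc, hallM, hMe⟩

/-- An abelian group of order `p⁴` needing at least three generators. -/
theorem abelian_rank_three (hK : Nat.card K = p ^ 4) (hab : IsMulCommutative K)
    (hidx : p ^ 2 < (frattini K).index) :
    (∀ x : K, x ^ p = 1) ∨ Nonempty (K ≃* Multiplicative (ZMod (p ^ 2) × ZMod p × ZMod p)) := by
  have hp' : p.Prime := hp.out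
  have hP : IsPGroup p K := IsPGroup.of_card hK
  refine or_iff_not_imp_left.mpr fun hne => ?_
  push Not at hne
  obtain ⟨x, hx⟩ := hne
  set P := frattini K with hPdef
  have hPc : Nat.card P ≤ p := by
    obtain ⟨i, -, hi⟩ := (Nat.dvd_prime_pow hp').mp (hK ▸ P.index_dvd_card)
    rw [hi] at hidx
    have h3 : 3 ≤ i := (Nat.pow_lt_pow_iff_right hp'.one_lt).mp hidx
    have h := P.card_mul_index
    rw [hi, hK] at h
    refine Nat.le_of_mul_le_mul_right ?_ (pow_pos hp'.pos 3)
    calc Nat.card P * p ^ 3 ≤ Nat.card P * p ^ i := Nat.mul_le_mul_left _ (Nat.pow_le_pow_right hp'.pos h3)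
      _ = p * p ^ 3 := by rw [h]; ring
  let _ : CommGroup K := { mul_comm := fun a b => hab.is_comm.comm a b }
  let g : K →* K := powMonoidHom p
  have hgP : g.range ≤ P := by rintro _ ⟨w, rfl⟩; exact CfsgLib.PGroup.pow_mem_frattini hP w
  have hPp : ∀ w ∈ P, w ^ p = 1 := fun w hw => by
    obtain ⟨i, -, hi⟩ := (Nat.dvd_prime_pow hp').mp (hK ▸ Subgroup.card_subgroup_dvd_card P)
    have h := congrArg Subtype.val (pow_card_eq_one' (G := P) (x := ⟨w, hw⟩))
    rw [hi] at h hPc
    have : i ≤ 1 := (Nat.pow_le_pow_iff_right hp'.one_lt).mp (by rwa [pow_one])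
    interval_cases i
    · rw [pow_zero, pow_one] at h
      have h' : w = 1 := h
      rw [h', one_pow]
    · rw [pow_one] at h; exact h
  have hxk : x ^ p ^ 2 = 1 := by rw [pow_two, pow_mul]; exact hPp _ (CfsgLib.PGroup.pow_mem_frattini hP x)
  have hker : p ^ 3 ≤ Nat.card g.ker := by
    have h := g.ker.card_mul_index
    rw [Subgroup.index_ker, hK] at h
    have h2 : Nat.card g.range ≤ p := (Nat.le_of_dvd Nat.card_pos (Subgroup.card_dvd_of_le hgP)).trans hPc
    refine Nat.le_of_mul_le_mul_right ?_ hp'.pos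
    calc p ^ 3 * p = p ^ 4 := by ring
      _ ≤ _ := by rw [← h]; exact Nat.mul_le_mul_left _ h2
  set P₁ := Subgroup.zpowers (x ^ p)
  have hP₁ : Nat.card P₁ = p := by
    rw [Nat.card_zpowers, orderOf_eq_prime (by rw [← pow_mul, ← pow_two]; exact hxk) hx]
  have hle1 : P₁ ≤ g.ker := Subgroup.zpowers_le.mpr (show (x ^ p) ^ p = 1 by rw [← pow_mul, ← pow_two]; exact hxk)
  obtain ⟨y, hy, hy1⟩ : ∃ y ∈ g.ker, y ∉ P₁ := SetLike.exists_of_lt (lt_of_le_of_ne hle1 fun h => by
    rw [← h, hP₁] at hker
    exact absurd ((Nat.pow_le_pow_iff_right hp'.one_lt).mp (show p ^ 3 ≤ p ^ 1 by rwa [pow_one])) (by norm_num))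
  set P₂ := P₁ ⊔ Subgroup.zpowers y
  have hle2 : P₂ ≤ g.ker := sup_le hle1 (Subgroup.zpowers_le.mpr hy)
  have hyo : y ^ p = 1 := hy
  have hP₂ : Nat.card P₂ ≤ p ^ 2 := by
    have hyc : Nat.card (Subgroup.zpowers y) = p := by
      rw [Nat.card_zpowers, orderOf_eq_prime hyo (fun h => hy1 (h ▸ P₁.one_mem))]
    let f : P₁ × Subgroup.zpowers y →* K :=
      MonoidHom.noncommCoprod P₁.subtype (Subgroup.zpowers y).subtype (fun _ _ => Commute.all _ _)
    have hf : f.range = P₂ :=
      (MonoidHom.noncommCoprod_range _ _ _).trans (by rw [Subgroup.range_subtype, Subgroup.range_subtype])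
    have := Subgroup.card_range_dvd f
    rw [hf, Nat.card_prod, hP₁, hyc, ← pow_two] at this
    exact Nat.le_of_dvd (pow_pos hp'.pos 2) this
  obtain ⟨z, hz, hz1⟩ : ∃ z ∈ g.ker, z ∉ P₂ := SetLike.exists_of_lt (lt_of_le_of_ne hle2 fun h => by
    rw [← h] at hker
    exact absurd ((Nat.pow_le_pow_iff_right hp'.one_lt).mp (hker.trans hP₂)) (by norm_num))
  have hzo : z ^ p = 1 := hz
  let φ : Multiplicative (ZMod (p ^ 2) × ZMod p × ZMod p) →* K := AddMonoidHom.toMultiplicativeLeft
    ((ZMod.lift (p ^ 2) ⟨zmultiplesHom (Additive K) (Additive.ofMul x),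
        show ((p ^ 2 : ℕ) : ℤ) • Additive.ofMul x = 0 by rw [natCast_zsmul, ← ofMul_pow, hxk, ofMul_one]⟩).coprod
      ((ZMod.lift p ⟨zmultiplesHom (Additive K) (Additive.ofMul y),
          show ((p : ℕ) : ℤ) • Additive.ofMul y = 0 by rw [natCast_zsmul, ← ofMul_pow, hyo, ofMul_one]⟩).coprod
        (ZMod.lift p ⟨zmultiplesHom (Additive K) (Additive.ofMul z),
          show ((p : ℕ) : ℤ) • Additive.ofMul z = 0 by rw [natCast_zsmul, ← ofMul_pow, hzo, ofMul_one]⟩)))
  have hlift : ∀ (n : ℕ) (w : Additive K) (hw : ((n : ℕ) : ℤ) • w = 0),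
      ZMod.lift n ⟨zmultiplesHom (Additive K) w, hw⟩ 1 = w := fun n w hw => by
    rw [show (1 : ZMod n) = ((1 : ℤ) : ZMod n) by simp, ZMod.lift_coe]; simp
  have hxR : x ∈ φ.range := ⟨Multiplicative.ofAdd (1, 0, 0), by simp [φ, hlift]⟩
  have hyR : y ∈ φ.range := ⟨Multiplicative.ofAdd (0, 1, 0), by simp [φ, hlift]⟩
  have hzR : z ∈ φ.range := ⟨Multiplicative.ofAdd (0, 0, 1), by simp [φ, hlift]⟩
  have hP₂R : P₂ ≤ φ.range := sup_le (Subgroup.zpowers_le.mpr (pow_mem hxR p)) (Subgroup.zpowers_le.mpr hyR)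
  set P₃ := P₂ ⊔ Subgroup.zpowers z
  have hP₃ : p ^ 3 ≤ Nat.card P₃ := by
    have s1 := card_lt_mul hK (lt_of_le_of_ne (le_sup_left : P₁ ≤ P₂)
      fun h => hy1 (h.symm ▸ Subgroup.mem_sup_right (Subgroup.mem_zpowers y)))
    have s2 := card_lt_mul hK (lt_of_le_of_ne (le_sup_left : P₂ ≤ P₃)
      fun h => hz1 (h.symm ▸ Subgroup.mem_sup_right (Subgroup.mem_zpowers z)))
    rw [hP₁] at s1
    calc p ^ 3 = p * p * p := by ring
      _ ≤ Nat.card P₂ * p := Nat.mul_le_mul_right _ s1
      _ ≤ _ := s2
  have hlt : P₃ < φ.range := lt_of_le_of_ne (sup_le hP₂R (Subgroup.zpowers_le.mpr hzR)) fun h => by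
    have : P₃ ≤ g.ker := sup_le hle2 (Subgroup.zpowers_le.mpr hz)
    exact hx (this (h ▸ hxR))
  have hs : Function.Surjective φ := by
    rw [← MonoidHom.range_eq_top]
    refine Subgroup.eq_top_of_le_card _ ?_
    rw [hK, pow_succ]
    exact (Nat.mul_le_mul_right _ hP₃).trans (card_lt_mul hK hlt)
  have hb : Function.Bijective φ := (Nat.bijective_iff_surjective_and_card φ).mpr ⟨hs, by
    show Nat.card (ZMod (p ^ 2) × ZMod p × ZMod p) = Nat.card K
    rw [Nat.card_prod, Nat.card_prod, Nat.card_zmod, Nat.card_zmod, hK]; ring⟩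
  exact ⟨(MulEquiv.ofBijective φ hb).symm⟩

/-- An essential subgroup of order `p⁴` has no characteristic series. -/
theorem noFlag_of_essential {Ω : Type*} [Group Ω] {S : Subgroup Ω} [Finite S] {F : FusionSystem S}
    {H : Subgroup Ω} (hS : IsPGroup p S) (hH : F.IsEssential p H) (hcard : Nat.card H = p ^ 4) :
    NoFlag p H := by
  intro L₁ L₂ L₃ i1 i2 i3 h12 h23 c1 c2 c3
  let L : ℕ → Subgroup H := fun i => if i = 0 then ⊥ else if i = 1 then L₁ else if i = 2 then L₂
    else if i = 3 then L₃ else ⊤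
  refine CfsgLib.FusionFlag.not_flag hS hH 4 L rfl rfl (fun i hi a w hw => ?_) (fun i hi => ?_) (fun i hi => ?_)
  · interval_cases i
    · exact (Subgroup.mem_bot.mpr (by rw [(Subgroup.mem_bot.mp hw), map_one]) : a w ∈ (⊥ : Subgroup H))
    · exact i1 a w hw
    · exact i2 a w hw
    · exact i3 a w hw
    · exact (Subgroup.mem_top _ : a w ∈ (⊤ : Subgroup H))
  · interval_cases i
    · exact (bot_le : ⊥ ≤ L₁)
    · exact h12
    · exact h23
    · exact (le_top : L₃ ≤ ⊤)
  · interval_cases i
    · show Nat.card L₁ = p * Nat.card (⊥ : Subgroup H)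
      rw [Subgroup.card_bot, mul_one, c1]
    · show Nat.card L₂ = p * Nat.card L₁
      rw [c1, c2, pow_two]
    · show Nat.card L₃ = p * Nat.card L₂
      rw [c2, c3, pow_succ']
    · show Nat.card (⊤ : Subgroup H) = p * Nat.card L₃
      rw [Subgroup.card_top, hcard, c3, pow_succ']

end CfsgLib.FusionFourth
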