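import Cfsg.Agent.Lib.Fusion.EssentialTransvection
import Cfsg.Agent.Lib.Fusion.EssentialFourth

/-!
A group of automorphisms of an abelian group of order `p³` and exponent `p` with a strongly
`p`-embedded subgroup has no Sylow `p`-subgroup of order `p²`.
-/

set_option autoImplicit false

namespace CfsgLib.FusionCube

open Cfsg CfsgLib.Fusion

variable {p : ℕ} [hp : Fact p.Prime] {X : Type*} [Group X] [Finite X]

/-- An abelian `p`-subgroup linked to each of its conjugates by commuting elements. -/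
theorem false_of_link {H : Subgroup X} (hH : IsStronglyPEmbedded p H) (T : Subgroup X) (hTp : IsPGroup p T)
    (hTne : T ≠ ⊥) (hcomm : ∀ a ∈ T, ∀ b ∈ T, Commute a b)
    (h : ∀ g : X, ∃ t ∈ T, t ≠ 1 ∧ ∃ u ∈ T, u ≠ 1 ∧ Commute (g * u * g⁻¹) t) : False := by
  obtain ⟨R, hR⟩ := exists_embeddingData hH
  obtain ⟨R', hR'⟩ := hTp.exists_le_sylow
  obtain ⟨c, hc⟩ := MulAction.exists_smul_eq X R R'
  set H' := H.map (MulAut.conj c).toMonoidHom
  have hd : EmbeddingData p R' H' := hc ▸ hR.map_conj c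
  have hTH : T ≤ H' := hR'.trans hd.le
  have hall : ∀ g : X, ∀ b ∈ T, g * b * g⁻¹ ∈ H' := by
    intro g b hb
    obtain ⟨t, ht, ht1, u, hu, hu1, hst⟩ := h g
    have hs1 : g * u * g⁻¹ ≠ 1 := fun e => hu1 (conj_eq_one_iff.mp e)
    have hsH : g * u * g⁻¹ ∈ H' := by
      refine hd.mem_of_conj (Subgroup.zpowers_le.mpr (hTH ht)) (hTp.to_le (Subgroup.zpowers_le.mpr ht))
        (by simpa [Subgroup.zpowers_eq_bot] using ht1) fun a ha => ?_
      obtain ⟨i, rfl⟩ := ha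
      rw [(hst.zpow_right i).eq, mul_inv_cancel_right]
      exact Subgroup.zpow_mem _ (hTH ht) i
    have hsp : IsPGroup p (Subgroup.zpowers (g * u * g⁻¹)) :=
      (hTp.map (MulAut.conj g).toMonoidHom).to_le (Subgroup.zpowers_le.mpr ⟨u, hu, rfl⟩)
    refine hd.mem_of_conj (Subgroup.zpowers_le.mpr hsH) hsp
      (by simpa [Subgroup.zpowers_eq_bot] using hs1) fun a ha => ?_
    obtain ⟨i, rfl⟩ := ha
    have hsb : Commute (g * b * g⁻¹) (g * u * g⁻¹) := (hcomm b hb u hu).map (MulAut.conj g).toMonoidHom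
    rw [(hsb.zpow_right i).eq, mul_inv_cancel_right]
    exact Subgroup.zpow_mem _ hsH i
  have htop : H' = ⊤ := top_le_iff.mp fun x _ =>
    hd.mem_of_conj hTH hTp hTne fun a ha => hall x a ha
  refine hH.2.1 (top_le_iff.mp fun x _ => ?_)
  obtain ⟨y, hy, hye⟩ : MulAut.conj c x ∈ H' := htop ▸ Subgroup.mem_top _
  exact (MulAut.conj c).injective hye ▸ hy

variable {K : Type*} [CommGroup K]

/-- The displacement `x ↦ x⁻¹ * u x`. -/
def dsp (u : MulAut K) : K →* K where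
  toFun x := x⁻¹ * u x
  map_one' := by simp
  map_mul' x y := by rw [map_mul, mul_inv_rev, mul_comm y⁻¹, mul_mul_mul_comm]

theorem dsp_apply (u : MulAut K) (x : K) : dsp u x = x⁻¹ * u x := rfl

theorem apply_eq (u : MulAut K) (x : K) : u x = x * dsp u x := (mul_inv_cancel_left _ _).symm

theorem dsp_eq_one {u : MulAut K} {x : K} : dsp u x = 1 ↔ u x = x := by
  rw [dsp_apply, inv_mul_eq_one, eq_comm]

theorem dsp_mul (a b : MulAut K) (x : K) : dsp (a * b) x = dsp b x * dsp a x * dsp a (dsp b x) := by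
  have : (a * b) x = x * (dsp b x * dsp a x * dsp a (dsp b x)) := by
    rw [MulAut.mul_apply, apply_eq b x, map_mul, apply_eq a x, apply_eq a (dsp b x)]
    simp only [mul_comm, mul_left_comm, mul_assoc]
  rw [dsp_apply, this, inv_mul_cancel_left]

theorem dsp_comm {a b : MulAut K} (h : Commute a b) (x : K) : dsp a (dsp b x) = dsp b (dsp a x) := by
  have h1 := dsp_mul a b x
  rw [h.eq, dsp_mul b a x, mul_comm (dsp a x) (dsp b x)] at h1
  exact (mul_left_cancel h1).symm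

theorem aut_fixed_of_commute {a b : MulAut K} (h : Commute a b) {x : K} (hx : b x = x) : b (a x) = a x := by
  rw [← MulAut.mul_apply, ← h.eq, MulAut.mul_apply, hx]

variable [Finite K]

/-- A `p`-automorphism fixes a nontrivial element of each nontrivial invariant subgroup. -/
theorem exists_fixed (hK : IsPGroup p K) {u : MulAut K} (hu : IsPGroup p (Subgroup.zpowers u)) (L : Subgroup K)
    (hL : L ≠ ⊥) (huL : ∀ x ∈ L, u x ∈ L) : ∃ x ∈ L, x ≠ 1 ∧ u x = x := by
  let St : Subgroup (MulAut K) :=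
    { carrier := {b | (∀ x ∈ L, b x ∈ L) ∧ ∀ x ∈ L, b⁻¹ x ∈ L}
      one_mem' := ⟨fun x hx => hx, fun x hx => by simpa using hx⟩
      mul_mem' := fun {a b} ha hb => ⟨fun x hx => ha.1 _ (hb.1 x hx), fun x hx => by
        rw [mul_inv_rev, MulAut.mul_apply]; exact hb.2 _ (ha.2 x hx)⟩
      inv_mem' := fun {a} ha => ⟨ha.2, fun x hx => by rw [inv_inv]; exact ha.1 x hx⟩ }
  have huS : u ∈ St := by
    refine ⟨huL, fun x hx => ?_⟩
    have hsurj : Function.Surjective (fun z : L => (⟨u z, huL z z.2⟩ : L)) :=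
      (Finite.injective_iff_surjective).mp fun a b e => Subtype.ext (u.injective (congrArg Subtype.val e))
    obtain ⟨y, hy⟩ := hsurj ⟨x, hx⟩
    have hy' : u y = x := congrArg Subtype.val hy
    rw [← hy', MulAut.inv_apply_self]; exact y.2
  let _ : MulAction (Subgroup.zpowers u) L :=
    { smul := fun g x => ⟨(g : MulAut K) x, ((Subgroup.zpowers_le.mpr huS) g.2).1 x x.2⟩
      one_smul := fun _ => rfl
      mul_smul := fun _ _ _ => rfl }
  have hdvd : p ∣ Nat.card L := by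
    obtain ⟨n, hn⟩ := IsPGroup.iff_card.mp (hK.to_subgroup L)
    rcases n with _ | n
    · exact absurd (Subgroup.card_eq_one.mp hn) hL
    · exact hn ▸ dvd_pow_self p (Nat.succ_ne_zero n)
  have h1 : (1 : L) ∈ MulAction.fixedPoints (Subgroup.zpowers u) L := fun g => Subtype.ext (map_one (g : MulAut K))
  obtain ⟨b, hb, hb1⟩ := hu.exists_fixed_point_of_prime_dvd_card_of_fixed_point L hdvd h1
  exact ⟨b, b.2, fun e => hb1 (Subtype.ext e.symm), congrArg Subtype.val (hb ⟨u, Subgroup.mem_zpowers u⟩)⟩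

/-- The displacement shrinks invariant subgroups. -/
theorem card_map_dsp (hK : IsPGroup p K) {u : MulAut K} (hu : IsPGroup p (Subgroup.zpowers u)) (L : Subgroup K)
    (hL : L ≠ ⊥) (huL : ∀ x ∈ L, u x ∈ L) : p * Nat.card (L.map (dsp u)) ≤ Nat.card L := by
  obtain ⟨x, hx, hx1, hxu⟩ := exists_fixed hK hu L hL huL
  have h := Subgroup.card_mul_index ((dsp u).comp L.subtype).ker
  rw [Subgroup.index_ker, MonoidHom.range_comp, Subgroup.range_subtype] at h
  rw [← h]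
  refine Nat.mul_le_mul_right _ ?_
  obtain ⟨n, hn⟩ := IsPGroup.iff_card.mp ((hK.to_subgroup L).to_subgroup ((dsp u).comp L.subtype).ker)
  rcases n with _ | n
  · exfalso
    have : (⟨x, hx⟩ : L) ∈ ((dsp u).comp L.subtype).ker := dsp_eq_one.mpr hxu
    rw [Subgroup.card_eq_one.mp hn, Subgroup.mem_bot] at this
    exact hx1 (congrArg Subtype.val this)
  · rw [hn]; exact Nat.le_self_pow (Nat.succ_ne_zero n) p

theorem map_dsp_invariant {a u : MulAut K} (h : Commute a u) {L : Subgroup K} (haL : ∀ x ∈ L, a x ∈ L) :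
    ∀ x ∈ L.map (dsp u), a x ∈ L.map (dsp u) := by
  rintro _ ⟨x, hx, rfl⟩
  refine ⟨a x, haL x hx, ?_⟩
  simp only [dsp_apply, map_mul, map_inv]
  rw [show u (a x) = a (u x) from (DFunLike.congr_fun h.eq x).symm]

/-- The case in which some element of the Sylow subgroup has a single Jordan block. -/
theorem false_of_regular (hK : Nat.card K = p ^ 3) (ρ : X →* MulAut K) (hρ : Function.Injective ρ)
    {H : Subgroup X} (hH : IsStronglyPEmbedded p H) (Q : Subgroup X) (hQ : Nat.card Q = p ^ 2)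
    (hmax : ∀ R : Subgroup X, IsPGroup p R → Q ≤ R → R = Q) {q₀ : X} (hq₀ : q₀ ∈ Q) {x₀ : K}
    (hreg : dsp (ρ q₀) (dsp (ρ q₀) x₀) ≠ 1) : False := by
  have hp' : p.Prime := hp.out
  have hKp : IsPGroup p K := IsPGroup.of_card hK
  have hQp : IsPGroup p Q := IsPGroup.of_card hQ
  have hQc : ∀ a ∈ Q, ∀ b ∈ Q, Commute (ρ a) (ρ b) := fun a ha b hb =>
    (show Commute a b from congrArg Subtype.val
      (IsPGroup.commutative_of_card_eq_prime_sq hQ (⟨a, ha⟩ : Q) ⟨b, hb⟩)).map ρ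
  have hzp : ∀ a ∈ Q, IsPGroup p (Subgroup.zpowers (ρ a)) := fun a ha => by
    rw [← MonoidHom.map_zpowers]
    exact (hQp.to_le (Subgroup.zpowers_le.mpr ha)).map ρ
  set d := dsp (ρ q₀)
  set c := d (d x₀) with hc
  set L1 := (⊤ : Subgroup K).map d with hL1
  set L2 := L1.map d with hL2
  have hdL1 : ∀ y, d y ∈ L1 := fun y => ⟨y, Subgroup.mem_top y, rfl⟩
  have hL1q : ∀ a ∈ Q, ∀ x ∈ L1, ρ a x ∈ L1 := fun a ha =>
    map_dsp_invariant (hQc a ha q₀ hq₀) fun x _ => Subgroup.mem_top _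
  have hL2q : ∀ a ∈ Q, ∀ x ∈ L2, ρ a x ∈ L2 := fun a ha =>
    map_dsp_invariant (hQc a ha q₀ hq₀) (hL1q a ha)
  have hcL2 : c ∈ L2 := ⟨_, hdL1 x₀, rfl⟩
  have hL2ne : L2 ≠ ⊥ := fun e => hreg (by rw [e, Subgroup.mem_bot] at hcL2; exact hcL2)
  have hL1ne : L1 ≠ ⊥ := fun e => hL2ne (by rw [hL2, e, Subgroup.map_bot])
  have hKne : (⊤ : Subgroup K) ≠ ⊥ := fun e => hreg ((Subgroup.mem_bot (G := K)).mp (e ▸ Subgroup.mem_top _))
  have b1 := card_map_dsp hKp (hzp q₀ hq₀) ⊤ hKne fun x _ => Subgroup.mem_top _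
  have b2 := card_map_dsp hKp (hzp q₀ hq₀) L1 hL1ne (hL1q q₀ hq₀)
  have b3 := card_map_dsp hKp (hzp q₀ hq₀) L2 hL2ne (hL2q q₀ hq₀)
  rw [Subgroup.card_top, hK] at b1
  change p * Nat.card L1 ≤ p ^ 3 at b1
  change p * Nat.card L2 ≤ Nat.card L1 at b2
  have b4 : p ≤ Nat.card L2 := le_trans (Nat.le_mul_of_pos_right p Nat.card_pos) b3
  have b5 : Nat.card L1 ≤ p ^ 2 := Nat.le_of_mul_le_mul_left (b1.trans (by rw [pow_succ', mul_comm])) hp'.pos
  have c2 : Nat.card L2 = p :=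
    le_antisymm (Nat.le_of_mul_le_mul_left ((b2.trans b5).trans (le_of_eq (pow_two p))) hp'.pos) b4
  have c1 : Nat.card L1 = p ^ 2 := le_antisymm b5 (by rw [pow_two]; rwa [c2] at b2)
  have hdc : d c = 1 := by
    have : Nat.card (L2.map d) ≤ 1 := Nat.le_of_mul_le_mul_left (b3.trans (by rw [c2, mul_one])) hp'.pos
    have hm : d c ∈ L2.map d := ⟨c, hcL2, rfl⟩
    rwa [Subgroup.card_eq_one.mp (le_antisymm this Nat.card_pos), Subgroup.mem_bot] at hm
  have hL21 : L2 ≤ L1 := Subgroup.map_mono le_top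
  have hz2 : Subgroup.zpowers c = L2 := by
    refine Subgroup.eq_of_le_of_card_ge (Subgroup.zpowers_le.mpr hcL2) (c2.le.trans ?_)
    have hne : Subgroup.zpowers c ≠ ⊥ := by simpa [Subgroup.zpowers_eq_bot] using hreg
    obtain ⟨n, hn⟩ := IsPGroup.iff_card.mp (hKp.to_subgroup (Subgroup.zpowers c))
    rcases n with _ | n
    · exact absurd (Subgroup.card_eq_one.mp hn) hne
    · rw [hn]; exact Nat.le_self_pow (Nat.succ_ne_zero n) p
  have hker : d.ker = L2 := by
    refine (Subgroup.eq_of_le_of_card_ge ?_ ?_).symm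
    · rw [← hz2]; exact Subgroup.zpowers_le.mpr hdc
    · have h := Subgroup.card_mul_index d.ker
      rw [Subgroup.index_ker, MonoidHom.range_eq_map, ← hL1, c1, hK, pow_succ' p 2] at h
      rw [c2, Nat.eq_of_mul_eq_mul_right (pow_pos hp'.pos 2) h]
  -- the stabiliser of the flag is the Sylow subgroup
  have hflag : ∀ a ∈ Q, ρ a c = c ∧ (∀ y, dsp (ρ a) y ∈ L1) ∧ ∀ y ∈ L1, dsp (ρ a) y ∈ L2 := by
    intro a ha
    obtain ⟨k, hk⟩ := hQp ⟨a, ha⟩
    have hk' : ρ a ^ p ^ k = 1 := by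
      rw [← map_pow, show a ^ p ^ k = 1 from congrArg Subtype.val hk, map_one]
    refine ⟨?_, fun y => ?_, ?_⟩
    · have := CfsgLib.FusionFlag.stabilizes_step (K := (⊥ : Subgroup K)) (L := L2) bot_le
        (by rw [c2, Subgroup.card_bot, mul_one]) hk' (hL2q a ha) (fun x hx => by simp_all) c hcL2
      exact (inv_mul_eq_one.mp (Subgroup.mem_bot.mp this)).symm
    · exact CfsgLib.FusionFlag.stabilizes_step (K := L1) (L := ⊤) le_top
        (by rw [Subgroup.card_top, hK, c1, pow_succ' p 2]) hk' (fun x _ => Subgroup.mem_top _) (hL1q a ha) y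
        (Subgroup.mem_top y)
    · exact CfsgLib.FusionFlag.stabilizes_step (K := L2) (L := L1) hL21
        (by rw [c1, c2, pow_two]) hk' (hL1q a ha) (hL2q a ha)
  have hfix2 : ∀ b : MulAut K, b c = c → ∀ y ∈ L2, b y = y := by
    intro b hb y hy
    rw [← hz2] at hy
    obtain ⟨i, rfl⟩ := hy
    show b (c ^ i) = c ^ i
    rw [map_zpow, hb]
  let U : Subgroup X :=
    { carrier := {a | ρ a c = c ∧ (∀ y, dsp (ρ a) y ∈ L1) ∧ ∀ y ∈ L1, dsp (ρ a) y ∈ L2}
      one_mem' := ⟨by simp, fun y => by simp [dsp_apply], fun y _ => by simp [dsp_apply]⟩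
      mul_mem' := fun {a b} ha hb => ⟨by rw [map_mul, MulAut.mul_apply, hb.1, ha.1],
        fun y => by
          rw [map_mul, dsp_mul]
          exact L1.mul_mem (L1.mul_mem (hb.2.1 y) (ha.2.1 y)) (ha.2.1 _),
        fun y hy => by
          rw [map_mul, dsp_mul]
          exact L2.mul_mem (L2.mul_mem (hb.2.2 y hy) (ha.2.2 y hy)) (ha.2.2 _ (hL21 (hb.2.2 y hy)))⟩
      inv_mem' := fun {a} ha => by
        have e : ∀ y, dsp (ρ a⁻¹) y = (dsp (ρ a) ((ρ a)⁻¹ y))⁻¹ := fun y => by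
          rw [map_inv, dsp_apply, dsp_apply, MulAut.apply_inv_self, mul_inv_rev, inv_inv]
        refine ⟨by rw [map_inv]; conv_lhs => rw [← ha.1, MulAut.inv_apply_self], fun y => ?_, fun y hy => ?_⟩
        · rw [e]; exact L1.inv_mem (ha.2.1 _)
        · rw [e]
          refine L2.inv_mem (ha.2.2 _ ?_)
          have hm : y * (dsp (ρ a) ((ρ a)⁻¹ y))⁻¹ ∈ L1 := L1.mul_mem hy (L1.inv_mem (ha.2.1 _))
          rwa [dsp_apply, MulAut.apply_inv_self, mul_inv_rev, inv_inv, mul_inv_cancel_left] at hm }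
  have hUp : IsPGroup p U := by
    intro a
    obtain ⟨ha1, ha2, ha3⟩ := a.2
    obtain ⟨k, hk⟩ := exists_pow_eq_one_of_stabilizes hKp (n := 3)
      (fun i => if i = 0 then (⊥ : Subgroup K) else if i = 1 then L2 else if i = 2 then L1 else ⊤)
      (fun i hi => by interval_cases i <;> simp [hL21]) rfl (α := ρ (a : X))
      ⟨0, fun x hx => by simp only [↓reduceIte, Subgroup.mem_bot] at hx; simp [hx]⟩
      (fun i hi x hx => by
        interval_cases i
        · simp only [↓reduceIte, Nat.succ_ne_self, zero_add, one_ne_zero] at hx ⊢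
          rw [hfix2 _ ha1 x hx, inv_mul_cancel]
          exact Subgroup.one_mem _
        · simp only [↓reduceIte, one_ne_zero, OfNat.ofNat_ne_zero, OfNat.ofNat_ne_one, Nat.reduceAdd] at hx ⊢
          exact ha3 x hx
        · simp only [↓reduceIte, OfNat.ofNat_ne_zero, OfNat.ofNat_ne_one]
          exact ha2 x)
    refine ⟨k, Subtype.ext (hρ ?_)⟩
    rw [SubgroupClass.coe_pow, map_pow, hk, Subgroup.coe_one, map_one]
  have hU : U = Q := hmax U hUp fun a ha => hflag a ha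
  have hQmem : ∀ a, ρ a c = c → (∀ y, dsp (ρ a) y ∈ L1) → (∀ y ∈ L1, dsp (ρ a) y ∈ L2) → a ∈ Q :=
    fun a h1 h2 h3 => hU ▸ ⟨h1, h2, h3⟩
  have hmv : ∀ w ∈ Q, (∀ y ∈ L1, ρ w y = y) → ∀ y, dsp (ρ w) y ∈ L2 := by
    intro w hw hfix y
    rw [← hker, MonoidHom.mem_ker]
    show dsp (ρ q₀) _ = 1
    rw [← dsp_comm (hQc w hw q₀ hq₀), dsp_eq_one]
    exact hfix _ (hdL1 y)
  have hgen : ∀ (b : MulAut K) (y : K), b y = y → b (d y) = d y → b c = c → d (d y) ≠ 1 → b = 1 := by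
    intro b y h1 h2 h3 hy
    let Fx : Subgroup K := MonoidHom.eqLocus b.toMonoidHom (MonoidHom.id K)
    have e2 : L2 ≤ Fx := fun z hz => hfix2 b h3 z hz
    have e1 : L1 ≤ Fx := by
      have hlt : L2 < L2 ⊔ Subgroup.zpowers (d y) := lt_of_le_of_ne le_sup_left fun e => hy (by
        have hm : d y ∈ d.ker := hker ▸ e.ge (Subgroup.mem_sup_right (Subgroup.mem_zpowers _))
        exact MonoidHom.mem_ker.mp hm)
      have hle : L2 ⊔ Subgroup.zpowers (d y) ≤ L1 := sup_le hL21 (Subgroup.zpowers_le.mpr (hdL1 y))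
      have := CfsgLib.FusionFourth.card_lt_mul (n := 3) hK hlt
      rw [c2, ← pow_two, ← c1] at this
      rw [← Subgroup.eq_of_le_of_card_ge hle this]
      exact sup_le e2 (Subgroup.zpowers_le.mpr h2)
    have hlt : L1 < L1 ⊔ Subgroup.zpowers y := lt_of_le_of_ne le_sup_left fun e => hy (by
      have hm : d (d y) ∈ L2.map d :=
        ⟨d y, ⟨y, e.ge (Subgroup.mem_sup_right (Subgroup.mem_zpowers _)), rfl⟩, rfl⟩
      rw [← hz2, MonoidHom.map_zpowers, hdc, Subgroup.zpowers_one_eq_bot, Subgroup.mem_bot] at hm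
      exact hm)
    have := CfsgLib.FusionFourth.card_lt_mul (n := 3) hK hlt
    rw [c1, ← pow_succ, ← hK] at this
    refine MulEquiv.ext fun z => ?_
    exact (show L1 ⊔ Subgroup.zpowers y ≤ Fx from sup_le e1 (Subgroup.zpowers_le.mpr h1))
      ((Subgroup.eq_top_of_le_card _ this).ge (Subgroup.mem_top z))
  -- the transvection of `Q`
  let e : Q →* K ⧸ L2 :=
    { toFun := fun a => QuotientGroup.mk (dsp (ρ (a : X)) x₀)
      map_one' := by simp [dsp_apply]
      map_mul' := fun a b => by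
        show QuotientGroup.mk (dsp (ρ ((a : X) * b)) x₀) = _
        rw [map_mul, dsp_mul, QuotientGroup.mk_mul, QuotientGroup.mk_mul,
          (QuotientGroup.eq_one_iff _).mpr ((hflag _ a.2).2.2 _ ((hflag _ b.2).2.1 x₀)), mul_one, mul_comm] }
  have hrange : e.range ≤ L1.map (QuotientGroup.mk' L2) := by
    rintro _ ⟨a, rfl⟩
    exact ⟨_, (hflag _ a.2).2.1 x₀, rfl⟩
  obtain ⟨z₀, hz₀, hz₀1⟩ : ∃ z ∈ e.ker, z ≠ 1 := by
    refine (Subgroup.bot_or_exists_ne_one e.ker).resolve_left fun h => ?_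
    have h1 := Subgroup.card_mul_index e.ker
    rw [h, Subgroup.card_bot, one_mul, Subgroup.index_bot, hQ] at h1
    have h3 : Nat.card Q ≤ Nat.card (L1.map (QuotientGroup.mk' L2)) := by
      refine Nat.card_le_card_of_injective (fun a => (⟨e a, hrange ⟨a, rfl⟩⟩ : L1.map (QuotientGroup.mk' L2)))
        fun a b hab => (MonoidHom.ker_eq_bot_iff e).mp h (congrArg Subtype.val hab)
    have h4 := Subgroup.card_mul_index ((QuotientGroup.mk' L2).comp L1.subtype).ker
    rw [Subgroup.index_ker, MonoidHom.range_comp, Subgroup.range_subtype, ← MonoidHom.comap_ker,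
      QuotientGroup.ker_mk', c1] at h4
    have h5 : Nat.card (L2.comap L1.subtype) = p :=
      (Nat.card_congr (Subgroup.subgroupOfEquivOfLe hL21).toEquiv).trans c2
    rw [h5, pow_two] at h4
    rw [Nat.eq_of_mul_eq_mul_left hp'.pos h4, hQ] at h3
    exact absurd h3 (not_le.mpr (by rw [pow_two]; exact lt_mul_self hp'.one_lt))
  set z := (z₀ : X)
  have hzQ : z ∈ Q := z₀.2
  have hz1 : z ≠ 1 := fun h => hz₀1 (Subtype.ext h)
  have hzx : dsp (ρ z) x₀ ∈ L2 := (QuotientGroup.eq_one_iff _).mp hz₀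
  have hzfix1 : ∀ y ∈ L1, ρ z y = y := by
    intro y hy
    have e1 : ρ z (d x₀) = d x₀ := by
      rw [← dsp_eq_one, dsp_comm (hQc z hzQ q₀ hq₀)]
      exact MonoidHom.mem_ker.mp (hker.ge hzx)
    let Fx : Subgroup K := MonoidHom.eqLocus (ρ z).toMonoidHom (MonoidHom.id K)
    have hlt : L2 < L2 ⊔ Subgroup.zpowers (d x₀) := lt_of_le_of_ne le_sup_left fun h => hreg (by
      have hm : d x₀ ∈ d.ker := hker ▸ h.ge (Subgroup.mem_sup_right (Subgroup.mem_zpowers _))
      exact MonoidHom.mem_ker.mp hm)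
    have hle : L2 ⊔ Subgroup.zpowers (d x₀) ≤ L1 := sup_le hL21 (Subgroup.zpowers_le.mpr (hdL1 x₀))
    have := CfsgLib.FusionFourth.card_lt_mul (n := 3) hK hlt
    rw [c2, ← pow_two, ← c1] at this
    exact (show L2 ⊔ Subgroup.zpowers (d x₀) ≤ Fx from
      sup_le (fun w hw => hfix2 _ (hflag z hzQ).1 w hw) (Subgroup.zpowers_le.mpr e1))
      ((Subgroup.eq_of_le_of_card_ge hle this).ge hy)
  have hzmv : ∀ y, dsp (ρ z) y ∈ L2 := hmv z hzQ hzfix1
  have hzx1 : dsp (ρ z) x₀ ≠ 1 := fun h => hz1 (hρ (by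
    rw [map_one]; exact hgen _ x₀ (dsp_eq_one.mp h) (hzfix1 _ (hdL1 _)) (hflag z hzQ).1 hreg))
  -- conjugates of the transvection
  have hvfix : ∀ a : X, ρ (a * z * a⁻¹) (ρ a c) = ρ a c := fun a => by
    rw [map_mul, map_mul, MulAut.mul_apply, MulAut.mul_apply, map_inv, MulAut.inv_apply_self, (hflag z hzQ).1]
  have hvmv : ∀ a : X, ∀ y, dsp (ρ (a * z * a⁻¹)) y ∈ Subgroup.zpowers (ρ a c) := by
    intro a y
    have e : dsp (ρ (a * z * a⁻¹)) y = ρ a (dsp (ρ z) ((ρ a)⁻¹ y)) := by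
      rw [dsp_apply, dsp_apply, map_mul, map_mul, MulAut.mul_apply, MulAut.mul_apply, map_inv, map_mul, map_inv,
        MulAut.apply_inv_self]
    have h := hzmv ((ρ a)⁻¹ y)
    rw [← hz2] at h
    obtain ⟨i, hi⟩ := h
    exact ⟨i, by rw [e, ← hi, map_zpow]⟩
  have hkey : ∀ a : X, ρ a c ∈ L1 → ρ a c ∈ L2 := by
    intro a hcL
    by_contra hc1
    set c₁ := ρ a c
    set v := a * z * a⁻¹
    have hsub : Subgroup.zpowers c₁ ≤ L1 := Subgroup.zpowers_le.mpr hcL
    have hmeet : ∀ y, y ∈ L2 → y ∈ Subgroup.zpowers c₁ → y = 1 := by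
      intro y hy2 hy1
      by_contra hy
      have hcc : c₁ ^ Nat.card (Subgroup.zpowers c₁) = 1 := by rw [Nat.card_zpowers, pow_orderOf_eq_one]
      have hz' : Subgroup.zpowers y = L2 := by
        refine Subgroup.eq_of_le_of_card_ge (Subgroup.zpowers_le.mpr hy2) (c2.le.trans ?_)
        obtain ⟨n, hn⟩ := IsPGroup.iff_card.mp (hKp.to_subgroup (Subgroup.zpowers y))
        rcases n with _ | n
        · exact absurd (Subgroup.zpowers_eq_bot.mp (Subgroup.card_eq_one.mp hn)) hy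
        · rw [hn]; exact Nat.le_self_pow (Nat.succ_ne_zero n) p
      have hle : L2 ≤ Subgroup.zpowers c₁ := hz' ▸ Subgroup.zpowers_le.mpr hy1
      have hcard : Nat.card (Subgroup.zpowers c₁) = p := by
        rw [Nat.card_zpowers, MulEquiv.orderOf_eq, ← Nat.card_zpowers, hz2, c2]
      exact hc1 ((Subgroup.eq_of_le_of_card_ge hle (by rw [hcard, c2])).ge (Subgroup.mem_zpowers _))
    let St : Subgroup (MulAut K) :=
      { carrier := {b | b c₁ = c₁ ∧ ∀ y, dsp b y ∈ Subgroup.zpowers c₁}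
        one_mem' := ⟨rfl, fun y => by simp [dsp_apply]⟩
        mul_mem' := fun {b b'} hb hb' => ⟨by rw [MulAut.mul_apply, hb'.1, hb.1], fun y => by
          rw [dsp_mul]
          exact Subgroup.mul_mem _ (Subgroup.mul_mem _ (hb'.2 y) (hb.2 y)) (hb.2 _)⟩
        inv_mem' := fun {b} hb => ⟨by conv_lhs => rw [← hb.1, MulAut.inv_apply_self], fun y => by
          rw [show dsp b⁻¹ y = (dsp b (b⁻¹ y))⁻¹ by
            rw [dsp_apply, dsp_apply, MulAut.apply_inv_self, mul_inv_rev, inv_inv]]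
          exact Subgroup.inv_mem _ (hb.2 _)⟩ }
    have hvSt : ρ v ∈ St := ⟨hvfix a, hvmv a⟩
    have hz' : ρ z c₁ = c₁ := hzfix1 _ hcL
    have hconj : ρ (z * v * z⁻¹) ∈ St := by
      have hzi : (ρ z)⁻¹ c₁ = c₁ := by conv_lhs => rw [← hz', MulAut.inv_apply_self]
      refine ⟨by simp only [map_mul, map_inv, MulAut.mul_apply, hzi, hvSt.1, hz'], fun y => ?_⟩
      have e : dsp (ρ (z * v * z⁻¹)) y = ρ z (dsp (ρ v) ((ρ z)⁻¹ y)) := by
        simp only [map_mul, map_inv, dsp_apply, MulAut.mul_apply, MulAut.apply_inv_self]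
      obtain ⟨i, hi⟩ := hvmv a ((ρ z)⁻¹ y)
      exact ⟨i, by rw [e, ← hi, map_zpow, hz']⟩
    set w := z * v * z⁻¹ * v⁻¹ with hw
    have hwSt : ρ w ∈ St := by
      rw [hw, map_mul, map_inv]
      exact St.mul_mem hconj (St.inv_mem hvSt)
    have hw1 : ∀ y ∈ L1, ρ w y = y := by
      intro y hy
      have h1 : (ρ v)⁻¹ y ∈ L1 := by
        have h2 : dsp (ρ v)⁻¹ y ∈ Subgroup.zpowers c₁ := (St.inv_mem hvSt).2 y
        rw [apply_eq (ρ v)⁻¹ y]
        exact L1.mul_mem hy (hsub h2)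
      have h2 : (ρ z)⁻¹ ((ρ v)⁻¹ y) = (ρ v)⁻¹ y := by conv_lhs => rw [← hzfix1 _ h1, MulAut.inv_apply_self]
      simp only [hw, map_mul, map_inv, MulAut.mul_apply, h2, MulAut.apply_inv_self, hzfix1 y hy]
    have hwQ : w ∈ Q := hQmem w (hw1 c (hL21 hcL2)) (fun y => hsub (hwSt.2 y)) fun y hy => by
      rw [dsp_eq_one.mpr (hw1 y hy)]; exact L2.one_mem
    have hw0 : w = 1 := hρ (by
      rw [map_one]
      exact hgen _ x₀ (dsp_eq_one.mp (hmeet _ (hmv w hwQ hw1 x₀) (hwSt.2 x₀))) (hw1 _ (hdL1 _))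
        (hw1 c (hL21 hcL2)) hreg)
    have hcom : Commute (ρ z) (ρ v) := by
      refine (show Commute z v from ?_).map ρ
      rwa [hw, mul_inv_eq_one, mul_inv_eq_iff_eq_mul] at hw0
    have hvc : ρ v (dsp (ρ z) x₀) = dsp (ρ z) x₀ := by
      rw [← dsp_eq_one, ← dsp_comm hcom, dsp_eq_one]
      obtain ⟨i, hi⟩ := hvmv a x₀
      rw [← hi, map_zpow, hz']
    have hvc' : ρ v c = c := by
      have hz'' : Subgroup.zpowers (dsp (ρ z) x₀) = L2 := by
        refine Subgroup.eq_of_le_of_card_ge (Subgroup.zpowers_le.mpr hzx) (c2.le.trans ?_)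
        obtain ⟨n, hn⟩ := IsPGroup.iff_card.mp (hKp.to_subgroup (Subgroup.zpowers (dsp (ρ z) x₀)))
        rcases n with _ | n
        · exact absurd (Subgroup.zpowers_eq_bot.mp (Subgroup.card_eq_one.mp hn)) hzx1
        · rw [hn]; exact Nat.le_self_pow (Nat.succ_ne_zero n) p
      obtain ⟨i, hi⟩ := hz''.ge hcL2
      rw [← hi, map_zpow, hvc]
    have hvL1 : ∀ y ∈ L1, ρ v y = y := by
      let Fx : Subgroup K := MonoidHom.eqLocus (ρ v).toMonoidHom (MonoidHom.id K)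
      have hlt : L2 < L2 ⊔ Subgroup.zpowers c₁ :=
        lt_of_le_of_ne le_sup_left fun h => hc1 (h.ge (Subgroup.mem_sup_right (Subgroup.mem_zpowers _)))
      have hle : L2 ⊔ Subgroup.zpowers c₁ ≤ L1 := sup_le hL21 hsub
      have := CfsgLib.FusionFourth.card_lt_mul (n := 3) hK hlt
      rw [c2, ← pow_two, ← c1] at this
      intro y hy
      exact (show L2 ⊔ Subgroup.zpowers c₁ ≤ Fx from
        sup_le (fun w hw => hfix2 _ hvc' w hw) (Subgroup.zpowers_le.mpr (hvfix a)))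
        ((Subgroup.eq_of_le_of_card_ge hle this).ge hy)
    have hvQ : v ∈ Q := hQmem v hvc' (fun y => hsub (hvmv a y)) fun y hy => by
      rw [dsp_eq_one.mpr (hvL1 y hy)]; exact L2.one_mem
    have hv1 : v = 1 := hρ (by
      rw [map_one]
      exact hgen _ x₀ (dsp_eq_one.mp (hmeet _ (hmv v hvQ hvL1 x₀) (hvmv a x₀))) (hvL1 _ (hdL1 _)) hvc' hreg)
    exact hz1 (conj_eq_one_iff.mp hv1)
  -- some centre is outside `L1`
  obtain ⟨a, ha⟩ : ∃ a : X, ρ a c ∉ L1 := by
    by_contra! hall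
    let N : Subgroup X :=
      { carrier := {b | ρ b c = c ∧ ∀ y, dsp (ρ b) y ∈ L2}
        one_mem' := ⟨by simp, fun y => by simp [dsp_apply]⟩
        mul_mem' := fun {b b'} hb hb' => ⟨by rw [map_mul, MulAut.mul_apply, hb'.1, hb.1], fun y => by
          rw [map_mul, dsp_mul]
          exact Subgroup.mul_mem _ (Subgroup.mul_mem _ (hb'.2 y) (hb.2 y)) (hb.2 _)⟩
        inv_mem' := fun {b} hb => ⟨by rw [map_inv]; conv_lhs => rw [← hb.1, MulAut.inv_apply_self], fun y => by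
          rw [map_inv, show dsp (ρ b)⁻¹ y = (dsp (ρ b) ((ρ b)⁻¹ y))⁻¹ by
            rw [dsp_apply, dsp_apply, MulAut.apply_inv_self, mul_inv_rev, inv_inv]]
          exact Subgroup.inv_mem _ (hb.2 _)⟩ }
    have hinvL2 : ∀ g : X, ∀ y ∈ L2, ρ g y ∈ L2 := fun g y hy => by
      rw [← hz2] at hy
      obtain ⟨i, rfl⟩ := hy
      show ρ g (c ^ i) ∈ L2
      rw [map_zpow]
      exact L2.zpow_mem (hkey g (hall g)) i
    have hNn : N.Normal := ⟨fun b hb g => ⟨by
        simp only [map_mul, map_inv, MulAut.mul_apply]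
        rw [hfix2 _ hb.1 _ (by rw [← map_inv]; exact hinvL2 _ c hcL2), MulAut.apply_inv_self], fun y => by
        rw [show dsp (ρ (g * b * g⁻¹)) y = ρ g (dsp (ρ b) ((ρ g)⁻¹ y)) by
          simp only [map_mul, map_inv, dsp_apply, MulAut.mul_apply, MulAut.apply_inv_self]]
        exact hinvL2 g _ (hb.2 _)⟩⟩
    have hNU : N ≤ U := fun b hb => ⟨hb.1, fun y => hL21 (hb.2 y), fun y _ => hb.2 y⟩
    have hle := (CfsgLib.PCore.le_pCore hNn (hUp.to_le hNU)).trans (pCore_eq_bot_of_embedded hH).le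
    exact hz1 (Subgroup.mem_bot.mp (hle ⟨(hflag z hzQ).1, hzmv⟩))
  set c₁ := ρ a c with hc1
  -- the orbit of the centre under `Q`
  have horb : ∀ π ∈ L1, ∃ u ∈ Q, dsp (ρ u) c₁ = π := by
    let θ : Q → L1 := fun u => ⟨dsp (ρ (u : X)) c₁, (hflag _ u.2).2.1 c₁⟩
    have hinj : Function.Injective θ := by
      intro u u' huu
      have h1 : ρ (u : X) c₁ = ρ (u' : X) c₁ := by
        rw [apply_eq (ρ (u : X)), apply_eq (ρ (u' : X)),
          show dsp (ρ (u : X)) c₁ = dsp (ρ (u' : X)) c₁ from congrArg Subtype.val huu]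
      set w := ((u⁻¹ * u' : Q) : X)
      have hwc : ρ w c₁ = c₁ := by
        show ρ ((u : X)⁻¹ * u') c₁ = c₁
        rw [map_mul, MulAut.mul_apply, ← h1, map_inv, MulAut.inv_apply_self]
      have hwQ : w ∈ Q := (u⁻¹ * u').2
      have hd1 : ρ w (d c₁) = d c₁ := by
        rw [← dsp_eq_one, dsp_comm (hQc w hwQ q₀ hq₀), dsp_eq_one.mpr hwc, map_one]
      have hne : d (d c₁) ≠ 1 := fun h => by
        have h2 : d c₁ ∈ L2 := hker ▸ MonoidHom.mem_ker.mpr h
        obtain ⟨y, hy, hye⟩ := h2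
        have h3 : c₁ * y⁻¹ ∈ d.ker := by rw [MonoidHom.mem_ker, map_mul, map_inv, hye, mul_inv_cancel]
        rw [hker] at h3
        exact ha (by simpa using L1.mul_mem (hL21 h3) hy)
      have := hgen (ρ w) c₁ hwc hd1 (hflag w hwQ).1 hne
      have hw1 : w = 1 := hρ (by rw [this, map_one])
      exact inv_mul_eq_one.mp (Subtype.ext hw1)
    intro π hπ
    have hbij := (Nat.bijective_iff_injective_and_card θ).mpr ⟨hinj, by rw [hQ, c1]⟩
    obtain ⟨u, hu⟩ := hbij.2 ⟨π, hπ⟩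
    exact ⟨u, u.2, congrArg Subtype.val hu⟩
  set v := a * z * a⁻¹
  have hfixL1 : ∀ π ∈ L1, π ∉ L2 → ρ v π = π := by
    intro π hπ hπ2
    obtain ⟨k, hk⟩ := hvmv a ((ρ v)⁻¹ π)
    have hk' : (ρ v)⁻¹ π = π * (c₁ ^ k)⁻¹ := by
      have : c₁ ^ k = ((ρ v)⁻¹ π)⁻¹ * π := by
        refine hk.trans ?_
        rw [dsp_apply, MulAut.apply_inv_self]
      rw [this, mul_inv_rev, inv_inv, mul_inv_cancel_left]
    by_cases hck : c₁ ^ k = 1
    · rw [hck, inv_one, mul_one] at hk'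
      conv_lhs => rw [← hk', MulAut.apply_inv_self]
    exfalso
    have hinv : ∃ m : ℤ, (c₁ ^ k) ^ m = c₁ := by
      have hcard : Nat.card (Subgroup.zpowers c₁) = p := by
        rw [Nat.card_zpowers, MulEquiv.orderOf_eq, ← Nat.card_zpowers, hz2, c2]
      have : Fact (Nat.card (Subgroup.zpowers c₁)).Prime := ⟨hcard ▸ hp'⟩
      obtain ⟨m, hm⟩ := mem_zpowers_of_prime_card (G := Subgroup.zpowers c₁) (p := p) hcard
        (g := ⟨c₁ ^ k, k, rfl⟩) (g' := ⟨c₁, Subgroup.mem_zpowers _⟩) fun h => hck (congrArg Subtype.val h)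
      exact ⟨m, congrArg Subtype.val hm⟩
    obtain ⟨m, hm⟩ := hinv
    obtain ⟨u, hu, hue⟩ := horb (π ^ (-m)) (L1.zpow_mem hπ _)
    have he : ρ u c₁ = ((ρ v)⁻¹ π) ^ (-m) := by
      rw [apply_eq (ρ u), hue, hk', mul_zpow, inv_zpow, zpow_neg (c₁ ^ k), inv_inv, hm, mul_comm]
    have hb : ρ (v * u * a) c = π ^ (-m) := by
      rw [map_mul, map_mul, MulAut.mul_apply, MulAut.mul_apply, ← hc1, he, map_zpow, MulAut.apply_inv_self]
    have hb2 := hkey _ (hb ▸ L1.zpow_mem hπ (-m))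
    rw [hb] at hb2
    have hpm : ¬ (p : ℤ) ∣ m := fun ⟨n, hn⟩ => ha (by
      have hord : (c₁ ^ k) ^ (p : ℤ) = 1 := by
        rw [← zpow_mul, mul_comm, zpow_mul, zpow_natCast, hc1, ← map_pow,
          show c ^ p = 1 from by rw [← c2, ← hz2, Nat.card_zpowers, pow_orderOf_eq_one], map_one, one_zpow]
      have : c₁ = 1 := by rw [← hm, hn, zpow_mul, hord, one_zpow]
      rw [this]; exact L1.one_mem)
    obtain ⟨i, j, hij⟩ := ((((Nat.prime_iff_prime_int.mp hp').coprime_iff_not_dvd).mpr hpm).pow_left (m := 3))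
    refine hπ2 ?_
    have e : π = (π ^ (-m)) ^ (-j) := by
      rw [← zpow_mul, show (-m) * (-j) = j * m by ring, show j * m = 1 - i * (p : ℤ) ^ 3 by rw [← hij]; ring,
        zpow_sub, zpow_one, mul_comm i, zpow_mul, show ((p : ℤ) ^ 3) = ((p ^ 3 : ℕ) : ℤ) by push_cast; rfl,
        zpow_natCast, ← hK, pow_card_eq_one', one_zpow, inv_one, mul_one]
    rw [e]
    exact L2.zpow_mem hb2 _
  have hvL1 : ∀ π ∈ L1, ρ v π = π := by
    obtain ⟨π₀, hπ₀, hπ₀'⟩ : ∃ π ∈ L1, π ∉ L2 := by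
      by_contra! h
      have := Subgroup.card_le_of_le (show L1 ≤ L2 from h)
      rw [c1, c2, pow_two] at this
      exact absurd this (not_le.mpr (lt_mul_self hp'.one_lt))
    intro π hπ
    by_cases h : π ∈ L2
    · have h2 := hfixL1 (π₀ * π) (L1.mul_mem hπ₀ hπ) fun h3 => hπ₀' (by simpa using L2.mul_mem h3 (L2.inv_mem h))
      rw [map_mul, hfixL1 π₀ hπ₀ hπ₀'] at h2
      exact mul_left_cancel h2
    · exact hfixL1 π hπ h
  have hv1 : v = 1 := hρ (by
    rw [map_one]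
    let Fx : Subgroup K := MonoidHom.eqLocus (ρ v).toMonoidHom (MonoidHom.id K)
    have hlt : L1 < L1 ⊔ Subgroup.zpowers c₁ :=
      lt_of_le_of_ne le_sup_left fun h => ha (h.ge (Subgroup.mem_sup_right (Subgroup.mem_zpowers _)))
    have := CfsgLib.FusionFourth.card_lt_mul (n := 3) hK hlt
    rw [c1, ← pow_succ, ← hK] at this
    exact MulEquiv.ext fun y => (show L1 ⊔ Subgroup.zpowers c₁ ≤ Fx from
      sup_le hvL1 (Subgroup.zpowers_le.mpr (hvfix a))) ((Subgroup.eq_top_of_le_card _ this).ge (Subgroup.mem_top y)))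
  exact hz1 (conj_eq_one_iff.mp hv1)

/-- A `p`-automorphism group of order `p²` of a group of order `p³` and exponent `p` is not a Sylow
`p`-subgroup of a group with a strongly `p`-embedded subgroup. -/
theorem false_of_sq (hK : Nat.card K = p ^ 3) (ρ : X →* MulAut K) (hρ : Function.Injective ρ)
    {H : Subgroup X} (hH : IsStronglyPEmbedded p H) (Q : Subgroup X) (hQ : Nat.card Q = p ^ 2)
    (hmax : ∀ R : Subgroup X, IsPGroup p R → Q ≤ R → R = Q) : False := by
  have hp' : p.Prime := hp.out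
  by_cases hreg : ∃ q ∈ Q, ∃ x : K, dsp (ρ q) (dsp (ρ q) x) ≠ 1
  · obtain ⟨q, hq, x, hx⟩ := hreg
    exact false_of_regular hK ρ hρ hH Q hQ hmax hq hx
  push Not at hreg
  have hQp : IsPGroup p Q := IsPGroup.of_card hQ
  have hKp : IsPGroup p K := IsPGroup.of_card hK
  have hQc : ∀ a ∈ Q, ∀ b ∈ Q, Commute a b := fun a ha b hb =>
    congrArg Subtype.val (IsPGroup.commutative_of_card_eq_prime_sq hQ (⟨a, ha⟩ : Q) ⟨b, hb⟩)
  have hmf : ∀ a ∈ Q, (dsp (ρ a)).range ≤ (dsp (ρ a)).ker := by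
    rintro a ha _ ⟨x, rfl⟩
    exact hreg a ha x
  have hker1 : ∀ a : X, (dsp (ρ a)).ker = ⊤ → a = 1 := fun a h => hρ (by
    rw [map_one]
    exact MulEquiv.ext fun x => dsp_eq_one.mp (MonoidHom.mem_ker.mp (h ▸ Subgroup.mem_top x)))
  have hcards : ∀ a ∈ Q, a ≠ 1 → Nat.card (dsp (ρ a)).range = p ∧ Nat.card (dsp (ρ a)).ker = p ^ 2 := by
    intro a ha ha1
    have h := Subgroup.card_mul_index (dsp (ρ a)).ker
    rw [Subgroup.index_ker, hK] at h
    have hle := Subgroup.card_le_of_le (hmf a ha)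
    obtain ⟨i, -, hi⟩ := (Nat.dvd_prime_pow hp').mp (hK ▸ Subgroup.card_subgroup_dvd_card (dsp (ρ a)).range)
    obtain ⟨j, -, hj⟩ := (Nat.dvd_prime_pow hp').mp (hK ▸ Subgroup.card_subgroup_dvd_card (dsp (ρ a)).ker)
    rw [hi, hj, Nat.pow_le_pow_iff_right hp'.one_lt] at hle
    rw [hi, hj, ← pow_add] at h
    have hji := Nat.pow_right_injective hp'.two_le h
    have hi0 : i ≠ 0 := fun h0 => ha1 (hker1 a (Subgroup.eq_top_of_le_card _ (by
      rw [hK, hj]; exact Nat.pow_le_pow_right hp'.pos (by omega))))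
    rw [hi, hj, show i = 1 by omega, show j = 2 by omega, pow_one]
    exact ⟨rfl, rfl⟩
  have hpair : ∀ a ∈ Q, a ≠ 1 → ∀ b ∈ Q, b ≠ 1 → (dsp (ρ a)).range = (dsp (ρ b)).range ∨
      (dsp (ρ a)).ker = (dsp (ρ b)).ker := by
    intro a ha ha1 b hb hb1
    by_cases hne : (dsp (ρ a)).range = (dsp (ρ b)).range
    · exact Or.inl hne
    right
    have hmeet : (dsp (ρ a)).range ⊓ (dsp (ρ b)).range = ⊥ := by
      obtain ⟨i, -, hi⟩ := (Nat.dvd_prime_pow hp').mp
        (hK ▸ Subgroup.card_subgroup_dvd_card ((dsp (ρ a)).range ⊓ (dsp (ρ b)).range))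
      rcases i with _ | i
      · exact Subgroup.card_eq_one.mp hi
      · exfalso
        have hge : p ≤ Nat.card ((dsp (ρ a)).range ⊓ (dsp (ρ b)).range : Subgroup K) :=
          hi ▸ Nat.le_self_pow (Nat.succ_ne_zero i) p
        have e1 := Subgroup.eq_of_le_of_card_ge (inf_le_left : (dsp (ρ a)).range ⊓ (dsp (ρ b)).range ≤ _)
          (by rw [(hcards a ha ha1).1]; exact hge)
        have e2 := Subgroup.eq_of_le_of_card_ge (inf_le_right : (dsp (ρ a)).range ⊓ (dsp (ρ b)).range ≤ _)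
          (by rw [(hcards b hb hb1).1]; exact hge)
        exact hne (e1.symm.trans e2)
    have key : ∀ a' ∈ Q, ∀ b' ∈ Q, (dsp (ρ a')).range ⊓ (dsp (ρ b')).range = ⊥ →
        (dsp (ρ b')).range ≤ (dsp (ρ a')).ker := by
      rintro a' ha' b' hb' hm _ ⟨x, rfl⟩
      have h1 : dsp (ρ a') (dsp (ρ b') x) ∈ (dsp (ρ a')).range ⊓ (dsp (ρ b')).range :=
        ⟨⟨_, rfl⟩, ⟨dsp (ρ a') x, (dsp_comm ((hQc a' ha' b' hb').map ρ) x).symm⟩⟩
      rw [hm] at h1
      exact h1
    have hsup : ∀ a' ∈ Q, a' ≠ 1 → (dsp (ρ a)).range ≤ (dsp (ρ a')).ker → (dsp (ρ b)).range ≤ (dsp (ρ a')).ker →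
        (dsp (ρ a')).ker = (dsp (ρ a)).range ⊔ (dsp (ρ b)).range := by
      intro a' ha' ha'1 h1 h2
      refine (Subgroup.eq_of_le_of_card_ge (sup_le h1 h2) ?_).symm
      have hlt : (dsp (ρ a)).range < (dsp (ρ a)).range ⊔ (dsp (ρ b)).range :=
        lt_of_le_of_ne le_sup_left fun e => hne (Subgroup.eq_of_le_of_card_ge (sup_eq_left.mp e.symm)
          (by rw [(hcards a ha ha1).1, (hcards b hb hb1).1])).symm
      have := CfsgLib.FusionFourth.card_lt_mul (n := 3) hK hlt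
      rw [(hcards a ha ha1).1, ← pow_two] at this
      rwa [(hcards a' ha' ha'1).2]
    rw [hsup a ha ha1 (hmf a ha) (key a ha b hb hmeet),
      hsup b hb hb1 (key b hb a ha (by rw [inf_comm]; exact hmeet)) (hmf b hb)]
  have hQne : Q ≠ ⊥ := fun e => by
    rw [e, Subgroup.card_bot] at hQ
    exact absurd hQ.symm (Nat.one_lt_pow two_ne_zero hp'.one_lt).ne'
  obtain ⟨q₀, hq₀, hq₀1⟩ := (Subgroup.bot_or_exists_ne_one Q).resolve_left hQne
  by_cases hcentre : ∀ b ∈ Q, b ≠ 1 → (dsp (ρ b)).range = (dsp (ρ q₀)).range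
  · -- a common centre
    refine CfsgLib.FusionTransvection.false_of_stabilizer ρ hρ hH Q hQp (dsp (ρ q₀)).range
      (hcards q₀ hq₀ hq₀1).1 (fun a ha x hx => ?_) (fun a ha x => ?_)
      (by rw [hQ, pow_two]; exact lt_mul_self hp'.one_lt)
    · rcases eq_or_ne a 1 with rfl | ha1
      · simp
      · rw [← hcentre a ha ha1] at hx
        exact dsp_eq_one.mp (MonoidHom.mem_ker.mp (hmf a ha hx))
    · rcases eq_or_ne a 1 with rfl | ha1
      · simp
      · rw [← hcentre a ha ha1]; exact ⟨x, rfl⟩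
  · -- a common axis
    push Not at hcentre
    obtain ⟨q₁, hq₁, hq₁1, hne⟩ := hcentre
    set P := (dsp (ρ q₀)).ker with hP
    have hP1 : (dsp (ρ q₁)).ker = P := (hpair q₁ hq₁ hq₁1 q₀ hq₀ hq₀1).resolve_left hne
    have hfix : ∀ a ∈ Q, ∀ x ∈ P, ρ a x = x := by
      intro a ha x hx
      rcases eq_or_ne a 1 with rfl | ha1
      · simp
      refine dsp_eq_one.mp (MonoidHom.mem_ker.mp ?_)
      rcases hpair a ha ha1 q₀ hq₀ hq₀1 with h | h
      · rcases hpair a ha ha1 q₁ hq₁ hq₁1 with h' | h'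
        · exact absurd (h'.symm.trans h) hne
        · rw [h', hP1]; exact hx
      · rw [h]; exact hx
    have hmvP : ∀ a ∈ Q, ∀ x, dsp (ρ a) x ∈ P := by
      intro a ha x
      rcases eq_or_ne a 1 with rfl | ha1
      · simp [dsp_apply]
      · have h := hmf a ha ⟨x, rfl⟩
        rcases hpair a ha ha1 q₀ hq₀ hq₀1 with h' | h'
        · exact hP ▸ hmf q₀ hq₀ (h'.le ⟨x, rfl⟩)
        · rwa [h'] at h
    have hPc : Nat.card P = p ^ 2 := (hcards q₀ hq₀ hq₀1).2
    obtain ⟨x₀, hx₀⟩ : ∃ x₀, x₀ ∉ P := by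
      by_contra! h
      have := Subgroup.card_le_of_le (show (⊤ : Subgroup K) ≤ P from fun x _ => h x)
      rw [Subgroup.card_top, hK, hPc, Nat.pow_le_pow_iff_right hp'.one_lt] at this
      omega
    have htopK : P ⊔ Subgroup.zpowers x₀ = ⊤ := by
      have hlt : P < P ⊔ Subgroup.zpowers x₀ :=
        lt_of_le_of_ne le_sup_left fun h => hx₀ (h.ge (Subgroup.mem_sup_right (Subgroup.mem_zpowers _)))
      have := CfsgLib.FusionFourth.card_lt_mul (n := 3) hK hlt
      rw [hPc, ← pow_succ, ← hK] at this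
      exact Subgroup.eq_top_of_le_card _ this
    -- the displacement of a generator determines the element
    have hdet : ∀ a ∈ Q, ∀ y, ∃ i : ℤ, dsp (ρ a) y = dsp (ρ a) x₀ ^ i := by
      intro a ha y
      obtain ⟨π, hπ, w, ⟨i, rfl⟩, rfl⟩ := Subgroup.mem_sup.mp (htopK.ge (Subgroup.mem_top y))
      exact ⟨i, by rw [map_mul, dsp_eq_one.mpr (hfix a ha π hπ), one_mul, map_zpow]⟩
    let θ : Q → P := fun a => ⟨dsp (ρ (a : X)) x₀, hmvP _ a.2 x₀⟩
    have hinj : Function.Injective θ := by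
      intro a b hab
      refine Subtype.ext (hρ (MulEquiv.ext fun y => ?_))
      obtain ⟨π, hπ, w, ⟨i, rfl⟩, rfl⟩ := Subgroup.mem_sup.mp (htopK.ge (Subgroup.mem_top y))
      show ρ (a : X) (π * x₀ ^ i) = ρ (b : X) (π * x₀ ^ i)
      rw [map_mul, map_mul, hfix _ a.2 π hπ, hfix _ b.2 π hπ, map_zpow, map_zpow, apply_eq (ρ (a : X)),
        apply_eq (ρ (b : X)), show dsp (ρ (a : X)) x₀ = dsp (ρ (b : X)) x₀ from congrArg Subtype.val hab]
    have hbij := (Nat.bijective_iff_injective_and_card θ).mpr ⟨hinj, by rw [hQ, hPc]⟩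
    refine false_of_link hH Q hQp hQne hQc fun g => ?_
    obtain ⟨d, hd, hd1⟩ : ∃ d ∈ P ⊓ P.map (ρ g).toMonoidHom, d ≠ 1 := by
      refine (Subgroup.bot_or_exists_ne_one _).resolve_left fun h => ?_
      let ψ : P × (P.map (ρ g).toMonoidHom : Subgroup K) → K := fun z => (z.1 : K) * z.2
      have hψ : Function.Injective ψ := Subgroup.mul_injective_of_disjoint (disjoint_iff.mpr h)
      have := Nat.card_le_card_of_injective ψ hψ
      rw [Nat.card_prod, Subgroup.card_map_of_injective (ρ g).injective, hPc, hK, ← pow_add,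
        Nat.pow_le_pow_iff_right hp'.one_lt] at this
      omega
    obtain ⟨hdP, π, hπ, hπd⟩ := hd
    have hπd' : ρ g π = d := hπd
    obtain ⟨t, ht⟩ := hbij.2 ⟨d, hdP⟩
    obtain ⟨u, hu⟩ := hbij.2 ⟨π, hπ⟩
    have ht' : dsp (ρ (t : X)) x₀ = d := congrArg Subtype.val ht
    have hu' : dsp (ρ (u : X)) x₀ = π := congrArg Subtype.val hu
    refine ⟨t, t.2, fun e => hd1 ?_, u, u.2, fun e => hd1 ?_, ?_⟩
    · rw [← ht', e, map_one]; simp [dsp_apply]
    · rw [← hπd', ← hu', e, map_one]; simp [dsp_apply]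
    refine hρ (MulEquiv.ext fun y => ?_)
    set s := g * (u : X) * g⁻¹ with hs
    have es : ∀ y, ∃ i : ℤ, ρ s y = y * d ^ i := fun y => by
      obtain ⟨i, hi⟩ := hdet _ u.2 ((ρ g)⁻¹ y)
      refine ⟨i, ?_⟩
      simp only [hs, map_mul, map_inv, MulAut.mul_apply]
      rw [apply_eq (ρ (u : X)), hi, hu', map_mul, map_zpow, hπd', MulAut.apply_inv_self]
    have hsd : ρ s d = d := by
      simp only [hs, map_mul, map_inv, MulAut.mul_apply]
      rw [← hπd', MulAut.inv_apply_self, hfix _ u.2 π hπ]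
    clear_value s
    obtain ⟨i, hi⟩ := es y
    obtain ⟨j, hj⟩ := hdet _ t.2 y
    rw [map_mul, map_mul, MulAut.mul_apply, MulAut.mul_apply, hi, apply_eq (ρ (t : X)) y, hj, ht', map_mul,
      map_mul, map_zpow, map_zpow, hsd, hfix _ t.2 d hdP, hi, apply_eq (ρ (t : X)) y, hj, ht']
    exact mul_right_comm _ _ _

end CfsgLib.FusionCube
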