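import Cfsg.Agent.Lib.Fusion.ExtSaturated
import Cfsg.Agent.Lib.Fusion.Invariant
import Cfsg.Agent.Lib.Fusion.Normal
import Cfsg.Agent.Lib.FusionNormal.Maps
import Cfsg.Prelude.Def_TwoFusion

/-!
A strongly closed factor `S₁` of `S = S₁ S₂`, both factors strongly closed and commuting.
-/

set_option autoImplicit false

namespace CfsgLib.FusionDirectFactor

open Cfsg Cfsg.FusionSystem CfsgLib.Fusion CfsgLib.FusionNormal

variable {Ω : Type*} [Group Ω] {S S₁ S₂ : Subgroup Ω} {F : FusionSystem S}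

/-- `S = S₁ S₂` with strongly closed commuting factors. -/
structure Split (F : FusionSystem S) (S₁ S₂ : Subgroup Ω) : Prop where
  closed₁ : F.StronglyClosed S₁
  closed₂ : F.StronglyClosed S₂
  comm : ∀ a ∈ S₁, ∀ b ∈ S₂, a * b = b * a
  top : S ≤ S₁ ⊔ S₂

variable (h : Split F S₁ S₂)
include h

theorem Split.le₁ : S₁ ≤ S := h.closed₁.1

theorem Split.le₂ : S₂ ≤ S := h.closed₂.1

theorem Split.le_centralizer : S₁ ≤ Subgroup.centralizer (S₂ : Set Ω) := fun a ha =>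
  Subgroup.mem_centralizer_iff.mpr fun b hb => (h.comm a ha b hb).symm

theorem Split.exists_mul {g : Ω} (hg : g ∈ S) : ∃ a ∈ S₁, ∃ b ∈ S₂, g = a * b := by
  have hn : S₁ ≤ Subgroup.normalizer (S₂ : Set Ω) := h.le_centralizer.trans (Subgroup.centralizer_le_normalizer _)
  have he := Subgroup.coe_mul_of_left_le_normalizer_right S₁ S₂ hn
  obtain ⟨a, ha, b, hb, e⟩ := (Set.ext_iff.mp he g).mp (h.top hg)
  exact ⟨a, ha, b, hb, e.symm⟩

theorem Split.mem_centralizerIn₂ {P : Subgroup Ω} (hP : P ≤ S₁) {b : Ω} (hb : b ∈ S₂) :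
    b ∈ centralizerIn S P :=
  mem_centralizerIn.mpr ⟨h.le₂ hb, fun x hx => h.comm x (hP hx) b hb⟩

theorem Split.le_normalizer₁ : S ≤ Subgroup.normalizer (S₁ : Set Ω) := fun g hg => by
  obtain ⟨a, ha, b, hb, rfl⟩ := h.exists_mul hg
  exact Subgroup.mul_mem _ (Subgroup.le_normalizer ha)
    (Subgroup.centralizer_le_normalizer _ (h.mem_centralizerIn₂ le_rfl hb).2)

theorem image₂ [Finite S] {P : Subgroup Ω} {f : Ω → Ω} (hf : MapFn F P f) (hP : S₂ ≤ P) :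
    f '' S₂ = (S₂ : Set Ω) := by
  have := finite_of_le h.le₂
  obtain ⟨φ, hφ, he⟩ := hf.mono hP
  rw [MapFn.image_eq_range he, SetLike.coe_set_eq]
  refine Fusion.eq_of_le_of_card_le ?_ (card_range hφ).ge
  rintro _ ⟨x, rfl⟩; exact h.closed₂.2 S₂ le_rfl φ hφ x

variable {R : FusionSystem S₁} (hR : ∀ P : Subgroup Ω, P ≤ S₁ → R.Hom P = F.Hom P)
include hR

theorem restr_subsystem : R.IsSubsystemOf F := fun P _ hφ => (hR P (Fusion.le_S hφ)) ▸ hφ

theorem restr_isConj {P Q : Subgroup Ω} (hP : P ≤ S₁) : R.IsConj P Q ↔ F.IsConj P Q := by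
  unfold FusionSystem.IsConj
  rw [hR P hP]

variable [Finite S] {p : ℕ} [Fact p.Prime]

/-- The full subsystem on a strongly closed factor is saturated. -/
theorem restr_saturated (hS : IsPGroup p S) (hF : F.IsSaturated p) : R.IsSaturated p := by
  have := finite_of_le h.le₁
  refine saturated_of_top_and_receptive (hS.to_le h.le₁) ?_ ?_
  · have hn : F.IsFullyNormalized S₁ := ⟨h.le₁, fun Q _ => by
      rw [show normalizerIn S S₁ = S from le_antisymm normalizerIn_le (le_inf le_rfl h.le_normalizer₁)]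
      exact Subgroup.card_le_of_le normalizerIn_le⟩
    obtain ⟨-, T, hT⟩ := (fullyNormalized_good hS hF hn).1
    have hA : R.autGroup S₁ = F.autGroup S₁ := by
      ext α
      rw [mem_autGroup le_rfl, mem_autGroup h.le₁, hR S₁ le_rfl]
    have hI : autInducedBy S₁ S₁ = autInducedBy S S₁ := by
      refine le_antisymm (autInducedBy_mono h.le₁ _) fun α hα => ?_
      obtain ⟨g, hg, hge⟩ := mem_autInducedBy.mp hα
      obtain ⟨a, ha, b, hb, rfl⟩ := h.exists_mul hg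
      refine mem_autInducedBy.mpr ⟨a, ha, fun x => ?_⟩
      have hbx := (mem_centralizerIn'.mp (h.mem_centralizerIn₂ le_rfl hb)).2 x
      rw [hge]
      calc a * b * (x : Ω) * (a * b)⁻¹ = a * (b * (x : Ω) * b⁻¹) * a⁻¹ := by group
        _ = a * (x : Ω) * a⁻¹ := by rw [hbx]
    refine ⟨le_rfl, ?_⟩
    rw [hA, hI]
    exact ⟨T, hT⟩
  intro P hP
  have hP₁ : P ≤ S₁ := hP.1
  have hPS := hP₁.trans h.le₁
  obtain ⟨Q, -, hQr, hQc, χ, hχ, hχN, hχP⟩ := exists_good_conj hS hF hPS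
  have hQ₁ : Q ≤ S₁ := by
    obtain ⟨φ, hφ, rfl⟩ := hQc
    rintro _ ⟨x, rfl⟩; exact h.closed₁.2 P hP₁ φ hφ x
  have hPc : F.IsFullyCentralized P := by
    refine ⟨hPS, fun Q' hQ' => ((fullyCentralized_of_receptive hQr).2 Q'
      (isConj_trans (isConj_symm hQc) hQ')).trans ?_⟩
    obtain ⟨f, hf, hfe⟩ := mapFn_of_hom hχ
    have hfP : f '' P = (Q : Set Ω) := by
      rw [← hχP]
      ext y
      constructor
      · rintro ⟨x, hx, rfl⟩
        exact ⟨⟨x, le_normalizerIn hPS hx⟩, hx, hfe _⟩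
      · rintro ⟨x, hx, rfl⟩; exact ⟨x, hx, (hfe x).symm⟩
    have hle₁ : normalizerIn S₁ P ≤ normalizerIn S P := fun g hg => ⟨h.le₁ hg.1, hg.2⟩
    have hm : ∀ g ∈ normalizerIn S₁ P, f g ∈ normalizerIn S₁ Q := fun g hg => by
      obtain ⟨θ, hθ, hθe⟩ := hf.mono hle₁
      refine ⟨hθe ⟨g, hg⟩ ▸ h.closed₁.2 _ inf_le_left θ hθ ⟨g, hg⟩, ?_⟩
      have := (hχN ⟨g, hle₁ hg⟩).2
      rwa [hfe] at this
    have := finite_of_le (normalizerIn_le.trans h.le₁ : normalizerIn S₁ Q ≤ S)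
    obtain ⟨θ, hθ, hθe⟩ := hf.mono hle₁
    have hrange : θ.range = normalizerIn S₁ Q :=
      range_eq_of_card_le hθ (normalizerIn_le.trans h.le₁) (fun x => by rw [hθe]; exact hm x x.2)
        (hP.2 Q ((restr_isConj h hR hP₁).mpr hQc))
    have h₂le : S₂ ≤ normalizerIn S P := fun b hb => centralizerIn_le_normalizerIn (h.mem_centralizerIn₂ hP₁ hb)
    have h₂img := image₂ h hf h₂le
    have hsurj : ∀ c ∈ centralizerIn S Q, ∃ w ∈ centralizerIn S P, f w = c := by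
      intro c hc
      obtain ⟨a, ha, b, hb, rfl⟩ := h.exists_mul hc.1
      have haC : a ∈ centralizerIn S Q := by
        have := (centralizerIn S Q).mul_mem hc ((centralizerIn S Q).inv_mem (h.mem_centralizerIn₂ hQ₁ hb))
        rwa [mul_inv_cancel_right] at this
      obtain ⟨wa, hwa⟩ := hrange.ge ⟨ha, (centralizerIn_le_normalizerIn haC).2⟩
      obtain ⟨wb, hwb, hwbe⟩ := exists_of_image h₂img hb
      rw [hθe] at hwa
      have hwa' : (wa : Ω) ∈ centralizerIn S P := mem_centralizerIn.mpr ⟨h.le₁ wa.2.1, fun x hx => by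
        refine hf.injOn ((normalizerIn S P).mul_mem (le_normalizerIn hPS hx) (hle₁ wa.2))
          ((normalizerIn S P).mul_mem (hle₁ wa.2) (le_normalizerIn hPS hx)) ?_
        rw [hf.map_mul (le_normalizerIn hPS hx) (hle₁ wa.2), hf.map_mul (hle₁ wa.2) (le_normalizerIn hPS hx),
          hwa]
        exact (mem_centralizerIn.mp haC).2 _ (mem_of_image hfP hx)⟩
      exact ⟨(wa : Ω) * wb, Subgroup.mul_mem _ hwa' (h.mem_centralizerIn₂ hP₁ hwb),
        by rw [hf.map_mul (hle₁ wa.2) (h₂le hwb), hwa, hwbe]⟩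
    have := finite_of_le (centralizerIn_le (S := S) (P := P))
    choose w hw hwe using hsurj
    refine Nat.card_le_card_of_injective (fun c : centralizerIn S Q => (⟨w c c.2, hw c c.2⟩ : centralizerIn S P)) ?_
    intro c c' hcc
    exact Subtype.ext ((hwe c c.2).symm.trans ((congrArg (fun z : centralizerIn S P => f z) hcc).trans (hwe c' c'.2)))
  refine ⟨hP₁, fun A φ hφ hr => ?_⟩
  have hA₁ : A ≤ S₁ := Fusion.le_S hφ
  have hle : extender S₁ A φ ≤ extender S A φ := fun g hg => by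
    obtain ⟨hgS, hgN, t, ht, hte⟩ := mem_extender.mp hg
    exact mem_extender.mpr ⟨h.le₁ hgS, hgN, t, h.le₁ ht, hte⟩
  obtain ⟨ψ, hψ, hψe⟩ := (receptive_of_fullyCentralized hS hF hPc).2 A φ ((hR A hA₁) ▸ hφ) hr
  refine ⟨_, (hR _ (extender_le_normalizerIn.trans normalizerIn_le)).symm ▸ restrict_mem hle hψ,
    fun x hx hN => hψe x hx (hle hN)⟩

omit hR

/-- Every map on a subgroup of `S₁` extends over `S₂`, fixing `S₂` as a set. -/
theorem exists_extension₂ (hS : IsPGroup p S) (hF : F.IsSaturated p) {Q : Subgroup Ω} (hQ : Q ≤ S₁)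
    {ψ : Q →* Ω} (hψ : ψ ∈ F.Hom Q) :
    ∃ g, MapFn F (Q ⊔ S₂) g ∧ (∀ x : Q, g x = ψ x) ∧ g '' S₂ = (S₂ : Set Ω) := by
  have hQS := hQ.trans h.le₁
  have hψ₁ : ψ.range ≤ S₁ := by rintro _ ⟨x, rfl⟩; exact h.closed₁.2 Q hQ ψ hψ x
  obtain ⟨W, -, hWr, -, χ, hχ, -, hχQ⟩ := exists_good_conj hS hF (hψ₁.trans h.le₁)
  have hle₂ : ψ.range ⊔ S₂ ≤ normalizerIn S ψ.range :=
    sup_le (le_normalizerIn (hψ₁.trans h.le₁)) fun b hb =>
      centralizerIn_le_normalizerIn (h.mem_centralizerIn₂ hψ₁ hb)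
  obtain ⟨c, hc, hce⟩ := mapFn_of_hom (restrict_mem hle₂ hχ)
  obtain ⟨f₀, hf₀, hf₀e⟩ := mapFn_of_hom hψ
  obtain ⟨μ, hμ, hμe⟩ := exists_comp hψ hχ fun x => hle₂ (Subgroup.mem_sup_left ⟨x, rfl⟩)
  have hμr : μ.range = W := by
    rw [← hχQ]
    ext y
    constructor
    · rintro ⟨x, rfl⟩
      exact ⟨⟨ψ x, hle₂ (Subgroup.mem_sup_left ⟨x, rfl⟩)⟩, ⟨x, rfl⟩, (hμe x).symm⟩
    · rintro ⟨z, ⟨x, hx⟩, rfl⟩
      exact ⟨x, (hμe x).trans (apply_eq_of_coe_eq hx)⟩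
  have hW₁ : W ≤ S₁ := by
    rw [← hμr]; rintro _ ⟨x, rfl⟩; exact h.closed₁.2 Q hQ μ hμ x
  have hQe : Q ⊔ S₂ ≤ extender S Q μ := sup_le (le_extender hQS (apply_mem_S hμ)) fun b hb =>
    centralizerIn_le_extender (h.mem_centralizerIn₂ hQ hb)
  obtain ⟨ν, hν, hνe⟩ := hWr.2 Q μ hμ hμr
  obtain ⟨d, hd, hde⟩ := mapFn_of_hom (restrict_mem hQe hν)
  have hdQ : ∀ x : Q, d x = μ x := fun x => by
    rw [← hde ⟨x, Subgroup.mem_sup_left x.2⟩]
    exact hνe x x.2 _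
  have hcψ : ∀ x : Q, c (ψ x) = μ x := fun x => by
    rw [← hce ⟨ψ x, Subgroup.mem_sup_left ⟨x, rfl⟩⟩, hμe]; rfl
  have hc₂ := image₂ h hc le_sup_right
  have hd₂ := image₂ h hd le_sup_right
  obtain ⟨I, hIS, hI⟩ := hc.exists_image
  have hWI : W ≤ I := fun y hy => by
    obtain ⟨x, rfl⟩ := hμr.ge hy
    rw [← hcψ x]
    exact mem_of_image hI (Subgroup.mem_sup_left ⟨x, rfl⟩)
  have h₂I : S₂ ≤ I := fun y hy => by
    obtain ⟨x, hx, rfl⟩ := exists_of_image hc₂ hy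
    exact mem_of_image hI (Subgroup.mem_sup_right hx)
  obtain ⟨c', hc', -, hc'₁, hc'₂⟩ := hc.exists_inv hI
  have hdI : ∀ x ∈ Q ⊔ S₂, d x ∈ I := by
    have hsub : Q ⊔ S₂ ≤ (I.comap (ν.comp (Subgroup.inclusion hQe))).map (Q ⊔ S₂).subtype := by
      refine sup_le (fun x hx => ⟨⟨x, Subgroup.mem_sup_left hx⟩, ?_, rfl⟩)
        fun x hx => ⟨⟨x, Subgroup.mem_sup_right hx⟩, ?_, rfl⟩
      · show ν ⟨x, hQe (Subgroup.mem_sup_left hx)⟩ ∈ I
        rw [hνe x hx]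
        exact hWI (hμr.le ⟨_, rfl⟩)
      · show ν ⟨x, hQe (Subgroup.mem_sup_right hx)⟩ ∈ I
        refine h₂I ?_
        rw [show ν ⟨x, _⟩ = d x from hde ⟨x, Subgroup.mem_sup_right hx⟩]
        exact mem_of_image hd₂ hx
    intro x hx
    obtain ⟨⟨y, hy⟩, hyI, rfl⟩ := hsub hx
    show d y ∈ I
    rw [← hde ⟨y, hy⟩]
    exact hyI
  refine ⟨c' ∘ d, hd.comp hc' hdI, fun x => ?_, ?_⟩
  · show c' (d x) = _
    rw [hdQ, ← hcψ]
    exact hc'₁ _ (Subgroup.mem_sup_left ⟨x, rfl⟩)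
  · exact image₂ h (hd.comp hc' hdI) le_sup_right

end CfsgLib.FusionDirectFactor

namespace CfsgLib.FusionDirectFactor

open Cfsg Cfsg.FusionSystem CfsgLib.Fusion CfsgLib.FusionNormal

variable {Ω : Type*} [Group Ω] {S S₁ S₂ : Subgroup Ω} {F : FusionSystem S} [Finite S]
variable {p : ℕ} [Fact p.Prime] (h : Split F S₁ S₂)
include h

omit [Fact p.Prime] in
theorem fullyCentralized₂ : F.IsFullyCentralized S₂ := by
  refine ⟨h.le₂, ?_⟩
  rintro _ ⟨φ, hφ, rfl⟩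
  have := finite_of_le h.le₂
  rw [Fusion.eq_of_le_of_card_le (by rintro _ ⟨x, rfl⟩; exact h.closed₂.2 S₂ le_rfl φ hφ x) (card_range hφ).ge]

variable {R' : FusionSystem S₁} (hR' : ∀ P : Subgroup Ω, P ≤ S₁ → R'.Hom P = F.centralizerHom S₂ P)
include hR'

omit [Finite S] [Fact p.Prime] in
theorem cent_subsystem : R'.IsSubsystemOf F := fun P _ hφ => ((hR' P (Fusion.le_S hφ)) ▸ hφ).1

theorem cent_saturated (hS : IsPGroup p S) (hF : F.IsSaturated p) : R'.IsSaturated p := by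
  have hr := receptive_of_fullyCentralized hS hF (fullyCentralized₂ h)
  let C := extSystem F hr.1 ⊥ _ (isKNormalizer_bot (S := S) (Q := S₂))
  have hC : ∀ P, C.Hom P = F.centralizerHom S₂ P := fun P => extHom_bot F S₂ P
  have hCs : C.IsSaturated p := centralizerSystem_saturated hS hF (fullyCentralized₂ h) hC
  have h₁C : S₁ ≤ centralizerIn S S₂ := le_inf h.le₁ h.le_centralizer
  have := finite_of_le (centralizerIn_le (S := S) (P := S₂))
  have hsplit : Split C S₁ (S₂ ⊓ centralizerIn S S₂) := by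
    refine ⟨⟨h₁C, fun A hA φ hφ x => h.closed₁.2 A hA φ ((hC A) ▸ hφ).1 x⟩,
      ⟨inf_le_right, fun A hA φ hφ x =>
        ⟨h.closed₂.2 A (hA.trans inf_le_left) φ ((hC A) ▸ hφ).1 x, apply_mem_S hφ x⟩⟩,
      fun a ha b hb => h.comm a ha b hb.1, fun c hc => ?_⟩
    obtain ⟨a, ha, b, hb, rfl⟩ := h.exists_mul hc.1
    refine Subgroup.mul_mem _ (Subgroup.mem_sup_left ha) (Subgroup.mem_sup_right ⟨hb, ?_⟩)
    have := (centralizerIn S S₂).mul_mem ((centralizerIn S S₂).inv_mem (h₁C ha)) hc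
    rwa [inv_mul_cancel_left] at this
  exact restr_saturated hsplit (fun P hP => (hR' P hP).trans (hC P).symm) (hS.to_le centralizerIn_le) hCs

theorem cent_stronglyInvariant (hS : IsPGroup p S) (hF : F.IsSaturated p) :
    IsStronglyInvariant F R' := by
  intro P Q hPQ hQ φ hφ hφQ ψ hψ
  have hP : P ≤ S₁ := hPQ.trans hQ
  rw [hR' P hP] at hφ
  obtain ⟨-, -, -, φ', hφ', hφe, hφ₂⟩ := hφ
  obtain ⟨g, hg, hge, hg₂⟩ := exists_extension₂ h hS hF hQ hψ
  obtain ⟨f, hf, hfe⟩ := mapFn_of_hom hφ'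
  have hfP : ∀ x : P, f x = φ x := fun x => (hfe (Subgroup.inclusion le_sup_left x)).symm.trans (hφe x)
  have hf₂ : ∀ x : S₂, f x = x := fun x => (hfe (Subgroup.inclusion le_sup_right x)).symm.trans (hφ₂ x)
  have hfm : ∀ x ∈ P ⊔ S₂, f x ∈ Q ⊔ S₂ := fun x hx => by
    rw [← hfe ⟨x, hx⟩]
    refine sup_le_map_comap (fun a ha => ?_) (fun b hb => ?_) ⟨x, hx⟩
    · rw [show φ' ⟨a, _⟩ = φ ⟨a, ha⟩ from hφe ⟨a, ha⟩]; exact Subgroup.mem_sup_left (hφQ _)
    · rw [show φ' ⟨b, _⟩ = b from hφ₂ ⟨b, hb⟩]; exact Subgroup.mem_sup_right hb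
  have hg' := hg.mono (sup_le_sup_right hPQ S₂)
  obtain ⟨I, -, hI⟩ := hg'.exists_image
  obtain ⟨g', hg'', hg''r, hg'₁, -⟩ := hg'.exists_inv hI
  have hμ : MapFn F I (g ∘ (f ∘ g')) :=
    (hg''.comp hf fun x hx => mem_of_image hg''r hx).comp hg fun x hx => hfm _ (mem_of_image hg''r hx)
  set P' := (P.subgroupOf Q).map ψ with hP'
  have hP'₁ : P' ≤ S₁ := by rintro _ ⟨x, -, rfl⟩; exact h.closed₁.2 Q hQ ψ hψ x
  have hle : P' ⊔ S₂ ≤ I := by
    refine sup_le ?_ fun y hy => ?_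
    · rintro _ ⟨x, hx, rfl⟩
      rw [← hge]
      exact mem_of_image hI (Subgroup.mem_sup_left hx)
    · obtain ⟨x, hx, rfl⟩ := exists_of_image hg₂ hy
      exact mem_of_image hI (Subgroup.mem_sup_right hx)
  obtain ⟨μ, hμm, hμe⟩ := hμ.mono hle
  have hval : ∀ x : P, μ ⟨ψ (Subgroup.inclusion hPQ x),
      Subgroup.mem_sup_left ⟨Subgroup.inclusion hPQ x, x.2, rfl⟩⟩ = ψ ⟨φ x, hφQ x⟩ := fun x => by
    rw [hμe]
    show g (f (g' (ψ (Subgroup.inclusion hPQ x)))) = _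
    rw [← hge, show g' (g (Subgroup.inclusion hPQ x : Q)) = (x : Ω) from
      hg'₁ _ (Subgroup.mem_sup_left x.2), hfP, ← hge]
  have hfix : ∀ y : S₂, μ (Subgroup.inclusion le_sup_right y) = y := fun y => by
    rw [hμe]
    show g (f (g' (y : Ω))) = _
    obtain ⟨x, hx, hxy⟩ := exists_of_image hg₂ y.2
    rw [← hxy, hg'₁ x (Subgroup.mem_sup_right hx), hf₂ ⟨x, hx⟩]
  refine ⟨μ.comp (Subgroup.inclusion le_sup_left), ?_, fun x _ => hval x⟩
  rw [hR' P' hP'₁]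
  have h₁C : S₁ ≤ centralizerIn S S₂ := le_inf h.le₁ h.le_centralizer
  have hPμ := restrict_mem (le_sup_left : P' ≤ P' ⊔ S₂) hμm
  exact ⟨hPμ, hP'₁.trans h₁C, fun x => h₁C (h.closed₁.2 P' hP'₁ _ hPμ x), μ, hμm, fun _ => rfl, hfix⟩

end CfsgLib.FusionDirectFactor
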