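import Cfsg.Agent.Lib.Fusion.PPrimeFamily
import Cfsg.Agent.Lib.Fusion.StrictlyConstrained
import Cfsg.Agent.Lib.FusionNormal.Inner

/-!
# The `p'`-residual of a weakly normal subsystem is the least weakly normal subsystem over `T`

Two normal subgroups of `Aut_F(N)` share an element of `p'`-order of one as soon as it differs by a
`p`-element from an element of `p'`-order of the other; this gives `res p E ≤ D` for weakly normal
subsystems `E`, `D` over the same `T`.
-/

namespace CfsgLib.Fusion.PPrimeRes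

open Cfsg Cfsg.FusionSystem CfsgLib.Fusion CfsgLib.FusionNormal CfsgLib.Fusion.PPrimeGen

variable {Ω : Type*} [Group Ω] {S T : Subgroup Ω} {F : FusionSystem S} {E D : FusionSystem T}
variable {Q N : Subgroup Ω} {p : ℕ}

theorem stronglyInvariant_sub (hEF : E.IsSubsystemOf F) (hD : IsStronglyInvariant F D) :
    IsStronglyInvariant E D := fun P R hPR hR φ hφ hm ψ hψ => hD P R hPR hR φ hφ hm ψ (hEF R hψ)

theorem autGroup_le_of_sub (hTS : T ≤ S) (hEF : E.IsSubsystemOf F) (hN : N ≤ T) :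
    E.autGroup N ≤ F.autGroup N := fun _ ha =>
  (mem_autGroup (hN.trans hTS)).mpr (hEF N ((mem_autGroup hN).mp ha))

/-- Centric subgroups agree for invariant systems over the same subgroup. -/
theorem centric_of_invariant (hE : E.IsInvariantIn F) (hDF : D.IsSubsystemOf F)
    (hQ : E.IsCentric Q) : D.IsCentric Q := by
  refine ⟨hQ.1, fun R hR c hc => ?_⟩
  obtain ⟨f, hf, hfr⟩ := isConj_iff.mp hR
  obtain ⟨a, f₀, ha, har, hf₀, hfe⟩ := mapFn_frattini hE hQ.1 (mapFn_of_sub hDF hf)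
  obtain ⟨R₀, hR₀T, hR₀⟩ := hf₀.exists_image
  obtain ⟨b, hb, hbr, -, hb₂⟩ := ha.exists_inv har
  have hcT := (mem_centralizerIn.mp hc).1
  have hbc : b c ∈ centralizerIn T R₀ := by
    refine mem_centralizerIn.mpr ⟨mem_of_image hbr hcT, fun y hy => ?_⟩
    obtain ⟨x, hx, rfl⟩ := exists_of_image hR₀ hy
    have hy' : f₀ x ∈ T := hf₀.mem_S hx
    have hbT : b c ∈ T := mem_of_image hbr hcT
    refine ha.injOn (T.mul_mem hy' hbT) (T.mul_mem hbT hy') ?_
    rw [ha.map_mul hy' hbT, ha.map_mul hbT hy', hb₂ c hcT, ← hfe x hx]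
    exact (mem_centralizerIn.mp hc).2 _ (mem_of_image hfr hx)
  obtain ⟨x, hx, hxe⟩ := exists_of_image hR₀ (hQ.2 R₀ (hf₀.isConj hR₀) hbc)
  rw [← hb₂ c hcT, ← hxe, ← hfe x hx]
  exact mem_of_image hfr hx

variable [Fact p.Prime]

/-- The power of `g` with order prime to `p` agreeing with `g` wherever `g ^ m` does with `1`. -/
theorem exists_coprime_part {G : Type*} [Group G] [Finite G] (g : G) {m : ℕ} (hm : m.Coprime p) :
    ∃ r : ℕ, (orderOf (g ^ r)).Coprime p ∧ r ≡ 1 [MOD m] := by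
  have hp : p.Prime := Fact.out
  set i := (orderOf g).factorization p
  obtain ⟨r, hr₁, hr₂⟩ := Nat.chineseRemainder (hm.symm.pow_left i) 0 1
  refine ⟨r, Nat.Coprime.coprime_dvd_left (orderOf_dvd_of_pow_eq_one (n := orderOf g / p ^ i) ?_)
    (Nat.coprime_ordCompl hp (orderOf_pos g).ne').symm, hr₂⟩
  obtain ⟨s, rfl⟩ := Nat.modEq_zero_iff_dvd.mp hr₁
  rw [← pow_mul, mul_right_comm, Nat.mul_div_cancel' (Nat.ordProj_dvd _ _), pow_mul,
    pow_orderOf_eq_one, one_pow]

/-- `g` is the product of its `p`-part and its `p'`-part. -/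
theorem exists_parts {G : Type*} [Group G] [Finite G] (g : G) : ∃ i j : ℕ,
    (∃ k, orderOf (g ^ i) = p ^ k) ∧ (orderOf (g ^ j)).Coprime p ∧ g ^ i * g ^ j = g := by
  have hp : p.Prime := Fact.out
  set e := (orderOf g).factorization p
  set m := orderOf g / p ^ e
  have hcop : (p ^ e).Coprime m := (Nat.coprime_ordCompl hp (orderOf_pos g).ne').pow_left e
  obtain ⟨i, hi₁, hi₂⟩ := Nat.chineseRemainder hcop 1 0
  obtain ⟨j, hj₁, hj₂⟩ := Nat.chineseRemainder hcop 0 1
  have hN : p ^ e * m = orderOf g := Nat.mul_div_cancel' (Nat.ordProj_dvd _ _)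
  refine ⟨i, j, ?_, ?_, ?_⟩
  · obtain ⟨s, rfl⟩ := Nat.modEq_zero_iff_dvd.mp hi₂
    obtain ⟨k, -, hk⟩ := (Nat.dvd_prime_pow hp).mp (orderOf_dvd_of_pow_eq_one (n := p ^ e)
      (x := g ^ (m * s)) (by
        rw [← pow_mul, mul_comm m s, mul_assoc, mul_comm m, hN, mul_comm, pow_mul,
          pow_orderOf_eq_one, one_pow]))
    exact ⟨k, hk⟩
  · obtain ⟨s, rfl⟩ := Nat.modEq_zero_iff_dvd.mp hj₁
    refine Nat.Coprime.coprime_dvd_left (orderOf_dvd_of_pow_eq_one (n := m) ?_)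
      (Nat.coprime_ordCompl hp (orderOf_pos g).ne').symm
    rw [← pow_mul, mul_right_comm, hN, pow_mul, pow_orderOf_eq_one, one_pow]
  · have h : i + j ≡ 1 [MOD p ^ e * m] :=
      (Nat.modEq_and_modEq_iff_modEq_mul hcop).mp ⟨by simpa using hi₁.add hj₁, by simpa using hi₂.add hj₂⟩
    rw [hN] at h
    rw [← pow_add, pow_eq_pow_iff_modEq.mpr h, pow_one]

variable [Finite S]

/-- Extensions to `N_T(Q)` of automorphisms of `D` are in `D`. -/
theorem mapFn_of_restrict_aut (hS : IsPGroup p S) (hE : E.IsWeaklyNormalIn F p)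
    (hD : D.IsWeaklyNormalIn F p) (hQc : E.IsCentric Q) {e : Ω → Ω}
    (he : MapFn E (normalizerIn T Q) e) (heQ : e '' Q = (Q : Set Ω)) (heD : MapFn D Q e) :
    MapFn D (normalizerIn T Q) e := by
  obtain ⟨hEs, -, hEi⟩ := hE
  obtain ⟨hDs, -, hDi⟩ := hD
  have hTS : T ≤ S := hEi.2.1.1
  haveI : Finite T := finite_of_le hTS
  have hTp : IsPGroup p T := hS.to_le hTS
  have hQT : Q ≤ T := hQc.1
  have hDc : D.IsCentric Q := centric_of_invariant hEi hDi.1 hQc
  set N := normalizerIn T Q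
  have hNT : N ≤ T := normalizerIn_le
  have hQN : Q ≤ N := le_normalizerIn hQT
  haveI := finite_mulAut (S := T) hNT
  haveI : Finite N := finite_of_le hNT
  obtain ⟨α, hα, hαe⟩ := he.exists_aut (he.image_eq_of_maps hNT
    (fun x hx => he.mem_normalizerIn hQN heQ hx hx.2) le_rfl)
  -- reduce to `p'`-order
  suffices key : ∀ a ∈ E.autGroup N, (orderOf a).Coprime p → (∀ x : N, (x : Ω) ∈ Q → ((a x : N) : Ω) ∈ Q) →
      (∃ d, MapFn D Q d ∧ ∀ x : N, (x : Ω) ∈ Q → ((a x : N) : Ω) = d x) → a ∈ D.autGroup N by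
    obtain ⟨i, j, ⟨k, hk⟩, hj, hij⟩ := exists_parts (p := p) α
    have h1 : α ^ i ∈ D.autGroup N := pPrimeAut_le_of_strong hTp hEs
      (stronglyInvariant_sub hEi.1 (stronglyInvariant_of_invariant hDi)) N
      (mem_pPrimeAut_of_pow (Subgroup.pow_mem _ hα i) hk)
    have hpow : ∀ l : ℕ, (∀ x : N, (x : Ω) ∈ Q → (((α ^ l) x : N) : Ω) ∈ Q) ∧
        ∃ d, MapFn D Q d ∧ ∀ x : N, (x : Ω) ∈ Q → (((α ^ l) x : N) : Ω) = d x := by
      intro l
      induction l with
      | zero => exact ⟨fun x hx => by simpa using hx, id, mapFn_id hQT, fun x _ => by simp⟩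
      | succ l ih =>
        obtain ⟨hm, d, hd, hde⟩ := ih
        refine ⟨fun x hx => ?_, d ∘ e,
          heD.comp hd fun x hx => mem_of_image heQ hx, fun x hx => ?_⟩
        · rw [pow_succ, MulAut.mul_apply]
          exact hm _ (by rw [hαe]; exact mem_of_image heQ hx)
        · rw [pow_succ, MulAut.mul_apply, hde _ (by rw [hαe]; exact mem_of_image heQ hx), hαe]
          rfl
    have h2 := key _ (Subgroup.pow_mem _ hα j) hj (hpow j).1 (hpow j).2
    obtain ⟨g, hg, -, hge⟩ := exists_mapFn_of_aut hNT (hij ▸ Subgroup.mul_mem _ h1 h2)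
    exact hg.congr fun x hx => (hge ⟨x, hx⟩).trans (hαe ⟨x, hx⟩)
  intro a ha hac haQ hd
  obtain ⟨d, hd, hde⟩ := hd
  obtain ⟨fa, hfa, -, hfae⟩ := exists_mapFn_of_aut hNT ha
  have hdr : d '' Q = (Q : Set Ω) := hd.image_eq_of_maps hQT
    (fun x hx => by rw [← hde ⟨x, hQN hx⟩ hx]; exact haQ _ hx) le_rfl
  obtain ⟨g, hg, hge⟩ := hd.exists_extension
    (receptive_of_fullyCentralized hTp hDs (isFullyCentralized_of_centric hDc)) hdr hQN le_rfl
    fun z hz => ⟨fa z, hfa.mem_S hz, fun x hx => by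
      rw [← hde ⟨x, hQN hx⟩ hx, ← hde ⟨z * x * z⁻¹, hQN (conj_mem_of_normalizer hz.2 hx)⟩
        (conj_mem_of_normalizer hz.2 hx), ← hfae, ← hfae]
      exact hfa.map_conj hz (hQN hx)⟩
  obtain ⟨β, hβ, hβe⟩ := hg.exists_aut (hg.image_eq_of_maps hNT
    (fun x hx => hg.mem_normalizerIn hQN ((Set.image_congr hge).trans hdr) hx hx.2) le_rfl)
  obtain ⟨r, hr, hr1⟩ := exists_coprime_part β (m := orderOf a) hac
  have hβa : ∀ l : ℕ, ∀ x : N, (x : Ω) ∈ Q →
      (β ^ l) x = (a ^ l) x ∧ (((a ^ l) x : N) : Ω) ∈ Q := by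
    intro l
    induction l with
    | zero => intro x hx; simpa using hx
    | succ l ih =>
      intro x hx
      have h1 : β x = a x := Subtype.ext (by rw [hβe, hge _ hx, hde x hx])
      rw [pow_succ, pow_succ, MulAut.mul_apply, MulAut.mul_apply, h1]
      exact ih _ (haQ x hx)
  have har : a ^ r = a := by rw [pow_eq_pow_iff_modEq.mpr hr1, pow_one]
  have hσfix : ∀ x : N, (x : Ω) ∈ Q → (a⁻¹ * β ^ r) x = x := fun x hx => by
    rw [MulAut.mul_apply, (hβa r x hx).1, har, MulAut.inv_apply_self]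
  -- `a⁻¹ β^r` stabilizes `1 ≤ Q ≤ N`
  obtain ⟨k, hk⟩ : ∃ k, (a⁻¹ * β ^ r) ^ p ^ k = 1 := by
    refine exists_pow_eq_one_of_stabilizes (hTp.to_le hNT) (n := 1)
      (fun i => if i = 0 then Q.subgroupOf N else ⊤) (fun i hi => ?_) rfl ⟨0, fun x hx => ?_⟩
      fun i hi x _ => ?_
    · obtain rfl : i = 0 := by omega
      simp
    · rw [if_pos rfl, Subgroup.mem_subgroupOf] at hx
      rw [pow_zero, pow_one]
      exact hσfix x hx
    · obtain rfl : i = 0 := by omega
      rw [if_pos rfl, Subgroup.mem_subgroupOf]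
      set σ := a⁻¹ * β ^ r
      have h1 : (((x⁻¹ * σ x : N)) : Ω) ∈ centralizerIn T Q := by
        refine mem_centralizerIn.mpr ⟨hNT (Subtype.mem _), fun y hy => ?_⟩
        set y' : N := ⟨y, hQN hy⟩
        have hc : ((x * y' * x⁻¹ : N) : Ω) ∈ Q := conj_mem_of_normalizer x.2.2 hy
        have h2 : σ x * y' * (σ x)⁻¹ = x * y' * x⁻¹ := by
          rw [← hσfix (x * y' * x⁻¹) hc, map_mul, map_mul, map_inv, hσfix y' hy]
        have h3 : y' * (x⁻¹ * σ x) = (x⁻¹ * σ x) * y' := by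
          rw [← mul_right_inj x, ← mul_left_inj (σ x)⁻¹]
          calc x * (y' * (x⁻¹ * σ x)) * (σ x)⁻¹ = x * y' * x⁻¹ := by group
            _ = σ x * y' * (σ x)⁻¹ := h2.symm
            _ = _ := by group
        exact congrArg Subtype.val h3
      exact IsCentric.centralizerIn_le' hQc h1
  have hlift : ∀ {X : FusionSystem T}, X.IsSubsystemOf F → X.autGroup N ≤ F.autGroup N :=
    fun h => autGroup_le_of_sub hTS h hNT
  set N₁ := (E.autGroup N).subgroupOf (F.autGroup N)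
  set N₂ := (D.autGroup N).subgroupOf (F.autGroup N)
  haveI : N₁.Normal := ⟨fun x hx y => autGroup_conj_mem_of_strong
    (stronglyInvariant_of_invariant hEi) hNT hTS hx y.2⟩
  haveI : N₂.Normal := ⟨fun x hx y => autGroup_conj_mem_of_strong
    (stronglyInvariant_of_invariant hDi) hNT hTS hx y.2⟩
  exact mem_of_pair (p := p) (N₁ := N₁) (N₂ := N₂) (a := ⟨a, hlift hEi.1 ha⟩)
    (b := ⟨β ^ r, hlift hDi.1 (Subgroup.pow_mem _ hβ r)⟩) ha (Subgroup.pow_mem _ hβ r)
    (by rw [← Subgroup.orderOf_coe]; exact hac) (by rw [← Subgroup.orderOf_coe]; exact hr)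
    (k := k) (Subtype.ext hk)

omit [Fact p.Prime] [Finite S] in
/-- Strong invariance transports automorphism groups along maps of the ambient system. -/
theorem autGroup_congr_of_strong {P R : Subgroup Ω} (h : IsStronglyInvariant F D) (hP : P ≤ T)
    (hR : R ≤ T) {φ : P →* Ω} (hφ : φ ∈ F.Hom P) {e : P ≃* R} (he : ∀ x : P, ((e x : R) : Ω) = φ x)
    {a : MulAut P} (ha : a ∈ D.autGroup P) : MulAut.congr e a ∈ D.autGroup R := by
  obtain ⟨χ, hχ, hχe⟩ := h P P le_rfl hP _ ((mem_autGroup hP).mp ha) (fun x => Subtype.mem _) φ hφ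
  have hle : R ≤ (P.subgroupOf P).map φ := fun y hy =>
    ⟨e.symm ⟨y, hy⟩, Subtype.mem _, by rw [← he, MulEquiv.apply_symm_apply]⟩
  refine (mem_autGroup hR).mpr (restrict_of hle hχ fun y => ?_)
  obtain ⟨x, rfl⟩ := e.surjective y
  show ((e (a (e.symm (e x))) : R) : Ω) = _
  rw [MulEquiv.symm_apply_apply, he]
  refine (hχe x ?_).symm.trans (apply_eq_of_coe_eq ?_)
  · exact ⟨x, Subtype.mem _, rfl⟩
  · exact (he x).symm

/-- The automorphisms common to two weakly normal subsystems form a family. -/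
theorem isFamily_inf (hS : IsPGroup p S) (hE : E.IsWeaklyNormalIn F p)
    (hD : D.IsWeaklyNormalIn F p) :
    IsFamily p E fun P => E.autGroup P ⊓ D.autGroup P where
  le _ _ := inf_le_left
  pAuts P _ := le_inf pPrimeAut_le_autGroup (by
    haveI : Finite T := finite_of_le hE.2.2.2.1.1
    exact pPrimeAut_le_of_strong (hS.to_le hE.2.2.2.1.1) hE.1
      (stronglyInvariant_sub hE.2.2.1 (stronglyInvariant_of_invariant hD.2.2)) P)
  congr P R φ hP hφ e he a ha := ⟨autGroup_congr_mem hφ he ha.1,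
    autGroup_congr_of_strong (stronglyInvariant_sub hE.2.2.1 (stronglyInvariant_of_invariant hD.2.2))
      hP.1 (fun y hy => by
        obtain ⟨x, hx⟩ := e.surjective ⟨y, hy⟩
        rw [show y = φ x by rw [← he, hx]]
        exact apply_mem_S hφ x) hφ he ha.2⟩
  ascend Q _ hQc a ha b hb hab := by
    refine ⟨ha, ?_⟩
    have hN : normalizerIn T Q ≤ T := normalizerIn_le
    obtain ⟨e, he, -, hee⟩ := exists_mapFn_of_aut hN ha
    obtain ⟨d, hd, hdr, hde⟩ := exists_mapFn_of_aut hQc.1 hb.2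
    have hed : ∀ x ∈ Q, d x = e x := fun x hx => by
      rw [hde ⟨x, hx⟩, ← hab ⟨x, hx⟩ (le_normalizerIn hQc.1 hx), ← hee]
    exact (mem_autGroup_iff_mapFn hN).mpr ⟨e, mapFn_of_restrict_aut hS hE hD hQc he
      ((Set.image_congr fun x hx => (hed x hx).symm).trans hdr) (hd.congr hed), hee⟩

/-- The residual of a weakly normal subsystem lies in every weakly normal subsystem over `T`. -/
theorem res_le_of_weaklyNormal [Finite T] (hS : IsPGroup p S) (hE : E.IsWeaklyNormalIn F p)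
    (hD : D.IsWeaklyNormalIn F p) : res p E ≤ D := by
  have hG := isFamily_inf hS hE hD
  exact res_le_of_family (hS.to_le hE.2.2.2.1.1) hE.1 hG
    (fun P hP => (hG.pAuts P hP).trans inf_le_right) inf_le_right

end CfsgLib.Fusion.PPrimeRes
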