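import Cfsg.Agent.Lib.Fusion.FunctorNormal

/-!
# The steps of the minimal counterexample argument
-/

namespace CfsgLib.Fusion

open Cfsg Cfsg.FusionSystem CfsgLib.FusionFactor

universe u v

variable {Ω : Type u} [Group Ω] {S : Subgroup Ω} {F : FusionSystem S} {p : ℕ} [Finite S] [Fact p.Prime]

/-- To prove `F ≤ E` it is enough to treat proper normalizer systems, the normalizer systems of centric
subgroups normal in `S`, proper systems `N_F^{Aut_S(Q)}(Q)`, and systems equal to the latter. -/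
theorem le_of_steps (hS : IsPGroup p S) (hF : F.IsSaturated p) (hS1 : S ≠ ⊥) (E : FusionSystem S)
    (hproper : ∀ U : Subgroup Ω, U ≠ ⊥ → F.IsFullyNormalized U →
      ∀ N : FusionSystem (normalizerIn S U), F.IsNormalizerSystem U N → (∃ P φ, φ ∈ F.Hom P ∧ φ ∉ N.Hom P) →
      (normalizerIn S U ≠ S → ∀ V : Subgroup Ω, V ≠ ⊥ → V ≤ normalizerIn S U →
        normalizerIn S (normalizerIn S U) ≤ Subgroup.normalizer (V : Set Ω) →
        ∀ P φ, φ ∈ F.normalizerHom V P → φ ∈ E.Hom P) →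
      ∀ P φ, φ ∈ N.Hom P → φ ∈ E.Hom P)
    (hcentric : ∀ T : Subgroup Ω, F.IsCentric T → F.IsFullyNormalized T → normalizerIn S T = S →
      ∀ P φ, φ ∈ F.normalizerHom T P → φ ∈ E.Hom P)
    (hinner : ∀ (Q : Subgroup Ω) (hQ : F.IsNormal Q), Q ≠ ⊥ → ∀ hr : F.IsReceptive Q,
      (extSystem F hr.1 (autInducedBy S Q) S
        (isKNormalizer_autInducedBy (le_normalizer_of_isNormal hQ))).IsSaturated p →
      (∃ P φ, φ ∈ F.Hom P ∧ φ ∉ extHom F Q (autInducedBy S Q) S P) →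
      ∀ P φ, φ ∈ extHom F Q (autInducedBy S Q) S P → φ ∈ E.Hom P)
    (hquot : ∀ Q : Subgroup Ω, F.IsNormal Q → Q ≠ ⊥ → Q ≠ S →
      (∀ P φ, φ ∈ F.Hom P → φ ∈ extHom F Q (autInducedBy S Q) S P) →
      (∀ V : Subgroup Ω, V ≤ S → S ≤ Subgroup.normalizer (V : Set Ω) → ¬ V ≤ Q →
        ∀ P φ, φ ∈ F.normalizerHom V P → φ ∈ E.Hom P) →
      F ≤ E) : F ≤ E := by
  by_cases hcore : F.core = ⊥
  · refine le_of_local hS hF hS1 E fun U hU hUn hbig P φ hφ => ?_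
    obtain ⟨N, hN⟩ := exists_normalizerSystem (F := F) hUn.1
    refine hproper U hU hUn N hN ?_ (fun hM V hV hVM hVn => hbig V hV (hVM.trans normalizerIn_le) ?_) P φ
      ((hN P).ge hφ)
    · by_contra h
      push Not at h
      have hUnorm : F.IsNormal U := ⟨hUn.1, fun P φ hφ => by
        obtain ⟨-, -, -, ψ, hψ, hψe, hψU⟩ := (hN P).le (h P φ hφ)
        exact ⟨ψ, hψ, hψe, hψU⟩⟩
      exact hU (le_bot_iff.mp (hcore ▸ (show U ≤ F.core from le_sSup hUnorm)))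
    · have hMX : normalizerIn S (normalizerIn S U) ≤ normalizerIn S V := le_inf normalizerIn_le hVn
      have := finite_of_le (normalizerIn_le (S := S) (P := V))
      refine lt_of_lt_of_le ?_ (Subgroup.card_le_of_le hMX)
      have hlt := lt_normalizerIn hS le_rfl (lt_of_le_of_ne normalizerIn_le hM)
      have := finite_of_le (normalizerIn_le (S := S) (P := normalizerIn S U))
      exact lt_of_not_ge fun h => hlt.ne (eq_of_le_of_card_le hlt.le h)
  · obtain ⟨Q, hQd⟩ : ∃ Q, Q = F.core := ⟨_, rfl⟩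
    have hQ : F.IsNormal Q := hQd ▸ CfsgLib.FusionExt.isNormal_core F
    have hQ1 : Q ≠ ⊥ := fun e => hcore (hQd.symm.trans e)
    obtain ⟨hTc, hTn, hTN, -⟩ := normal_mul_centralizer hQ
    have hT := hcentric _ hTc hTn hTN
    by_cases hQS : Q = S
    · intro P φ hφ
      refine hT P φ ?_
      rw [sup_eq_left.mpr (centralizerIn_le.trans hQS.ge)]
      obtain ⟨ψ, hψ, hψe, hψQ⟩ := hQ.2 P φ hφ
      have hN' : normalizerIn S Q = S := inf_eq_left.mpr (le_normalizer_of_isNormal hQ)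
      exact ⟨hφ, hN'.symm ▸ le_S hφ, fun x => hN'.symm ▸ apply_mem_S hφ x, ψ, hψ, hψe, hψQ⟩
    obtain ⟨hr, hsat⟩ := innerExt_saturated hS hF hQ
    by_cases hne : ∃ P φ, φ ∈ F.Hom P ∧ φ ∉ extHom F Q (autInducedBy S Q) S P
    · exact le_of_normal_split hS hF hQ E hT (hinner Q hQ hQ1 hr hsat hne)
    · push Not at hne
      refine hquot Q hQ hQ1 hQS hne fun V hVS hVn hVQ P φ hφ => ?_
      have hNV : normalizerIn S V = S := inf_eq_left.mpr hVn
      have hVfn : F.IsFullyNormalized V := ⟨hVS, fun R _ => by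
        rw [hNV]; exact Subgroup.card_le_of_le normalizerIn_le⟩
      obtain ⟨N, hN⟩ := exists_normalizerSystem (F := F) hVS
      refine hproper V (fun e => hVQ (e ▸ bot_le)) hVfn N hN ?_ (fun h => absurd hNV h) P φ ((hN P).ge hφ)
      by_contra h
      push Not at h
      have hVnorm : F.IsNormal V := ⟨hVS, fun P φ hφ => by
        obtain ⟨-, -, -, ψ, hψ, hψe, hψV⟩ := (hN P).le (h P φ hφ)
        exact ⟨ψ, hψ, hψe, hψV⟩⟩
      exact hVQ ((show V ≤ F.core from le_sSup hVnorm).trans hQd.ge)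

omit [Fact p.Prime] in
/-- Maps of `N_{F/Q}(W')` lift to maps of `N_F(V)`, `V` the preimage of `W'`. -/
theorem exists_lift_normalizerHom {Ω' : Type v} [Group Ω'] {θ : S →* Ω'} {Q : Subgroup Ω}
    {E' : FusionSystem θ.range} (hE : F.IsFactorSystem Q θ E') {W' P' : Subgroup Ω'} (hW' : W' ≤ θ.range)
    {φ' : P' →* Ω'} (hφ : φ' ∈ E'.normalizerHom W' P') :
    ∃ (P : Subgroup Ω) (ψ : P →* Ω), ψ ∈ F.normalizerHom (preimageAlong θ W') P ∧
      ∀ y : P', ∃ (x : P) (hx : (x : Ω) ∈ S) (hy : ψ x ∈ S), θ ⟨x, hx⟩ = y ∧ θ ⟨ψ x, hy⟩ = φ' y := by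
  obtain ⟨hQS, hk, -, hH⟩ := hE
  obtain ⟨-, hP, -, ψ', hψ', hψ'e, hψ'W⟩ := hφ
  obtain ⟨hle, ψ, hψ, hPS, hψS, hm, e⟩ := (hH _ _).mp hψ'
  have hVS : preimageAlong θ W' ≤ S := preimageAlong_le _
  have := finite_of_le hVS
  have hVP : preimageAlong θ W' ≤ preimageAlong θ (P' ⊔ W') := fun x hx =>
    mem_preimageAlong.mpr ⟨hVS hx, Subgroup.mem_sup_right (map_mem_of_mem_preimageAlong hx _)⟩
  have hPN : preimageAlong θ (P' ⊔ W') ≤ normalizerIn S (preimageAlong θ W') := by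
    intro x hx
    refine ⟨hPS hx, mem_normalizer_of_forall fun w hw => mem_preimageAlong.mpr
      ⟨S.mul_mem (S.mul_mem (hPS hx) (hVS hw)) (S.inv_mem (hPS hx)), ?_⟩⟩
    show θ (⟨x, hPS hx⟩ * ⟨w, hVS hw⟩ * (⟨x, hPS hx⟩ : S)⁻¹) ∈ W'
    rw [map_mul, map_mul, map_inv]
    exact (Subgroup.mem_normalizer_iff.mp
      ((sup_le (hP.trans inf_le_right) Subgroup.le_normalizer : P' ⊔ W' ≤ _) (hm ⟨x, hx⟩)) _).mp
      (map_mem_of_mem_preimageAlong hw (hVS hw))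
  refine ⟨_, ψ, mem_normalizerHom hψ hVP hPN fun x hx => mem_preimageAlong.mpr ⟨hψS x, ?_⟩, fun y => ?_⟩
  · rw [← e x]
    exact hψ'W.le ⟨⟨_, hm x⟩, map_mem_of_mem_preimageAlong hx _, rfl⟩
  · obtain ⟨x, hxS, hxP, hxe⟩ := exists_preimage hle ⟨y, Subgroup.mem_sup_left y.2⟩
    refine ⟨⟨x, hxP⟩, hxS, hψS _, hxe, ?_⟩
    rw [← e ⟨x, hxP⟩, ← hψ'e y]
    exact apply_eq_of_coe_eq hxe

/-- A map of `G` that fixes `X` extends to one fixing also the normal subgroup `U` of `G`. -/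
theorem exists_extension_in_normalizer {M U X P : Subgroup Ω} {N : FusionSystem M}
    (hU : U ≤ S) (hM : M = normalizerIn S U) (hMX : M ≤ normalizerIn S X) (hX : X ≤ M)
    (hN : ∀ P, N.Hom P = F.normalizerHom U P) {φ : P →* Ω} (hφ : φ ∈ N.normalizerHom X P) :
    ∃ χ ∈ F.normalizerHom X (P ⊔ X ⊔ U), (∀ u : ↥(P ⊔ X ⊔ U), (u : Ω) ∈ U → χ u ∈ U) ∧
      ∀ x : P, χ ⟨x, Subgroup.mem_sup_left (Subgroup.mem_sup_left x.2)⟩ = φ x := by
  obtain ⟨hφN, hP, -, ψ, hψ, hψe, hψX⟩ := hφ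
  obtain ⟨-, -, -, χ, hχ, hχe, hχU⟩ := (hN _).le hψ
  refine ⟨χ, mem_normalizerHom hχ (le_sup_right.trans le_sup_left) ?_ fun x hx => ?_,
    fun u hu => hχU.le ⟨u, hu, rfl⟩, fun x => (hχe ⟨x, Subgroup.mem_sup_left x.2⟩).trans (hψe x)⟩
  · exact sup_le (sup_le (hP.trans (normalizerIn_le.trans hMX)) (hX.trans hMX))
      ((le_normalizerIn hU).trans (hM.ge.trans hMX))
  · rw [apply_eq_of_coe_eq (φ := χ) (x := x) (y := Subgroup.inclusion le_sup_left ⟨(x : Ω), Subgroup.mem_sup_right hx⟩) rfl,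
      hχe]
    exact hψX.le ⟨_, hx, rfl⟩

end CfsgLib.Fusion
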