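import Cfsg.Agent.Lib.Fusion.Extend
import Cfsg.Agent.Lib.Fusion.Factor

/-!
# Working modulo a strongly closed subgroup
-/

namespace CfsgLib.Fusion

open Cfsg Cfsg.FusionSystem CfsgLib.FusionExtend

variable {Ω : Type*} [Group Ω] {S : Subgroup Ω} {F : FusionSystem S} [Finite S] {p : ℕ}
  [Fact p.Prime]

omit [Fact p.Prime] [Finite S] in
/-- Elements of `T C_S(T)` are those acting on `T` as elements of `T`. -/
theorem mem_sup_centralizerIn_iff {T : Subgroup Ω} (hTS : T ≤ S) {y : Ω} :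
    y ∈ T ⊔ centralizerIn S T ↔ y ∈ S ∧ ∃ t ∈ T, ∀ u : T, y * (u : Ω) * y⁻¹ = t * u * t⁻¹ := by
  constructor
  · intro hy
    rw [← SetLike.mem_coe, Subgroup.coe_mul_of_right_le_normalizer_left T (centralizerIn S T)
      ((inf_le_right).trans (Subgroup.centralizer_le_normalizer _))] at hy
    obtain ⟨t, ht, c, hc, rfl⟩ := hy
    refine ⟨S.mul_mem (hTS ht) hc.1, t, ht, fun u => ?_⟩
    have h := (mem_centralizerIn'.mp hc).2 u
    calc t * c * (u : Ω) * (t * c)⁻¹ = t * (c * u * c⁻¹) * t⁻¹ := by group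
      _ = _ := by rw [h]
  · rintro ⟨hy, t, ht, h⟩
    have hc : t⁻¹ * y ∈ centralizerIn S T := mem_centralizerIn'.mpr
      ⟨S.mul_mem (S.inv_mem (hTS ht)) hy, fun u => by
        calc t⁻¹ * y * (u : Ω) * (t⁻¹ * y)⁻¹ = t⁻¹ * (y * u * y⁻¹) * t := by group
          _ = _ := by rw [h u]; group⟩
    have := Subgroup.mul_mem (T ⊔ centralizerIn S T) (Subgroup.mem_sup_left ht) (Subgroup.mem_sup_right hc)
    rwa [mul_inv_cancel_left] at this

/-- An automorphism of order prime to `p` lifts, modulo `T`, to one of order prime to `p`. -/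
theorem exists_coprime_lift (hS : IsPGroup p S) (hF : F.IsSaturated p) {T : Subgroup Ω}
    (hT : F.StronglyClosed T) {P : Subgroup Ω} (hP : P ≤ S) {β : MulAut P} (hβ : β ∈ F.autGroup P)
    (hβp : ¬ p ∣ orderOf β) :
    ∃ γ ∈ F.autGroup (P ⊔ T), ¬ p ∣ orderOf γ ∧ ∀ x : P,
      ((β x : P) : Ω)⁻¹ * ((γ ⟨x, Subgroup.mem_sup_left x.2⟩ : ↥(P ⊔ T)) : Ω) ∈ T := by
  have hp : p.Prime := Fact.out
  obtain ⟨f, hf, -, hfe⟩ := exists_map_of_mem_autGroup hP hβ
  obtain ⟨ψ, hψ, hψe⟩ := exists_congr_extension hS hF hT hf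
  have hPT : P ⊔ T ≤ S := sup_le hP hT.1
  have := finite_of_le hPT
  have hle : P ⊔ T ≤ ((P ⊔ T).comap ψ).map (P ⊔ T).subtype := by
    refine sup_le (fun y hy => ⟨⟨y, Subgroup.mem_sup_left hy⟩, ?_, rfl⟩)
      (fun y hy => ⟨⟨y, Subgroup.mem_sup_right hy⟩, Subgroup.mem_sup_right (sc_apply hT hψ _ hy), rfl⟩)
    have h := Subgroup.mul_mem (P ⊔ T) (Subgroup.mem_sup_left (β ⟨y, hy⟩).2) (Subgroup.mem_sup_right (hψe ⟨y, hy⟩))
    rw [hfe, mul_inv_cancel_left] at h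
    exact h
  obtain ⟨ψ', hψ', hψ'e⟩ := exists_aut hψ (range_eq_of_card_le hψ hPT (fun x => by
    obtain ⟨y, hy, hyx⟩ := hle x.2
    rwa [Subtype.ext hyx] at hy) le_rfl)
  have key : ∀ (k : ℕ) (x : P), (((β ^ k) x : P) : Ω)⁻¹ *
      (((ψ' ^ k) ⟨x, Subgroup.mem_sup_left x.2⟩ : ↥(P ⊔ T)) : Ω) ∈ T := by
    intro k
    induction k with
    | zero => intro x; simp
    | succ k ih =>
      intro x
      rw [pow_succ', pow_succ', MulAut.mul_apply, MulAut.mul_apply]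
      have h1 := hψe ((β ^ k) x)
      rw [hfe, ← hψ'e] at h1
      have h2 : ((ψ' ⟨((β ^ k) x : P), Subgroup.mem_sup_left ((β ^ k) x).2⟩ : ↥(P ⊔ T)) : Ω)⁻¹ *
          ((ψ' ((ψ' ^ k) ⟨x, Subgroup.mem_sup_left x.2⟩) : ↥(P ⊔ T)) : Ω) ∈ T := by
        rw [← Subgroup.coe_inv, ← Subgroup.coe_mul, ← map_inv, ← map_mul]
        rw [hψ'e]
        exact sc_apply hT hψ _ (ih x)
      have := T.mul_mem h1 h2
      simpa [mul_assoc] using this
  have := finite_mulAut hPT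
  obtain ⟨a, m, hm, hord⟩ := Nat.exists_eq_pow_mul_and_not_dvd (orderOf_pos ψ').ne' p hp.ne_one
  obtain ⟨c, hc₁, hc₂⟩ :=
    Nat.chineseRemainder (((hp.coprime_iff_not_dvd).mpr hβp).pow_left a).symm 1 0
  obtain ⟨d, rfl⟩ : p ^ a ∣ c := Nat.modEq_zero_iff_dvd.mp hc₂
  have hβc : β ^ (p ^ a * d) = β := by
    conv_rhs => rw [← pow_one β]
    exact pow_eq_pow_iff_modEq.mpr hc₁
  refine ⟨ψ' ^ (p ^ a * d), Subgroup.pow_mem _ hψ' _, fun hdvd => hm ?_, fun x => ?_⟩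
  · refine hdvd.trans (orderOf_dvd_of_pow_eq_one ?_)
    rw [← pow_mul, mul_right_comm, ← hord, pow_mul, pow_orderOf_eq_one, one_pow]
  · have := key (p ^ a * d) x
    rwa [hβc] at this

omit [Finite S] in
/-- Generation of the hyperfocal subgroup by elements of order prime to `p`. -/
theorem hyperfocal_le_of_coprime (F : FusionSystem S) (X : Subgroup Ω)
    (h : ∀ (P : Subgroup Ω) (β : F.autGroup P) (x : P), P ≤ S → ¬ p ∣ orderOf β →
      (x : Ω)⁻¹ * (((β : MulAut P) x : P) : Ω) ∈ X) :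
    F.hyperfocalSubgroup p ≤ X := by
  rw [FusionSystem.hyperfocalSubgroup, Subgroup.closure_le]
  rintro _ ⟨P, α, x, hP, hα, rfl⟩
  let W : Subgroup (F.autGroup P) :=
    { carrier := {β | ∀ x : P, (x : Ω)⁻¹ * (((β : MulAut P) x : P) : Ω) ∈ X}
      one_mem' := fun x => by simp
      mul_mem' := fun {a b} ha hb x => by
        have := X.mul_mem (hb x) (ha ((b : MulAut P) x))
        simpa [mul_assoc] using this
      inv_mem' := fun {a} ha x => by
        have := X.inv_mem (ha (((a : MulAut P))⁻¹ x))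
        simpa [MulAut.inv_def] using this }
  have hle : pResidual p (F.autGroup P) ≤ W := by
    rw [pResidual, Subgroup.closure_le]
    intro β hβ x
    exact h P β x hP fun hd => (Fact.out : p.Prime).not_dvd_one
      ((Nat.Coprime.gcd_eq_one hβ) ▸ Nat.dvd_gcd hd dvd_rfl)
  exact hle hα x

end CfsgLib.Fusion
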