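import Cfsg.Agent.Lib.FusionNormal.TateInner
import Cfsg.Agent.Lib.Fusion.LocalSteps
import Cfsg.Agent.Lib.Fusion.Solvable
import Cfsg.Agent.Lib.Fusion.ModClosed
import Cfsg.Agent.Lib.Coprime.Basic
import Cfsg.Agent.Lib.OddOrder.PuigSeries

/-!
# A nilpotency criterion by subgroups of one order that are embedded through strongly closed subgroups
-/

set_option autoImplicit false

namespace CfsgLib.FusionEmbeddedInner

open Cfsg Cfsg.FusionSystem CfsgLib.Fusion CfsgLib.FusionExtend CfsgLib.FusionFactor CfsgLib.FusionSolvable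
open scoped commutatorElement

universe u

variable {Ω : Type u} [Group Ω] {S : Subgroup Ω} {F : FusionSystem S} {p : ℕ}
variable [Finite S] [Fact p.Prime]

/-- A trivial hyperfocal subgroup makes the system inner. -/
theorem le_inner_of_hyperfocal (hS : IsPGroup p S) (hF : F.IsSaturated p)
    (h : F.hyperfocalSubgroup p ≤ ⊥) : F ≤ innerFusionSystem S := by
  intro P φ hφ
  refine ((eq_inner_of_pGroup_autGroups hS hF fun P hP => ?_) P).le hφ
  obtain ⟨ha, -⟩ := fullyNormalized_good hS hF hP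
  rintro ⟨α, hα⟩
  obtain ⟨a, haR, g, hg, b, rfl, hb⟩ := FullyAutomized.exists_mul ha hα
  have ha1 : (a : MulAut P) = 1 := MulEquiv.ext fun x => Subtype.ext
    (inv_mul_eq_one.mp (Subgroup.mem_bot.mp (h (mem_hyperfocal hP.1 haR x)))).symm
  have hbA : b ∈ autInducedBy S P := Subgroup.subset_closure ⟨g, hg, hb⟩
  obtain ⟨k, hk'⟩ := isPGroup_autInducedBy hS P ⟨b, hbA⟩
  refine ⟨k, Subtype.ext ?_⟩
  rw [Subgroup.coe_pow]
  show ((a : MulAut P) * b) ^ p ^ k = 1
  rw [ha1, one_mul]
  exact congrArg Subtype.val hk'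

/-- Every map of `F` is, modulo `N`, conjugation by an element of `S`. -/
def InnerMod (F : FusionSystem S) (N : Subgroup Ω) : Prop :=
  ∀ P φ, φ ∈ F.Hom P → ∃ s ∈ S, ∀ x : P, (φ x)⁻¹ * (s * (x : Ω) * s⁻¹) ∈ N

omit [Fact p.Prime] in
theorem stronglyClosed_of_innerMod {N U : Subgroup Ω} (h : InnerMod F N) (hUS : U ≤ S)
    (hn : S ≤ Subgroup.normalizer (U : Set Ω)) (hNU : N ≤ U) : F.StronglyClosed U := by
  refine ⟨hUS, fun R hR φ hφ x => ?_⟩
  obtain ⟨s, hs, hse⟩ := h R φ hφ
  have h1 := U.mul_mem ((Subgroup.mem_normalizer_iff.mp (hn hs) _).mp (hR x.2)) (U.inv_mem (hNU (hse x)))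
  simpa [mul_assoc] using h1

/-- If all maps are inner modulo a strongly closed `N`, the hyperfocal subgroup lies in `N`. -/
theorem hyperfocal_le_of_innerMod (hS : IsPGroup p S) {N : Subgroup Ω} (hN : F.StronglyClosed N)
    (h : InnerMod F N) : F.hyperfocalSubgroup p ≤ N := by
  refine hyperfocal_le_of_coprime F N fun P β x hP hβ => ?_
  obtain ⟨f, hf, -, hfe⟩ := exists_map_of_mem_autGroup hP β.2
  obtain ⟨s, hs, hse⟩ := h P f hf
  have hnor : ∀ y ∈ N, s * y * s⁻¹ ∈ N := fun y hy =>
    (Subgroup.mem_normalizer_iff.mp (StronglyClosed.le_normalizer hN hs) y).mp hy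
  have key : ∀ (k : ℕ) (y : P),
      ((((β : MulAut P) ^ k) y : P) : Ω)⁻¹ * (s ^ k * (y : Ω) * (s ^ k)⁻¹) ∈ N := by
    intro k
    induction k with
    | zero => intro y; simp
    | succ k ih =>
      intro y
      have h1 := hse (((β : MulAut P) ^ k) y)
      rw [hfe] at h1
      have h2 := N.mul_mem h1 (hnor _ (ih y))
      rw [pow_succ', MulAut.mul_apply, pow_succ']
      convert h2 using 1
      group
  set m := Nat.card S with hm
  have hsm : s ^ m = 1 := by
    have := pow_card_eq_one' (x := (⟨s, hs⟩ : S))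
    exact congrArg Subtype.val this
  have key' : ∀ (j : ℕ) (y : P), ((((β : MulAut P) ^ (m * j)) y : P) : Ω)⁻¹ * (y : Ω) ∈ N := by
    intro j y
    have h1 := key (m * j) y
    rwa [pow_mul s, hsm, one_pow, inv_one, mul_one, one_mul] at h1
  have := finite_of_le hP
  have := finite_mulAut hP
  obtain ⟨a, ha⟩ := IsPGroup.iff_card.mp hS
  have hco : Nat.Coprime m (orderOf β) := by
    rw [hm, ha]
    exact (((Fact.out : p.Prime).coprime_iff_not_dvd).mpr hβ).pow_left a
  obtain ⟨c, hc⟩ := Nat.chineseRemainder hco 0 1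
  obtain ⟨j, rfl⟩ : m ∣ c := Nat.modEq_zero_iff_dvd.mp hc.1
  have hβj : (β : MulAut P) ^ (m * j) = β := by
    rw [← SubgroupClass.coe_pow, pow_eq_pow_iff_modEq.mpr hc.2, pow_one]
  have h1 := N.inv_mem (key' j x)
  rwa [hβj, mul_inv_rev, inv_inv] at h1

/-- A subgroup `H` all whose intersections with the terms of the upper central series of `S` are strongly
closed is normal. -/
theorem isNormal_of_centre_series (hS : IsPGroup p S) (hF : F.IsSaturated p) {H : Subgroup Ω} (hH : H ≤ S)
    (hn : S ≤ Subgroup.normalizer (H : Set Ω))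
    (h : ∀ (i : ℕ), 1 ≤ i → F.StronglyClosed (H ⊓ (Subgroup.upperCentralSeries S i).map S.subtype)) :
    F.IsNormal H := by
  have : Group.IsNilpotent S := hS.isNilpotent
  obtain ⟨n, hn'⟩ := Group.IsNilpotent.nilpotent' (G := S)
  refine isNormal_of_series hS hF n (fun i => H ⊓ (Subgroup.upperCentralSeries S i).map S.subtype)
    (by simp) ?_ (fun i j hij => inf_le_inf_left _ (Subgroup.map_mono (Subgroup.upperCentralSeries_mono S hij)))
    (fun i _ => ?_) fun i _ => ?_
  · show H ⊓ (Subgroup.upperCentralSeries S n).map S.subtype = H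
    rw [hn', ← MonoidHom.range_eq_map, Subgroup.range_subtype, inf_eq_left.mpr hH]
  · rcases i with _ | i
    · simpa using stronglyClosed_bot F
    · exact h _ (by omega)
  · rw [Subgroup.commutator_le]
    rintro q hq _ ⟨hzH, z, hz, rfl⟩
    refine ⟨?_, ?_⟩
    · have h1 := (Subgroup.mem_normalizer_iff.mp (hn (S.mul_mem (hH hq) (SetLike.coe_mem z))) q⁻¹).mp (H.inv_mem hq)
      have h2 := (Subgroup.mem_normalizer_iff.mp (hn (hH hq)) (z : Ω)).mp hzH
      rw [commutatorElement_def]
      exact H.mul_mem h2 (H.inv_mem hzH)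
    · have h1 := Subgroup.mem_upperCentralSeries_succ_iff.mp hz ⟨q, hH hq⟩
      refine ⟨⁅z, (⟨q, hH hq⟩ : S)⁆⁻¹, Subgroup.inv_mem _ h1, ?_⟩
      simp [commutatorElement_def, mul_assoc]

omit [Finite S] in
/-- A subgroup of order `p ^ k` between two subgroups. -/
theorem exists_card_between {A B : Subgroup Ω} [Finite B] (hB : IsPGroup p B) (hAB : A ≤ B) {k : ℕ}
    (h1 : Nat.card A ≤ p ^ k) (h2 : p ^ k ≤ Nat.card B) :
    ∃ Q, A ≤ Q ∧ Q ≤ B ∧ Nat.card Q = p ^ k := by
  have := finite_of_le (S := B) hAB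
  obtain ⟨b, hb⟩ := IsPGroup.iff_card.mp hB
  obtain ⟨a, ha⟩ := IsPGroup.iff_card.mp (hB.to_le hAB)
  have hp1 : 1 < p := (Fact.out : p.Prime).one_lt
  have hak : a ≤ k := (Nat.pow_le_pow_iff_right hp1).mp (ha ▸ h1)
  have hkb : k ≤ b := (Nat.pow_le_pow_iff_right hp1).mp (hb ▸ h2)
  obtain ⟨K, hK, hAK⟩ := Sylow.exists_subgroup_card_pow_prime_le p (hb.symm ▸ Nat.pow_dvd_pow p hkb)
    (A.subgroupOf B) ((Nat.card_congr (Subgroup.subgroupOfEquivOfLe hAB).toEquiv).trans ha) hak
  refine ⟨K.map B.subtype, ?_, Subgroup.map_subtype_le _,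
    (Nat.card_congr (K.equivMapOfInjective _ B.subtype_injective).symm.toEquiv).trans hK⟩
  rw [← Subgroup.map_subgroupOf_eq_of_le hAB]
  exact Subgroup.map_mono hAK

omit [Finite S] in
/-- A normal subgroup of a `p`-group lies in normal subgroups of every larger order. -/
theorem exists_normal_card {G : Type*} [Group G] [Finite G] (hG : IsPGroup p G) (N : Subgroup G) [N.Normal]
    {k : ℕ} (h1 : Nat.card N ≤ p ^ k) (h2 : p ^ k ≤ Nat.card G) :
    ∃ H : Subgroup G, H.Normal ∧ N ≤ H ∧ Nat.card H = p ^ k := by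
  suffices K : ∀ (n : ℕ) (N : Subgroup G) [N.Normal], p ^ k - Nat.card N < n → Nat.card N ≤ p ^ k →
      ∃ H : Subgroup G, H.Normal ∧ N ≤ H ∧ Nat.card H = p ^ k from K _ N (Nat.lt_succ_self _) h1
  intro n
  induction n with
  | zero => intro N _ h; omega
  | succ n ih =>
    intro N _ hn hle
    rcases hle.lt_or_eq with hlt | heq
    swap
    · exact ⟨N, inferInstance, le_rfl, heq⟩
    have hQ := hG.to_quotient N
    have : Nontrivial (G ⧸ N) := by
      rw [← Finite.one_lt_card_iff_nontrivial, ← Subgroup.index_eq_card]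
      by_contra h
      push Not at h
      have := Subgroup.index_ne_zero_of_finite (H := N)
      have h4 := Subgroup.card_mul_index N
      rw [show N.index = 1 by omega, mul_one] at h4
      omega
    have hc := hQ.center_nontrivial
    obtain ⟨z, hz⟩ : ∃ z : Subgroup.center (G ⧸ N), orderOf z = p := by
      refine exists_prime_orderOf_dvd_card' p ?_
      obtain ⟨m, hm0, hm⟩ := (hQ.to_subgroup (Subgroup.center (G ⧸ N))).nontrivial_iff_card.mp hc
      rw [hm]
      exact dvd_pow_self p hm0.ne'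
    set Z := Subgroup.zpowers (z : G ⧸ N) with hZ
    have hZn : Z.Normal := ⟨fun n hn g => by
      have hc : n ∈ Subgroup.center (G ⧸ N) := (Subgroup.zpowers_le.mpr z.2) hn
      rw [Subgroup.mem_center_iff.mp hc g, mul_inv_cancel_right]
      exact hn⟩
    set H := Z.comap (QuotientGroup.mk' N)
    have hNH : N ≤ H := fun x hx => by
      show QuotientGroup.mk' N x ∈ Z
      rw [show QuotientGroup.mk' N x = 1 from (QuotientGroup.eq_one_iff x).mpr hx]
      exact one_mem _
    have hcard : Nat.card H = Nat.card N * p := by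
      have e1 := Subgroup.card_mul_index H
      rw [Subgroup.index_comap_of_surjective _ (QuotientGroup.mk'_surjective N)] at e1
      have e2 := Subgroup.card_mul_index Z
      rw [hZ, Nat.card_zpowers, Subgroup.orderOf_coe, hz, ← hZ] at e2
      have e3 := Subgroup.card_mul_index N
      rw [Subgroup.index_eq_card N, ← e2, ← mul_assoc, ← e1] at e3
      exact (Nat.eq_of_mul_eq_mul_right (Nat.pos_of_ne_zero Subgroup.index_ne_zero_of_finite) e3).symm
    obtain ⟨a, ha⟩ := IsPGroup.iff_card.mp (hG.to_subgroup N)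
    have hp := (Fact.out : p.Prime)
    have hak : a < k := (Nat.pow_lt_pow_iff_right hp.one_lt).mp (ha ▸ hlt)
    have hH : Nat.card H ≤ p ^ k := by
      rw [hcard, ha, ← pow_succ]
      exact Nat.pow_le_pow_right hp.pos hak
    have hgt : Nat.card N < Nat.card H := by
      rw [hcard]
      exact lt_mul_of_one_lt_right Nat.card_pos hp.one_lt
    obtain ⟨H', h3, h4, h5⟩ := ih H (by omega) hH
    exact ⟨H', h3, hNH.trans h4, h5⟩

/-- The hypothesis of the criterion. -/
structure Cond (F : FusionSystem S) (d : ℕ) : Prop where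
  one_lt : 1 < d
  lt_card : d < Nat.card S
  dvd : d ∣ Nat.card S
  emb : ∀ Q : Subgroup Ω, Q ≤ S → Nat.card Q = d →
    ∃ P, F.StronglyClosed P ∧ F.StronglyClosed (Q ⊔ P) ∧ F.StronglyClosed (Q ⊓ P)
  loc : ∀ H : Subgroup Ω, F.IsFullyNormalized H → Nat.card H = d →
    ∀ P φ, φ ∈ F.normalizerHom H P → ∃ g ∈ normalizerIn S H, ∀ x : P, φ x = g * (x : Ω) * g⁻¹

/-- A minimal nontrivial strongly closed subgroup. -/
def MinSC (F : FusionSystem S) (N : Subgroup Ω) : Prop :=
  F.StronglyClosed N ∧ N ≠ ⊥ ∧ ∀ U, F.StronglyClosed U → U ≤ N → U = ⊥ ∨ U = N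

omit [Fact p.Prime] in
theorem exists_minSC {U : Subgroup Ω} (hU : F.StronglyClosed U) (h1 : U ≠ ⊥) :
    ∃ N, N ≤ U ∧ MinSC F N := by
  suffices H : ∀ (n : ℕ) {U : Subgroup Ω}, Nat.card U < n → F.StronglyClosed U → U ≠ ⊥ → ∃ N, N ≤ U ∧ MinSC F N
    from H _ (Nat.lt_succ_self _) hU h1
  intro n
  induction n with
  | zero => intro U h; omega
  | succ n ih =>
    intro U hn hU h1
    by_cases hmin : ∀ V, F.StronglyClosed V → V ≤ U → V = ⊥ ∨ V = U
    · exact ⟨U, le_rfl, hU, h1, hmin⟩
    · push Not at hmin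
      obtain ⟨V, hV, hVU, hV1, hne⟩ := hmin
      have := finite_of_le hU.1
      have hlt : Nat.card V < Nat.card U := lt_of_not_ge fun h => hne (eq_of_le_of_card_le hVU h)
      obtain ⟨N, hN, hNm⟩ := ih (by omega) hV hV1
      exact ⟨N, hN.trans hVU, hNm⟩

/-- A normal subgroup of the given order makes the system inner. -/
theorem le_inner_of_normal {d : ℕ} (hc : Cond F d) {H : Subgroup Ω} (hH : F.IsNormal H)
    (hd : Nat.card H = d) : F ≤ innerFusionSystem S := by
  have hN : normalizerIn S H = S := inf_eq_left.mpr (le_normalizer_of_isNormal hH)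
  have hHn : F.IsFullyNormalized H := ⟨hH.1, fun R _ => by
    rw [hN]; exact Subgroup.card_le_of_le normalizerIn_le⟩
  intro P φ hφ
  obtain ⟨ψ, hψ, hψe, hψH⟩ := hH.2 P φ hφ
  obtain ⟨g, hg, hge⟩ := hc.loc H hHn hd P φ
    ⟨hφ, hN.symm ▸ le_S hφ, fun x => hN.symm ▸ apply_mem_S hφ x, ψ, hψ, hψe, hψH⟩
  exact ⟨le_S hφ, g, normalizerIn_le hg, hge⟩

theorem le_inner_of_abelian (hS : IsPGroup p S) (hF : F.IsSaturated p) {d : ℕ} (hc : Cond F d)
    {H : Subgroup Ω} (hH : F.StronglyClosed H) (hab : ⁅H, H⁆ = ⊥) (hd : Nat.card H = d) :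
    F ≤ innerFusionSystem S := by
  refine le_inner_of_normal hc (isNormal_of_series hS hF 1 (fun i => if i = 0 then ⊥ else H) rfl rfl ?_ ?_ ?_) hd
  · intro i j hij
    rcases i with _ | i
    · simp
    · rcases j with _ | j
      · omega
      · simp
  · intro i hi
    rcases i with _ | i
    · simpa using stronglyClosed_bot F
    · simpa using hH
  · intro i hi
    obtain rfl : i = 0 := by omega
    simpa using hab

/-- A minimal strongly closed subgroup is not larger than the given order. -/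
theorem card_minSC_le (hS : IsPGroup p S) {d : ℕ} (hc : Cond F d) {N : Subgroup Ω} (hN : MinSC F N) :
    Nat.card N ≤ d := by
  by_contra hlt
  push Not at hlt
  obtain ⟨hsc, hN1, hmin⟩ := hN
  have := finite_of_le hsc.1
  obtain ⟨a, ha⟩ := IsPGroup.iff_card.mp hS
  obtain ⟨k, -, hk⟩ := (Nat.dvd_prime_pow (Fact.out : p.Prime)).mp (ha ▸ hc.dvd)
  obtain ⟨Q, -, hQN, hQd⟩ := exists_card_between (hS.to_le hsc.1) (bot_le (a := N))
    (k := k) (by rw [Subgroup.card_bot, ← hk]; exact hc.one_lt.le) (hk ▸ hlt.le)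
  rw [← hk] at hQd
  have hQ1 : Q ≠ ⊥ := fun e => by rw [e, Subgroup.card_bot] at hQd; exact hc.one_lt.ne hQd
  have hQne : Q ≠ N := fun e => hlt.ne (hQd.symm.trans (by rw [e]))
  obtain ⟨P, hP, hQP, hQiP⟩ := hc.emb Q (hQN.trans hsc.1) hQd
  rcases hmin _ (sc_inf hP hsc) inf_le_right with h | h
  · rcases hmin _ (sc_inf hQP hsc) inf_le_right with h' | h'
    · exact hQ1 (le_bot_iff.mp (h' ▸ le_inf le_sup_left hQN))
    · refine hQne (le_antisymm hQN fun n hn => ?_)
      have hn' : n ∈ Q ⊔ P := (h'.ge hn).1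
      obtain ⟨q, hq, x, hx, rfl⟩ := CfsgLib.Coprime.exists_mul_of_mem_sup
        ((hQN.trans hsc.1).trans (StronglyClosed.le_normalizer hP)) hn'
      have hxN : x ∈ N := by simpa using N.mul_mem (N.inv_mem (hQN hq)) hn
      rw [Subgroup.mem_bot.mp (h.le ⟨hx, hxN⟩), mul_one]
      exact hq
  · rw [inf_eq_right] at h
    rcases hmin _ hQiP (inf_le_left.trans hQN) with h' | h' <;> rw [inf_eq_left.mpr (hQN.trans h)] at h'
    · exact hQ1 h'
    · exact hQne h'

/-- The hypothesis passes to the quotient by a small strongly closed subgroup. -/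
theorem innerMod_of_lt (hS : IsPGroup p S) (hF : F.IsSaturated p) {d : ℕ} (hc : Cond F d)
    {N : Subgroup Ω} (hN : MinSC F N) (hlt : Nat.card N < d)
    (ih : ∀ {Ω' : Type u} [Group Ω'] {S' : Subgroup Ω'} [Finite S'] (E : FusionSystem S') (e : ℕ),
      Nat.card S' < Nat.card S → IsPGroup p S' → E.IsSaturated p → Cond E e → E ≤ innerFusionSystem S') :
    InnerMod F N := by
  obtain ⟨hsc, hN1, -⟩ := hN
  have hA := hsc
  have hNn : (N.subgroupOf S).Normal :=
    (Subgroup.normal_subgroupOf_iff_le_normalizer hsc.1).mpr (StronglyClosed.le_normalizer hsc)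
  let θ : S →* S ⧸ N.subgroupOf S := QuotientGroup.mk' _
  have hk : ∀ s : S, θ s = 1 ↔ (s : Ω) ∈ N := fun s => QuotientGroup.eq_one_iff s
  have hE := factorSystem_isFactorSystem (θ := θ) hk hA
  set E := factorSystem F θ N hk hA
  have : Finite θ.range := Finite.of_surjective _ θ.rangeRestrict_surjective
  have hθp : IsPGroup p θ.range := hS.of_surjective _ θ.rangeRestrict_surjective
  have := finite_of_le hsc.1
  have hcardN : 1 < Nat.card N := (Subgroup.one_lt_card_iff_ne_bot N).mpr hN1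
  have hcard : ∀ U' : Subgroup (S ⧸ N.subgroupOf S),
      Nat.card (preimageAlong θ U') = Nat.card U' * Nat.card N := by
    intro U'
    have e1 : preimageAlong θ U' = (U'.comap θ).map S.subtype := by
      ext x
      rw [mem_preimageAlong]
      exact ⟨fun ⟨h, h'⟩ => ⟨⟨x, h⟩, h', rfl⟩, fun ⟨s, h', e⟩ => e ▸ ⟨s.2, h'⟩⟩
    rw [e1, Subgroup.card_map_of_injective S.subtype_injective]
    have e2 := Subgroup.relIndex_mul_relIndex (⊥ : Subgroup S) (N.subgroupOf S) (U'.comap θ) bot_le
      (fun x hx => by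
        show θ x ∈ U'
        rw [(hk x).mpr hx]
        exact one_mem _)
    rw [Subgroup.relIndex_bot_left, Subgroup.relIndex_bot_left,
      Nat.card_congr (Subgroup.subgroupOfEquivOfLe hsc.1).toEquiv] at e2
    rw [← e2, mul_comm]
    congr 1
    have e3 := Subgroup.relIndex_comap (⊥ : Subgroup (S ⧸ N.subgroupOf S)) θ (U'.comap θ)
    rw [Subgroup.map_comap_eq_self_of_surjective (QuotientGroup.mk'_surjective _), Subgroup.relIndex_bot_left,
      MonoidHom.comap_bot, QuotientGroup.ker_mk'] at e3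
    exact e3
  have hS' : Nat.card θ.range * Nat.card N = Nat.card S := by
    rw [← hcard]
    congr 1
    have e : preimageAlong θ θ.range = S := le_antisymm (preimageAlong_le _) fun s hs =>
      mem_preimageAlong.mpr ⟨hs, ⟨_, rfl⟩⟩
    rw [e]
  obtain ⟨a, ha⟩ := IsPGroup.iff_card.mp hS
  obtain ⟨k, -, hdk⟩ := (Nat.dvd_prime_pow (Fact.out : p.Prime)).mp (ha ▸ hc.dvd)
  obtain ⟨m, hm⟩ := IsPGroup.iff_card.mp (hS.to_le hsc.1)
  have hmk : m ≤ k := (Nat.pow_le_pow_iff_right (Fact.out : p.Prime).one_lt).mp (hm ▸ hdk ▸ hlt.le)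
  obtain ⟨d', hd'⟩ : Nat.card N ∣ d := by rw [hm, hdk]; exact Nat.pow_dvd_pow p hmk
  have hNpos : 0 < Nat.card N := Nat.card_pos
  have hc' : Cond E d' := by
    refine ⟨?_, ?_, ?_, fun Q' hQ' hQd => ?_, fun H' hH' hHd P' φ' hφ' => ?_⟩
    · rcases Nat.lt_or_ge 1 d' with h | h
      · exact h
      · have := Nat.mul_le_mul_left (Nat.card N) h
        omega
    · refine Nat.lt_of_mul_lt_mul_right (a := Nat.card N) ?_
      rw [hS', mul_comm, ← hd']
      exact hc.lt_card
    · refine Nat.dvd_of_mul_dvd_mul_right hNpos ?_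
      rw [hS', mul_comm, ← hd']
      exact hc.dvd
    · obtain ⟨P, hP, hQP, hQiP⟩ := hc.emb (preimageAlong θ Q') (preimageAlong_le _)
        (by rw [hcard, hQd, hd', mul_comm])
      have hQe : imageAlong θ (preimageAlong θ Q') = Q' := imageAlong_preimageAlong hQ'
      refine ⟨imageAlong θ P, sc_imageAlong hS hF hA hE hP, ?_, ?_⟩
      · have h := sc_imageAlong hS hF hA hE hQP
        suffices e : imageAlong θ (preimageAlong θ Q' ⊔ P) = Q' ⊔ imageAlong θ P by rwa [e] at h
        conv_rhs => rw [← hQe]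
        simp only [imageAlong]
        rw [Subgroup.subgroupOf_sup (preimageAlong_le _) hP.1, Subgroup.map_sup]
      · have h := sc_imageAlong hS hF hA hE hQiP
        suffices e : imageAlong θ (preimageAlong θ Q' ⊓ P) = Q' ⊓ imageAlong θ P by rwa [e] at h
        refine le_antisymm ?_ ?_
        · rintro _ ⟨s, ⟨h1, h2⟩, rfl⟩
          exact ⟨map_mem_of_mem_preimageAlong h1 s.2, s, h2, rfl⟩
        · rintro _ ⟨h1, s, hs, rfl⟩
          exact ⟨s, ⟨mem_preimageAlong.mpr ⟨s.2, h1⟩, hs⟩, rfl⟩
    · have hnor : ∀ U' : Subgroup (S ⧸ N.subgroupOf S), U' ≤ θ.range →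
          normalizerIn S (preimageAlong θ U') = preimageAlong θ (normalizerIn θ.range U') := by
        intro U' hU'
        ext g
        constructor
        · rintro ⟨hgS, hg⟩
          refine mem_preimageAlong.mpr ⟨hgS, ⟨_, rfl⟩, Subgroup.mem_normalizer_iff.mpr fun u => ?_⟩
          obtain ⟨w, rfl⟩ := QuotientGroup.mk'_surjective (N.subgroupOf S) u
          show θ w ∈ U' ↔ θ ⟨g, hgS⟩ * θ w * (θ ⟨g, hgS⟩)⁻¹ ∈ U'
          have h1 := Subgroup.mem_normalizer_iff.mp hg (w : Ω)
          rw [mem_preimageAlong, mem_preimageAlong] at h1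
          constructor
          · intro hw
            obtain ⟨h2, h3⟩ := h1.mp ⟨w.2, hw⟩
            rw [← map_inv, ← map_mul, ← map_mul]
            exact h3
          · intro hw
            obtain ⟨h2, h3⟩ := h1.mpr ⟨S.mul_mem (S.mul_mem hgS w.2) (S.inv_mem hgS), by
              rw [← map_inv, ← map_mul, ← map_mul] at hw; exact hw⟩
            exact h3
        · intro hg
          obtain ⟨hgS, -, hg'⟩ := mem_preimageAlong.mp hg
          have : Finite (preimageAlong θ U') := finite_of_le (preimageAlong_le _)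
          refine ⟨hgS, mem_normalizer_of_forall fun w hw => ?_⟩
          obtain ⟨hwS, hw'⟩ := mem_preimageAlong.mp hw
          refine mem_preimageAlong.mpr ⟨S.mul_mem (S.mul_mem hgS hwS) (S.inv_mem hgS), ?_⟩
          show θ (⟨g, hgS⟩ * ⟨w, hwS⟩ * (⟨g, hgS⟩ : S)⁻¹) ∈ U'
          rw [map_mul, map_mul, map_inv]
          exact (Subgroup.mem_normalizer_iff.mp hg' _).mp hw'
      have hHn : F.IsFullyNormalized (preimageAlong θ H') := by
        refine ⟨preimageAlong_le _, fun R hR => ?_⟩
        obtain ⟨φ, hφ, rfl⟩ := hR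
        obtain ⟨φ₂, hind⟩ := exists_induced hk hA hH'.1 hφ
        have hφ₂ : φ₂ ∈ E.Hom H' := ⟨hH'.1, φ, hφ, hind⟩
        rw [mem_range_induced hk hA hH'.1 hφ hind, hnor _ hH'.1, hnor _ (range_le_S hφ₂), hcard, hcard]
        exact Nat.mul_le_mul_right _ (hH'.2 _ ⟨φ₂, hφ₂, rfl⟩)
      obtain ⟨P, ψ, hψ, hlift⟩ := exists_lift_normalizerHom hE hH'.1 hφ'
      obtain ⟨g, hg, hge⟩ := hc.loc _ hHn (by rw [hcard, hHd, hd', mul_comm]) P ψ hψ
      have hg' : θ ⟨g, normalizerIn_le hg⟩ ∈ normalizerIn θ.range H' :=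
        map_mem_of_mem_preimageAlong ((hnor _ hH'.1).le hg) _
      refine ⟨θ ⟨g, normalizerIn_le hg⟩, hg', fun y => ?_⟩
      · obtain ⟨x, hxS, hψS, hxe, hφe⟩ := hlift y
        rw [← hφe, ← hxe, ← map_inv, ← map_mul, ← map_mul]
        exact congrArg θ (Subtype.ext (hge x))
  have hlt' : Nat.card θ.range < Nat.card S := by
    rw [← hS']
    exact lt_mul_of_one_lt_right Nat.card_pos hcardN
  have hq := ih E d' hlt' hθp (isSaturated_factor hS hF hA hE) hc'
  intro P φ hφ
  obtain ⟨φ', hφ', hP, hφS, hm', e⟩ := exists_map_induced hS hF hA hE hφ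
  obtain ⟨-, v, ⟨v, rfl⟩, hve⟩ := hq _ hφ'
  refine ⟨v, v.2, fun x => ?_⟩
  refine (theta_eq_iff hk ⟨φ x, hφS x⟩ (v * ⟨x, hP x.2⟩ * v⁻¹)).mp ?_
  rw [map_mul, map_mul, map_inv, ← e x, hve]

omit [Finite S] [Fact p.Prime] in
/-- A subgroup of the given order meeting a minimal strongly closed `N` properly has a complementing
strongly closed subgroup. -/
theorem separate {d : ℕ} (hc : Cond F d) {N : Subgroup Ω} (hN : MinSC F N) {Q : Subgroup Ω} (hQS : Q ≤ S)
    (hQd : Nat.card Q = d) (h1 : Q ⊓ N ≠ ⊥) (h2 : Q ⊓ N ≠ N) :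
    ∃ P, F.StronglyClosed P ∧ P ⊓ N = ⊥ ∧ P ≠ ⊥ ∧ N ≤ Q ⊔ P ∧
      F.StronglyClosed (Q ⊔ P) ∧ F.StronglyClosed (Q ⊓ P) := by
  obtain ⟨P, hP, hQP, hQiP⟩ := hc.emb Q hQS hQd
  obtain ⟨hsc, hN1, hmin⟩ := hN
  have hPN : P ⊓ N = ⊥ := by
    rcases hmin _ (sc_inf hP hsc) inf_le_right with h | h
    · exact h
    · rcases hmin _ (sc_inf hQiP hsc) inf_le_right with h' | h' <;>
        rw [inf_assoc, h] at h'
      · exact absurd h' h1
      · exact absurd h' h2
  refine ⟨P, hP, hPN, fun e => ?_, ?_, hQP, hQiP⟩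
  · rw [e, sup_bot_eq] at hQP
    rcases hmin _ (sc_inf hQP hsc) inf_le_right with h' | h'
    · exact h1 h'
    · exact h2 h'
  · rcases hmin _ (sc_inf hQP hsc) inf_le_right with h' | h'
    · exact absurd (le_bot_iff.mp (h' ▸ inf_le_inf_right N le_sup_left)) h1
    · exact h'.ge.trans inf_le_left

/-- Two disjoint minimal strongly closed subgroups, one of them small: the system is inner. -/
theorem le_inner_of_pair (hS : IsPGroup p S) (hF : F.IsSaturated p) {d : ℕ} (hc : Cond F d)
    {N M : Subgroup Ω} (hM : MinSC F M) (hd : N ⊓ M = ⊥) (hNm : InnerMod F N)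
    (hMd : Nat.card M = d) : F ≤ innerFusionSystem S := by
  refine le_inner_of_normal hc (isNormal_of_centre_series hS hF hM.1.1 (StronglyClosed.le_normalizer hM.1)
    fun i _ => ⟨inf_le_left.trans hM.1.1, fun R hR φ hφ x => ?_⟩) hMd
  obtain ⟨s, hs, hse⟩ := hNm R φ hφ
  have hxM : (x : Ω) ∈ M := (hR x.2).1
  have h1 : (φ x)⁻¹ * (s * (x : Ω) * s⁻¹) ∈ M := M.mul_mem (M.inv_mem (hM.1.2 R (hR.trans inf_le_left) φ hφ x))
    ((Subgroup.mem_normalizer_iff.mp (StronglyClosed.le_normalizer hM.1 hs) _).mp hxM)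
  have h2 : φ x = s * (x : Ω) * s⁻¹ := inv_mul_eq_one.mp (Subgroup.mem_bot.mp (hd.le ⟨hse x, h1⟩))
  obtain ⟨-, z, hz, hzx⟩ := hR x.2
  refine ⟨hM.1.2 R (hR.trans inf_le_left) φ hφ x, ⟨s, hs⟩ * z * ⟨s, hs⟩⁻¹,
    Subgroup.Normal.conj_mem inferInstance _ hz _, ?_⟩
  rw [h2, ← hzx]
  rfl

/-- The criterion: the hypothesis makes the system inner. -/
theorem le_inner_of_cond (hS : IsPGroup p S) (hF : F.IsSaturated p) {d : ℕ} (hc : Cond F d) :
    F ≤ innerFusionSystem S := by
  suffices H : ∀ (n : ℕ) {Ω : Type u} [Group Ω] {S : Subgroup Ω} [Finite S] (F : FusionSystem S) (d : ℕ),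
      Nat.card S < n → IsPGroup p S → F.IsSaturated p → Cond F d → F ≤ innerFusionSystem S from
    H _ F d (Nat.lt_succ_self _) hS hF hc
  intro n
  induction n with
  | zero => intro _ _ _ _ F d h; omega
  | succ n ih =>
    intro Ω _ S _ F d hn hS hF hc
    have hIH : ∀ {N : Subgroup Ω}, MinSC F N → Nat.card N < d → InnerMod F N := fun hN hlt =>
      innerMod_of_lt hS hF hc hN hlt fun E e he h1 h2 h3 => ih E e (by omega) h1 h2 h3
    obtain ⟨a, ha⟩ := IsPGroup.iff_card.mp hS
    obtain ⟨k, -, hk⟩ := (Nat.dvd_prime_pow (Fact.out : p.Prime)).mp (ha ▸ hc.dvd)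
    have hpp := (Fact.out : p.Prime)
    have hS1 : S ≠ ⊥ := fun e => by
      have := hc.lt_card; have := hc.one_lt
      rw [e, Subgroup.card_bot] at *; omega
    obtain ⟨N, -, hN⟩ := exists_minSC (F := F) (U := S) ⟨le_rfl, fun R _ φ hφ x => apply_mem_S hφ x⟩ hS1
    have hNle := card_minSC_le hS hc hN
    have hNS := hN.1.1
    have hnN := StronglyClosed.le_normalizer hN.1
    have := finite_of_le hNS
    -- a central element of order `p` in `N`
    obtain ⟨z, hzN, hzc, hzp⟩ : ∃ z : S, (z : Ω) ∈ N ∧ z ∈ Subgroup.center S ∧ orderOf z = p := by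
      have : (N.subgroupOf S).Normal := (Subgroup.normal_subgroupOf_iff_le_normalizer hNS).mpr hnN
      have hne : N.subgroupOf S ≠ ⊥ := by
        rw [Ne, Subgroup.subgroupOf_eq_bot, disjoint_iff, inf_eq_left.mpr hNS]
        exact hN.2.1
      have : Nontrivial S := (Subgroup.nontrivial_iff_ne_bot S).mpr hS1
      have hne' : N.subgroupOf S ⊓ Subgroup.center S ≠ ⊥ := by
        have : Group.IsNilpotent S := hS.isNilpotent
        rw [inf_comm]
        exact CfsgLib.OddOrder.PuigSeries.inf_center_ne_bot _ hne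
      obtain ⟨z, hz⟩ : ∃ z : ↥(N.subgroupOf S ⊓ Subgroup.center S), orderOf z = p := by
        refine exists_prime_orderOf_dvd_card' p ?_
        have : Nontrivial ↥(N.subgroupOf S ⊓ Subgroup.center S) := (Subgroup.nontrivial_iff_ne_bot _).mpr hne'
        obtain ⟨m, hm0, hm⟩ := (hS.to_subgroup (N.subgroupOf S ⊓ Subgroup.center S)).nontrivial_iff_card.mp this
        rw [hm]
        exact dvd_pow_self p hm0.ne'
      exact ⟨z, z.2.1, z.2.2, by rwa [Subgroup.orderOf_coe]⟩
    by_cases hp1 : Nat.card N = p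
    · -- `N` central of order `p`
      have hab : ⁅N, N⁆ = ⊥ := by
        have : IsCyclic N := isCyclic_of_prime_card hp1
        rw [Subgroup.commutator_eq_bot_iff_le_centralizer]
        intro x hx y hy
        let _ := IsCyclic.commGroup (α := N)
        exact congrArg Subtype.val (mul_comm (⟨y, hy⟩ : N) ⟨x, hx⟩)
      rcases hNle.lt_or_eq with hlt | heq
      swap
      · exact le_inner_of_abelian hS hF hc hN.1 hab heq
      have hNz : N ≤ (Subgroup.center S).map S.subtype := by
        have e : Subgroup.zpowers (z : Ω) = N := eq_of_le_of_card_le (Subgroup.zpowers_le.mpr hzN)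
          (by rw [Nat.card_zpowers, Subgroup.orderOf_coe, hzp, hp1])
        rw [← e, Subgroup.zpowers_le]
        exact ⟨z, hzc, rfl⟩
      -- a subgroup of order `d` between `N` and `S` normal in `S`
      have hmod := hIH hN hlt
      obtain ⟨H, hNH, hHS, hHn, hHd⟩ : ∃ H, N ≤ H ∧ H ≤ S ∧ S ≤ Subgroup.normalizer (H : Set Ω) ∧
          Nat.card H = d := by
        have : (N.subgroupOf S).Normal := (Subgroup.normal_subgroupOf_iff_le_normalizer hNS).mpr hnN
        obtain ⟨H, hH, hNH, hHd⟩ := exists_normal_card hS (N.subgroupOf S) (k := k)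
          (by rw [Nat.card_congr (Subgroup.subgroupOfEquivOfLe hNS).toEquiv, ← hk]; exact hNle)
          (hk ▸ hc.lt_card.le)
        refine ⟨H.map S.subtype, ?_, Subgroup.map_subtype_le H, ?_, ?_⟩
        · rw [← Subgroup.map_subgroupOf_eq_of_le hNS]
          exact Subgroup.map_mono hNH
        · intro g hg
          have := finite_of_le (Subgroup.map_subtype_le H)
          refine mem_normalizer_of_forall fun x hx => ?_
          obtain ⟨w, hw, rfl⟩ := hx
          exact ⟨⟨g, hg⟩ * w * ⟨g, hg⟩⁻¹, hH.conj_mem _ hw _, rfl⟩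
        · rw [Subgroup.card_map_of_injective S.subtype_injective, hHd, hk]
      refine le_inner_of_normal hc (isNormal_of_centre_series hS hF hHS hHn fun i hi =>
        stronglyClosed_of_innerMod hmod (inf_le_left.trans hHS) ?_ (le_inf hNH ?_)) hHd
      · intro g hg
        have := finite_of_le (inf_le_left.trans hHS : H ⊓ (Subgroup.upperCentralSeries S i).map S.subtype ≤ S)
        refine mem_normalizer_of_forall fun x hx => ⟨(Subgroup.mem_normalizer_iff.mp (hHn hg) x).mp hx.1, ?_⟩
        obtain ⟨w, hw, hwx⟩ := hx.2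
        exact ⟨⟨g, hg⟩ * w * ⟨g, hg⟩⁻¹, Subgroup.Normal.conj_mem inferInstance _ hw _, by rw [← hwx]; rfl⟩
      · refine hNz.trans (Subgroup.map_mono ?_)
        rw [← Subgroup.upperCentralSeries_one]
        exact Subgroup.upperCentralSeries_mono S hi
    have hpN : p < Nat.card N := by
      obtain ⟨m, hm⟩ := IsPGroup.iff_card.mp (hS.to_le hNS)
      rcases m with _ | _ | m
      · exact absurd (Subgroup.card_eq_one.mp (by rw [hm, pow_zero])) hN.2.1
      · exact absurd (by rw [hm]; simp) hp1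
      · rw [hm]
        exact lt_self_pow₀ hpp.one_lt (by omega)
    -- either the system is inner, or some subgroup of order `d` meets `N` properly
    have hcase : F ≤ innerFusionSystem S ∨
        ∃ Q, Q ≤ S ∧ Nat.card Q = d ∧ Q ⊓ N ≠ ⊥ ∧ Q ⊓ N ≠ N := by
      rcases hNle.lt_or_eq with hlt | heq
      · by_cases hfr : N.subgroupOf S ≤ frattini S
        · left
          have hhyp := hyperfocal_le_of_innerMod hS hN.1 (hIH hN hlt)
          have hT := CfsgLib.FusionNormal.hyperfocal_eq_of_le_frattini hS hF (T' := ⊥) bot_le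
            (((Subgroup.comap_mono hhyp).trans hfr).trans (le_sup_left.trans le_sup_left))
          exact le_inner_of_hyperfocal hS hF fun x hx => Subgroup.mem_bot.mpr
            (congrArg Subtype.val (Subgroup.mem_bot.mp
              (hT.le (show (⟨x, hyperfocal_le F p hx⟩ : S) ∈ (F.hyperfocalSubgroup p).subgroupOf S from hx))))
        · right
          rw [frattini, Order.radical, le_iInf₂_iff] at hfr
          push Not at hfr
          obtain ⟨M, hM, hNM⟩ := hfr
          set X := M.map S.subtype ⊓ N with hX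
          have hMd : d ≤ Nat.card (M.map S.subtype) := by
            rw [Subgroup.card_map_of_injective S.subtype_injective]
            have h1 := Subgroup.card_mul_index M
            rw [CfsgLib.PGroup.index_of_isCoatom hS hM, ha] at h1
            have hka : k < a := (Nat.pow_lt_pow_iff_right hpp.one_lt).mp (hk ▸ ha ▸ hc.lt_card)
            have h2 : p ^ k * p ≤ p ^ a := by
              rw [← pow_succ]; exact Nat.pow_le_pow_right hpp.pos hka
            rw [hk]
            exact Nat.le_of_mul_le_mul_right (h1 ▸ h2) hpp.pos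
          have hXN : X ≠ N := fun e => hNM fun x hx => by
            obtain ⟨m, hm, hmx⟩ := (e.ge (show (x : Ω) ∈ N from hx)).1
            rwa [← S.subtype_injective hmx]
          have hXS : Nat.card X ≤ d := (Subgroup.card_le_of_le inf_le_right).trans hNle
          have := finite_of_le (Subgroup.map_subtype_le M)
          obtain ⟨Q, hXQ, hQM, hQd⟩ := exists_card_between (k := k) (hS.to_le (Subgroup.map_subtype_le M))
            (inf_le_left : X ≤ _) (hk ▸ hXS) (hk ▸ hMd)
          have hQN : Q ⊓ N = X := le_antisymm (inf_le_inf_right N hQM) (le_inf hXQ inf_le_right)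
          refine ⟨Q, hQM.trans (Subgroup.map_subtype_le M), hQd.trans hk.symm, ?_, hQN.symm ▸ hXN⟩
          rw [hQN]
          intro e
          -- otherwise `N` has order `p`
          have hMn := CfsgLib.PGroup.normal_of_isCoatom hS hM
          have hzM : z ∉ M := fun h => by
            have h1 : (z : Ω) ∈ X := ⟨⟨z, h, rfl⟩, hzN⟩
            rw [e, Subgroup.mem_bot] at h1
            have h2 : z = 1 := Subtype.ext h1
            rw [h2, orderOf_one] at hzp
            exact hpp.one_lt.ne hzp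
          have htop : M ⊔ Subgroup.zpowers z = ⊤ := hM.2 _ (lt_of_le_of_ne le_sup_left fun h =>
            hzM (h ▸ Subgroup.mem_sup_right (Subgroup.mem_zpowers z)))
          have hsub : N ≤ Subgroup.zpowers (z : Ω) := fun x hx => by
            obtain ⟨m, hm, w, hw, hmw⟩ := Subgroup.mem_sup_of_normal_left.mp
              (htop.ge (Subgroup.mem_top (⟨x, hNS hx⟩ : S)))
            have hwN : (w : Ω) ∈ N := (Subgroup.zpowers_le (H := N.subgroupOf S)).mpr hzN hw
            have hmN : (m : Ω) ∈ X := ⟨⟨m, hm, rfl⟩, by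
              have := N.mul_mem hx (N.inv_mem hwN)
              rwa [show x = (m : Ω) * w from congrArg Subtype.val hmw.symm, mul_inv_cancel_right] at this⟩
            rw [e, Subgroup.mem_bot] at hmN
            rw [show x = (m : Ω) * w from congrArg Subtype.val hmw.symm, hmN, one_mul]
            obtain ⟨i, rfl⟩ := hw
            exact ⟨i, by simp⟩
          have : Finite (Subgroup.zpowers (z : Ω)) := finite_of_le (Subgroup.zpowers_le.mpr z.2)
          have h3 := Subgroup.card_le_of_le hsub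
          rw [Nat.card_zpowers, Subgroup.orderOf_coe, hzp] at h3
          omega
      · by_cases hab : ⁅N, N⁆ = ⊥
        · exact Or.inl (le_inner_of_abelian hS hF hc hN.1 hab heq)
        right
        obtain ⟨x, hxS, hxN⟩ : ∃ x, x ∈ S ∧ x ∉ N := by
          by_contra h
          push Not at h
          have h1 := hc.lt_card
          rw [le_antisymm hNS h] at heq
          omega
        set C := Subgroup.zpowers (z : Ω) ⊔ Subgroup.zpowers x
        have hCS : C ≤ S := sup_le (Subgroup.zpowers_le.mpr z.2) (Subgroup.zpowers_le.mpr hxS)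
        have hzC : ∀ y ∈ S, Commute (z : Ω) y := fun y hy =>
          (congrArg Subtype.val (Subgroup.mem_center_iff.mp hzc ⟨y, hy⟩)).symm
        have := finite_of_le hCS
        have key : ∀ Q : Subgroup Ω, Q ≤ S → Nat.card Q = d → (z : Ω) ∈ Q → Q ≠ N →
            ∃ Q, Q ≤ S ∧ Nat.card Q = d ∧ Q ⊓ N ≠ ⊥ ∧ Q ⊓ N ≠ N := by
          intro Q hQS hQd hzQ hne
          refine ⟨Q, hQS, hQd, fun e => ?_, fun e => hne ?_⟩
          · have h2 : z = 1 := Subtype.ext (Subgroup.mem_bot.mp (e.le ⟨hzQ, hzN⟩))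
            rw [h2, orderOf_one] at hzp
            exact hpp.one_lt.ne hzp
          · have := finite_of_le hQS
            exact (eq_of_le_of_card_le (inf_eq_right.mp e) (le_of_eq (hQd.trans heq.symm))).symm
        rcases le_total (Nat.card C) d with hC | hC
        · obtain ⟨Q, hCQ, hQS, hQd⟩ := exists_card_between (k := k) hS hCS (hk ▸ hC) (hk ▸ hc.lt_card.le)
          exact key Q hQS (hQd.trans hk.symm) (hCQ (Subgroup.mem_sup_left (Subgroup.mem_zpowers _)))
            fun e => hxN (e ▸ hCQ (Subgroup.mem_sup_right (Subgroup.mem_zpowers _)))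
        · obtain ⟨Q, hzQ, hQC, hQd⟩ := exists_card_between (k := k) (hS.to_le hCS)
            (le_sup_left : Subgroup.zpowers (z : Ω) ≤ C) (by
              rw [Nat.card_zpowers, Subgroup.orderOf_coe, hzp, ← hk]
              exact hpN.le.trans hNle) (hk ▸ hC)
          refine key Q (hQC.trans hCS) (hQd.trans hk.symm) (hzQ (Subgroup.mem_zpowers _)) fun e => hab ?_
          rw [Subgroup.commutator_eq_bot_iff_le_centralizer]
          have hCC : C ≤ Subgroup.centralizer (C : Set Ω) := by
            refine sup_le ?_ ?_ <;> rw [Subgroup.zpowers_le]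
            · exact fun y hy => (hzC y (hCS hy)).symm.eq
            · intro y hy
              refine (Subgroup.mem_centralizer_iff.mp ?_ x (Set.mem_singleton x)).symm
              refine (sup_le ?_ ?_ : C ≤ Subgroup.centralizer {x}) hy <;> rw [Subgroup.zpowers_le]
              · intro w hw
                rw [Set.mem_singleton_iff.mp hw]
                exact (hzC x hxS).symm.eq
              · intro w hw
                rw [Set.mem_singleton_iff.mp hw]
          rw [e] at hQC
          exact hQC.trans (hCC.trans (Subgroup.centralizer_le hQC))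
    rcases hcase with h | ⟨Q, hQS, hQd, hQ1, hQ2⟩
    · exact h
    obtain ⟨P, hP, hPN, hP1, -, -, -⟩ := separate hc hN hQS hQd hQ1 hQ2
    obtain ⟨M, hMP, hM⟩ := exists_minSC hP hP1
    have hNM : N ⊓ M = ⊥ := le_bot_iff.mp (hPN ▸ le_inf (inf_le_right.trans hMP) inf_le_left)
    have hMle := card_minSC_le hS hc hM
    rcases hNle.lt_or_eq with hlt | heq
    · rcases hMle.lt_or_eq with hlt' | heq'
      · exact le_inner_of_hyperfocal hS hF fun x hx => hNM.le
          ⟨hyperfocal_le_of_innerMod hS hN.1 (hIH hN hlt) hx,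
            hyperfocal_le_of_innerMod hS hM.1 (hIH hM hlt') hx⟩
      · exact le_inner_of_pair hS hF hc hM hNM (hIH hN hlt) heq'
    rcases hMle.lt_or_eq with hlt' | heq'
    · exact le_inner_of_pair hS hF hc hN (inf_comm N M ▸ hNM) (hIH hM hlt') heq
    -- both have order `d`
    by_cases hab : ⁅N, N⁆ = ⊥
    · exact le_inner_of_abelian hS hF hc hN.1 hab heq
    exfalso
    have hMS := hM.1.1
    have := finite_of_le hMS
    have hnM := StronglyClosed.le_normalizer hM.1
    have hcomm : ∀ A B : Subgroup Ω, A ≤ S → B ≤ S → S ≤ Subgroup.normalizer (A : Set Ω) →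
        S ≤ Subgroup.normalizer (B : Set Ω) → A ⊓ B = ⊥ → A ≤ Subgroup.centralizer (B : Set Ω) := by
      intro A B hA hB hnA hnB hAB a ha b hb
      have h1 : a * b * a⁻¹ * b⁻¹ ∈ A := by
        have h2 := (Subgroup.mem_normalizer_iff.mp (hnA (hB hb)) a⁻¹).mp (A.inv_mem ha)
        have := A.mul_mem ha h2
        simpa [mul_assoc] using this
      have h2 : a * b * a⁻¹ * b⁻¹ ∈ B :=
        B.mul_mem ((Subgroup.mem_normalizer_iff.mp (hnB (hA ha)) b).mp hb) (B.inv_mem hb)
      have h3 := Subgroup.mem_bot.mp (hAB.le ⟨h1, h2⟩)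
      exact (mul_inv_eq_iff_eq_mul.mp (mul_inv_eq_one.mp h3)).symm
    have hMN : M ≤ Subgroup.centralizer (N : Set Ω) :=
      hcomm M N hMS hNS hnM hnN (inf_comm N M ▸ hNM)
    -- a subgroup of index `p` in `N` times a subgroup of order `p` of `M`
    obtain ⟨j, hj⟩ := IsPGroup.iff_card.mp (hS.to_le hNS)
    obtain ⟨i, rfl⟩ : ∃ i, j = i + 1 := ⟨j - 1, by
      rcases j with _ | j
      · rw [pow_zero] at hj; exact absurd (Subgroup.card_eq_one.mp hj) hN.2.1
      · omega⟩
    have hi : 0 < i := by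
      by_contra h
      obtain rfl : i = 0 := by omega
      rw [zero_add, pow_one] at hj
      omega
    have hjM : Nat.card M = p ^ (i + 1) := heq'.trans (heq.symm.trans hj)
    obtain ⟨X, -, hXN, hXc⟩ := exists_card_between (hS.to_le hNS) (bot_le (a := N)) (k := i)
      (by rw [Subgroup.card_bot]; exact Nat.one_le_pow _ _ hpp.pos)
      (by rw [hj]; exact Nat.pow_le_pow_right hpp.pos (by omega))
    obtain ⟨Y, -, hYM, hYc⟩ := exists_card_between (hS.to_le hMS) (bot_le (a := M)) (k := 1)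
      (by rw [Subgroup.card_bot]; exact Nat.one_le_pow _ _ hpp.pos)
      (by rw [hjM]; exact Nat.pow_le_pow_right hpp.pos (by omega))
    rw [pow_one] at hYc
    have hYX : Y ≤ Subgroup.normalizer (X : Set Ω) :=
      (hYM.trans (hMN.trans (Subgroup.centralizer_le hXN))).trans (Subgroup.centralizer_le_normalizer _)
    set Q₂ := Y ⊔ X
    have hQ₂c : Nat.card Q₂ = d := by
      have h1 := CfsgLib.Coprime.card_sup_mul_card_inf hYX
      rw [le_bot_iff.mp ((inf_le_inf hXN hYM).trans hNM.le), Subgroup.card_bot, mul_one, hXc, hYc] at h1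
      rw [h1, ← heq, hj, pow_succ, mul_comm]
    have hX1 : X ≠ ⊥ := fun e => by
      rw [e, Subgroup.card_bot] at hXc
      exact (Nat.one_lt_pow hi.ne' hpp.one_lt).ne hXc
    have hQN : Q₂ ⊓ N = X := by
      refine le_antisymm ?_ (le_inf le_sup_right hXN)
      rintro w ⟨hw, hwN⟩
      obtain ⟨y, hy, x, hx, rfl⟩ := CfsgLib.Coprime.exists_mul_of_mem_sup hYX hw
      have hyN : y ∈ N := by simpa using N.mul_mem hwN (N.inv_mem (hXN hx))
      rw [Subgroup.mem_bot.mp (hNM.le ⟨hyN, hYM hy⟩), one_mul]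
      exact hx
    have hQM : Q₂ ⊓ M = Y := by
      refine le_antisymm ?_ (le_inf le_sup_left hYM)
      rintro w ⟨hw, hwM⟩
      obtain ⟨y, hy, x, hx, rfl⟩ := CfsgLib.Coprime.exists_mul_of_mem_sup hYX hw
      have hxM : x ∈ M := by simpa using M.mul_mem (M.inv_mem (hYM hy)) hwM
      rw [Subgroup.mem_bot.mp (hNM.le ⟨hXN hx, hxM⟩), mul_one]
      exact hy
    have hQ₂S : Q₂ ≤ S := sup_le (hYM.trans hMS) (hXN.trans hNS)
    obtain ⟨P₂, hP₂, hPN₂, -, hNQP, hQP, hQiP⟩ := separate hc hN hQ₂S hQ₂c (hQN.symm ▸ hX1) (by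
      rw [hQN]; intro e; rw [e, hj] at hXc
      exact absurd (Nat.pow_right_injective hpp.two_le hXc) (by omega))
    have hPM₂ : P₂ ⊓ M = ⊥ := by
      rcases hM.2.2 _ (sc_inf hP₂ hM.1) inf_le_right with h | h
      · exact h
      · exfalso
        rcases hM.2.2 _ (sc_inf hQiP hM.1) inf_le_right with h' | h' <;> rw [inf_assoc, h, hQM] at h'
        · rw [h', Subgroup.card_bot] at hYc; exact hpp.one_lt.ne hYc
        · rw [h', hjM] at hYc; omega
    have hMQP : M ≤ Q₂ ⊔ P₂ := by
      rcases hM.2.2 _ (sc_inf hQP hM.1) inf_le_right with h' | h'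
      · have : Y ≤ ⊥ := h' ▸ le_inf (le_sup_left.trans le_sup_left) hYM
        rw [le_bot_iff.mp this, Subgroup.card_bot] at hYc
        exact absurd hYc hpp.one_lt.ne
      · exact h'.ge.trans inf_le_left
    set W := M ⊔ N
    have hWS : W ≤ S := sup_le hMS hNS
    have := finite_of_le hWS
    have hW : Nat.card W = d * d := by
      have h1 := CfsgLib.Coprime.card_sup_mul_card_inf (hMS.trans hnN)
      rwa [hNM, Subgroup.card_bot, mul_one, heq, heq'] at h1
    set D := W ⊓ P₂
    have hD : d ≤ Nat.card D := by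
      have hQW : Q₂ ≤ W := sup_le (hYM.trans le_sup_left) (hXN.trans le_sup_right)
      have hQn : Q₂ ≤ Subgroup.normalizer (D : Set Ω) := by
        intro g hg
        have := finite_of_le (inf_le_left.trans hWS : D ≤ S)
        refine mem_normalizer_of_forall fun w hw => ⟨W.mul_mem (W.mul_mem (hQW hg) hw.1) (W.inv_mem (hQW hg)),
          (Subgroup.mem_normalizer_iff.mp (StronglyClosed.le_normalizer hP₂ (hQ₂S hg)) w).mp hw.2⟩
      have hWle : W ≤ Q₂ ⊔ D := by
        intro w hw
        obtain ⟨q, hq, x, hx, rfl⟩ := CfsgLib.Coprime.exists_mul_of_mem_sup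
          (hQ₂S.trans (StronglyClosed.le_normalizer hP₂)) ((sup_le hMQP hNQP : W ≤ _) hw)
        have hxW : x ∈ W := by simpa using W.mul_mem (W.inv_mem (hQW hq)) hw
        exact Subgroup.mul_mem _ (Subgroup.mem_sup_left hq) (Subgroup.mem_sup_right ⟨hxW, hx⟩)
      have := finite_of_le (sup_le hQ₂S (inf_le_left.trans hWS) : Q₂ ⊔ D ≤ S)
      have h1 := CfsgLib.Coprime.card_sup_dvd hQn
      rw [hQ₂c] at h1
      have : Finite D := finite_of_le (inf_le_left.trans hWS : D ≤ S)
      have h2 := (Subgroup.card_le_of_le hWle).trans (Nat.le_of_dvd (Nat.mul_pos (by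
        have := hc.one_lt; omega) Nat.card_pos) h1)
      rw [hW] at h2
      exact Nat.le_of_mul_le_mul_left h2 (by have := hc.one_lt; omega)
    have hDS : D ≤ S := inf_le_left.trans hWS
    have hDN : D ≤ Subgroup.centralizer (N : Set Ω) :=
      inf_le_right.trans (hcomm P₂ N hP₂.1 hNS (StronglyClosed.le_normalizer hP₂) hnN hPN₂)
    have hDW : D ⊔ M = W := by
      refine eq_of_le_of_card_le (sup_le inf_le_left le_sup_left) ?_
      have h1 := CfsgLib.Coprime.card_sup_mul_card_inf (hDS.trans hnM)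
      rw [le_bot_iff.mp (le_inf (inf_le_right.trans inf_le_right) inf_le_left |>.trans hPM₂.le),
        Subgroup.card_bot, mul_one, heq'] at h1
      rw [h1, hW]
      exact Nat.mul_le_mul_right d hD
    refine hab ?_
    rw [Subgroup.commutator_eq_bot_iff_le_centralizer]
    exact (le_sup_right.trans hDW.ge).trans (sup_le hDN hMN)

end CfsgLib.FusionEmbeddedInner
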