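import Cfsg.Agent.Lib.Fusion.PEmbedded
import Cfsg.Agent.Classical.SLGen
import Cfsg.Agent.Lib.PCore.Basic

/-!
Automorphism groups of a group of order `p²` without a normal `p`-subgroup contain `SL(2, p)`.
-/

set_option autoImplicit false

namespace CfsgLib.FusionSmall

open Matrix (SpecialLinearGroup)
open scoped Matrix MatrixGroups

variable {p : ℕ} [hp : Fact p.Prime] {K : Type*} [Group K] [Finite K]

/-- An automorphism of order `p` of a group of order `p²` fixes exactly one line and all its cosets. -/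
theorem exists_line (hK : Nat.card K = p ^ 2) {u : MulAut K} (hu : u ^ p = 1) (hu1 : u ≠ 1) :
    ∃ x : K, x ≠ 1 ∧ x ^ p = 1 ∧ u x = x ∧ (∀ h, u h = h → h ∈ Subgroup.zpowers x) ∧
      ∀ h, h⁻¹ * u h ∈ Subgroup.zpowers x := by
  have hcomm := IsPGroup.commutative_of_card_eq_prime_sq hK
  have hp' : p.Prime := hp.out
  let X : Subgroup K := MonoidHom.eqLocus u.toMonoidHom (MonoidHom.id K)
  have hup : IsPGroup p (Subgroup.zpowers u) := by
    refine IsPGroup.of_card (n := 1) ?_
    rw [Nat.card_zpowers, orderOf_eq_prime hu hu1, pow_one]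
  obtain ⟨z, hz, hz1⟩ := hup.exists_fixed_point_of_prime_dvd_card_of_fixed_point K
    (hK ▸ dvd_pow_self p two_ne_zero) (a := 1) fun g => map_one (g : MulAut K)
  have hzX : z ∈ X := hz ⟨u, Subgroup.mem_zpowers u⟩
  have hXt : X ≠ ⊤ := fun h => hu1 (MulEquiv.ext fun k => (h.ge (Subgroup.mem_top k) : k ∈ X))
  obtain ⟨i, hi, hXc⟩ := (Nat.dvd_prime_pow hp').mp (hK ▸ Subgroup.card_subgroup_dvd_card X)
  have hX : Nat.card X = p := by
    interval_cases i
    · rw [pow_zero] at hXc
      exact absurd ((Subgroup.card_eq_one.mp hXc).le hzX) (fun h => hz1 (Subgroup.mem_bot.mp h).symm)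
    · rw [hXc, pow_one]
    · exact absurd (Subgroup.eq_top_of_card_eq X (hXc.trans hK.symm)) hXt
  have hzpow : ∀ w ∈ X, w ^ p = 1 := fun w hw => by
    have h := congrArg Subtype.val (pow_card_eq_one' (G := X) (x := ⟨w, hw⟩))
    rw [hX] at h
    exact h
  have hXz : X = Subgroup.zpowers z := by
    refine (Subgroup.eq_of_le_of_card_ge (Subgroup.zpowers_le.mpr hzX) ?_).symm
    rw [hX, Nat.card_zpowers, orderOf_eq_prime (hzpow z hzX) (Ne.symm hz1)]
  refine ⟨z, Ne.symm hz1, hzpow z hzX, hzX, fun h hh => hXz.le hh, fun h => hXz.le ?_⟩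
  -- the commutator map
  let c : K →* K :=
    { toFun := fun k => k⁻¹ * u k
      map_one' := by simp
      map_mul' := fun a b => by
        rw [map_mul, mul_inv_rev, hcomm b⁻¹ a⁻¹]
        calc a⁻¹ * b⁻¹ * (u a * u b) = a⁻¹ * (b⁻¹ * u a) * u b := by group
          _ = a⁻¹ * (u a * b⁻¹) * u b := by rw [hcomm b⁻¹]
          _ = _ := by group }
  have hcker : c.ker = X := by
    ext k
    show k⁻¹ * u k = 1 ↔ u k = k
    rw [inv_mul_eq_one, eq_comm]
  have hR : Nat.card c.range = p := by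
    rw [← Subgroup.index_ker, hcker]
    have h1 := X.card_mul_index
    rw [hX, hK, pow_two] at h1
    exact Nat.eq_of_mul_eq_mul_left hp'.pos h1
  have : Fact (Nat.card c.range).Prime := ⟨hR ▸ hp'⟩
  obtain ⟨r, hr⟩ := (isCyclic_of_prime_card hR).exists_generator
  obtain ⟨r₀, hr₀⟩ := r.2
  have hur : u (r : K) ∈ c.range := ⟨u r₀, by
    show (u r₀)⁻¹ * u (u r₀) = u r
    rw [← hr₀, ← map_inv, ← map_mul]; rfl⟩
  obtain ⟨k, hk⟩ := Subgroup.mem_zpowers_iff.mp (hr ⟨_, hur⟩)
  have hk' : (r : K) ^ k = u r := congrArg Subtype.val hk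
  have hpow : ∀ n : ℕ, (u ^ n) (r : K) = (r : K) ^ (k ^ n) := by
    intro n
    induction n with
    | zero => simp
    | succ n ih => rw [pow_succ', MulAut.mul_apply, ih, map_zpow, ← hk', ← zpow_mul, pow_succ']
  have hfix : u (r : K) = r := by
    have h1 := hpow p
    rw [hu, MulAut.one_apply] at h1
    have h2 : ((k ^ p : ℤ) : ZMod p) = (k : ZMod p) := by push_cast; rw [ZMod.pow_card]
    have h3 : (r : K) ^ (p : ℤ) = 1 := by
      rw [zpow_natCast]
      have := congrArg Subtype.val (pow_card_eq_one' (G := c.range) (x := r))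
      rw [hR] at this
      exact this
    obtain ⟨m, hm⟩ := (ZMod.intCast_eq_intCast_iff_dvd_sub _ _ p).mp h2
    rw [← hk', show k = k ^ p + (p : ℤ) * m by rw [← hm]; ring, zpow_add, zpow_mul, h3, one_zpow, mul_one,
      ← h1]
  obtain ⟨n, hn⟩ := Subgroup.mem_zpowers_iff.mp (hr ⟨c h, h, rfl⟩)
  have hn' : (r : K) ^ n = h⁻¹ * u h := congrArg Subtype.val hn
  show u (h⁻¹ * u h) = h⁻¹ * u h
  rw [← hn', map_zpow, hfix]

/-- Integer powers of an element of exponent `p`, indexed by `ZMod p`. -/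
theorem pow_val_add {x : K} (hx : x ^ p = 1) (a b : ZMod p) :
    x ^ (a + b).val = x ^ a.val * x ^ b.val := by
  rw [← pow_add, pow_eq_pow_mod (a.val + b.val) hx, ZMod.val_add]

theorem pow_val_natCast {x : K} (hx : x ^ p = 1) (n : ℕ) : x ^ (n : ZMod p).val = x ^ n := by
  rw [ZMod.val_natCast, ← pow_eq_pow_mod n hx]

theorem pow_val_mul {x : K} (hx : x ^ p = 1) (a b : ZMod p) : x ^ (a * b).val = (x ^ a.val) ^ b.val := by
  rw [← pow_mul, pow_eq_pow_mod (a.val * b.val) hx, ZMod.val_mul]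

omit hp [Finite K] in
theorem aut_pow {w : MulAut K} {x y z : K} (hwz : w z = z) (hwy : w y = y * z) (hx : w x = x) (n : ℕ) :
    (w ^ n) y = y * z ^ n ∧ (w ^ n) x = x := by
  induction n with
  | zero => simp
  | succ n ih =>
    rw [pow_succ', MulAut.mul_apply, MulAut.mul_apply, ih.1, ih.2, map_mul, map_pow, hwy, hwz, hx,
      mul_assoc, ← pow_succ']
    exact ⟨rfl, rfl⟩

/-- Coordinates of a group of order `p²` along two independent elements, and the action of `SL(2, p)`. -/
theorem exists_sl2_action (hK : Nat.card K = p ^ 2) {x y : K} (hx : x ^ p = 1) (hy : y ^ p = 1)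
    (hx1 : x ≠ 1) (hy' : y ∉ Subgroup.zpowers x) :
    (∀ k : K, k ^ p = 1) ∧ ∃ ψ : SL(2, ZMod p) →* MulAut K, Function.Injective ψ ∧
      (∀ w : MulAut K, ∀ a : ZMod p, w x = x → w y = y * x ^ a.val →
        ψ (SpecialLinearGroup.transvection (i := (0 : Fin 2)) (j := 1) (by decide) a) = w) ∧
      ∀ w : MulAut K, ∀ a : ZMod p, w y = y → w x = x * y ^ a.val →
        ψ (SpecialLinearGroup.transvection (i := (1 : Fin 2)) (j := 0) (by decide) a) = w := by
  have hcomm := IsPGroup.commutative_of_card_eq_prime_sq hK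
  let f : Multiplicative (Fin 2 → ZMod p) →* K :=
    { toFun := fun c => x ^ (c.toAdd 0).val * y ^ (c.toAdd 1).val
      map_one' := by simp
      map_mul' := fun c d => by
        rw [toAdd_mul, Pi.add_apply, Pi.add_apply, pow_val_add hx, pow_val_add hy]
        calc x ^ (c.toAdd 0).val * x ^ (d.toAdd 0).val * (y ^ (c.toAdd 1).val * y ^ (d.toAdd 1).val)
            = x ^ (c.toAdd 0).val * (x ^ (d.toAdd 0).val * y ^ (c.toAdd 1).val) * y ^ (d.toAdd 1).val := by group
          _ = x ^ (c.toAdd 0).val * (y ^ (c.toAdd 1).val * x ^ (d.toAdd 0).val) * y ^ (d.toAdd 1).val := by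
            rw [hcomm (x ^ (d.toAdd 0).val)]
          _ = _ := by group }
  have hinj : Function.Injective f := by
    rw [injective_iff_map_eq_one]
    intro c hc
    have hc' : x ^ (c.toAdd 0).val * y ^ (c.toAdd 1).val = 1 := hc
    have h1 : c.toAdd 1 = 0 := by
      by_contra hne
      refine hy' ?_
      have hmem : y ^ (c.toAdd 1).val ∈ Subgroup.zpowers x := by
        rw [eq_inv_of_mul_eq_one_right hc']
        exact Subgroup.inv_mem _ (Subgroup.pow_mem _ (Subgroup.mem_zpowers x) _)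
      have := Subgroup.pow_mem _ hmem (c.toAdd 1)⁻¹.val
      rwa [← pow_val_mul hy, mul_inv_cancel₀ hne, ZMod.val_one, pow_one] at this
    rw [h1, ZMod.val_zero, pow_zero, mul_one] at hc'
    have h0 : c.toAdd 0 = 0 := by
      by_contra hne
      refine hx1 ?_
      have := congrArg (· ^ (c.toAdd 0)⁻¹.val) hc'
      simp only [one_pow] at this
      rwa [← pow_val_mul hx, mul_inv_cancel₀ hne, ZMod.val_one, pow_one] at this
    refine Multiplicative.toAdd.injective (funext fun i => ?_)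
    fin_cases i
    · exact h0
    · exact h1
  have hbij : Function.Bijective f := by
    rw [Nat.bijective_iff_injective_and_card]
    refine ⟨hinj, ?_⟩
    rw [hK, Nat.card_congr Multiplicative.toAdd, Nat.card_fun, Nat.card_zmod, Nat.card_fin]
  let e : Multiplicative (Fin 2 → ZMod p) ≃* K := MulEquiv.ofBijective f hbij
  let lin : SL(2, ZMod p) → MulAut (Multiplicative (Fin 2 → ZMod p)) := fun m =>
    { toFun := fun c => Multiplicative.ofAdd ((m : Matrix (Fin 2) (Fin 2) (ZMod p)) *ᵥ c.toAdd)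
      invFun := fun c => Multiplicative.ofAdd (((m⁻¹ : SL(2, ZMod p)) : Matrix (Fin 2) (Fin 2) (ZMod p)) *ᵥ c.toAdd)
      left_inv := fun c => by
        show Multiplicative.ofAdd _ = c
        rw [toAdd_ofAdd, Matrix.mulVec_mulVec, ← Matrix.SpecialLinearGroup.coe_mul, inv_mul_cancel]
        simp
      right_inv := fun c => by
        show Multiplicative.ofAdd _ = c
        rw [toAdd_ofAdd, Matrix.mulVec_mulVec, ← Matrix.SpecialLinearGroup.coe_mul, mul_inv_cancel]
        simp
      map_mul' := fun c d => by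
        show Multiplicative.ofAdd _ = _
        rw [toAdd_mul, Matrix.mulVec_add]; rfl }
  let ψ : SL(2, ZMod p) →* MulAut K :=
    { toFun := fun m => MulAut.congr e (lin m)
      map_one' := by
        refine MulEquiv.ext fun k => ?_
        show e (Multiplicative.ofAdd (((1 : SL(2, ZMod p)) : Matrix (Fin 2) (Fin 2) (ZMod p)) *ᵥ (e.symm k).toAdd)) = k
        rw [Matrix.SpecialLinearGroup.coe_one, Matrix.one_mulVec, ofAdd_toAdd, MulEquiv.apply_symm_apply]
      map_mul' := fun m n => by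
        refine MulEquiv.ext fun k => ?_
        show e (Multiplicative.ofAdd (((m * n : SL(2, ZMod p)) : Matrix (Fin 2) (Fin 2) (ZMod p)) *ᵥ (e.symm k).toAdd)) =
          e (Multiplicative.ofAdd ((m : Matrix (Fin 2) (Fin 2) (ZMod p)) *ᵥ (e.symm (e (Multiplicative.ofAdd
            ((n : Matrix (Fin 2) (Fin 2) (ZMod p)) *ᵥ (e.symm k).toAdd)))).toAdd))
        rw [MulEquiv.symm_apply_apply, toAdd_ofAdd, Matrix.mulVec_mulVec, Matrix.SpecialLinearGroup.coe_mul] }
  have he : ∀ m c, ψ m (e c) = e (Multiplicative.ofAdd ((m : Matrix (Fin 2) (Fin 2) (ZMod p)) *ᵥ c.toAdd)) := by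
    intro m c
    simp [ψ, lin, MulAut.congr]
  refine ⟨fun k => ?_, ψ, fun m n hmn => Subtype.ext ?_, fun w a hwx hwy => MulEquiv.ext fun k => ?_,
    fun w a hwy hwx => MulEquiv.ext fun k => ?_⟩
  · obtain ⟨c, rfl⟩ := e.surjective k
    show (x ^ (c.toAdd 0).val * y ^ (c.toAdd 1).val) ^ p = 1
    rw [(show Commute (x ^ (c.toAdd 0).val) (y ^ (c.toAdd 1).val) from hcomm _ _).mul_pow, ← pow_mul, ← pow_mul,
      mul_comm _ p, mul_comm _ p, pow_mul, pow_mul, hx, hy, one_pow, one_pow, mul_one]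
  · refine Matrix.toLin'.injective (LinearMap.ext fun v => ?_)
    have := congrArg (fun t => t (e (Multiplicative.ofAdd v))) hmn
    simp only [he] at this
    simpa [Matrix.toLin'_apply] using Multiplicative.ofAdd.injective (e.injective this)
  · obtain ⟨c, rfl⟩ := e.surjective k
    rw [he]
    show x ^ _ * y ^ _ = w (x ^ (c.toAdd 0).val * y ^ (c.toAdd 1).val)
    rw [map_mul, map_pow, map_pow, hwx, hwy, (show Commute y (x ^ a.val) from hcomm _ _).mul_pow,
      ← pow_val_mul hx]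
    simp only [toAdd_ofAdd, SpecialLinearGroup.transvection_coe, Matrix.add_mulVec, Matrix.one_mulVec,
      Pi.add_apply]
    rw [show (Matrix.single (0 : Fin 2) (1 : Fin 2) a *ᵥ c.toAdd) 0 = a * c.toAdd 1 by simp,
      show (Matrix.single (0 : Fin 2) (1 : Fin 2) a *ᵥ c.toAdd) 1 = 0 by simp, add_zero, pow_val_add hx,
      hcomm (y ^ (c.toAdd 1).val), mul_assoc]
  · obtain ⟨c, rfl⟩ := e.surjective k
    rw [he]
    show x ^ _ * y ^ _ = w (x ^ (c.toAdd 0).val * y ^ (c.toAdd 1).val)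
    rw [map_mul, map_pow, map_pow, hwx, hwy, (show Commute x (y ^ a.val) from hcomm _ _).mul_pow,
      ← pow_val_mul hy]
    simp only [toAdd_ofAdd, SpecialLinearGroup.transvection_coe, Matrix.add_mulVec, Matrix.one_mulVec,
      Pi.add_apply]
    rw [show (Matrix.single (1 : Fin 2) (0 : Fin 2) a *ᵥ c.toAdd) 1 = a * c.toAdd 0 by simp,
      show (Matrix.single (1 : Fin 2) (0 : Fin 2) a *ᵥ c.toAdd) 0 = 0 by simp, add_zero, pow_val_add hy,
      mul_assoc, hcomm (y ^ (c.toAdd 1).val)]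

/-- Without a normal `p`-subgroup, automorphisms of a group of order `p²` of order divisible by `p`
contain `SL(2, p)`, and the group is elementary abelian. -/
theorem sl2_of_pCore_eq_bot (hK : Nat.card K = p ^ 2) (A : Subgroup (MulAut K)) (hd : p ∣ Nat.card A)
    (hA : Cfsg.pCore p A = ⊥) :
    (∀ k : K, k ^ p = 1) ∧
      ∃ L : Subgroup A, Nonempty (L ≃* Matrix.SpecialLinearGroup (Fin 2) (ZMod p)) := by
  have : Finite (MulAut K) := Finite.of_injective (fun f : MulAut K => (f : K → K)) DFunLike.coe_injective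
  have hcomm := IsPGroup.commutative_of_card_eq_prime_sq hK
  have hp' : p.Prime := hp.out
  obtain ⟨⟨u, huA⟩, hu⟩ := exists_prime_orderOf_dvd_card' p hd
  rw [Subgroup.orderOf_mk] at hu
  have hup : u ^ p = 1 := hu ▸ pow_orderOf_eq_one u
  have hu1 : u ≠ 1 := fun h => hp'.ne_one (hu.symm.trans (h ▸ orderOf_one))
  obtain ⟨x, hx1, hx, hux, hfix, hcom⟩ := exists_line hK hup hu1
  obtain ⟨g, hgA, hgx⟩ : ∃ g ∈ A, g x ∉ Subgroup.zpowers x := by
    by_contra hall
    push Not at hall
    have hX : ∀ g ∈ A, ∀ h ∈ Subgroup.zpowers x, g h ∈ Subgroup.zpowers x := by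
      rintro g hg _ ⟨n, rfl⟩
      rw [map_zpow]
      exact Subgroup.zpow_mem _ (hall g hg) n
    let N : Subgroup A :=
      { carrier := {a | (a : MulAut K) x = x ∧ ∀ h, h⁻¹ * (a : MulAut K) h ∈ Subgroup.zpowers x}
        one_mem' := ⟨rfl, fun h => by simp⟩
        mul_mem' := fun {a b} ha hb => ⟨by rw [Subgroup.coe_mul, MulAut.mul_apply, hb.1, ha.1], fun h => by
          have h1 := Subgroup.mul_mem _ (hb.2 h) (ha.2 ((b : MulAut K) h))
          rwa [mul_assoc, mul_inv_cancel_left] at h1⟩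
        inv_mem' := fun {a} ha => ⟨by
          have e := congrArg ((a : MulAut K)⁻¹ : MulAut K) ha.1
          rw [MulAut.inv_apply_self] at e
          exact e.symm, fun h => by
          have h1 := Subgroup.inv_mem _ (ha.2 ((a : MulAut K)⁻¹ h))
          rwa [MulAut.apply_inv_self, mul_inv_rev, inv_inv] at h1⟩ }
    have hN : N.Normal := ⟨fun a ha g => by
      refine ⟨?_, fun h => ?_⟩
      · obtain ⟨n, hn⟩ := hX _ (A.inv_mem g.2) x (Subgroup.mem_zpowers x)
        show (g : MulAut K) ((a : MulAut K) ((g : MulAut K)⁻¹ x)) = x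
        rw [← show x ^ n = (g : MulAut K)⁻¹ x from hn, map_zpow, ha.1,
          show x ^ n = (g : MulAut K)⁻¹ x from hn, MulAut.apply_inv_self]
      · have h1 := hX _ g.2 _ (ha.2 ((g : MulAut K)⁻¹ h))
        rwa [map_mul, map_inv, MulAut.apply_inv_self] at h1⟩
    have hNp : IsPGroup p N := fun a => ⟨1, by
      refine Subtype.ext (Subtype.ext (MulEquiv.ext fun h => ?_))
      obtain ⟨n, hn⟩ := a.2.2 h
      have hn' : x ^ n = h⁻¹ * ((a : A) : MulAut K) h := hn
      have e := (aut_pow (w := ((a : A) : MulAut K)) (x := x) (y := h) (z := x ^ n)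
        (by rw [map_zpow, a.2.1]) (by rw [hn', mul_inv_cancel_left]) a.2.1 p).1
      rw [← zpow_natCast (x ^ n), ← zpow_mul, mul_comm n, zpow_mul, zpow_natCast, hx, one_zpow, mul_one] at e
      simpa using e⟩
    have hle : N ≤ ⊥ := hA ▸ CfsgLib.PCore.le_pCore hN hNp
    have huN : (⟨u, huA⟩ : A) ∈ N := ⟨hux, hcom⟩
    exact hu1 (congrArg Subtype.val (Subgroup.mem_bot.mp (hle huN)))
  -- the second line
  set y := g x with hydef
  have hy : y ^ p = 1 := by rw [hydef, ← map_pow, hx, map_one]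
  obtain ⟨hall, ψ, hψ, hψu, hψl⟩ := exists_sl2_action hK hx hy hx1 hgx
  have hxy : x ∉ Subgroup.zpowers y := by
    intro h
    obtain ⟨n, hn⟩ := h
    have hn' : y ^ n = x := hn
    clear hn
    have hc : IsCoprime n (p : ℤ) := by
      rw [Int.isCoprime_iff_nat_coprime, Int.natAbs_natCast, Nat.coprime_comm, hp'.coprime_iff_not_dvd,
        ← Int.natCast_dvd]
      rintro ⟨m, rfl⟩
      rw [zpow_mul, zpow_natCast, hy, one_zpow] at hn'
      exact hx1 hn'.symm
    obtain ⟨a, b, hab⟩ := hc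
    refine hgx ⟨a, ?_⟩
    show x ^ a = y
    rw [← hn', ← zpow_mul]
    conv_rhs => rw [← zpow_one y, ← hab, zpow_add, mul_comm b (p : ℤ), zpow_mul y (p : ℤ) b, zpow_natCast, hy, one_zpow,
      mul_one, mul_comm a n]
  -- coefficients
  have coeff : ∀ {w : MulAut K} {s t : K}, s ^ p = 1 → w s = s → t⁻¹ * w t ∈ Subgroup.zpowers s →
      w t ≠ t → ∀ a : ZMod p, ∃ n : ℕ, (w ^ n) t = t * s ^ a.val ∧ (w ^ n) s = s := by
    intro w s t hs hws ht hne a
    obtain ⟨m, hm⟩ := ht
    have hm' : s ^ m = t⁻¹ * w t := hm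
    have hms : s ^ (m : ZMod p).val = s ^ m := by
      obtain ⟨d, hd⟩ : (p : ℤ) ∣ m - ((m : ZMod p).val : ℤ) := by
        refine (ZMod.intCast_eq_intCast_iff_dvd_sub _ _ p).mp ?_
        simp
      rw [show m = ((m : ZMod p).val : ℤ) + (p : ℤ) * d by rw [← hd]; ring, zpow_add, zpow_mul, zpow_natCast,
        zpow_natCast, hs, one_zpow, mul_one]
      simp
    have hm0 : (m : ZMod p) ≠ 0 := fun h0 => hne (by
      rw [h0, ZMod.val_zero, pow_zero] at hms
      rw [← hms] at hm'
      exact (inv_mul_eq_one.mp hm'.symm).symm)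
    refine ⟨(a * (m : ZMod p)⁻¹).val, ?_⟩
    obtain ⟨h1, h2⟩ := aut_pow (w := w) (x := s) (y := t) (z := s ^ (m : ZMod p).val)
      (by rw [map_pow, hws]) (by rw [hms, hm', mul_inv_cancel_left]) hws (a * (m : ZMod p)⁻¹).val
    refine ⟨h1.trans ?_, h2⟩
    rw [← pow_val_mul hs, mul_comm a, ← mul_assoc, mul_inv_cancel₀ hm0, one_mul]
  set v := g * u * g⁻¹ with hvdef
  have hvA : v ∈ A := A.mul_mem (A.mul_mem hgA huA) (A.inv_mem hgA)
  have hvy : v y = y := by simp [hvdef, hydef, hux]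
  have hv : ∀ h, h⁻¹ * v h ∈ Subgroup.zpowers y := fun h => by
    obtain ⟨n, hn⟩ := hcom (g⁻¹ h)
    refine ⟨n, ?_⟩
    show y ^ n = _
    rw [hydef, ← map_zpow, show x ^ n = _ from hn, map_mul, map_inv, MulAut.apply_inv_self]
    rfl
  have hvx : v x ≠ x := fun h => hxy (by
    have h1 : u (g⁻¹ x) = g⁻¹ x := g.injective (by rw [MulAut.apply_inv_self]; exact h)
    obtain ⟨n, hn⟩ := hfix _ h1
    exact ⟨n, by
      show y ^ n = x
      rw [hydef, ← map_zpow, show x ^ n = _ from hn, MulAut.apply_inv_self]⟩)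
  have huy : u y ≠ y := fun h => hgx (hfix y h)
  refine ⟨hall, ?_⟩
  · have hle : ψ.range ≤ A := by
      rintro _ ⟨m, rfl⟩
      have : A.comap ψ = ⊤ := by
        refine Cfsg.Agent.Classical.sl_subgroup_eq_top_of_transvection_mem _ fun i j hij a => ?_
        fin_cases i <;> fin_cases j
        · exact absurd rfl hij
        · obtain ⟨n, h1, h2⟩ := coeff hx hux (hcom y) huy a
          rw [Subgroup.mem_comap]
          exact (hψu (u ^ n) a h2 h1).symm ▸ A.pow_mem huA n
        · obtain ⟨n, h1, h2⟩ := coeff hy hvy (hv x) hvx a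
          rw [Subgroup.mem_comap]
          exact (hψl (v ^ n) a h2 h1).symm ▸ A.pow_mem hvA n
        · exact absurd rfl hij
      exact Subgroup.mem_comap.mp (this ▸ Subgroup.mem_top m)
    exact ⟨ψ.range.subgroupOf A, ⟨(Subgroup.subgroupOfEquivOfLe hle).trans (MonoidHom.ofInjective hψ).symm⟩⟩

end CfsgLib.FusionSmall
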