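import Cfsg.Agent.Lib.Fusion.EssentialFlag
import Cfsg.Agent.Lib.Fusion.SmallEssential
import Mathlib.Data.Nat.Choose.Sum

/-!
Abelian `p`-groups of rank at most two with an automorphism group of order divisible by `p` and
without normal `p`-subgroup: elementary of order `p²`, or `p ≤ 3` and homocyclic.
-/

set_option autoImplicit false

namespace CfsgLib.FusionRankTwo

open Cfsg CfsgLib.FusionFlag

variable {p : ℕ} [hp : Fact p.Prime] {K : Type*} [CommGroup K]

/-- The subgroup of `p^i`-th powers. -/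
def pw (p : ℕ) (K : Type*) [CommGroup K] (i : ℕ) : Subgroup K :=
  (powMonoidHom (p ^ i) : K →* K).range

theorem mem_pw {i : ℕ} {x : K} : x ∈ pw p K i ↔ ∃ y : K, y ^ p ^ i = x := Iff.rfl

theorem aut_mem_pw {i : ℕ} (a : MulAut K) {x : K} (hx : x ∈ pw p K i) : a x ∈ pw p K i := by
  obtain ⟨y, rfl⟩ := mem_pw.mp hx
  exact mem_pw.mpr ⟨a y, (map_pow a y _).symm⟩

variable [Finite K]

/-- No element outside the trivial group acts trivially on a two step series down to the `p`-th powers. -/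
theorem false_of_two_step (hK : IsPGroup p K) (A : Subgroup (MulAut K)) (hA : pCore p A = ⊥)
    {k : ℕ} (hk : ∀ x : K, x ^ p ^ k = 1) (M : Subgroup K) (hM : ∀ a ∈ A, ∀ x ∈ M, a x ∈ M)
    (hΦM : pw p K 1 ≤ M) {u : MulAut K} (huA : u ∈ A) (hu1 : u ≠ 1)
    (h1 : ∀ x, x⁻¹ * u x ∈ M) (h2 : ∀ x ∈ M, x⁻¹ * u x ∈ pw p K 1) : False := by
  have : Finite (MulAut K) := Finite.of_injective (fun f : MulAut K => (f : K → K)) DFunLike.coe_injective
  let N : Subgroup A :=
    { carrier := {a | (∀ x, x⁻¹ * (a : MulAut K) x ∈ M) ∧ ∀ x ∈ M, x⁻¹ * (a : MulAut K) x ∈ pw p K 1}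
      one_mem' := ⟨fun x => by simp, fun x _ => by simp⟩
      mul_mem' := fun {a b} ha hb => ⟨fun x => by
        have h := M.mul_mem (hb.1 x) (ha.1 ((b : MulAut K) x))
        rwa [mul_assoc, mul_inv_cancel_left] at h, fun x hx => by
        have h := Subgroup.mul_mem _ (hb.2 x hx) (ha.2 _ (hM _ b.2 x hx))
        rwa [mul_assoc, mul_inv_cancel_left] at h⟩
      inv_mem' := fun {a} ha => ⟨fun x => by
        have h := M.inv_mem (ha.1 (((a : MulAut K))⁻¹ x))
        rwa [MulAut.apply_inv_self, mul_inv_rev, inv_inv] at h, fun x hx => by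
        have h := Subgroup.inv_mem _ (ha.2 _ (hM _ (A.inv_mem a.2) x hx))
        rwa [MulAut.apply_inv_self, mul_inv_rev, inv_inv] at h⟩ }
  have hN : N.Normal := ⟨fun a ha b => ⟨fun x => by
      have h := hM _ b.2 _ (ha.1 (((b : MulAut K))⁻¹ x))
      rwa [map_mul, map_inv, MulAut.apply_inv_self] at h, fun x hx => by
      have h := aut_mem_pw (b : MulAut K) (ha.2 _ (hM _ (A.inv_mem b.2) x hx))
      rwa [map_mul, map_inv, MulAut.apply_inv_self] at h⟩⟩
  let L : ℕ → Subgroup K := fun j =>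
    if j % 2 = 0 then pw p K (k - j / 2) else M.map (powMonoidHom (p ^ (k - j / 2 - 1)))
  have hmono : ∀ j < 2 * k, L j ≤ L (j + 1) := by
    intro j hj
    obtain ⟨t, rfl | rfl⟩ : ∃ t, j = 2 * t ∨ j = 2 * t + 1 := ⟨j / 2, by omega⟩
    · simp only [L, show (2 * t) % 2 = 0 by omega, show (2 * t + 1) % 2 ≠ 0 by omega, if_true, if_false,
        show 2 * t / 2 = t by omega, show (2 * t + 1) / 2 = t by omega]
      rintro _ ⟨y, rfl⟩
      refine ⟨y ^ p, hΦM (mem_pw.mpr ⟨y, by rw [pow_one]⟩), ?_⟩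
      simp only [powMonoidHom_apply]
      rw [← pow_mul, ← pow_succ', show k - t - 1 + 1 = k - t by omega]
    · simp only [L, show (2 * t + 1) % 2 ≠ 0 by omega, show (2 * t + 1 + 1) % 2 = 0 by omega, if_true, if_false,
        show (2 * t + 1 + 1) / 2 = t + 1 by omega, show (2 * t + 1) / 2 = t by omega]
      rintro _ ⟨y, -, rfl⟩
      exact mem_pw.mpr ⟨y, by rw [show k - (t + 1) = k - t - 1 by omega]; rfl⟩
  have htop : L (2 * k) = ⊤ := by
    simp only [L, show (2 * k) % 2 = 0 by omega, if_true, show 2 * k / 2 = k by omega, Nat.sub_self]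
    exact eq_top_iff.mpr fun x _ => mem_pw.mpr ⟨x, by rw [pow_zero, pow_one]⟩
  have hNp : IsPGroup p N := by
    intro a
    obtain ⟨ha1, ha2⟩ := a.2
    obtain ⟨l, hl⟩ := CfsgLib.Fusion.exists_pow_eq_one_of_stabilizes hK L hmono htop
      (α := ((a : A) : MulAut K)) ⟨0, fun x hx => by
        simp only [L, show 0 % 2 = 0 from rfl, if_true, Nat.zero_div, Nat.sub_zero] at hx
        obtain ⟨y, rfl⟩ := mem_pw.mp hx
        rw [hk]; exact map_one _⟩ fun j hj x hx => by
        obtain ⟨t, rfl | rfl⟩ : ∃ t, j = 2 * t ∨ j = 2 * t + 1 := ⟨j / 2, by omega⟩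
        · simp only [L, show (2 * t) % 2 = 0 by omega, show (2 * t + 1) % 2 ≠ 0 by omega, if_true, if_false,
            show 2 * t / 2 = t by omega, show (2 * t + 1) / 2 = t by omega] at hx ⊢
          obtain ⟨y, hy, rfl⟩ := hx
          obtain ⟨w, hw⟩ := mem_pw.mp (ha2 y hy)
          refine mem_pw.mpr ⟨w, ?_⟩
          simp only [powMonoidHom_apply]
          rw [pow_one] at hw
          rw [map_pow, ← inv_pow, ← mul_pow, ← hw, ← pow_mul, ← pow_succ',
            show k - t - 1 + 1 = k - t by omega]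
        · simp only [L, show (2 * t + 1) % 2 ≠ 0 by omega, show (2 * t + 1 + 1) % 2 = 0 by omega, if_true,
            if_false, show (2 * t + 1 + 1) / 2 = t + 1 by omega, show (2 * t + 1) / 2 = t by omega] at hx ⊢
          obtain ⟨y, rfl⟩ := mem_pw.mp hx
          refine ⟨_, ha1 y, ?_⟩
          simp only [powMonoidHom_apply]
          rw [show k - (t + 1) = k - t - 1 by omega, map_pow, mul_pow, inv_pow]
    exact ⟨l, Subtype.ext (Subtype.ext hl)⟩
  have hle : N ≤ ⊥ := hA ▸ CfsgLib.PCore.le_pCore hN hNp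
  exact hu1 (congrArg Subtype.val (Subgroup.mem_bot.mp (hle (show (⟨u, huA⟩ : A) ∈ N from ⟨h1, h2⟩))))

/-- The endomorphism of the additive group given by an automorphism. -/
def endOf (u : MulAut K) : AddMonoid.End (Additive K) := MonoidHom.toAdditive u.toMonoidHom

theorem endOf_pow (u : MulAut K) (n : ℕ) (x : K) :
    (endOf u ^ n) (Additive.ofMul x) = Additive.ofMul ((u ^ n) x) := by
  induction n with
  | zero => rfl
  | succ n ih =>
    rw [pow_succ', pow_succ']
    show endOf u ((endOf u ^ n) (Additive.ofMul x)) = _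
    rw [ih]
    rfl

/-- For `p ≥ 5` an automorphism of order `p` that is quadratic modulo `p` moves only into the
`p`-th powers and the elements of order `p`. -/
theorem exists_of_quadratic (hp5 : 5 ≤ p) {u : MulAut K} (hu : u ^ p = 1)
    (hq : ∀ x : K, (x⁻¹ * u x)⁻¹ * u (x⁻¹ * u x) ∈ pw p K 1) (x : K) :
    ∃ w : K, (x⁻¹ * u x * w ^ p) ^ p = 1 := by
  set D : AddMonoid.End (Additive K) := endOf u - 1 with hD
  have hDa : ∀ y : K, D (Additive.ofMul y) = Additive.ofMul (y⁻¹ * u y) := fun y => by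
    rw [mul_comm y⁻¹, ofMul_mul, ofMul_inv, ← sub_eq_add_neg]
    rfl
  have h2 : ∀ z : Additive K, ∃ w : Additive K, (D ^ 2) z = p • w := by
    intro z
    obtain ⟨w, hw⟩ := mem_pw.mp (hq z.toMul)
    rw [pow_one] at hw
    refine ⟨Additive.ofMul w, ?_⟩
    rw [← ofMul_pow, hw, ← hDa, ← hDa, ofMul_toMul, pow_two]
    rfl
  have hterm : ∀ m ∈ Finset.range (p - 1), ∀ z : Additive K,
      ∃ w : Additive K, (D ^ (m + 2) * (p.choose (m + 2) : AddMonoid.End (Additive K))) z = (p * p) • w := by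
    intro m hm z
    show ∃ w, (D ^ (m + 2)) ((p.choose (m + 2) : AddMonoid.End (Additive K)) z) = _
    rw [AddMonoid.End.natCast_apply, map_nsmul]
    by_cases hmp : m + 2 = p
    · obtain ⟨j, hj⟩ : ∃ j, p = 2 + (2 + j) := ⟨p - 4, by omega⟩
      obtain ⟨w, hw⟩ := h2 ((D ^ j) z)
      obtain ⟨w', hw'⟩ := h2 w
      refine ⟨w', ?_⟩
      rw [hmp, Nat.choose_self, one_smul, show (D ^ p) z = (D ^ 2) ((D ^ 2) ((D ^ j) z)) by
        conv_lhs => rw [hj, pow_add, pow_add]
        rfl, hw, map_nsmul, hw', ← mul_smul]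
    · obtain ⟨c, hc⟩ := (hp.out : p.Prime).dvd_choose_self (k := m + 2) (by omega)
        (by have := Finset.mem_range.mp hm; omega)
      obtain ⟨w, hw⟩ := h2 ((D ^ m) z)
      refine ⟨c • w, ?_⟩
      rw [show (D ^ (m + 2)) z = (D ^ 2) ((D ^ m) z) by rw [add_comm m 2, pow_add]; rfl, hw, hc, ← mul_smul,
        ← mul_smul]
      congr 1
      ring
  have hexp := (Commute.one_right D).add_pow p
  simp only [one_pow, mul_one] at hexp
  rw [show D + 1 = endOf u by rw [hD, sub_add_cancel]] at hexp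
  have happ := congrArg (fun e : AddMonoid.End (Additive K) => e (Additive.ofMul x)) hexp
  simp only [endOf_pow, hu, MulAut.one_apply] at happ
  rw [show p + 1 = p - 1 + 1 + 1 by omega, Finset.sum_range_succ', Finset.sum_range_succ'] at happ
  replace happ := happ.trans (congrArg₂ (· + ·) (congrArg₂ (· + ·)
    (AddMonoidHom.finsetSum_apply (fun k => (D ^ (k + 1 + 1) *
      (p.choose (k + 1 + 1) : AddMonoid.End (Additive K)) : Additive K →+ Additive K)) (Finset.range (p - 1))
      (Additive.ofMul x))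
    rfl) rfl)
  choose g hg using fun m : ℕ => fun hm : m ∈ Finset.range (p - 1) => hterm m hm (Additive.ofMul x)
  have hsum : ∑ m ∈ Finset.range (p - 1),
      (D ^ (m + 1 + 1) * (p.choose (m + 1 + 1) : AddMonoid.End (Additive K))) (Additive.ofMul x) =
      (p * p) • ∑ m ∈ (Finset.range (p - 1)).attach, g m.1 m.2 := by
    rw [Finset.smul_sum, ← Finset.sum_attach]
    exact Finset.sum_congr rfl fun m _ => hg m.1 m.2
  have h01 : (D ^ 0 * (p.choose 0 : AddMonoid.End (Additive K))) (Additive.ofMul x) = Additive.ofMul x := by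
    simp
  have h11 : (D ^ (0 + 1) * (p.choose (0 + 1) : AddMonoid.End (Additive K))) (Additive.ofMul x) =
      p • D (Additive.ofMul x) := by
    rw [pow_one, Nat.choose_one_right]
    show D ((p : AddMonoid.End (Additive K)) (Additive.ofMul x)) = _
    rw [AddMonoid.End.natCast_apply, map_nsmul]
  replace happ := happ.trans (congrArg₂ (· + ·) (congrArg₂ (· + ·) hsum h11) h01)
  refine ⟨(∑ m ∈ (Finset.range (p - 1)).attach, g m.1 m.2).toMul, Additive.ofMul.injective ?_⟩
  rw [ofMul_pow, ofMul_mul, ofMul_pow, ofMul_toMul, ← hDa, smul_add, ← mul_smul, ofMul_one]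
  have h := left_eq_add.mp (happ.trans (add_comm _ _))
  rw [add_comm] at h
  exact h

theorem classify (hK : IsPGroup p K) (A : Subgroup (MulAut K)) (hd : p ∣ Nat.card A)
    (hA : pCore p A = ⊥) (hrk : (pw p K 1).index ≤ p ^ 2) :
    ((∀ x : K, x ^ p = 1) ∧ Nat.card K = p ^ 2) ∨
      (p ≤ 3 ∧ ∃ k : ℕ, Nonempty (K ≃* Multiplicative (ZMod (p ^ k) × ZMod (p ^ k)))) := by
  classical
  have : Finite (MulAut K) := Finite.of_injective (fun f : MulAut K => (f : K → K)) DFunLike.coe_injective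
  have hp' : p.Prime := hp.out
  obtain ⟨⟨u, huA⟩, hu⟩ := exists_prime_orderOf_dvd_card' p hd
  rw [Subgroup.orderOf_mk] at hu
  have hup : u ^ p = 1 := hu ▸ pow_orderOf_eq_one u
  have hu1 : u ≠ 1 := fun h => hp'.ne_one (hu.symm.trans (h ▸ orderOf_one))
  have hex : ∃ k, ∀ x : K, x ^ p ^ k = 1 := by
    obtain ⟨n, hn⟩ := IsPGroup.iff_card.mp hK
    exact ⟨n, fun x => by rw [← hn]; exact pow_card_eq_one'⟩
  set k := Nat.find hex with hkdef
  have hk : ∀ x : K, x ^ p ^ k = 1 := Nat.find_spec hex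
  have hk0 : k ≠ 0 := fun h => hu1 (MulEquiv.ext fun x => by
    have h1 := hk x
    rw [h, pow_zero, pow_one] at h1
    rw [h1, map_one, map_one])
  let f : K →* K := powMonoidHom (p ^ (k - 1))
  have hf : ∀ x, f x = x ^ p ^ (k - 1) := fun _ => rfl
  have hΦf : pw p K 1 ≤ f.ker := fun x hx => by
    obtain ⟨y, rfl⟩ := mem_pw.mp hx
    rw [MonoidHom.mem_ker, hf, ← pow_mul, ← pow_add, show 1 + (k - 1) = k by omega, hk]
  have hker : ∀ a ∈ A, ∀ x ∈ f.ker, a x ∈ f.ker := fun a _ x hx => by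
    rw [MonoidHom.mem_ker, hf] at hx ⊢
    rw [← map_pow, hx, map_one]
  have hne : f.ker ≠ ⊤ := fun h => Nat.find_min hex (show k - 1 < k by omega) fun x => by
    rw [← hf]; exact MonoidHom.mem_ker.mp (h.ge (Subgroup.mem_top x))
  have hidx : f.ker.index = p ∨ f.ker.index = p ^ 2 := by
    obtain ⟨i, hi⟩ := hK.index f.ker
    have hle : f.ker.index ≤ p ^ 2 := le_trans (Nat.le_of_dvd (Nat.pos_of_ne_zero Subgroup.index_ne_zero_of_finite)
      (Subgroup.index_dvd_of_le hΦf)) hrk
    rw [hi] at hle ⊢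
    have h2 : i ≤ 2 := (Nat.pow_le_pow_iff_right hp'.one_lt).mp hle
    interval_cases i
    · exact absurd (Subgroup.index_eq_one.mp (hi.trans (pow_zero p))) hne
    · exact Or.inl (pow_one p)
    · exact Or.inr rfl
  have hpK : ∀ {L : Subgroup K}, ∀ g : L, orderOf (g : K) ∣ p ^ k := fun g => orderOf_dvd_of_pow_eq_one (hk _)
  have hupk : u ^ p ^ 1 = 1 := by rw [pow_one, hup]
  rcases hidx with hidx | hidx
  · -- a characteristic subgroup strictly between the powers and the group
    exfalso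
    have hc : Nat.card (⊤ : Subgroup K) = p * Nat.card f.ker := by
      rw [Subgroup.card_top, ← Subgroup.index_mul_card f.ker, hidx]
    have h1 := stabilizes_step le_top hc hupk (fun x _ => Subgroup.mem_top _) (hker u huA)
    obtain ⟨j, hj⟩ := hK.index (pw p K 1)
    have hdiv := Subgroup.relIndex_mul_index hΦf
    rw [hidx, hj] at hdiv
    have hj2 : j ≤ 2 := (Nat.pow_le_pow_iff_right hp'.one_lt).mp (hj ▸ hrk)
    refine false_of_two_step hK A hA hk f.ker hker hΦf huA hu1 (fun x => h1 x (Subgroup.mem_top x)) ?_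
    have hc2 : Nat.card f.ker = (pw p K 1).relIndex f.ker * Nat.card (pw p K 1) := by
      rw [Subgroup.relIndex, ← Nat.card_congr (Subgroup.subgroupOfEquivOfLe hΦf).toEquiv, Subgroup.index_mul_card]
    by_cases heq : (pw p K 1).relIndex f.ker = 1
    · have hsub : f.ker ≤ pw p K 1 := Subgroup.relIndex_eq_one.mp heq
      exact fun x hx => hsub (f.ker.mul_mem (f.ker.inv_mem hx) (hker u huA x hx))
    · have hr : (pw p K 1).relIndex f.ker = p := by
        interval_cases j
        · rw [pow_zero] at hdiv; exact absurd (Nat.eq_one_of_mul_eq_one_left hdiv) hp'.ne_one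
        · rw [pow_one] at hdiv
          exact absurd (Nat.eq_of_mul_eq_mul_right hp'.pos (hdiv.trans (one_mul p).symm)) heq
        · rw [pow_two] at hdiv; exact Nat.eq_of_mul_eq_mul_right hp'.pos hdiv
      rw [hr] at hc2
      exact stabilizes_step hΦf hc2 hupk (hker u huA) fun x hx => aut_mem_pw u hx
  · -- homocyclic
    have hΦ : f.ker = pw p K 1 := by
      refine (Subgroup.eq_of_le_of_card_ge hΦf ?_).symm
      have h1 := Subgroup.index_mul_card f.ker
      have h2 := Subgroup.index_mul_card (pw p K 1)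
      rw [hidx] at h1
      have h3 : p ^ 2 * Nat.card f.ker ≤ p ^ 2 * Nat.card (pw p K 1) :=
        calc p ^ 2 * Nat.card f.ker = Nat.card K := h1
          _ = (pw p K 1).index * Nat.card (pw p K 1) := h2.symm
          _ ≤ _ := Nat.mul_le_mul_right _ hrk
      exact Nat.le_of_mul_le_mul_left h3 (pow_pos hp'.pos 2)
    have hR : Nat.card f.range = p ^ 2 := by rw [← Subgroup.index_ker, hidx]
    have hRp : ∀ a ∈ f.range, a ^ p = 1 := by
      rintro _ ⟨y, rfl⟩
      rw [hf, ← pow_mul, ← pow_succ, show k - 1 + 1 = k by omega, hk]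
    obtain ⟨a, ha, ha1⟩ : ∃ a ∈ f.range, a ≠ 1 := by
      by_contra! h
      rw [(Subgroup.eq_bot_iff_forall _).mpr h, Subgroup.card_bot] at hR
      exact absurd hR.symm (Nat.one_lt_pow two_ne_zero hp'.one_lt).ne'
    have hza : Nat.card (Subgroup.zpowers a) = p := by rw [Nat.card_zpowers, orderOf_eq_prime (hRp a ha) ha1]
    obtain ⟨b, hb, hba⟩ : ∃ b ∈ f.range, b ∉ Subgroup.zpowers a := by
      by_contra! h
      have := Subgroup.card_le_of_le (K := Subgroup.zpowers a) h
      rw [hR, hza] at this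
      exact absurd this (not_le.mpr (by nlinarith [hp'.two_le]))
    obtain ⟨x, rfl⟩ := ha
    obtain ⟨y, rfl⟩ := hb
    have indep : ∀ i j : ℕ, f x ^ i * f y ^ j = 1 → p ∣ i ∧ p ∣ j := by
      intro i j h
      have hj : p ∣ j := by
        by_contra hnd
        refine hba ?_
        have hmem : f y ^ j ∈ Subgroup.zpowers (f x) := by
          rw [eq_inv_of_mul_eq_one_right h]
          exact Subgroup.inv_mem _ (Subgroup.pow_mem _ (Subgroup.mem_zpowers _) _)
        obtain ⟨c, hc⟩ := Nat.exists_mul_mod_eq_one_of_coprime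
          ((Nat.coprime_comm.mp (hp'.coprime_iff_not_dvd.mpr hnd))) hp'.one_lt
        have hm := Subgroup.pow_mem _ hmem c
        rwa [← pow_mul, pow_eq_pow_mod (j * c) (hRp _ ⟨y, rfl⟩), hc.2, pow_one] at hm
      refine ⟨?_, hj⟩
      obtain ⟨c, rfl⟩ := hj
      rw [pow_mul, hRp _ ⟨y, rfl⟩, one_pow, mul_one] at h
      rw [← orderOf_eq_prime (hRp _ ⟨x, rfl⟩) ha1]
      exact orderOf_dvd_of_pow_eq_one h
    have divis : ∀ t ≤ k, ∀ i j : ℕ, x ^ i * y ^ j = 1 → p ^ t ∣ i ∧ p ^ t ∣ j := by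
      intro t
      induction t with
      | zero => intro _ i j _; simp
      | succ t ih =>
        intro ht i j h
        obtain ⟨⟨i', rfl⟩, ⟨j', rfl⟩⟩ := ih (by omega) i j h
        have h1 := congrArg (· ^ p ^ (k - 1 - t)) h
        simp only [mul_pow, one_pow, ← pow_mul] at h1
        rw [mul_right_comm, mul_right_comm (p ^ t) j', ← pow_add, show t + (k - 1 - t) = k - 1 by omega,
          pow_mul, pow_mul, ← hf, ← hf] at h1
        obtain ⟨hi, hj⟩ := indep i' j' h1
        exact ⟨by rw [pow_succ]; exact mul_dvd_mul_left _ hi, by rw [pow_succ]; exact mul_dvd_mul_left _ hj⟩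
    have hq : NeZero (p ^ k) := ⟨(pow_pos hp'.pos k).ne'⟩
    let φ : Multiplicative (ZMod (p ^ k) × ZMod (p ^ k)) →* K :=
      { toFun := fun c => x ^ c.toAdd.1.val * y ^ c.toAdd.2.val
        map_one' := by simp
        map_mul' := fun c d => by
          rw [toAdd_mul, Prod.fst_add, Prod.snd_add, ZMod.val_add, ZMod.val_add,
            ← pow_eq_pow_mod _ (hk x), ← pow_eq_pow_mod _ (hk y), pow_add, pow_add, mul_mul_mul_comm] }
    have hinj : Function.Injective φ := by
      rw [injective_iff_map_eq_one]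
      intro c hc
      obtain ⟨h1, h2⟩ := divis k le_rfl _ _ hc
      have e1 : c.toAdd.1 = 0 := (ZMod.val_eq_zero _).mp (Nat.eq_zero_of_dvd_of_lt h1 (ZMod.val_lt _))
      have e2 : c.toAdd.2 = 0 := (ZMod.val_eq_zero _).mp (Nat.eq_zero_of_dvd_of_lt h2 (ZMod.val_lt _))
      exact Multiplicative.toAdd.injective (Prod.ext e1 e2)
    have hxH : x ∈ φ.range := ⟨Multiplicative.ofAdd (1, 0), by
      show x ^ (1 : ZMod (p ^ k)).val * y ^ (0 : ZMod (p ^ k)).val = x
      rw [ZMod.val_one_eq_one_mod, ← pow_eq_pow_mod 1 (hk x), ZMod.val_zero, pow_one, pow_zero, mul_one]⟩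
    have hyH : y ∈ φ.range := ⟨Multiplicative.ofAdd (0, 1), by
      show x ^ (0 : ZMod (p ^ k)).val * y ^ (1 : ZMod (p ^ k)).val = y
      rw [ZMod.val_one_eq_one_mod, ← pow_eq_pow_mod 1 (hk y), ZMod.val_zero, pow_one, pow_zero, one_mul]⟩
    have hfH : f.range ≤ φ.range.map f := by
      refine (Subgroup.eq_of_le_of_card_ge (Subgroup.map_le_range f φ.range) ?_).ge
      rw [hR]
      obtain ⟨i, hi, hc⟩ := (Nat.dvd_prime_pow hp').mp (hR ▸ Subgroup.card_dvd_of_le (Subgroup.map_le_range f φ.range))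
      rw [hc]
      refine Nat.pow_le_pow_right hp'.pos ?_
      by_contra hlt
      refine hba ((Subgroup.eq_of_le_of_card_ge (K := φ.range.map f) (Subgroup.zpowers_le.mpr
        (show f x ∈ φ.range.map f from ⟨x, hxH, rfl⟩)) ?_).ge (show f y ∈ φ.range.map f from ⟨y, hyH, rfl⟩))
      rw [hza, hc]
      calc p ^ i ≤ p ^ 1 := Nat.pow_le_pow_right hp'.pos (by omega)
        _ = p := pow_one p
    have hgen : ∀ i, ∀ z : K, ∃ h ∈ φ.range, ∃ w : K, z = h * w ^ p ^ i := by
      intro i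
      induction i with
      | zero => exact fun z => ⟨1, one_mem _, z, by simp⟩
      | succ i ih =>
        intro z
        obtain ⟨h, hh, w, rfl⟩ := ih z
        obtain ⟨h', hh', he⟩ := hfH ⟨w, rfl⟩
        have hwk : h'⁻¹ * w ∈ pw p K 1 := by
          rw [← hΦ, MonoidHom.mem_ker, map_mul, map_inv, he, inv_mul_cancel]
        obtain ⟨v, hv⟩ := mem_pw.mp hwk
        refine ⟨h * h' ^ p ^ i, Subgroup.mul_mem _ hh (Subgroup.pow_mem _ hh' _), v, ?_⟩
        rw [pow_one] at hv
        rw [pow_succ', pow_mul v, hv, mul_assoc, ← mul_pow, mul_inv_cancel_left]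
    have hsurj : Function.Surjective φ := fun z => by
      obtain ⟨h, ⟨c, hc⟩, w, rfl⟩ := hgen k z
      exact ⟨c, by rw [hc, hk, mul_one]⟩
    by_cases hk1 : k = 1
    · left
      refine ⟨fun z => by have := hk z; rwa [hk1, pow_one] at this, ?_⟩
      rw [← Nat.card_congr (Equiv.ofBijective φ ⟨hinj, hsurj⟩), Nat.card_congr Multiplicative.toAdd,
        Nat.card_prod, Nat.card_zmod, hk1, pow_one, pow_two]
    right
    refine ⟨?_, k, ⟨(MulEquiv.ofBijective φ ⟨hinj, hsurj⟩).symm⟩⟩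
    by_contra hp3
    have hp5 : 5 ≤ p := by
      rcases Nat.lt_or_ge p 5 with h | h
      · have h4 : p ≠ 4 := fun e => by rw [e] at hp'; norm_num at hp'
        omega
      · exact h
    let Φ := pw p K 1
    let π := QuotientGroup.mk' Φ
    have hΦu : Φ.map u.toMonoidHom = Φ := by
      refine le_antisymm ?_ fun z hz => ⟨u⁻¹ z, aut_mem_pw _ hz, MulAut.apply_inv_self _ u z⟩
      rintro _ ⟨z, hz, rfl⟩; exact aut_mem_pw _ hz
    let u' : MulAut (K ⧸ Φ) := QuotientGroup.congr Φ Φ u hΦu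
    have hu' : ∀ z, u' (π z) = π (u z) := fun z => rfl
    have hu'p : u' ^ p = 1 := by
      have h : ∀ n : ℕ, ∀ z, (u' ^ n) (π z) = π ((u ^ n) z) := by
        intro n
        induction n with
        | zero => intro z; rfl
        | succ n ih => intro z; rw [pow_succ', MulAut.mul_apply, ih, hu', pow_succ', MulAut.mul_apply]
      refine MulEquiv.ext fun z => ?_
      obtain ⟨z, rfl⟩ := QuotientGroup.mk'_surjective Φ z
      rw [h, hup]; rfl
    have hlin : ∀ z : K, (z⁻¹ * u z)⁻¹ * u (z⁻¹ * u z) ∈ Φ := by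
      intro z
      rw [← QuotientGroup.eq_one_iff]
      show π _ = 1
      rw [map_mul, map_inv, ← hu', inv_mul_eq_one, map_mul, map_inv, ← hu']
      by_cases h1 : u' = 1
      · simp [h1]
      obtain ⟨w, -, -, hw, -, hall⟩ := CfsgLib.FusionSmall.exists_line
        (by rw [← Subgroup.index_eq_card]; show (pw p K 1).index = _; rw [← hΦ, hidx]) hu'p h1
      obtain ⟨n, hn⟩ := hall (π z)
      rw [← hn]
      show w ^ n = u' (w ^ n)
      rw [map_zpow, hw]
    refine false_of_two_step hK A hA hk ⊤ (fun _ _ _ _ => Subgroup.mem_top _) le_top huA hu1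
      (fun _ => Subgroup.mem_top _) fun z _ => ?_
    obtain ⟨w, hw⟩ := exists_of_quadratic hp5 hup hlin z
    obtain ⟨c, hc⟩ := hsurj (z⁻¹ * u z * w ^ p)
    have hc' : x ^ c.toAdd.1.val * y ^ c.toAdd.2.val = z⁻¹ * u z * w ^ p := hc
    rw [← hc', mul_pow, ← pow_mul, ← pow_mul] at hw
    obtain ⟨d1, d2⟩ := divis k le_rfl _ _ hw
    obtain ⟨e1, he1⟩ : p ∣ c.toAdd.1.val := by
      refine Nat.dvd_of_mul_dvd_mul_right hp'.pos (dvd_trans ?_ d1)
      rw [← pow_two]; exact pow_dvd_pow p (by omega)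
    obtain ⟨e2, he2⟩ : p ∣ c.toAdd.2.val := by
      refine Nat.dvd_of_mul_dvd_mul_right hp'.pos (dvd_trans ?_ d2)
      rw [← pow_two]; exact pow_dvd_pow p (by omega)
    refine mem_pw.mpr ⟨x ^ e1 * y ^ e2 * w⁻¹, ?_⟩
    rw [pow_one, mul_pow, mul_pow, ← pow_mul, ← pow_mul, mul_comm e1, mul_comm e2, ← he1, ← he2, hc', inv_pow,
      mul_inv_cancel_right]

end CfsgLib.FusionRankTwo
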