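import Cfsg.Agent.Lib.Fusion.PEmbedded
import Cfsg.Agent.Lib.Fusion.Stabilizer
import Cfsg.Agent.Lib.PCore.Basic
import Cfsg.Agent.Lib.PGroup.Class2
import Cfsg.Agent.Lib.PGroup.Frattini
import Cfsg.Agent.Lib.TwoGroups.OneInvolution

/-!
An essential subgroup has no characteristic series with all steps of index `p`; the groups of
order `p³` without such a series.
-/

set_option autoImplicit false

namespace CfsgLib.FusionFlag

open Cfsg Cfsg.FusionSystem CfsgLib.Fusion
open scoped commutatorElement

variable {p : ℕ} [hp : Fact p.Prime]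

/-- A `p`-automorphism stabilises an invariant step of index `p`. -/
theorem stabilizes_step {X : Type*} [Group X] [Finite X] {K L : Subgroup X} [hK : K.Normal] (hKL : K ≤ L)
    (hc : Nat.card L = p * Nat.card K) {u : MulAut X} {k : ℕ} (hu : u ^ p ^ k = 1)
    (huL : ∀ x ∈ L, u x ∈ L) (huK : ∀ x ∈ K, u x ∈ K) : ∀ x ∈ L, x⁻¹ * u x ∈ K := by
  have hp' : p.Prime := hp.out
  let π := QuotientGroup.mk' K
  have hT : Nat.card (L.map π) = p := by
    have h1 := Subgroup.card_mul_index ((π.comp L.subtype).ker)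
    rw [Subgroup.index_ker, MonoidHom.range_comp, Subgroup.range_subtype] at h1
    have h2 : Nat.card (π.comp L.subtype).ker = Nat.card K := by
      rw [← MonoidHom.comap_ker, QuotientGroup.ker_mk']
      exact Nat.card_congr (Subgroup.subgroupOfEquivOfLe hKL).toEquiv
    rw [h2, hc, mul_comm p] at h1
    exact Nat.eq_of_mul_eq_mul_left Nat.card_pos h1
  have : Fact (Nat.card (L.map π)).Prime := ⟨hT ▸ hp'⟩
  obtain ⟨r, hr⟩ := (isCyclic_of_prime_card hT).exists_generator
  obtain ⟨r₀, hr₀, hre⟩ := r.2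
  have hur : π (u r₀) ∈ L.map π := ⟨_, huL r₀ hr₀, rfl⟩
  obtain ⟨c, hcc⟩ := Subgroup.mem_zpowers_iff.mp (hr ⟨_, hur⟩)
  have hc' : π r₀ ^ c = π (u r₀) := by
    rw [hre]; exact congrArg Subtype.val hcc
  have hstep : ∀ (j : ℤ) (y : X), π y = π r₀ ^ j → π (u y) = π r₀ ^ (c * j) := by
    intro j y hy
    have hk : (r₀ ^ j)⁻¹ * y ∈ K := by
      rw [← QuotientGroup.eq_one_iff]
      show π _ = 1
      rw [map_mul, map_inv, map_zpow, hy, inv_mul_cancel]
    have h2 : π (u ((r₀ ^ j)⁻¹ * y)) = 1 := (QuotientGroup.eq_one_iff _).mpr (huK _ hk)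
    rw [map_mul, map_mul, map_inv, map_inv, map_zpow, map_zpow, ← hc', inv_mul_eq_one] at h2
    rw [← h2, ← zpow_mul]
  have hpow : ∀ n : ℕ, π ((u ^ n) r₀) = π r₀ ^ (c ^ n) := by
    intro n
    induction n with
    | zero => simp
    | succ n ih => rw [pow_succ', MulAut.mul_apply, hstep _ _ ih, pow_succ' c]
  have hpp : π r₀ ^ (p : ℤ) = 1 := by
    rw [zpow_natCast, hre]
    have := congrArg Subtype.val (pow_card_eq_one' (G := L.map π) (x := r))
    rw [hT] at this
    exact this
  have hfix : π (u r₀) = π r₀ := by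
    have h1 := hpow (p ^ k)
    rw [hu, MulAut.one_apply] at h1
    have h2 : ((c ^ p ^ k : ℤ) : ZMod p) = (c : ZMod p) := by push_cast; rw [ZMod.pow_card_pow]
    obtain ⟨m, hm⟩ := (ZMod.intCast_eq_intCast_iff_dvd_sub _ _ p).mp h2
    rw [← hc', show c = c ^ p ^ k + (p : ℤ) * m by rw [← hm]; ring, zpow_add, zpow_mul, hpp, one_zpow, mul_one,
      ← h1]
  intro x hx
  obtain ⟨j, hj⟩ := Subgroup.mem_zpowers_iff.mp (hr ⟨π x, x, hx, rfl⟩)
  have hj' : π x = π r₀ ^ j := by rw [hre]; exact (congrArg Subtype.val hj).symm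
  rw [← QuotientGroup.eq_one_iff]
  show π _ = 1
  rw [map_mul, map_inv, hstep j x hj', zpow_mul, hc', hfix, hj', inv_mul_cancel]

variable {Ω : Type*} [Group Ω] {S : Subgroup Ω} [Finite S] {F : FusionSystem S} {H : Subgroup Ω}

/-- An essential subgroup has no characteristic series with steps of index `p`. -/
theorem not_flag (hS : IsPGroup p S) (hH : F.IsEssential p H) (n : ℕ) (L : ℕ → Subgroup H)
    (h0 : L 0 = ⊥) (hn : L n = ⊤) (hchar : ∀ i ≤ n, ∀ a : MulAut H, ∀ x ∈ L i, a x ∈ L i)
    (hmono : ∀ i < n, L i ≤ L (i + 1)) (hcard : ∀ i < n, Nat.card (L (i + 1)) = p * Nat.card (L i)) :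
    False := by
  obtain ⟨⟨hHS, -⟩, -, hN, E₀, hE₀⟩ := hH
  have : Finite H := finite_of_le hHS
  have : Finite (MulAut H) := finite_mulAut hHS
  set A := F.autGroup H
  set I := (Inn H).subgroupOf A
  let π := QuotientGroup.mk' I
  obtain ⟨R⟩ : Nonempty (Sylow p A) := Sylow.nonempty
  obtain ⟨u, huR, huI⟩ : ∃ u ∈ R.toSubgroup, u ∉ I := by
    by_contra! h
    have h1 : I.index ∣ R.index := Subgroup.index_dvd_of_le h
    exact R.not_dvd_index (dvd_trans (by rw [Subgroup.index_eq_card]; exact hE₀.1) h1)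
  obtain ⟨k, hk⟩ := R.2 ⟨u, huR⟩
  have hk' : (u : MulAut H) ^ p ^ k = 1 := congrArg (fun t : R.toSubgroup => ((t : A) : MulAut H)) hk
  have hnormal : ∀ i ≤ n, (L i).Normal := fun i hi =>
    ⟨fun x hx g => hchar i hi (MulAut.conj g) x hx⟩
  have hmem : (u : MulAut H) ∈ seriesStabilizer F H n L (fun i hi a _ => hchar i hi a) := by
    refine mem_seriesStabilizer.mpr ⟨u.2, fun i hi => ?_⟩
    have := hnormal i hi.le
    exact stabilizes_step (hmono i hi) (hcard i hi) hk' (hchar (i + 1) hi _) (hchar i hi.le _)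
  set N := (seriesStabilizer F H n L (fun i hi a _ => hchar i hi a)).subgroupOf A with hNdef
  have hNn : N.Normal := ⟨fun a ha b =>
    seriesStabilizer_conj_mem (hinv := fun i hi a _ => hchar i hi a) ha b.2⟩
  have hNp : IsPGroup p N := by
    intro a
    obtain ⟨l, hl⟩ := exists_pow_eq_one_of_stabilizes (hS.to_le hHS) L hmono hn
      (α := ((a : A) : MulAut H)) ⟨0, fun x hx => by
        rw [h0, Subgroup.mem_bot] at hx
        simp [hx]⟩ ((mem_seriesStabilizer (a := ((a : A) : MulAut H)) (hinv := fun i hi a _ => hchar i hi a)).mp a.2).2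
    exact ⟨l, Subtype.ext (Subtype.ext hl)⟩
  have hcore := CfsgLib.Fusion.pCore_eq_bot_of_embedded hE₀
  have := (CfsgLib.PCore.le_pCore (hNn.map π (QuotientGroup.mk'_surjective _)) (hNp.map π)).trans hcore.le
  exact huI ((QuotientGroup.eq_one_iff _).mp (Subgroup.mem_bot.mp (this ⟨u, hmem, rfl⟩)))

theorem mem_range_pow {K : Type*} [Group K] {f : K →* K} {q : ℕ} (hf : ∀ x, f x = x ^ q) (a : MulAut K)
    {x : K} (hx : x ∈ f.range) : a x ∈ f.range := by
  obtain ⟨y, rfl⟩ := hx
  exact ⟨a y, by rw [hf, hf, map_pow]⟩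

/-- The structure of a group of order `p³` with no characteristic series of full length. -/
theorem classify_cube {K : Type*} [Group K] [Finite K] (hK : Nat.card K = p ^ 3)
    (hflag : ∀ L₁ L₂ : Subgroup K, (∀ a : MulAut K, ∀ x ∈ L₁, a x ∈ L₁) → (∀ a : MulAut K, ∀ x ∈ L₂, a x ∈ L₂) →
      L₁ ≤ L₂ → Nat.card L₁ = p → Nat.card L₂ = p ^ 2 → False) :
    (IsMulCommutative K ∧ ∀ x : K, x ^ p = 1) ∨ (Odd p ∧ IsExtraspecial p K ∧ ∀ x : K, x ^ p = 1) ∨
      (p = 2 ∧ Nonempty (K ≃* QuaternionGroup 2)) := by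
  classical
  have hp' : p.Prime := hp.out
  have hP : IsPGroup p K := IsPGroup.of_card hK
  have hcase : ∀ (X : Subgroup K), Nat.card X = 1 ∨ Nat.card X = p ∨ Nat.card X = p ^ 2 ∨ Nat.card X = p ^ 3 := by
    intro X
    obtain ⟨i, hi, he⟩ := (Nat.dvd_prime_pow hp').mp (hK ▸ Subgroup.card_subgroup_dvd_card X)
    interval_cases i <;> simp [he]
  have hexp : ∀ (X : Subgroup K), Nat.card X = p → ∀ x ∈ X, x ^ p = 1 := fun X hX x hx => by
    have h := congrArg Subtype.val (pow_card_eq_one' (G := X) (x := ⟨x, hx⟩))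
    rw [hX] at h; exact h
  -- the kernel and image of the power map, when it is a homomorphism
  have hpowmap : (∀ a b : K, (a * b) ^ p = a ^ p * b ^ p) → ∀ x : K, x ^ p = 1 := by
    intro hmul
    let f : K →* K := MonoidHom.mk' (· ^ p) hmul
    have hf : ∀ x, f x = x ^ p := fun _ => rfl
    have hker : ∀ a : MulAut K, ∀ x ∈ f.ker, a x ∈ f.ker := fun a x hx => by
      rw [MonoidHom.mem_ker, hf] at hx ⊢
      rw [← map_pow, hx, map_one]
    have hmul' : Nat.card f.ker * Nat.card f.range = p ^ 3 := by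
      rw [← Subgroup.index_ker, Subgroup.card_mul_index, hK]
    rcases hcase f.ker with h | h | h | h
    · exfalso
      obtain ⟨x, hx⟩ := exists_prime_orderOf_dvd_card' p (hK ▸ dvd_pow_self p (by norm_num : 3 ≠ 0))
      have : x ∈ f.ker := by rw [MonoidHom.mem_ker, hf, ← hx, pow_orderOf_eq_one]
      rw [(Subgroup.card_eq_one.mp h), Subgroup.mem_bot] at this
      rw [this, orderOf_one] at hx
      exact hp'.ne_one hx.symm
    · exfalso
      rw [h] at hmul'
      have hr : Nat.card f.range = p ^ 2 := Nat.eq_of_mul_eq_mul_left hp'.pos (hmul'.trans (by ring))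
      refine hflag f.ker f.range hker (fun a x hx => mem_range_pow hf a hx) ?_ h hr
      obtain ⟨⟨x, hxr⟩, hxo⟩ := exists_prime_orderOf_dvd_card' (G := f.range) p (hr ▸ dvd_pow_self p two_ne_zero)
      rw [Subgroup.orderOf_mk] at hxo
      have hxk : x ∈ f.ker := by rw [MonoidHom.mem_ker, hf, ← hxo, pow_orderOf_eq_one]
      have hz : Subgroup.zpowers x = f.ker :=
        Subgroup.eq_of_le_of_card_ge (Subgroup.zpowers_le.mpr hxk) (by rw [Nat.card_zpowers, hxo, h])
      exact hz ▸ Subgroup.zpowers_le.mpr hxr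
    · exfalso
      rw [h] at hmul'
      have hr : Nat.card f.range = p := Nat.eq_of_mul_eq_mul_left (pow_pos hp'.pos 2) (hmul'.trans (by ring))
      refine hflag f.range f.ker (fun a x hx => mem_range_pow hf a hx) hker (fun x hx => ?_) hr h
      rw [MonoidHom.mem_ker, hf]
      exact hexp _ hr x hx
    · intro x
      have : x ∈ f.ker := by
        rw [Subgroup.eq_top_of_card_eq f.ker (h.trans hK.symm)]; trivial
      exact this
  by_cases hab : ∀ a b : K, a * b = b * a
  · exact Or.inl ⟨⟨⟨hab⟩⟩, hpowmap fun a b => (show Commute a b from hab a b).mul_pow p⟩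
  have : Nontrivial K := Finite.one_lt_card_iff_nontrivial.mp (hK ▸ Nat.one_lt_pow (by norm_num) hp'.one_lt)
  set Z := Subgroup.center K with hZ
  have hZc : Nat.card Z = p := by
    rcases hcase Z with h | h | h | h
    · exact absurd (Subgroup.card_eq_one.mp h) ((Subgroup.nontrivial_iff_ne_bot _).mp hP.center_nontrivial)
    · exact h
    · have h1 := Z.card_mul_index
      rw [h, hK, show p ^ 3 = p ^ 2 * p by ring] at h1
      have hidx := Nat.eq_of_mul_eq_mul_left (pow_pos hp'.pos 2) h1
      have : IsCyclic (K ⧸ Z) := isCyclic_of_prime_card (p := p) (by rw [← Subgroup.index_eq_card, hidx])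
      exact absurd (fun a b => commutative_of_cyclic_center_quotient (QuotientGroup.mk' Z)
        (by rw [QuotientGroup.ker_mk']) a b) hab
    · exact absurd (fun a b => ((Subgroup.mem_center_iff.mp
        ((Subgroup.eq_top_of_card_eq Z (h.trans hK.symm)).ge (Subgroup.mem_top a))) b).symm) hab
  have hZchar : ∀ a : MulAut K, ∀ x ∈ Z, a x ∈ Z := fun a x hx => by
    rw [hZ, Subgroup.mem_center_iff] at hx ⊢
    intro g
    obtain ⟨g, rfl⟩ := a.surjective g
    rw [← map_mul, ← map_mul, hx g]
  have hQ : Nat.card (K ⧸ Z) = p ^ 2 := by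
    have h1 := Z.card_mul_index
    rw [hZc, hK, show p ^ 3 = p * p ^ 2 by ring] at h1
    rw [← Subgroup.index_eq_card]
    exact Nat.eq_of_mul_eq_mul_left hp'.pos h1
  have hQc := IsPGroup.commutative_of_card_eq_prime_sq hQ
  have hcomm : ∀ a b : K, ⁅a, b⁆ ∈ Z := fun a b => by
    rw [← QuotientGroup.eq_one_iff]
    show QuotientGroup.mk' Z _ = 1
    rw [map_commutatorElement]
    exact commutatorElement_eq_one_iff_mul_comm.mpr (hQc _ _)
  have hcle : commutator K ≤ Z := by
    rw [commutator_def, Subgroup.commutator_le]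
    exact fun a _ b _ => hcomm a b
  by_cases h2 : p = 2
  · subst h2
    refine Or.inr (Or.inr ⟨rfl, ?_⟩)
    by_cases hone : ∀ a b : K, orderOf a = 2 → orderOf b = 2 → a = b
    · rcases CfsgLib.TwoGroups.OneInvolution.isCyclic_or_quaternion hP hone with h | ⟨n, hn, ⟨e⟩⟩
      · exact absurd (fun a b => h.commGroup.mul_comm a b) hab
      · have hc : Nat.card (QuaternionGroup (2 ^ n)) = 4 * 2 ^ n := by
          have : NeZero (2 ^ n) := ⟨by positivity⟩
          rw [Nat.card_eq_fintype_card, QuaternionGroup.card]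
        have := (Nat.card_congr e.toEquiv).symm.trans hK
        rw [hc] at this
        have hn1 : 2 ^ n = 2 := by omega
        rw [hn1] at e
        exact ⟨e⟩
    · exfalso
      push Not at hone
      obtain ⟨a, b, ha, hb, hab'⟩ := hone
      -- an involution outside the centre
      obtain ⟨t, ht, htZ⟩ : ∃ t : K, t ^ 2 = 1 ∧ t ∉ Z := by
        by_contra! hall
        have haz := hall a (ha ▸ pow_orderOf_eq_one a)
        have hbz := hall b (hb ▸ pow_orderOf_eq_one b)
        have he : ∀ w ∈ Z, orderOf w = 2 → Subgroup.zpowers w = Z := fun w hw ho =>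
          Subgroup.eq_of_le_of_card_ge (Subgroup.zpowers_le.mpr hw) (by rw [Nat.card_zpowers, ho, hZc])
        obtain ⟨i, hi⟩ := (he a haz ha).ge hbz
        have hi' : a ^ i = b := hi
        rw [← zpow_mod_orderOf, ha] at hi'
        rcases Int.emod_two_eq_zero_or_one i with hh | hh <;> rw [show ((2 : ℕ) : ℤ) = 2 from rfl, hh] at hi'
        · rw [zpow_zero] at hi'; rw [← hi', orderOf_one] at hb; exact absurd hb (by norm_num)
        · exact hab' (by rwa [zpow_one] at hi')
      -- an element of order four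
      obtain ⟨g, hg⟩ : ∃ g : K, g ^ 2 ≠ 1 := by
        by_contra! hall
        refine hab fun c d => ?_
        have hinv : ∀ w : K, w⁻¹ = w := fun w => inv_eq_of_mul_eq_one_right (by rw [← pow_two]; exact hall w)
        conv_rhs => rw [← hinv (d * c), mul_inv_rev, hinv c, hinv d]
      have hg4 : g ^ 4 = 1 := by
        have hgz : g ^ 2 ∈ Z := by
          rw [← QuotientGroup.eq_one_iff]
          show QuotientGroup.mk' Z (g ^ 2) = 1
          rw [map_pow]
          have : ¬ IsCyclic (K ⧸ Z) := fun h => hab fun a b =>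
            commutative_of_cyclic_center_quotient (QuotientGroup.mk' Z) (by rw [QuotientGroup.ker_mk']) a b
          by_contra hne
          refine this (isCyclic_of_orderOf_eq_card (QuotientGroup.mk' Z g) ?_)
          rw [hQ, orderOf_eq_prime_pow (n := 1) (by rw [pow_one]; exact hne)]
          rw [← hQ]; exact pow_card_eq_one'
        rw [show 4 = 2 * 2 from rfl, pow_mul]
        exact hexp Z hZc _ hgz
      set C := Subgroup.zpowers g with hC
      have hog : orderOf g = 4 := orderOf_eq_prime_pow (p := 2) (n := 1) (by rw [pow_one]; exact hg) hg4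
      have hCc : Nat.card C = 2 ^ 2 := by rw [hC, Nat.card_zpowers, hog]; norm_num
      have hidx : C.index = 2 := by
        have := C.card_mul_index; rw [hCc, hK] at this; omega
      have hZC : Z ≤ C := by
        by_contra hle
        obtain ⟨z, hz, hzC⟩ := SetLike.not_le_iff_exists.mp hle
        refine hab fun c d => ?_
        have key : ∀ w : K, ∃ v ∈ C, w = v ∨ w = v * z := fun w => by
          by_cases hw : w ∈ C
          · exact ⟨w, hw, Or.inl rfl⟩
          · refine ⟨w * z⁻¹, (Subgroup.mul_mem_iff_of_index_two hidx).mpr ?_, Or.inr (by group)⟩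
            simp [hw, hzC]
        have hzc : ∀ v, Commute z v := fun v => ((Subgroup.mem_center_iff.mp hz) v).symm
        obtain ⟨v, ⟨i, rfl⟩, hv⟩ := key c
        obtain ⟨w, ⟨j, rfl⟩, hw⟩ := key d
        have hc0 : Commute (g ^ i) (g ^ j) := Commute.zpow_zpow_self g i j
        rcases hv with rfl | rfl <;> rcases hw with rfl | rfl
        · exact hc0
        · exact hc0.mul_right ((hzc _).symm)
        · exact hc0.mul_left (hzc _)
        · exact (hc0.mul_right ((hzc _).symm)).mul_left ((hzc _).mul_right (Commute.refl z))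
      have htC : t ∉ C := fun htC => by
        obtain ⟨i, rfl⟩ := htC
        refine htZ ?_
        have h2i : (4 : ℤ) ∣ i * 2 := by
          rw [show (4 : ℤ) = ((orderOf g : ℕ) : ℤ) by rw [hog]; rfl, orderOf_dvd_iff_zpow_eq_one, zpow_mul]
          rw [show (2 : ℤ) = ((2 : ℕ) : ℤ) from rfl, zpow_natCast]
          exact ht
        obtain ⟨j, rfl⟩ : (2 : ℤ) ∣ i := by omega
        show g ^ (2 * j) ∈ Z
        rw [zpow_mul]
        refine Subgroup.zpow_mem _ ?_ j
        rw [show (2 : ℤ) = ((2 : ℕ) : ℤ) from rfl, zpow_natCast, ← QuotientGroup.eq_one_iff]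
        show QuotientGroup.mk' Z (g ^ 2) = 1
        by_contra hne
        rw [map_pow] at hne
        refine hab fun a b => ?_
        have : IsCyclic (K ⧸ Z) := isCyclic_of_orderOf_eq_card (QuotientGroup.mk' Z g) (by
          rw [hQ, orderOf_eq_prime_pow (n := 1) (by rw [pow_one]; exact hne)]
          rw [← hQ]; exact pow_card_eq_one')
        exact commutative_of_cyclic_center_quotient (QuotientGroup.mk' Z) (by rw [QuotientGroup.ker_mk']) a b
      have hCn : C.Normal := Subgroup.normal_of_index_eq_two hidx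
      -- `t` inverts `g`
      have hinv : t * g * t⁻¹ = g⁻¹ := by
        obtain ⟨i, hi⟩ := hCn.conj_mem g (Subgroup.mem_zpowers g) t
        have hi' : g ^ (i % 4) = t * g * t⁻¹ := by
          rw [show (4 : ℤ) = ((4 : ℕ) : ℤ) from rfl, ← hog, zpow_mod_orderOf]; exact hi
        have ho : orderOf (t * g * t⁻¹) = 4 := by
          rw [show t * g * t⁻¹ = MulAut.conj t g from rfl, MulEquiv.orderOf_eq, hog]
        have h40 : g ^ (4 : ℤ) = 1 := by rw [show (4 : ℤ) = ((4 : ℕ) : ℤ) from rfl, zpow_natCast, hg4]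
        have hr : i % 4 = 0 ∨ i % 4 = 1 ∨ i % 4 = 2 ∨ i % 4 = 3 := by omega
        rcases hr with h | h | h | h <;> rw [h] at hi'
        · rw [zpow_zero] at hi'; rw [← hi', orderOf_one] at ho; exact absurd ho (by norm_num)
        · exfalso
          rw [zpow_one] at hi'
          have hc : t * g = g * t := mul_inv_eq_iff_eq_mul.mp hi'.symm
          refine htZ (Subgroup.mem_center_iff.mpr fun w => ?_)
          have hgt : ∀ j : ℤ, Commute (g ^ j) t := fun j => Commute.zpow_left hc.symm j
          by_cases hw : w ∈ C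
          · obtain ⟨j, rfl⟩ := hw; exact hgt j
          · obtain ⟨j, hj⟩ : w * t ∈ C := (Subgroup.mul_mem_iff_of_index_two hidx).mpr (by simp [hw, htC])
            have hj' : g ^ j = w * t := hj
            rw [show w = g ^ j * t⁻¹ by rw [hj', mul_inv_cancel_right]]
            exact (hgt j).mul_left (Commute.refl t).inv_left
        · have h22 : (g ^ (2 : ℤ)) ^ 2 = 1 := by rw [← zpow_natCast, ← zpow_mul]; exact h40
          rw [hi'] at h22
          have := orderOf_dvd_of_pow_eq_one h22
          rw [ho] at this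
          exact absurd this (by norm_num)
        · rw [← hi', eq_inv_iff_mul_eq_one, ← zpow_add_one]; exact h40
      have hout : ∀ w : K, w ∉ C → w ^ 2 = 1 := by
        intro w hw
        obtain ⟨j, hj⟩ : w * t ∈ C := (Subgroup.mul_mem_iff_of_index_two hidx).mpr (by simp [hw, htC])
        have hj' : g ^ j = w * t := hj
        have htj : t * g ^ j * t⁻¹ = g ^ (-j) := by
          rw [show t * g ^ j * t⁻¹ = MulAut.conj t (g ^ j) from rfl, map_zpow]
          show (t * g * t⁻¹) ^ j = _
          rw [hinv, zpow_neg, inv_zpow]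
        have htt : t⁻¹ = t := inv_eq_of_mul_eq_one_right (by rw [← pow_two]; exact ht)
        rw [show w = g ^ j * t⁻¹ by rw [hj', mul_inv_cancel_right], pow_two, htt]
        calc g ^ j * t * (g ^ j * t) = g ^ j * (t * g ^ j * t) := by group
          _ = 1 := by
            conv_lhs => arg 2; arg 2; rw [← htt]
            rw [htj, ← zpow_add, add_neg_cancel, zpow_zero]
      refine hflag Z C hZchar (fun a x hx => ?_) hZC hZc hCc
      obtain ⟨j, rfl⟩ := hx
      show a (g ^ j) ∈ C
      rw [map_zpow]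
      refine C.zpow_mem ?_ j
      by_contra hag
      have := hout _ hag
      rw [← map_pow] at this
      exact hg (a.injective (this.trans (map_one a).symm))
  · have hodd : Odd p := hp'.odd_of_ne_two h2
    have hall : ∀ x : K, x ^ p = 1 := hpowmap fun a b =>
      CfsgLib.PGroup.mul_pow_odd_of_central hodd (hcomm b a) (hexp Z hZc _ (hcomm b a))
    refine Or.inr (Or.inl ⟨hodd, ⟨⟨hP, ?_, ?_⟩, hZc⟩, hall⟩)
    · refine le_antisymm (CfsgLib.PGroup.frattini_le_of (p := p) Z hcle fun x => by rw [hall]; exact Z.one_mem) ?_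
      refine le_trans ?_ (CfsgLib.PGroup.commutator_le_frattini hP)
      refine (Subgroup.eq_of_le_of_card_ge hcle ?_).ge
      rw [hZc]
      by_contra hlt
      rcases hcase (commutator K) with h | h | h | h
      · refine hab fun a b => commutatorElement_eq_one_iff_mul_comm.mp ?_
        have : ⁅a, b⁆ ∈ commutator K := Subgroup.commutator_mem_commutator (Subgroup.mem_top a) (Subgroup.mem_top b)
        rwa [Subgroup.card_eq_one.mp h, Subgroup.mem_bot] at this
      · exact hlt h.ge
      all_goals (rw [h] at hlt; exact hlt (le_self_pow hp'.one_le (by norm_num)))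
    · refine Subgroup.eq_of_le_of_card_ge hcle ?_
      rw [hZc]
      by_contra hlt
      rcases hcase (commutator K) with h | h | h | h
      · refine hab fun a b => commutatorElement_eq_one_iff_mul_comm.mp ?_
        have : ⁅a, b⁆ ∈ commutator K := Subgroup.commutator_mem_commutator (Subgroup.mem_top a) (Subgroup.mem_top b)
        rwa [Subgroup.card_eq_one.mp h, Subgroup.mem_bot] at this
      · exact hlt h.ge
      all_goals (rw [h] at hlt; exact hlt (le_self_pow hp'.one_le (by norm_num)))

end CfsgLib.FusionFlag
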