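import Cfsg.Agent.S5265
import Cfsg.Agent.Lib.Fusion.EssentialFlag
import Cfsg.Agent.Lib.Fusion.Hyperfocal

/-!
Tori of essential subgroups of index `p` in their normalizers, extension of automorphisms, and
homomorphisms invariant under the fusion system.
-/

set_option autoImplicit false

namespace CfsgLib.FusionTorus

open Cfsg Cfsg.FusionSystem CfsgLib.Fusion
open Cfsg.Agent.S5265Aux (Setting pow_move fix_of_mem_zpowers zpowers_eq)
open scoped commutatorElement

section abstract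

variable {p : ℕ} [hp : Fact p.Prime] {K : Type*} [CommGroup K] {A : Subgroup (MulAut K)} {u : MulAut K} {c : K}

omit hp in
theorem apply_zpow_move {b : MulAut K} {x z : K} (hx : b x = x * z) (hz : b z = z) (n : ℕ) :
    (b ^ n) x = x * z ^ n := pow_move hx hz n

/-- The elements exchanging the two lines. -/
theorem exists_swap (h : Setting p A u c) {a : MulAut K} (ha : a ∈ A)
    (hn : a * u * a⁻¹ ∉ Subgroup.zpowers u) {t t' : ℕ} (htt : ((t * t' : ℕ) : ZMod p) = 1) :
    ∃ W ∈ A, W c = (a c) ^ (-(t' : ℤ)) ∧ W (a c) = c ^ t ∧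
      (∀ w, u w = w → (a * u * a⁻¹) w = w → W w = w) ∧
      ∀ {M : Type*} [CommGroup M] (f : K →* M), (∀ x, f (u x) = f x) →
        (∀ x, f ((a * u * a⁻¹) x) = f x) → ∀ x, f (W x) = f x := by
  set v := a * u * a⁻¹ with hv
  set y := a c with hy
  have hyp : y ^ p = 1 := by rw [hy, ← map_pow, h.cp, map_one]
  have hvy : v y = y := h.conj_fix a
  have hvA : v ∈ A := A.mul_mem (A.mul_mem ha h.uA) (A.inv_mem ha)
  have hfo : IsOfFinOrder c := isOfFinOrder_iff_pow_eq_one.mpr ⟨p, hp.out.pos, h.cp⟩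
  have hfy : IsOfFinOrder y := isOfFinOrder_iff_pow_eq_one.mpr ⟨p, hp.out.pos, hyp⟩
  have g1 := zpowers_eq h.cp (h.move y) fun e => h.key2 ha hn (inv_mul_eq_one.mp e).symm
  have g2 := zpowers_eq hyp (h.conj_move a c) fun e => h.key ha hn (inv_mul_eq_one.mp e).symm
  obtain ⟨z1, hz1⟩ := Subgroup.mem_zpowers_iff.mp (h.move y)
  obtain ⟨z2, hz2⟩ := Subgroup.mem_zpowers_iff.mp (h.conj_move a c)
  have f1 : u (y⁻¹ * u y) = y⁻¹ * u y := by rw [← hz1, map_zpow, h.uc]
  have f2 : v (c⁻¹ * v c) = c⁻¹ * v c := by rw [← hz2, map_zpow, hvy]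
  have o1 : IsOfFinOrder (y⁻¹ * u y) := hz1 ▸ hfo.zpow
  have o2 : IsOfFinOrder (c⁻¹ * v c) := hz2 ▸ hfy.zpow
  obtain ⟨i, hi⟩ := o1.mem_powers_iff_mem_zpowers.mpr (g1.ge (Subgroup.mem_zpowers c))
  obtain ⟨j, hj⟩ := o2.mem_powers_iff_mem_zpowers.mpr (g2.ge (Subgroup.mem_zpowers y))
  have hi' : (y⁻¹ * u y) ^ i = c := hi
  have hj' : (c⁻¹ * v c) ^ j = y := hj
  have hu1c : (u ^ i) c = c := fix_of_mem_zpowers (Subgroup.npow_mem_zpowers u i) h.uc
  have hu1 : (u ^ i) y = y * c := by rw [pow_move (mul_inv_cancel_left y (u y)).symm f1 i, hi']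
  have hv1y : (v ^ j) y = y := fix_of_mem_zpowers (Subgroup.npow_mem_zpowers v j) hvy
  have hv1 : (v ^ j) c = c * y := by rw [pow_move (mul_inv_cancel_left c (v c)).symm f2 j, hj']
  set e := (u ^ i) ^ t with he
  set f' := ((v ^ j) ^ t')⁻¹ with hf'
  have hec : e c = c := fix_of_mem_zpowers (Subgroup.npow_mem_zpowers _ t) hu1c
  have hey : e y = y * c ^ t := pow_move hu1 hu1c t
  have hfy : f' y = y := fix_of_mem_zpowers (inv_mem (Subgroup.npow_mem_zpowers _ t')) hv1y
  have hfc : f' c = c * y ^ (-(t' : ℤ)) := by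
    have h1 : ((v ^ j) ^ t') c = c * y ^ t' := pow_move hv1 hv1y t'
    apply ((v ^ j) ^ t').injective
    rw [hf', MulAut.apply_inv_self, map_mul, h1, map_zpow,
      show ((v ^ j) ^ t') y = y from fix_of_mem_zpowers (Subgroup.npow_mem_zpowers _ t') hv1y, zpow_neg,
      zpow_natCast, mul_inv_cancel_right]
  have hcp : c ^ ((t : ℤ) * -(t' : ℤ)) = c⁻¹ := by
    obtain ⟨k, hk⟩ := (ZMod.intCast_zmod_eq_zero_iff_dvd ((t : ℤ) * t' - 1) p).mp (by
      push_cast at htt ⊢; rw [htt, sub_self])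
    rw [show (t : ℤ) * -(t' : ℤ) = -1 + (p : ℤ) * -k by linear_combination -hk, zpow_add, zpow_mul,
      zpow_natCast, h.cp, one_zpow, mul_one, zpow_neg_one]
  have hypow : y ^ (-(t' : ℤ) * t) = y⁻¹ := by
    obtain ⟨k, hk⟩ := (ZMod.intCast_zmod_eq_zero_iff_dvd ((t : ℤ) * t' - 1) p).mp (by
      push_cast at htt ⊢; rw [htt, sub_self])
    rw [show -(t' : ℤ) * t = -1 + (p : ℤ) * -k by linear_combination -hk, zpow_add, zpow_mul,
      zpow_natCast, hyp, one_zpow, mul_one, zpow_neg_one]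
  refine ⟨e * f' * e, A.mul_mem (A.mul_mem (A.pow_mem (A.pow_mem h.uA i) t)
    (A.inv_mem (A.pow_mem (A.pow_mem hvA j) t'))) (A.pow_mem (A.pow_mem h.uA i) t), ?_, ?_, fun w h1 h2 => ?_,
    fun {M} _ f hfu hfv x => ?_⟩
  · rw [MulAut.mul_apply, MulAut.mul_apply, hec, hfc, map_mul, hec, map_zpow, hey, mul_zpow, ← zpow_natCast c t,
      ← zpow_mul, hcp, mul_comm (y ^ (-(t' : ℤ))), mul_inv_cancel_left]
  · rw [MulAut.mul_apply, MulAut.mul_apply, hey, map_mul, map_pow, hfy, hfc, mul_pow, ← zpow_natCast (y ^ (-(t' : ℤ))) t,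
      ← zpow_mul, hypow, mul_left_comm, mul_inv_cancel, mul_one, map_pow, hec]
  · let St := MulAction.stabilizer (MulAut K) w
    exact St.mul_mem (St.mul_mem (St.pow_mem (St.pow_mem h1 i) t) (St.inv_mem (St.pow_mem (St.pow_mem h2 j) t')))
      (St.pow_mem (St.pow_mem h1 i) t)
  · let St : Subgroup (MulAut K) :=
      { carrier := {b | ∀ x, f (b x) = f x}
        one_mem' := fun _ => rfl
        mul_mem' := fun {b b'} hb hb' x => by rw [MulAut.mul_apply, hb, hb']
        inv_mem' := fun {b} hb x => by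
          have := hb (b⁻¹ x)
          rw [MulAut.apply_inv_self] at this
          exact this.symm }
    exact St.mul_mem (St.mul_mem (St.pow_mem (St.pow_mem hfu i) t) (St.inv_mem (St.pow_mem (St.pow_mem hfv j) t')))
      (St.pow_mem (St.pow_mem hfu i) t) x

theorem pred_sq (p : ℕ) [hp : Fact p.Prime] : (((p - 1) * (p - 1) : ℕ) : ZMod p) = 1 := by
  rw [Nat.cast_mul, Nat.cast_sub hp.out.one_le, ZMod.natCast_self, Nat.cast_one]; ring

theorem pow_pred {y : K} (hy : y ^ p = 1) : y ^ (p - 1) = y⁻¹ := by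
  refine eq_inv_of_mul_eq_one_left ?_
  rw [← pow_succ, Nat.sub_add_cancel hp.out.one_le, hy]

/-- The element `c ↦ a c ↦ c⁻¹`. -/
theorem exists_turn (h : Setting p A u c) {a : MulAut K} (ha : a ∈ A)
    (hn : a * u * a⁻¹ ∉ Subgroup.zpowers u) :
    ∃ g ∈ A, g c = a c ∧ g (a c) = c⁻¹ ∧ (∀ w, u w = w → (a * u * a⁻¹) w = w → g w = w) ∧ ∀ {M : Type*} [CommGroup M] (f : K →* M), (∀ x, f (u x) = f x) →
      (∀ x, f ((a * u * a⁻¹) x) = f x) → ∀ x, f (g x) = f x := by
  obtain ⟨W, hW, h1, h2, h4, h3⟩ := exists_swap h ha hn (pred_sq p)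
  refine ⟨W, hW, ?_, by rw [h2, pow_pred h.cp], h4, @fun M _ f hu hv x => h3 f hu hv x⟩
  rw [h1, zpow_neg, zpow_natCast, pow_pred (by rw [← map_pow, h.cp, map_one]), inv_inv]

theorem conj_mem_of_line (h : Setting p A u c) {d : MulAut K} (hd : d ∈ A) (hdc : d c ∈ Subgroup.zpowers c) :
    d * u * d⁻¹ ∈ Subgroup.zpowers u := by
  refine h.mem_of_stab (A.mul_mem (A.mul_mem hd h.uA) (A.inv_mem hd)) ?_ fun x =>
    Subgroup.zpowers_le.mpr hdc (h.conj_move d x)
  have h1 := h.conj_fix d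
  have hne : d c ≠ 1 := fun e => h.c1 ((MulEquiv.map_eq_one_iff d).mp e)
  obtain ⟨i, hi⟩ := Subgroup.mem_zpowers_iff.mp ((zpowers_eq h.cp hdc hne).ge (Subgroup.mem_zpowers c))
  rw [← hi, map_zpow, h1]

/-- The torus. -/
theorem exists_torus_abstract (h : Setting p A u c) : ∃ y : K, y ^ p = 1 ∧ u y ≠ y ∧
    ∀ t t' : ℕ, ((t * t' : ℕ) : ZMod p) = 1 → ∃ δ ∈ A, δ * u * δ⁻¹ ∈ Subgroup.zpowers u ∧ δ c = c ^ t ∧
      δ y = y ^ t' ∧ ∀ x, u x = x → ∃ w, ∃ i : ℤ, δ w = w ∧ u w = w ∧ x = w * c ^ i := by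
  obtain ⟨a, ha, hn⟩ := h.notNormal
  refine ⟨a c, by rw [← map_pow, h.cp, map_one], h.key2 ha hn, fun t t' htt => ?_⟩
  obtain ⟨W, hW, w1, w2, w3, -⟩ := exists_swap.{_, 0} h ha hn htt
  obtain ⟨g, hg, g1, g2, g3, -⟩ := exists_turn.{_, 0} h ha hn
  have hδc : (W * g) c = c ^ t := by rw [MulAut.mul_apply, g1, w2]
  refine ⟨W * g, A.mul_mem hW hg, conj_mem_of_line h (A.mul_mem hW hg)
    (hδc ▸ Subgroup.npow_mem_zpowers c t), hδc, ?_, fun x hx => ?_⟩
  · rw [MulAut.mul_apply, g2, map_inv, w1, zpow_neg, inv_inv, zpow_natCast]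
  · obtain ⟨w, i, h1, h2, h3⟩ := h.decompZ ha hn hx
    exact ⟨w, i, by rw [MulAut.mul_apply, g3 w h1 h2, w3 w h1 h2], h1, h3⟩

/-- A homomorphism killing `c` and kept by the elements fixing the line of `c` is invariant. -/
theorem invariant_abstract (h : Setting p A u c) (hp2 : p ≠ 2) {M : Type*} [CommGroup M] (f : K →* M) (hfc : f c = 1)
    (hN : ∀ d ∈ A, d * u * d⁻¹ ∈ Subgroup.zpowers u → ∀ x, f (d x) = f x) : ∀ a ∈ A, ∀ x, f (a x) = f x := by
  intro a ha
  by_cases hn : a * u * a⁻¹ ∈ Subgroup.zpowers u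
  · exact hN a ha hn
  have hu : ∀ x, f (u x) = f x := hN u h.uA (by simp)
  obtain ⟨g, hg, g1, g2, -, g3⟩ := exists_turn h ha hn
  have hrc : (g * g) c = c⁻¹ := by rw [MulAut.mul_apply, g1, g2]
  have hry : (g * g) (a c) = (a c)⁻¹ := by rw [MulAut.mul_apply, g2, map_inv, g1]
  have hy1 : f (a c) = 1 := by
    have h1 := hN (g * g) (A.mul_mem hg hg) (conj_mem_of_line h (A.mul_mem hg hg)
      (hrc ▸ Subgroup.inv_mem _ (Subgroup.mem_zpowers c))) (a c)
    rw [hry, map_inv, inv_eq_iff_mul_eq_one, ← pow_two] at h1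
    have h2 : f (a c) ^ p = 1 := by rw [← map_pow, ← map_pow, h.cp, map_one, map_one]
    by_contra hne
    exact hp2 ((Nat.prime_dvd_prime_iff_eq hp.out Nat.prime_two).mp
      (orderOf_eq_prime h2 hne ▸ orderOf_dvd_of_pow_eq_one h1))
  have hv : ∀ x, f ((a * u * a⁻¹) x) = f x := fun x => by
    obtain ⟨i, hi⟩ := h.conj_move a x
    have h1 : f (x⁻¹ * (a * u * a⁻¹) x) = 1 := by rw [← hi, map_zpow, hy1, one_zpow]
    rw [map_mul, map_inv, inv_mul_eq_one] at h1
    exact h1.symm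
  intro x
  have hgi : (g⁻¹ * a) c = c := by rw [MulAut.mul_apply, ← g1, MulAut.inv_apply_self]
  have h1 := hN (g⁻¹ * a) (A.mul_mem (A.inv_mem hg) ha) (conj_mem_of_line h (A.mul_mem (A.inv_mem hg) ha)
    (by rw [hgi]; exact Subgroup.mem_zpowers c)) x
  rw [← h1, ← g3 f hu hv ((g⁻¹ * a) x), MulAut.mul_apply, MulAut.apply_inv_self]

end abstract

section fusion

variable {Ω : Type*} [Group Ω] {S : Subgroup Ω} [Finite S] {p : ℕ} [hp : Fact p.Prime] {F : FusionSystem S}

/-- Automorphisms of a subgroup that is not essential and has index `p` in its normalizer extend to it. -/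
theorem exists_extend_step (hS : IsPGroup p S) (hF : F.IsSaturated p) {P : Subgroup Ω} (hP : F.IsFullyNormalized P)
    (hlt : P < S) (hne : ¬ F.IsEssential p P) (hidx : Nat.card (normalizerIn S P) = p * Nat.card P)
    {α : MulAut P} (hα : α ∈ F.autGroup P) :
    ∃ β ∈ F.autGroup (normalizerIn S P),
      ∀ x : P, ((β ⟨x, le_normalizerIn hP.1 x.2⟩ : normalizerIn S P) : Ω) = ((α x : P) : Ω) := by
  have hfin : Finite (normalizerIn S P) := finite_of_le normalizerIn_le
  have heq : extGroup F P = F.autGroup P := by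
    by_contra hne'
    have := normal_inn_subgroupOf F P
    obtain ⟨h₁, h₂⟩ := embedded_of_extGroup_ne hS hF hlt hP hne'
    exact hne ⟨h₁, hP, normal_inn_subgroupOf F P, _, h₂⟩
  let C : Subgroup (MulAut P) :=
    { carrier := {α | ∃ β ∈ F.autGroup (normalizerIn S P),
        ∀ x : P, ((β ⟨x, le_normalizerIn hP.1 x.2⟩ : normalizerIn S P) : Ω) = ((α x : P) : Ω)}
      one_mem' := ⟨1, Subgroup.one_mem _, fun x => rfl⟩
      mul_mem' := by
        rintro a a' ⟨b, hb, hbe⟩ ⟨b', hb', hbe'⟩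
        refine ⟨b * b', Subgroup.mul_mem _ hb hb', fun x => ?_⟩
        rw [MulAut.mul_apply, MulAut.mul_apply,
          show b' ⟨x, le_normalizerIn hP.1 x.2⟩ = ⟨a' x, le_normalizerIn hP.1 (a' x).2⟩ from Subtype.ext (hbe' x), hbe]
      inv_mem' := by
        rintro a ⟨b, hb, hbe⟩
        refine ⟨b⁻¹, Subgroup.inv_mem _ hb, fun x => ?_⟩
        have h1 := hbe (a⁻¹ x)
        rw [MulAut.apply_inv_self] at h1
        have h2 : b ⟨_, le_normalizerIn hP.1 (a⁻¹ x).2⟩ = ⟨x, le_normalizerIn hP.1 x.2⟩ := Subtype.ext h1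
        rw [← h2, MulAut.inv_apply_self] }
  suffices extGroup F P ≤ C from this (heq.ge hα)
  rw [extGroup, Subgroup.closure_le]
  rintro a ⟨Q, hPQ, φ, hφ, hφe⟩
  have hQS : Q ≤ S := le_S hφ
  have hN : normalizerIn S P ≤ Q := by
    have h1 := lt_normalizerIn hS hQS hPQ
    have h2 : normalizerIn Q P ≤ normalizerIn S P := inf_le_inf_right _ hQS
    have hfin' : Finite (normalizerIn Q P) := finite_of_le (h2.trans normalizerIn_le)
    refine (eq_of_le_of_card_le h2 ?_).symm.le.trans inf_le_left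
    rw [hidx]
    have hfinP : Finite P := finite_of_le hP.1
    have h3 : p ≤ P.relIndex (normalizerIn Q P) :=
      Cfsg.Agent.S5265Aux.prime_le_relIndex hS (h2.trans normalizerIn_le) h1
    have h4 := Subgroup.card_mul_index (P.subgroupOf (normalizerIn Q P))
    rw [Nat.card_congr (Subgroup.subgroupOfEquivOfLe h1.le).toEquiv] at h4
    rw [← h4, mul_comm p]
    exact Nat.mul_le_mul_left _ h3
  obtain ⟨χ, hχ, hχe⟩ : ∃ χ ∈ F.Hom (normalizerIn S P), ∀ x, χ x = φ (Subgroup.inclusion hN x) :=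
    ⟨_, restrict_mem hN hφ, fun _ => rfl⟩
  have hr : χ.range = normalizerIn S P := by
    refine range_eq_of_card_le hχ normalizerIn_le (fun x => ⟨apply_mem_S hχ x, ?_⟩) le_rfl
    have hfinP : Finite P := finite_of_le hP.1
    refine mem_normalizer_of_forall fun y hy => ?_
    set y' := a⁻¹ ⟨y, hy⟩
    have hy' : φ (Subgroup.inclusion hPQ.le y') = y := by rw [hφe, MulAut.apply_inv_self]
    have hx : (x : Ω) * y' * (x : Ω)⁻¹ ∈ P := (Subgroup.mem_normalizer_iff.mp x.2.2 _).mp y'.2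
    have h5 := hφe ⟨_, hx⟩
    rw [show φ (Subgroup.inclusion hPQ.le ⟨_, hx⟩) = χ x * y * (χ x)⁻¹ by
      rw [hχe, ← hy', ← map_inv, ← map_mul, ← map_mul]; exact congrArg φ (Subtype.ext rfl)] at h5
    rw [h5]
    exact Subtype.mem _
  obtain ⟨β, hβ, hβe⟩ := exists_aut hχ hr
  refine ⟨β, hβ, fun x => ?_⟩
  rw [hβe, hχe, ← hφe]
  exact congrArg φ (Subtype.ext rfl)

/-- Automorphisms normalising `Aut_S(P)` extend to `N_S(P)`. -/
theorem exists_extend_normalizing (hS : IsPGroup p S) (hF : F.IsSaturated p) {P : Subgroup Ω}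
    (hP : F.IsFullyNormalized P) {α : MulAut P} (hα : α ∈ F.autGroup P)
    (hn : ∀ a ∈ autInducedBy S P, α * a * α⁻¹ ∈ autInducedBy S P) :
    ∃ β ∈ F.autGroup (normalizerIn S P),
      ∀ x : P, ((β ⟨x, le_normalizerIn hP.1 x.2⟩ : normalizerIn S P) : Ω) = ((α x : P) : Ω) := by
  have hfin : Finite (normalizerIn S P) := finite_of_le normalizerIn_le
  have hR := (fullyNormalized_good hS hF hP).2
  obtain ⟨φ, hφ, hφr, hφe⟩ := exists_map_of_mem_autGroup hP.1 hα
  have hN : normalizerIn S P ≤ extender S P φ := fun g hg => by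
    obtain ⟨d, hd, hde⟩ := exists_autInducedBy (K := S) hg.1 hg.2
    obtain ⟨g', hg', hge⟩ := mem_autInducedBy.mp (hn d hd)
    refine mem_extender.mpr ⟨hg.1, hg.2, g', hg', fun x hx => ?_⟩
    rw [hφe, hφe, show (⟨g * (x : Ω) * g⁻¹, hx⟩ : P) = d x from Subtype.ext (hde x).symm, ← hge]
    simp
  obtain ⟨ψ, hψ, hψe⟩ := exists_extension hR hφ hφr (le_normalizerIn hP.1) hN
  have hr : ψ.range = normalizerIn S P := range_eq_of_card_le hψ normalizerIn_le
    (fun x => extension_mem_normalizerIn hφ hψ hφr (le_normalizerIn hP.1) hψe x x.2.2) le_rfl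
  obtain ⟨β, hβ, hβe⟩ := exists_aut hψ hr
  exact ⟨β, hβ, fun x => by rw [hβe, hψe, hφe]⟩

/-- An essential subgroup has no series of subgroups invariant under `Aut_F` with steps of index `p`. -/
theorem not_flag' (hS : IsPGroup p S) {H : Subgroup Ω} (hH : F.IsEssential p H) (n : ℕ) (L : ℕ → Subgroup H)
    (h0 : L 0 = ⊥) (hn : L n = ⊤) (hinv : ∀ i ≤ n, ∀ a ∈ F.autGroup H, ∀ x ∈ L i, a x ∈ L i)
    (hmono : ∀ i < n, L i ≤ L (i + 1)) (hcard : ∀ i < n, Nat.card (L (i + 1)) = p * Nat.card (L i)) :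
    False := by
  obtain ⟨⟨hHS, -⟩, -, hN, E₀, hE₀⟩ := hH
  have : Finite H := finite_of_le hHS
  have : Finite (MulAut H) := finite_mulAut hHS
  set A := F.autGroup H
  set I := (Inn H).subgroupOf A
  let π := QuotientGroup.mk' I
  obtain ⟨R⟩ : Nonempty (Sylow p A) := Sylow.nonempty
  obtain ⟨u, huR, huI⟩ : ∃ u ∈ R.toSubgroup, u ∉ I := by
    by_contra! h
    have h1 : I.index ∣ R.index := Subgroup.index_dvd_of_le h
    exact R.not_dvd_index (dvd_trans (by rw [Subgroup.index_eq_card]; exact hE₀.1) h1)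
  obtain ⟨k, hk⟩ := R.2 ⟨u, huR⟩
  have hk' : (u : MulAut H) ^ p ^ k = 1 := congrArg (fun t : R.toSubgroup => ((t : A) : MulAut H)) hk
  have hnormal : ∀ i ≤ n, (L i).Normal := fun i hi =>
    ⟨fun x hx g => hinv i hi (MulAut.conj g) (inn_le_autGroup hHS (mem_inn.mpr ⟨g, fun y => rfl⟩)) x hx⟩
  have hmem : (u : MulAut H) ∈ seriesStabilizer F H n L hinv := by
    refine mem_seriesStabilizer.mpr ⟨u.2, fun i hi => ?_⟩
    have := hnormal i hi.le
    exact CfsgLib.FusionFlag.stabilizes_step (hmono i hi) (hcard i hi) hk' (hinv (i + 1) hi _ u.2)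
      (hinv i hi.le _ u.2)
  set N := (seriesStabilizer F H n L hinv).subgroupOf A with hNdef
  have hNn : N.Normal := ⟨fun a ha b => seriesStabilizer_conj_mem (hinv := hinv) ha b.2⟩
  have hNp : IsPGroup p N := by
    intro a
    obtain ⟨l, hl⟩ := exists_pow_eq_one_of_stabilizes (hS.to_le hHS) L hmono hn
      (α := ((a : A) : MulAut H)) ⟨0, fun x hx => by
        rw [h0, Subgroup.mem_bot] at hx
        simp [hx]⟩ ((mem_seriesStabilizer (a := ((a : A) : MulAut H)) (hinv := hinv)).mp a.2).2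
    exact ⟨l, Subtype.ext (Subtype.ext hl)⟩
  have hcore := CfsgLib.Fusion.pCore_eq_bot_of_embedded hE₀
  have := (CfsgLib.PCore.le_pCore (hNn.map π (QuotientGroup.mk'_surjective _)) (hNp.map π)).trans hcore.le
  exact huI ((QuotientGroup.eq_one_iff _).mp (Subgroup.mem_bot.mp (this ⟨u, hmem, rfl⟩)))

/-- The induced automorphism of the abelianization. -/
def act (E : Type*) [Group E] : MulAut E →* MulAut (Abelianization E) where
  toFun α := α.abelianizationCongr
  map_one' := abelianizationCongr_refl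
  map_mul' a b := (abelianizationCongr_trans b a).symm

theorem act_of {E : Type*} [Group E] (α : MulAut E) (x : E) :
    act E α (Abelianization.of x) = Abelianization.of (α x) := rfl

theorem of_surjective (E : Type*) [Group E] : Function.Surjective (Abelianization.of : E →* Abelianization E) :=
  QuotientGroup.mk'_surjective _

/-- An essential subgroup of class at most two with a transvection of its abelianization. -/
structure EssTrans (F : FusionSystem S) (p : ℕ) (E : Subgroup Ω) (g : Ω) (c : E) : Prop where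
  ess : F.IsEssential p E
  idx : Nat.card (normalizerIn S E) = p * Nat.card E
  gN : g ∈ normalizerIn S E
  gE : g ∉ E
  cls : commutator E ≤ Subgroup.center E
  hc : Abelianization.of c ^ p = 1
  move : ∀ x y : E, (y : Ω) = g * x * g⁻¹ → Abelianization.of (x⁻¹ * y) ∈ Subgroup.zpowers (Abelianization.of c)

variable {E : Subgroup Ω} {g : Ω} {c : E}

theorem kernel_act_le (hess : F.IsEssential p E) (hcls : commutator E ≤ Subgroup.center E) (hS : IsPGroup p S) :
    F.autGroup E ⊓ (act E).ker ≤ Inn E := by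
  have hES := hess.1.1
  have : Finite E := finite_of_le hES
  refine le_inn_of_radical (radical_of_essential hess hS) inf_le_left ?_ fun a ha b hb =>
    ⟨Subgroup.mul_mem _ (Subgroup.mul_mem _ hb ha.1) (Subgroup.inv_mem _ hb),
      MonoidHom.mem_ker.mpr (by rw [map_mul, map_mul, map_inv, (MonoidHom.mem_ker.mp ha.2), mul_one, mul_inv_cancel])⟩
  intro a
  have hmem : ∀ x : E, x⁻¹ * (a : MulAut E) x ∈ commutator E := fun x => by
    rw [← Abelianization.ker_of, MonoidHom.mem_ker, map_mul, map_inv, ← act_of, MonoidHom.mem_ker.mp a.2.2,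
      MulAut.one_apply, inv_mul_cancel]
  have hfix : ∀ x ∈ commutator E, (a : MulAut E) x = x := by
    intro x hx
    have : commutator E ≤ MonoidHom.eqLocus (a : MulAut E).toMonoidHom (MonoidHom.id E) := by
      rw [commutator_def, Subgroup.commutator_le]
      intro y _ z _
      show (a : MulAut E) ⁅y, z⁆ = ⁅y, z⁆
      obtain ⟨d, hd, hdy⟩ : ∃ d ∈ Subgroup.center E, (a : MulAut E) y = y * d :=
        ⟨_, hcls (hmem y), (mul_inv_cancel_left _ _).symm⟩
      obtain ⟨e, he, hez⟩ : ∃ e ∈ Subgroup.center E, (a : MulAut E) z = z * e :=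
        ⟨_, hcls (hmem z), (mul_inv_cancel_left _ _).symm⟩
      have hd' : ∀ w, Commute d w := fun w => (Subgroup.mem_center_iff.mp hd w).symm
      have he' : ∀ w, Commute e w := fun w => (Subgroup.mem_center_iff.mp he w).symm
      rw [map_commutatorElement, hdy, hez, commutatorElement_def, commutatorElement_def, mul_inv_rev, mul_inv_rev]
      calc y * d * (z * e) * (d⁻¹ * y⁻¹) * (e⁻¹ * z⁻¹) = y * (d * (z * e) * d⁻¹) * (y⁻¹ * e⁻¹) * z⁻¹ := by group
        _ = y * (z * e) * (y⁻¹ * e⁻¹) * z⁻¹ := by rw [(hd' _).eq, mul_inv_cancel_right]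
        _ = y * z * (e * y⁻¹ * e⁻¹) * z⁻¹ := by group
        _ = _ := by rw [(he' _).eq, mul_inv_cancel_right]
    exact this hx
  obtain ⟨k, hk⟩ := exists_pow_eq_one_of_stabilizes (hS.to_le hES) (n := 2)
    (fun i => if i = 0 then (⊥ : Subgroup E) else if i = 1 then commutator E else ⊤)
    (fun i hi => by interval_cases i <;> simp) rfl (α := (a : MulAut E))
    ⟨0, fun x hx => by simp only [↓reduceIte, Subgroup.mem_bot] at hx; simp [hx]⟩
    (fun i hi x hx => by
      interval_cases i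
      · simp only [↓reduceIte, zero_add, one_ne_zero] at hx ⊢
        rw [hfix x hx, inv_mul_cancel]
        exact Subgroup.one_mem _
      · simp only [↓reduceIte, one_ne_zero]
        exact hmem x)
  exact ⟨k, Subtype.ext hk⟩

theorem EssTrans.kernel_le (h : EssTrans F p E g c) (hS : IsPGroup p S) :
    F.autGroup E ⊓ (act E).ker ≤ Inn E := kernel_act_le h.ess h.cls hS

theorem EssTrans.exists_setting (h : EssTrans F p E g c) (hS : IsPGroup p S) (hF : F.IsSaturated p) :
    ∃ cg ∈ autInducedBy S E, (∀ x : E, ((cg x : E) : Ω) = g * x * g⁻¹) ∧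
      Setting p ((F.autGroup E).map (act E)) (act E cg) (Abelianization.of c) ∧
      ∀ α ∈ F.autGroup E, act E α * act E cg * (act E α)⁻¹ ∈ Subgroup.zpowers (act E cg) →
        ∀ a ∈ autInducedBy S E, α * a * α⁻¹ ∈ autInducedBy S E := by
  have hES := h.ess.1.1
  have : Finite E := finite_of_le hES
  have : Finite (MulAut E) := finite_mulAut hES
  have hfin : Finite (normalizerIn S E) := finite_of_le normalizerIn_le
  obtain ⟨hA, -⟩ := fullyNormalized_good hS hF h.ess.2.1
  obtain ⟨cg, hcgI, hcg⟩ := exists_autInducedBy (K := S) h.gN.1 h.gN.2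
  have hcgA : cg ∈ F.autGroup E := autInducedBy_le_autGroup hES hcgI
  have hIker : Inn E ≤ (act E).ker := fun a ha => by
    obtain ⟨z, hz⟩ := mem_inn.mp ha
    refine MonoidHom.mem_ker.mpr (MulEquiv.ext fun q => ?_)
    obtain ⟨x, rfl⟩ := of_surjective E q
    rw [act_of, hz, map_mul, map_mul, map_inv, MulAut.one_apply, mul_comm (Abelianization.of z),
      mul_inv_cancel_right]
  have hInd : ∀ a ∈ autInducedBy S E, act E a ∈ Subgroup.zpowers (act E cg) := by
    intro a ha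
    obtain ⟨s, hs, hse⟩ := mem_autInducedBy.mp ha
    have hsN : s ∈ normalizerIn S E := ⟨hs, mem_normalizer_of_aut hse⟩
    set N := normalizerIn S E
    have hn : (E.subgroupOf N).Normal := ⟨fun n hn t => (Subgroup.mem_normalizer_iff.mp t.2.2 n).mp hn⟩
    have hq : Nat.card (N ⧸ E.subgroupOf N) = p := by
      have h4 := Subgroup.card_mul_index (E.subgroupOf N)
      rw [Nat.card_congr (Subgroup.subgroupOfEquivOfLe (le_normalizerIn hES)).toEquiv, h.idx, mul_comm p] at h4
      rw [← Subgroup.index_eq_card]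
      exact Nat.eq_of_mul_eq_mul_left Nat.card_pos h4
    obtain ⟨i, hi⟩ := mem_zpowers_of_prime_card (p := p) (g := ((⟨g, h.gN⟩ : N) : N ⧸ E.subgroupOf N))
      (g' := ((⟨s, hsN⟩ : N) : N ⧸ E.subgroupOf N)) hq
      fun e => h.gE (Subgroup.mem_subgroupOf.mp ((QuotientGroup.eq_one_iff _).mp e))
    have hi' : ((⟨g, h.gN⟩ : N) ^ i)⁻¹ * ⟨s, hsN⟩ ∈ E.subgroupOf N :=
      QuotientGroup.eq.mp (by rw [QuotientGroup.mk_zpow]; exact hi)
    have hz : (g ^ i)⁻¹ * s ∈ E := by simpa [Subgroup.mem_subgroupOf] using hi'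
    have e1 : a = cg ^ i * MulAut.conj ⟨_, hz⟩ := by
      have hp1 : cg = E.normalizerMonoidHom ⟨g, h.gN.2⟩ := MulEquiv.ext fun x => Subtype.ext (hcg x)
      rw [hp1, ← map_zpow]
      refine MulEquiv.ext fun x => Subtype.ext ?_
      rw [hse]
      show s * x * s⁻¹ = g ^ i * ((g ^ i)⁻¹ * s * x * ((g ^ i)⁻¹ * s)⁻¹) * (g ^ i)⁻¹
      group
    rw [e1, map_mul, map_zpow, MonoidHom.mem_ker.mp (hIker (show MulAut.conj (⟨_, hz⟩ : E) ∈ Inn E from mem_inn.mpr ⟨⟨_, hz⟩, fun _ => rfl⟩)),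
      mul_one]
    exact Subgroup.zpow_mem _ (Subgroup.mem_zpowers _) i
  -- a subgroup whose image lies in `⟨u⟩` and is normalised by `Aut_F(E)` is inner
  have hsmall : ∀ H : Subgroup (MulAut E), H ≤ F.autGroup E → H.map (act E) ≤ Subgroup.zpowers (act E cg) →
      (∀ a ∈ H, ∀ b ∈ F.autGroup E, b * a * b⁻¹ ∈ H) → H ≤ Inn E := by
    intro H hH hHm hn
    refine le_inn_of_radical (radical_of_essential h.ess hS) hH ?_ hn
    intro a
    obtain ⟨k, hk⟩ := isPGroup_autInducedBy (p := p) hS E ⟨cg, hcgI⟩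
    obtain ⟨i, hi⟩ := hHm ⟨a, a.2, rfl⟩
    have hker : (a : MulAut E) ^ p ^ k ∈ F.autGroup E ⊓ (act E).ker := by
      refine ⟨Subgroup.pow_mem _ (hH a.2) _, MonoidHom.mem_ker.mpr ?_⟩
      rw [map_pow, ← hi, ← zpow_natCast (act E cg ^ i), ← zpow_mul, mul_comm, zpow_mul, zpow_natCast, ← map_pow,
        show cg ^ p ^ k = 1 from congrArg Subtype.val hk, map_one, one_zpow]
    have hInnp : IsPGroup p (Inn E) := by
      rw [inn_eq_autInducedBy]
      exact (isPGroup_autInducedBy hS E).to_le (autInducedBy_mono hES E)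
    obtain ⟨l, hl⟩ := hInnp ⟨_, h.kernel_le hS hker⟩
    refine ⟨k + l, Subtype.ext ?_⟩
    have hl' := congrArg Subtype.val hl
    rw [SubgroupClass.coe_pow, Subgroup.coe_one] at hl' ⊢
    rwa [pow_add, pow_mul]
  have hune : act E cg ≠ 1 := fun e => h.gE ((mem_inn_iff_mem hES (IsCentric.centralizerIn_le' h.ess.1) h.gN.1 hcg).mp
    (h.kernel_le hS ⟨hcgA, MonoidHom.mem_ker.mpr e⟩))
  set u := act E cg
  set cb := Abelianization.of c
  have hmove : ∀ q, q⁻¹ * u q ∈ Subgroup.zpowers cb := fun q => by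
    obtain ⟨x, rfl⟩ := of_surjective E q
    rw [act_of, ← map_inv, ← map_mul]
    exact h.move x _ (hcg x)
  have hc1 : cb ≠ 1 := fun e => hune (MulEquiv.ext fun q => by
    have := hmove q
    rw [e, Subgroup.zpowers_one_eq_bot, Subgroup.mem_bot, inv_mul_eq_one] at this
    exact this.symm)
  have : Finite (Abelianization E) := Finite.of_surjective _ (of_surjective E)
  have hKp : IsPGroup p (Abelianization E) := (hS.to_le hES).of_surjective _ (of_surjective E)
  have huc : u cb = cb := by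
    obtain ⟨k, hk⟩ := isPGroup_autInducedBy (p := p) hS E ⟨cg, hcgI⟩
    have hk' : u ^ p ^ k = 1 := by rw [← map_pow, show cg ^ p ^ k = 1 from congrArg Subtype.val hk, map_one]
    have hinv : ∀ q ∈ Subgroup.zpowers cb, u q ∈ Subgroup.zpowers cb := fun q hq => by
      have := Subgroup.mul_mem _ hq (hmove q)
      rwa [mul_inv_cancel_left] at this
    have h1 := CfsgLib.FusionFlag.stabilizes_step (p := p) (K := (⊥ : Subgroup (Abelianization E))) bot_le
      (by rw [Nat.card_zpowers, orderOf_eq_prime h.hc hc1, Subgroup.card_bot, mul_one]) hk' hinv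
      (fun q hq => by simp_all) cb (Subgroup.mem_zpowers cb)
    exact (inv_mul_eq_one.mp (Subgroup.mem_bot.mp h1)).symm
  refine ⟨cg, hcgI, hcg, ⟨hKp, ⟨cg, hcgA, rfl⟩, hc1, h.hc, huc, hune, hmove, ?_, ?_⟩, ?_⟩
  · intro H hH hHp huH
    let H' := F.autGroup E ⊓ H.comap (act E)
    have hH'p : IsPGroup p H' := by
      intro a
      obtain ⟨k, hk⟩ := hHp ⟨_, a.2.2⟩
      have hker : (a : MulAut E) ^ p ^ k ∈ F.autGroup E ⊓ (act E).ker :=
        ⟨Subgroup.pow_mem _ a.2.1 _, MonoidHom.mem_ker.mpr (by rw [map_pow]; exact congrArg Subtype.val hk)⟩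
      have hInnp : IsPGroup p (Inn E) := by
        rw [inn_eq_autInducedBy]
        exact (isPGroup_autInducedBy hS E).to_le (autInducedBy_mono hES E)
      obtain ⟨l, hl⟩ := hInnp ⟨_, h.kernel_le hS hker⟩
      refine ⟨k + l, Subtype.ext ?_⟩
      have hl' := congrArg Subtype.val hl
      rw [SubgroupClass.coe_pow, Subgroup.coe_one] at hl' ⊢
      rwa [pow_add, pow_mul]
    obtain ⟨α, -, hα⟩ := FullyAutomized.exists_conj hA inf_le_left hH'p
    have hle : H.map (MulAut.conj (act E α)).toMonoidHom ≤ Subgroup.zpowers u := by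
      rintro _ ⟨b, hb, rfl⟩
      obtain ⟨a, ha, rfl⟩ := hH hb
      show act E α * act E a * (act E α)⁻¹ ∈ _
      rw [← map_inv, ← map_mul, ← map_mul]
      exact hInd _ (hα a ⟨ha, hb⟩)
    have hcard : Nat.card H ≤ Nat.card (Subgroup.zpowers u) := by
      rw [← Subgroup.card_map_of_injective (K := H) (f := (MulAut.conj (act E α)).toMonoidHom)
        (MulAut.conj (act E α)).injective]
      have : Finite (MulAut (Abelianization E)) := Finite.of_injective (fun a => ⇑a) DFunLike.coe_injective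
      exact Subgroup.card_le_of_le hle
    have : Finite (MulAut (Abelianization E)) := Finite.of_injective (fun a => ⇑a) DFunLike.coe_injective
    exact (Subgroup.eq_of_le_of_card_ge (Subgroup.zpowers_le.mpr huH) hcard).ge
  · by_contra! hno
    have hcl : ∀ α ∈ F.autGroup E, ∀ i : ℤ, act E α * u ^ i * (act E α)⁻¹ ∈ Subgroup.zpowers u := fun α hα i => by
      rw [← conj_zpow]
      exact Subgroup.zpow_mem _ (hno _ ⟨α, hα, rfl⟩) i
    have hle := hsmall (F.autGroup E ⊓ (Subgroup.zpowers u).comap (act E)) inf_le_left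
      (Subgroup.map_le_iff_le_comap.mpr inf_le_right) (fun a ha b hb =>
        ⟨Subgroup.mul_mem _ (Subgroup.mul_mem _ hb ha.1) (Subgroup.inv_mem _ hb), Subgroup.mem_comap.mpr (by
          obtain ⟨i, hi⟩ := Subgroup.mem_zpowers_iff.mp (Subgroup.mem_comap.mp ha.2)
          rw [map_mul, map_mul, map_inv, ← hi]
          exact hcl b hb i)⟩)
    have := hle (show cg ∈ F.autGroup E ⊓ (Subgroup.zpowers u).comap (act E) from
      ⟨hcgA, Subgroup.mem_comap.mpr (Subgroup.mem_zpowers _)⟩)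
    exact hune (MonoidHom.mem_ker.mp (hIker this))
  · intro α hα hαu a ha
    obtain ⟨i, hi⟩ := hInd a ha
    obtain ⟨j, hj⟩ := hαu
    have hb : act E (α * a * α⁻¹) = act E (cg ^ (j * i)) := by
      rw [map_mul, map_mul, map_inv, map_zpow, ← hi, zpow_mul, ← conj_zpow]
      exact congrArg (· ^ i) hj.symm
    have hmem : (cg ^ (j * i))⁻¹ * (α * a * α⁻¹) ∈ F.autGroup E ⊓ (act E).ker :=
      ⟨Subgroup.mul_mem _ (Subgroup.inv_mem _ (Subgroup.zpow_mem _ hcgA _))
        (Subgroup.mul_mem _ (Subgroup.mul_mem _ hα (autInducedBy_le_autGroup hES ha)) (Subgroup.inv_mem _ hα)),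
        MonoidHom.mem_ker.mpr (by rw [map_mul, map_inv, hb, inv_mul_cancel])⟩
    have := Subgroup.mul_mem _ (Subgroup.zpow_mem _ hcgI (j * i)) (inn_le_autInducedBy hES (h.kernel_le hS hmem))
    rwa [mul_inv_cancel_left] at this

/-- A homomorphism invariant under the maps extending to the normalizer is invariant under `Aut_F(E)`. -/
theorem EssTrans.invariant (h : EssTrans F p E g c) (hS : IsPGroup p S) (hF : F.IsSaturated p) (hp2 : p ≠ 2)
    {M : Type*} [CommGroup M] (f : E →* M) (hfc : f c = 1)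
    (hN : ∀ α ∈ F.autGroup E, (∀ a ∈ autInducedBy S E, α * a * α⁻¹ ∈ autInducedBy S E) → ∀ x, f (α x) = f x) :
    ∀ α ∈ F.autGroup E, ∀ x, f (α x) = f x := by
  obtain ⟨cg, -, -, hset, hnorm⟩ := h.exists_setting hS hF
  intro α hα x
  have key := invariant_abstract hset hp2 (Abelianization.lift f) (by rw [Abelianization.lift_apply_of, hfc])
    (by
      rintro _ ⟨d, hd, rfl⟩ hdu q
      obtain ⟨y, rfl⟩ := of_surjective E q
      rw [act_of, Abelianization.lift_apply_of, Abelianization.lift_apply_of]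
      exact hN d hd (hnorm d hd hdu) y) (act E α) ⟨α, hα, rfl⟩ (Abelianization.of x)
  rwa [act_of, Abelianization.lift_apply_of, Abelianization.lift_apply_of] at key

/-- The torus of an abelian essential subgroup. -/
theorem EssTrans.exists_torus (h : EssTrans F p E g c) (hS : IsPGroup p S) (hF : F.IsSaturated p)
    (hab : ∀ x y : E, x * y = y * x) : ∃ y : E, g * (y : Ω) * g⁻¹ ≠ y ∧ y ^ p = 1 ∧ c ≠ 1 ∧ c ^ p = 1 ∧
      ∀ t t' : ℕ, ((t * t' : ℕ) : ZMod p) = 1 → ∃ α ∈ F.autGroup E,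
        (∀ a ∈ autInducedBy S E, α * a * α⁻¹ ∈ autInducedBy S E) ∧ α c = c ^ t ∧ α y = y ^ t' ∧
        ∀ x : E, g * (x : Ω) * g⁻¹ = x → ∃ w : E, ∃ i : ℤ, α w = w ∧ g * (w : Ω) * g⁻¹ = w ∧ x = w * c ^ i := by
  obtain ⟨cg, -, hcg, hset, hnorm⟩ := h.exists_setting hS hF
  have hinj : Function.Injective (Abelianization.of : E →* Abelianization E) := by
    rw [← MonoidHom.ker_eq_bot_iff, Abelianization.ker_of, eq_bot_iff, commutator_def, Subgroup.commutator_le]
    exact fun a _ b _ => Subgroup.mem_bot.mpr (commutatorElement_eq_one_iff_mul_comm.mpr (hab a b))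
  have hfix : ∀ x : E, act E cg (Abelianization.of x) = Abelianization.of x ↔ g * (x : Ω) * g⁻¹ = x := fun x => by
    rw [act_of, hinj.eq_iff, Subtype.ext_iff, hcg]
  obtain ⟨q, hqp, hqne, hq⟩ := exists_torus_abstract hset
  obtain ⟨y, rfl⟩ := of_surjective E q
  refine ⟨y, fun e => hqne ((hfix y).mpr e), hinj (by rw [map_pow, hqp, map_one]),
    fun e => hset.c1 (by rw [e, map_one]), hinj (by rw [map_pow, h.hc, map_one]), fun t t' htt => ?_⟩
  obtain ⟨_, ⟨α, hα, rfl⟩, hδu, hδc, hδy, hδfix⟩ := hq t t' htt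
  refine ⟨α, hα, hnorm α hα hδu, hinj (by rw [← act_of, hδc, map_pow]), hinj (by rw [← act_of, hδy, map_pow]),
    fun x hx => ?_⟩
  obtain ⟨qw, i, h1, h2, h3⟩ := hδfix _ ((hfix x).mpr hx)
  obtain ⟨w, rfl⟩ := of_surjective E qw
  exact ⟨w, i, hinj (by rw [← act_of, h1]), (hfix w).mp h2, hinj (by rw [map_mul, map_zpow, h3])⟩

/-- A nontrivial invariant homomorphism forbids `O^p(F) = F`. -/
theorem false_of_invariant_hom (hS : IsPGroup p S) (hF : F.IsSaturated p) (hhyp : F.hyperfocalSubgroup p = S)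
    {M : Type*} [CommGroup M] (f : S →* M) {w : S} (hw : f w ≠ 1)
    (h : ∀ (P : Subgroup Ω) (hP : P ≤ S), (P = S ∨ F.IsEssential p P) → ∀ α ∈ F.autGroup P, ∀ x : P,
      f ⟨(α x : P), hP (α x).2⟩ = f ⟨x, hP x.2⟩) : False := by
  classical
  let r : Ω → Ω → Prop := fun a b => (∃ ha : a ∈ S, ∃ hb : b ∈ S, f ⟨a, ha⟩ = f ⟨b, hb⟩) ∨ a = b
  have hr : Equivalence r :=
    ⟨fun a => Or.inr rfl, fun {a b} hab => by
      rcases hab with ⟨ha, hb, e⟩ | e
      exacts [Or.inl ⟨hb, ha, e.symm⟩, Or.inr e.symm],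
    fun {a b c} hab hbc => by
      rcases hab with ⟨ha, hb, e⟩ | rfl
      · rcases hbc with ⟨hb', hc, e'⟩ | rfl
        exacts [Or.inl ⟨ha, hc, e.trans e'⟩, Or.inl ⟨ha, hb, e⟩]
      · exact hbc⟩
  have hconj : ∀ s ∈ S, ∀ x ∈ S, r x (s * x * s⁻¹) := fun s hs x hx =>
    Or.inl ⟨hx, S.mul_mem (S.mul_mem hs hx) (S.inv_mem hs), by
      rw [show (⟨s * x * s⁻¹, _⟩ : S) = ⟨s, hs⟩ * ⟨x, hx⟩ * ⟨s, hs⟩⁻¹ from rfl, map_mul, map_mul, map_inv,
        mul_comm (f ⟨s, hs⟩), mul_inv_cancel_right]⟩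
  have hle : F.hyperfocalSubgroup p ≤ f.ker.map S.subtype := by
    rw [FusionSystem.hyperfocalSubgroup, Subgroup.closure_le]
    rintro _ ⟨P, α, x, hP, -, rfl⟩
    refine ⟨⟨_, S.mul_mem (S.inv_mem (hP x.2)) (hP ((α : MulAut P) x).2)⟩, ?_, rfl⟩
    have hmap := rel_of_mem hS hF hr hconj (fun Q hQ hQS _ β hβ y =>
      Or.inl ⟨hQS y.2, hQS (β y).2, (h Q hQS hQ β hβ y).symm⟩) ((mem_autGroup hP).mp α.2) x
    rw [SetLike.mem_coe, MonoidHom.mem_ker,
      show (⟨(x : Ω)⁻¹ * (((α : MulAut P) x : P) : Ω), _⟩ : S) =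
        (⟨x, hP x.2⟩ : S)⁻¹ * ⟨((α : MulAut P) x : P), hP ((α : MulAut P) x).2⟩ from rfl, map_mul, map_inv,
      inv_mul_eq_one]
    rcases hmap with ⟨ha, hb, e⟩ | e
    · exact e
    · exact congrArg f (Subtype.ext e)
  rw [hhyp] at hle
  obtain ⟨v, hv, hvw⟩ := hle w.2
  rw [Subtype.ext hvw] at hv
  exact hw hv

/-- An element of the abelianization of `S` fixed by `Aut_F(S)` is detected by an invariant homomorphism. -/
theorem exists_invariant_hom (hS : IsPGroup p S) (hF : F.IsSaturated p) {w : S}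
    (hw : Abelianization.of w ≠ 1) (hwp : Abelianization.of w ^ p = 1)
    (hfix : ∀ α ∈ F.autGroup S, Abelianization.of (α w) = Abelianization.of w) :
    ∃ f : S →* Abelianization S, f w ≠ 1 ∧ ∀ α ∈ F.autGroup S, ∀ x, f (α x) = f x := by
  classical
  have : Finite (MulAut S) := finite_mulAut le_rfl
  set H := (F.autGroup S).map (act S)
  have : Finite (Abelianization S) := Finite.of_surjective _ (of_surjective S)
  have : Finite (MulAut (Abelianization S)) := Finite.of_injective (fun a => ⇑a) DFunLike.coe_injective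
  let _ := Fintype.ofFinite H
  let N : Abelianization S →* Abelianization S := ∏ d : H, ((d : MulAut (Abelianization S)).toMonoidHom)
  have hN : ∀ q, N q = ∏ d : H, (d : MulAut (Abelianization S)) q := fun q => by
    show (∏ d : H, ((d : MulAut (Abelianization S)).toMonoidHom)) q = _
    rw [MonoidHom.finsetProd_apply]; rfl
  refine ⟨N.comp Abelianization.of, ?_, fun α hα x => ?_⟩
  · obtain ⟨m, hm, hmem⟩ := Cfsg.Agent.S5265Aux.outer (p := p) hS hF
    have hcard : ¬ p ∣ Fintype.card H := by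
      intro hd
      obtain ⟨⟨_, a, ha, rfl⟩, hd'⟩ := exists_prime_orderOf_dvd_card p hd
      have h1 : act S a ^ p = 1 := by
        have := pow_orderOf_eq_one (⟨act S a, a, ha, rfl⟩ : H)
        rw [hd'] at this
        exact congrArg Subtype.val this
      have h2 : act S a ^ m = 1 := by
        obtain ⟨z, hz⟩ := mem_inn.mp (hmem a ha)
        rw [← map_pow]
        refine MulEquiv.ext fun q => ?_
        obtain ⟨x, rfl⟩ := of_surjective S q
        rw [act_of, hz, map_mul, map_mul, map_inv, MulAut.one_apply, mul_comm (Abelianization.of z),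
          mul_inv_cancel_right]
      have h3 : (⟨act S a, a, ha, rfl⟩ : H) ^ m = 1 := Subtype.ext (by rw [SubgroupClass.coe_pow]; exact h2)
      exact hm (hd' ▸ orderOf_dvd_of_pow_eq_one h3)
    have hval : N (Abelianization.of w) = Abelianization.of w ^ Fintype.card H := by
      rw [hN, ← Finset.card_univ, ← Finset.prod_const]
      refine Finset.prod_congr rfl fun d _ => ?_
      obtain ⟨a, ha, hae⟩ := d.2
      rw [← hae, act_of, hfix a ha]
    rw [MonoidHom.comp_apply, hval]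
    intro e
    exact hcard (orderOf_eq_prime hwp hw ▸ orderOf_dvd_of_pow_eq_one e)
  · rw [MonoidHom.comp_apply, MonoidHom.comp_apply, hN, hN]
    refine Fintype.prod_equiv (Equiv.mulRight (⟨act S α, α, hα, rfl⟩ : H)) _ _ fun d => ?_
    simp [act_of]

end fusion

end CfsgLib.FusionTorus
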