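import Cfsg.Agent.Lib.Fusion.PEmbedded

/-!
A group of automorphisms of an abelian group with a strongly `p`-embedded subgroup contains no
`p`-group of order at least `p²` centralising a subgroup of order `p` and the quotient by it.
-/

set_option autoImplicit false

namespace CfsgLib.FusionTransvection

open Cfsg CfsgLib.Fusion

variable {p : ℕ} [hp : Fact p.Prime] {K : Type*} [CommGroup K] {X : Type*} [Group X] [Finite X]

theorem false_of_stabilizer (ρ : X →* MulAut K) (hρ : Function.Injective ρ) {H : Subgroup X}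
    (hH : IsStronglyPEmbedded p H) (T : Subgroup X) (hTp : IsPGroup p T) (Z : Subgroup K)
    (hZ : Nat.card Z = p) (hT1 : ∀ a ∈ T, ∀ x ∈ Z, ρ a x = x) (hT2 : ∀ a ∈ T, ∀ x, x⁻¹ * ρ a x ∈ Z)
    (hT : p < Nat.card T) : False := by
  have hp' : p.Prime := hp.out
  -- an element of `T` fixing a given element
  have hfix : ∀ y : K, ∃ t ∈ T, t ≠ 1 ∧ ρ t y = y := by
    intro y
    by_contra! h
    let φ : T →* Z :=
      { toFun := fun t => ⟨y⁻¹ * ρ t y, hT2 t t.2 y⟩
        map_one' := Subtype.ext (by simp)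
        map_mul' := fun a b => Subtype.ext (by
          show y⁻¹ * ρ ((a : X) * b) y = y⁻¹ * ρ a y * (y⁻¹ * ρ b y)
          rw [map_mul, MulAut.mul_apply]
          have h1 := hT1 a a.2 _ (hT2 b b.2 y)
          rw [map_mul, map_inv] at h1
          rw [← h1]
          simp [mul_assoc]) }
    have hinj : Function.Injective φ := by
      rw [injective_iff_map_eq_one]
      intro t ht
      by_contra hne
      exact h t t.2 (fun e => hne (Subtype.ext e)) (inv_mul_eq_one.mp (congrArg Subtype.val ht)).symm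
    have : Finite Z := Nat.finite_of_card_ne_zero (hZ ▸ hp'.ne_zero)
    exact absurd (Nat.card_le_card_of_injective φ hinj) (by rw [hZ]; omega)
  obtain ⟨z, hz, hz1⟩ : ∃ z ∈ Z, z ≠ 1 := by
    refine (Subgroup.bot_or_exists_ne_one Z).resolve_left fun e => ?_
    rw [e, Subgroup.card_bot] at hZ
    exact hp'.ne_one hZ.symm
  have hgen : ∀ x ∈ Z, ∃ i : ℤ, z ^ i = x := fun x hx => by
    have : Fact (Nat.card Z).Prime := ⟨hZ ▸ hp'⟩
    have h := mem_zpowers_of_prime_card (G := Z) (p := p) hZ (g := ⟨z, hz⟩) (g' := ⟨x, hx⟩)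
      (fun e => hz1 (congrArg Subtype.val e))
    obtain ⟨i, hi⟩ := h
    exact ⟨i, congrArg Subtype.val hi⟩
  -- the embedding data around `T`
  obtain ⟨R, hR⟩ := exists_embeddingData hH
  obtain ⟨R', hR'⟩ := hTp.exists_le_sylow
  obtain ⟨c, hc⟩ := MulAction.exists_smul_eq X R R'
  set H' := H.map (MulAut.conj c).toMonoidHom
  have hd : EmbeddingData p R' H' := hc ▸ hR.map_conj c
  have hTH : T ≤ H' := hR'.trans hd.le
  have hTne : T ≠ ⊥ := fun e => by
    rw [e, Subgroup.card_bot] at hT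
    exact absurd hT (not_lt.mpr hp'.one_le)
  have hpow : ∀ t ∈ T, IsPGroup p (Subgroup.zpowers t) := fun t ht => hTp.to_le (Subgroup.zpowers_le.mpr ht)
  -- every conjugate of `T` lies in `H'`
  have hall : ∀ g : X, ∀ b ∈ T, g * b * g⁻¹ ∈ H' := by
    intro g b hb
    obtain ⟨t, ht, ht1, htz⟩ := hfix (ρ g z)
    obtain ⟨u, hu, hu1, huz⟩ := hfix (ρ g⁻¹ z)
    set s := g * u * g⁻¹ with hs
    have hgg : ∀ x : K, ρ g (ρ g⁻¹ x) = x := fun x => by
      rw [← MulAut.mul_apply, ← map_mul, mul_inv_cancel, map_one, MulAut.one_apply]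
    have hsapp : ∀ x, ρ s x = ρ g (ρ u (ρ g⁻¹ x)) := fun x => by
      rw [hs, map_mul, map_mul, MulAut.mul_apply, MulAut.mul_apply]
    clear_value s
    have hsz : ρ s z = z := by rw [hsapp, huz, hgg]
    have hcomm : s * t = t * s := by
      refine hρ (MulEquiv.ext fun x => ?_)
      rw [map_mul, map_mul, MulAut.mul_apply, MulAut.mul_apply]
      obtain ⟨i, hi⟩ := hgen _ (hT2 t ht x)
      obtain ⟨j, hj⟩ := hgen _ (hT2 u hu (ρ g⁻¹ x))
      have e1 : ρ t x = x * z ^ i := by rw [hi, mul_inv_cancel_left]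
      have e2 : ρ u (ρ g⁻¹ x) = ρ g⁻¹ x * z ^ j := by rw [hj, mul_inv_cancel_left]
      have e3 : ρ s x = x * ρ g z ^ j := by rw [hsapp, e2, map_mul, map_zpow, hgg]
      rw [e1, e3, map_mul, map_mul, map_zpow, map_zpow, hsz, htz, e1, e3]
      exact mul_right_comm _ _ _
    have hs1 : s ≠ 1 := fun e => hu1 (by
      have := congrArg (fun w => g⁻¹ * w * g) e
      simpa [hs, mul_assoc] using this)
    have hsH : s ∈ H' := by
      refine hd.mem_of_conj (Subgroup.zpowers_le.mpr (hTH ht)) (hpow t ht)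
        (by simpa [Subgroup.zpowers_eq_bot] using ht1) fun a ha => ?_
      obtain ⟨i, rfl⟩ := ha
      rw [((show Commute s t from hcomm).zpow_right i).eq, mul_inv_cancel_right]
      exact Subgroup.zpow_mem _ (hTH ht) i
    have hsp : IsPGroup p (Subgroup.zpowers s) := by
      refine IsPGroup.to_le (hTp.map (MulAut.conj g).toMonoidHom) ?_
      exact Subgroup.zpowers_le.mpr ⟨u, hu, hs.symm⟩
    refine hd.mem_of_conj (Subgroup.zpowers_le.mpr hsH) hsp
      (by simpa [Subgroup.zpowers_eq_bot] using hs1) fun a ha => ?_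
    obtain ⟨i, rfl⟩ := ha
    have hub : Commute u b := by
      refine hρ (MulEquiv.ext fun x => ?_)
      rw [map_mul, map_mul, MulAut.mul_apply, MulAut.mul_apply]
      have e1 : ρ b x = x * (x⁻¹ * ρ b x) := (mul_inv_cancel_left _ _).symm
      have e2 : ρ u x = x * (x⁻¹ * ρ u x) := (mul_inv_cancel_left _ _).symm
      conv_lhs => rw [e1, map_mul, hT1 u hu _ (hT2 b hb x), e2]
      conv_rhs => rw [e2, map_mul, hT1 b hb _ (hT2 u hu x), e1]
      exact mul_right_comm _ _ _
    have hsb : Commute (g * b * g⁻¹) s := hs ▸ (Commute.symm hub).map (MulAut.conj g).toMonoidHom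
    rw [(hsb.zpow_right i).eq, mul_inv_cancel_right]
    exact Subgroup.zpow_mem _ hsH i
  have htop : H' = ⊤ := top_le_iff.mp fun x _ =>
    hd.mem_of_conj hTH hTp hTne fun a ha => hall x a ha
  refine hH.2.1 (top_le_iff.mp fun x _ => ?_)
  obtain ⟨y, hy, hye⟩ : MulAut.conj c x ∈ H' := htop ▸ Subgroup.mem_top _
  exact (MulAut.conj c).injective hye ▸ hy

end CfsgLib.FusionTransvection
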