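import Cfsg.Agent.Lib.Fusion.Saturated

/-!
# The systems `N_F^K(Q)`
-/

namespace CfsgLib.Fusion

open Cfsg Cfsg.FusionSystem

variable {Ω : Type*} [Group Ω] {S : Subgroup Ω} {F : FusionSystem S} {P Q R T M A B : Subgroup Ω}

theorem sup_le_map_comap {φ : ↥(A ⊔ B) →* Ω} (hA : ∀ a (ha : a ∈ A), φ ⟨a, Subgroup.mem_sup_left ha⟩ ∈ M)
    (hB : ∀ b (hb : b ∈ B), φ ⟨b, Subgroup.mem_sup_right hb⟩ ∈ M) (x : ↥(A ⊔ B)) : φ x ∈ M := by
  have h : A ⊔ B ≤ (M.comap φ).map (A ⊔ B).subtype :=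
    sup_le (fun a ha => ⟨_, hA a ha, rfl⟩) (fun b hb => ⟨_, hB b hb, rfl⟩)
  obtain ⟨y, hy, he⟩ := h x.2
  rw [← Subtype.ext he]; exact hy

theorem sup_hom_ext {φ ψ : ↥(A ⊔ B) →* Ω}
    (hA : ∀ a (ha : a ∈ A), φ ⟨a, Subgroup.mem_sup_left ha⟩ = ψ ⟨a, Subgroup.mem_sup_left ha⟩)
    (hB : ∀ b (hb : b ∈ B), φ ⟨b, Subgroup.mem_sup_right hb⟩ = ψ ⟨b, Subgroup.mem_sup_right hb⟩) :
    φ = ψ := by
  have h : A ⊔ B ≤ (φ.eqLocus ψ).map (A ⊔ B).subtype :=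
    sup_le (fun a ha => ⟨_, hA a ha, rfl⟩) (fun b hb => ⟨_, hB b hb, rfl⟩)
  ext x
  obtain ⟨y, hy, he⟩ := h x.2
  rw [← Subtype.ext he]; exact hy

/-- The maps of `N_F^K(Q)` with source `P`, for a system over `T`. -/
def extHom (F : FusionSystem S) (Q : Subgroup Ω) (K : Subgroup (MulAut Q)) (T P : Subgroup Ω) :
    Set (P →* Ω) :=
  {φ | φ ∈ F.Hom P ∧ P ≤ T ∧ (∀ x : P, φ x ∈ T) ∧ ∃ ψ ∈ F.Hom (P ⊔ Q),
    (∀ x : P, ψ (Subgroup.inclusion le_sup_left x) = φ x) ∧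
      ∃ κ ∈ K, ∀ x : Q, ψ (Subgroup.inclusion le_sup_right x) = ((κ x : Q) : Ω)}

/-- `T = N_S^K(Q)`. -/
def IsKNormalizer (S Q : Subgroup Ω) (K : Subgroup (MulAut Q)) (T : Subgroup Ω) : Prop :=
  ∀ g : Ω, g ∈ T ↔ g ∈ S ∧ ∃ κ ∈ K, ∀ x : Q, ((κ x : Q) : Ω) = g * (x : Ω) * g⁻¹

theorem IsKNormalizer.le {K : Subgroup (MulAut Q)} (hT : IsKNormalizer S Q K T) : T ≤ S :=
  fun g hg => ((hT g).mp hg).1

theorem IsKNormalizer.le_normalizer {K : Subgroup (MulAut Q)} (hT : IsKNormalizer S Q K T) :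
    T ≤ Subgroup.normalizer (Q : Set Ω) := fun g hg => by
  obtain ⟨κ, -, h⟩ := ((hT g).mp hg).2
  exact mem_normalizer_of_aut h

theorem isKNormalizer_top : IsKNormalizer S Q ⊤ (normalizerIn S Q) := fun g =>
  and_congr_right fun hg => ⟨fun hn => by
    obtain ⟨α, -, hα⟩ := exists_autInducedBy (K := S) hg hn
    exact ⟨α, Subgroup.mem_top _, hα⟩, fun ⟨κ, _, h⟩ => mem_normalizer_of_aut h⟩

theorem isKNormalizer_bot : IsKNormalizer S Q ⊥ (centralizerIn S Q) := fun g => by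
  rw [mem_centralizerIn']
  refine and_congr_right fun _ => ⟨fun h => ⟨1, Subgroup.one_mem _, fun x => (h x).symm⟩, ?_⟩
  rintro ⟨κ, hκ, h⟩ x
  rw [Subgroup.mem_bot] at hκ
  rw [← h, hκ]; rfl

theorem isKNormalizer_top_self (hS : S ≤ Subgroup.normalizer (Q : Set Ω)) : IsKNormalizer S Q ⊤ S := fun g =>
  ⟨fun hg => ⟨hg, ((isKNormalizer_top g).mp ⟨hg, hS hg⟩).2⟩, fun h => h.1⟩

theorem isKNormalizer_bot_self (hS : S ≤ Subgroup.centralizer (Q : Set Ω)) : IsKNormalizer S Q ⊥ S := fun g =>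
  ⟨fun hg => ⟨hg, ((isKNormalizer_bot g).mp ⟨hg, hS hg⟩).2⟩, fun h => h.1⟩

/-- `N_F^K(Q)`, a fusion system over `N_S^K(Q)`. -/
def extSystem (F : FusionSystem S) (hQ : Q ≤ S) (K : Subgroup (MulAut Q)) (T : Subgroup Ω)
    (hT : IsKNormalizer S Q K T) : FusionSystem T where
  Hom := extHom F Q K T
  le_of_mem h := ⟨h.2.1, h.2.2.1⟩
  injective_of_mem h := F.injective_of_mem h.1
  conj_mem := by
    intro P g hP hg
    obtain ⟨κ, hκ, hκe⟩ := ((hT g).mp hg).2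
    refine ⟨F.conj_mem (hP.trans hT.le) (hT.le hg), hP,
      fun x => T.mul_mem (T.mul_mem hg (hP x.2)) (T.inv_mem hg),
      conjHom _ g, F.conj_mem (sup_le (hP.trans hT.le) hQ) (hT.le hg), fun _ => rfl,
      κ, hκ, fun x => (hκe x).symm⟩
  comp_mem := by
    rintro P R φ χ ⟨hφ, hP, hφT, ψ, hψ, hψe, κ, hκ, hκe⟩ ⟨hχ, -, hχT, θ, hθ, hθe, l, hl, hle⟩ h
    have hm : ∀ x : ↥(P ⊔ Q), ψ x ∈ R ⊔ Q :=
      sup_le_map_comap (fun a ha => Subgroup.mem_sup_left (by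
          have e := hψe ⟨a, ha⟩
          exact (show ψ ⟨a, _⟩ = φ ⟨a, ha⟩ from e) ▸ h _))
        (fun b hb => Subgroup.mem_sup_right (by
          have e := hκe ⟨b, hb⟩
          exact (show ψ ⟨b, _⟩ = ((κ ⟨b, hb⟩ : Q) : Ω) from e) ▸ Subtype.mem _))
    obtain ⟨ρ, hρ, hρe⟩ := exists_comp hψ hθ hm
    refine ⟨F.comp_mem hφ hχ h, hP, fun x => hχT _, ρ, hρ, fun x => ?_, l * κ, K.mul_mem hl hκ, fun x => ?_⟩
    · rw [hρe]
      exact (apply_eq_of_coe_eq (φ := θ) (y := Subgroup.inclusion le_sup_left ⟨φ x, h x⟩) (hψe x)).trans (hθe _)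
    · rw [hρe]
      exact (apply_eq_of_coe_eq (φ := θ) (y := Subgroup.inclusion le_sup_right (κ x)) (hκe x)).trans (hle _)
  inv_mem := by
    rintro P φ ⟨hφ, hP, hφT, ψ, hψ, hψe, κ, hκ, hκe⟩
    have hr : ψ.range = φ.range ⊔ Q := by
      apply le_antisymm
      · rintro _ ⟨x, rfl⟩
        refine sup_le_map_comap (fun a ha => ?_) (fun b hb => ?_) x
        · exact Subgroup.mem_sup_left ⟨⟨a, ha⟩, (hψe ⟨a, ha⟩).symm⟩
        · refine Subgroup.mem_sup_right ?_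
          rw [show ψ ⟨b, _⟩ = ((κ ⟨b, hb⟩ : Q) : Ω) from hκe ⟨b, hb⟩]
          exact Subtype.mem _
      · refine sup_le ?_ fun y hy => ⟨Subgroup.inclusion le_sup_right (κ.symm ⟨y, hy⟩), ?_⟩
        · rintro _ ⟨x, rfl⟩; exact ⟨_, hψe x⟩
        · rw [hκe]; simp
    obtain ⟨φ', hφ', hφ'e⟩ := F.inv_mem hφ
    obtain ⟨ψ', hψ', -, hψ'₁, -⟩ := exists_inv hψ hr
    refine ⟨φ', ⟨hφ', ?_, ?_, ψ', hψ', ?_, κ⁻¹, K.inv_mem hκ, ?_⟩, hφ'e⟩
    · rintro _ ⟨x, rfl⟩; exact hφT x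
    · rintro ⟨_, x, rfl⟩; rw [hφ'e]; exact hP x.2
    · rintro ⟨_, x, rfl⟩
      rw [hφ'e]
      have e := hψe x
      exact (apply_eq_of_coe_eq (φ := ψ') e.symm).trans
        (hψ'₁ (Subgroup.inclusion le_sup_left x) (by rw [e]; exact Subgroup.mem_sup_left ⟨x, rfl⟩))
    · intro y
      have e := hκe (κ⁻¹ y)
      rw [MulAut.apply_inv_self] at e
      exact (apply_eq_of_coe_eq (φ := ψ') e.symm).trans
        (hψ'₁ (Subgroup.inclusion le_sup_right (κ⁻¹ y)) (by rw [e]; exact Subgroup.mem_sup_right y.2))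

theorem map_eq_iff_exists_aut {ψ : ↥(P ⊔ Q) →* Ω} (hψ : ψ ∈ F.Hom (P ⊔ Q)) :
    (Q.subgroupOf (P ⊔ Q)).map ψ = Q ↔
      ∃ κ : MulAut Q, ∀ x : Q, ψ (Subgroup.inclusion le_sup_right x) = ((κ x : Q) : Ω) := by
  constructor
  · intro h
    obtain ⟨χ, hχ, hr, he⟩ := exists_restrict hψ le_sup_right h
    obtain ⟨κ, -, hκ⟩ := exists_aut hχ hr
    exact ⟨κ, fun x => ((hκ x).trans (he x)).symm⟩
  · rintro ⟨κ, h⟩
    ext y
    rw [mem_map_subgroupOf]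
    constructor
    · rintro ⟨x, hx, rfl⟩
      rw [show ψ x = ((κ ⟨x, hx⟩ : Q) : Ω) from h ⟨x, hx⟩]
      exact Subtype.mem _
    · exact fun hy => ⟨Subgroup.inclusion le_sup_right (κ.symm ⟨y, hy⟩), (κ.symm _).2, by rw [h]; simp⟩

theorem extHom_top (F : FusionSystem S) (Q P : Subgroup Ω) :
    extHom F Q ⊤ (normalizerIn S Q) P = F.normalizerHom Q P := by
  ext φ
  refine and_congr_right fun _ => and_congr_right fun _ => and_congr_right fun _ =>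
    exists_congr fun ψ => and_congr_right fun hψ => and_congr_right fun _ => ?_
  rw [map_eq_iff_exists_aut hψ]
  simp

theorem extHom_bot (F : FusionSystem S) (Q P : Subgroup Ω) :
    extHom F Q ⊥ (centralizerIn S Q) P = F.centralizerHom Q P := by
  ext φ
  refine and_congr_right fun _ => and_congr_right fun _ => and_congr_right fun _ =>
    exists_congr fun ψ => and_congr_right fun _ => and_congr_right fun _ => ?_
  simp [Subgroup.mem_bot]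

/-- `Q` is normal when every map lies in `N_F(Q)` and `Q` is normal in `S`. -/
theorem isNormal_of_extHom (hQ : Q ≤ S) (h : ∀ P φ, φ ∈ F.Hom P → φ ∈ extHom F Q ⊤ S P) :
    F.IsNormal Q := by
  refine ⟨hQ, fun P φ hφ => ?_⟩
  obtain ⟨-, -, -, ψ, hψ, hψe, κ, -, hκ⟩ := h P φ hφ
  exact ⟨ψ, hψ, hψe, (map_eq_iff_exists_aut hψ).mpr ⟨κ, hκ⟩⟩

theorem isCentral_of_extHom (hQ : Q ≤ S) (h : ∀ P φ, φ ∈ F.Hom P → φ ∈ extHom F Q ⊥ S P) :
    F.IsCentral Q := by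
  refine ⟨hQ, fun P φ hφ => ?_⟩
  obtain ⟨-, -, -, ψ, hψ, hψe, κ, hκ, hκe⟩ := h P φ hφ
  rw [Subgroup.mem_bot] at hκ
  exact ⟨ψ, hψ, hψe, fun x => by rw [hκe, hκ]; rfl⟩

end CfsgLib.Fusion
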