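import Cfsg.Agent.Lib.Fusion.Normal
import Cfsg.Agent.Lib.Fusion.Ext
import Cfsg.Agent.Lib.Fusion.AbelianIndexP
import Cfsg.Agent.Lib.Fusion.Saturated

/-!
Saturated systems over a `p`-group `S`, `p` odd, whose derived subgroup and `p`th powers lie in a
central subgroup of order `p` properly inside the centre: the largest normal subgroup is
nontrivial.
-/

set_option autoImplicit false

namespace CfsgLib.Fusion.ExtraIndex

open Cfsg Cfsg.FusionSystem CfsgLib.Fusion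
open scoped commutatorElement

/-- A `p`-element of a subgroup containing a conjugate of a Sylow subgroup. -/
theorem exists_conj_sylow {G : Type*} [Group G] [Finite G] {p : ℕ} [Fact p.Prime] (R : Sylow p G) (γ : G)
    (X : Subgroup G) (hX : ∀ r ∈ (R : Subgroup G), γ * r * γ⁻¹ ∈ X) {u : G} (huX : u ∈ X)
    (hu : u ∈ (R : Subgroup G)) :
    ∃ x ∈ X, ∃ t ∈ (R : Subgroup G), u = x * γ * t * (x * γ)⁻¹ := by
  let R' : Sylow p G := MulAut.conj γ • R
  have hR'X : (R' : Subgroup G) ≤ X := by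
    intro y hy
    rw [Sylow.pointwise_smul_def, Subgroup.mem_pointwise_smul_iff_inv_smul_mem, ← map_inv,
      MulAut.smul_def, MulAut.conj_apply, inv_inv] at hy
    simpa [mul_assoc] using hX _ hy
  have hup : IsPGroup p (Subgroup.zpowers (⟨u, huX⟩ : X)) := by
    obtain ⟨k, hk⟩ := R.2 ⟨_, hu⟩
    have hk' : (⟨u, huX⟩ : X) ^ p ^ k = 1 := Subtype.ext (by simpa using congrArg Subtype.val hk)
    obtain ⟨j, -, hj⟩ := (Nat.dvd_prime_pow Fact.out).mp (orderOf_dvd_of_pow_eq_one hk')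
    exact IsPGroup.of_card ((Nat.card_zpowers _).trans hj)
  obtain ⟨U, hU⟩ := hup.exists_le_sylow
  obtain ⟨x, hx⟩ := MulAction.exists_smul_eq X (R'.subtype hR'X) U
  have hmem : (⟨u, huX⟩ : X) ∈ (MulAut.conj x • (R'.subtype hR'X) : Sylow p X) := by
    rw [← Sylow.smul_def, hx]; exact hU (Subgroup.mem_zpowers _)
  change _ ∈ ((MulAut.conj x • (R'.subtype hR'X) : Sylow p X) : Subgroup X) at hmem
  rw [Sylow.pointwise_smul_def, Subgroup.mem_pointwise_smul_iff_inv_smul_mem, ← map_inv,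
    MulAut.smul_def, MulAut.conj_apply, inv_inv, Sylow.coe_subtype, Subgroup.mem_subgroupOf,
    Sylow.pointwise_smul_def, Subgroup.mem_pointwise_smul_iff_inv_smul_mem, ← map_inv,
    MulAut.smul_def, MulAut.conj_apply, inv_inv] at hmem
  refine ⟨(x : G), x.2, _, hmem, ?_⟩
  simp only [Subgroup.coe_mul, Subgroup.coe_inv]
  group

variable {Ω : Type*} [Group Ω] {S : Subgroup Ω} {p : ℕ} {w : Ω}

/-- The centre of `S` inside the ambient group. -/
abbrev zc (S : Subgroup Ω) : Subgroup Ω := S ⊓ Subgroup.centralizer (S : Set Ω)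

/-- The hypotheses on `S`. -/
structure Data (p : ℕ) (S : Subgroup Ω) (w : Ω) : Prop where
  isP : IsPGroup p S
  odd : Odd p
  mem : w ∈ zc S
  order : orderOf w = p
  comm : ∀ x ∈ S, ∀ y ∈ S, ⁅x, y⁆ ∈ Subgroup.zpowers w
  pow : ∀ x ∈ S, x ^ p ∈ Subgroup.zpowers w
  not_le : ¬ zc S ≤ Subgroup.zpowers w

theorem zc_comm {z y : Ω} (hz : z ∈ zc S) (hy : y ∈ S) : y * z = z * y :=
  Subgroup.mem_centralizer_iff.mp hz.2 y hy

variable [Fact p.Prime] (h : Data p S w)

include h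

theorem Data.zpow_mem {i : ℤ} : w ^ i ∈ zc S := (zc S).zpow_mem h.mem i

theorem Data.zpowers_le : Subgroup.zpowers w ≤ zc S := Subgroup.zpowers_le.mpr h.mem

theorem Data.gen {c : Ω} (hc : c ∈ Subgroup.zpowers w) (hc1 : c ≠ 1) : w ∈ Subgroup.zpowers c := by
  have : Fact (Nat.card (Subgroup.zpowers w)).Prime := ⟨by rw [Nat.card_zpowers, h.order]; exact Fact.out⟩
  rcases Subgroup.eq_bot_or_eq_top_of_prime_card ((Subgroup.zpowers c).subgroupOf (Subgroup.zpowers w)) with e | e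
  · have h1 : (⟨c, hc⟩ : Subgroup.zpowers w) ∈ (Subgroup.zpowers c).subgroupOf (Subgroup.zpowers w) :=
      Subgroup.mem_zpowers c
    rw [e, Subgroup.mem_bot] at h1
    exact absurd (congrArg Subtype.val h1) hc1
  · exact e.ge (Subgroup.mem_top (⟨w, Subgroup.mem_zpowers w⟩ : Subgroup.zpowers w))

/-- Every element of `⟨w⟩` is a commutator with an element that is not central. -/
theorem Data.comm_surj {v : Ω} (hv : v ∈ S) (hnv : ∃ s ∈ S, s * v ≠ v * s) {c : Ω}
    (hc : c ∈ Subgroup.zpowers w) : ∃ y ∈ S, ⁅y, v⁆ = c := by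
  obtain ⟨s, hs, hsv⟩ := hnv
  have hmul : ∀ a ∈ S, ∀ b ∈ S, ⁅a * b, v⁆ = ⁅a, v⁆ * ⁅b, v⁆ := by
    intro a ha b hb
    have h1 := h.zpowers_le (h.comm b hb v hv)
    have h2 := h.zpowers_le (h.comm a ha v hv)
    have e : ⁅a * b, v⁆ = a * ⁅b, v⁆ * a⁻¹ * ⁅a, v⁆ := by simp only [commutatorElement_def]; group
    rw [e, zc_comm h1 ha, mul_inv_cancel_right, zc_comm h2 h1.1]
  let K : Subgroup Ω :=
    { carrier := {c | ∃ y ∈ S, ⁅y, v⁆ = c}
      one_mem' := ⟨1, S.one_mem, by simp [commutatorElement_def]⟩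
      mul_mem' := by
        rintro a b ⟨x, hx, rfl⟩ ⟨y, hy, rfl⟩
        exact ⟨x * y, S.mul_mem hx hy, hmul x hx y hy⟩
      inv_mem' := by
        rintro a ⟨x, hx, rfl⟩
        refine ⟨x⁻¹, S.inv_mem hx, eq_inv_of_mul_eq_one_left ?_⟩
        rw [← hmul _ (S.inv_mem hx) _ hx, inv_mul_cancel]
        simp [commutatorElement_def] }
  have hc0 : ⁅s, v⁆ ≠ 1 := fun e => hsv (commutatorElement_eq_one_iff_mul_comm.mp e)
  have hle : Subgroup.zpowers w ≤ K :=
    Subgroup.zpowers_le.mpr (Subgroup.zpowers_le.mpr (show ⁅s, v⁆ ∈ K from ⟨s, hs, rfl⟩)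
      (h.gen (h.comm s hs v hv) hc0))
  exact hle hc

/-- A square root of one in `⟨w⟩` is trivial. -/
theorem Data.eq_one_of_sq {i : ℤ} (hi : w ^ (2 * i) = 1) : w ^ i = 1 := by
  rw [← orderOf_dvd_iff_zpow_eq_one, h.order] at hi ⊢
  rcases (Nat.prime_iff_prime_int.mp (Fact.out : p.Prime)).dvd_mul.mp hi with h2 | h2
  · have h3 := Nat.le_of_dvd (by norm_num) (Int.natCast_dvd_natCast.mp (show (p : ℤ) ∣ ((2 : ℕ) : ℤ) from h2))
    have := (Fact.out : p.Prime).two_le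
    obtain rfl : p = 2 := by omega
    exact absurd h.odd (by decide)
  · exact h2

variable [Finite S] {F : FusionSystem S} {E : Subgroup Ω}

/-- Basic properties of an essential subgroup. -/
theorem Data.essential (hF : F.IsSaturated p) (hE : F.IsEssential p E) :
    zc S ≤ E ∧ E < S ∧ (∃ g ∈ F.autGroup E, ∀ a : E, (a : Ω) = w → ((g a : E) : Ω) ∉ Subgroup.zpowers w) ∧
      (∀ a b : E, a * b = b * a) ∧ (∀ y ∈ S, (∀ e ∈ E, e * y = y * e) → y ∈ E) ∧
      ∀ s ∈ S, s ∈ Subgroup.normalizer (E : Set Ω) := by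
  have hES : E ≤ S := hE.1.1
  have hS := h.isP
  have : Finite E := finite_of_le hES
  have hlt : E < S := AbelianIndexP.lt_of_essential hS hF hE
  have hC : centralizerIn S E ≤ E := IsCentric.centralizerIn_le' hE.1
  have hZE : zc S ≤ E := fun z hz => hC ⟨hz.1, fun y hy => zc_comm hz (hES hy)⟩
  have hwE : w ∈ E := hZE h.mem
  obtain ⟨g, hg, hgw⟩ : ∃ g ∈ F.autGroup E, ((g ⟨w, hwE⟩ : E) : Ω) ∉ Subgroup.zpowers w := by
    by_contra hno
    push Not at hno
    let L : ℕ → Subgroup E := fun i =>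
      if i = 0 then ⊥ else if i = 1 then (Subgroup.zpowers w).subgroupOf E else ⊤
    have hinv : ∀ i ≤ 2, ∀ a ∈ F.autGroup E, ∀ x ∈ L i, a x ∈ L i := by
      intro i hi a ha x hx
      interval_cases i
      · simp only [L, if_pos rfl, Subgroup.mem_bot] at hx ⊢
        rw [hx, map_one]
      · simp only [L, one_ne_zero, if_false, if_true, Subgroup.mem_subgroupOf] at hx ⊢
        obtain ⟨k, hk⟩ := hx
        have : x = (⟨w, hwE⟩ : E) ^ k := Subtype.ext (by simpa using hk.symm)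
        rw [this, map_zpow, Subgroup.coe_zpow]
        exact Subgroup.zpow_mem _ (hno a ha) k
      · simp [L]
    refine hlt.not_ge (le_of_centric_radical hS hE.1 (radical_of_essential hE hS) (le_refl S)
      Subgroup.le_normalizer (A := seriesStabilizer F E 2 L hinv) (fun a ha => ha.1) ?_
      (fun a ha b hb => seriesStabilizer_conj_mem ha hb) ?_)
    · rintro ⟨a, ha⟩
      obtain ⟨k, hk⟩ := exists_pow_eq_one_of_stabilizes (hS.to_le hES) L (n := 2)
        (fun i hi => by interval_cases i <;> simp [L]) (by simp [L]) (α := a)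
        ⟨0, fun x hx => by
          simp only [L, if_pos rfl, Subgroup.mem_bot] at hx
          simp [hx]⟩ ha.2
      exact ⟨k, Subtype.ext hk⟩
    · intro q hq a hae
      refine ⟨autInducedBy_le_autGroup hES (mem_autInducedBy.mpr ⟨q, hq, hae⟩), fun i hi x hx => ?_⟩
      interval_cases i
      · simp only [L, zero_add, one_ne_zero, if_false, if_true, Subgroup.mem_subgroupOf] at hx
        simp only [L, if_pos rfl, Subgroup.mem_bot]
        refine Subtype.ext ?_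
        rw [Subgroup.coe_mul, Subgroup.coe_inv, hae, zc_comm (h.zpowers_le hx) hq]
        simp [mul_assoc]
      · simp only [L, one_ne_zero, if_false, if_true, Subgroup.mem_subgroupOf]
        rw [Subgroup.coe_mul, Subgroup.coe_inv, hae]
        have h1 := h.comm _ (S.inv_mem (hES x.2)) _ hq
        rw [commutatorElement_def, inv_inv] at h1
        rwa [show (x : Ω)⁻¹ * (q * x * q⁻¹) = (x : Ω)⁻¹ * q * x * q⁻¹ by group]
  refine ⟨hZE, hlt, ⟨g, hg, fun a ha => ?_⟩, fun a b => ?_, fun y hy hc => hC ⟨hy, hc⟩, fun s hs => ?_⟩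
  · obtain rfl : a = ⟨w, hwE⟩ := Subtype.ext ha
    exact hgw
  · by_contra hab
    have hc : ((⁅a, b⁆ : E) : Ω) ∈ Subgroup.zpowers w := h.comm _ (hES a.2) _ (hES b.2)
    have hc1 : ((⁅a, b⁆ : E) : Ω) ≠ 1 := fun e =>
      hab (commutatorElement_eq_one_iff_mul_comm.mp (Subtype.ext e))
    obtain ⟨k, hk⟩ := h.gen hc hc1
    have e : (⟨w, hwE⟩ : E) = ⁅a, b⁆ ^ k := Subtype.ext (by simpa using hk.symm)
    refine hgw ?_
    rw [e, map_zpow, map_commutatorElement, Subgroup.coe_zpow]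
    exact Subgroup.zpow_mem _ (h.comm _ (hES (g a).2) _ (hES (g b).2)) k
  · refine mem_normalizer_of_forall fun x hx => ?_
    rw [show s * x * s⁻¹ = ⁅s, x⁆ * x by rw [commutatorElement_def]; group]
    exact E.mul_mem (hZE (h.zpowers_le (h.comm _ hs _ (hES hx)))) hx

omit [Finite S] in
theorem Data.zpow_coe {E : Subgroup Ω} {wE y : E} (hwE : (wE : Ω) = w)
    (hy : (y : Ω) ∈ Subgroup.zpowers w) : ∃ i : ℤ, y = wE ^ i := by
  obtain ⟨i, hi⟩ := hy
  exact ⟨i, Subtype.ext (by simpa [hwE] using hi.symm)⟩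

/-- An element of `S` fixing a moved centre generator lies in the essential subgroup. -/
theorem Data.mem_of_fix (hF : F.IsSaturated p) (hE : F.IsEssential p E) {g : MulAut E}
    (hg : g ∈ F.autGroup E) {wE : E} (hwE : (wE : Ω) = w) (hgw : ((g wE : E) : Ω) ∉ Subgroup.zpowers w)
    {s : Ω} (hs : s ∈ S) (hsv : s * ((g wE : E) : Ω) = ((g wE : E) : Ω) * s) : s ∈ E := by
  obtain ⟨-, -, -, hab, hcent, hnorm⟩ := h.essential hF hE
  have hES : E ≤ S := hE.1.1
  have : Finite (MulAut E) := finite_mulAut hES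
  obtain ⟨-, R, hR⟩ := (fullyNormalized_good h.isP hF hE.2.1).1
  obtain ⟨u, huI, hue⟩ := exists_autInducedBy (K := S) hs (hnorm s hs)
  have hu : u ∈ F.autGroup E := autInducedBy_le_autGroup hES huI
  let X : Subgroup (F.autGroup E) :=
    { carrier := {a | (a : MulAut E) (g wE) = g wE}
      one_mem' := rfl
      mul_mem' := fun {a b} ha hb => by
        show (a : MulAut E) ((b : MulAut E) (g wE)) = g wE
        rw [show (b : MulAut E) (g wE) = g wE from hb]; exact ha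
      inv_mem' := fun {a} ha => by
        show ((a : MulAut E))⁻¹ (g wE) = g wE
        conv_lhs => rw [← show (a : MulAut E) (g wE) = g wE from ha]
        exact MulAut.inv_apply_self _ _ _ }
  have hfix : ∀ r ∈ (R : Subgroup (F.autGroup E)), (r : MulAut E) wE = wE := by
    intro r hr
    rw [hR] at hr
    obtain ⟨t, ht, hte⟩ := mem_autInducedBy.mp (hr : (r : MulAut E) ∈ autInducedBy S E)
    have hte' : ∀ x : E, (((r : MulAut E) x : E) : Ω) = t * x * t⁻¹ := hte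
    exact Subtype.ext (by rw [hte', hwE, zc_comm h.mem ht, mul_inv_cancel_right])
  obtain ⟨x, hx, t, ht, hxt⟩ := exists_conj_sylow R (⟨g, hg⟩ : F.autGroup E) X (fun r hr => by
      show g ((r : MulAut E) (g⁻¹ (g wE))) = g wE
      rw [MulAut.inv_apply_self, hfix r hr])
    (u := ⟨u, hu⟩) (by
      show u (g wE) = g wE
      exact Subtype.ext (by rw [hue, hsv, mul_inv_cancel_right]))
    (by rw [hR]; exact huI)
  set k : MulAut E := (x : MulAut E) * g
  have hu_eq : u = k * (t : MulAut E) * k⁻¹ := congrArg Subtype.val hxt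
  have hkw : k wE = g wE := hx
  rw [hR] at ht
  obtain ⟨t₀, ht₀, hte⟩ := mem_autInducedBy.mp (ht : (t : MulAut E) ∈ autInducedBy S E)
  have hte' : ∀ x : E, (((t : MulAut E) x : E) : Ω) = t₀ * x * t₀⁻¹ := hte
  refine hcent s hs fun e he => ?_
  by_contra hne
  -- the displacement lies in both lines
  have h1 : ((u ⟨e, he⟩ * ⟨e, he⟩⁻¹ : E) : Ω) = ⁅s, e⁆ := by
    simp [hue, commutatorElement_def]
  obtain ⟨f, hf⟩ := k.surjective (⟨e, he⟩ : E)
  have h2 : (((t : MulAut E) f * f⁻¹ : E) : Ω) ∈ Subgroup.zpowers w := by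
    rw [Subgroup.coe_mul, Subgroup.coe_inv, hte', ← commutatorElement_def]
    exact h.comm _ ht₀ _ (hES f.2)
  obtain ⟨j, hj⟩ := h.zpow_coe hwE h2
  have h3 : u ⟨e, he⟩ * ⟨e, he⟩⁻¹ = (g wE) ^ j := by
    rw [← hf, hu_eq, MulAut.mul_apply, MulAut.mul_apply, MulAut.inv_apply_self, ← map_inv, ← map_mul, hj,
      map_zpow, hkw]
  have hc : ⁅s, e⁆ ∈ Subgroup.zpowers w := h.comm _ hs _ (hES he)
  have hc1 : ⁅s, e⁆ ≠ 1 := fun e' => hne (commutatorElement_eq_one_iff_mul_comm.mp e').symm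
  have hwmem : w ∈ Subgroup.zpowers ((g wE : E) : Ω) := by
    refine Subgroup.zpowers_le.mpr ?_ (h.gen hc hc1)
    rw [← h1, h3, Subgroup.coe_zpow]
    exact Subgroup.zpow_mem _ (Subgroup.mem_zpowers _) j
  obtain ⟨i, hi⟩ := hwmem
  have hwne : w ≠ 1 := fun e' => (Fact.out : p.Prime).ne_one (by rw [← h.order, e', orderOf_one])
  -- `g wE` has order `p`
  have hvp : ((g wE : E) : Ω) ^ p = 1 := by
    have : wE ^ p = 1 := Subtype.ext (by rw [Subgroup.coe_pow, hwE, ← h.order, pow_orderOf_eq_one]; rfl)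
    rw [← Subgroup.coe_pow, ← map_pow, this, map_one]; rfl
  have hip : ¬ (p : ℤ) ∣ i := by
    rintro ⟨c, rfl⟩
    exact hwne (by rw [← hi]; simp [zpow_mul, zpow_natCast, hvp])
  obtain ⟨a, b, hab'⟩ := (Nat.prime_iff_prime_int.mp (Fact.out : p.Prime)).coprime_iff_not_dvd.mpr hip
  refine hgw ?_
  have : ((g wE : E) : Ω) = w ^ b := by
    conv_lhs => rw [← zpow_one ((g wE : E) : Ω), ← hab', zpow_add, mul_comm a, zpow_mul, zpow_natCast, hvp,
      one_zpow, one_mul, mul_comm b, zpow_mul]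
    exact congrArg (· ^ b) hi
  rw [this]
  exact Subgroup.zpow_mem _ (Subgroup.mem_zpowers w) b

theorem Data.exists_torus (hF : F.IsSaturated p) (hE : F.IsEssential p E) {g : MulAut E}
    (hg : g ∈ F.autGroup E) {wE : E} (hwE : (wE : Ω) = w) (hgw : ((g wE : E) : Ω) ∉ Subgroup.zpowers w) :
    ∃ α ∈ F.autGroup S, ((α ⟨w, h.mem.1⟩ : S) : Ω) = w⁻¹ ∧
      ∀ (x : Ω) (hx : x ∈ zc S), x⁻¹ * ((α ⟨x, hx.1⟩ : S) : Ω) ∈ Subgroup.zpowers w ∧
        (((α ⟨x, hx.1⟩ : S) : Ω) = x ↔ ∃ a : E, (a : Ω) ∈ zc S ∧ ((g a : E) : Ω) = x) := by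
  obtain ⟨hZE, hlt, -, hab, -, hnorm⟩ := h.essential hF hE
  have hES : E ≤ S := hE.1.1
  obtain ⟨s₀, hs₀, hs₀E⟩ := SetLike.exists_of_lt hlt
  set v : E := g wE with hv
  have hgw' : ((g⁻¹ wE : E) : Ω) ∉ Subgroup.zpowers w := by
    intro hmem
    obtain ⟨i, hi⟩ := h.zpow_coe hwE hmem
    have hwv : wE = v ^ i := by rw [hv, ← map_zpow, ← hi, MulAut.apply_inv_self]
    have hwne : w ≠ 1 := fun e' => (Fact.out : p.Prime).ne_one (by rw [← h.order, e', orderOf_one])
    have hwp : wE ^ (p : ℤ) = 1 := Subtype.ext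
      (by rw [Subgroup.coe_zpow, zpow_natCast, hwE, ← h.order, pow_orderOf_eq_one]; rfl)
    have hip : ¬ (p : ℤ) ∣ i := by
      rintro ⟨c, rfl⟩
      apply hwne
      rw [← hwE, hwv, zpow_mul, hv, ← map_zpow, hwp, map_one, one_zpow]
      rfl
    obtain ⟨a, b, hab'⟩ := (Nat.prime_iff_prime_int.mp (Fact.out : p.Prime)).coprime_iff_not_dvd.mpr hip
    refine hgw ?_
    have : v = wE ^ b := by
      conv_lhs => rw [← zpow_one v, ← hab', zpow_add, mul_comm a, zpow_mul, hv, ← map_zpow, hwp, map_one,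
        one_zpow, one_mul, mul_comm b, zpow_mul, ← hv, ← hwv]
    rw [this, Subgroup.coe_zpow, hwE]
    exact Subgroup.zpow_mem _ (Subgroup.mem_zpowers w) b
  have hsv : ∀ k ∈ F.autGroup E, ((k wE : E) : Ω) ∉ Subgroup.zpowers w → ∀ c ∈ Subgroup.zpowers w,
      ∃ u ∈ autInducedBy S E, (∀ x : E, (x : Ω) ∈ zc S → u x = x) ∧ ((u (k wE) : E) : Ω) = c * (k wE : E) := by
    intro k hk hkw c hc
    obtain ⟨s, hs, hsc⟩ := h.comm_surj (hES (k wE).2)
      ⟨s₀, hs₀, fun e => hs₀E (h.mem_of_fix hF hE hk hwE hkw hs₀ e)⟩ hc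
    obtain ⟨u, huI, hue⟩ := exists_autInducedBy (K := S) hs (hnorm s hs)
    refine ⟨u, huI, fun x hx => Subtype.ext (by rw [hue, zc_comm hx hs, mul_inv_cancel_right]), ?_⟩
    rw [hue, ← hsc, commutatorElement_def]; group
  obtain ⟨u, huI, hufix, huv⟩ := hsv g hg hgw w (Subgroup.mem_zpowers w)
  obtain ⟨u₁, hu₁I, hu₁fix, hu₁v⟩ := hsv g⁻¹ (Subgroup.inv_mem _ hg) hgw' w⁻¹
    (Subgroup.inv_mem _ (Subgroup.mem_zpowers w))
  have hu := autInducedBy_le_autGroup (F := F) hES huI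
  have hu₁ := autInducedBy_le_autGroup (F := F) hES hu₁I
  set v' : MulAut E := g * u₁ * g⁻¹ with hv'
  have hwz : (wE : Ω) ∈ zc S := hwE ▸ h.mem
  have e_uw : u wE = wE := hufix _ hwz
  have e_uv : u v = wE * v := Subtype.ext (by rw [huv, Subgroup.coe_mul, hwE])
  have e_vv : v' v = v := by
    rw [hv', MulAut.mul_apply, MulAut.mul_apply, hv, MulAut.inv_apply_self, hu₁fix _ hwz]
  have e_vw : v' wE = v⁻¹ * wE := by
    have e1 : u₁ (g⁻¹ wE) = wE⁻¹ * g⁻¹ wE := Subtype.ext (by rw [hu₁v, Subgroup.coe_mul, Subgroup.coe_inv, hwE])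
    rw [hv', MulAut.mul_apply, MulAut.mul_apply, e1, map_mul, map_inv, MulAut.apply_inv_self]
  set r : MulAut E := u * v' * u
  have e_rv : r v = wE := by
    simp only [r, MulAut.mul_apply, e_uv, map_mul, e_vv, e_vw, map_inv, e_uw]
    rw [hab (wE * v)⁻¹ wE, mul_assoc, inv_mul_cancel, mul_one]
  have e_rw : r wE = v⁻¹ := by
    simp only [r, MulAut.mul_apply, e_uw, e_vw, map_mul, map_inv, e_uv]
    rw [hab wE v, mul_inv_rev, hab wE⁻¹ v⁻¹, mul_assoc, inv_mul_cancel, mul_one]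
  set τ : MulAut E := r * r
  have e_τw : τ wE = wE⁻¹ := by rw [MulAut.mul_apply, e_rw, map_inv, e_rv]
  have e_τv : τ v = v⁻¹ := by rw [MulAut.mul_apply, e_rv, e_rw]
  have hv'G : v' ∈ F.autGroup E := Subgroup.mul_mem _ (Subgroup.mul_mem _ hg hu₁) (Subgroup.inv_mem _ hg)
  have hrG : r ∈ F.autGroup E := Subgroup.mul_mem _ (Subgroup.mul_mem _ hu hv'G) hu
  have hτ : τ ∈ F.autGroup E := Subgroup.mul_mem _ hrG hrG
  -- `E` is generated by the centre and any moved generator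
  have hdec : ∀ k ∈ F.autGroup E, ((k wE : E) : Ω) ∉ Subgroup.zpowers w →
      ∀ e : E, ∃ (x : E) (i : ℤ), (x : Ω) ∈ zc S ∧ e = x * (k wE) ^ i := by
    intro k hk hkw e
    obtain ⟨s, hs, hsc⟩ := h.comm_surj (hES (k wE).2)
      ⟨s₀, hs₀, fun e => hs₀E (h.mem_of_fix hF hE hk hwE hkw hs₀ e)⟩ (Subgroup.mem_zpowers w)
    have hconj : ∀ j : ℤ, s * (((k wE) ^ j : E) : Ω) * s⁻¹ = w ^ j * (((k wE) ^ j : E) : Ω) := by
      intro j
      have e1 : s * ((k wE : E) : Ω) * s⁻¹ = w * ((k wE : E) : Ω) := by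
        rw [← hsc, commutatorElement_def]; group
      rw [Subgroup.coe_zpow, ← conj_zpow, e1, Commute.mul_zpow]
      exact (zc_comm h.mem (hES (k wE).2)).symm
    obtain ⟨i, hi⟩ := h.comm _ hs _ (hES e.2)
    have hi' : w ^ i = ⁅s, (e : Ω)⁆ := hi
    refine ⟨e * ((k wE) ^ i)⁻¹, i, ?_, by group⟩
    refine ⟨hES (Subtype.mem _), fun y hy => ?_⟩
    -- `y` times a power of `s` lies in `E`
    have hsx : s * ((e * ((k wE) ^ i)⁻¹ : E) : Ω) = ((e * ((k wE) ^ i)⁻¹ : E) : Ω) * s := by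
      have h1 : s * (e : Ω) * s⁻¹ = w ^ i * e := by rw [hi', commutatorElement_def]; group
      have h2 : s * ((((k wE) ^ i : E) : Ω))⁻¹ * s⁻¹ = ((((k wE) ^ i : E) : Ω))⁻¹ * (w ^ i)⁻¹ := by
        rw [← mul_inv_rev, ← hconj i]; group
      rw [Subgroup.coe_mul, Subgroup.coe_inv]
      calc s * ((e : Ω) * ((((k wE) ^ i : E) : Ω))⁻¹)
          = (s * e * s⁻¹) * (s * ((((k wE) ^ i : E) : Ω))⁻¹ * s⁻¹) * s := by group
        _ = w ^ i * ((e : Ω) * ((((k wE) ^ i : E) : Ω))⁻¹) * (w ^ i)⁻¹ * s := by rw [h1, h2]; group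
        _ = _ := by
          rw [← zc_comm h.zpow_mem (S.mul_mem (hES e.2) (S.inv_mem (hES ((k wE) ^ i).2))),
            mul_inv_cancel_right]
    obtain ⟨j, hj⟩ := h.comm _ hy _ (hES (k wE).2)
    have hj' : w ^ j = ⁅y, ((k wE : E) : Ω)⁆ := hj
    have hyE : (s ^ j)⁻¹ * y ∈ E := by
      refine h.mem_of_fix hF hE hk hwE hkw (S.mul_mem (S.inv_mem (S.zpow_mem hs j)) hy) ?_
      have h1 : y * ((k wE : E) : Ω) * y⁻¹ = w ^ j * ((k wE : E) : Ω) := by
        rw [hj', commutatorElement_def]; group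
      have h3 : s ^ j * ((k wE : E) : Ω) * (s ^ j)⁻¹ = w ^ j * ((k wE : E) : Ω) := by
        have e1 : s * ((k wE : E) : Ω) * s⁻¹ = w * ((k wE : E) : Ω) := by
          rw [← hsc, commutatorElement_def]; group
        have e2 : ((k wE : E) : Ω)⁻¹ * s * ((k wE : E) : Ω)⁻¹⁻¹ = w * s := by
          rw [inv_inv, mul_assoc, mul_inv_eq_iff_eq_mul.mp e1, ← mul_assoc, ← mul_assoc,
            zc_comm h.mem (S.inv_mem (hES (k wE).2)), mul_assoc w, inv_mul_cancel, mul_one]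
        have e3 : ((k wE : E) : Ω)⁻¹ * s ^ j * ((k wE : E) : Ω)⁻¹⁻¹ = w ^ j * s ^ j := by
          rw [← conj_zpow, e2, Commute.mul_zpow]
          exact (zc_comm h.mem hs).symm
        rw [inv_inv, mul_assoc, inv_mul_eq_iff_eq_mul] at e3
        rw [e3, ← mul_assoc, mul_inv_cancel_right, zc_comm h.zpow_mem (hES (k wE).2)]
      calc (s ^ j)⁻¹ * y * ((k wE : E) : Ω)
          = (s ^ j)⁻¹ * (y * ((k wE : E) : Ω) * y⁻¹) * y := by group
        _ = (s ^ j)⁻¹ * (s ^ j * ((k wE : E) : Ω) * (s ^ j)⁻¹) * y := by rw [h1, h3]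
        _ = _ := by group
    have h5 := congrArg Subtype.val (hab ⟨_, hyE⟩ (e * ((k wE) ^ i)⁻¹))
    simp only [Subgroup.coe_mul] at h5 hsx ⊢
    have h6 : Commute (s ^ j) ((e : Ω) * (((k wE) ^ i)⁻¹ : E)) := (Commute.zpow_left hsx j)
    calc y * ((e : Ω) * (((k wE) ^ i)⁻¹ : E))
        = s ^ j * ((s ^ j)⁻¹ * y * ((e : Ω) * (((k wE) ^ i)⁻¹ : E))) := by group
      _ = s ^ j * ((e : Ω) * (((k wE) ^ i)⁻¹ : E) * ((s ^ j)⁻¹ * y)) := by rw [h5]
      _ = _ := by rw [← mul_assoc, h6.eq]; group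
  -- action on the centre
  have hact : ∀ x : E, (x : Ω) ∈ zc S → ∃ (a : E) (i : ℤ), (a : Ω) ∈ zc S ∧ (g⁻¹ a : E).1 ∈ zc S ∧
      x = a * wE ^ i ∧ τ x = a * (wE ^ i)⁻¹ := by
    intro x hx
    obtain ⟨x₁, i, hx₁, he⟩ := hdec g⁻¹ (Subgroup.inv_mem _ hg) hgw' (g⁻¹ x)
    have hxa : x = g x₁ * wE ^ i := by
      have := congrArg g he
      rwa [MulAut.apply_inv_self, map_mul, map_zpow, MulAut.apply_inv_self] at this
    have ha : ((g x₁ : E) : Ω) ∈ zc S := by
      have : g x₁ = x * (wE ^ i)⁻¹ := by rw [hxa]; group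
      rw [this, Subgroup.coe_mul, Subgroup.coe_inv, Subgroup.coe_zpow]
      exact Subgroup.mul_mem _ hx (Subgroup.inv_mem _ (Subgroup.zpow_mem _ hwz i))
    refine ⟨g x₁, i, ha, by rw [MulAut.inv_apply_self]; exact hx₁, hxa, ?_⟩
    have hv'a : v' (g x₁) = g x₁ := by
      rw [hv', MulAut.mul_apply, MulAut.mul_apply, MulAut.inv_apply_self, hu₁fix _ hx₁]
    have hra : r (g x₁) = g x₁ := by
      simp only [r, MulAut.mul_apply, hufix _ ha, hv'a]
    rw [hxa, map_mul, map_zpow, e_τw, inv_zpow]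
    congr 1
    rw [MulAut.mul_apply, hra, hra]
  have hτz : ∀ x : E, (x : Ω) ∈ zc S → ((τ x : E) : Ω) ∈ zc S := by
    intro x hx
    obtain ⟨a, i, ha, -, -, hτx⟩ := hact x hx
    rw [hτx, Subgroup.coe_mul, Subgroup.coe_inv, Subgroup.coe_zpow]
    exact Subgroup.mul_mem _ ha (Subgroup.inv_mem _ (Subgroup.zpow_mem _ hwz i))
  -- `τ` commutes with `Aut_S(E)`
  have hcommS : ∀ t ∈ S, ∀ (e : E) (he : t * (e : Ω) * t⁻¹ ∈ E),
      ((τ ⟨t * e * t⁻¹, he⟩ : E) : Ω) = t * (τ e : E) * t⁻¹ := by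
    intro t ht e he
    obtain ⟨x, i, hx, rfl⟩ := hdec g hg hgw e
    obtain ⟨c, hc⟩ := h.comm _ ht _ (hES v.2)
    have hc' : t * (v : Ω) * t⁻¹ = w ^ c * v := by
      rw [show w ^ c = ⁅t, (v : Ω)⁆ from hc, commutatorElement_def]; group
    have hcv : ∀ m : ℤ, t * ((v : Ω) ^ m) * t⁻¹ = w ^ (c * m) * (v : Ω) ^ m := fun m => by
      rw [← conj_zpow, hc', Commute.mul_zpow, zpow_mul]
      exact (zc_comm h.zpow_mem (hES v.2)).symm
    have htx : ∀ y ∈ zc S, t * y * t⁻¹ = y := fun y hy => by rw [zc_comm hy ht, mul_inv_cancel_right]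
    have e1 : (⟨t * ((x * v ^ i : E) : Ω) * t⁻¹, he⟩ : E) = x * wE ^ (c * i) * v ^ i := by
      apply Subtype.ext
      simp only [Subgroup.coe_mul, Subgroup.coe_zpow, hwE]
      calc t * ((x : Ω) * (v : Ω) ^ i) * t⁻¹ = (t * x * t⁻¹) * (t * (v : Ω) ^ i * t⁻¹) := by group
        _ = _ := by rw [htx _ hx, hcv, mul_assoc]
    rw [e1, map_mul, map_mul, map_mul, map_zpow, map_zpow, e_τw, e_τv]
    simp only [Subgroup.coe_mul, Subgroup.coe_zpow, Subgroup.coe_inv, hwE, inv_zpow']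
    calc ((τ x : E) : Ω) * w ^ (-(c * i)) * (v : Ω) ^ (-i)
        = (t * (τ x : E) * t⁻¹) * (t * (v : Ω) ^ (-i) * t⁻¹) := by
          rw [htx _ (hτz x hx), hcv, mul_assoc, mul_neg]
      _ = _ := by group
  -- extend to `S`
  have hφ := (mem_autGroup hES).mp hτ
  obtain ⟨-, hrec⟩ := fullyNormalized_good h.isP hF hE.2.1
  obtain ⟨ψ, hψ, hψe⟩ := hrec.2 E _ hφ (autMap_range τ)
  have hle : S ≤ extender S E (E.subtype.comp τ.toMonoidHom) := fun t ht =>
    Subgroup.subset_closure ⟨ht, hnorm t ht, t, ht, fun e he => hcommS t ht e he⟩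
  obtain ⟨α, hα, hαe⟩ := exists_aut (restrict_mem hle hψ)
    (range_eq_of_card_le (restrict_mem hle hψ) le_rfl (apply_mem_S (restrict_mem hle hψ)) le_rfl)
  have hαE : ∀ e : E, ((α ⟨e, hES e.2⟩ : S) : Ω) = ((τ e : E) : Ω) := by
    intro e
    rw [hαe]
    exact hψe _ e.2 _
  refine ⟨α, hα, ?_, fun x hx => ?_⟩
  · rw [show (⟨w, h.mem.1⟩ : S) = ⟨(wE : Ω), hES wE.2⟩ from Subtype.ext hwE.symm, hαE, e_τw,
      Subgroup.coe_inv, hwE]
  · obtain ⟨a, i, ha, ha', hxa, hτx⟩ := hact ⟨x, hZE hx⟩ hx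
    have e1 : ((α ⟨x, hx.1⟩ : S) : Ω) = (a : Ω) * (w ^ i)⁻¹ := by
      rw [show (⟨x, hx.1⟩ : S) = ⟨((⟨x, hZE hx⟩ : E) : Ω), hx.1⟩ from rfl, hαE, hτx]
      simp [hwE]
    have e2 : x = (a : Ω) * w ^ i := by
      have := congrArg Subtype.val hxa
      simpa [hwE] using this
    refine ⟨?_, ?_⟩
    · rw [e1, e2, mul_inv_rev, mul_assoc, inv_mul_cancel_left]
      exact Subgroup.mul_mem _ (Subgroup.inv_mem _ (Subgroup.zpow_mem _ (Subgroup.mem_zpowers w) i))
        (Subgroup.inv_mem _ (Subgroup.zpow_mem _ (Subgroup.mem_zpowers w) i))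
    constructor
    · intro hfix
      rw [e1, e2, mul_left_cancel_iff, inv_eq_iff_mul_eq_one, ← zpow_add, ← two_mul] at hfix
      have h0 := h.eq_one_of_sq hfix
      rw [h0, mul_one] at e2
      exact ⟨g⁻¹ a, ha', by rw [MulAut.apply_inv_self, e2]⟩
    · rintro ⟨b, hb, hbx⟩
      have hbfix : τ (g b) = g b := by
        have h1 : v' (g b) = g b := by
          rw [hv', MulAut.mul_apply, MulAut.mul_apply, MulAut.inv_apply_self, hu₁fix _ hb]
        have h2 : u (g b) = g b := hufix _ (hbx ▸ hx)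
        simp only [τ, r, MulAut.mul_apply, h1, h2]
      rw [show (⟨x, hx.1⟩ : S) = ⟨((g b : E) : Ω), hES (g b).2⟩ from Subtype.ext hbx.symm, hαE, hbfix, hbx]

/-- An automorphism of `S` that is unipotent on the centre is trivial there. -/
theorem Data.unipotent (hF : F.IsSaturated p) {γ : MulAut S} (hγ : γ ∈ F.autGroup S)
    (hw : ((γ ⟨w, h.mem.1⟩ : S) : Ω) = w)
    (hx : ∀ (x : Ω) (hx : x ∈ zc S), x⁻¹ * ((γ ⟨x, hx.1⟩ : S) : Ω) ∈ Subgroup.zpowers w)
    {x : Ω} (hxz : x ∈ zc S) : ((γ ⟨x, hxz.1⟩ : S) : Ω) = x := by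
  have : Finite (MulAut S) := finite_mulAut (le_refl S)
  have hn : F.IsFullyNormalized S :=
    ⟨le_rfl, fun Q hQ => by
      have hS' : normalizerIn S S = S := inf_eq_left.mpr Subgroup.le_normalizer
      rw [hS']
      exact card_le_of_map (subtype_mem (F := F) normalizerIn_le) le_rfl fun y => normalizerIn_le y.2⟩
  obtain ⟨-, R, hR⟩ := (fullyNormalized_good h.isP hF hn).1
  rw [← inn_eq_autInducedBy] at hR
  have hnor : (R : Subgroup (F.autGroup S)).Normal := hR ▸ normal_inn_subgroupOf F S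
  set N := (R : Subgroup (F.autGroup S)).index
  have hN : ¬ p ∣ N := R.not_dvd_index
  have hmem : (γ ^ N : MulAut S) ∈ Inn S := by
    have := Subgroup.pow_index_mem (R : Subgroup (F.autGroup S)) (⟨γ, hγ⟩ : F.autGroup S)
    have h' : (⟨γ, hγ⟩ : F.autGroup S) ^ N ∈ (Inn S).subgroupOf (F.autGroup S) := hR ▸ this
    exact h'
  obtain ⟨y, hy⟩ := mem_inn.mp hmem
  have hNx : (γ ^ N) ⟨x, hxz.1⟩ = ⟨x, hxz.1⟩ :=
    Subtype.ext (by rw [hy]; simp [zc_comm hxz y.2])
  obtain ⟨i, hi⟩ := hx x hxz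
  have hi' : w ^ i = x⁻¹ * ((γ ⟨x, hxz.1⟩ : S) : Ω) := hi
  set c : S := (⟨x, hxz.1⟩ : S)⁻¹ * γ ⟨x, hxz.1⟩ with hc
  have hcw : c = (⟨w, h.mem.1⟩ : S) ^ i := Subtype.ext (by simp [hc, hi'])
  have hcfix : γ c = c := by rw [hcw, map_zpow, show γ ⟨w, h.mem.1⟩ = ⟨w, h.mem.1⟩ from Subtype.ext hw]
  have hpow := coe_pow_apply_of_fixed (α := γ) (x := (⟨x, hxz.1⟩ : S)) hcfix N
  rw [hNx, left_eq_mul, ← hc] at hpow
  have hcp : c ^ p = 1 := by
    rw [hcw, ← zpow_natCast, ← zpow_mul, mul_comm, zpow_mul, zpow_natCast]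
    have hwp : w ^ p = 1 := by simpa [h.order] using pow_orderOf_eq_one w
    have : (⟨w, h.mem.1⟩ : S) ^ p = 1 := Subtype.ext (by simpa using hwp)
    rw [this, one_zpow]
  have hc1 : c = 1 := by
    rw [← orderOf_eq_one_iff]
    exact Nat.eq_one_of_dvd_coprimes ((Nat.Prime.coprime_iff_not_dvd Fact.out).mpr hN)
      (orderOf_dvd_of_pow_eq_one hcp) (orderOf_dvd_of_pow_eq_one hpow)
  rw [hc, inv_mul_eq_one] at hc1
  exact (congrArg Subtype.val hc1).symm

/-- The largest normal subgroup is nontrivial. -/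
theorem Data.core_ne_bot (hF : F.IsSaturated p) : F.core ≠ ⊥ := by
  classical
  have hS := h.isP
  have hwne : w ≠ 1 := fun e' => (Fact.out : p.Prime).ne_one (by rw [← h.order, e', orderOf_one])
  intro hcore
  by_cases hex : ∃ E, F.IsEssential p E
  swap
  · have hSn : F.IsNormal S := isNormal_of_essential hS hF (by
      rintro P (rfl | hP)
      · exact ⟨le_rfl, fun α _ x _ => (α x).2⟩
      · exact absurd ⟨P, hP⟩ hex)
    have : S ≤ F.core := le_sSup hSn
    rw [hcore] at this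
    exact hwne (Subgroup.mem_bot.mp (this h.mem.1))
  obtain ⟨E, hE⟩ := hex
  obtain ⟨hZE, hlt, ⟨g, hg, hgw⟩, -, -, -⟩ := h.essential hF hE
  have hgw := hgw ⟨w, hZE h.mem⟩ rfl
  obtain ⟨α, hα, hαw, hαz⟩ := h.exists_torus hF hE hg (wE := ⟨w, hZE h.mem⟩) rfl hgw
  -- agreement of two tori on the centre
  have hagree : ∀ β ∈ F.autGroup S, ((β ⟨w, h.mem.1⟩ : S) : Ω) = w⁻¹ →
      (∀ (x : Ω) (hx : x ∈ zc S), x⁻¹ * ((β ⟨x, hx.1⟩ : S) : Ω) ∈ Subgroup.zpowers w) →
      ∀ (x : Ω) (hx : x ∈ zc S), ((β ⟨x, hx.1⟩ : S) : Ω) = ((α ⟨x, hx.1⟩ : S) : Ω) := by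
    intro β hβ hβw hβz x hx
    have hβiw : β⁻¹ (⟨w, h.mem.1⟩ : S) = (⟨w, h.mem.1⟩ : S)⁻¹ := by
      apply β.injective
      rw [MulAut.apply_inv_self, map_inv]
      exact Subtype.ext (by rw [Subgroup.coe_inv, hβw, inv_inv])
    have h1 := h.unipotent hF (γ := β⁻¹ * α) (Subgroup.mul_mem _ (Subgroup.inv_mem _ hβ) hα) ?_ ?_ hx
    · have h2 : (β⁻¹ * α) (⟨x, hx.1⟩ : S) = ⟨x, hx.1⟩ := Subtype.ext h1
      have h3 := congrArg β h2
      rw [MulAut.mul_apply, MulAut.apply_inv_self] at h3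
      exact congrArg Subtype.val h3.symm
    · have e : α (⟨w, h.mem.1⟩ : S) = (⟨w, h.mem.1⟩ : S)⁻¹ := Subtype.ext (by rw [hαw]; rfl)
      rw [MulAut.mul_apply, e, map_inv, hβiw, inv_inv]
    · intro y hy
      obtain ⟨i, hi⟩ := (hαz y hy).1
      obtain ⟨j, hj⟩ := hβz y hy
      have hi' : α (⟨y, hy.1⟩ : S) = ⟨y, hy.1⟩ * (⟨w, h.mem.1⟩ : S) ^ i :=
        Subtype.ext (by simp [show w ^ i = y⁻¹ * _ from hi])
      have hj' : β (⟨y, hy.1⟩ : S) = ⟨y, hy.1⟩ * (⟨w, h.mem.1⟩ : S) ^ j :=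
        Subtype.ext (by simp [show w ^ j = y⁻¹ * _ from hj])
      have hjinv : β⁻¹ (⟨y, hy.1⟩ : S) = ⟨y, hy.1⟩ * (⟨w, h.mem.1⟩ : S) ^ j := by
        apply β.injective
        have e : β (⟨w, h.mem.1⟩ : S) = (⟨w, h.mem.1⟩ : S)⁻¹ := Subtype.ext (by rw [hβw]; rfl)
        rw [MulAut.apply_inv_self, map_mul, map_zpow, hj', e, inv_zpow, mul_inv_cancel_right]
      rw [MulAut.mul_apply, hi', map_mul, map_zpow, hβiw, hjinv, inv_zpow, Subgroup.coe_mul, Subgroup.coe_mul,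
        Subgroup.coe_inv, Subgroup.coe_zpow, Subgroup.coe_zpow, mul_assoc, inv_mul_cancel_left]
      exact Subgroup.mul_mem _ (Subgroup.zpow_mem _ (Subgroup.mem_zpowers w) j)
        (Subgroup.inv_mem _ (Subgroup.zpow_mem _ (Subgroup.mem_zpowers w) i))
  let A : Subgroup Ω :=
    { carrier := {x | ∃ hx : x ∈ zc S, ((α ⟨x, hx.1⟩ : S) : Ω) = x}
      one_mem' := ⟨Subgroup.one_mem _, congrArg Subtype.val (map_one α)⟩
      mul_mem' := by
        rintro a b ⟨ha, ha'⟩ ⟨hb, hb'⟩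
        refine ⟨Subgroup.mul_mem _ ha hb, ?_⟩
        rw [show (⟨a * b, _⟩ : S) = ⟨a, ha.1⟩ * ⟨b, hb.1⟩ from rfl, map_mul, Subgroup.coe_mul, ha', hb']
      inv_mem' := by
        rintro a ⟨ha, ha'⟩
        refine ⟨Subgroup.inv_mem _ ha, ?_⟩
        rw [show (⟨a⁻¹, _⟩ : S) = (⟨a, ha.1⟩ : S)⁻¹ from rfl, map_inv, Subgroup.coe_inv, ha'] }
  have hAn : F.IsNormal A := by
    refine isNormal_of_essential hS hF ?_
    rintro P (rfl | hP)
    · refine ⟨fun a ⟨ha, _⟩ => ha.1, fun β hβ a ha => ?_⟩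
      obtain ⟨hax, hafix⟩ := ha
      have hzinv : ∀ γ : MulAut ↥P, ∀ y : ↥P, (y : Ω) ∈ zc P → ((γ y : ↥P) : Ω) ∈ zc P := by
        intro γ y hy
        refine ⟨(γ y).2, fun z hz => ?_⟩
        obtain ⟨z', hz'⟩ := γ.surjective ⟨z, hz⟩
        have hc : z' * y = y * z' := Subtype.ext (zc_comm hy z'.2)
        have := congrArg Subtype.val (show γ z' * γ y = γ y * γ z' by rw [← map_mul, hc, map_mul])
        rwa [hz'] at this
      have hβa := hzinv β a hax
      refine ⟨hβa, ?_⟩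
      -- `β` preserves `⟨w⟩`
      have hwinv : ∀ γ : MulAut ↥P, ∃ m : ℤ, γ ⟨w, h.mem.1⟩ = (⟨w, h.mem.1⟩ : ↥P) ^ m := by
        intro γ
        obtain ⟨s₀, hs₀, hs₀E⟩ := SetLike.exists_of_lt hlt
        obtain ⟨s, hs, hsc⟩ := h.comm_surj (hE.1.1 (g ⟨w, hZE h.mem⟩).2)
          ⟨s₀, hs₀, fun e => hs₀E (h.mem_of_fix hF hE hg rfl hgw hs₀ e)⟩ (Subgroup.mem_zpowers w)
        have e : (⟨w, h.mem.1⟩ : ↥P) = ⁅(⟨s, hs⟩ : ↥P), ⟨_, hE.1.1 (g ⟨w, hZE h.mem⟩).2⟩⁆ :=
          Subtype.ext hsc.symm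
        obtain ⟨m, hm⟩ := h.comm _ (γ ⟨s, hs⟩).2 _ (γ ⟨_, hE.1.1 (g ⟨w, hZE h.mem⟩).2⟩).2
        refine ⟨m, ?_⟩
        conv_lhs => rw [e, map_commutatorElement]
        exact Subtype.ext hm.symm
      have h1 := hagree (β⁻¹ * α * β)
        (Subgroup.mul_mem _ (Subgroup.mul_mem _ (Subgroup.inv_mem _ hβ) hα) hβ) ?_ ?_ _ hax
      · rw [hafix] at h1
        have h2 : (β⁻¹ * α * β) ⟨(a : Ω), hax.1⟩ = a := Subtype.ext h1
        have h3 := congrArg β h2
        rw [MulAut.mul_apply, MulAut.mul_apply, MulAut.apply_inv_self] at h3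
        exact congrArg Subtype.val h3
      · obtain ⟨m, hm⟩ := hwinv β
        have e : α (⟨w, h.mem.1⟩ : ↥P) = (⟨w, h.mem.1⟩ : ↥P)⁻¹ := Subtype.ext (by rw [hαw]; rfl)
        rw [MulAut.mul_apply, MulAut.mul_apply, hm, map_zpow, e, inv_zpow, ← hm, map_inv, MulAut.inv_apply_self]
        rfl
      · intro y hy
        have hβy := hzinv β ⟨y, hy.1⟩ hy
        obtain ⟨i, hi⟩ := (hαz _ hβy).1
        have hi' : α (β ⟨y, hy.1⟩) = β ⟨y, hy.1⟩ * (⟨w, h.mem.1⟩ : ↥P) ^ i :=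
          Subtype.ext (by simp [show w ^ i = _⁻¹ * _ from hi])
        obtain ⟨m, hm⟩ := hwinv β⁻¹
        rw [MulAut.mul_apply, MulAut.mul_apply, hi', map_mul, MulAut.inv_apply_self, map_zpow, hm,
          Subgroup.coe_mul, inv_mul_cancel_left, Subgroup.coe_zpow, Subgroup.coe_zpow]
        exact Subgroup.zpow_mem _ (Subgroup.zpow_mem _ (Subgroup.mem_zpowers w) m) i
    · obtain ⟨hZP, -, ⟨k₀, hk₀, hk₀w⟩, -, -, hnormP⟩ := h.essential hF hP
      have hk₀w := hk₀w ⟨w, hZP h.mem⟩ rfl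
      refine ⟨fun a ⟨ha, _⟩ => hZP ha, fun β hβ a ha => ?_⟩
      obtain ⟨hax, hafix⟩ := ha
      have : Finite (MulAut P) := finite_mulAut hP.1.1
      have : Finite P := finite_of_le hP.1.1
      -- `a` lies in every conjugate of the centre
      have hall : ∀ k ∈ F.autGroup P, ∃ b : P, (b : Ω) ∈ zc S ∧ k b = a := by
        intro k hk
        by_cases hkw : ((k ⟨w, hZP h.mem⟩ : P) : Ω) ∈ Subgroup.zpowers w
        · refine ⟨k⁻¹ a, ?_, MulAut.apply_inv_self _ _ _⟩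
          obtain ⟨-, R, hR⟩ := (fullyNormalized_good hS hF hP.2.1).1
          let wP : P := ⟨w, hZP h.mem⟩
          let K : Subgroup (F.autGroup P) :=
            { carrier := {c | (c : MulAut P) wP = wP ∧ ∀ f : P, f⁻¹ * (c : MulAut P) f ∈ Subgroup.zpowers wP}
              one_mem' := ⟨rfl, fun f => by simp⟩
              mul_mem' := fun {c d} hc hd => by
                refine ⟨?_, fun f => ?_⟩
                · show (c : MulAut P) ((d : MulAut P) wP) = wP
                  rw [hd.1, hc.1]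
                · obtain ⟨i, hi⟩ := hd.2 f
                  have e : (d : MulAut P) f = f * wP ^ i := by
                    rw [show wP ^ i = f⁻¹ * _ from hi, mul_inv_cancel_left]
                  show f⁻¹ * (c : MulAut P) ((d : MulAut P) f) ∈ _
                  rw [e, map_mul, map_zpow, hc.1, ← mul_assoc]
                  exact Subgroup.mul_mem _ (hc.2 f) (Subgroup.zpow_mem _ (Subgroup.mem_zpowers _) i)
              inv_mem' := fun {c} hc => by
                have h1 : (c : MulAut P)⁻¹ wP = wP := by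
                  conv_lhs => rw [← hc.1]
                  exact MulAut.inv_apply_self _ _ _
                refine ⟨h1, fun f => ?_⟩
                obtain ⟨i, hi⟩ := hc.2 ((c : MulAut P)⁻¹ f)
                rw [MulAut.apply_inv_self] at hi
                show f⁻¹ * (c : MulAut P)⁻¹ f ∈ _
                refine ⟨-i, ?_⟩
                show wP ^ (-i) = _
                rw [zpow_neg, show wP ^ i = _ from hi, mul_inv_rev, inv_inv] }
          have hKp : IsPGroup p K := by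
            rintro ⟨c, hc⟩
            let L : ℕ → Subgroup P := fun i => if i = 0 then ⊥ else if i = 1 then Subgroup.zpowers wP else ⊤
            obtain ⟨l, hl⟩ := exists_pow_eq_one_of_stabilizes (hS.to_le hP.1.1) L (n := 2)
              (fun i hi => by interval_cases i <;> simp [L]) (by simp [L]) (α := (c : MulAut P))
              ⟨0, fun x hx => by
                simp only [L, if_pos rfl, Subgroup.mem_bot] at hx
                simp [hx]⟩ (fun i hi x hx => by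
                interval_cases i
                · simp only [L, zero_add, one_ne_zero, if_false, if_true] at hx
                  obtain ⟨m, rfl⟩ := hx
                  simp [L, hc.1]
                · simp only [L, one_ne_zero, if_false, if_true]
                  exact hc.2 x)
            exact ⟨l, Subtype.ext (Subtype.ext (by simpa using hl))⟩
          have hwfix : ∀ t ∈ S, t * w * t⁻¹ = w := fun t ht => by rw [zc_comm h.mem ht, mul_inv_cancel_right]
          have hRK : (R : Subgroup (F.autGroup P)) ≤ K := by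
            intro c hc
            rw [hR] at hc
            obtain ⟨t, ht, hte⟩ := mem_autInducedBy.mp (hc : (c : MulAut P) ∈ autInducedBy S P)
            have hte' : ∀ x : P, (((c : MulAut P) x : P) : Ω) = t * x * t⁻¹ := hte
            refine ⟨Subtype.ext (by rw [hte']; exact hwfix t ht), fun f => ?_⟩
            obtain ⟨i, hi⟩ := h.comm _ (S.inv_mem (hP.1.1 f.2)) _ ht
            refine ⟨i, Subtype.ext ?_⟩
            rw [Subgroup.coe_zpow, Subgroup.coe_mul, Subgroup.coe_inv, hte', show w ^ i = _ from hi,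
              commutatorElement_def]
            group
          have hKR : K = (R : Subgroup (F.autGroup P)) := R.3 hKp hRK
          refine ⟨hP.1.1 (k⁻¹ a).2, fun t ht => ?_⟩
          obtain ⟨c, hcI, hce⟩ := exists_autInducedBy (K := S) ht (hnormP t ht)
          have hcG := autInducedBy_le_autGroup (F := F) hP.1.1 hcI
          have hcK : (⟨c, hcG⟩ : F.autGroup P) ∈ K := hRK (by rw [hR]; exact hcI)
          have hconj : (⟨k, hk⟩ : F.autGroup P) * ⟨c, hcG⟩ * (⟨k, hk⟩ : F.autGroup P)⁻¹ ∈ K := by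
            obtain ⟨m, hm⟩ := h.zpow_coe (wE := wP) rfl hkw
            refine ⟨?_, fun f => ?_⟩
            · show k (c (k⁻¹ wP)) = wP
              have hwP1 : wP ≠ 1 := fun e => hwne (congrArg Subtype.val e)
              have hmem : k⁻¹ wP ∈ Subgroup.zpowers wP := by
                have hc' : Subgroup.zpowers (k wP) = Subgroup.zpowers wP := by
                  have : Fact (Nat.card (Subgroup.zpowers wP)).Prime := ⟨by
                    rw [Nat.card_zpowers, ← Subgroup.orderOf_coe, h.order]; exact Fact.out⟩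
                  refine le_antisymm (Subgroup.zpowers_le.mpr ⟨m, hm.symm⟩) ?_
                  rcases Subgroup.eq_bot_or_eq_top_of_prime_card
                    ((Subgroup.zpowers (k wP)).subgroupOf (Subgroup.zpowers wP)) with e | e
                  · have h1 : (⟨k wP, ⟨m, hm.symm⟩⟩ : Subgroup.zpowers wP) ∈
                        (Subgroup.zpowers (k wP)).subgroupOf (Subgroup.zpowers wP) := Subgroup.mem_zpowers _
                    rw [e, Subgroup.mem_bot] at h1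
                    exact absurd ((map_eq_one_iff k k.injective).mp (congrArg Subtype.val h1)) hwP1
                  · exact Subgroup.subgroupOf_eq_top.mp e
                obtain ⟨l, hl⟩ : wP ∈ Subgroup.zpowers (k wP) := hc'.ge (Subgroup.mem_zpowers wP)
                refine ⟨l, ?_⟩
                apply k.injective
                show k (wP ^ l) = k (k⁻¹ wP)
                rw [MulAut.apply_inv_self, map_zpow]
                exact hl
              obtain ⟨l, hl⟩ := hmem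
              rw [show k⁻¹ wP = wP ^ l from hl.symm, map_zpow, show c wP = wP from hcK.1, show wP ^ l = k⁻¹ wP from hl,
                MulAut.apply_inv_self]
            · show f⁻¹ * k (c (k⁻¹ f)) ∈ Subgroup.zpowers wP
              obtain ⟨i, hi⟩ := hcK.2 (k⁻¹ f)
              have e : f⁻¹ * k (c (k⁻¹ f)) = k ((k⁻¹ f)⁻¹ * c (k⁻¹ f)) := by
                rw [map_mul, map_inv, MulAut.apply_inv_self]
              rw [e, show (k⁻¹ f)⁻¹ * c (k⁻¹ f) = wP ^ i from hi.symm, map_zpow, hm]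
              exact Subgroup.zpow_mem _ (Subgroup.zpow_mem _ (Subgroup.mem_zpowers _) m) i
          rw [hKR, hR] at hconj
          obtain ⟨t', ht', hte⟩ := mem_autInducedBy.mp (hconj : k * c * k⁻¹ ∈ autInducedBy S P)
          have hte' : ∀ x : P, (((k * c * k⁻¹) x : P) : Ω) = t' * x * t'⁻¹ := hte
          have h1 : (k * c * k⁻¹) a = a :=
            Subtype.ext (by rw [hte', zc_comm hax ht', mul_inv_cancel_right])
          have h2 : c (k⁻¹ a) = k⁻¹ a := by
            apply k.injective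
            rw [MulAut.apply_inv_self]
            exact h1
          have h3 := congrArg Subtype.val h2
          rw [hce, mul_inv_eq_iff_eq_mul] at h3
          exact h3
        · obtain ⟨α', hα', hα'w, hα'z⟩ := h.exists_torus hF hP hk (wE := ⟨w, hZP h.mem⟩) rfl hkw
          have := hagree α' hα' hα'w (fun y hy => (hα'z y hy).1) _ hax
          obtain ⟨b, hb, hbe⟩ := (hα'z _ hax).2.mp (this.trans hafix)
          exact ⟨b, hb, Subtype.ext hbe⟩
      have hβa : ((β a : P) : Ω) ∈ zc S := by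
        obtain ⟨b, hb, hbe⟩ := hall β⁻¹ (Subgroup.inv_mem _ hβ)
        rw [← hbe, MulAut.apply_inv_self]
        exact hb
      refine ⟨hβa, ?_⟩
      obtain ⟨α', hα', hα'w, hα'z⟩ := h.exists_torus hF hP hk₀ (wE := ⟨w, hZP h.mem⟩) rfl hk₀w
      rw [← hagree α' hα' hα'w (fun y hy => (hα'z y hy).1) _ hβa, (hα'z _ hβa).2]
      obtain ⟨b, hb, hbe⟩ := hall (β⁻¹ * k₀) (Subgroup.mul_mem _ (Subgroup.inv_mem _ hβ) hk₀)
      refine ⟨b, hb, ?_⟩
      rw [← hbe, MulAut.mul_apply, MulAut.apply_inv_self]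
  -- `A` is nontrivial
  obtain ⟨z, hz, hzw⟩ := SetLike.not_le_iff_exists.mp h.not_le
  obtain ⟨i, hi⟩ := (hαz z hz).1
  have hi' : ((α ⟨z, hz.1⟩ : S) : Ω) = z * w ^ i := by rw [show w ^ i = z⁻¹ * _ from hi, mul_inv_cancel_left]
  obtain ⟨n, hn⟩ := h.odd
  have hA : A = ⊥ := le_bot_iff.mp (hcore ▸ le_sSup hAn)
  have hy : z * w ^ (-((n : ℤ) * i)) ∈ A := by
    refine ⟨Subgroup.mul_mem _ hz h.zpow_mem, ?_⟩
    have e : (⟨z * w ^ (-((n : ℤ) * i)), (Subgroup.mul_mem _ hz h.zpow_mem : _ ∈ zc S).1⟩ : S)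
        = ⟨z, hz.1⟩ * (⟨w, h.mem.1⟩ : S) ^ (-((n : ℤ) * i)) := Subtype.ext (by simp)
    rw [e, map_mul, map_zpow, Subgroup.coe_mul, Subgroup.coe_zpow, hi', hαw, inv_zpow', mul_assoc, ← zpow_add]
    congr 1
    have hp' : w ^ (((2 * n + 1 : ℕ) : ℤ) * i) = 1 := by
      rw [zpow_mul, zpow_natCast, ← hn, ← h.order, pow_orderOf_eq_one, one_zpow]
    rw [show i + -(-((n : ℤ) * i)) = ((2 * n + 1 : ℕ) : ℤ) * i + -((n : ℤ) * i) by push_cast; ring, zpow_add,
      hp', one_mul]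
  rw [hA, Subgroup.mem_bot] at hy
  exact hzw ((eq_inv_of_mul_eq_one_left hy).symm ▸
    Subgroup.inv_mem _ (Subgroup.zpow_mem _ (Subgroup.mem_zpowers w) _))

end CfsgLib.Fusion.ExtraIndex
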