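import Cfsg.Agent.Lib.Fusion.FamilyQuadratic

/-!
# The intersection of a family of abelian subgroups controls `p`-nilpotency, `p` odd

If `L` has self-centralizing `O_p` and the normalizer of the intersection of an invariant family of abelian
subgroups of a Sylow subgroup satisfying the replacement property is contained in that Sylow subgroup, then
`L` is a `p`-group.
-/

namespace CfsgLib.Fusion.Family

open Cfsg Cfsg.FusionSystem CfsgLib.Fusion
open scoped commutatorElement

universe u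

variable {G : Type*} [Group G]

/-- The intersection of the members inside `Q`. -/
def famInf (Fam : Set (Subgroup G)) (Q : Subgroup G) : Subgroup G := ⨅ A ∈ {A | A ∈ Fam ∧ A ≤ Q}, A

theorem mem_famInf {Fam : Set (Subgroup G)} {Q : Subgroup G} {x : G} :
    x ∈ famInf Fam Q ↔ ∀ A ∈ Fam, A ≤ Q → x ∈ A := by
  simp only [famInf, Subgroup.mem_iInf, Set.mem_setOf_eq, and_imp]

theorem famInf_eq {Fam : Set (Subgroup G)} {Q : Subgroup G} (h : ∀ A ∈ Fam, A ≤ Q) :
    famInf Fam Q = ⨅ A ∈ Fam, A := by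
  ext x
  simp only [mem_famInf, Subgroup.mem_iInf]
  exact ⟨fun hx A hA => hx A hA (h A hA), fun hx A hA _ => hx A hA⟩

theorem famInf_le {Fam : Set (Subgroup G)} {Q A : Subgroup G} (hA : A ∈ Fam) (h : A ≤ Q) :
    famInf Fam Q ≤ A := fun _ hx => mem_famInf.mp hx A hA h

variable {L : Type u} [Group L] [Finite L] {p : ℕ} [Fact p.Prime]

/-- The conditions on a family relative to a Sylow subgroup. -/
structure Cond (T : Subgroup L) (Fam : Set (Subgroup L)) : Prop where
  abelian : ∀ A ∈ Fam, A ≤ T ∧ IsMulCommutative A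
  nonempty : Fam.Nonempty
  invariant : ∀ Q : Subgroup L, Q ≤ T → (∃ A ∈ Fam, A ≤ Q) → ∀ l ∈ Subgroup.normalizer (Q : Set L),
    ∀ x ∈ famInf Fam Q, l * x * l⁻¹ ∈ famInf Fam Q
  replacement : ∀ B : Subgroup L, B ≤ T → ⁅⁅B, B⁆, B⁆ = ⊥ → (∃ A ∈ Fam, ⁅B, B⁆ ≤ A ∧ ¬ B ≤ A) →
    ∃ A ∈ Fam, ⁅B, B⁆ ≤ A ∧ ¬ B ≤ A ∧ B ≤ Subgroup.normalizer (A : Set L)

theorem Cond.subgroup {T : Subgroup L} {Fam : Set (Subgroup L)} (h : Cond T Fam) {H : Subgroup L}
    (hTH : T ≤ H) : Cond (T.subgroupOf H) {A | A.map H.subtype ∈ Fam} := by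
  have hback : ∀ A ∈ Fam, (A.subgroupOf H).map H.subtype = A := fun A hA =>
    Subgroup.map_subgroupOf_eq_of_le ((h.abelian A hA).1.trans hTH)
  have hle : ∀ {A B : Subgroup H}, A ≤ B ↔ A.map H.subtype ≤ B.map H.subtype := fun {A B} =>
    (Subgroup.map_le_map_iff_of_injective H.subtype_injective).symm
  have hT : (T.subgroupOf H).map H.subtype = T := Subgroup.map_subgroupOf_eq_of_le hTH
  have hmem : ∀ (Q : Subgroup H) (x : H), x ∈ famInf {A : Subgroup H | A.map H.subtype ∈ Fam} Q ↔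
      (x : L) ∈ famInf Fam (Q.map H.subtype) := by
    intro Q x
    rw [mem_famInf, mem_famInf]
    constructor
    · intro hx A hA hAQ
      have := hx (A.subgroupOf H) (show (A.subgroupOf H).map H.subtype ∈ Fam by rw [hback A hA]; exact hA)
        (hle.mpr (by rw [hback A hA]; exact hAQ))
      exact this
    · intro hx A hA hAQ
      obtain ⟨y, hy, hyx⟩ := hx _ hA (hle.mp hAQ)
      rw [show x = y from Subtype.ext hyx.symm]
      exact hy
  refine ⟨fun A hA => ⟨hle.mpr (hT.symm ▸ (h.abelian _ hA).1), ?_⟩, ?_, ?_, ?_⟩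
  · have hc := (h.abelian _ hA).2
    have hm : ∀ a : A, ((a : H) : L) ∈ A.map H.subtype := fun a => ⟨a.1, a.2, rfl⟩
    exact ⟨⟨fun a b => Subtype.ext (Subtype.ext
      (setLike_mul_comm (hm a) (hm b)))⟩⟩
  · obtain ⟨A, hA⟩ := h.nonempty
    exact ⟨A.subgroupOf H, show (A.subgroupOf H).map H.subtype ∈ Fam by rw [hback A hA]; exact hA⟩
  · intro Q hQ ⟨A, hA, hAQ⟩ l hl x hx
    rw [hmem] at hx ⊢
    refine h.invariant (Q.map H.subtype) (hT ▸ hle.mp hQ) ⟨_, hA, hle.mp hAQ⟩ (l : L) ?_ _ hx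
    refine mem_normalizer_of_forall fun y hy => ?_
    obtain ⟨w, hw, rfl⟩ := hy
    exact ⟨l * w * l⁻¹, (Subgroup.mem_normalizer_iff.mp hl w).mp hw, rfl⟩
  · intro B hB hBBB ⟨A, hA, hAB, hBA⟩
    have hcB : ⁅⁅B.map H.subtype, B.map H.subtype⁆, B.map H.subtype⁆ = ⊥ := by
      rw [← Subgroup.map_commutator, ← Subgroup.map_commutator, hBBB, Subgroup.map_bot]
    obtain ⟨A', hA', h1, h2, h3⟩ := h.replacement (B.map H.subtype) (hT ▸ hle.mp hB) hcB
      ⟨_, hA, by rw [← Subgroup.map_commutator]; exact hle.mp hAB, fun hc => hBA (hle.mpr hc)⟩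
    refine ⟨A'.subgroupOf H, show (A'.subgroupOf H).map H.subtype ∈ Fam by rw [hback A' hA']; exact hA',
      hle.mpr (by rw [Subgroup.map_commutator, hback A' hA']; exact h1),
      fun hc => h2 (by rw [← hback A' hA']; exact hle.mp hc), fun b hb => mem_normalizer_of_forall fun y hy => ?_⟩
    exact (Subgroup.mem_normalizer_iff.mp (h3 ⟨b, hb, rfl⟩) (y : L)).mp hy

/-- `N_L(⋂ Fam) ≤ T` forces `L = T`. -/
theorem eq_top_of_family (hp : p ≠ 2) : ∀ (n : ℕ) (L : Type u) [Group L] [Finite L] (T : Sylow p L)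
    (Fam : Set (Subgroup L)), Nat.card L < n → Subgroup.centralizer ((pCore p L : Subgroup L) : Set L) ≤ pCore p L →
    Cond (T : Subgroup L) Fam → Subgroup.normalizer ((⨅ A ∈ Fam, A : Subgroup L) : Set L) ≤ T →
    (T : Subgroup L) = ⊤ := by
  intro n
  induction n with
  | zero => intro L _ _ T Fam h; omega
  | succ n ih =>
  intro L _ _ T Fam hlt hcon hFam hN
  by_contra hTtop
  set O := pCore p L with hO
  have hOn : O.Normal := model_core_normal
  have hOp : IsPGroup p O := CfsgLib.PCore.pCore_isPGroup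
  have hOT : O ≤ T := CfsgLib.PCore.pCore_le_sylow T
  have hmax : ∀ H : Subgroup L, (T : Subgroup L) ≤ H → H ≠ ⊤ → H = T := by
    intro H hTH hH
    have hlt' : Nat.card H < Nat.card L :=
      lt_of_le_of_ne (Subgroup.card_le_card_group H) fun e => hH ((Subgroup.card_eq_iff_eq_top H).mp e)
    have hOH : O ≤ H := hOT.trans hTH
    have hcore : O.subgroupOf H ≤ pCore p H :=
      le_sSup ⟨inferInstance, hOp.comap_of_injective _ H.subtype_injective⟩
    have hHcon : Subgroup.centralizer ((pCore p H : Subgroup H) : Set H) ≤ pCore p H := by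
      intro x hx
      refine hcore (hcon (Subgroup.mem_centralizer_iff.mpr fun y hy => ?_))
      exact congrArg Subtype.val (Subgroup.mem_centralizer_iff.mp hx ⟨y, hOH hy⟩ (hcore hy))
    have hback : ∀ A ∈ Fam, (A.subgroupOf H).map H.subtype = A := fun A hA =>
      Subgroup.map_subgroupOf_eq_of_le ((hFam.abelian A hA).1.trans hTH)
    have hT' : ((T.subtype hTH : Sylow p H) : Subgroup H) = (T : Subgroup L).subgroupOf H := Sylow.coe_subtype ..
    have h1 := ih H (T.subtype hTH) {A | A.map H.subtype ∈ Fam} (by omega) hHcon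
      (hT'.symm ▸ hFam.subgroup hTH) (by
        rw [hT']
        intro l hl
        refine Subgroup.mem_subgroupOf.mpr (hN (mem_normalizer_of_forall fun x hx => ?_))
        simp only [Subgroup.mem_iInf] at hx ⊢
        obtain ⟨A₀, hA₀⟩ := hFam.nonempty
        have hxH : x ∈ H := hTH ((hFam.abelian _ hA₀).1 (hx A₀ hA₀))
        have hx' : (⟨x, hxH⟩ : H) ∈ (⨅ A ∈ {A : Subgroup H | A.map H.subtype ∈ Fam}, A) := by
          simp only [Subgroup.mem_iInf]
          intro A hA
          obtain ⟨y, hy, hyx⟩ := hx _ hA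
          rw [show (⟨x, hxH⟩ : H) = y from Subtype.ext hyx.symm]
          exact hy
        have h2 := (Subgroup.mem_normalizer_iff.mp hl _).mp hx'
        simp only [Subgroup.mem_iInf] at h2
        intro A hA
        exact h2 (A.subgroupOf H) (show (A.subgroupOf H).map H.subtype ∈ Fam by rw [hback A hA]; exact hA))
    rw [hT'] at h1
    exact le_antisymm (fun x hx => Subgroup.mem_subgroupOf.mp (h1.ge (Subgroup.mem_top (⟨x, hx⟩ : H)))) hTH
  set Z := famInf Fam (T : Subgroup L) with hZdef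
  have hZeq : Z = ⨅ A ∈ Fam, A := famInf_eq fun A hA => (hFam.abelian A hA).1
  obtain ⟨A₀, hA₀⟩ := hFam.nonempty
  have hZA : ∀ A ∈ Fam, Z ≤ A := fun A hA => famInf_le hA (hFam.abelian A hA).1
  have hTZ : (T : Subgroup L) ≤ Subgroup.normalizer (Z : Set L) := fun t ht =>
    mem_normalizer_of_forall (hFam.invariant _ le_rfl ⟨A₀, hA₀, (hFam.abelian A₀ hA₀).1⟩ t
      (Subgroup.le_normalizer ht))
  have hZT : Z ≤ T := (hZA A₀ hA₀).trans (hFam.abelian A₀ hA₀).1
  have hZab : ∀ a ∈ Z, ∀ b ∈ Z, a * b = b * a := fun a ha b hb => by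
    have := (hFam.abelian A₀ hA₀).2
    exact setLike_mul_comm (hZA A₀ hA₀ ha) (hZA A₀ hA₀ hb)
  have hZnot : ¬ Z.Normal := fun h => hTtop (top_le_iff.mp (by
    refine le_trans ?_ hN
    rw [← hZeq, Subgroup.normalizer_eq_top]))
  have hnorm_of : ∀ X : Subgroup L, Subgroup.normalizer (X : Set L) = ⊤ → X.Normal := fun X h =>
    Subgroup.normalizer_eq_top_iff.mp h
  have hquad : ∀ (B : Subgroup L), B.Normal → B ≤ O → Subgroup.centralizer (B : Set L) ≤ O → ∀ g ∈ (T : Subgroup L),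
      ⁅⁅B, Subgroup.zpowers g⁆, Subgroup.zpowers g⁆ = ⊥ → g ∈ O := fun B hB hBO hC g hg h => by
    have := hB
    exact mem_pCore_of_quadratic hp T hcon hmax hBO hC hg h
  have hquadA : ∀ (B A : Subgroup L), B ≤ Subgroup.normalizer (A : Set L) → IsMulCommutative A →
      ∀ g ∈ A, ⁅⁅B, Subgroup.zpowers g⁆, Subgroup.zpowers g⁆ = ⊥ := by
    intro B A hBA hAc g hg
    refine Subgroup.commutator_eq_bot_iff_le_centralizer.mpr ?_
    refine ((Subgroup.commutator_mono le_rfl (Subgroup.zpowers_le.mpr hg)).trans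
      (Subgroup.le_normalizer_iff_commutator_le_right.mp hBA)).trans ?_
    exact fun a ha b hb => setLike_mul_comm (Subgroup.zpowers_le.mpr hg hb) ha
  have hZO : Z ≤ O := fun z hz => hquad O hOn le_rfl hcon z (hZT hz)
    (hquadA O Z (hOT.trans hTZ) (⟨⟨fun a b => Subtype.ext (hZab a a.2 b b.2)⟩⟩) z hz)
  classical
  obtain ⟨B, ⟨hBn, hBO, hBZ⟩, hBmin⟩ := Set.exists_min_image
    {B : Subgroup L | B.Normal ∧ B ≤ O ∧ ¬ (B ⊓ Z).Normal} (fun B => Nat.card B) (Set.toFinite _)
    ⟨O, hOn, le_rfl, by rwa [inf_eq_right.mpr hZO]⟩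
  have hBT : B ≤ T := hBO.trans hOT
  have hsmall : ∀ B' : Subgroup L, B'.Normal → B' < B → (B' ⊓ Z).Normal := by
    intro B' hn' hlt'
    by_contra hn''
    exact hlt'.ne (Subgroup.eq_of_le_of_card_ge hlt'.le (hBmin B' ⟨hn', hlt'.le.trans hBO, hn''⟩))
  set B1 := Subgroup.normalClosure ((B ⊓ Z : Subgroup L) : Set L) with hB1
  have hB1le : B1 ≤ B := Subgroup.normalClosure_le_normal (fun x hx => hx.1)
  have hB1eq : B1 = B := by
    by_contra hne
    have h1 := hsmall B1 (by rw [hB1]; infer_instance) (lt_of_le_of_ne hB1le hne)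
    rw [show B1 ⊓ Z = B ⊓ Z from le_antisymm (inf_le_inf_right _ hB1le)
      (le_inf Subgroup.le_normalClosure inf_le_right)] at h1
    exact hBZ h1
  have hCB : Subgroup.centralizer (B : Set L) ≤ O := by
    have := hBn
    have hCn : (Subgroup.centralizer (B : Set L)).Normal := Subgroup.normal_centralizer
    by_cases h : (T : Subgroup L) ⊔ Subgroup.centralizer (B : Set L) = ⊤
    · refine absurd (hnorm_of _ (top_le_iff.mp ?_)) hBZ
      rw [← h]
      refine sup_le (fun t ht => mem_normalizer_of_forall fun x hx =>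
        ⟨hBn.conj_mem x hx.1 t, (Subgroup.mem_normalizer_iff.mp (hTZ ht) x).mp hx.2⟩) ?_
      exact (Subgroup.centralizer_le (fun x hx => hx.1)).trans (Subgroup.centralizer_le_normalizer _)
    · have h1 := hmax _ le_sup_left h
      exact le_sSup ⟨hCn, T.2.to_le (le_sup_right.trans h1.le)⟩
  have hB1ne : B ≠ ⊥ := fun e => hBZ (by rw [e, bot_inf_eq]; infer_instance)
  have hBB : ⁅B, B⁆ < B := by
    have := (hOp.to_le hBO).isNilpotent
    have := (Subgroup.nontrivial_iff_ne_bot B).mpr hB1ne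
    have hlt' : commutator B < ⊤ := Group.IsSolvable.commutator_lt_top_of_nontrivial _
    have h2 := Subgroup.map_subtype_lt_map_subtype.mpr hlt'
    rwa [Subgroup.map_subtype_commutator, ← MonoidHom.range_eq_map, Subgroup.range_subtype] at h2
  have hDn : ⁅B, B⁆.Normal := Subgroup.commutator_normal B B
  set W := ⁅B, B⁆ ⊓ Z with hW
  have hWn : W.Normal := hsmall _ hDn hBB
  have hBW : ⁅B, B⁆ ≤ W := by
    let π := QuotientGroup.mk' W
    have hC2 : B ≤ (Subgroup.centralizer ((B.map π : Subgroup (L ⧸ W)) : Set (L ⧸ W))).comap π := by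
      have hn2 : ((Subgroup.centralizer ((B.map π : Subgroup (L ⧸ W)) : Set (L ⧸ W))).comap π).Normal := by
        have : (B.map π).Normal := hBn.map _ (QuotientGroup.mk'_surjective _)
        exact Subgroup.Normal.comap Subgroup.normal_centralizer _
      conv_lhs => rw [← hB1eq]
      refine Subgroup.normalClosure_le_normal fun x hx => Subgroup.mem_comap.mpr
        (Subgroup.mem_centralizer_iff.mpr ?_)
      rintro _ ⟨b, hb, rfl⟩
      rw [← map_mul, ← map_mul]
      refine QuotientGroup.eq.mpr ?_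
      have hm : ⁅x⁻¹, b⁻¹⁆ ∈ W := by
        refine ⟨Subgroup.commutator_mem_commutator (B.inv_mem hx.1) (B.inv_mem hb), ?_⟩
        rw [commutatorElement_def, inv_inv, inv_inv,
          show x⁻¹ * b⁻¹ * x * b = x⁻¹ * (b⁻¹ * x * b⁻¹⁻¹) by group]
        exact Z.mul_mem (Z.inv_mem hx.2)
          ((Subgroup.mem_normalizer_iff.mp (hTZ (hBT (B.inv_mem hb))) x).mp hx.2)
      rwa [show (b * x)⁻¹ * (x * b) = ⁅x⁻¹, b⁻¹⁆ by simp [commutatorElement_def, mul_assoc]]
    rw [Subgroup.commutator_le]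
    intro a ha b hb
    refine (QuotientGroup.eq_one_iff _).mp ?_
    show π ⁅a, b⁆ = 1
    rw [map_commutatorElement, commutatorElement_eq_one_iff_mul_comm]
    exact (Subgroup.mem_centralizer_iff.mp (hC2 ha) (π b) ⟨b, hb, rfl⟩).symm
  have hBBZ : ⁅B, B⁆ ≤ Z := hBW.trans inf_le_right
  have hclass : ⁅⁅B, B⁆, B⁆ = ⊥ := by
    rw [Subgroup.commutator_comm, Subgroup.commutator_eq_bot_iff_le_centralizer]
    have : (Subgroup.centralizer ((⁅B, B⁆ : Subgroup L) : Set L)).Normal := Subgroup.normal_centralizer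
    conv_lhs => rw [← hB1eq]
    exact Subgroup.normalClosure_le_normal fun x hx =>
      Subgroup.mem_centralizer_iff.mpr fun y hy => hZab y (hBBZ hy) x hx.2
  obtain ⟨A, hA, hAB⟩ : ∃ A ∈ Fam, ¬ B ≤ A := by
    by_contra h
    push Not at h
    refine hBZ ?_
    rwa [inf_eq_left.mpr (fun x hx => mem_famInf.mpr fun A hA _ => h A hA hx)]
  obtain ⟨A', hA', -, hA'B, hBA'⟩ := hFam.replacement B hBT hclass
    ⟨A, hA, hBBZ.trans (hZA A hA), hAB⟩
  have hA'O : A' ≤ O := fun g hg => hquad B hBn hBO hCB g ((hFam.abelian A' hA').1 hg)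
    (hquadA B A' hBA' (hFam.abelian A' hA').2 g hg)
  have hJn : (famInf Fam O).Normal := ⟨fun x hx l =>
    hFam.invariant O hOT ⟨A', hA', hA'O⟩ l (by rw [Subgroup.normalizer_eq_top]; exact Subgroup.mem_top l) x hx⟩
  refine hA'B (le_trans ?_ (famInf_le hA' hA'O))
  rw [← hB1eq]
  exact Subgroup.normalClosure_le_normal fun x hx =>
    mem_famInf.mpr fun C hC _ => hZA C hC hx.2

end CfsgLib.Fusion.Family
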