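import Cfsg.Agent.Lib.Fusion.LocalSteps

/-!
# Normal `p`-complement theorems for fusion systems, by functors
-/

namespace CfsgLib.Fusion

open Cfsg Cfsg.FusionSystem CfsgLib.FusionFactor

universe u w

section Hom

variable {Ω : Type u} [Group Ω] {S : Subgroup Ω} {F : FusionSystem S} {P X : Subgroup Ω}

/-- The maps of `N_F(X)` (`b`) or of `C_F(X)` (`¬ b`). -/
def locHom (F : FusionSystem S) (b : Bool) (X P : Subgroup Ω) : Set (P →* Ω) :=
  if b then F.normalizerHom X P else F.centralizerHom X P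

theorem locHom_subset_normalizer [Finite S] (b : Bool) : locHom F b X P ⊆ F.normalizerHom X P := by
  cases b
  · rintro φ ⟨hφ, hP, hφC, ψ, hψ, hψe, hψX⟩
    exact ⟨hφ, hP.trans centralizerIn_le_normalizerIn, fun x => centralizerIn_le_normalizerIn (hφC x), ψ, hψ,
      hψe, (map_eq_iff_exists_aut hψ).mpr ⟨1, fun x => hψX x⟩⟩
  · exact subset_rfl

theorem locHom_mono {M : Subgroup Ω} {G : FusionSystem M} (hMS : M ≤ S)
    (hsub : ∀ P φ, φ ∈ G.Hom P → φ ∈ F.Hom P) (b : Bool) : locHom G b X P ⊆ locHom F b X P := by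
  cases b
  · rintro φ ⟨hφ, hP, hφC, ψ, hψ, hψe, hψX⟩
    exact ⟨hsub _ _ hφ, hP.trans (inf_le_inf_right _ hMS), fun x => (inf_le_inf_right _ hMS) (hφC x), ψ,
      hsub _ _ hψ, hψe, hψX⟩
  · rintro φ ⟨hφ, hP, hφC, ψ, hψ, hψe, hψX⟩
    exact ⟨hsub _ _ hφ, hP.trans (inf_le_inf_right _ hMS), fun x => (inf_le_inf_right _ hMS) (hφC x), ψ,
      hsub _ _ hψ, hψe, hψX⟩

end Hom

variable {Ω : Type u} [Group Ω] {S : Subgroup Ω} {F : FusionSystem S} {p : ℕ} [Finite S] [Fact p.Prime]

/-- An element of a model of constrained type whose conjugation on `O_p` is inner lies in the Sylow subgroup. -/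
theorem mem_range_of_inner {M : Subgroup Ω} {N : FusionSystem M} {L : Type*} [Group L] {ι : M →* L}
    (hL : N.IsModel p L ι) {X : Subgroup Ω} (hX : X ≤ M) (b : Bool) (h : L)
    (hh : ∀ x : M, (x : Ω) ∈ X → ∃ y : M, (y : Ω) ∈ X ∧ (b = false → y = x) ∧ ι y = h * ι x * h⁻¹)
    (hXn : M ≤ if b then Subgroup.normalizer (X : Set Ω) else Subgroup.centralizer (X : Set Ω))
    (hinner : ∀ P φ, φ ∈ locHom N b X P → ∃ g ∈ M, ∀ x : P, φ x = g * (x : Ω) * g⁻¹) : h ∈ ι.range := by
  have := hL.1
  have : Finite M := Finite.of_injective ι hL.2.1.1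
  have := model_core_normal (p := p) (G := L)
  set P₀ := ((pCore p L).comap ι).map M.subtype with hP₀
  have hle : P₀ ⊔ X ≤ M := sup_le (Subgroup.map_subtype_le _) hX
  have hmem : ∀ x : ↥(P₀ ⊔ X), h * ι ⟨x, hle x.2⟩ * h⁻¹ ∈ ι.range := by
    intro x
    have hx : P₀ ⊔ X ≤ ((ι.range.comap (MulAut.conj h).toMonoidHom).comap ι).map M.subtype :=
      sup_le (fun a ⟨c, hc, hca⟩ => ⟨c, model_core_le hL
          (Subgroup.Normal.conj_mem inferInstance (ι c) hc h), hca⟩)
        (fun a ha => by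
          obtain ⟨y, -, -, hy⟩ := hh ⟨a, hX ha⟩ ha
          exact ⟨⟨a, hX ha⟩, ⟨y, hy⟩, rfl⟩)
    obtain ⟨c, hc, hcx⟩ := hx x.2
    rw [show (⟨(x : Ω), hle x.2⟩ : M) = c from Subtype.ext hcx.symm]
    exact hc
  obtain ⟨φ, hφ, hφe⟩ := realized_exists_map hL.2.1 hle h hmem
  have hfix : ∀ x : ↥(P₀ ⊔ X), (x : Ω) ∈ X → φ x ∈ X ∧ (b = false → φ x = x) := by
    intro x hx
    obtain ⟨y, hy, hyb, hye⟩ := hh ⟨x, hle x.2⟩ hx
    have e : (⟨φ x, apply_mem_S hφ x⟩ : M) = y := hL.2.1.1 ((hφe x _).trans hye.symm)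
    have e' : φ x = (y : Ω) := congrArg Subtype.val e
    exact ⟨e' ▸ hy, fun hb => e'.trans (congrArg Subtype.val (hyb hb))⟩
  have hloc : φ ∈ locHom N b X _ := by
    cases b
    · refine ⟨hφ, fun a ha => ⟨hle ha, hXn (hle ha)⟩, fun x => ⟨apply_mem_S hφ x, hXn (apply_mem_S hφ x)⟩, _,
        restrict_mem (sup_le le_rfl le_sup_right) hφ, fun _ => rfl, fun x => (hfix _ x.2).2 rfl⟩
    · exact mem_normalizerHom hφ le_sup_right (fun a ha => ⟨hle ha, hXn (hle ha)⟩) fun x hx => (hfix x hx).1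
  obtain ⟨g, hg, hge⟩ := hinner _ φ hloc
  have hc : (ι ⟨g, hg⟩)⁻¹ * h ∈ pCore p L := hL.2.2.2 fun n hn => by
    obtain ⟨c, rfl⟩ := model_core_le hL hn
    have hc' : (c : Ω) ∈ P₀ ⊔ X := Subgroup.mem_sup_left ⟨c, hn, rfl⟩
    have h1 := hφe ⟨c, hc'⟩ (apply_mem_S hφ _)
    rw [show (⟨φ ⟨c, hc'⟩, apply_mem_S hφ _⟩ : M) = ⟨g, hg⟩ * c * (⟨g, hg⟩ : M)⁻¹ from Subtype.ext (hge _),
      show (⟨((⟨(c : Ω), hc'⟩ : ↥(P₀ ⊔ X)) : Ω), hle hc'⟩ : M) = c from rfl, map_mul, map_mul, map_inv] at h1
    calc ι c * ((ι ⟨g, hg⟩)⁻¹ * h) = (ι ⟨g, hg⟩)⁻¹ * (ι ⟨g, hg⟩ * ι c * (ι ⟨g, hg⟩)⁻¹) * h := by group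
      _ = (ι ⟨g, hg⟩)⁻¹ * h * ι c := by rw [h1]; group
  obtain ⟨s, hs⟩ := model_core_le hL hc
  exact ⟨⟨g, hg⟩ * s, by rw [map_mul, hs, mul_inv_cancel_left]⟩

/-- If all maps act on `Q` as elements of `S` and `F/Q` is inner, then so is `F`. -/
theorem le_inner_of_quotient (hS : IsPGroup p S) (hF : F.IsSaturated p) {Q : Subgroup Ω} (hQ : F.IsNormal Q)
    (hne : ∀ P φ, φ ∈ F.Hom P → φ ∈ extHom F Q (autInducedBy S Q) S P)
    {Ω' : Type u} [Group Ω'] {θ : S →* Ω'} {E' : FusionSystem θ.range} (hE' : F.IsFactorSystem Q θ E')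
    (hquo : E' ≤ innerFusionSystem θ.range) : F ≤ innerFusionSystem S := by
  have hk := hE'.2.1
  have hA := IsNormal.stronglyClosed hQ
  refine alperin hS hF _ fun R hR a ha => ?_
  have hRn : F.IsFullyNormalized R := by
    rcases hR with rfl | hR
    · have := finite_of_le (normalizerIn_le (S := R) (P := R))
      exact ⟨le_rfl, fun _ _ => Subgroup.card_le_of_le (normalizerIn_le.trans_eq
        (inf_eq_left.mpr Subgroup.le_normalizer).symm)⟩
    · exact hR.2.1
  have hQR : Q ≤ R := by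
    rcases hR with rfl | hR
    · exact hQ.1
    · exact IsNormal.le_centric_radical hS hQ hR.1 (radical_of_essential hR hS)
  have hRS := hRn.1
  have := finite_of_le hRS
  have := finite_mulAut hRS
  have hp : IsPGroup p (F.autGroup R) := by
    rintro ⟨a, ha⟩
    obtain ⟨a', ha', hP, haS, hm, e⟩ := exists_map_induced hS hF hA hE' ((mem_autGroup hRS).mp ha)
    obtain ⟨-, v, hv, hve⟩ := hquo _ ha'
    obtain ⟨v, rfl⟩ := hv
    obtain ⟨k, hk'⟩ := exists_pow_eq_one_of_mod hS hk hne hRS hQR ha v fun x =>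
      ((e x).symm.trans (hve _))
    exact ⟨k, Subtype.ext hk'⟩
  obtain ⟨-, T, hT⟩ := (fullyNormalized_good hS hF hRn).1
  have hmem : (⟨a, ha⟩ : F.autGroup R) ∈ (T : Subgroup (F.autGroup R)) := by
    rw [← T.is_maximal' (hp.to_subgroup ⊤) le_top]
    exact Subgroup.mem_top _
  obtain ⟨g, hg, hge⟩ := mem_autInducedBy.mp (hT.le hmem)
  exact (mem_autGroup hRS).mpr ⟨hRS, g, hg, hge⟩

/-- If functors `W i` detect `p`-groups among good models, they detect inner fusion systems among systems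
with good models. -/
theorem le_inner_of_functor {Good : ∀ (L : Type u) [Group L], Prop} (hGood : SectionClosed Good)
    {I : Type w} (W : I → ∀ (Q : Type u) [Group Q], Subgroup Q) (b : I → Bool)
    (hW1 : ∀ i, ∀ (Q : Type u) [Group Q] [Finite Q], IsPGroup p Q → Nontrivial Q → W i Q ≠ ⊥)
    (hW2 : ∀ i, ∀ (Q R : Type u) [Group Q] [Group R] [Finite Q], IsPGroup p Q → ∀ φ : Q ≃* R,
      (W i Q).map φ.toMonoidHom = W i R)
    (hWc : ∀ i, b i = false → ∀ (Q : Type u) [Group Q], W i Q ≤ Subgroup.center Q)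
    (hmodel : ∀ (L : Type u) [Group L] [Finite L] (T : Sylow p L),
      Subgroup.centralizer ((pCore p L : Subgroup L) : Set L) ≤ pCore p L → Good L →
      (∀ i, (if b i then Subgroup.normalizer (charSub (W i) (T : Subgroup L) : Set L)
        else Subgroup.centralizer (charSub (W i) (T : Subgroup L) : Set L)) ≤ (T : Subgroup L)) →
      (T : Subgroup L) = ⊤)
    (hS : IsPGroup p S) (hF : F.IsSaturated p) (hfree : CentricFree F p Good)
    (hloc : ∀ i P φ, φ ∈ locHom F (b i) (charSub (W i) S) P → φ ∈ (innerFusionSystem S).Hom P) :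
    F ≤ innerFusionSystem S := by
  suffices H : ∀ (n : ℕ) {Ω : Type u} [Group Ω] {S : Subgroup Ω} [Finite S] (F : FusionSystem S),
      sysSize F < n → IsPGroup p S → F.IsSaturated p → CentricFree F p Good →
      (∀ i P φ, φ ∈ locHom F (b i) (charSub (W i) S) P → φ ∈ (innerFusionSystem S).Hom P) →
      F ≤ innerFusionSystem S from H _ F (Nat.lt_succ_self _) hS hF hfree hloc
  intro n
  induction n with
  | zero => intro _ _ _ _ F h; omega
  | succ n ih =>
    intro Ω _ S _ F hn hS hF hfree hloc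
    set E := innerFusionSystem S with hE
    by_cases hS1 : S = ⊥
    · subst hS1
      intro P φ hφ
      exact ⟨le_S hφ, 1, one_mem _, fun x => by
        rw [Subgroup.mem_bot.mp (apply_mem_S hφ x), Subgroup.mem_bot.mp (le_S hφ x.2)]; group⟩
    refine le_of_steps hS hF hS1 E ?_ ?_ ?_ ?_
    · intro U hU hUn N hN hne hbig P φ hφ
      have hsub : ∀ P φ, φ ∈ N.Hom P → φ ∈ F.Hom P := fun P φ h => ((hN P).le h).1
      have := finite_of_le (normalizerIn_le (S := S) (P := U))
      have hlt := sysSize_lt_of_sub hsub hne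
      have hMp : IsPGroup p (normalizerIn S U) := hS.to_le normalizerIn_le
      obtain ⟨hP, g, hg, hge⟩ := ih N (by omega) hMp (normalizerSystem_saturated hS hF hUn hN)
        (centricFree_normalizerSystem hGood hS hF hfree hUn hN) (fun i P φ hφ => by
          by_cases hM : normalizerIn S U = S
          · have h := locHom_mono normalizerIn_le hsub (b i) hφ
            rw [hM] at h
            obtain ⟨hP, g, hg, hge⟩ := hloc i P φ h
            exact ⟨(hM.symm ▸ hP), g, hM.symm ▸ hg, hge⟩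
          · have hφN := locHom_subset_normalizer (F := N) (b i) hφ
            have hX : charSub (W i) (normalizerIn S U) ≤ normalizerIn S U := charSub_le _
            have hMX : normalizerIn S U ≤ normalizerIn S (charSub (W i) (normalizerIn S U)) :=
              le_inf normalizerIn_le (Subgroup.le_normalizer.trans (charSub_le_normalizer (hW2 i) hMp))
            obtain ⟨χ, hχ, hχU, hχe⟩ := exists_extension_in_normalizer hUn.1 rfl hMX hX hN hφN
            have hVn : normalizerIn S (normalizerIn S U) ≤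
                Subgroup.normalizer (charSub (W i) (normalizerIn S U) : Set Ω) :=
              inf_le_right.trans (charSub_le_normalizer (hW2 i) hMp)
            obtain ⟨-, g, hg, hge⟩ := hbig hM _ (charSub_ne_bot (hW1 i) hMp fun e => hU
              (le_bot_iff.mp ((le_normalizerIn hUn.1).trans e.le))) hX hVn _ χ hχ
            have := finite_of_le hUn.1
            have hPM := le_S hφN.1
            refine ⟨hPM, g, ⟨hg, mem_normalizer_of_forall fun u hu => ?_⟩, fun x => ?_⟩
            · rw [← hge ⟨u, Subgroup.mem_sup_right hu⟩]; exact hχU _ hu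
            · rw [← hχe x]; exact hge _) P hφ
      exact ⟨hP.trans normalizerIn_le, g, normalizerIn_le hg, hge⟩
    · intro T hTc hTn hTN P φ hφ
      obtain ⟨N, hN⟩ := exists_normalizerSystem (F := F) hTn.1
      obtain ⟨L, _, ι, hL⟩ := exists_model_normalizer hS hF hTn hTc hN
      have := hL.1
      obtain ⟨T₀, hT₀⟩ := hL.2.2.1
      have := finite_of_le (normalizerIn_le (S := S) (P := T))
      have hMp : IsPGroup p (normalizerIn S T) := hS.to_le normalizerIn_le
      have htop := hmodel L T₀ hL.2.2.2 (hfree _ hTn hTc N hN L ι hL) fun i h hh => by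
        rw [hT₀]
        rw [hT₀, ← charSub_map (hW2 i) hMp ι hL.2.1.1] at hh
        refine mem_range_of_inner hL (charSub_le (W := W i) (normalizerIn S T)) (b i) h ?_ ?_ ?_
        · intro x hx
          cases hb : b i
          · rw [hb, if_neg Bool.false_ne_true] at hh
            exact ⟨x, hx, fun _ => rfl,
              eq_mul_inv_of_mul_eq (Subgroup.mem_centralizer_iff.mp hh _ ⟨x, hx, rfl⟩)⟩
          · rw [hb, if_pos rfl] at hh
            obtain ⟨y, hy, hye⟩ := (Subgroup.mem_normalizer_iff.mp hh _).mp ⟨x, hx, rfl⟩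
            exact ⟨y, hy, fun h => absurd h (by decide), hye⟩
        · cases hb : b i
          · rw [if_neg Bool.false_ne_true]
            intro m hm w hw
            obtain ⟨⟨w', hw'M⟩, hw', rfl⟩ := hw
            exact congrArg Subtype.val ((Subgroup.mem_center_iff.mp (hWc i hb _ hw') ⟨m, hm⟩).symm)
          · rw [if_pos rfl]
            exact Subgroup.le_normalizer.trans (charSub_le_normalizer (hW2 i) hMp)
        · intro P φ hφ
          have h := locHom_mono normalizerIn_le (fun P φ h => ((hN P).le h).1) (b i) hφ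
          rw [hTN] at h
          obtain ⟨-, g, hg, hge⟩ := hloc i P φ h
          exact ⟨g, hTN.symm ▸ hg, hge⟩
      obtain ⟨l, hl⟩ := realized_conj hL.2.1 ((hN P).ge hφ)
      obtain ⟨⟨s, hsT⟩, hs⟩ : l ∈ ι.range := by rw [← hT₀, htop]; exact Subgroup.mem_top l
      refine ⟨le_S hφ.1, s, normalizerIn_le hsT, fun x => ?_⟩
      have h := hl x
      rw [← hs, ← map_inv, ← map_mul, ← map_mul] at h
      exact congrArg Subtype.val (hL.2.1.1 h)
    · intro Q hQ hQ1 hr hsat hne
      have hsub : ∀ P φ, φ ∈ extHom F Q (autInducedBy S Q) S P → φ ∈ F.Hom P := fun P φ h => h.1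
      have hlt := sysSize_lt_of_sub (G := extSystem F hr.1 _ S
        (isKNormalizer_autInducedBy (le_normalizer_of_isNormal hQ))) hsub hne
      exact ih _ (by omega) hS hsat (centricFree_extSystem hGood hS hF hfree hr _ hQ.1 hsat)
        fun i P φ h => hloc i P φ (locHom_mono le_rfl hsub (b i) h)
    · intro Q hQ hQ1 hQS hne hV
      have hQn : (Q.subgroupOf S).Normal :=
        (Subgroup.normal_subgroupOf_iff_le_normalizer hQ.1).mpr (le_normalizer_of_isNormal hQ)
      let θ : S →* S ⧸ Q.subgroupOf S := QuotientGroup.mk' _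
      have hk : ∀ s : S, θ s = 1 ↔ (s : Ω) ∈ Q := fun s => QuotientGroup.eq_one_iff s
      have hA := IsNormal.stronglyClosed hQ
      have hE' := factorSystem_isFactorSystem (θ := θ) hk hA
      have : Finite θ.range := Finite.of_surjective _ θ.rangeRestrict_surjective
      have hθp : IsPGroup p θ.range := hS.of_surjective _ θ.rangeRestrict_surjective
      have hlt := sysSize_factor_lt hE' hQ1
      have hθne : θ.range ≠ ⊥ := fun e => hQS (le_antisymm hQ.1 fun s hs =>
        (hk ⟨s, hs⟩).mp (Subgroup.mem_bot.mp (e.le ⟨⟨s, hs⟩, rfl⟩)))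
      have hquo := ih (factorSystem F θ Q hk hA) (by omega) hθp (isSaturated_factor hS hF hA hE')
        (centricFree_factor hGood.quot hS hF hQ hE' hfree) (fun i P' φ' hφ' => by
          have hφN := locHom_subset_normalizer (b i) hφ'
          have hW' : charSub (W i) θ.range ≤ θ.range := charSub_le _
          obtain ⟨P, ψ, hψ, hlift⟩ := exists_lift_normalizerHom hE' hW' hφN
          obtain ⟨-, g, hg, hge⟩ := hV _ (preimageAlong_le _) (by
              intro s hs
              have := finite_of_le (preimageAlong_le (θ := θ) (charSub (W i) θ.range))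
              refine mem_normalizer_of_forall fun w hw => ?_
              obtain ⟨hwS, hw'⟩ := mem_preimageAlong.mp hw
              refine mem_preimageAlong.mpr ⟨S.mul_mem (S.mul_mem hs hwS) (S.inv_mem hs), ?_⟩
              show θ (⟨s, hs⟩ * ⟨w, hwS⟩ * (⟨s, hs⟩ : S)⁻¹) ∈ charSub (W i) θ.range
              rw [map_mul, map_mul, map_inv]
              exact (Subgroup.mem_normalizer_iff.mp
                (charSub_le_normalizer (hW2 i) hθp (Subgroup.le_normalizer ⟨_, rfl⟩)) _).mp hw')
            (fun hle => charSub_ne_bot (hW1 i) hθp hθne (le_bot_iff.mp fun y hy => by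
              obtain ⟨s, rfl⟩ := charSub_le _ hy
              exact Subgroup.mem_bot.mpr ((hk s).mpr (hle (mem_preimageAlong.mpr ⟨s.2, hy⟩))))) P ψ hψ
          refine ⟨le_S hφN.1, θ ⟨g, hg⟩, ⟨_, rfl⟩, fun y => ?_⟩
          obtain ⟨x, hxS, hψS, hxe, hφe⟩ := hlift y
          rw [← hφe, ← hxe, ← map_inv, ← map_mul, ← map_mul]
          exact congrArg θ (Subtype.ext (hge x)))
      exact le_inner_of_quotient hS hF hQ hne hE' hquo

end CfsgLib.Fusion
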