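import Cfsg.Agent.Lib.Fusion.FamilyGroup
import Cfsg.Agent.Lib.Fusion.LocalSteps
import Cfsg.Agent.Lib.Fusion.FunctorInner

/-!
# The intersection of a family of abelian subgroups detects inner fusion systems, `p` odd
-/

namespace CfsgLib.Fusion

open Cfsg Cfsg.FusionSystem CfsgLib.FusionFactor
open scoped commutatorElement

universe u

variable {Ω : Type u} [Group Ω] {S : Subgroup Ω} {F : FusionSystem S} {p : ℕ} [Finite S] [Fact p.Prime]

/-- The fusion form of the conditions on a family. -/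
structure FamilyCond (F : FusionSystem S) (𝒜 : Set (Subgroup Ω)) : Prop where
  abelian : ∀ A ∈ 𝒜, A ≤ S ∧ IsMulCommutative A
  nonempty : 𝒜.Nonempty
  invariant : ∀ Q : Subgroup Ω, Q ≤ S → (∃ A ∈ 𝒜, A ≤ Q) → ∀ α ∈ F.autGroup Q, ∀ x : Q,
    (x : Ω) ∈ Family.famInf 𝒜 Q → (((α : MulAut Q) x : Q) : Ω) ∈ Family.famInf 𝒜 Q
  replacement : ∀ B : Subgroup Ω, B ≤ S → ⁅⁅B, B⁆, B⁆ = ⊥ → (∃ A ∈ 𝒜, ⁅B, B⁆ ≤ A ∧ ¬ B ≤ A) →
    ∃ A ∈ 𝒜, ⁅B, B⁆ ≤ A ∧ ¬ B ≤ A ∧ B ≤ Subgroup.normalizer (A : Set Ω)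

variable {𝒜 : Set (Subgroup Ω)}

omit [Fact p.Prime] [Finite S] in
theorem FamilyCond.inf_le (h : FamilyCond F 𝒜) : (⨅ A ∈ 𝒜, A : Subgroup Ω) ≤ S := by
  obtain ⟨A, hA⟩ := h.nonempty
  exact (iInf₂_le A hA).trans (h.abelian A hA).1

omit [Fact p.Prime] in
theorem FamilyCond.le_normalizer (h : FamilyCond F 𝒜) :
    S ≤ Subgroup.normalizer ((⨅ A ∈ 𝒜, A : Subgroup Ω) : Set Ω) := by
  intro s hs
  have := finite_of_le h.inf_le
  refine mem_normalizer_of_forall fun x hx => ?_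
  obtain ⟨a, ha, hae⟩ := exists_autInducedBy (K := S) (P := S) hs (Subgroup.le_normalizer hs)
  obtain ⟨A, hA⟩ := h.nonempty
  have he : Family.famInf 𝒜 S = ⨅ A ∈ 𝒜, A := Family.famInf_eq fun A hA => (h.abelian A hA).1
  have h2 := h.invariant S le_rfl ⟨A, hA, (h.abelian A hA).1⟩ a (autInducedBy_le_autGroup le_rfl ha)
    ⟨x, h.inf_le hx⟩ (by rw [he]; exact hx)
  rw [he] at h2
  have h3 := hae ⟨x, h.inf_le hx⟩
  exact h3 ▸ h2

/-- In a group containing `S` as a Sylow subgroup and fusing inside `F`, the family satisfies the group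
conditions. -/
theorem FamilyCond.toGroup (h : FamilyCond F 𝒜) {L : Type u} [Group L] [Finite L] {ι : S →* L}
    (hι : Function.Injective ι) {T : Subgroup L} (hT : T = ι.range)
    (hfus : ∀ (P : Subgroup Ω) (hP : P ≤ S) (l : L), (∀ x : P, l * ι ⟨x, hP x.2⟩ * l⁻¹ ∈ ι.range) →
      ∃ φ ∈ F.Hom P, ∀ (x : P) (hx : φ x ∈ S), ι ⟨φ x, hx⟩ = l * ι ⟨x, hP x.2⟩ * l⁻¹) :
    Family.Cond T ((fun A => (A.subgroupOf S).map ι) '' 𝒜) := by
  subst hT
  let up : Subgroup L → Subgroup Ω := fun B => (B.comap ι).map S.subtype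
  let down : Subgroup Ω → Subgroup L := fun A => (A.subgroupOf S).map ι
  have hup_le : ∀ B, up B ≤ S := fun B => Subgroup.map_subtype_le _
  have hupdown : ∀ A, A ≤ S → up (down A) = A := fun A hA => by
    show ((((A.subgroupOf S).map ι)).comap ι).map S.subtype = A
    rw [Subgroup.comap_map_eq_self_of_injective hι, Subgroup.map_subgroupOf_eq_of_le hA]
  have hdownup : ∀ B, B ≤ ι.range → down (up B) = B := fun B hB => by
    show ((((B.comap ι)).map S.subtype).subgroupOf S).map ι = B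
    rw [Subgroup.subgroupOf, Subgroup.comap_map_eq_self_of_injective S.subtype_injective,
      Subgroup.map_comap_eq_self hB]
  have hmem_up : ∀ (B : Subgroup L) (x : Ω), x ∈ up B ↔ ∃ hx : x ∈ S, ι ⟨x, hx⟩ ∈ B := fun B x => by
    constructor
    · rintro ⟨s, hs, rfl⟩; exact ⟨s.2, hs⟩
    · rintro ⟨hx, hm⟩; exact ⟨⟨x, hx⟩, hm, rfl⟩
  have hup_mono : ∀ {B C : Subgroup L}, B ≤ C → up B ≤ up C := fun hBC =>
    Subgroup.map_mono (Subgroup.comap_mono hBC)
  have hdown_mono : ∀ {A C : Subgroup Ω}, A ≤ C → down A ≤ down C := fun hAC =>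
    Subgroup.map_mono (Subgroup.comap_mono hAC)
  have hcomm : ∀ B C : Subgroup L, B ≤ ι.range → C ≤ ι.range → ⁅up B, up C⁆ = up ⁅B, C⁆ := fun B C hB hC => by
    show ⁅(B.comap ι).map S.subtype, (C.comap ι).map S.subtype⁆ = (⁅B, C⁆.comap ι).map S.subtype
    rw [← Subgroup.map_commutator]
    congr 1
    refine (Subgroup.comap_map_eq_self_of_injective hι ⁅B.comap ι, C.comap ι⁆).symm.trans ?_
    rw [Subgroup.map_commutator, Subgroup.map_comap_eq_self hB, Subgroup.map_comap_eq_self hC]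
  refine ⟨?_, h.nonempty.image _, ?_, ?_⟩
  · rintro _ ⟨A, hA, rfl⟩
    refine ⟨Subgroup.map_le_range ι _, ⟨⟨fun a b => Subtype.ext ?_⟩⟩⟩
    obtain ⟨_, a, ha, rfl⟩ := a
    obtain ⟨_, b, hb, rfl⟩ := b
    show ι a * ι b = ι b * ι a
    rw [← map_mul, ← map_mul]
    have := (h.abelian A hA).2
    exact congrArg ι (Subtype.ext (setLike_mul_comm (S := Subgroup Ω) (show (a : Ω) ∈ A from ha) (show (b : Ω) ∈ A from hb)))
  · intro Q hQ ⟨A', hA', hAQ⟩ l hl x hx
    obtain ⟨A, hA, rfl⟩ := hA'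
    have hAQ' : A ≤ up Q := (hupdown A (h.abelian A hA).1).ge.trans (hup_mono hAQ)
    have hlQ : ∀ y : up Q, l * ι ⟨y, hup_le Q y.2⟩ * l⁻¹ ∈ Q := fun y =>
      (Subgroup.mem_normalizer_iff.mp hl _).mp ((hmem_up Q y).mp y.2).2
    obtain ⟨φ, hφ, hφe⟩ := hfus (up Q) (hup_le Q) l fun y => hQ (hlQ y)
    have hr : φ.range = up Q := range_eq_of_card_le hφ (hup_le Q) (fun y =>
      (hmem_up Q _).mpr ⟨apply_mem_S hφ y, by rw [hφe]; exact hlQ y⟩) le_rfl
    obtain ⟨α, hα, hαe⟩ := exists_aut hφ hr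
    obtain ⟨⟨x', hx'S⟩, rfl⟩ : x ∈ ι.range := Subgroup.map_le_range ι _ (Family.mem_famInf.mp hx _ ⟨A, hA, rfl⟩ hAQ)
    have hx' : x' ∈ Family.famInf 𝒜 (up Q) := Family.mem_famInf.mpr fun C hC hCQ => by
      obtain ⟨w, hw, hwe⟩ := Family.mem_famInf.mp hx _ ⟨C, hC, rfl⟩
        ((hdown_mono hCQ).trans (hdownup Q hQ).le)
      have := hι hwe
      subst this
      exact hw
    have hx'Q : x' ∈ up Q := hAQ' (Family.mem_famInf.mp hx' A hA hAQ')
    have h2 := h.invariant (up Q) (hup_le Q) ⟨A, hA, hAQ'⟩ α hα ⟨x', hx'Q⟩ hx'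
    refine Family.mem_famInf.mpr ?_
    rintro _ ⟨C, hC, rfl⟩ hCQ
    have h3 := Family.mem_famInf.mp h2 C hC ((hupdown C (h.abelian C hC).1).ge.trans (hup_mono hCQ))
    rw [hαe] at h3
    exact ⟨⟨_, apply_mem_S hφ _⟩, h3, hφe ⟨x', hx'Q⟩ _⟩
  · intro B hB hBBB ⟨A', hA', hAB, hBA⟩
    obtain ⟨A, hA, rfl⟩ := hA'
    have hBB : ⁅B, B⁆ ≤ ι.range := (Subgroup.commutator_mono hB hB).trans (Subgroup.commutator_le_self _)
    have hcls : ⁅⁅up B, up B⁆, up B⁆ = ⊥ := by
      rw [hcomm B B hB hB, hcomm _ _ hBB hB, hBBB]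
      show ((⊥ : Subgroup L).comap ι).map S.subtype = ⊥
      rw [MonoidHom.comap_bot, (MonoidHom.ker_eq_bot_iff ι).mpr hι, Subgroup.map_bot]
    obtain ⟨C, hC, h1, h2, h3⟩ := h.replacement (up B) (hup_le B) hcls
      ⟨A, hA, (hcomm B B hB hB).le.trans ((hup_mono hAB).trans (hupdown A (h.abelian A hA).1).le),
        fun hle => hBA ((hdownup B hB).ge.trans (hdown_mono hle))⟩
    refine ⟨down C, ⟨C, hC, rfl⟩, ?_, fun hle => h2 ?_, fun b hb => mem_normalizer_of_forall fun y hy => ?_⟩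
    · rw [hcomm B B hB hB] at h1
      exact (hdownup _ hBB).ge.trans (hdown_mono h1)
    · exact (hup_mono hle).trans (hupdown C (h.abelian C hC).1).le
    · obtain ⟨w, hw, rfl⟩ := hy
      obtain ⟨s, rfl⟩ := hB hb
      have h4 := (Subgroup.mem_normalizer_iff.mp (h3 ⟨s, hb, rfl⟩) (w : Ω)).mp hw
      exact ⟨s * w * s⁻¹, h4, by rw [map_mul, map_mul, map_inv]⟩

/-- `F` is inner as soon as `N_F(⋂ 𝒜)` is, for `p` odd. -/
theorem le_inner_of_family (hp : p ≠ 2) (hS : IsPGroup p S) (hF : F.IsSaturated p) (h : FamilyCond F 𝒜)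
    (hN : ∀ P φ, φ ∈ F.normalizerHom (⨅ A ∈ 𝒜, A) P → φ ∈ (innerFusionSystem S).Hom P) :
    F ≤ innerFusionSystem S := by
  have hgood : SectionClosed.{u} (fun L _ => ThompsonGood p L) := sectionClosed_thompsonGood p
  suffices H : ∀ (n : ℕ) (M : Subgroup Ω) (G : FusionSystem M), M = S → sysSize G < n → G.IsSaturated p →
      (∀ P φ, φ ∈ G.Hom P → φ ∈ F.Hom P) → ∀ P φ, φ ∈ G.Hom P → φ ∈ (innerFusionSystem S).Hom P from
    fun P φ hφ => H _ S F rfl (Nat.lt_succ_self _) hF (fun _ _ h => h) P φ hφ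
  intro n
  induction n with
  | zero => intro M G _ hn; omega
  | succ n ih =>
  intro M G hMS hn hG hGF
  subst hMS
  by_cases hS1 : M = ⊥
  · subst hS1
    intro P φ hφ
    exact ⟨le_S hφ, 1, one_mem _, fun x => by
      rw [Subgroup.mem_bot.mp (apply_mem_S hφ x), Subgroup.mem_bot.mp (le_S hφ x.2)]; group⟩
  show G ≤ innerFusionSystem M
  refine le_of_steps hS hG hS1 (innerFusionSystem M) ?_ ?_ ?_ ?_
  · intro U hU hUn N hNsys hne hbig
    have hsub : ∀ P φ, φ ∈ N.Hom P → φ ∈ G.Hom P := fun P φ h => ((hNsys P).le h).1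
    have := finite_of_le (normalizerIn_le (S := M) (P := U))
    by_cases hM : normalizerIn M U = M
    · exact ih _ N hM (by have := sysSize_lt_of_sub hsub hne; omega)
        (normalizerSystem_saturated hS hG hUn hNsys) fun P φ h => hGF P φ (hsub P φ h)
    · intro P φ hφ
      have hMp : IsPGroup p (normalizerIn M U) := hS.to_le normalizerIn_le
      have hX : centerThompsonAOf (normalizerIn M U) ≤ normalizerIn M U := by
        rw [← charSub_zjW]; exact charSub_le _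
      have hNn : Subgroup.normalizer (normalizerIn M U : Set Ω) ≤
          Subgroup.normalizer (centerThompsonAOf (normalizerIn M U) : Set Ω) := by
        rw [← charSub_zjW]; exact charSub_le_normalizer (fun Q R _ _ _ _ => zjW_equiv Q R) hMp
      obtain ⟨hP, g, hg, hge⟩ := le_inner_zj hp hMp (normalizerSystem_saturated hS hG hUn hNsys) (fun P φ hφ => by
        obtain ⟨χ, hχ, hχU, hχe⟩ := exists_extension_in_normalizer hUn.1 rfl
          (le_inf normalizerIn_le (Subgroup.le_normalizer.trans hNn)) hX hNsys hφ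
        obtain ⟨-, g, hg, hge⟩ := hbig hM _ (by
            rw [← charSub_zjW]
            exact charSub_ne_bot (fun Q _ _ => zjW_ne_bot Q) hMp fun e => hU
              (le_bot_iff.mp ((le_normalizerIn hUn.1).trans e.le))) hX (inf_le_right.trans hNn) _ χ hχ
        have := finite_of_le hUn.1
        refine ⟨le_S hφ.1, g, ⟨hg, mem_normalizer_of_forall fun u hu => ?_⟩, fun x => ?_⟩
        · rw [← hge ⟨u, Subgroup.mem_sup_right hu⟩]; exact hχU _ hu
        · rw [← hχe x]; exact hge _) P hφ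
      exact ⟨hP.trans normalizerIn_le, g, normalizerIn_le hg, hge⟩
  · intro T hTc hTn hTN P φ hφ
    obtain ⟨N, hNsys⟩ := exists_normalizerSystem (F := G) hTn.1
    have hφN : φ ∈ N.Hom P := (hNsys P).ge hφ
    clear hφ
    obtain ⟨L, _, ι, hL⟩ := exists_model_normalizer hS hG hTn hTc hNsys
    have hsub : ∀ P φ, φ ∈ N.Hom P → φ ∈ G.Hom P := fun P φ h => ((hNsys P).le h).1
    clear hNsys
    revert N ι
    rw [hTN]
    intro N φN ι hL hsub
    have := hL.1
    obtain ⟨T₀, hT₀⟩ := hL.2.2.1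
    let Fam := (fun A : Subgroup Ω => (A.subgroupOf M).map ι) '' 𝒜
    have hcond : Family.Cond (T₀ : Subgroup L) Fam := h.toGroup hL.2.1.1 hT₀ fun P hP l hl => by
      obtain ⟨ψ, hψ, hψe⟩ := realized_exists_map hL.2.1 hP l hl
      exact ⟨ψ, hGF _ _ (hsub _ _ hψ), hψe⟩
    have hZM := h.inf_le
    have hSn := h.le_normalizer
    have htop : (T₀ : Subgroup L) = ⊤ := by
      refine Family.eq_top_of_family hp _ L T₀ Fam (Nat.lt_succ_self _) hL.2.2.2 hcond fun l hl => ?_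
      have hmem : ∀ z : M, ι z ∈ (⨅ A ∈ Fam, A : Subgroup L) ↔ (z : Ω) ∈ (⨅ A ∈ 𝒜, A : Subgroup Ω) := by
        intro z
        simp only [Subgroup.mem_iInf]
        constructor
        · intro hz A hA
          obtain ⟨w, hw, hwe⟩ := hz _ ⟨A, hA, rfl⟩
          rw [← hL.2.1.1 hwe]; exact hw
        · rintro hz _ ⟨A, hA, rfl⟩
          exact ⟨z, hz A hA, rfl⟩
      rw [hT₀]
      refine mem_range_of_inner hL hZM true l (fun x hx => ?_) (by simpa using hSn) fun P φ hφ => ?_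
      · have h2 := (Subgroup.mem_normalizer_iff.mp hl _).mp ((hmem x).mpr hx)
        obtain ⟨A₁, hA₁⟩ := h.nonempty
        have h3 : l * ι x * l⁻¹ ∈ ι.range := by
          simp only [Subgroup.mem_iInf] at h2
          exact Subgroup.map_le_range ι _ (h2 _ ⟨A₁, hA₁, rfl⟩)
        obtain ⟨y, hy⟩ := h3
        exact ⟨y, (hmem y).mp (hy ▸ h2), fun hb => absurd hb (by decide), hy⟩
      · obtain ⟨-, g, hg, hge⟩ := hN P φ (locHom_mono le_rfl (fun P φ h => hGF P φ (hsub P φ h)) true hφ)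
        exact ⟨g, hg, hge⟩
    obtain ⟨l, hl⟩ := realized_conj hL.2.1 φN
    obtain ⟨s, hs⟩ : l ∈ ι.range := by rw [← hT₀, htop]; exact Subgroup.mem_top l
    refine ⟨le_S φN, s, s.2, fun x => ?_⟩
    have h1 := hl x
    rw [← hs, ← map_inv, ← map_mul, ← map_mul] at h1
    exact congrArg Subtype.val (hL.2.1.1 h1)
  · intro Q hQ hQ1 hr hsat hne P φ hφ
    have hlt := sysSize_lt_of_sub (G := extSystem G hr.1 (autInducedBy M Q) M
      (isKNormalizer_autInducedBy (le_normalizer_of_isNormal hQ))) (fun P φ h => h.1) hne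
    exact ih M _ rfl (by omega) hsat (fun P φ h => hGF P φ h.1) P φ hφ
  · intro Q hQ hQ1 hQS hne hV
    have hQn : (Q.subgroupOf M).Normal :=
      (Subgroup.normal_subgroupOf_iff_le_normalizer hQ.1).mpr (le_normalizer_of_isNormal hQ)
    let θ : M →* M ⧸ Q.subgroupOf M := QuotientGroup.mk' _
    have hk : ∀ s : M, θ s = 1 ↔ (s : Ω) ∈ Q := fun s => QuotientGroup.eq_one_iff s
    have hA := IsNormal.stronglyClosed hQ
    have hE' := factorSystem_isFactorSystem (θ := θ) hk hA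
    have : Finite θ.range := Finite.of_surjective _ θ.rangeRestrict_surjective
    have hθp : IsPGroup p θ.range := hS.of_surjective _ θ.rangeRestrict_surjective
    have hθne : θ.range ≠ ⊥ := fun e => hQS (le_antisymm hQ.1 fun s hs =>
      (hk ⟨s, hs⟩).mp (Subgroup.mem_bot.mp (e.le ⟨⟨s, hs⟩, rfl⟩)))
    refine le_inner_of_quotient hS hG hQ hne hE'
      (le_inner_zj hp hθp (isSaturated_factor hS hG hA hE') fun P' φ' hφ' => ?_)
    rw [← charSub_zjW] at hφ'
    have hW' : charSub zjW θ.range ≤ θ.range := charSub_le _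
    obtain ⟨P, ψ, hψ, hlift⟩ := exists_lift_normalizerHom hE' hW' hφ'
    obtain ⟨-, g, hg, hge⟩ := hV _ (preimageAlong_le _) (by
        intro s hs
        have := finite_of_le (preimageAlong_le (θ := θ) (charSub zjW θ.range))
        refine mem_normalizer_of_forall fun w hw => ?_
        obtain ⟨hwS, hw'⟩ := mem_preimageAlong.mp hw
        refine mem_preimageAlong.mpr ⟨M.mul_mem (M.mul_mem hs hwS) (M.inv_mem hs), ?_⟩
        show θ (⟨s, hs⟩ * ⟨w, hwS⟩ * (⟨s, hs⟩ : M)⁻¹) ∈ charSub zjW θ.range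
        rw [map_mul, map_mul, map_inv]
        exact (Subgroup.mem_normalizer_iff.mp
          (charSub_le_normalizer (fun Q R _ _ _ _ => zjW_equiv Q R) hθp (Subgroup.le_normalizer ⟨_, rfl⟩)) _).mp hw')
      (fun hle => charSub_ne_bot (fun Q _ _ => zjW_ne_bot Q) hθp hθne (le_bot_iff.mp fun y hy => by
        obtain ⟨s, rfl⟩ := charSub_le _ hy
        exact Subgroup.mem_bot.mpr ((hk s).mpr (hle (mem_preimageAlong.mpr ⟨s.2, hy⟩))))) P ψ hψ
    refine ⟨le_S hφ'.1, θ ⟨g, hg⟩, ⟨_, rfl⟩, fun y => ?_⟩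
    obtain ⟨x, hxS, hψS, hxe, hφe⟩ := hlift y
    rw [← hφe, ← hxe, ← map_inv, ← map_mul, ← map_mul]
    exact congrArg θ (Subtype.ext (hge x))

end CfsgLib.Fusion
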