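import Mathlib.GroupTheory.Sylow
import Mathlib.Algebra.CharP.Lemmas
import Mathlib.Algebra.Polynomial.Inductions
import Mathlib.Algebra.Polynomial.AlgebraMap
import Mathlib.Algebra.Polynomial.Coeff
import Mathlib.Tactic.LinearCombination

/-!
# `p^n`-th powers of fixed points under unipotent action of bounded class

If every `p`-element of a finite group acting on an abelian group `W` satisfies
`(g-1)^(n(p-1)+1) = 0`, then for `z` fixed by a Sylow `p`-subgroup the element `z^(p^n)` is fixed by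
all Sylow `p`-subgroups.
-/

namespace CfsgLib.Fusion.UnipotentPower

open Polynomial

/-- `(X + 1)^p - 1 = X^p + p X (1 + X q)`. -/
theorem exists_add_one_pow (p : ℕ) (hp : p.Prime) :
    ∃ q : ℤ[X], ((X : ℤ[X]) + 1) ^ p - 1 = X ^ p + (p : ℤ[X]) * X + (p : ℤ[X]) * X ^ 2 * q := by
  obtain ⟨r, hr⟩ := exists_add_pow_prime_eq hp (X : ℤ[X]) 1
  rw [one_pow, mul_one] at hr
  have h1 := congrArg (fun f : ℤ[X] => f.coeff 1) hr
  simp only [coeff_add, coeff_one, coeff_X_add_one_pow, Nat.choose_one_right] at h1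
  rw [coeff_X_pow, if_neg hp.ne_one.symm, mul_assoc, coeff_natCast_mul, coeff_X_mul] at h1
  have h0 : r.coeff 0 = 1 := by
    have : (p : ℤ) ≠ 0 := by exact_mod_cast hp.ne_zero
    simp at h1
    exact (mul_left_cancel₀ this (by rw [mul_one]; exact h1.symm))
  refine ⟨divX r, ?_⟩
  have h2 := X_mul_divX_add r
  rw [h0, map_one] at h2
  rw [hr]
  linear_combination (-(p : ℤ[X]) * X) * h2

theorem end_mul_apply {M : Type*} [AddCommGroup M] (f g : AddMonoid.End M) (a : M) : (f * g) a = f (g a) :=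
  rfl

/-- If `(x+1)^p` fixes `w` and `x^k = 0` with `k = n(p-1)+1` then `p^n` kills `x w`. -/
theorem pow_smul_eq_zero {M : Type*} [AddCommGroup M] {p n : ℕ} (hp : p.Prime) (x : AddMonoid.End M)
    (hk : ∀ m, n * (p - 1) + 1 ≤ m → ∀ w, (x ^ m) w = 0) {w : M} (hw : ((x + 1) ^ p) w = w) :
    p ^ n • x w = 0 := by
  obtain ⟨q, hq⟩ := exists_add_one_pow p hp
  set Q := aeval x q with hQ
  have hid : (x + 1) ^ p - 1 = x ^ p + (p : AddMonoid.End M) * x + (p : AddMonoid.End M) * x ^ 2 * Q := by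
    have := congrArg (aeval x) hq
    simpa using this
  have hp2 := hp.two_le
  suffices key : ∀ (t m i : ℕ) (w : M), n * (p - 1) + 1 - m ≤ t → 1 ≤ m → ((x + 1) ^ p) w = w →
      n * (p - 1) + 1 ≤ m + i * (p - 1) → p ^ i • (x ^ m) w = 0 by
    simpa using key _ 1 n w le_rfl le_rfl hw (by omega)
  intro t
  induction t with
  | zero =>
    intro m i w ht _ _ _
    rw [hk m (by omega), smul_zero]
  | succ t ih =>
    intro m i w ht hm hw hmi
    by_cases hmk : n * (p - 1) + 1 ≤ m
    · rw [hk m hmk, smul_zero]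
    obtain ⟨i, rfl⟩ : ∃ i', i = i' + 1 := ⟨i - 1, by
      rcases i with _ | i
      · simp at hmi; omega
      · rfl⟩
    obtain ⟨m, rfl⟩ : ∃ m', m = m' + 1 := ⟨m - 1, by omega⟩
    have h1 : (x ^ m * ((x + 1) ^ p - 1)) w = 0 := by
      show (x ^ m) (((x + 1) ^ p) w - w) = 0
      rw [hw, sub_self, map_zero]
    have hcx : Commute ((p : AddMonoid.End M)) x := Nat.cast_commute p x
    have h2 : x ^ m * ((x + 1) ^ p - 1) = x ^ (m + p) + (p : AddMonoid.End M) * x ^ (m + 1) +
        (p : AddMonoid.End M) * x ^ (m + 2) * Q := by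
      rw [hid, mul_add, mul_add, ← pow_add, ← mul_assoc, ← mul_assoc, ← mul_assoc,
        ← (hcx.pow_right m).eq, mul_assoc _ (x ^ m) x, ← pow_succ, mul_assoc _ (x ^ m) (x ^ 2), ← pow_add]
    rw [h2] at h1
    have h4 : (x ^ (m + p)) w + p • (x ^ (m + 1)) w + p • (x ^ (m + 2)) (Q w) = 0 := by
      have hadd : ∀ (f g : AddMonoid.End M) (a : M), (f + g) a = f a + g a := fun _ _ _ => rfl
      have hnat : ∀ (a : M), (p : AddMonoid.End M) a = p • a := fun a => by simp
      rw [hadd, hadd, end_mul_apply, end_mul_apply, end_mul_apply, hnat, hnat] at h1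
      exact h1
    have hQw : ((x + 1) ^ p) (Q w) = Q w := by
      have hc : Commute Q ((x + 1) ^ p) := by
        have hQX : Q * aeval x ((X + 1 : ℤ[X]) ^ p) = aeval x ((X + 1 : ℤ[X]) ^ p) * Q := by
          rw [hQ, ← map_mul, ← map_mul, mul_comm]
        simpa [Commute, SemiconjBy] using hQX
      have := congrArg (fun f : AddMonoid.End M => f w) hc.eq.symm
      simp only [end_mul_apply] at this
      rw [this, hw]
    have e1 : (i + 1) * (p - 1) = i * (p - 1) + (p - 1) := Nat.succ_mul i (p - 1)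
    have h5 := ih (m + p) i w (by omega) (by omega) hw (by omega)
    have h6 := ih (m + 2) (i + 1) (Q w) (by omega) (by omega) hQw (by omega)
    have h7 := congrArg (fun y => p ^ i • y) h4
    simp only [smul_add, smul_smul, ← pow_succ, smul_zero, h5, h6, zero_add, add_zero] at h7
    exact h7

variable {W : Type*} [CommGroup W]

/-- `g` applied to `w`, divided by `w`. -/
def delta (g : MulAut W) (w : W) : W := g w * w⁻¹

/-- The multiplicative form. -/
theorem fixed_pow {p n : ℕ} (hp : p.Prime) (g : MulAut W)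
    (hk : ∀ w, (delta g)^[n * (p - 1) + 1] w = 1) {w : W} (hw : (g ^ p) w = w) :
    g (w ^ p ^ n) = w ^ p ^ n := by
  let e : AddMonoid.End (Additive W) := MonoidHom.toAdditive g.toMonoidHom
  have he : ∀ a : W, e (Additive.ofMul a) = Additive.ofMul (g a) := fun a => rfl
  set x := e - 1 with hx
  have hxa : ∀ a : W, x (Additive.ofMul a) = Additive.ofMul (delta g a) := fun a => by
    show e (Additive.ofMul a) - Additive.ofMul a = _
    rw [he, delta, sub_eq_add_neg]; rfl
  have hiter : ∀ (m : ℕ) (a : W), (x ^ m) (Additive.ofMul a) = Additive.ofMul ((delta g)^[m] a) := by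
    intro m
    induction m with
    | zero => intro a; rfl
    | succ m ih =>
      intro a
      rw [pow_succ', end_mul_apply, ih, hxa, Function.iterate_succ_apply']
  have hkill : ∀ m, n * (p - 1) + 1 ≤ m → ∀ a, (x ^ m) a = 0 := by
    intro m hm a
    obtain ⟨j, rfl⟩ := Nat.exists_eq_add_of_le hm
    obtain ⟨a, rfl⟩ := Additive.ofMul.surjective a
    rw [hiter, Function.iterate_add_apply, hk]
    rfl
  have hepow : ∀ (m : ℕ) (a : W), (e ^ m) (Additive.ofMul a) = Additive.ofMul ((g ^ m) a) := by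
    intro m
    induction m with
    | zero => intro a; rfl
    | succ m ih =>
      intro a
      rw [pow_succ', end_mul_apply, ih, he, pow_succ', MulAut.mul_apply]
  have h1 := pow_smul_eq_zero hp x hkill (w := Additive.ofMul w)
    (by rw [hx, sub_add_cancel, hepow, hw])
  rw [hxa, ← ofMul_pow, ofMul_eq_zero, delta, mul_pow, inv_pow, mul_inv_eq_one, ← map_pow] at h1
  exact h1

/-- All Sylow `p`-subgroups fix `z^(p^n)`. -/
theorem fixed_of_sylow {p n : ℕ} [Fact p.Prime] :
    ∀ (t : ℕ) (G : Type*) [Group G] [Finite G] (ρ : G →* MulAut W) (T : Sylow p G) (D : Subgroup G) [D.Normal],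
      Nat.card (T : Subgroup G) - Nat.card D < t → D ≤ T →
      (∀ g : G, (∃ j, g ^ p ^ j = 1) → ∀ w, (delta (ρ g))^[n * (p - 1) + 1] w = 1) →
      ∀ z : W, (∀ s ∈ (T : Subgroup G), ρ s z = z) → ∀ (g : G), ∀ s ∈ (T : Subgroup G),
        ρ (g * s * g⁻¹) (z ^ p ^ n) = z ^ p ^ n := by
  intro t
  induction t with
  | zero => intro G _ _ ρ T D _ h; omega
  | succ t ih =>
  intro G _ _ ρ T D _ hlt hDT hk z hz g s hs
  have hp : p.Prime := Fact.out
  set v := z ^ p ^ n with hv
  let Fx : Subgroup G :=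
    { carrier := {g | ρ g v = v}
      one_mem' := by simp
      mul_mem' := fun {a b} (ha : ρ a v = v) (hb : ρ b v = v) => by
        show ρ (a * b) v = v
        rw [map_mul, MulAut.mul_apply, hb, ha]
      inv_mem' := fun {a} (ha : ρ a v = v) => by
        show ρ a⁻¹ v = v
        conv_lhs => rw [← ha]
        rw [map_inv, MulAut.inv_apply_self] }
  have hFT : ∀ a ∈ (T : Subgroup G), a ∈ Fx := fun a ha => by
    show ρ a v = v
    rw [hv, map_pow, hz a ha]
  show g * s * g⁻¹ ∈ Fx
  -- the subgroup generated by the elements of order `p` modulo `D`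
  set X := {a : G | a ^ p ∈ D} with hX
  set M := Subgroup.closure X with hM
  haveI hMn : M.Normal := by
    refine ⟨fun a ha b => ?_⟩
    have : (M.map (MulAut.conj b).toMonoidHom) ≤ M := by
      rw [hM, MonoidHom.map_closure, Subgroup.closure_le]
      rintro _ ⟨c, hc, rfl⟩
      refine Subgroup.subset_closure ?_
      show (MulAut.conj b c) ^ p ∈ D
      rw [← map_pow]
      exact (inferInstance : D.Normal).conj_mem _ hc b
    exact this ⟨a, ha, rfl⟩
  have hMFx : M ≤ Fx := (Subgroup.closure_le _).mpr fun a (ha : a ^ p ∈ D) => by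
    show ρ a v = v
    refine fixed_pow hp (ρ a) (hk a ?_) (by rw [← map_pow]; exact hz _ (hDT ha))
    obtain ⟨j, hj⟩ := T.2 ⟨_, hDT ha⟩
    exact ⟨j + 1, by rw [pow_succ', pow_mul]; exact congrArg Subtype.val hj⟩
  by_cases hTD : (T : Subgroup G) ≤ D
  · exact hFT _ (hDT ((inferInstance : D.Normal).conj_mem s (hTD hs) g))
  obtain ⟨a, ha, haD⟩ := SetLike.not_le_iff_exists.mp hTD
  classical
  have hex : ∃ j, a ^ p ^ j ∈ D := by
    obtain ⟨j, hj⟩ := T.2 ⟨a, ha⟩
    exact ⟨j, by rw [show a ^ p ^ j = 1 from congrArg Subtype.val hj]; exact D.one_mem⟩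
  obtain ⟨j, hj, hj'⟩ : ∃ j, a ^ p ^ j ∉ D ∧ (a ^ p ^ j) ^ p ∈ D := by
    have h0 : Nat.find hex ≠ 0 := fun h => haD (by simpa [h] using Nat.find_spec hex)
    obtain ⟨j, hj⟩ := Nat.exists_eq_succ_of_ne_zero h0
    refine ⟨j, Nat.find_min hex (by omega), ?_⟩
    rw [← pow_mul, ← pow_succ]
    have h2 := Nat.find_spec hex
    rwa [hj] at h2
  set E := (T : Subgroup G) ⊓ M with hE
  have hDE : D < E := by
    refine lt_of_le_of_ne (le_inf hDT fun d hd => Subgroup.subset_closure (D.pow_mem hd p)) fun h => hj ?_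
    rw [h]
    exact ⟨(T : Subgroup G).pow_mem ha _, Subgroup.subset_closure hj'⟩
  -- `E` is a Sylow subgroup of `M`
  obtain ⟨U, hU⟩ : ∃ U : Sylow p M, (U : Subgroup M).map M.subtype = E := by
    obtain ⟨U, hU⟩ := ((T.2.to_le (inf_le_left (b := M))).comap_subtype (K := M)).exists_le_sylow
    refine ⟨U, le_antisymm ?_ fun y hy => ⟨⟨y, hy.2⟩, hU hy, rfl⟩⟩
    obtain ⟨T', hT'⟩ := (U.2.map M.subtype).exists_le_sylow
    obtain ⟨b, hb⟩ := MulAction.exists_smul_eq G T' T
    have hsub : ((U : Subgroup M).map M.subtype).map (MulAut.conj b).toMonoidHom ≤ E := by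
      rintro _ ⟨y, hy, rfl⟩
      refine ⟨?_, hMn.conj_mem y (Subgroup.map_subtype_le _ hy) b⟩
      rw [← hb, Sylow.coe_subgroup_smul]
      exact Subgroup.smul_mem_pointwise_smul _ (MulAut.conj b) _ (hT' hy)
    have hc : Nat.card ((U : Subgroup M).map M.subtype) ≤ Nat.card E := by
      refine le_trans (Nat.card_congr (Subgroup.equivMapOfInjective _ (MulAut.conj b).toMonoidHom
        (MulAut.conj b).injective).toEquiv).le ?_
      exact Subgroup.card_le_of_le hsub
    have hle : E ≤ (U : Subgroup M).map M.subtype := fun y hy => ⟨⟨y, hy.2⟩, hU hy, rfl⟩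
    exact (SetLike.coe_injective (Set.eq_of_subset_of_ncard_le hle
      (by rwa [← Nat.card_coe_set_eq, ← Nat.card_coe_set_eq]) (Set.toFinite _))).ge
  set H := Subgroup.normalizer (E : Set G) with hH
  have hTH : (T : Subgroup G) ≤ H := fun b hb => by
    rw [hH, Subgroup.mem_normalizer_iff]
    intro y
    refine ⟨fun hy => ⟨(T : Subgroup G).mul_mem ((T : Subgroup G).mul_mem hb hy.1) ((T : Subgroup G).inv_mem hb),
      hMn.conj_mem y hy.2 b⟩, fun hy => ?_⟩
    have h1 := (T : Subgroup G).mul_mem ((T : Subgroup G).mul_mem ((T : Subgroup G).inv_mem hb) hy.1) hb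
    have h2 := hMn.conj_mem _ hy.2 b⁻¹
    refine ⟨?_, ?_⟩
    · rw [show b⁻¹ * (b * y * b⁻¹) * b = y by group] at h1
      exact h1
    · rw [show b⁻¹ * (b * y * b⁻¹) * b⁻¹⁻¹ = y by group] at h2
      exact h2
  haveI : (E.subgroupOf H).Normal :=
    ⟨fun y hy b => (Subgroup.mem_normalizer_iff.mp b.2 _).mp hy⟩
  have hcardE : Nat.card (E.subgroupOf H) = Nat.card E :=
    Nat.card_congr (Subgroup.subgroupOfEquivOfLe ((inf_le_left : E ≤ T).trans hTH)).toEquiv
  have hcardT : Nat.card (T.subtype hTH : Subgroup H) = Nat.card (T : Subgroup G) := by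
    rw [Sylow.coe_subtype]
    exact Nat.card_congr (Subgroup.subgroupOfEquivOfLe hTH).toEquiv
  have hcard : Nat.card D < Nat.card E := by
    refine lt_of_not_ge fun hle => hDE.ne ?_
    exact SetLike.coe_injective (Set.eq_of_subset_of_ncard_le hDE.le
      (by rwa [← Nat.card_coe_set_eq, ← Nat.card_coe_set_eq]) (Set.toFinite _))
  have hcard' : Nat.card E ≤ Nat.card (T : Subgroup G) := Subgroup.card_le_of_le inf_le_left
  have hrec := ih H (ρ.comp H.subtype) (T.subtype hTH) (E.subgroupOf H) (by omega)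
    (by rw [Sylow.coe_subtype]; exact fun y hy => hy.1)
    (fun y ⟨i, hi⟩ => hk y ⟨i, by rw [← SubgroupClass.coe_pow, hi]; rfl⟩) z
    (fun y hy => hz y hy)
  have htop : H ⊔ M = ⊤ := by
    have := Sylow.normalizer_sup_eq_top (N := M) U
    rwa [hU] at this
  obtain ⟨b, hb, m, hm, rfl⟩ := Subgroup.mem_sup_of_normal_right.mp (htop.ge (Subgroup.mem_top g))
  have h1 : b * s * b⁻¹ ∈ Fx := hrec ⟨b, hb⟩ ⟨s, hTH hs⟩ (by rw [Sylow.coe_subtype]; exact hs)
  have h2 : b * m * b⁻¹ ∈ Fx := hMFx (hMn.conj_mem m hm b)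
  have h3 := Fx.mul_mem (Fx.mul_mem h2 h1) (Fx.inv_mem h2)
  have e : b * m * s * (b * m)⁻¹ = b * m * b⁻¹ * (b * s * b⁻¹) * (b * m * b⁻¹)⁻¹ := by group
  rw [e]
  exact h3

end CfsgLib.Fusion.UnipotentPower
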