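import Cfsg.Agent.Lib.Fusion.LocalControl
import Cfsg.Agent.Lib.Fusion.UnipotentPower

/-!
# Control of fusion by `℧¹(Z(P))` and a functor with a quadratic element

If a functor `W` is such that in every finite group with self-centralizing `O_p` in which `W(P)` is not
normal some element of `P` outside `O_p` acts quadratically on `Z(O_p)`, then in such a group the fusion
in `P` is composed of fusion by elements fixing `℧¹(Z(P))` and by elements normalizing `W(P)`.
-/

namespace CfsgLib.Fusion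

open Cfsg Cfsg.FusionSystem
open scoped IsMulCommutative

universe u

/-- Non-normality of `W(P)` yields a quadratic element on `Z(O_p)`. -/
def QuadraticFunctor (p : ℕ) (W : ∀ (Q : Type u) [Group Q], Subgroup Q) : Prop :=
  ∀ (G : Type u) [Group G] [Finite G] (P : Sylow p G),
    Subgroup.centralizer ((pCore p G : Subgroup G) : Set G) ≤ pCore p G →
    ¬ (charSub W (P : Subgroup G)).Normal →
    ∃ g : G, g ∈ (P : Subgroup G) ∧ g ∉ pCore p G ∧
      ⁅⁅(Subgroup.center ↥(pCore p G)).map (pCore p G).subtype, Subgroup.zpowers g⁆, Subgroup.zpowers g⁆ = ⊥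

variable {p : ℕ} [Fact p.Prime] {G : Type*} [Group G] [Finite G]

omit [Finite G] in
/-- An element acting quadratically on an abelian normal subgroup fixes the `p`-th powers of the elements
its own `p`-th power centralizes. -/
theorem conj_pow_eq_of_quadratic {A : Subgroup G} [A.Normal] [IsMulCommutative A] {g : G}
    (hq : ⁅⁅A, Subgroup.zpowers g⁆, Subgroup.zpowers g⁆ = ⊥) {z : G} (hz : z ∈ A)
    (hgp : g ^ p * z * (g ^ p)⁻¹ = z) : g * z ^ p * g⁻¹ = z ^ p := by
  have hp : p.Prime := Fact.out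
  set ρ : MulAut A := MulAut.conjNormal g with hρ
  have h2 : ∀ w : A, UnipotentPower.delta ρ (UnipotentPower.delta ρ w) = 1 := by
    intro w
    have hd : ∀ v : A, ((UnipotentPower.delta ρ v : A) : G) = g * v * g⁻¹ * (v : G)⁻¹ := fun v => by
      rw [UnipotentPower.delta, Subgroup.coe_mul, Subgroup.coe_inv, hρ, MulAut.conjNormal_apply]
    have h1 : g * w * g⁻¹ * (w : G)⁻¹ ∈ ⁅A, Subgroup.zpowers g⁆ := by
      have := Subgroup.inv_mem _ (Subgroup.commutator_mem_commutator (H₁ := A) (H₂ := Subgroup.zpowers g)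
        w.2 (Subgroup.mem_zpowers g))
      rwa [commutatorElement_inv, commutatorElement_def] at this
    have h3 := Subgroup.commutator_mem_commutator h1 (Subgroup.mem_zpowers g)
    rw [hq, Subgroup.mem_bot, commutatorElement_eq_one_iff_mul_comm] at h3
    refine Subtype.ext ?_
    rw [hd, hd, Subgroup.coe_one]
    rw [show g * (g * w * g⁻¹ * (w : G)⁻¹) = g * w * g⁻¹ * (w : G)⁻¹ * g from h3.symm]
    group
  have hk : ∀ w, (UnipotentPower.delta ρ)^[1 * (p - 1) + 1] w = 1 := by
    intro w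
    obtain ⟨j, hj⟩ : ∃ j, 1 * (p - 1) + 1 = j + 2 := ⟨p - 2, by have := hp.two_le; omega⟩
    rw [hj, Function.iterate_add_apply]
    have e : (UnipotentPower.delta ρ)^[2] w = 1 := h2 w
    rw [e]
    clear e hj
    induction j with
    | zero => rfl
    | succ j ih => rw [Function.iterate_succ_apply', ih, UnipotentPower.delta, map_one]; simp
  have h := UnipotentPower.fixed_pow hp ρ hk (w := ⟨z, hz⟩) (by
    refine Subtype.ext ?_
    rw [hρ, ← map_pow, MulAut.conjNormal_apply]
    exact hgp)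
  have h' := congrArg Subtype.val h
  rw [hρ, MulAut.conjNormal_apply, Subgroup.coe_pow, pow_one] at h'
  exact h'

omit [Finite G] [Fact p.Prime] in
/-- A power of `g` lies outside the normal subgroup `N` while its `p`-th power lies inside. -/
theorem exists_pow_notMem {N : Subgroup G} {g : G} (hg : g ∉ N) (h : ∃ k, g ^ p ^ k = 1) :
    ∃ j, g ^ p ^ j ∉ N ∧ (g ^ p ^ j) ^ p ∈ N := by
  classical
  have hex : ∃ j, g ^ p ^ j ∈ N := by
    obtain ⟨k, hk⟩ := h
    exact ⟨k, hk ▸ N.one_mem⟩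
  have h0 : Nat.find hex ≠ 0 := fun h => hg (by simpa [h] using Nat.find_spec hex)
  obtain ⟨j, hj⟩ := Nat.exists_eq_succ_of_ne_zero h0
  refine ⟨j, Nat.find_min hex (by omega), ?_⟩
  rw [← pow_mul, ← pow_succ]
  have h2 := Nat.find_spec hex
  rwa [hj] at h2

omit [Finite G] [Fact p.Prime] in
theorem commutator_zpowers_pow_eq_bot {A : Subgroup G} {g : G}
    (hq : ⁅⁅A, Subgroup.zpowers g⁆, Subgroup.zpowers g⁆ = ⊥) (m : ℕ) :
    ⁅⁅A, Subgroup.zpowers (g ^ m)⁆, Subgroup.zpowers (g ^ m)⁆ = ⊥ :=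
  le_bot_iff.mp (hq ▸ Subgroup.commutator_mono
    (Subgroup.commutator_mono le_rfl (Subgroup.zpowers_le.mpr (Subgroup.pow_mem _ (Subgroup.mem_zpowers g) m)))
    (Subgroup.zpowers_le.mpr (Subgroup.pow_mem _ (Subgroup.mem_zpowers g) m)))

/-- The Frattini factorization of fusion: a fusing element is `m h` with `m` in the normal subgroup `M` and
`h` normalizing `P ⊓ M`, with an intermediate subgroup in `P`. -/
theorem exists_fusion_split (P : Sylow p G) (M : Subgroup G) [M.Normal] {A : Subgroup G} {l : G}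
    (hA : A ≤ P) (hl : ∀ a ∈ A, l * a * l⁻¹ ∈ (P : Subgroup G)) :
    ∃ m ∈ M, ∃ h ∈ Subgroup.normalizer (((P : Subgroup G) ⊓ M : Subgroup G) : Set G),
      l = m * h ∧ ∀ a ∈ A, h * a * h⁻¹ ∈ (P : Subgroup G) := by
  set E : Subgroup G := (P : Subgroup G) ⊓ M with hE
  set H := Subgroup.normalizer (E : Set G) with hH
  have hPH : (P : Subgroup G) ≤ H := fun b hb => by
    refine mem_normalizer_of_forall fun y hy => ⟨?_, (inferInstance : M.Normal).conj_mem y hy.2 b⟩
    exact (P : Subgroup G).mul_mem ((P : Subgroup G).mul_mem hb hy.1) ((P : Subgroup G).inv_mem hb)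
  obtain ⟨U, hU⟩ : ∃ U : Sylow p M, (U : Subgroup M).map M.subtype = E := by
    obtain ⟨U, hU⟩ := ((P.2.to_le (inf_le_left (b := M))).comap_subtype (K := M)).exists_le_sylow
    refine ⟨U, le_antisymm ?_ fun y hy => ⟨⟨y, hy.2⟩, hU hy, rfl⟩⟩
    obtain ⟨T', hT'⟩ := (U.2.map M.subtype).exists_le_sylow
    obtain ⟨b, hb⟩ := MulAction.exists_smul_eq G T' P
    have hsub : ((U : Subgroup M).map M.subtype).map (MulAut.conj b).toMonoidHom ≤ E := by
      rintro _ ⟨y, hy, rfl⟩
      refine ⟨?_, (inferInstance : M.Normal).conj_mem y (Subgroup.map_subtype_le _ hy) b⟩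
      rw [← hb, Sylow.coe_subgroup_smul]
      exact Subgroup.smul_mem_pointwise_smul _ (MulAut.conj b) _ (hT' hy)
    have hc : Nat.card ((U : Subgroup M).map M.subtype) ≤ Nat.card E := by
      refine le_trans (Nat.card_congr (Subgroup.equivMapOfInjective _ (MulAut.conj b).toMonoidHom
        (MulAut.conj b).injective).toEquiv).le ?_
      exact Subgroup.card_le_of_le hsub
    have hle : E ≤ (U : Subgroup M).map M.subtype := fun y hy => ⟨⟨y, hy.2⟩, hU hy, rfl⟩
    exact (eq_of_le_of_card_le hle hc).ge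
  have hidx : ¬ p ∣ E.relIndex M := by
    have h := U.not_dvd_index
    rwa [← hU, Subgroup.relIndex, Subgroup.subgroupOf,
      Subgroup.comap_map_eq_self_of_injective M.subtype_injective]
  have htop : H ⊔ M = ⊤ := by
    have := Sylow.normalizer_sup_eq_top (N := M) U
    rwa [hU] at this
  obtain ⟨m, hm, h, hh, hlm⟩ := Subgroup.mem_sup_of_normal_left.mp
    ((sup_comm H M ▸ htop : M ⊔ H = ⊤).ge (Subgroup.mem_top l))
  -- conjugate the image of `A` into `P` inside `H`
  let A1 : Subgroup G := A.map (MulAut.conj h).toMonoidHom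
  let A2 : Subgroup G := A.map (MulAut.conj l).toMonoidHom
  have hA2 : A2 ≤ P := by
    rintro _ ⟨a, ha, rfl⟩
    exact hl a ha
  have hA1 : A1 ≤ H := by
    rintro _ ⟨a, ha, rfl⟩
    exact H.mul_mem (H.mul_mem hh (hPH (hA ha))) (H.inv_mem hh)
  let π : H →* G ⧸ M := (QuotientGroup.mk' M).comp H.subtype
  have hker : π.ker = M.subgroupOf H := by
    ext x
    exact QuotientGroup.eq_one_iff (x : G)
  let B : Subgroup G := E ⊔ A2
  have hBP : B ≤ P := sup_le inf_le_left hA2
  obtain ⟨d, hd, hdA⟩ := exists_conj_le_of_map_le π (p := p) (A := A1.subgroupOf H) (B := B.subgroupOf H)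
    (((P.2.to_le hA).map (MulAut.conj h).toMonoidHom).comap_subtype)
    ((P.2.to_le hBP).comap_subtype)
    (by
      rintro _ ⟨x, hx, rfl⟩
      obtain ⟨a, ha, hxa⟩ := hx
      refine ⟨⟨l * a * l⁻¹, hPH (hl a ha)⟩, Subgroup.mem_sup_right ⟨a, ha, rfl⟩, ?_⟩
      show QuotientGroup.mk' M (l * a * l⁻¹) = QuotientGroup.mk' M (x : G)
      have hxa' : h * a * h⁻¹ = (x : G) := hxa
      have hm1 : QuotientGroup.mk' M m = 1 := (QuotientGroup.eq_one_iff m).mpr hm
      rw [← hxa', ← hlm]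
      simp only [map_mul, map_inv, hm1, one_mul])
    (by
      rw [hker]
      refine fun hdvd => hidx (hdvd.trans ?_)
      have h1 : (B.subgroupOf H).relIndex (M.subgroupOf H) ∣ (E.subgroupOf H).relIndex (M.subgroupOf H) :=
        Subgroup.relIndex_dvd_of_le_left _ (Subgroup.comap_mono le_sup_left)
      refine h1.trans ?_
      have hEM : E.subgroupOf H ≤ M.subgroupOf H := Subgroup.comap_mono inf_le_right
      have e1 : (E.subgroupOf H).relIndex (M.subgroupOf H) = E.relIndex (M ⊓ H) := by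
        have := Subgroup.relIndex_comap E H.subtype (M.subgroupOf H)
        rw [show E.subgroupOf H = E.comap H.subtype from rfl, this, Subgroup.subgroupOf_map_subtype]
      rw [e1]
      exact Dvd.intro _ (Subgroup.relIndex_mul_relIndex E (M ⊓ H) M
        (le_inf inf_le_right (inf_le_left.trans hPH)) inf_le_left))
  have hdM : (d : G) ∈ M := by rw [hker] at hd; exact hd
  refine ⟨m * (d : G)⁻¹, M.mul_mem hm (M.inv_mem hdM), (d : G) * h, H.mul_mem d.2 hh,
    by rw [← hlm]; group, fun a ha => hBP ?_⟩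
  have h5 := hdA ⟨h * a * h⁻¹, hA1 ⟨a, ha, rfl⟩⟩ ⟨a, ha, rfl⟩
  have h6 : (d : G) * (h * a * h⁻¹) * (d : G)⁻¹ ∈ B := h5
  rwa [show (d : G) * h * a * ((d : G) * h)⁻¹ = (d : G) * (h * a * h⁻¹) * (d : G)⁻¹ by group]

omit [Finite G] in
theorem center_map_mem {z : G} {K : Subgroup G} :
    z ∈ (Subgroup.center K).map K.subtype ↔ z ∈ K ∧ ∀ y ∈ K, y * z = z * y := by
  constructor
  · rintro ⟨w, hw, rfl⟩
    exact ⟨w.2, fun y hy => congrArg Subtype.val (Subgroup.mem_center_iff.mp hw ⟨y, hy⟩)⟩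
  · rintro ⟨hz, h⟩
    exact ⟨⟨z, hz⟩, Subgroup.mem_center_iff.mpr fun y => Subtype.ext (h y y.2), rfl⟩

/-- Fusion in `P` is composed of fusion fixing `℧¹(Z(P))` and fusion normalizing `W(P)`. -/
theorem fusion_composed {W : ∀ (Q : Type u) [Group Q], Subgroup Q}
    (hW2 : ∀ (Q R : Type u) [Group Q] [Group R] [Finite Q], IsPGroup p Q → ∀ φ : Q ≃* R,
      (W Q).map φ.toMonoidHom = W R)
    (hW : QuadraticFunctor p W) :
    ∀ (n : ℕ) (L : Type u) [Group L] [Finite L] (P : Sylow p L) (Good : L → Subgroup L → Prop), Nat.card L < n →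
      Subgroup.centralizer ((pCore p L : Subgroup L) : Set L) ≤ pCore p L →
      (∀ (A : Subgroup L) (l m : L), A ≤ P → (∀ a ∈ A, l * a * l⁻¹ ∈ (P : Subgroup L)) →
        (∀ a ∈ A, m * (l * a * l⁻¹) * m⁻¹ ∈ (P : Subgroup L)) →
        Good l A → Good m (A.map (MulAut.conj l).toMonoidHom) → Good (m * l) A) →
      (∀ (A : Subgroup L) (l : L), A ≤ P → (∀ a ∈ A, l * a * l⁻¹ ∈ (P : Subgroup L)) →
        (∀ z ∈ (P : Subgroup L), (∀ y ∈ (P : Subgroup L), y * z = z * y) → l * z ^ p * l⁻¹ = z ^ p) →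
        Good l A) →
      (∀ (A : Subgroup L) (l : L), A ≤ P → (∀ a ∈ A, l * a * l⁻¹ ∈ (P : Subgroup L)) →
        l ∈ Subgroup.normalizer (charSub W (P : Subgroup L) : Set L) → Good l A) →
      ∀ (A : Subgroup L) (l : L), A ≤ P → (∀ a ∈ A, l * a * l⁻¹ ∈ (P : Subgroup L)) → Good l A := by
  intro n
  induction n with
  | zero => intro L _ _ P Good h; omega
  | succ n ih =>
  intro L _ _ P Good hlt hcon hcomp hC hN A l hA hl
  by_cases hnor : (charSub W (P : Subgroup L)).Normal
  · exact hN A l hA hl (by rw [Subgroup.normalizer_eq_top]; exact Subgroup.mem_top l)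
  obtain ⟨g₀, hg₀P, hg₀, hq₀⟩ := hW L P hcon hnor
  obtain ⟨k, hk⟩ := P.2 ⟨g₀, hg₀P⟩
  obtain ⟨j, hj, hjp⟩ := exists_pow_notMem (p := p) hg₀ ⟨k, congrArg Subtype.val hk⟩
  set g := g₀ ^ p ^ j with hgdef
  set K := pCore p L with hK
  have : K.Normal := model_core_normal
  set Z := (Subgroup.center K).map K.subtype with hZdef
  have : Z.Normal := by rw [hZdef]; infer_instance
  have : IsMulCommutative Z := ⟨⟨fun x y => Subtype.ext (by
    exact ((center_map_mem.mp y.2).2 x (center_map_mem.mp x.2).1))⟩⟩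
  have hq : ⁅⁅Z, Subgroup.zpowers g⁆, Subgroup.zpowers g⁆ = ⊥ := commutator_zpowers_pow_eq_bot hq₀ _
  have hgP : g ∈ (P : Subgroup L) := (P : Subgroup L).pow_mem hg₀P _
  have hKP : K ≤ P := CfsgLib.PCore.pCore_le_sylow P
  -- `Z(P)` lies in `Z(O_p)`
  have hZP : ∀ z ∈ (P : Subgroup L), (∀ y ∈ (P : Subgroup L), y * z = z * y) → z ∈ Z := fun z hz hzc =>
    center_map_mem.mpr ⟨hcon (Subgroup.mem_centralizer_iff.mpr fun y hy => hzc y (hKP hy)),
      fun y hy => hzc y (hKP hy)⟩
  let Fx : Subgroup L :=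
    { carrier := {x | ∀ z ∈ (P : Subgroup L), (∀ y ∈ (P : Subgroup L), y * z = z * y) →
        x * z ^ p * x⁻¹ = z ^ p}
      one_mem' := fun z _ _ => by simp
      mul_mem' := fun {a b} ha hb z hz hzc => by
        calc a * b * z ^ p * (a * b)⁻¹ = a * (b * z ^ p * b⁻¹) * a⁻¹ := by group
          _ = z ^ p := by rw [hb z hz hzc, ha z hz hzc]
      inv_mem' := fun {a} ha z hz hzc => by
        conv_lhs => rw [← ha z hz hzc]
        group }
  have hKFx : K ≤ Fx := fun x hx z hz hzc => by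
    have := (center_map_mem.mp (hZP z hz hzc)).2 x hx
    have hc : Commute x z := this
    rw [(hc.pow_right p).eq, mul_inv_cancel_right]
  set M := Subgroup.normalClosure {g} ⊔ K with hM
  have : M.Normal := by rw [hM]; infer_instance
  have hMFx : M ≤ Fx := by
    refine sup_le ((Subgroup.closure_le _).mpr ?_) hKFx
    intro x hx
    simp only [Group.mem_conjugatesOfSet_iff, Set.mem_singleton_iff, exists_eq_left, isConj_iff] at hx
    obtain ⟨c, rfl⟩ := hx
    intro z hz hzc
    set z' := c⁻¹ * z * c with hz'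
    have hz'Z : z' ∈ Z := by
      have := (inferInstance : Z.Normal).conj_mem z (hZP z hz hzc) c⁻¹
      simpa [hz'] using this
    have hfix : g ^ p * z' * (g ^ p)⁻¹ = z' := by
      rw [(center_map_mem.mp hz'Z).2 (g ^ p) hjp, mul_inv_cancel_right]
    have h := conj_pow_eq_of_quadratic hq hz'Z hfix
    have e : c * (g * z' ^ p * g⁻¹) * c⁻¹ = c * z' ^ p * c⁻¹ := by rw [h]
    have e2 : c * z' ^ p * c⁻¹ = z ^ p := by
      rw [← conj_pow, show c * z' * c⁻¹ = z by rw [hz']; group]
    rw [← e2]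
    calc c * g * c⁻¹ * (c * z' ^ p * c⁻¹) * (c * g * c⁻¹)⁻¹ = c * (g * z' ^ p * g⁻¹) * c⁻¹ := by group
      _ = c * z' ^ p * c⁻¹ := e
  set E : Subgroup L := (P : Subgroup L) ⊓ M with hE
  set H := Subgroup.normalizer (E : Set L) with hH
  have hPH : (P : Subgroup L) ≤ H := fun b hb => by
    refine mem_normalizer_of_forall fun y hy => ⟨?_, (inferInstance : M.Normal).conj_mem y hy.2 b⟩
    exact (P : Subgroup L).mul_mem ((P : Subgroup L).mul_mem hb hy.1) ((P : Subgroup L).inv_mem hb)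
  have hKH : K ≤ H := hKP.trans hPH
  have hKE : K ≤ E := le_inf hKP le_sup_right
  have hgE : g ∈ E := ⟨hgP, Subgroup.mem_sup_left (Subgroup.subset_normalClosure (Set.mem_singleton g))⟩
  have hHne : H ≠ ⊤ := fun e => hj ((show E ≤ pCore p L from le_sSup
    ⟨Subgroup.normalizer_eq_top_iff.mp e, P.2.to_le inf_le_left⟩) hgE)
  have hHlt : Nat.card H < Nat.card L := by
    refine lt_of_le_of_ne (Subgroup.card_le_card_group H) fun e => hHne ?_
    exact Subgroup.card_eq_iff_eq_top H |>.mp e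
  have : (E.subgroupOf H).Normal := ⟨fun y hy b => (Subgroup.mem_normalizer_iff.mp b.2 _).mp hy⟩
  have hEcore : E.subgroupOf H ≤ pCore p H :=
    le_sSup ⟨inferInstance, (P.2.to_le inf_le_left).comap_subtype⟩
  have hHcon : Subgroup.centralizer ((pCore p H : Subgroup H) : Set H) ≤ pCore p H := by
    intro x hx
    refine hEcore (hKE (hcon (Subgroup.mem_centralizer_iff.mpr fun y hy => ?_)))
    exact congrArg Subtype.val (Subgroup.mem_centralizer_iff.mp hx ⟨y, hKH hy⟩ (hEcore (hKE hy)))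
  -- fusion inside `H`
  let P' : Sylow p H := P.subtype hPH
  have hP'coe : (P' : Subgroup H) = (P : Subgroup L).subgroupOf H := Sylow.coe_subtype ..
  have hmemP : ∀ x : H, x ∈ (P' : Subgroup H) ↔ (x : L) ∈ (P : Subgroup L) := fun x => by
    rw [hP'coe]; exact Subgroup.mem_subgroupOf
  have hWeq : (charSub W (P' : Subgroup H)).map H.subtype = charSub W (P : Subgroup L) := by
    have h := charSub_map hW2 P'.2 (H.subtype.comp (P' : Subgroup H).subtype)
      (H.subtype_injective.comp (Subgroup.subtype_injective _))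
    rw [charSub_subgroupOf] at h
    rw [charSub, Subgroup.map_map, h]
    congr 1
    rw [MonoidHom.range_comp, Subgroup.range_subtype, hP'coe, Subgroup.map_subgroupOf_eq_of_le hPH]
  have hmap : ∀ (B : Subgroup H) (b : H), (B.map (MulAut.conj b).toMonoidHom).map H.subtype =
      (B.map H.subtype).map (MulAut.conj (b : L)).toMonoidHom := fun B b => by
    rw [Subgroup.map_map, Subgroup.map_map]; rfl
  have hinH : ∀ (B : Subgroup H) (b : H), B ≤ (P' : Subgroup H) →
      (∀ a ∈ B, b * a * b⁻¹ ∈ (P' : Subgroup H)) → Good (b : L) (B.map H.subtype) := by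
    refine ih H P' (fun b B => Good (b : L) (B.map H.subtype)) (by omega) hHcon ?_ ?_ ?_
    · intro B b c hB hb hc h1 h2
      rw [hmap] at h2
      refine hcomp _ (b : L) (c : L) ?_ ?_ ?_ h1 h2
      · rintro _ ⟨y, hy, rfl⟩; exact (hmemP y).mp (hB hy)
      · rintro _ ⟨y, hy, rfl⟩; exact (hmemP _).mp (hb y hy)
      · rintro _ ⟨y, hy, rfl⟩; exact (hmemP _).mp (hc y hy)
    · intro B b hB hb hfix
      refine hC _ (b : L) ?_ ?_ fun z hz hzc => ?_
      · rintro _ ⟨y, hy, rfl⟩; exact (hmemP y).mp (hB hy)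
      · rintro _ ⟨y, hy, rfl⟩; exact (hmemP _).mp (hb y hy)
      · exact congrArg Subtype.val (hfix ⟨z, hPH hz⟩ ((hmemP _).mpr hz)
          fun y hy => Subtype.ext (hzc y ((hmemP y).mp hy)))
    · intro B b hB hb hnorm
      refine hN _ (b : L) ?_ ?_ ?_
      · rintro _ ⟨y, hy, rfl⟩; exact (hmemP y).mp (hB hy)
      · rintro _ ⟨y, hy, rfl⟩; exact (hmemP _).mp (hb y hy)
      · rw [← hWeq]
        refine Subgroup.mem_normalizer_iff.mpr fun y => ?_
        constructor
        · rintro ⟨w, hw, rfl⟩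
          exact ⟨_, (Subgroup.mem_normalizer_iff.mp hnorm w).mp hw, rfl⟩
        · rintro ⟨w, hw, hwe⟩
          refine ⟨b⁻¹ * w * b, (Subgroup.mem_normalizer_iff.mp hnorm _).mpr (by simpa [mul_assoc] using hw), ?_⟩
          show (b : L)⁻¹ * (w : L) * b = y
          rw [show (w : L) = b * y * (b : L)⁻¹ from hwe]; group
  obtain ⟨m, hm, h, hh, rfl, hhA⟩ := exists_fusion_split P M hA hl
  refine hcomp A h m hA hhA (fun a ha => ?_) ?_ ?_
  · have := hl a ha
    rwa [show m * h * a * (m * h)⁻¹ = m * (h * a * h⁻¹) * m⁻¹ by group] at this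
  · have hAH : A ≤ H := hA.trans hPH
    have e := hinH (A.subgroupOf H) ⟨h, hh⟩ (fun y hy => (hmemP y).mpr (hA hy))
      (fun y hy => (hmemP _).mpr (hhA y hy))
    rwa [Subgroup.map_subgroupOf_eq_of_le hAH] at e
  · refine hC _ m ?_ ?_ (fun z hz hzc => hMFx hm z hz hzc)
    · rintro _ ⟨a, ha, rfl⟩; exact hhA a ha
    · rintro _ ⟨a, ha, rfl⟩
      have := hl a ha
      rwa [show m * h * a * (m * h)⁻¹ = m * (h * a * h⁻¹) * m⁻¹ by group] at this

end CfsgLib.Fusion
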