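import Cfsg.Agent.Lib.Fusion.ThompsonInner
import Cfsg.Agent.Lib.Fusion.QuadraticGroup
import Cfsg.Agent.Lib.Coprime.Basic

/-!
# Quadratic elements modulo a nilpotent normal complement, `p` odd

In a group with `L/O_p` having an abelian normal `p`-complement and no proper subgroups between the Sylow
subgroup and the whole group, elements acting quadratically on a self-centralizing normal `p`-subgroup lie
in `O_p`.
-/

namespace CfsgLib.Fusion.Family

open Cfsg Cfsg.FusionSystem CfsgLib.Fusion
open scoped IsMulCommutative commutatorElement Pointwise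

universe u

/-- The ring computation: `x² = 0`, `k` commutes with both conjugates by `1 ± x`, `k^m = 1`. -/
theorem commute_of_sq_zero {R : Type*} [Ring R] {x k : R} {m : ℕ} (h2 : ∀ r : R, 2 • r = 0 → r = 0)
    (hm : ∀ r : R, m • r = 0 → r = 0) (hx : x * x = 0) (hk : k ^ m = 1)
    (hc : Commute k ((1 + x) * k * (1 - x))) (hc' : Commute k ((1 - x) * k * (1 + x))) : Commute x k := by
  set u := k * x - x * k with hu
  have hd : (1 + x) * k * (1 - x) - (1 - x) * k * (1 + x) = -(2 • u) := by
    rw [hu, two_smul]; noncomm_ring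
  have hcu : Commute k u := by
    have h1 : Commute k (-(2 • u)) := hd ▸ hc.sub_right hc'
    have h3 : Commute k (2 • u) := by simpa using h1.neg_right
    refine sub_eq_zero.mp (h2 _ ?_)
    rw [two_smul] at h3 ⊢
    have h4 := h3.eq
    rw [mul_add, add_mul] at h4
    calc (k * u - u * k) + (k * u - u * k) = (k * u + k * u) - (u * k + u * k) := by abel
      _ = 0 := by rw [h4, sub_self]
  have hpow : ∀ j : ℕ, k ^ (j + 1) * x - x * k ^ (j + 1) = (j + 1) • (k ^ j * u) := by
    intro j
    induction j with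
    | zero => simp [hu]
    | succ j ih =>
      have e : k ^ (j + 1 + 1) * x - x * k ^ (j + 1 + 1) =
          k * (k ^ (j + 1) * x - x * k ^ (j + 1)) + u * k ^ (j + 1) := by
        rw [pow_succ' k (j + 1), hu]; noncomm_ring
      rw [e, ih, mul_smul_comm, ← mul_assoc, ← pow_succ', ← (hcu.pow_left (j + 1)).eq, succ_nsmul _ (j + 1)]
  rcases m with _ | j
  · exact sub_eq_zero.mp (hm _ (zero_smul ℕ _))
  have h := hpow j
  rw [hk, one_mul, mul_one, sub_self] at h
  have h3 : k ^ j * u = 0 := hm _ h.symm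
  have h4 : u = 0 := by
    calc u = k ^ (j + 1) * u := by rw [hk, one_mul]
      _ = k * (k ^ j * u) := by rw [← mul_assoc, ← pow_succ']
      _ = 0 := by rw [h3, mul_zero]
  exact (sub_eq_zero.mp h4).symm

/-- A quadratic automorphism of an abelian `p`-group, `p` odd, commutes with an automorphism of order prime
to `p` that commutes with both of its conjugates. -/
theorem commute_of_quadratic {p : ℕ} [Fact p.Prime] (hp : p ≠ 2) {W : Type*} [CommGroup W] (hW : IsPGroup p W)
    {g k : MulAut W} (hg : ∀ w, g (g w * w⁻¹) * (g w * w⁻¹)⁻¹ = 1) {m : ℕ} (hm : m.Coprime p) (hk : k ^ m = 1)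
    (hc : Commute k (g * k * g⁻¹)) (hc' : Commute k (g⁻¹ * k * g)) : Commute g k := by
  have hprime : p.Prime := Fact.out
  let τ : MulAut W →* AddMonoid.End (Additive W) :=
    { toFun := fun a => MonoidHom.toAdditive a.toMonoidHom
      map_one' := rfl
      map_mul' := fun _ _ => rfl }
  have htor : ∀ n : ℕ, n.Coprime p → ∀ r : AddMonoid.End (Additive W), n • r = 0 → r = 0 := by
    intro n hn r hr
    refine DFunLike.ext _ _ fun a => ?_
    have h1 : (Additive.toMul (r a)) ^ n = 1 := by
      have := DFunLike.congr_fun hr a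
      exact this
    obtain ⟨j, hj⟩ := hW (Additive.toMul (r a))
    have h3 : orderOf (Additive.toMul (r a)) ∣ Nat.gcd n (p ^ j) :=
      Nat.dvd_gcd (orderOf_dvd_of_pow_eq_one h1) (orderOf_dvd_of_pow_eq_one hj)
    rw [Nat.Coprime.pow_right j hn, Nat.dvd_one, orderOf_eq_one_iff] at h3
    exact h3
  set x := τ g - 1 with hx
  have hxx : x * x = 0 := by
    refine DFunLike.ext _ _ fun a => ?_
    obtain ⟨w, rfl⟩ := Additive.ofMul.surjective a
    show τ g (τ g (Additive.ofMul w) - Additive.ofMul w) - (τ g (Additive.ofMul w) - Additive.ofMul w) = 0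
    rw [sub_eq_add_neg, sub_eq_add_neg]
    exact congrArg Additive.ofMul (hg w)
  have h1x : (1 : AddMonoid.End (Additive W)) + x = τ g := by rw [hx]; abel
  have hginv : (1 : AddMonoid.End (Additive W)) - x = τ g⁻¹ := by
    have e1 : τ g⁻¹ * (1 + x) = 1 := by rw [h1x, ← map_mul, inv_mul_cancel, map_one]
    calc 1 - x = τ g⁻¹ * (1 + x) * (1 - x) := by rw [e1, one_mul]
      _ = τ g⁻¹ * (1 - x * x) := by
        rw [mul_assoc]; congr 1; rw [add_mul, one_mul, mul_sub, mul_one]; abel
      _ = τ g⁻¹ := by rw [hxx, sub_zero, mul_one]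
  have h := commute_of_sq_zero (x := x) (k := τ k) (m := m)
    (htor 2 ((Nat.coprime_primes Nat.prime_two hprime).mpr (Ne.symm hp))) (htor m hm) hxx
    (by rw [← map_pow, hk, map_one]) (by rw [h1x, hginv, ← map_mul, ← map_mul]; exact hc.map τ)
    (by rw [h1x, hginv, ← map_mul, ← map_mul]; exact hc'.map τ)
  have h5 : Commute (τ g) (τ k) := by
    rw [← h1x]; exact (Commute.one_left _).add_left h
  refine MulEquiv.ext fun w => ?_
  exact congrArg Additive.toMul (DFunLike.congr_fun h5.eq (Additive.ofMul w))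

variable {L : Type u} [Group L] [Finite L] {p : ℕ} [Fact p.Prime]

/-- A commutator of a quadratic element with an element that modulo `O` lies in an abelian normal
`p'`-subgroup belongs to `O`. -/
theorem commutator_mem_of_quadratic (hp : p ≠ 2) {B : Subgroup L} [B.Normal]
    (hBO : B ≤ pCore p L) (hC : Subgroup.centralizer (B : Set L) ≤ pCore p L) {g k : L}
    (hg : ⁅⁅B, Subgroup.zpowers g⁆, Subgroup.zpowers g⁆ = ⊥) {m : ℕ} (hm : m.Coprime p)
    (hkm : k ^ m ∈ pCore p L) (hc : k * (g * k * g⁻¹) * k⁻¹ * (g * k * g⁻¹)⁻¹ ∈ pCore p L)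
    (hc' : k * (g⁻¹ * k * g) * k⁻¹ * (g⁻¹ * k * g)⁻¹ ∈ pCore p L) :
    g * k * g⁻¹ * k⁻¹ ∈ pCore p L := by
  have hprime : p.Prime := Fact.out
  set O := pCore p L with hO
  have hOn : O.Normal := model_core_normal
  have hOp : IsPGroup p O := CfsgLib.PCore.pCore_isPGroup
  set M := Subgroup.normalClosure {g * k * g⁻¹ * k⁻¹} with hM
  have hMn : M.Normal := by rw [hM]; infer_instance
  let Bi : ℕ → Subgroup L := fun i => Cfsg.iterCommutator B O i
  have hBin : ∀ i, (Bi i).Normal := by
    intro i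
    induction i with
    | zero => assumption
    | succ i ih => have := ih; exact Subgroup.commutator_normal (Bi i) O
  have hBiB : ∀ i, Bi i ≤ B := by
    intro i
    induction i with
    | zero => exact le_rfl
    | succ i ih => exact (Subgroup.commutator_mono ih le_rfl).trans (Subgroup.commutator_le_left B O)
  have hBilcs : ∀ i, Bi i ≤ (Subgroup.lowerCentralSeries O i) := by
    intro i
    induction i with
    | zero => exact hBO
    | succ i ih => exact Subgroup.commutator_mono ih le_rfl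
  obtain ⟨c, hc0⟩ : ∃ c, Subgroup.lowerCentralSeries O c = ⊥ := by
    have := hOp.isNilpotent
    exact ((Subgroup.isNilpotent_iff_lowerCentralSeries O).mp this)
  have key : ∀ j i, c ≤ i + j → ∀ y ∈ M, (orderOf y).Coprime p → ∀ b ∈ Bi i, y * b * y⁻¹ = b := by
    intro j
    induction j with
    | zero =>
      intro i hi y _ _ b hb
      have h1 : Bi i ≤ ⊥ := hc0 ▸ (hBilcs i).trans (Subgroup.lowerCentralSeries_antitone O (by simpa using hi))
      rw [Subgroup.mem_bot.mp (h1 hb)]
      group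
    | succ j ih =>
      intro i hi y hy hyo b hb
      have := hBin (i + 1)
      have := hBin i
      set π := QuotientGroup.mk' (Bi (i + 1)) with hπ
      set W := (Bi i).map π with hWdef
      have hWn : W.Normal := Subgroup.Normal.map inferInstance _ (QuotientGroup.mk'_surjective _)
      have hWc : IsMulCommutative W := ⟨⟨fun a b => Subtype.ext (by
        obtain ⟨_, a, ha, rfl⟩ := a
        obtain ⟨_, b, hb, rfl⟩ := b
        show π a * π b = π b * π a
        rw [← map_mul, ← map_mul]
        refine QuotientGroup.eq.mpr ?_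
        have h2 := Subgroup.commutator_mem_commutator ((Bi i).inv_mem hb) (O.inv_mem (hBO (hBiB i ha)))
        rw [commutatorElement_def] at h2
        rw [show (a * b)⁻¹ * (b * a) = b⁻¹ * a⁻¹ * b⁻¹⁻¹ * a⁻¹⁻¹ by group]
        exact h2)⟩⟩
      have hWp : IsPGroup p W := (hOp.to_le ((hBiB i).trans hBO)).map π
      let ρ : L →* MulAut W := MulAut.conjNormal.comp π
      have hρ : ∀ (l : L) (w : W), ((ρ l w : W) : L ⧸ Bi (i + 1)) = π l * w * (π l)⁻¹ := fun l w =>
        MulAut.conjNormal_apply _ _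
      have hOker : O ≤ ρ.ker := by
        intro o ho
        refine MonoidHom.mem_ker.mpr (MulEquiv.ext fun ⟨w, hw⟩ => Subtype.ext ?_)
        obtain ⟨b, hb, rfl⟩ := hw
        rw [hρ]
        show π o * π b * (π o)⁻¹ = π b
        rw [← map_inv, ← map_mul, ← map_mul]
        refine QuotientGroup.eq.mpr ?_
        have h2 := Subgroup.commutator_mem_commutator ((Bi i).inv_mem hb) ho
        have h3 : o * b⁻¹ * o⁻¹ * b ∈ Bi (i + 1) := by
          have h4 := (Bi (i + 1)).inv_mem h2
          rwa [commutatorElement_inv, commutatorElement_def, inv_inv] at h4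
        rw [show (o * b * o⁻¹)⁻¹ * b = o * b⁻¹ * o⁻¹ * b by group]
        exact h3
      have hcomm : Commute (ρ g) (ρ k) := by
        refine commute_of_quadratic hp hWp (fun w => ?_) hm ?_ ?_ ?_
        · obtain ⟨_, b, hb, rfl⟩ := w
          refine Subtype.ext ?_
          simp only [Subgroup.coe_mul, Subgroup.coe_inv, hρ, Subgroup.coe_one]
          simp only [← map_inv, ← map_mul]
          have h1 : g * b * g⁻¹ * b⁻¹ ∈ ⁅B, Subgroup.zpowers g⁆ := by
            have := Subgroup.inv_mem _ (Subgroup.commutator_mem_commutator (H₁ := B) (H₂ := Subgroup.zpowers g)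
              (hBiB i hb) (Subgroup.mem_zpowers g))
            rwa [commutatorElement_inv, commutatorElement_def] at this
          have h3 := Subgroup.commutator_mem_commutator h1 (Subgroup.mem_zpowers g)
          rw [hg, Subgroup.mem_bot, commutatorElement_eq_one_iff_mul_comm] at h3
          rw [show g * (g * b * g⁻¹ * b⁻¹) * g⁻¹ * (g * b * g⁻¹ * b⁻¹)⁻¹ =
            (g * b * g⁻¹ * b⁻¹ * g) * g⁻¹ * (g * b * g⁻¹ * b⁻¹)⁻¹ by rw [← h3]]
          simp
        · rw [← map_pow]; exact hOker hkm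
        · have h := hOker hc
          simp only [MonoidHom.mem_ker, map_mul, map_inv, mul_inv_eq_one, mul_inv_eq_iff_eq_mul] at h
          exact h
        · have h := hOker hc'
          simp only [MonoidHom.mem_ker, map_mul, map_inv, mul_inv_eq_one, mul_inv_eq_iff_eq_mul] at h
          exact h
      have hMker : M ≤ ρ.ker := by
        refine Subgroup.normalClosure_le_normal (Set.singleton_subset_iff.mpr (MonoidHom.mem_ker.mpr ?_))
        rw [map_mul, map_mul, map_mul, map_inv, map_inv, hcomm.eq]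
        group
      have hz : y * b * y⁻¹ * b⁻¹ ∈ Bi (i + 1) := by
        have h := congrArg (fun a => ((a ⟨π b, b, hb, rfl⟩ : W) : L ⧸ Bi (i + 1))) (MonoidHom.mem_ker.mp (hMker hy))
        simp only [hρ] at h
        have h1 : π (y * b * y⁻¹ * b⁻¹) = 1 := by
          rw [map_mul, map_mul, map_mul, map_inv, map_inv, h]
          exact mul_inv_cancel _
        exact (QuotientGroup.eq_one_iff _).mp h1
      set z := y * b * y⁻¹ * b⁻¹ with hzdef
      have hyz : y * z * y⁻¹ = z := ih (i + 1) (by omega) y hy hyo z hz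
      have hit : ∀ t : ℕ, y ^ t * b * (y ^ t)⁻¹ = z ^ t * b := by
        intro t
        induction t with
        | zero => simp
        | succ t iht =>
          calc y ^ (t + 1) * b * (y ^ (t + 1))⁻¹ = y * (y ^ t * b * (y ^ t)⁻¹) * y⁻¹ := by rw [pow_succ']; group
            _ = (y * z * y⁻¹) ^ t * (y * b * y⁻¹) := by rw [iht, conj_pow]; group
            _ = z ^ (t + 1) * b := by rw [hyz, pow_succ, mul_assoc, hzdef]; group
      have hzt : z ^ orderOf y = 1 := by
        have := hit (orderOf y)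
        rw [pow_orderOf_eq_one, one_mul, inv_one, mul_one] at this
        exact mul_eq_right.mp this.symm
      obtain ⟨t, ht⟩ := hOp ⟨z, hBO (hBiB _ hz)⟩
      have ht' : z ^ p ^ t = 1 := congrArg Subtype.val ht
      have h3 : orderOf z ∣ Nat.gcd (orderOf y) (p ^ t) :=
        Nat.dvd_gcd (orderOf_dvd_of_pow_eq_one hzt) (orderOf_dvd_of_pow_eq_one ht')
      rw [Nat.Coprime.pow_right t hyo, Nat.dvd_one, orderOf_eq_one_iff, hzdef, mul_inv_eq_one] at h3
      exact h3
  have hMp : IsPGroup p M := by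
    refine IsPGroup.of_card (n := (Nat.card M).primeFactorsList.length)
      (Nat.eq_prime_pow_of_unique_prime_dvd Nat.card_pos.ne' fun {q} hq hdvd => ?_)
    by_contra hqp
    have := Fact.mk hq
    obtain ⟨y, hy⟩ := exists_prime_orderOf_dvd_card' q hdvd
    have hyo : (orderOf (y : L)).Coprime p := by
      rw [Subgroup.orderOf_coe, hy]; exact (Nat.coprime_primes hq hprime).mpr hqp
    have hyC : (y : L) ∈ Subgroup.centralizer (B : Set L) := Subgroup.mem_centralizer_iff.mpr fun b hb => by
      have h := key c 0 (by simp) y y.2 hyo b hb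
      exact (mul_inv_eq_iff_eq_mul.mp h).symm
    obtain ⟨t, ht⟩ := hOp ⟨y, hC hyC⟩
    have h5 : q ∣ p ^ t := hy ▸ (Subgroup.orderOf_coe y ▸ orderOf_dvd_of_pow_eq_one (congrArg Subtype.val ht))
    exact hqp ((Nat.prime_dvd_prime_iff_eq hq hprime).mp (hq.dvd_of_dvd_pow h5))
  exact (show M ≤ O from le_sSup ⟨hMn, hMp⟩) (Subgroup.subset_normalClosure (Set.mem_singleton _))

/-- The structure: a quadratic element of the Sylow subgroup lies in `O_p`. -/
theorem mem_pCore_of_quadratic (hp : p ≠ 2) (T : Sylow p L)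
    (hc : Subgroup.centralizer ((pCore p L : Subgroup L) : Set L) ≤ pCore p L)
    (hmax : ∀ H : Subgroup L, (T : Subgroup L) ≤ H → H ≠ ⊤ → H = T) {B : Subgroup L} [B.Normal]
    (hBO : B ≤ pCore p L) (hC : Subgroup.centralizer (B : Set L) ≤ pCore p L) {g : L}
    (hgT : g ∈ (T : Subgroup L)) (hg : ⁅⁅B, Subgroup.zpowers g⁆, Subgroup.zpowers g⁆ = ⊥) :
    g ∈ pCore p L := by
  set O := pCore p L with hO
  have hOn : O.Normal := model_core_normal
  have hOp : IsPGroup p O := CfsgLib.PCore.pCore_isPGroup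
  have hOT : O ≤ T := CfsgLib.PCore.pCore_le_sylow T
  by_cases hTO : (T : Subgroup L) ≤ O
  · exact hTO hgT
  by_cases hTtop : (T : Subgroup L) = ⊤
  · exact (show (⊤ : Subgroup L) ≤ O from le_sSup ⟨inferInstance, hTtop ▸ T.2⟩) (Subgroup.mem_top g)
  set π := QuotientGroup.mk' O with hπ
  have hπs : Function.Surjective π := QuotientGroup.mk'_surjective O
  let Tb : Sylow p (L ⧸ O) := T.mapSurjective hπs
  have hTb : (Tb : Subgroup (L ⧸ O)) = (T : Subgroup L).map π := Sylow.coe_mapSurjective ..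
  have hcomap : (Tb : Subgroup (L ⧸ O)).comap π = T := by
    rw [hTb, Subgroup.comap_map_eq, hπ, QuotientGroup.ker_mk', sup_eq_left.mpr hOT]
  have hmaxb : ∀ H : Subgroup (L ⧸ O), (Tb : Subgroup (L ⧸ O)) ≤ H → H ≠ ⊤ → H = Tb := by
    intro H hH hne
    have h1 := hmax (H.comap π) (hcomap ▸ Subgroup.comap_mono hH)
      fun e => hne (Subgroup.comap_injective hπs (e.trans (Subgroup.comap_top π).symm))
    exact Subgroup.comap_injective hπs (h1.trans hcomap.symm)
  have hnop : ∀ N : Subgroup (L ⧸ O), N.Normal → IsPGroup p N → N = ⊥ := by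
    intro N hN hNp
    have h1 : N.comap π ≤ O := le_sSup ⟨hN.comap π, hNp.comap_of_ker_isPGroup π (by
      rw [hπ, QuotientGroup.ker_mk']; exact hOp)⟩
    rw [eq_bot_iff]
    intro y hy
    obtain ⟨l, rfl⟩ := hπs y
    exact Subgroup.mem_bot.mpr ((QuotientGroup.eq_one_iff l).mpr (h1 hy))
  have hTb1 : (Tb : Subgroup (L ⧸ O)) ≠ ⊥ := by
    intro e
    refine hTO fun t ht => (QuotientGroup.eq_one_iff t).mp ?_
    exact Subgroup.mem_bot.mp (e.le (hTb.ge ⟨t, ht, rfl⟩))
  -- the complement
  have hnpc : HasNormalPComplement p (L ⧸ O) := by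
    refine CfsgLib.Frobenius.ZJComp.hasNormalPComplement_of_centerThompsonAOf hp Tb ?_
    refine npc_of_le_sylow Tb (le_of_eq (hmaxb _ ?_ ?_))
    · rw [← charSub_zjW]
      exact Subgroup.le_normalizer.trans (charSub_le_normalizer (fun Q R _ _ _ _ => zjW_equiv Q R) Tb.2)
    · intro e
      have h1 := hnop _ (Subgroup.normalizer_eq_top_iff.mp e)
        (Tb.2.to_le (by rw [← charSub_zjW]; exact charSub_le _))
      rw [← charSub_zjW] at h1
      exact charSub_ne_bot (W := zjW) (fun Q _ _ => zjW_ne_bot Q) Tb.2 hTb1 h1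
  obtain ⟨P0, K, hKn, hKP0⟩ := hnpc
  have hKcop : (Nat.card K).Coprime p := by
    rw [← hKP0.index_eq_card]
    exact CfsgLib.PCore.coprime_of_not_dvd_card P0.not_dvd_index
  have hKT : K ⊓ (Tb : Subgroup (L ⧸ O)) = ⊥ := by
    rw [inf_comm]
    exact CfsgLib.PCore.inf_eq_bot_of_isPGroup_coprime Tb.2 hKcop
  have hKsup : K ⊔ (Tb : Subgroup (L ⧸ O)) = ⊤ := by
    by_contra hne
    have h1 := hmaxb _ le_sup_right hne
    have hK1 : K = ⊥ := le_bot_iff.mp (hKT ▸ le_inf le_rfl (le_sup_left.trans h1.le))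
    subst hK1
    have h2 : (P0 : Subgroup (L ⧸ O)) = ⊤ := Subgroup.isComplement'_bot_left.mp hKP0
    have h3 : IsPGroup p (⊤ : Subgroup (L ⧸ O)) := h2 ▸ P0.2
    refine hTtop ?_
    rw [← hcomap, ← Tb.is_maximal' h3 le_top, Subgroup.comap_top]
  have hinvK : ∀ X : Subgroup (L ⧸ O), X ≤ K → X ≠ ⊥ → (Tb : Subgroup (L ⧸ O)) ≤ Subgroup.normalizer (X : Set (L ⧸ O)) →
      K ≤ X := by
    intro X hXK hX hTX
    have h1 : X ⊔ (Tb : Subgroup (L ⧸ O)) = ⊤ := by
      by_contra hne
      have h2 := hmaxb _ le_sup_right hne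
      exact hX (le_bot_iff.mp (hKT ▸ le_inf hXK (le_sup_left.trans h2.le)))
    intro y hy
    have h2 : y ∈ ((X : Set (L ⧸ O)) * ((Tb : Subgroup (L ⧸ O)) : Set (L ⧸ O)) : Set (L ⧸ O)) := by
      rw [← Subgroup.coe_mul_of_right_le_normalizer_left _ _ hTX, h1]
      exact Subgroup.mem_top y
    obtain ⟨x, hx, s, hs, rfl⟩ := h2
    have hsK : s ∈ K := by
      have := K.mul_mem (K.inv_mem (hXK hx)) hy
      rwa [inv_mul_cancel_left] at this
    show x * s ∈ X
    rw [show s = 1 from Subgroup.mem_bot.mp (hKT.le ⟨hsK, hs⟩), mul_one]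
    exact hx
  have hKab : ∀ a ∈ K, ∀ b ∈ K, a * b = b * a := by
    by_cases hK1 : K = ⊥
    · subst hK1
      intro a ha b hb
      rw [Subgroup.mem_bot.mp ha, Subgroup.mem_bot.mp hb]
    have := (Subgroup.nontrivial_iff_ne_bot K).mpr hK1
    obtain ⟨q, hq, hqK⟩ := Nat.exists_prime_and_dvd (Finite.one_lt_card (α := K)).ne'
    have := Fact.mk hq
    obtain ⟨U⟩ := (inferInstance : Nonempty (Sylow q K))
    set U' := (U : Subgroup K).map K.subtype with hU'
    set H := Subgroup.normalizer (U' : Set (L ⧸ O)) with hH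
    have htop : H ⊔ K = ⊤ := Sylow.normalizer_sup_eq_top U
    have hidx : ¬ p ∣ H.index := by
      intro hd
      have h1 : H.index ∣ Nat.card K := by
        have h2 : H.relIndex K = H.index := by
          rw [← Subgroup.relIndex_top_right, ← htop, relIndex_sup_normal]
        rw [← h2]
        exact Subgroup.relIndex_dvd_card H K
      exact (Fact.out : p.Prime).ne_one (Nat.eq_one_of_dvd_coprimes hKcop.symm dvd_rfl (hd.trans h1))
    obtain ⟨R⟩ : Nonempty (Sylow p H) := inferInstance
    let T1 : Sylow p (L ⧸ O) := (R.2.map H.subtype).toSylow (by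
      rw [Subgroup.index_map_subtype]
      exact fun h => ((Fact.out : p.Prime).dvd_mul.mp h).elim R.not_dvd_index hidx)
    have hT1 : (T1 : Subgroup (L ⧸ O)) ≤ H := Subgroup.map_subtype_le _
    obtain ⟨c, hcT⟩ := MulAction.exists_smul_eq (L ⧸ O) T1 Tb
    set U'' := U'.map (MulAut.conj c).toMonoidHom with hU''
    have hU''K : U'' ≤ K := by
      rintro _ ⟨y, hy, rfl⟩
      exact hKn.conj_mem y (Subgroup.map_subtype_le _ hy) c
    have hU''n : (Tb : Subgroup (L ⧸ O)) ≤ Subgroup.normalizer (U'' : Set (L ⧸ O)) := by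
      intro s hs
      rw [← hcT, Sylow.coe_subgroup_smul] at hs
      obtain ⟨s', hs', rfl⟩ := hs
      refine mem_normalizer_of_forall fun y hy => ?_
      obtain ⟨w, hw, rfl⟩ := hy
      refine ⟨s' * w * s'⁻¹, (Subgroup.mem_normalizer_iff.mp (hT1 hs') w).mp hw, ?_⟩
      simp [mul_assoc]
    have hU1 : U'' ≠ ⊥ := fun e => (Sylow.ne_bot_of_dvd_card U hqK)
      ((Subgroup.map_eq_bot_iff_of_injective _ K.subtype_injective).mp
        ((Subgroup.map_eq_bot_iff_of_injective _ (MulAut.conj c).injective).mp e))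
    have hKq : IsPGroup q K := ((U.2.map K.subtype).map (MulAut.conj c).toMonoidHom).to_le (hinvK _ hU''K hU1 hU''n)
    have hZ := hKq.bot_lt_center
    set Zk := (Subgroup.center K).map K.subtype with hZk
    have : Zk.Normal := by rw [hZk]; infer_instance
    have hKZ : K ≤ Zk := hinvK Zk (Subgroup.map_subtype_le _)
      (fun e => hZ.ne' ((Subgroup.map_eq_bot_iff_of_injective _ K.subtype_injective).mp e))
      (by rw [Subgroup.normalizer_eq_top]; exact le_top)
    intro a ha b hb
    exact ((center_map_mem.mp (hKZ hb)).2 a ha)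
  -- `π g` centralizes the complement
  have hgc : ∀ y ∈ K, π g * y = y * π g := by
    intro y hy
    obtain ⟨k, rfl⟩ := hπs y
    have hm : (π k) ^ Nat.card K = 1 := by
      have := pow_card_eq_one' (x := (⟨π k, hy⟩ : K))
      exact congrArg Subtype.val this
    have hcj : ∀ a : L, k * (a * k * a⁻¹) * k⁻¹ * (a * k * a⁻¹)⁻¹ ∈ O := fun a => by
      refine (QuotientGroup.eq_one_iff _).mp ?_
      show π _ = 1
      have hak : π (a * k * a⁻¹) ∈ K := by
        rw [map_mul, map_mul, map_inv]; exact hKn.conj_mem _ hy _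
      rw [map_mul, map_mul, map_mul, map_inv, map_inv, hKab _ hy _ hak]
      group
    have h := commutator_mem_of_quadratic hp hBO hC hg hKcop
      ((QuotientGroup.eq_one_iff _).mp (show π (k ^ _) = 1 by rw [map_pow]; exact hm)) (hcj g)
      (by simpa using hcj g⁻¹)
    have h1 : π (g * k * g⁻¹ * k⁻¹) = 1 := (QuotientGroup.eq_one_iff _).mpr h
    rw [map_mul, map_mul, map_mul, map_inv, map_inv, mul_inv_eq_one, mul_inv_eq_iff_eq_mul] at h1
    exact h1
  set N := (Tb : Subgroup (L ⧸ O)) ⊓ Subgroup.centralizer (K : Set (L ⧸ O)) with hN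
  have hNn : N.Normal := by
    rw [← Subgroup.normalizer_eq_top_iff, eq_top_iff, ← hKsup, sup_le_iff]
    constructor
    · refine le_trans (b := Subgroup.centralizer (N : Set (L ⧸ O))) (fun y hy => ?_)
        (Subgroup.centralizer_le_normalizer _)
      exact Subgroup.mem_centralizer_iff.mpr fun n hn => (Subgroup.mem_centralizer_iff.mp hn.2 y hy).symm
    · intro s hs
      refine mem_normalizer_of_forall fun n hn => ⟨Subgroup.mul_mem _ (Subgroup.mul_mem _ hs hn.1)
        (Subgroup.inv_mem _ hs), Subgroup.mem_centralizer_iff.mpr fun y hy => ?_⟩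
      have h1 := Subgroup.mem_centralizer_iff.mp hn.2 _ (hKn.conj_mem y hy s⁻¹)
      calc y * (s * n * s⁻¹) = s * (s⁻¹ * y * s⁻¹⁻¹ * n) * s⁻¹ := by group
        _ = s * (n * (s⁻¹ * y * s⁻¹⁻¹)) * s⁻¹ := by rw [h1]
        _ = s * n * s⁻¹ * y := by group
  have h1 := hnop N hNn (Tb.2.to_le inf_le_left)
  refine (QuotientGroup.eq_one_iff g).mp (Subgroup.mem_bot.mp (h1.le ⟨hTb.ge ⟨g, hgT, rfl⟩,
    Subgroup.mem_centralizer_iff.mpr fun y hy => (hgc y hy).symm⟩))

end CfsgLib.Fusion.Family
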