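import Cfsg.Agent.Lib.Fusion.FunctorFix
import Cfsg.Agent.Lib.Fusion.Ext

/-!
# Weak closure of central elements: the group step and the centres
-/

namespace CfsgLib.Fusion

open Cfsg Cfsg.FusionSystem
open scoped commutatorElement

universe u

section Group

variable {G : Type u} [Group G] [Finite G] {p : ℕ} [Fact p.Prime]

/-- An element acting quadratically on an abelian normal subgroup, with `p`-th power acting trivially,
fixes all `p`-th powers. -/
theorem fix_pow_of_quadratic {V : Subgroup G} [V.Normal] (hV : ∀ a ∈ V, ∀ b ∈ V, a * b = b * a) {g : G}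
    (hq : ⁅⁅V, Subgroup.zpowers g⁆, Subgroup.zpowers g⁆ = ⊥) (hgp : ∀ v ∈ V, g ^ p * v = v * g ^ p)
    {v : G} (hv : v ∈ V) : g * v ^ p = v ^ p * g := by
  obtain ⟨c, hc⟩ : ∃ c, c = g * v * g⁻¹ * v⁻¹ := ⟨_, rfl⟩
  have hcV : c ∈ V := hc ▸ V.mul_mem (Subgroup.Normal.conj_mem inferInstance v hv g) (V.inv_mem hv)
  have hcm : c ∈ ⁅V, Subgroup.zpowers g⁆ := by
    rw [hc, show g * v * g⁻¹ * v⁻¹ = ⁅v, g⁆⁻¹ by rw [commutatorElement_def]; group]
    exact Subgroup.inv_mem _ (Subgroup.commutator_mem_commutator hv (Subgroup.mem_zpowers g))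
  have hcg : c * g = g * c := by
    have h := Subgroup.commutator_mem_commutator hcm (Subgroup.mem_zpowers g)
    rw [hq, Subgroup.mem_bot, commutatorElement_eq_one_iff_mul_comm] at h
    exact h
  have hpow : ∀ j : ℕ, g ^ j * v * (g ^ j)⁻¹ = c ^ j * v := by
    intro j
    induction j with
    | zero => simp
    | succ j ih =>
      have h1 : g ^ (j + 1) * v * (g ^ (j + 1))⁻¹ = g * (g ^ j * v * (g ^ j)⁻¹) * g⁻¹ := by
        rw [pow_succ']; group
      have h2 : g * c ^ j = c ^ j * g := (Commute.pow_left (show Commute c g from hcg) j).symm.eq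
      rw [h1, ih, ← mul_assoc g (c ^ j) v, h2, pow_succ, hc]
      group
  have hcp : c ^ p = 1 := by
    have h := hpow p
    rw [hgp v hv, mul_inv_cancel_right] at h
    exact mul_eq_right.mp h.symm
  have h1 : g * v * g⁻¹ = c * v := by rw [hc]; group
  have h2 : g * v ^ p * g⁻¹ = v ^ p := by
    rw [← conj_pow, h1, (show Commute c v from hV c hcV v hv).mul_pow, hcp, one_mul]
  exact mul_inv_eq_iff_eq_mul.mp h2

/-- The group step for `p`-th powers of central elements. -/
theorem pow_central_of_quadratic {W : ∀ (Q : Type u) [Group Q], Subgroup Q}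
    (hW2 : ∀ (Q R : Type u) [Group Q] [Group R] [Finite Q], IsPGroup p Q → ∀ φ : Q ≃* R,
      (W Q).map φ.toMonoidHom = W R)
    (hq : ∀ (G : Type u) [Group G] [Finite G] (P : Sylow p G),
      Subgroup.centralizer ((pCore p G : Subgroup G) : Set G) ≤ pCore p G → ¬ (charSub W (P : Subgroup G)).Normal → ∃ g : G, g ∈ (P : Subgroup G) ∧ g ∉ pCore p G ∧
        ⁅⁅Subgroup.center ↥(pCore p G) |>.map (pCore p G).subtype, Subgroup.zpowers g⁆, Subgroup.zpowers g⁆ = ⊥)
    (T : Sylow p G) (hc : Subgroup.centralizer ((pCore p G : Subgroup G) : Set G) ≤ pCore p G)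
    {y : G} (hy : y ∈ (T : Subgroup G)) (hyc : ∀ t ∈ (T : Subgroup G), t * y = y * t)
    (hN : ∀ h ∈ Subgroup.normalizer (charSub W (T : Subgroup G) : Set G), h * y ^ p = y ^ p * h) :
    ∀ l : G, l * y ^ p = y ^ p * l := by
  suffices H : ∀ (n : ℕ) (G : Type u) [Group G] [Finite G] (T : Sylow p G), Nat.card G < n →
      Subgroup.centralizer ((pCore p G : Subgroup G) : Set G) ≤ pCore p G →
      ∀ y ∈ (T : Subgroup G), (∀ t ∈ (T : Subgroup G), t * y = y * t) →
      (∀ h ∈ Subgroup.normalizer (charSub W (T : Subgroup G) : Set G), h * y ^ p = y ^ p * h) →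
      ∀ l : G, l * y ^ p = y ^ p * l from H _ G T (Nat.lt_succ_self _) hc y hy hyc hN
  intro n
  induction n with
  | zero => intro G _ _ T h; omega
  | succ n ih =>
    intro G _ _ T hn hc y hy hyc hN
    by_cases hnorm : (charSub W (T : Subgroup G)).Normal
    · intro l
      exact hN l (by rw [Subgroup.normalizer_eq_top]; exact Subgroup.mem_top l)
    classical
    obtain ⟨g, hgT, hgO, hgq⟩ := hq G T hc hnorm
    have hOn : (pCore p G).Normal := model_core_normal
    have hex : ∃ j, g ^ p ^ j ∈ pCore p G := by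
      obtain ⟨j, hj⟩ := T.isPGroup' ⟨g, hgT⟩
      exact ⟨j, (show g ^ p ^ j = 1 from congrArg Subtype.val hj) ▸ one_mem _⟩
    obtain ⟨i, hi⟩ : ∃ i, Nat.find hex = i + 1 :=
      Nat.exists_eq_succ_of_ne_zero fun h0 => hgO (by simpa [h0] using Nat.find_spec hex)
    obtain ⟨g₁, hg₁⟩ : ∃ g₁, g₁ = g ^ p ^ i := ⟨_, rfl⟩
    have hg₁O : g₁ ∉ pCore p G := hg₁ ▸ Nat.find_min hex (by omega)
    have hg₁p : g₁ ^ p ∈ pCore p G := by
      rw [hg₁, ← pow_mul, ← pow_succ, ← hi]; exact Nat.find_spec hex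
    obtain ⟨V, hV⟩ : ∃ V, V = (Subgroup.center ↥(pCore p G)).map (pCore p G).subtype := ⟨_, rfl⟩
    have hVn : V.Normal := hV ▸ inferInstance
    have hVc : ∀ v ∈ V, ∀ a ∈ pCore p G, a * v = v * a := by
      rw [hV]
      rintro _ ⟨v, hv, rfl⟩ a ha
      exact congrArg Subtype.val (Subgroup.mem_center_iff.mp hv ⟨a, ha⟩)
    have hVle : V ≤ pCore p G := hV ▸ Subgroup.map_subtype_le _
    have hq₁ : ⁅⁅V, Subgroup.zpowers g₁⁆, Subgroup.zpowers g₁⁆ = ⊥ := by
      have hle : Subgroup.zpowers g₁ ≤ Subgroup.zpowers g :=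
        Subgroup.zpowers_le.mpr (hg₁ ▸ pow_mem (Subgroup.mem_zpowers g) _)
      rw [eq_bot_iff, ← hgq, ← hV]
      exact Subgroup.commutator_mono (Subgroup.commutator_mono le_rfl hle) hle
    obtain ⟨D, hD⟩ : ∃ D, D = Subgroup.centralizer {w : G | ∃ v ∈ V, w = v ^ p} := ⟨_, rfl⟩
    have hgD : g₁ ∈ D := by
      rw [hD, Subgroup.mem_centralizer_iff]
      rintro _ ⟨v, hv, rfl⟩
      exact (fix_pow_of_quadratic (fun a ha b hb => hVc b hb a (hVle ha)) hq₁
        (fun v hv => hVc v hv _ hg₁p) hv).symm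
    have hDn : D.Normal := by
      refine ⟨fun d hd l => ?_⟩
      rw [hD, Subgroup.mem_centralizer_iff] at hd ⊢
      rintro _ ⟨v, hv, rfl⟩
      have h := hd _ ⟨l⁻¹ * v * l⁻¹⁻¹, hVn.conj_mem v hv l⁻¹, rfl⟩
      rw [conj_pow, inv_inv] at h
      calc v ^ p * (l * d * l⁻¹) = l * (l⁻¹ * v ^ p * l * d) * l⁻¹ := by group
        _ = l * (d * (l⁻¹ * v ^ p * l)) * l⁻¹ := by rw [h]
        _ = _ := by group
    have hTO : pCore p G ≤ (T : Subgroup G) := CfsgLib.PCore.pCore_le_sylow T
    have hyV : y ∈ V := by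
      have hyO : y ∈ pCore p G := hc (Subgroup.mem_centralizer_iff.mpr fun a ha => hyc a (hTO ha))
      rw [hV]
      exact ⟨⟨y, hyO⟩, Subgroup.mem_center_iff.mpr fun a => Subtype.ext (hyc a (hTO a.2)), rfl⟩
    have hDz : ∀ d ∈ D, d * y ^ p = y ^ p * d := fun d hd => by
      rw [hD, Subgroup.mem_centralizer_iff] at hd
      exact (hd _ ⟨y, hyV, rfl⟩).symm
    let P : Sylow p D := (T.isPGroup'.comap_of_injective D.subtype D.subtype_injective).toSylow (by
      show ¬ p ∣ (T : Subgroup G).relIndex D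
      rw [← relIndex_sup_normal]
      intro hdvd
      refine T.not_dvd_index (hdvd.trans ?_)
      rw [← Subgroup.relIndex_mul_index (le_sup_left : (T : Subgroup G) ≤ (T : Subgroup G) ⊔ D)]
      exact dvd_mul_right _ _)
    have hfr := Sylow.normalizer_sup_eq_top P
    obtain ⟨H, hH⟩ : ∃ H, H = Subgroup.normalizer (((P : Subgroup D).map D.subtype : Subgroup G) : Set G) :=
      ⟨_, rfl⟩
    have hPmap : (P : Subgroup D).map D.subtype = D ⊓ (T : Subgroup G) := by
      show ((T : Subgroup G).comap D.subtype).map D.subtype = _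
      rw [Subgroup.map_comap_eq, Subgroup.range_subtype]
    have hTH : (T : Subgroup G) ≤ H := by
      intro t ht
      rw [hH, hPmap]
      refine mem_normalizer_of_forall fun x hx => ⟨hDn.conj_mem x hx.1 t, ?_⟩
      exact Subgroup.mul_mem _ (Subgroup.mul_mem _ ht hx.2) (Subgroup.inv_mem _ ht)
    have hHne : H ≠ ⊤ := by
      intro e
      rw [hH, hPmap, Subgroup.normalizer_eq_top_iff] at e
      exact hg₁O (CfsgLib.PCore.le_pCore e (T.isPGroup'.to_le inf_le_right) ⟨hgD, hg₁ ▸ pow_mem hgT _⟩)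
    have hHlt : Nat.card H < n := by
      have : Nat.card H < Nat.card G := by
        refine lt_of_le_of_ne (Subgroup.card_le_card_group _) fun h => hHne ?_
        exact Subgroup.eq_top_of_card_eq _ h
      omega
    obtain ⟨TH, hTHd⟩ : ∃ TH : Sylow p H, (TH : Subgroup H) = (T : Subgroup G).subgroupOf H :=
      ⟨T.subtype hTH, Sylow.coe_subtype T hTH⟩
    have hTHmap : (TH : Subgroup H).map H.subtype = (T : Subgroup G) := by
      rw [hTHd, Subgroup.map_subgroupOf_eq_of_le hTH]
    have hHc : Subgroup.centralizer ((pCore p H : Subgroup H) : Set H) ≤ pCore p H := by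
      have hle : (pCore p G).subgroupOf H ≤ pCore p H :=
        CfsgLib.PCore.le_pCore (hOn.subgroupOf H)
          (CfsgLib.PCore.isPGroup_comap_of_injective CfsgLib.PCore.pCore_isPGroup H.subtype H.subtype_injective)
      intro h hh
      refine hle (hc (Subgroup.mem_centralizer_iff.mpr fun a ha => ?_))
      exact congrArg Subtype.val (Subgroup.mem_centralizer_iff.mp hh ⟨a, hTH (hTO ha)⟩ (hle ha))
    have hX : (charSub W (TH : Subgroup H)).map H.subtype = charSub W (T : Subgroup G) := by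
      have h := charSub_map hW2 TH.isPGroup' (H.subtype.comp (TH : Subgroup H).subtype)
        (H.subtype_injective.comp (TH : Subgroup H).subtype_injective)
      rw [MonoidHom.range_comp, Subgroup.range_subtype, hTHmap, ← Subgroup.map_map,
        Subgroup.map_subgroupOf_eq_of_le (charSub_le _)] at h
      exact h
    have hih := ih H TH hHlt hHc ⟨y, hTH hy⟩ (by rw [hTHd]; exact hy)
      (fun t ht => Subtype.ext (hyc t (hTHd.le ht))) (fun h hh => by
        refine Subtype.ext (hN h ?_)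
        rw [← hX]
        exact Subgroup.le_normalizer_map H.subtype ⟨h, hh, rfl⟩)
    have htop : H ⊔ D ≤ Subgroup.centralizer {y ^ p} := by
      refine sup_le (fun h hh => ?_) (fun d hd => ?_)
      · rw [Subgroup.mem_centralizer_singleton_iff]
        exact congrArg Subtype.val (hih ⟨h, hh⟩)
      · rw [Subgroup.mem_centralizer_singleton_iff]
        exact hDz d hd
    rw [hH, hfr] at htop
    intro l
    exact Subgroup.mem_centralizer_singleton_iff.mp (htop (Subgroup.mem_top l))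

end Group

variable {Ω : Type u} [Group Ω] {S : Subgroup Ω} [Finite S] {F : FusionSystem S} {p : ℕ} [Fact p.Prime]

omit [Fact p.Prime] in
/-- The centre of `F` is central in every normalizer system of a subgroup normalized by `S`. -/
theorem center_le_normalizerSystem {X : Subgroup Ω} (hX : X ≤ S) (hXn : S ≤ Subgroup.normalizer (X : Set Ω))
    {N : FusionSystem (normalizerIn S X)} (hN : F.IsNormalizerSystem X N) : F.center ≤ N.center := by
  obtain ⟨hZS, hZ⟩ := CfsgLib.FusionExt.isCentral_center F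
  have hSn : S ≤ normalizerIn S X := le_inf le_rfl hXn
  refine le_sSup (show N.IsCentral F.center from ⟨hZS.trans hSn, fun P φ hφ => ?_⟩)
  obtain ⟨-, hP, -, χ, hχ, hχe, hχX⟩ := (hN P).le hφ
  obtain ⟨ρ, hρ, hρe, hρZ⟩ := hZ _ χ hχ
  have hle : P ⊔ F.center ≤ P ⊔ X ⊔ F.center := sup_le_sup_right le_sup_left _
  have hρN : ρ ∈ N.Hom (P ⊔ X ⊔ F.center) :=
    (hN _).ge (mem_normalizerHom hρ (le_sup_right.trans le_sup_left)
      (sup_le (sup_le hP (le_normalizerIn hX)) (hZS.trans hSn)) fun x hx => by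
        rw [apply_eq_of_coe_eq (φ := ρ) (x := x)
          (y := Subgroup.inclusion le_sup_left ⟨(x : Ω), Subgroup.mem_sup_right hx⟩) rfl, hρe]
        exact hχX.le ⟨_, hx, rfl⟩)
  exact ⟨_, restrict_mem hle hρN, fun x => (hρe ⟨x, Subgroup.mem_sup_left x.2⟩).trans (hχe x),
    fun x => hρZ x⟩

/-- Elements of the centre of a normalizer system of a subgroup normalized by `S` are central in `S`, and
fixed by the maps normalizing the subgroup. -/
theorem center_normalizerSystem_spec {X : Subgroup Ω} (hXn : S ≤ Subgroup.normalizer (X : Set Ω))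
    {N : FusionSystem (normalizerIn S X)} (hN : F.IsNormalizerSystem X N) {y : Ω} (hy : y ∈ N.center) :
    y ∈ S ∧ (∀ s ∈ S, s * y = y * s) ∧
      ∀ (m : ℕ) P φ, φ ∈ F.normalizerHom X P → φ ∈ extHom F (Subgroup.zpowers (y ^ m)) ⊥ S P := by
  have hSn : S ≤ normalizerIn S X := le_inf le_rfl hXn
  have := finite_of_le (normalizerIn_le (S := S) (P := X))
  obtain ⟨hZS, hZ⟩ := CfsgLib.FusionExt.isCentral_center N
  refine ⟨normalizerIn_le (hZS hy), fun s hs => ?_, fun m P φ hφ => ?_⟩
  · obtain ⟨ψ, hψ, hψe, hψZ⟩ := hZ S _ (N.conj_mem hSn (hSn hs))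
    have h1 := hψe ⟨y, normalizerIn_le (hZS hy)⟩
    have h2 := hψZ ⟨y, hy⟩
    have h3 : s * y * s⁻¹ = y := h1.symm.trans ((apply_eq_of_coe_eq rfl).trans h2)
    exact mul_inv_eq_iff_eq_mul.mp h3
  · obtain ⟨ψ, hψ, hψe, hψZ⟩ := hZ P φ ((hN P).ge hφ)
    exact mem_centralHom_of_ext ((hN _).le hψ).1 le_sup_left (fun x => hψe x)
      (Subgroup.mem_sup_right (pow_mem hy m)) (hψZ ⟨y ^ m, pow_mem hy m⟩)

end CfsgLib.Fusion
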