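import Cfsg.Agent.Lib.Fusion.FunctorFocal
import Cfsg.Agent.Lib.FusionNormal.Alperin
import Cfsg.Agent.Lib.FusionNormal.ZJCriterion
import Cfsg.Agent.Lib.Techniques.KInfControl

/-!
# Proper focal subgroups for `p ≥ 5`

If `N_G(P)` induces a `p`-group on `P ≠ 1` and `p ≥ 5`, then `P` is not in `G'`; the same for fusion
systems, by transfer control of the lower K-infinity subgroup.
-/

set_option autoImplicit false
set_option linter.unusedSectionVars false

namespace CfsgLib.Fusion.FocalProper

open Cfsg Cfsg.FusionSystem CfsgLib.Fusion Subgroup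
open scoped commutatorElement

universe u

variable {p : ℕ} [Fact p.Prime]

/-- An element of order prime to `p` is a power of each of its `p`-power powers. -/
theorem mem_zpowers_pow {G : Type*} [Group G] [Finite G] {x : G} (hx : (orderOf x).Coprime p)
    (a : ℕ) : x ∈ zpowers (x ^ p ^ a) := by
  obtain ⟨m, hm⟩ := exists_pow_eq_self_of_coprime (x := x) (n := p ^ a) (hx.symm.pow_left a)
  exact mem_zpowers_iff.2 ⟨(m : ℤ), by rw [zpow_natCast, hm]⟩

/-- For `p ≥ 5`, a nontrivial Sylow subgroup whose normalizer induces a `p`-group on it is not contained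
in the commutator subgroup. -/
theorem sylow_not_le_commutator (hp5 : 5 ≤ p) : ∀ n : ℕ, ∀ (L : Type u) [Group L] [Finite L],
    Nat.card L = n → ∀ T : Sylow p L, (T : Subgroup L) ≠ ⊥ →
    (∀ x ∈ normalizer ((T : Subgroup L) : Set L), (orderOf x).Coprime p →
      x ∈ centralizer ((T : Subgroup L) : Set L)) →
    ¬ (T : Subgroup L) ≤ _root_.commutator L := by
  intro n
  induction n using Nat.strong_induction_on with
  | _ n ih =>
    intro L _ _ hn T hT1 hcen hle
    set W := inducedFunctor (G := L) (@Cfsg.kInfLower.{u}) (T : Subgroup L) with hW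
    set M := normalizer (W : Set L) with hM
    have htc := (CfsgLib.Techniques.KInf.IsKInf.transCtrl (W := @Cfsg.kInfLower.{u}) (p := p) (Or.inl rfl)
      hp5 L CfsgLib.Techniques.Fusion.IsSectionOf.refl T)
    have hTM : (T : Subgroup L) ≤ ⁅M, M⁆ := by
      refine (le_inf le_rfl hle).trans (htc.trans ?_)
      refine iSup₂_le fun K hK => ?_
      obtain ⟨V, hV, rfl⟩ := hK
      obtain rfl := hV
      exact inf_le_right
    have hMn : (T : Subgroup L) ≤ M := hTM.trans (commutator_le_self M)
    have hWT : W ≤ (T : Subgroup L) := map_subtype_le _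
    by_cases hMtop : M = ⊤
    · have hWn : W.Normal := normalizer_eq_top_iff.1 hMtop
      have hW1 : W ≠ ⊥ := fun e =>
        have := (Subgroup.nontrivial_iff_ne_bot (T : Subgroup L)).mpr hT1
        CfsgLib.Techniques.KInf.kInfLower_ne_bot T.isPGroup'
          ((map_eq_bot_iff_of_injective _ (T : Subgroup L).subtype_injective).mp e)
      by_cases hWT' : W = (T : Subgroup L)
      · -- the Sylow subgroup is normal
        have hTn : (T : Subgroup L).Normal := hWT' ▸ hWn
        obtain ⟨K, hK⟩ := exists_right_complement'_of_coprime T.card_coprime_index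
        have hKc : ∀ k ∈ K, ∀ t ∈ (T : Subgroup L), t * k = k * t := by
          intro k hk
          have hcop : (orderOf k).Coprime p := by
            have h2 : ¬ p ∣ Nat.card K := by rw [← hK.symm.index_eq_card]; exact T.not_dvd_index
            exact (CfsgLib.PCore.coprime_of_not_dvd_card h2).coprime_dvd_left
              (Subgroup.orderOf_dvd_natCard _ hk)
          exact mem_centralizer_iff.1 (hcen k (normalizer_eq_top_iff.2 hTn ▸ mem_top k) hcop)
        have hKn : K.Normal := by
          refine ⟨fun k hk g => ?_⟩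
          obtain ⟨⟨t, k'⟩, rfl⟩ := hK.2 g
          show (t : L) * k' * k * ((t : L) * k')⁻¹ ∈ K
          have h1 : (k' : L) * k * (k' : L)⁻¹ ∈ K := mul_mem (mul_mem k'.2 hk) (K.inv_mem k'.2)
          have e : (t : L) * k' * k * ((t : L) * k')⁻¹ = (t : L) * ((k' : L) * k * (k' : L)⁻¹) * (t : L)⁻¹ := by
            group
          rw [e, hKc _ h1 _ t.2, mul_inv_cancel_right]
          exact h1
        have hqp : IsPGroup p (L ⧸ K) := by
          obtain ⟨k, hk⟩ := IsPGroup.iff_card.mp T.isPGroup'
          exact IsPGroup.of_card (n := k) (by rw [← Subgroup.index_eq_card, hK.index_eq_card, hk])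
        have : Nontrivial (L ⧸ K) := by
          refine Finite.one_lt_card_iff_nontrivial.1 ?_
          rw [← Subgroup.index_eq_card, hK.index_eq_card]
          exact Finite.one_lt_card_iff_nontrivial.2 ((Subgroup.nontrivial_iff_ne_bot _).mpr hT1)
        have : Group.IsNilpotent (L ⧸ K) := hqp.isNilpotent
        refine (Group.IsSolvable.commutator_lt_top_of_nontrivial (L ⧸ K)).ne ?_
        rw [eq_top_iff]
        intro y _
        obtain ⟨g, rfl⟩ := QuotientGroup.mk'_surjective K y
        obtain ⟨⟨t, k⟩, rfl⟩ := hK.2 g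
        have hk : QuotientGroup.mk' K (k : L) = 1 := (QuotientGroup.eq_one_iff _).2 k.2
        show QuotientGroup.mk' K ((t : L) * k) ∈ _root_.commutator (L ⧸ K)
        rw [map_mul, hk, mul_one, _root_.commutator_def,
          ← map_top_of_surjective (QuotientGroup.mk' K) (QuotientGroup.mk'_surjective K), ← map_commutator]
        exact mem_map_of_mem _ (hle t.2)
      · -- pass to the quotient by `W`
        have hlt : Nat.card (L ⧸ W) < n := by
          have h1 := W.card_eq_card_quotient_mul_card_subgroup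
          have h2 : 1 < Nat.card W := (Subgroup.one_lt_card_iff_ne_bot W).2 hW1
          have h3 : 0 < Nat.card (L ⧸ W) := Nat.card_pos
          rw [← hn, h1]
          exact lt_mul_of_one_lt_right h3 h2
        set q := QuotientGroup.mk' W with hq
        have hqs : Function.Surjective q := QuotientGroup.mk'_surjective W
        set T' := T.mapSurjective hqs with hT'
        have hT'e : (T' : Subgroup (L ⧸ W)) = (T : Subgroup L).map q := rfl
        refine ih _ hlt (L ⧸ W) rfl T' ?_ ?_ ?_
        · rw [hT'e]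
          intro h
          rw [Subgroup.map_eq_bot_iff, QuotientGroup.ker_mk'] at h
          exact hWT' (le_antisymm hWT h)
        · intro y hy hyc
          obtain ⟨x, rfl⟩ := hqs y
          have hxN : x ∈ normalizer ((T : Subgroup L) : Set L) := by
            refine mem_normalizer_fintype fun t ht => ?_
            rw [SetLike.mem_coe] at ht ⊢
            have h1 := (mem_normalizer_iff.1 hy (q t)).1 (hT'e ▸ mem_map_of_mem q ht)
            rw [hT'e, ← map_inv, ← map_mul, ← map_mul] at h1
            obtain ⟨s, hs, hse⟩ := h1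
            have h2 : s⁻¹ * (x * t * x⁻¹) ∈ W := by
              rw [← QuotientGroup.eq_one_iff]
              show q _ = 1
              rw [map_mul, map_inv, hse, inv_mul_cancel]
            have h3 := (T : Subgroup L).mul_mem hs (hWT h2)
            rwa [mul_inv_cancel_left] at h3
          obtain ⟨a, m, hm, hord⟩ :=
            Nat.exists_eq_pow_mul_and_not_dvd (orderOf_pos x).ne' p (Fact.out : p.Prime).ne_one
          have hxa : (orderOf (x ^ p ^ a)).Coprime p := by
            rw [orderOf_pow, hord, Nat.gcd_eq_right (dvd_mul_right _ _),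
              Nat.mul_div_cancel_left _ (pow_pos (Fact.out : p.Prime).pos a)]
            exact ((Fact.out : p.Prime).coprime_iff_not_dvd.2 hm).symm
          have hc := hcen _ (pow_mem hxN (p ^ a)) hxa
          have hle' : zpowers (q x ^ p ^ a) ≤ centralizer ((T' : Subgroup (L ⧸ W)) : Set (L ⧸ W)) := by
            rw [zpowers_le, ← map_pow, mem_centralizer_iff, hT'e]
            rintro _ ⟨t, ht, rfl⟩
            rw [← map_mul, ← map_mul, mem_centralizer_iff.1 hc t ht]
          exact hle' (mem_zpowers_pow hyc a)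
        · rw [hT'e, _root_.commutator_def, ← map_top_of_surjective q hqs, ← map_commutator]
          exact Subgroup.map_mono hle
    · -- pass to the normalizer of `W`
      have hlt : Nat.card M < n := hn ▸ lt_of_le_of_ne (card_le_card_group M) fun he =>
        hMtop (M.eq_top_of_card_eq he)
      refine ih _ hlt M rfl (T.subtype hMn) ?_ ?_ ?_
      · intro h
        rw [Sylow.coe_subtype, subgroupOf_eq_bot, disjoint_iff, inf_eq_left.2 hMn] at h
        exact hT1 h
      · intro x hx hxc
        rw [Sylow.coe_subtype] at hx ⊢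
        have hxN : (x : L) ∈ normalizer ((T : Subgroup L) : Set L) := by
          refine mem_normalizer_fintype fun t ht => ?_
          exact mem_subgroupOf.1 ((mem_normalizer_iff.1 hx ⟨t, hMn ht⟩).1 (mem_subgroupOf.2 ht))
        have h1 := hcen (x : L) hxN (by rwa [Subgroup.orderOf_coe])
        rw [mem_centralizer_iff]
        intro t ht
        exact Subtype.ext (mem_centralizer_iff.1 h1 (t : L) ht)
      · rw [Sylow.coe_subtype, ← map_le_map_iff_of_injective M.subtype_injective,
          map_subgroupOf_eq_of_le hMn, _root_.commutator_def, map_commutator, ← MonoidHom.range_eq_map,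
          range_subtype]
        exact hTM

variable {Ω : Type u} [Group Ω] {S : Subgroup Ω} [Finite S]

/-- For `p ≥ 5`, a system whose automizer of `S ≠ 1` is a `p`-group has a proper focal subgroup. -/
theorem focal_lt (hp5 : 5 ≤ p) (hS : IsPGroup p S) (F : FusionSystem S) (hF : F.IsSaturated p)
    (hS1 : S ≠ ⊥) (haut : IsPGroup p ↥(F.autGroup S)) : F.focalSubgroup < S := by
  have hW2' : ∀ (Q R : Type u) [Group Q] [Group R] [Finite Q], IsPGroup p Q → ∀ φ : Q ≃* R,
      (Cfsg.kInfLower Q).map φ.toMonoidHom = Cfsg.kInfLower R :=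
    fun Q R _ _ _ _ φ => CfsgLib.Techniques.KInf.map_kInfLower_equiv φ
  have hW1' : ∀ (Q : Type u) [Group Q] [Finite Q], IsPGroup p Q → Nontrivial Q → Cfsg.kInfLower Q ≠ ⊥ :=
    fun Q _ _ hQ _ => CfsgLib.Techniques.KInf.kInfLower_ne_bot hQ
  set W := charSub (@Cfsg.kInfLower.{u}) S with hW
  have hWS : W ≤ S := charSub_le _
  have hWn : S ≤ normalizer (W : Set Ω) := le_normalizer.trans (charSub_le_normalizer hW2' hS)
  have hWfn : F.IsFullyNormalized W := CfsgLib.FusionNormal.isFullyNormalized_of_normal hWS hWn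
  have hWc : F.IsCentric W := CfsgLib.FusionNormal.isCentric_of_fullyNormalized hS hF hWfn fun x hx => by
    have hk : (⟨x, hx.1⟩ : S) ∈ Cfsg.kInfLower ↥S :=
      CfsgLib.Techniques.KInf.centralizer_kInfLower_le hS (mem_centralizer_iff.2 fun k hk =>
        Subtype.ext (mem_centralizer_iff.1 hx.2 k ⟨k, hk, rfl⟩))
    exact ⟨_, hk, rfl⟩
  obtain ⟨E, hE⟩ := exists_normalizerSystem (F := F) hWS
  obtain ⟨L, _, ι, hL⟩ := exists_model_normalizer hS hF hWfn hWc hE
  have := hL.1
  obtain ⟨T, hT⟩ := hL.2.2.1
  have hSM : normalizerIn S W = S := inf_eq_left.mpr hWn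
  -- elements of order prime to `p` normalizing `T` centralize it
  have hcen : ∀ x ∈ normalizer ((T : Subgroup L) : Set L), (orderOf x).Coprime p →
      x ∈ centralizer ((T : Subgroup L) : Set L) := by
    intro x hx hxc
    have hmem : ∀ s : ↥(normalizerIn S W), x * ι ⟨s, s.2⟩ * x⁻¹ ∈ ι.range := fun s => by
      rw [← hT]
      exact (mem_normalizer_iff.1 hx _).1 (hT.ge ⟨_, rfl⟩)
    obtain ⟨φ, hφ, hφe⟩ := realized_exists_map hL.2.1 le_rfl x hmem
    have hφF : φ ∈ F.Hom (normalizerIn S W) := ((hE _).le hφ).1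
    have hM : normalizerIn S W ≤ S := normalizerIn_le
    have := finite_of_le hM
    obtain ⟨α, hα, hαe⟩ := exists_aut hφF (range_eq_of_card_le hφF hM (fun s => apply_mem_S hφ s) le_rfl)
    have haut' : IsPGroup p ↥(F.autGroup (normalizerIn S W)) := by rw [hSM]; exact haut
    obtain ⟨a, ha⟩ := haut' ⟨α, hα⟩
    have hact : ∀ (k : ℕ) (s : ↥(normalizerIn S W)), ι ((α ^ k) s) = x ^ k * ι s * (x ^ k)⁻¹ := by
      intro k
      induction k with
      | zero => intro s; simp
      | succ k ih =>
        intro s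
        rw [pow_succ' α, MulAut.mul_apply]
        have h1 : ι (α ((α ^ k) s)) = x * ι ((α ^ k) s) * x⁻¹ :=
          (congrArg ι (Subtype.ext (hαe _) :
            α ((α ^ k) s) = ⟨φ ((α ^ k) s), apply_mem_S hφ _⟩)).trans (hφe _ _)
        rw [h1, ih, pow_succ']
        group
    have hle : zpowers (x ^ p ^ a) ≤ centralizer ((T : Subgroup L) : Set L) := by
      rw [zpowers_le, mem_centralizer_iff, hT]
      rintro _ ⟨s, rfl⟩
      have h1 := hact (p ^ a) s
      rw [show α ^ p ^ a = 1 from congrArg Subtype.val ha, MulAut.one_apply, eq_mul_inv_iff_mul_eq] at h1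
      exact h1
    exact hle (mem_zpowers_pow hxc a)
  have hT1 : (T : Subgroup L) ≠ ⊥ := by
    rw [hT]
    intro h
    refine hS1 (le_bot_iff.1 fun s hs => ?_)
    have h1 : ι ⟨s, hSM.ge hs⟩ ∈ ι.range := ⟨_, rfl⟩
    rw [h, Subgroup.mem_bot] at h1
    exact congrArg Subtype.val (hL.2.1.1 (h1.trans (map_one ι).symm))
  have hnot := sylow_not_le_commutator hp5 _ L rfl T hT1 hcen
  set H := ((_root_.commutator L).comap ι).map (normalizerIn S W).subtype with hH
  have hlocL : ∀ P φ, φ ∈ E.Hom P → ∀ x : P, (x : Ω)⁻¹ * φ x ∈ H := by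
    intro P φ hφ x
    obtain ⟨l, hl⟩ := realized_conj hL.2.1 hφ
    refine ⟨(⟨x, le_S hφ x.2⟩ : normalizerIn S W)⁻¹ * ⟨φ x, apply_mem_S hφ x⟩, ?_, rfl⟩
    show ι _ ∈ _root_.commutator L
    rw [map_mul, map_inv, hl x, show ∀ a : L, a⁻¹ * (l * a * l⁻¹) = ⁅a⁻¹, l⁆ from fun a => by
      rw [commutatorElement_def]; group]
    exact Subgroup.commutator_mem_commutator (Subgroup.mem_top _) (Subgroup.mem_top _)
  have hSH : ⁅S, S⁆ ≤ H := by
    rw [Subgroup.commutator_le]
    intro a ha b hb
    refine ⟨⁅(⟨a, hSM.ge ha⟩ : normalizerIn S W), ⟨b, hSM.ge hb⟩⁆, ?_, rfl⟩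
    show ι _ ∈ _root_.commutator L
    rw [map_commutatorElement]
    exact Subgroup.commutator_mem_commutator (Subgroup.mem_top _) (Subgroup.mem_top _)
  have hfoc : F.focalSubgroup ≤ H := by
    refine focal_le_of_functor (W := @Cfsg.kInfLower.{u}) hW1' hW2' (fun K _ _ T' _ => ?_) hS hF hSH
      fun P φ hφ x => hlocL P φ ((hE P).ge hφ) x
    refine le_trans ?_ (le_of_eq (Subgroup.map_subtype_commutator _).symm)
    have htc := (CfsgLib.Techniques.KInf.IsKInf.transCtrl (W := @Cfsg.kInfLower.{u}) (p := p) (Or.inl rfl)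
      hp5 K CfsgLib.Techniques.Fusion.IsSectionOf.refl T')
    intro y hy
    obtain ⟨hy1, hy2⟩ := mem_inf.1 hy
    have := model_core_normal (p := p) (G := K)
    have h1 := htc (mem_inf.2 ⟨CfsgLib.PCore.pCore_isPGroup.le_sylow_of_normal T' hy1, hy2⟩)
    refine (iSup₂_le fun V hV => ?_ : CfsgLib.Techniques.Fusion.transferTarget
      {@Cfsg.kInfLower.{u}} (T' : Subgroup K) ≤ _) h1
    obtain ⟨V', hV', rfl⟩ := hV
    obtain rfl := hV'
    exact inf_le_right
  refine lt_of_le_of_ne (focal_le_iff.2 fun P φ hφ x =>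
    S.mul_mem (S.inv_mem (le_S hφ x.2)) (apply_mem_S hφ x)) fun he => hnot ?_
  rw [hT]
  rintro _ ⟨⟨s, hs⟩, rfl⟩
  obtain ⟨s', hs', hse⟩ := hfoc (he ▸ hSM.le hs)
  have : s' = ⟨s, hs⟩ := Subtype.ext hse
  rw [← this]
  exact hs'

end CfsgLib.Fusion.FocalProper
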