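import Cfsg.Agent.Lib.Fusion.LocalSteps
import Cfsg.Agent.Lib.Fusion.Hyperfocal

/-!
# Control of weak closure of central elements
-/

namespace CfsgLib.Fusion

open Cfsg Cfsg.FusionSystem CfsgLib.FusionFactor

universe u

variable {Ω : Type u} [Group Ω] {S : Subgroup Ω} {F : FusionSystem S} {p : ℕ}

theorem centralHom_apply {z : Ω} {P : Subgroup Ω} {φ : P →* Ω}
    (hφ : φ ∈ extHom F (Subgroup.zpowers z) ⊥ S P) (h : z ∈ P) : φ ⟨z, h⟩ = z := by
  obtain ⟨-, -, -, ψ, -, hψe, κ, hκ, hκe⟩ := hφ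
  rw [Subgroup.mem_bot] at hκ
  have h1 := hκe ⟨z, Subgroup.mem_zpowers z⟩
  rw [hκ] at h1
  exact ((hψe ⟨z, h⟩).symm.trans (apply_eq_of_coe_eq rfl)).trans h1

theorem mem_centralHom_of_fix {z : Ω} {P : Subgroup Ω} {φ : P →* Ω} (hφ : φ ∈ F.Hom P) (h : z ∈ P)
    (he : φ ⟨z, h⟩ = z) : φ ∈ extHom F (Subgroup.zpowers z) ⊥ S P := by
  have hle : Subgroup.zpowers z ≤ P := Subgroup.zpowers_le.mpr h
  refine ⟨hφ, le_S hφ, apply_mem_S hφ, _, restrict_mem (sup_le le_rfl hle) hφ, fun _ => rfl, 1, one_mem _,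
    fun x => ?_⟩
  obtain ⟨i, hi⟩ := Subgroup.mem_zpowers_iff.mp x.2
  show φ ⟨x, _⟩ = (x : Ω)
  rw [show (⟨(x : Ω), hle x.2⟩ : P) = (⟨z, h⟩ : P) ^ i from Subtype.ext (by simp [hi]), map_zpow, he]
  exact hi

/-- A map is in `C_F(z)` as soon as an extension fixing `z` exists. -/
theorem mem_centralHom_of_ext {z : Ω} {P D : Subgroup Ω} {φ : P →* Ω} {ρ : D →* Ω} (hρ : ρ ∈ F.Hom D)
    (hPD : P ≤ D) (he : ∀ x : P, ρ ⟨x, hPD x.2⟩ = φ x) (h : z ∈ D) (hz : ρ ⟨z, h⟩ = z) :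
    φ ∈ extHom F (Subgroup.zpowers z) ⊥ S P := by
  have hφ : φ ∈ F.Hom P := by
    rw [show φ = ρ.comp (Subgroup.inclusion hPD) from MonoidHom.ext fun x => (he x).symm]
    exact restrict_mem hPD hρ
  obtain ⟨-, -, -, ψ, hψ, hψe, κ, hκ, hκe⟩ := mem_centralHom_of_fix hρ h hz
  have hle : P ⊔ Subgroup.zpowers z ≤ D ⊔ Subgroup.zpowers z := sup_le_sup_right hPD _
  exact ⟨hφ, le_S hφ, apply_mem_S hφ, _, restrict_mem hle hψ,
    fun x => (hψe ⟨x, hPD x.2⟩).trans (he x), κ, hκ, fun x => hκe x⟩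

theorem mem_extHom_of_restrict {Q D : Subgroup Ω} {π : D →* Ω} (hπ : π ∈ F.Hom D) (hQD : Q ≤ D)
    {K : Subgroup (MulAut Q)} {κ : MulAut Q} (hκ : κ ∈ K) (h : ∀ q : Q, π ⟨q, hQD q.2⟩ = ((κ q : Q) : Ω)) :
    π ∈ extHom F Q K S D :=
  ⟨hπ, le_S hπ, apply_mem_S hπ, _, restrict_mem (sup_le le_rfl hQD) hπ, fun _ => rfl, κ, hκ, h⟩

variable [Finite S] [Fact p.Prime]

/-- The statement proved by induction on the size of `F`. -/
def FixBelow (p : ℕ) (Good : ∀ (L : Type u) [Group L], Prop) (W : ∀ (Q : Type u) [Group Q], Subgroup Q) (m n : ℕ) : Prop :=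
  ∀ {Ω : Type u} [Group Ω] {S : Subgroup Ω} [Finite S] (F : FusionSystem S),
    sysSize F < n → IsPGroup p S → F.IsSaturated p → CentricFree F p Good → ∀ y ∈ S, (∀ s ∈ S, s * y = y * s) →
    (∀ P φ, φ ∈ F.normalizerHom (charSub W S) P → φ ∈ extHom F (Subgroup.zpowers (y ^ m)) ⊥ S P) →
    ∀ P φ, φ ∈ F.Hom P → φ ∈ extHom F (Subgroup.zpowers (y ^ m)) ⊥ S P

variable {W : ∀ (Q : Type u) [Group Q], Subgroup Q} {Good : ∀ (L : Type u) [Group L], Prop} {m n : ℕ}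
  {y z : Ω}


theorem fix_proper (hW1 : ∀ (Q : Type u) [Group Q] [Finite Q], IsPGroup p Q → Nontrivial Q → W Q ≠ ⊥) (hW2 : ∀ (Q R : Type u) [Group Q] [Group R] [Finite Q], IsPGroup p Q → ∀ φ : Q ≃* R,
      (W Q).map φ.toMonoidHom = W R) (hGood : SectionClosed Good) (hfree : CentricFree F p Good) (ih : FixBelow p Good W m n) (hn : sysSize F ≤ n)
    (hS : IsPGroup p S) (hF : F.IsSaturated p) (hy : y ∈ S)
    (hyc : ∀ s ∈ S, s * y = y * s) (hzdef : z = y ^ m) (hzS : z ∈ S) (hzc : ∀ s ∈ S, s * z = z * s)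
    (hloc : ∀ P φ, φ ∈ F.normalizerHom (charSub W S) P → φ ∈ extHom F (Subgroup.zpowers z) ⊥ S P)
    {U : Subgroup Ω} (hU : U ≠ ⊥) (hUn : F.IsFullyNormalized U) {N : FusionSystem (normalizerIn S U)}
    (hN : F.IsNormalizerSystem U N) (hne : ∃ P φ, φ ∈ F.Hom P ∧ φ ∉ N.Hom P)
    (hbig : normalizerIn S U ≠ S → ∀ V : Subgroup Ω, V ≠ ⊥ → V ≤ normalizerIn S U →
      normalizerIn S (normalizerIn S U) ≤ Subgroup.normalizer (V : Set Ω) →
      ∀ P φ, φ ∈ F.normalizerHom V P → φ ∈ extHom F (Subgroup.zpowers z) ⊥ S P)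
    {P : Subgroup Ω} {φ : P →* Ω} (hφ : φ ∈ N.Hom P) : φ ∈ extHom F (Subgroup.zpowers z) ⊥ S P := by
  have hsub : ∀ P φ, φ ∈ N.Hom P → φ ∈ F.Hom P := fun P φ h => ((hN P).le h).1
  have := finite_of_le (normalizerIn_le (S := S) (P := U))
  have hlt := sysSize_lt_of_sub hsub hne
  have hMp : IsPGroup p (normalizerIn S U) := hS.to_le normalizerIn_le
  have hzM : ∀ w ∈ S, (∀ s ∈ S, s * w = w * s) → w ∈ normalizerIn S U := fun w hw hwc =>
    centralizerIn_le_normalizerIn (mem_centralizerIn.mpr ⟨hw, fun u hu => hwc u (hUn.1 hu)⟩)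
  have hzMz : z ∈ normalizerIn S U := hzM z hzS hzc
  have hG := ih N (by omega) hMp (normalizerSystem_saturated hS hF hUn hN)
    (centricFree_normalizerSystem hGood hS hF hfree hUn hN) y (hzM y hy hyc)
    (fun s hs => hyc s (normalizerIn_le hs)) (fun P φ hφ => by
      have hX : charSub W (normalizerIn S U) ≤ normalizerIn S U := charSub_le _
      have hMX : normalizerIn S U ≤ normalizerIn S (charSub W (normalizerIn S U)) :=
        le_inf normalizerIn_le (Subgroup.le_normalizer.trans (charSub_le_normalizer hW2 hMp))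
      obtain ⟨χ, hχ, hχU, hχe⟩ := exists_extension_in_normalizer hUn.1 rfl hMX hX hN hφ
      have hχE : χ ∈ extHom F (Subgroup.zpowers z) ⊥ S _ := by
        by_cases hM : normalizerIn S U = S
        · have h := hχ
          have e : charSub W (normalizerIn S U) = charSub W S := by rw [hM]
          exact hloc _ χ (by
            obtain ⟨h1, h2, h3, ψ, hψ, hψe, hψX⟩ := h
            refine mem_normalizerHom h1 ?_ ?_ ?_
            · rw [← e]; exact le_sup_right.trans le_sup_left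
            · rw [← e]; exact h2
            · rw [← e]
              intro x hx
              have := hψe x
              rw [← this]
              exact hψX.le ⟨_, hx, rfl⟩)
        · exact hbig hM _ (charSub_ne_bot hW1 hMp fun e => hU
            (le_bot_iff.mp ((le_normalizerIn hUn.1).trans e.le))) hX
            (inf_le_right.trans (charSub_le_normalizer hW2 hMp)) _ χ hχ
      obtain ⟨-, -, -, ρ, hρ, hρe, κ, hκ, hκe⟩ := hχE
      have hUD : U ≤ P ⊔ charSub W (normalizerIn S U) ⊔ U ⊔ Subgroup.zpowers z :=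
        le_sup_right.trans le_sup_left
      have hρN : ρ ∈ N.Hom _ := (hN _).ge (mem_normalizerHom hρ hUD
        (sup_le (sup_le (sup_le (le_S hφ.1) hX) (le_normalizerIn hUn.1)) (Subgroup.zpowers_le.mpr hzMz))
        fun x hx => by
          rw [apply_eq_of_coe_eq (φ := ρ) (x := x)
            (y := Subgroup.inclusion le_sup_left ⟨(x : Ω), Subgroup.mem_sup_right hx⟩) rfl, hρe]
          exact hχU _ hx)
      rw [← hzdef]
      rw [Subgroup.mem_bot] at hκ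
      refine mem_centralHom_of_ext hρN ((le_sup_left.trans le_sup_left).trans le_sup_left)
        (fun x => (hρe _).trans (hχe x)) (Subgroup.mem_sup_right (Subgroup.mem_zpowers z)) ?_
      exact (hκe ⟨z, Subgroup.mem_zpowers z⟩).trans (by rw [hκ]; rfl)) P φ hφ
  rw [← hzdef] at hG
  obtain ⟨-, -, -, ρ, hρ, hρe, κ, hκ, hκe⟩ := hG
  exact ⟨hsub _ _ hφ, le_S (hsub _ _ hφ), apply_mem_S (hsub _ _ hφ), ρ, hsub _ _ hρ, hρe, κ, hκ, hκe⟩

theorem fix_centric (hfree : CentricFree F p Good) (hW2 : ∀ (Q R : Type u) [Group Q] [Group R] [Finite Q], IsPGroup p Q → ∀ φ : Q ≃* R,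
      (W Q).map φ.toMonoidHom = W R)
    (hmodel : ∀ (L : Type u) [Group L] [Finite L] (T : Sylow p L),
      Subgroup.centralizer ((pCore p L : Subgroup L) : Set L) ≤ pCore p L → Good L →
      ∀ y ∈ (T : Subgroup L), (∀ t ∈ (T : Subgroup L), t * y = y * t) →
      (∀ h ∈ Subgroup.normalizer (charSub W (T : Subgroup L) : Set L), h * y ^ m = y ^ m * h) →
      ∀ l : L, l * y ^ m = y ^ m * l)
    (hS : IsPGroup p S) (hF : F.IsSaturated p) (hy : y ∈ S)
    (hyc : ∀ s ∈ S, s * y = y * s) (hzdef : z = y ^ m) (hzS : z ∈ S) (hzc : ∀ s ∈ S, s * z = z * s)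
    (hloc : ∀ P φ, φ ∈ F.normalizerHom (charSub W S) P → φ ∈ extHom F (Subgroup.zpowers z) ⊥ S P)
    {T : Subgroup Ω} (hTc : F.IsCentric T) (hTn : F.IsFullyNormalized T) (hTN : normalizerIn S T = S)
    {P : Subgroup Ω} {φ : P →* Ω} (hφ : φ ∈ F.normalizerHom T P) :
    φ ∈ extHom F (Subgroup.zpowers z) ⊥ S P := by
  obtain ⟨N, hN⟩ := exists_normalizerSystem (F := F) hTn.1
  obtain ⟨L, _, ι, hL⟩ := exists_model_normalizer hS hF hTn hTc hN
  have := hL.1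
  obtain ⟨T₀, hT₀⟩ := hL.2.2.1
  have := finite_of_le (normalizerIn_le (S := S) (P := T))
  have hMp : IsPGroup p (normalizerIn S T) := hS.to_le normalizerIn_le
  have hyM : y ∈ normalizerIn S T := by rw [hTN]; exact hy
  have hzM : z ∈ normalizerIn S T := by rw [hTN]; exact hzS
  obtain ⟨X, hXd⟩ : ∃ X, X = charSub W (normalizerIn S T) := ⟨_, rfl⟩
  have hXM : X ≤ normalizerIn S T := hXd ▸ charSub_le _
  have hXS : X = charSub W S := by rw [hXd, hTN]
  have hlocX : ∀ P φ, φ ∈ F.normalizerHom X P → φ ∈ extHom F (Subgroup.zpowers z) ⊥ S P := by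
    rw [hXS]; exact hloc
  have hsub : ∀ P φ, φ ∈ N.Hom P → φ ∈ F.Hom P := fun P φ h => ((hN P).le h).1
  have hzι : ι ⟨z, hzM⟩ = ι ⟨y, hyM⟩ ^ m := by
    rw [← map_pow]; exact congrArg ι (Subtype.ext hzdef)
  have hyT : ∀ t ∈ (T₀ : Subgroup L), t * ι ⟨y, hyM⟩ = ι ⟨y, hyM⟩ * t := by
    rw [hT₀]
    rintro _ ⟨⟨s, hs⟩, rfl⟩
    rw [← map_mul, ← map_mul]
    exact congrArg ι (Subtype.ext (hyc s (normalizerIn_le hs)))
  have hcent := hmodel L T₀ hL.2.2.2 (hfree _ hTn hTc N hN L ι hL) (ι ⟨y, hyM⟩) (hT₀ ▸ ⟨_, rfl⟩) hyT fun h hh => by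
    rw [hT₀, ← charSub_map hW2 hMp ι hL.2.1.1, ← hXd] at hh
    rw [← hzι]
    have := model_core_normal (p := p) (G := L)
    have hzO : ι ⟨z, hzM⟩ ∈ pCore p L := hL.2.2.2 (Subgroup.mem_centralizer_iff.mpr fun a ha => by
      obtain ⟨⟨a, haM⟩, rfl⟩ := model_core_le hL ha
      rw [← map_mul, ← map_mul]
      exact congrArg ι (Subtype.ext (hzc a (normalizerIn_le haM))))
    have hle : X ⊔ Subgroup.zpowers z ≤ normalizerIn S T :=
      sup_le hXM (Subgroup.zpowers_le.mpr hzM)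
    have hmem : ∀ x : ↥(X ⊔ Subgroup.zpowers z), h * ι ⟨x, hle x.2⟩ * h⁻¹ ∈ ι.range := by
      intro x
      have hx : X ⊔ Subgroup.zpowers z ≤
          ((ι.range.comap (MulAut.conj h).toMonoidHom).comap ι).map (normalizerIn S T).subtype := by
        refine sup_le (fun a ha => ⟨⟨a, hXM ha⟩, ?_, rfl⟩) (Subgroup.zpowers_le.mpr ⟨⟨z, hzM⟩, ?_, rfl⟩)
        · exact Subgroup.map_le_range ι _ ((Subgroup.mem_normalizer_iff.mp hh _).mp ⟨⟨a, hXM ha⟩, ha, rfl⟩)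
        · exact model_core_le hL (Subgroup.Normal.conj_mem inferInstance _ hzO h)
      obtain ⟨c, hc, hcx⟩ := hx x.2
      rw [show (⟨(x : Ω), hle x.2⟩ : normalizerIn S T) = c from Subtype.ext hcx.symm]
      exact hc
    obtain ⟨ψ, hψ, hψe⟩ := realized_exists_map hL.2.1 hle h hmem
    have hψX : ψ ∈ F.normalizerHom X (X ⊔ Subgroup.zpowers z) :=
      mem_normalizerHom (hsub _ _ hψ) le_sup_left
        (le_inf (hle.trans normalizerIn_le) (hXd ▸ hle.trans (Subgroup.le_normalizer.trans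
          (charSub_le_normalizer hW2 hMp))))
        fun x hx => by
          obtain ⟨w, hw, hwe⟩ := (Subgroup.mem_normalizer_iff.mp hh _).mp ⟨⟨x, hXM hx⟩, hx, rfl⟩
          have e := hL.2.1.1 (hwe.trans (hψe x (apply_mem_S hψ x)).symm)
          rw [show ψ x = (w : Ω) from (congrArg Subtype.val e).symm]
          exact hw
    have hzD : z ∈ X ⊔ Subgroup.zpowers z := Subgroup.mem_sup_right (Subgroup.mem_zpowers z)
    have hfix : ψ ⟨z, hzD⟩ = z := centralHom_apply (hlocX _ ψ hψX) hzD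
    have h2 := hψe ⟨z, hzD⟩ (apply_mem_S hψ _)
    rw [show (⟨ψ ⟨z, hzD⟩, apply_mem_S hψ _⟩ : normalizerIn S T) = ⟨z, hzM⟩ from Subtype.ext hfix] at h2
    exact (mul_inv_eq_iff_eq_mul.mp h2.symm)
  have hφN : φ ∈ N.Hom P := (hN P).ge hφ
  obtain ⟨l, hl⟩ := realized_conj hL.2.1 hφN
  have hle : P ⊔ Subgroup.zpowers z ≤ normalizerIn S T := sup_le (le_S hφN) (Subgroup.zpowers_le.mpr hzM)
  have hlz : l * ι ⟨z, hzM⟩ * l⁻¹ = ι ⟨z, hzM⟩ := by
    rw [hzι, hcent l, mul_inv_cancel_right]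
  obtain ⟨ρ, hρ, hρe⟩ := realized_exists_map hL.2.1 hle l fun x => by
    have hx : P ⊔ Subgroup.zpowers z ≤
        ((ι.range.comap (MulAut.conj l).toMonoidHom).comap ι).map (normalizerIn S T).subtype := by
      refine sup_le (fun a ha => ⟨⟨a, le_S hφN ha⟩, ⟨_, hl ⟨a, ha⟩⟩, rfl⟩)
        (Subgroup.zpowers_le.mpr ⟨⟨z, hzM⟩, ⟨_, hlz.symm⟩, rfl⟩)
    obtain ⟨c, hc, hcx⟩ := hx x.2
    rw [show (⟨(x : Ω), hle x.2⟩ : normalizerIn S T) = c from Subtype.ext hcx.symm]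
    exact hc
  refine mem_centralHom_of_ext (hsub _ _ hρ) le_sup_left (fun x => ?_)
    (Subgroup.mem_sup_right (Subgroup.mem_zpowers z)) ?_
  · exact congrArg Subtype.val (hL.2.1.1 ((hρe ⟨x, Subgroup.mem_sup_left x.2⟩
      (apply_mem_S hρ _)).trans (hl x).symm))
  · exact congrArg Subtype.val (hL.2.1.1 ((hρe ⟨z, Subgroup.mem_sup_right (Subgroup.mem_zpowers z)⟩
      (apply_mem_S hρ _)).trans hlz))

theorem fix_inner (hW2 : ∀ (Q R : Type u) [Group Q] [Group R] [Finite Q], IsPGroup p Q → ∀ φ : Q ≃* R,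
      (W Q).map φ.toMonoidHom = W R) (hGood : SectionClosed Good) (hfree : CentricFree F p Good) (ih : FixBelow p Good W m n) (hn : sysSize F ≤ n)
    (hS : IsPGroup p S) (hF : F.IsSaturated p) (hy : y ∈ S)
    (hyc : ∀ s ∈ S, s * y = y * s) (hzdef : z = y ^ m) (hzS : z ∈ S) (hzc : ∀ s ∈ S, s * z = z * s)
    (hloc : ∀ P φ, φ ∈ F.normalizerHom (charSub W S) P → φ ∈ extHom F (Subgroup.zpowers z) ⊥ S P)
    {Q : Subgroup Ω} (hQ : F.IsNormal Q) (hr : F.IsReceptive Q)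
    (hsat : (extSystem F hr.1 (autInducedBy S Q) S
      (isKNormalizer_autInducedBy (le_normalizer_of_isNormal hQ))).IsSaturated p)
    (hne : ∃ P φ, φ ∈ F.Hom P ∧ φ ∉ extHom F Q (autInducedBy S Q) S P)
    {P : Subgroup Ω} {φ : P →* Ω} (hφ : φ ∈ extHom F Q (autInducedBy S Q) S P) :
    φ ∈ extHom F (Subgroup.zpowers z) ⊥ S P := by
  obtain ⟨G, hGsat, hGf, hGm⟩ : ∃ G : FusionSystem S, G.IsSaturated p ∧ CentricFree G p Good ∧
      ∀ P φ, φ ∈ G.Hom P ↔ φ ∈ extHom F Q (autInducedBy S Q) S P :=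
    ⟨_, hsat, centricFree_extSystem hGood hS hF hfree hr _ hQ.1 hsat, fun _ _ => Iff.rfl⟩
  have hsub : ∀ P φ, φ ∈ G.Hom P → φ ∈ F.Hom P := fun P φ h => ((hGm P φ).mp h).1
  have hlt : sysSize G < sysSize F := sysSize_lt_of_sub hsub (by
    obtain ⟨P, φ, h1, h2⟩ := hne
    exact ⟨P, φ, h1, fun h => h2 ((hGm P φ).mp h)⟩)
  have hXS : charSub W S ≤ S := charSub_le S
  have hQX : Q ≤ normalizerIn S (charSub W S) :=
    le_inf hQ.1 (hQ.1.trans (Subgroup.le_normalizer.trans (charSub_le_normalizer hW2 hS)))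
  have hG : ∀ P φ, φ ∈ G.Hom P → φ ∈ extHom G (Subgroup.zpowers z) ⊥ S P := by
    have h := ih G (lt_of_lt_of_le hlt hn) hS hGsat hGf y hy hyc
    rw [← hzdef] at h
    refine h fun P φ hφ => ?_
    obtain ⟨-, hP, -, χ, hχ, hχe, hχX⟩ := hφ
    obtain ⟨-, -, -, σ, hσ, hσe, τ, hτ, hτe⟩ := (hGm _ χ).mp hχ
    have hσN : σ ∈ F.normalizerHom (charSub W S) (P ⊔ charSub W S ⊔ Q) := by
      refine mem_normalizerHom hσ (le_sup_right.trans le_sup_left)
        (sup_le (sup_le hP (le_normalizerIn hXS)) hQX) fun x hx => ?_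
      rw [apply_eq_of_coe_eq (φ := σ) (x := x)
        (y := Subgroup.inclusion le_sup_left ⟨(x : Ω), Subgroup.mem_sup_right hx⟩) rfl, hσe]
      exact hχX.le ⟨_, hx, rfl⟩
    obtain ⟨-, -, -, π, hπ, hπe, κ', hκ', hκ'e⟩ := hloc _ σ hσN
    rw [Subgroup.mem_bot] at hκ'
    have hπz : π ⟨z, Subgroup.mem_sup_right (Subgroup.mem_zpowers z)⟩ = z :=
      (hκ'e ⟨z, Subgroup.mem_zpowers z⟩).trans (by rw [hκ']; rfl)
    have hQle : Q ≤ P ⊔ charSub W S ⊔ Q ⊔ Subgroup.zpowers z := le_sup_right.trans le_sup_left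
    have hπQ : ∀ q : Q, π ⟨q, hQle q.2⟩ = ((τ q : Q) : Ω) := fun q =>
      (hπe ⟨q, Subgroup.mem_sup_right q.2⟩).trans (hτe q)
    have hπG : π ∈ G.Hom (P ⊔ charSub W S ⊔ Q ⊔ Subgroup.zpowers z) :=
      (hGm _ π).mpr (mem_extHom_of_restrict hπ hQle hτ hπQ)
    exact mem_centralHom_of_ext hπG ((le_sup_left.trans le_sup_left).trans le_sup_left)
      (fun x => ((hπe _).trans (hσe _)).trans (hχe x))
      (Subgroup.mem_sup_right (Subgroup.mem_zpowers z)) hπz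
  obtain ⟨hφG, hP, hv, ρ, hρ, hρe, κ, hκ, hκe⟩ := hG P φ ((hGm P φ).mpr hφ)
  exact ⟨hsub _ _ hφG, hP, hv, ρ, hsub _ _ hρ, hρe, κ, hκ, hκe⟩

theorem fix_quot (hW1 : ∀ (Q : Type u) [Group Q] [Finite Q], IsPGroup p Q → Nontrivial Q → W Q ≠ ⊥) (hW2 : ∀ (Q R : Type u) [Group Q] [Group R] [Finite Q], IsPGroup p Q → ∀ φ : Q ≃* R,
      (W Q).map φ.toMonoidHom = W R) (hGood : SectionClosed Good) (hfree : CentricFree F p Good) (ih : FixBelow p Good W m n) (hn : sysSize F ≤ n)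
    (hS : IsPGroup p S) (hF : F.IsSaturated p) (hy : y ∈ S)
    (hyc : ∀ s ∈ S, s * y = y * s) (hzdef : z = y ^ m) (hzS : z ∈ S) (hzc : ∀ s ∈ S, s * z = z * s) (hSC : S ≤ Subgroup.centralizer (Subgroup.zpowers z : Set Ω)) (hzle : Subgroup.zpowers z ≤ S)
    {Q : Subgroup Ω} (hQ : F.IsNormal Q) (hQ1 : Q ≠ ⊥) (hQS : Q ≠ S)
    (hne : ∀ P φ, φ ∈ F.Hom P → φ ∈ extHom F Q (autInducedBy S Q) S P)
    (hV : ∀ V : Subgroup Ω, V ≤ S → S ≤ Subgroup.normalizer (V : Set Ω) → ¬ V ≤ Q →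
      ∀ P φ, φ ∈ F.normalizerHom V P → φ ∈ extHom F (Subgroup.zpowers z) ⊥ S P) :
    F ≤ extSystem F hzle ⊥ S (isKNormalizer_bot_self hSC) := by
  have hQn : (Q.subgroupOf S).Normal :=
    (Subgroup.normal_subgroupOf_iff_le_normalizer hQ.1).mpr (le_normalizer_of_isNormal hQ)
  let θ : S →* S ⧸ Q.subgroupOf S := QuotientGroup.mk' _
  have hk : ∀ s : S, θ s = 1 ↔ (s : Ω) ∈ Q := fun s => QuotientGroup.eq_one_iff s
  have hA := IsNormal.stronglyClosed hQ
  have hE' := factorSystem_isFactorSystem (θ := θ) hk hA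
  have : Finite θ.range := Finite.of_surjective _ θ.rangeRestrict_surjective
  have hθp : IsPGroup p θ.range := hS.of_surjective _ θ.rangeRestrict_surjective
  have hlt := sysSize_factor_lt hE' hQ1
  have hθne : θ.range ≠ ⊥ := fun e => hQS (le_antisymm hQ.1 fun s hs =>
    (hk ⟨s, hs⟩).mp (Subgroup.mem_bot.mp (e.le ⟨⟨s, hs⟩, rfl⟩)))
  obtain ⟨zb, hzb⟩ : ∃ zb, zb = θ ⟨y, hy⟩ ^ m := ⟨_, rfl⟩
  have hzbθ : θ ⟨z, hzS⟩ = zb := by
    rw [hzb, ← map_pow]; exact congrArg θ (Subtype.ext hzdef)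
  have hquo := ih (factorSystem F θ Q hk hA) (by omega) hθp (isSaturated_factor hS hF hA hE')
    (centricFree_factor hGood.quot hS hF hQ hE' hfree)
    (θ ⟨y, hy⟩) ⟨_, rfl⟩ (by
      rintro _ ⟨s, rfl⟩
      rw [← map_mul, ← map_mul]
      exact congrArg θ (Subtype.ext (hyc s s.2))) (fun P' φ' hφ' => by
      rw [← hzb]
      have hW' : charSub W θ.range ≤ θ.range := charSub_le _
      obtain ⟨P₁, ψ, hψ, hlift⟩ := exists_lift_normalizerHom hE' hW' hφ'
      have hψE := hV _ (preimageAlong_le _) (by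
          intro s hs
          have := finite_of_le (preimageAlong_le (θ := θ) (charSub W θ.range))
          refine mem_normalizer_of_forall fun w hw => ?_
          obtain ⟨hwS, hw'⟩ := mem_preimageAlong.mp hw
          refine mem_preimageAlong.mpr ⟨S.mul_mem (S.mul_mem hs hwS) (S.inv_mem hs), ?_⟩
          show θ (⟨s, hs⟩ * ⟨w, hwS⟩ * (⟨s, hs⟩ : S)⁻¹) ∈ charSub W θ.range
          rw [map_mul, map_mul, map_inv]
          exact (Subgroup.mem_normalizer_iff.mp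
            (charSub_le_normalizer hW2 hθp (Subgroup.le_normalizer ⟨_, rfl⟩)) _).mp hw')
        (fun hle => charSub_ne_bot hW1 hθp hθne (le_bot_iff.mp fun y hy => by
          obtain ⟨s, rfl⟩ := charSub_le _ hy
          exact Subgroup.mem_bot.mpr ((hk s).mpr (hle (mem_preimageAlong.mpr ⟨s.2, hy⟩))))) P₁ ψ hψ
      obtain ⟨-, -, -, ρ, hρ, hρe, κ, hκ, hκe⟩ := hψE
      rw [Subgroup.mem_bot] at hκ
      obtain ⟨ρ', hρ', hP, hρS, hm, e⟩ := exists_map_induced hS hF hA hE' hρ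
      have hzmem : zb ∈ imageAlong θ (P₁ ⊔ Subgroup.zpowers z) :=
        ⟨⟨z, hzS⟩, Subgroup.mem_sup_right (Subgroup.mem_zpowers z), hzbθ⟩
      have hP'le : P' ≤ imageAlong θ (P₁ ⊔ Subgroup.zpowers z) := fun w hw => by
        obtain ⟨x, hxS, -, hxe, -⟩ := hlift ⟨w, hw⟩
        exact ⟨⟨x, hxS⟩, Subgroup.mem_sup_left x.2, hxe⟩
      refine mem_centralHom_of_ext hρ' hP'le (fun w => ?_) hzmem ?_
      · obtain ⟨x, hxS, hψS, hxe, hφe⟩ := hlift w
        rw [← hφe]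
        refine Eq.trans (apply_eq_of_coe_eq (y := ⟨_, hm (Subgroup.inclusion le_sup_left x)⟩) hxe.symm)
          ((e (Subgroup.inclusion le_sup_left x)).trans (congrArg θ (Subtype.ext (hρe x))))
      · refine Eq.trans (apply_eq_of_coe_eq (y := ⟨_, hm ⟨z, Subgroup.mem_sup_right (Subgroup.mem_zpowers z)⟩⟩)
          hzbθ.symm) ((e _).trans (Eq.trans (congrArg θ (Subtype.ext ?_)) hzbθ))
        exact (hκe ⟨z, Subgroup.mem_zpowers z⟩).trans (by rw [hκ]; rfl))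
  rw [← hzb] at hquo
  refine alperin hS hF _ fun R hR a ha => ?_
  have hRn : F.IsFullyNormalized R := by
    rcases hR with rfl | hR
    · have := finite_of_le (normalizerIn_le (S := R) (P := R))
      exact ⟨le_rfl, fun _ _ => Subgroup.card_le_of_le (normalizerIn_le.trans_eq
        (inf_eq_left.mpr Subgroup.le_normalizer).symm)⟩
    · exact hR.2.1
  have hQR : Q ≤ R := by
    rcases hR with rfl | hR
    · exact hQ.1
    · exact IsNormal.le_centric_radical hS hQ hR.1 (radical_of_essential hR hS)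
  have hzR : z ∈ R := by
    rcases hR with rfl | hR
    · exact hzS
    · exact IsCentric.centralizerIn_le' hR.1 (mem_centralizerIn.mpr ⟨hzS, fun r hr => hzc r (hRn.1 hr)⟩)
  have hRS := hRn.1
  have := finite_of_le hRS
  have := finite_mulAut hRS
  refine (mem_autGroup hRS).mpr (mem_centralHom_of_fix ((mem_autGroup hRS).mp ha) hzR ?_)
  obtain ⟨c, hc, g, hg, b, hab, hb⟩ := FullyAutomized.exists_mul (fullyNormalized_good hS hF hRn).1 ha
  have hbz : b ⟨z, hzR⟩ = ⟨z, hzR⟩ := Subtype.ext (by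
    rw [hb]; show g * z * g⁻¹ = z; rw [hzc g hg, mul_inv_cancel_right])
  suffices hcz : (c : MulAut R) ⟨z, hzR⟩ = ⟨z, hzR⟩ by
    show ((a ⟨z, hzR⟩ : R) : Ω) = z
    rw [hab, MulAut.mul_apply, hbz, hcz]
  have key : pResidual p (F.autGroup R) ≤
      (MulAction.stabilizer (MulAut R) (⟨z, hzR⟩ : R)).subgroupOf (F.autGroup R) := by
    rw [CfsgLib.Transfer.pResidual_le_iff]
    intro d hd
    show (d : MulAut R) ⟨z, hzR⟩ = ⟨z, hzR⟩
    obtain ⟨k, hk0, hkd⟩ : ∃ k, Nat.Coprime k p ∧ (d : MulAut R) ^ k = 1 :=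
      ⟨orderOf d, hd, by rw [← SubgroupClass.coe_pow, pow_orderOf_eq_one]; rfl⟩
    obtain ⟨-, -, -, ψ, hψ, hψe, κ, hκ, hκe⟩ := hne R _ ((mem_autGroup hRS).mp d.2)
    have hdQ : ∀ q : Q, (((d : MulAut R) ⟨q, hQR q.2⟩ : R) : Ω) = ((κ q : Q) : Ω) := fun q => by
      refine Eq.trans ?_ (hκe q)
      exact ((apply_eq_of_coe_eq rfl).trans (hψe ⟨q, hQR q.2⟩)).symm
    have hpow : ∀ (j : ℕ) (q : Q), ((((d : MulAut R) ^ j) ⟨q, hQR q.2⟩ : R) : Ω) = (((κ ^ j) q : Q) : Ω) := by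
      intro j
      induction j with
      | zero => intro q; simp
      | succ j ihj =>
        intro q
        rw [pow_succ', pow_succ', MulAut.mul_apply, MulAut.mul_apply, ← hdQ]
        exact congrArg (fun w => (((d : MulAut R) w : R) : Ω)) (Subtype.ext (ihj q))
    have hκ1 : κ = 1 := by
      have hκk : κ ^ k = 1 := MulEquiv.ext fun q => Subtype.ext (by rw [← hpow k q, hkd]; rfl)
      obtain ⟨l, hl⟩ := (isPGroup_autInducedBy hS Q) ⟨κ, hκ⟩
      have hl' : κ ^ p ^ l = 1 := congrArg Subtype.val hl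
      exact orderOf_eq_one_iff.mp (Nat.eq_one_of_dvd_coprimes (hk0.pow_right l)
        (orderOf_dvd_of_pow_eq_one hκk) (orderOf_dvd_of_pow_eq_one hl'))
    obtain ⟨d', hd', hP, hdS, hm, e⟩ := exists_map_induced hS hF hA hE' ((mem_autGroup hRS).mp d.2)
    have hzimg : zb ∈ imageAlong θ R := ⟨⟨z, hzS⟩, hzR, hzbθ⟩
    have h1 := centralHom_apply (hquo _ _ hd') hzimg
    have h2 : θ ⟨((d : MulAut R) ⟨z, hzR⟩ : R), hRS (Subtype.prop _)⟩ = θ ⟨z, hzS⟩ := by
      refine ((e ⟨z, hzR⟩).symm.trans ?_)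
      exact ((apply_eq_of_coe_eq (φ := d') (y := ⟨zb, hzimg⟩) hzbθ).trans h1).trans hzbθ.symm
    have hq : ((⟨z, hzR⟩ : R)⁻¹ * (d : MulAut R) ⟨z, hzR⟩ : R).val ∈ Q := by
      have := (theta_eq_iff hk ⟨z, hzS⟩ ⟨((d : MulAut R) ⟨z, hzR⟩ : R), hRS (Subtype.prop _)⟩).mp h2.symm
      exact this
    have hfix : (d : MulAut R) ((⟨z, hzR⟩ : R)⁻¹ * (d : MulAut R) ⟨z, hzR⟩) =
        (⟨z, hzR⟩ : R)⁻¹ * (d : MulAut R) ⟨z, hzR⟩ := by
      refine Subtype.ext ?_
      have := hdQ ⟨_, hq⟩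
      rw [hκ1] at this
      exact this
    have hk1 := coe_pow_apply_of_fixed hfix k
    rw [hkd] at hk1
    have hq1 : ((⟨z, hzR⟩ : R)⁻¹ * (d : MulAut R) ⟨z, hzR⟩) ^ k = 1 :=
      mul_eq_left.mp hk1.symm
    obtain ⟨l, hl⟩ := (hS.to_le hRS) ((⟨z, hzR⟩ : R)⁻¹ * (d : MulAut R) ⟨z, hzR⟩)
    have h3 := orderOf_eq_one_iff.mp (Nat.eq_one_of_dvd_coprimes (hk0.pow_right l)
      (orderOf_dvd_of_pow_eq_one hq1) (orderOf_dvd_of_pow_eq_one hl))
    exact (inv_mul_eq_one.mp h3).symm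
  exact key hc

/-- If `W` controls fusion of `y ^ m`, `y` central in the Sylow subgroup, in all models, it does so in all
saturated systems. -/
theorem central_of_functor (hW1 : ∀ (Q : Type u) [Group Q] [Finite Q], IsPGroup p Q → Nontrivial Q → W Q ≠ ⊥)
    (hW2 : ∀ (Q R : Type u) [Group Q] [Group R] [Finite Q], IsPGroup p Q → ∀ φ : Q ≃* R,
      (W Q).map φ.toMonoidHom = W R)
    (hmodel : ∀ (L : Type u) [Group L] [Finite L] (T : Sylow p L),
      Subgroup.centralizer ((pCore p L : Subgroup L) : Set L) ≤ pCore p L → Good L →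
      ∀ y ∈ (T : Subgroup L), (∀ t ∈ (T : Subgroup L), t * y = y * t) →
      (∀ h ∈ Subgroup.normalizer (charSub W (T : Subgroup L) : Set L), h * y ^ m = y ^ m * h) →
      ∀ l : L, l * y ^ m = y ^ m * l)
    (hGood : SectionClosed Good) (hS : IsPGroup p S) (hF : F.IsSaturated p) (hfree : CentricFree F p Good)
    (hy : y ∈ S) (hyc : ∀ s ∈ S, s * y = y * s)
    (hloc : ∀ P φ, φ ∈ F.normalizerHom (charSub W S) P → φ ∈ extHom F (Subgroup.zpowers (y ^ m)) ⊥ S P) :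
    F.IsCentral (Subgroup.zpowers (y ^ m)) := by
  refine isCentral_of_extHom (Subgroup.zpowers_le.mpr (pow_mem hy m)) ?_
  suffices H : ∀ n, FixBelow p Good W m n from H _ F (Nat.lt_succ_self _) hS hF hfree y hy hyc hloc
  intro n
  induction n with
  | zero => intro _ _ _ _ F h; omega
  | succ n ih =>
    intro Ω _ S _ F hn hS hF hfree y hy hyc hloc
    obtain ⟨z, hzdef⟩ : ∃ z, z = y ^ m := ⟨_, rfl⟩
    rw [← hzdef] at hloc ⊢
    have hn' : sysSize F ≤ n := by omega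
    have hzS : z ∈ S := hzdef ▸ pow_mem hy m
    have hzc : ∀ s ∈ S, s * z = z * s := fun s hs => hzdef ▸ (Commute.pow_right (hyc s hs) m).eq
    by_cases hS1 : S = ⊥
    · subst hS1
      intro P φ hφ
      have hz1 : z = 1 := Subgroup.mem_bot.mp hzS
      exact mem_centralHom_of_fix hφ (hz1 ▸ P.one_mem) (by
        subst hz1; exact (map_one φ))
    have hSC : S ≤ Subgroup.centralizer (Subgroup.zpowers z : Set Ω) := by
      rw [Subgroup.le_centralizer_iff]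
      exact Subgroup.zpowers_le.mpr fun s hs => hzc s hs
    have hzle : Subgroup.zpowers z ≤ S := Subgroup.zpowers_le.mpr hzS
    suffices hFE : F ≤ extSystem F hzle ⊥ S (isKNormalizer_bot_self hSC) from fun P φ hφ => hFE P hφ
    exact le_of_steps hS hF hS1 _
      (fun U hU hUn N hN hne hbig P φ hφ => fix_proper hW1 hW2 hGood hfree ih hn' hS hF hy hyc hzdef hzS hzc hloc
        hU hUn hN hne hbig hφ)
      (fun T hTc hTn hTN P φ hφ => fix_centric hfree hW2 hmodel hS hF hy hyc hzdef hzS hzc hloc hTc hTn hTN hφ)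
      (fun Q hQ _ hr hsat hne P φ hφ => fix_inner hW2 hGood hfree ih hn' hS hF hy hyc hzdef hzS hzc hloc hQ hr hsat hne hφ)
      (fun Q hQ hQ1 hQS hne hV => fix_quot hW1 hW2 hGood hfree ih hn' hS hF hy hyc hzdef hzS hzc hSC hzle hQ hQ1 hQS hne hV)

end CfsgLib.Fusion
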