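import Cfsg.Agent.Lib.Fusion.Biset
import Mathlib.Algebra.BigOperators.Group.Finset.Basic

/-!
# Right orbits of a stable biset, and the transfer
-/

namespace CfsgLib.Fusion.StableBiset

open Cfsg Cfsg.FusionSystem CfsgLib.Fusion CfsgLib.Fusion.Marks CfsgLib.Fusion.Twist MulAction

universe u

variable {Ω : Type u} [Group Ω] {S : Subgroup Ω} {F : FusionSystem S} {p : ℕ} (B : StableBiset F p)

/-- `x` and `y` differ by right multiplication. -/
def orbSetoid : Setoid B.X where
  r x y := ∃ b : S, ((1, b) : ↥S × ↥S) • x = y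
  iseqv :=
    { refl := fun x => ⟨1, one_smul _ x⟩
      symm := fun {x y} ⟨b, hb⟩ => ⟨b⁻¹, by rw [← hb, smul_smul, Prod.mk_mul_mk, one_mul, inv_mul_cancel, Prod.mk_one_one, one_smul]⟩
      trans := fun {x y z} ⟨b, hb⟩ ⟨b', hb'⟩ => ⟨b' * b, by rw [← hb', ← hb, smul_smul, Prod.mk_mul_mk, one_mul]⟩ }

/-- The right orbits. -/
def Orb : Type u := Quotient B.orbSetoid

instance instFiniteOrb : Finite B.Orb := Finite.of_surjective (Quotient.mk B.orbSetoid) Quotient.mk_surjective

/-- The orbit of a point. -/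
def orb (x : B.X) : B.Orb := Quotient.mk B.orbSetoid x

/-- The chosen point of an orbit. -/
noncomputable def pt (o : B.Orb) : B.X := Quotient.out o

@[simp] theorem orb_pt (o : B.Orb) : B.orb (B.pt o) = o := Quotient.out_eq o

theorem orb_smul (b : S) (x : B.X) : B.orb (((1, b) : ↥S × ↥S) • x) = B.orb x :=
  (Quotient.sound (s := B.orbSetoid) ⟨b, rfl⟩).symm

theorem exists_right (x : B.X) : ∃ b : S, ((1, b) : ↥S × ↥S) • x = B.pt (B.orb x) :=
  Quotient.exact (s := B.orbSetoid) (B.orb_pt (B.orb x)).symm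

theorem right_injective {b b' : S} {x : B.X}
    (h : ((1, b) : ↥S × ↥S) • x = ((1, b') : ↥S × ↥S) • x) : b = b' := by
  have h2 : ((1, b'⁻¹ * b) : ↥S × ↥S) • x = x := by
    rw [← one_mul (1 : S), ← Prod.mk_mul_mk, mul_smul, h, smul_smul, Prod.mk_mul_mk, one_mul,
      inv_mul_cancel, Prod.mk_one_one, one_smul]
  exact (inv_mul_eq_one.mp (B.eq_one_of_fix h2)).symm

theorem smul_split (a b : S) (x : B.X) :
    ((a, b) : ↥S × ↥S) • x = ((1, b) : ↥S × ↥S) • ((a, 1) : ↥S × ↥S) • x := by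
  rw [smul_smul, Prod.mk_mul_mk, one_mul, mul_one]

/-- The permutation of orbits induced by `a`. -/
noncomputable def perm (a : S) (o : B.Orb) : B.Orb := B.orb (((a, 1) : ↥S × ↥S) • B.pt o)

/-- The correcting element: `a · pt o = pt (perm a o) · coeff a o`. -/
noncomputable def coeff (a : S) (o : B.Orb) : S := (B.exists_right (((a, 1) : ↥S × ↥S) • B.pt o)).choose

theorem coeff_spec (a : S) (o : B.Orb) :
    ((a, B.coeff a o) : ↥S × ↥S) • B.pt o = B.pt (B.perm a o) := by
  rw [smul_split]; exact (B.exists_right _).choose_spec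

theorem coeff_eq {a b : S} {o o' : B.Orb} (h : ((a, b) : ↥S × ↥S) • B.pt o = B.pt o') :
    B.perm a o = o' ∧ B.coeff a o = b := by
  have h1 : B.perm a o = o' := by
    rw [← B.orb_pt o', ← h, smul_split, orb_smul]; rfl
  refine ⟨h1, B.right_injective (x := ((a, 1) : ↥S × ↥S) • B.pt o) ?_⟩
  rw [← smul_split, ← smul_split, coeff_spec, h, h1]

theorem perm_mul (a b : S) (o : B.Orb) :
    B.perm (a * b) o = B.perm a (B.perm b o) ∧
      B.coeff (a * b) o = B.coeff a (B.perm b o) * B.coeff b o :=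
  B.coeff_eq (by rw [← Prod.mk_mul_mk, mul_smul, coeff_spec, coeff_spec])

theorem perm_one (o : B.Orb) : B.perm 1 o = o ∧ B.coeff 1 o = 1 :=
  B.coeff_eq (by rw [Prod.mk_one_one, one_smul])

/-- `perm a` as an equivalence. -/
noncomputable def permEquiv (a : S) : B.Orb ≃ B.Orb where
  toFun := B.perm a
  invFun := B.perm a⁻¹
  left_inv o := by rw [← (B.perm_mul a⁻¹ a o).1, inv_mul_cancel, (B.perm_one o).1]
  right_inv o := by rw [← (B.perm_mul a a⁻¹ o).1, mul_inv_cancel, (B.perm_one o).1]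

theorem card_eq : Nat.card B.X = Nat.card B.Orb * Nat.card S := by
  rw [← Nat.card_prod]
  refine (Nat.card_congr (Equiv.ofBijective (fun q : B.Orb × S => ((1, q.2) : ↥S × ↥S) • B.pt q.1) ⟨?_, ?_⟩)).symm
  · rintro ⟨o, b⟩ ⟨o', b'⟩ h
    have ho : o = o' := by simpa [orb_smul] using congrArg B.orb h
    subst ho
    exact Prod.ext rfl (B.right_injective h)
  · intro x
    obtain ⟨b, hb⟩ := B.exists_right x
    exact ⟨(B.orb x, b⁻¹), by
      show ((1, b⁻¹) : ↥S × ↥S) • B.pt (B.orb x) = x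
      rw [← hb, smul_smul, Prod.mk_mul_mk, one_mul, inv_mul_cancel, Prod.mk_one_one, one_smul]⟩

theorem not_dvd_card_orb [Finite S] : ¬ p ∣ Nat.card B.Orb := by
  have h := B.degree
  rwa [B.card_eq, Nat.mul_div_cancel _ Nat.card_pos] at h

/-! ### Transfer -/

variable {A : Type*} [CommGroup A]

/-- The transfer of a homomorphism `S →* A` with commutative target. -/
noncomputable def transfer (h : S →* A) : S →* A where
  toFun a := letI := Fintype.ofFinite B.Orb; ∏ o, h (B.coeff a o)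
  map_one' := Finset.prod_eq_one fun o _ => by rw [(B.perm_one o).2, map_one]
  map_mul' a b := by
    let _ := Fintype.ofFinite B.Orb
    simp only [(B.perm_mul a b _).2, map_mul, Finset.prod_mul_distrib]
    congr 1
    exact Equiv.prod_comp (B.permEquiv b) fun o => h (B.coeff a o)

theorem transfer_apply (h : S →* A) (a : S) [Fintype B.Orb] :
    B.transfer h a = ∏ o, h (B.coeff a o) := by
  show (letI := Fintype.ofFinite B.Orb; ∏ o, h (B.coeff a o)) = _
  exact Finset.prod_congr (by ext; simp) fun _ _ => rfl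

/-- The transfer is invariant under the maps of the system. -/
theorem transfer_stable [Finite S] (h : S →* A) {Q : Subgroup Ω} {ψ : Q →* Ω} (hψ : ψ ∈ F.Hom Q)
    (q : Q) : B.transfer h ⟨ψ q, apply_mem_S hψ q⟩ = B.transfer h ⟨q, le_S hψ q.2⟩ := by
  let _ := Fintype.ofFinite B.Orb
  obtain ⟨e, he⟩ := B.exists_equiv hψ
  have hone : ∀ (b : S) (x : B.X), e (((1, b) : ↥S × ↥S) • x) = ((1, b) : ↥S × ↥S) • e x := by
    intro b x
    have h1 := he 1 b x
    rw [show (⟨((1 : Q) : Ω), le_S hψ (1 : Q).2⟩ : S) = 1 from rfl,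
      show (⟨ψ 1, apply_mem_S hψ 1⟩ : S) = 1 from Subtype.ext (map_one ψ)] at h1
    exact h1
  have hu : ∀ o, ∃ b : S, ((1, b) : ↥S × ↥S) • B.pt (B.orb (e (B.pt o))) = e (B.pt o) := by
    intro o
    obtain ⟨b, hb⟩ := B.exists_right (e (B.pt o))
    exact ⟨b⁻¹, by rw [← hb, smul_smul, Prod.mk_mul_mk, one_mul, inv_mul_cancel, Prod.mk_one_one, one_smul]⟩
  choose u hu using hu
  set π : B.Orb → B.Orb := fun o => B.orb (e (B.pt o)) with hπ
  have hπb : Function.Bijective π := by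
    rw [← Finite.surjective_iff_bijective]
    intro o'
    obtain ⟨b, hb⟩ := B.exists_right (e.symm (B.pt o'))
    refine ⟨B.orb (e.symm (B.pt o')), ?_⟩
    show B.orb (e (B.pt _)) = o'
    rw [← hb, hone, orb_smul, e.apply_symm_apply, orb_pt]
  set a : S := ⟨q, le_S hψ q.2⟩ with ha
  set a' : S := ⟨ψ q, apply_mem_S hψ q⟩ with ha'
  have key : ∀ o, B.coeff a' (π o) = (u (B.perm a o))⁻¹ * B.coeff a o * u o := by
    intro o
    refine (B.coeff_eq (o' := π (B.perm a o)) ?_).2
    have h1 := he q (B.coeff a o) (B.pt o)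
    rw [← ha, ← ha', coeff_spec, ← hu o, ← hu (B.perm a o), smul_smul, Prod.mk_mul_mk, mul_one] at h1
    have h2 := congrArg (fun x => ((1, (u (B.perm a o))⁻¹) : ↥S × ↥S) • x) h1
    simp only [smul_smul, Prod.mk_mul_mk, one_mul, inv_mul_cancel, Prod.mk_one_one, one_smul, ← mul_assoc] at h2
    exact h2.symm
  rw [transfer_apply, transfer_apply, ← Equiv.prod_comp (Equiv.ofBijective π hπb)]
  simp only [Equiv.ofBijective_apply, key, map_mul, map_inv, Finset.prod_mul_distrib,
    Finset.prod_inv_distrib]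
  rw [show ∏ o, h (u (B.perm a o)) = ∏ o, h (u o) from
    Equiv.prod_comp (B.permEquiv a) fun o => h (u o)]
  rw [mul_comm, ← mul_assoc, mul_inv_cancel, one_mul]

theorem focalSubgroup_le (F : FusionSystem S) : F.focalSubgroup ≤ S := by
  rw [FusionSystem.focalSubgroup, Subgroup.closure_le]
  rintro _ ⟨P, φ, x, hφ, rfl⟩
  exact S.mul_mem (S.inv_mem (le_S hφ x.2)) (apply_mem_S hφ x)

/-- The focal subgroup lies in the kernel of every transfer. -/
theorem focalSubgroup_subgroupOf_le_ker [Finite S] (h : S →* A) :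
    F.focalSubgroup.subgroupOf S ≤ (B.transfer h).ker := by
  suffices F.focalSubgroup ≤ (B.transfer h).ker.map S.subtype by
    intro x hx
    obtain ⟨y, hy, e⟩ := this hx
    rwa [← S.subtype_injective e]
  rw [FusionSystem.focalSubgroup, Subgroup.closure_le]
  rintro _ ⟨P, φ, x, hφ, rfl⟩
  refine ⟨(⟨x, le_S hφ x.2⟩ : S)⁻¹ * ⟨φ x, apply_mem_S hφ x⟩, ?_, rfl⟩
  rw [SetLike.mem_coe, MonoidHom.mem_ker, map_mul, map_inv, B.transfer_stable h hφ x, inv_mul_cancel]

/-- The transfer of an invariant homomorphism is its `|X/S|`-th power. -/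
theorem transfer_eq_pow [Finite S] (h : S →* A)
    (hh : ∀ (P : Subgroup Ω) (φ : P →* Ω) (hφ : φ ∈ F.Hom P) (x : P),
      h ⟨φ x, apply_mem_S hφ x⟩ = h ⟨x, le_S hφ x.2⟩) (a : S) :
    B.transfer h a = h a ^ Nat.card B.Orb := by
  classical
  let _ := Fintype.ofFinite B.Orb
  let d : ↥S × ↥S →* A :=
    { toFun := fun g => h g.1 * (h g.2)⁻¹
      map_one' := by simp
      map_mul' := fun g g' => by simp [mul_inv_rev, mul_comm, mul_assoc, mul_left_comm] }
  let R := MulAction.orbitRel.Quotient (↥S × ↥S) B.X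
  let base : B.X → B.X := fun x => (Quotient.mk (MulAction.orbitRel (↥S × ↥S) B.X) x).out
  have hbase : ∀ x, ∃ g : ↥S × ↥S, g • base x = x := by
    intro x
    have : base x ∈ orbit (↥S × ↥S) x := Quotient.mk_out (s := MulAction.orbitRel (↥S × ↥S) B.X) x
    obtain ⟨g, hg⟩ := this
    exact ⟨g⁻¹, by rw [← hg]; simp⟩
  choose gg hgg using hbase
  have hstab : ∀ (x : B.X) (g : ↥S × ↥S), g • x = x → d g = 1 := by
    intro x g hg
    obtain ⟨P, ψ, hψ, φ, hφ, he⟩ := B.isTw_stab x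
    obtain ⟨y, hy₁, hy₂⟩ := he.le hg
    show h g.1 * (h g.2)⁻¹ = 1
    rw [mul_inv_eq_one, show g.1 = ⟨ψ y, apply_mem_S hψ y⟩ from Subtype.ext hy₁,
      show g.2 = ⟨φ y, apply_mem_S hφ y⟩ from Subtype.ext hy₂, hh P ψ hψ y, hh P φ hφ y]
  have hg : ∀ (g : ↥S × ↥S) (x : B.X), d (gg (g • x)) = d g * d (gg x) := by
    intro g x
    have hb : base (g • x) = base x :=
      congrArg Quotient.out (Quotient.sound (s := MulAction.orbitRel (↥S × ↥S) B.X) ⟨g, rfl⟩)
    have h1 : ((gg (g • x))⁻¹ * (g * gg x)) • base x = base x := by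
      rw [mul_smul, mul_smul, hgg, inv_smul_eq_iff, ← hb, hgg]
    have h2 := hstab _ _ h1
    rw [map_mul, map_inv, inv_mul_eq_one, map_mul] at h2
    exact h2
  have hc : ∀ o, h (B.coeff a o) = h a * d (gg (B.pt o)) * (d (gg (B.pt (B.perm a o))))⁻¹ := by
    intro o
    rw [← B.coeff_spec a o, hg]
    show _ = _ * _ * (h a * (h (B.coeff a o))⁻¹ * _)⁻¹
    simp [mul_inv_rev, mul_comm, mul_left_comm]
  rw [transfer_apply]
  simp only [hc, Finset.prod_mul_distrib, Finset.prod_inv_distrib]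
  rw [show ∏ o, d (gg (B.pt (B.perm a o))) = ∏ o, d (gg (B.pt o)) from
    Equiv.prod_comp (B.permEquiv a) fun o => d (gg (B.pt o))]
  rw [mul_assoc, mul_inv_cancel, mul_one, Finset.prod_const, Finset.card_univ, Nat.card_eq_fintype_card]

end CfsgLib.Fusion.StableBiset
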