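import Cfsg.Agent.Lib.Fusion.FunctorInner
import Cfsg.Agent.Lib.Fusion.Hyperfocal
import Cfsg.Agent.Lib.Fusion.Transfer

/-!
# Control of transfer by functors
-/

namespace CfsgLib.Fusion.StableBiset

open Cfsg Cfsg.FusionSystem CfsgLib.Fusion CfsgLib.Fusion.Marks CfsgLib.Fusion.Twist MulAction

universe u

variable {Ω : Type u} [Group Ω] {S : Subgroup Ω} {F : FusionSystem S} {p : ℕ} (B : StableBiset F p)
variable {A : Type*} [CommGroup A]

/-- The transfer is a power on a subgroup whose elements `h` does not separate from their conjugates. -/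
theorem transfer_eq_pow_of_mem [Finite S] (h : S →* A) (A₀ : Subgroup S)
    (hh : ∀ (P : Subgroup Ω) (ψ φ : P →* Ω) (hψ : ψ ∈ F.Hom P) (hφ : φ ∈ F.Hom P) (y : P),
      (⟨ψ y, apply_mem_S hψ y⟩ : S) ∈ A₀ → h ⟨ψ y, apply_mem_S hψ y⟩ = h ⟨φ y, apply_mem_S hφ y⟩)
    (a : S) (ha : a ∈ A₀) : B.transfer h a = h a ^ Nat.card B.Orb := by
  classical
  let _ := Fintype.ofFinite B.Orb
  let d : ↥S × ↥S →* A :=
    { toFun := fun g => h g.1 * (h g.2)⁻¹
      map_one' := by simp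
      map_mul' := fun g g' => by simp [mul_comm, mul_assoc, mul_left_comm] }
  let G₀ : Subgroup (↥S × ↥S) := A₀.prod ⊤
  let base : B.X → B.X := fun x => (Quotient.mk (MulAction.orbitRel G₀ B.X) x).out
  have hbase : ∀ x, ∃ g : G₀, g • base x = x := by
    intro x
    have : base x ∈ orbit G₀ x := Quotient.mk_out (s := MulAction.orbitRel G₀ B.X) x
    obtain ⟨g, hg⟩ := this
    exact ⟨g⁻¹, by rw [← hg]; exact inv_smul_smul g x⟩
  choose gg hgg using hbase
  have hstab : ∀ (x : B.X) (g : G₀), g • x = x → d g = 1 := by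
    intro x g hg
    obtain ⟨P, ψ, hψ, φ, hφ, he⟩ := B.isTw_stab x
    obtain ⟨y, hy₁, hy₂⟩ := he.le (show (g : ↥S × ↥S) ∈ stabilizer (↥S × ↥S) x from hg)
    show h (g : ↥S × ↥S).1 * (h (g : ↥S × ↥S).2)⁻¹ = 1
    rw [mul_inv_eq_one, show (g : ↥S × ↥S).1 = ⟨ψ y, apply_mem_S hψ y⟩ from Subtype.ext hy₁,
      show (g : ↥S × ↥S).2 = ⟨φ y, apply_mem_S hφ y⟩ from Subtype.ext hy₂]
    refine hh P ψ φ hψ hφ y ?_
    rw [← show (g : ↥S × ↥S).1 = ⟨ψ y, apply_mem_S hψ y⟩ from Subtype.ext hy₁]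
    exact (Subgroup.mem_prod.mp g.2).1
  have hg : ∀ (g : G₀) (x : B.X), d (gg (g • x)) = d g * d (gg x) := by
    intro g x
    have hb : base (g • x) = base x :=
      congrArg Quotient.out (Quotient.sound (s := MulAction.orbitRel G₀ B.X) ⟨g, rfl⟩)
    have h1 : ((gg (g • x))⁻¹ * (g * gg x)) • base x = base x := by
      rw [mul_smul, mul_smul, hgg, inv_smul_eq_iff, ← hb, hgg]
    have h2 := hstab _ _ h1
    simp only [Subgroup.coe_mul, Subgroup.coe_inv, map_mul, map_inv, inv_mul_eq_one] at h2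
    exact h2
  have hc : ∀ o, h (B.coeff a o) = h a * d (gg (B.pt o)) * (d (gg (B.pt (B.perm a o))))⁻¹ := by
    intro o
    have h1 := hg ⟨(a, B.coeff a o), Subgroup.mem_prod.mpr ⟨ha, Subgroup.mem_top _⟩⟩ (B.pt o)
    rw [show ((⟨(a, B.coeff a o), Subgroup.mem_prod.mpr ⟨ha, Subgroup.mem_top _⟩⟩ : G₀) • B.pt o) =
      B.pt (B.perm a o) from B.coeff_spec a o] at h1
    rw [h1]
    show _ = _ * _ * (h a * (h (B.coeff a o))⁻¹ * _)⁻¹
    simp [mul_comm, mul_left_comm]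
  rw [transfer_apply]
  simp only [hc, Finset.prod_mul_distrib, Finset.prod_inv_distrib]
  rw [show ∏ o, d (gg (B.pt (B.perm a o))) = ∏ o, d (gg (B.pt o)) from
    Equiv.prod_comp (B.permEquiv a) fun o => d (gg (B.pt o))]
  rw [mul_assoc, mul_inv_cancel, mul_one, Finset.prod_const, Finset.card_univ, Nat.card_eq_fintype_card]

end CfsgLib.Fusion.StableBiset

namespace CfsgLib.Fusion

open Cfsg Cfsg.FusionSystem CfsgLib.FusionFactor
open scoped commutatorElement

universe u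

variable {Ω : Type u} [Group Ω] {S : Subgroup Ω} {F : FusionSystem S} {p : ℕ} [Finite S] [Fact p.Prime]
  {W : ∀ (Q : Type u) [Group Q], Subgroup Q} {H : Subgroup Ω} {n : ℕ}

/-- The maps moving elements only inside their cosets of `H`. -/
def cosetSystem (F : FusionSystem S) (H : Subgroup Ω) (hH : ⁅S, S⁆ ≤ H) : FusionSystem S where
  Hom P := {φ | φ ∈ F.Hom P ∧ ∀ x : P, (x : Ω)⁻¹ * φ x ∈ H}
  le_of_mem h := F.le_of_mem h.1
  injective_of_mem h := F.injective_of_mem h.1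
  conj_mem := by
    intro P g hP hg
    refine ⟨F.conj_mem hP hg, fun x => ?_⟩
    show (x : Ω)⁻¹ * (g * (x : Ω) * g⁻¹) ∈ H
    rw [show (x : Ω)⁻¹ * (g * (x : Ω) * g⁻¹) = ⁅(x : Ω)⁻¹, g⁆ by rw [commutatorElement_def]; group]
    exact hH (Subgroup.commutator_mem_commutator (S.inv_mem (hP x.2)) hg)
  comp_mem := by
    rintro P R φ ψ ⟨hφ, hφ'⟩ ⟨hψ, hψ'⟩ h
    refine ⟨F.comp_mem hφ hψ h, fun x => ?_⟩
    show (x : Ω)⁻¹ * ψ ⟨φ x, h x⟩ ∈ H
    have := H.mul_mem (hφ' x) (hψ' ⟨φ x, h x⟩)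
    rwa [mul_assoc, mul_inv_cancel_left] at this
  inv_mem := by
    rintro P φ ⟨hφ, hφ'⟩
    obtain ⟨ψ, hψ, hψe⟩ := F.inv_mem hφ
    refine ⟨ψ, ⟨hψ, ?_⟩, hψe⟩
    rintro ⟨_, x, rfl⟩
    rw [hψe x]
    have := H.inv_mem (hφ' x)
    rwa [mul_inv_rev, inv_inv] at this

theorem focal_le_iff {K : Subgroup Ω} :
    F.focalSubgroup ≤ K ↔ ∀ P φ, φ ∈ F.Hom P → ∀ x : P, (x : Ω)⁻¹ * φ x ∈ K := by
  constructor
  · exact fun h P φ hφ x => h (Subgroup.subset_closure ⟨P, φ, x, hφ, rfl⟩)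
  · intro h
    rw [FusionSystem.focalSubgroup, Subgroup.closure_le]
    rintro _ ⟨P, φ, x, hφ, rfl⟩
    exact h P φ hφ x

/-- The statement proved by induction on the size of `F`. -/
def FocalBelow (p : ℕ) (W : ∀ (Q : Type u) [Group Q], Subgroup Q) (n : ℕ) : Prop :=
  ∀ {Ω : Type u} [Group Ω] {S : Subgroup Ω} [Finite S] (F : FusionSystem S),
    sysSize F < n → IsPGroup p S → F.IsSaturated p → ∀ H : Subgroup Ω, ⁅S, S⁆ ≤ H →
    (∀ P φ, φ ∈ F.normalizerHom (charSub W S) P → ∀ x : P, (x : Ω)⁻¹ * φ x ∈ H) →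
    F.focalSubgroup ≤ H

theorem focal_proper (hW1 : ∀ (Q : Type u) [Group Q] [Finite Q], IsPGroup p Q → Nontrivial Q → W Q ≠ ⊥)
    (hW2 : ∀ (Q R : Type u) [Group Q] [Group R] [Finite Q], IsPGroup p Q → ∀ φ : Q ≃* R,
      (W Q).map φ.toMonoidHom = W R)
    (ih : FocalBelow p W n) (hn : sysSize F ≤ n) (hS : IsPGroup p S) (hF : F.IsSaturated p)
    (hH : ⁅S, S⁆ ≤ H) (hloc : ∀ P φ, φ ∈ F.normalizerHom (charSub W S) P → ∀ x : P, (x : Ω)⁻¹ * φ x ∈ H)
    {U : Subgroup Ω} (hU : U ≠ ⊥) (hUn : F.IsFullyNormalized U) {N : FusionSystem (normalizerIn S U)}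
    (hN : F.IsNormalizerSystem U N) (hne : ∃ P φ, φ ∈ F.Hom P ∧ φ ∉ N.Hom P)
    (hbig : normalizerIn S U ≠ S → ∀ V : Subgroup Ω, V ≠ ⊥ → V ≤ normalizerIn S U →
      normalizerIn S (normalizerIn S U) ≤ Subgroup.normalizer (V : Set Ω) →
      ∀ P φ, φ ∈ F.normalizerHom V P → ∀ x : P, (x : Ω)⁻¹ * φ x ∈ H) :
    ∀ P φ, φ ∈ N.Hom P → ∀ x : P, (x : Ω)⁻¹ * φ x ∈ H := by
  have hsub : ∀ P φ, φ ∈ N.Hom P → φ ∈ F.Hom P := fun P φ h => ((hN P).le h).1
  have := finite_of_le (normalizerIn_le (S := S) (P := U))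
  have hlt := sysSize_lt_of_sub hsub hne
  have hMp : IsPGroup p (normalizerIn S U) := hS.to_le normalizerIn_le
  have hG := ih N (by omega) hMp (normalizerSystem_saturated hS hF hUn hN) (H ⊓ normalizerIn S U)
    (le_inf ((Subgroup.commutator_mono normalizerIn_le normalizerIn_le).trans hH)
      (Subgroup.commutator_le_self _)) fun P φ hφ x => by
    refine ⟨?_, Subgroup.mul_mem _ (Subgroup.inv_mem _ (le_S hφ.1 x.2)) (apply_mem_S hφ.1 x)⟩
    have h := locHom_mono (F := F) normalizerIn_le hsub true hφ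
    by_cases hM : normalizerIn S U = S
    · rw [hM] at h; exact hloc P φ h x
    · exact hbig hM _ (charSub_ne_bot hW1 hMp fun e => hU
        (le_bot_iff.mp ((le_normalizerIn hUn.1).trans e.le))) (charSub_le _)
        (inf_le_right.trans (charSub_le_normalizer hW2 hMp)) P φ h x
  intro P φ hφ x
  exact (focal_le_iff.mp hG P φ hφ x).1

/-- If all maps act on the normal subgroup `Q` as elements of `S`, the elements of `Q` in the focal subgroup
lie in every `H` containing `[S, S]`. -/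
theorem inf_focal_le_of_inner (hS : IsPGroup p S) (hF : F.IsSaturated p) {Q : Subgroup Ω} (hQ : F.IsNormal Q)
    (hne : ∀ P φ, φ ∈ F.Hom P → φ ∈ extHom F Q (autInducedBy S Q) S P) (hH : ⁅S, S⁆ ≤ H) :
    Q ⊓ F.focalSubgroup ≤ H := by
  obtain ⟨B⟩ := exists_biset hS hF
  have hcomm : commutator ↥S ≤ H.subgroupOf S := by
    rw [commutator_def, Subgroup.commutator_le]
    intro a _ b _
    exact hH (Subgroup.commutator_mem_commutator a.2 b.2)
  let K : Subgroup (Abelianization ↥S) := (H.subgroupOf S).map Abelianization.of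
  let h : ↥S →* Abelianization ↥S ⧸ K := (QuotientGroup.mk' K).comp Abelianization.of
  have hker : ∀ s : S, h s = 1 → (s : Ω) ∈ H := by
    intro s hs
    obtain ⟨t, ht, hte⟩ := (QuotientGroup.eq_one_iff _).mp hs
    have h1 : t⁻¹ * s ∈ (Abelianization.of (G := ↥S)).ker := by
      rw [MonoidHom.mem_ker, map_mul, map_inv, hte, inv_mul_cancel]
    rw [Abelianization.ker_of] at h1
    have := (H.subgroupOf S).mul_mem ht (hcomm h1)
    rwa [mul_inv_cancel_left] at this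
  have hA := IsNormal.stronglyClosed hQ
  rintro q ⟨hq, hqf⟩
  have hqS : q ∈ S := hQ.1 hq
  have h1 := StableBiset.focalSubgroup_subgroupOf_le_ker B h (show (⟨q, hqS⟩ : S) ∈ F.focalSubgroup.subgroupOf S from hqf)
  rw [MonoidHom.mem_ker, StableBiset.transfer_eq_pow_of_mem B h (Q.subgroupOf S) ?_ ⟨q, hqS⟩ hq] at h1
  · refine hker ⟨q, hqS⟩ ?_
    obtain ⟨k, hk⟩ := hS ⟨q, hqS⟩
    have h2 : h ⟨q, hqS⟩ ^ p ^ k = 1 := by rw [← map_pow, hk, map_one]
    exact orderOf_eq_one_iff.mp (Nat.eq_one_of_dvd_coprimes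
      ((CfsgLib.PCore.coprime_of_not_dvd_card B.not_dvd_card_orb).pow_right k)
      (orderOf_dvd_of_pow_eq_one h1) (orderOf_dvd_of_pow_eq_one h2))
  · intro P ψ φ hψ hφ y hy
    have key : ∀ (χ : P →* Ω) (hχ : χ ∈ F.Hom P), (y : Ω) ∈ Q →
        h ⟨χ y, apply_mem_S hχ y⟩ = h ⟨y, le_S hψ y.2⟩ := by
      intro χ hχ hyQ
      obtain ⟨-, -, -, ρ, hρ, hρe, κ, hκ, hκe⟩ := hne P χ hχ
      obtain ⟨s, hs, hse⟩ := mem_autInducedBy.mp hκ
      have e : χ y = s * y * s⁻¹ := by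
        rw [← hse ⟨y, hyQ⟩, ← hκe ⟨y, hyQ⟩, ← hρe y]
        exact apply_eq_of_coe_eq rfl
      rw [show (⟨χ y, apply_mem_S hχ y⟩ : S) = ⟨s, hs⟩ * ⟨y, le_S hψ y.2⟩ * (⟨s, hs⟩ : S)⁻¹ from Subtype.ext e,
        map_mul, map_mul, map_inv, mul_comm (h ⟨s, hs⟩), mul_assoc, mul_inv_cancel, mul_one]
    have hyQ : (y : Ω) ∈ Q := (CfsgLib.FusionExtend.sc_apply_iff hA hψ y).mp hy
    rw [key ψ hψ hyQ, key φ hφ hyQ]

/-- In a constrained system whose models satisfy the local condition, the elements of `Q` in the focal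
subgroup lie in `H`. -/
theorem inf_focal_le_of_model (hW2 : ∀ (Q R : Type u) [Group Q] [Group R] [Finite Q], IsPGroup p Q → ∀ φ : Q ≃* R,
      (W Q).map φ.toMonoidHom = W R)
    (hmodel : ∀ (L : Type u) [Group L] [Finite L] (T : Sylow p L),
      Subgroup.centralizer ((pCore p L : Subgroup L) : Set L) ≤ pCore p L →
      pCore p L ⊓ commutator L ≤ (commutator ↥(Subgroup.normalizer (charSub W (T : Subgroup L) : Set L))).map
        (Subgroup.normalizer (charSub W (T : Subgroup L) : Set L)).subtype)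
    (hS : IsPGroup p S) (hF : F.IsSaturated p) {Q T : Subgroup Ω} (hQ : F.IsNormal Q)
    (hTc : F.IsCentric T) (hTn : F.IsFullyNormalized T) (hTN : normalizerIn S T = S)
    (hall : ∀ P φ, φ ∈ F.Hom P → φ ∈ F.normalizerHom T P)
    (hloc : ∀ P φ, φ ∈ F.normalizerHom (charSub W S) P → ∀ x : P, (x : Ω)⁻¹ * φ x ∈ H) :
    Q ⊓ F.focalSubgroup ≤ H := by
  obtain ⟨N, hN⟩ := exists_normalizerSystem (F := F) hTn.1
  obtain ⟨L, _, ι, hL⟩ := exists_model_normalizer hS hF hTn hTc hN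
  have := hL.1
  obtain ⟨T₀, hT₀⟩ := hL.2.2.1
  have := finite_of_le (normalizerIn_le (S := S) (P := T))
  obtain ⟨M, hMd⟩ : ∃ M, M = normalizerIn S T := ⟨_, rfl⟩
  have hMp : IsPGroup p (normalizerIn S T) := hS.to_le normalizerIn_le
  have hsub : ∀ P φ, φ ∈ N.Hom P → φ ∈ F.Hom P := fun P φ h => ((hN P).le h).1
  have hSM : S ≤ normalizerIn S T := hTN.ge
  have hQN : N.IsNormal Q := ⟨hQ.1.trans hSM, fun P φ hφ => by
    obtain ⟨ψ, hψ, hψe, hψQ⟩ := hQ.2 P φ (hsub _ _ hφ)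
    exact ⟨ψ, (hN _).ge (hall _ _ hψ), hψe, hψQ⟩⟩
  have hQn := normal_image_of_isNormal hL hQN
  have hQO : (Q.subgroupOf (normalizerIn S T)).map ι ≤ pCore p L :=
    CfsgLib.PCore.le_pCore hQn ((hMp.to_subgroup _).map ι)
  have hfoc : F.focalSubgroup ≤ ((commutator L).comap ι).map (normalizerIn S T).subtype := by
    rw [focal_le_iff]
    intro P φ hφ x
    have hφN := (hN P).ge (hall P φ hφ)
    obtain ⟨l, hl⟩ := realized_conj hL.2.1 hφN
    refine ⟨(⟨x, le_S hφN x.2⟩ : normalizerIn S T)⁻¹ * ⟨φ x, apply_mem_S hφN x⟩, ?_, rfl⟩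
    show ι _ ∈ commutator L
    rw [map_mul, map_inv, hl x, show ∀ a : L, a⁻¹ * (l * a * l⁻¹) = ⁅a⁻¹, l⁆ from fun a => by
      rw [commutatorElement_def]; group]
    exact Subgroup.commutator_mem_commutator (Subgroup.mem_top _) (Subgroup.mem_top _)
  rintro q ⟨hq, hqf⟩
  obtain ⟨⟨q', hqM⟩, hqc, rfl⟩ := hfoc hqf
  obtain ⟨⟨c, hcN⟩, hc, hce⟩ := hmodel L T₀ hL.2.2.2 ⟨hQO ⟨⟨q', hqM⟩, hq, rfl⟩, hqc⟩
  obtain ⟨K, hKd⟩ : ∃ K, K = Subgroup.normalizer (charSub W (T₀ : Subgroup L) : Set L) := ⟨_, rfl⟩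
  have hTK : (T₀ : Subgroup L) ≤ Subgroup.normalizer (charSub W (T₀ : Subgroup L) : Set L) :=
    Subgroup.le_normalizer.trans (charSub_le_normalizer hW2 T₀.isPGroup')
  have hcT : c ∈ (T₀ : Subgroup L) := by
    rw [show c = ι ⟨q', hqM⟩ from hce, hT₀]; exact ⟨_, rfl⟩
  have hcf := (Subgroup.commutator_inf_eq_focalSubgroup (T₀.subtype hTK)).le
    ⟨hc, by rw [Sylow.coe_subtype]; exact hcT⟩
  have key : (T₀.subtype hTK : Subgroup _).focalSubgroup ≤
      ((H.subgroupOf (normalizerIn S T)).map ι).comap (Subgroup.normalizer (charSub W (T₀ : Subgroup L) : Set L)).subtype := by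
    rw [Subgroup.focalSubgroup, Subgroup.closure_le]
    rintro _ ⟨hgP, ⟨a, haK⟩, haP, ⟨w, hwK⟩, rfl⟩
    rw [Sylow.coe_subtype] at hgP haP
    have hgP' : a * w * a⁻¹ * w⁻¹ ∈ ι.range := hT₀.le hgP
    obtain ⟨⟨x, hxM⟩, hxa⟩ := hT₀.le (show a ∈ (T₀ : Subgroup L) from haP)
    obtain ⟨X, hXd⟩ : ∃ X, X = charSub W (normalizerIn S T) := ⟨_, rfl⟩
    have hXM : X ≤ normalizerIn S T := hXd ▸ charSub_le _
    have hwX : w ∈ Subgroup.normalizer (((X.subgroupOf (normalizerIn S T)).map ι : Subgroup L) : Set L) := by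
      rw [hXd, charSub_map hW2 hMp ι hL.2.1.1, ← hT₀]; exact hwK
    have hle : Subgroup.zpowers x ⊔ X ≤ normalizerIn S T := sup_le (Subgroup.zpowers_le.mpr hxM) hXM
    have hwa : w * a⁻¹ * w⁻¹ ∈ ι.range := by
      have := ι.range.mul_mem (ι.range.inv_mem ⟨⟨x, hxM⟩, hxa⟩) hgP'
      convert this using 1
      group
    have hmem : ∀ y : ↥(Subgroup.zpowers x ⊔ X), w * ι ⟨y, hle y.2⟩ * w⁻¹ ∈ ι.range := by
      intro y
      have hy : Subgroup.zpowers x ⊔ X ≤
          ((ι.range.comap (MulAut.conj w).toMonoidHom).comap ι).map (normalizerIn S T).subtype := by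
        refine sup_le (Subgroup.zpowers_le.mpr ⟨⟨x, hxM⟩, ?_, rfl⟩) fun b hb => ⟨⟨b, hXM hb⟩, ?_, rfl⟩
        · show w * ι ⟨x, hxM⟩ * w⁻¹ ∈ ι.range
          have h2 := ι.range.inv_mem hwa
          rw [hxa]
          convert h2 using 1
          group
        · exact Subgroup.map_le_range ι _ ((Subgroup.mem_normalizer_iff.mp hwX _).mp ⟨⟨b, hXM hb⟩, hb, rfl⟩)
      obtain ⟨e, he, hey⟩ := hy y.2
      rw [show (⟨(y : Ω), hle y.2⟩ : normalizerIn S T) = e from Subtype.ext hey.symm]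
      exact he
    obtain ⟨ψ, hψ, hψe⟩ := realized_exists_map hL.2.1 hle w hmem
    have hψX : ψ ∈ F.normalizerHom X (Subgroup.zpowers x ⊔ X) :=
      mem_normalizerHom (hsub _ _ hψ) le_sup_right
        (le_inf (hle.trans normalizerIn_le) (hXd ▸ hle.trans (Subgroup.le_normalizer.trans
          (charSub_le_normalizer hW2 hMp))))
        fun y hy => by
          obtain ⟨b, hb, hbe⟩ := (Subgroup.mem_normalizer_iff.mp hwX _).mp ⟨⟨y, hXM hy⟩, hy, rfl⟩
          have e := hL.2.1.1 (hbe.trans (hψe y (apply_mem_S hψ y)).symm)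
          rw [show ψ y = (b : Ω) from (congrArg Subtype.val e).symm]
          exact hb
    have hXS : X = charSub W S := by rw [hXd, hTN]
    obtain ⟨z, hz⟩ : ∃ z : ↥(Subgroup.zpowers x ⊔ X),
        z = (⟨x, Subgroup.mem_sup_left (Subgroup.mem_zpowers x)⟩ : ↥(Subgroup.zpowers x ⊔ X))⁻¹ := ⟨_, rfl⟩
    have hlocX : ∀ P φ, φ ∈ F.normalizerHom X P → ∀ x : P, (x : Ω)⁻¹ * φ x ∈ H := by rw [hXS]; exact hloc
    have hzH := hlocX _ ψ hψX z
    refine ⟨(⟨(z : Ω), hle z.2⟩ : normalizerIn S T)⁻¹ * ⟨ψ z, apply_mem_S hψ z⟩, hzH, ?_⟩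
    rw [map_mul, map_inv, hψe z (apply_mem_S hψ z),
      show (⟨(z : Ω), hle z.2⟩ : normalizerIn S T) = (⟨x, hxM⟩ : normalizerIn S T)⁻¹ from
        Subtype.ext (by rw [hz]; rfl), map_inv, hxa]
    show _ = a * w * a⁻¹ * w⁻¹
    group
  obtain ⟨b, hb, hbe⟩ := key hcf
  have : b = ⟨q', hqM⟩ := hL.2.1.1 (hbe.trans hce)
  rw [this] at hb
  exact hb

/-- Control of transfer. -/
theorem focal_le_of_functor (hW1 : ∀ (Q : Type u) [Group Q] [Finite Q], IsPGroup p Q → Nontrivial Q → W Q ≠ ⊥)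
    (hW2 : ∀ (Q R : Type u) [Group Q] [Group R] [Finite Q], IsPGroup p Q → ∀ φ : Q ≃* R,
      (W Q).map φ.toMonoidHom = W R)
    (hmodel : ∀ (L : Type u) [Group L] [Finite L] (T : Sylow p L),
      Subgroup.centralizer ((pCore p L : Subgroup L) : Set L) ≤ pCore p L →
      pCore p L ⊓ commutator L ≤ (commutator ↥(Subgroup.normalizer (charSub W (T : Subgroup L) : Set L))).map
        (Subgroup.normalizer (charSub W (T : Subgroup L) : Set L)).subtype)
    (hS : IsPGroup p S) (hF : F.IsSaturated p) (hH : ⁅S, S⁆ ≤ H)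
    (hloc : ∀ P φ, φ ∈ F.normalizerHom (charSub W S) P → ∀ x : P, (x : Ω)⁻¹ * φ x ∈ H) :
    F.focalSubgroup ≤ H := by
  suffices H' : ∀ n, FocalBelow p W n from H' _ F (Nat.lt_succ_self _) hS hF H hH hloc
  intro n
  induction n with
  | zero => intro _ _ _ _ F h; omega
  | succ n ih =>
    intro Ω _ S _ F hn hS hF H₀ hH₀ hloc₀
    obtain ⟨H, hHd⟩ : ∃ H, H = H₀ ⊓ F.focalSubgroup := ⟨_, rfl⟩
    suffices hgoal : F.focalSubgroup ≤ H from hgoal.trans (hHd.le.trans inf_le_left)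
    have hHf : H ≤ F.focalSubgroup := hHd.le.trans inf_le_right
    have hH : ⁅S, S⁆ ≤ H := hHd ▸ le_inf hH₀ (commutator_le_focal F)
    have hloc : ∀ P φ, φ ∈ F.normalizerHom (charSub W S) P → ∀ x : P, (x : Ω)⁻¹ * φ x ∈ H :=
      fun P φ hφ x => hHd ▸ ⟨hloc₀ P φ hφ x, Subgroup.subset_closure ⟨P, φ, x, hφ.1, rfl⟩⟩
    have hn' : sysSize F ≤ n := by omega
    by_cases hS1 : S = ⊥
    · subst hS1
      rw [focal_le_iff]
      intro P φ hφ x
      rw [Subgroup.mem_bot.mp (le_S hφ x.2), Subgroup.mem_bot.mp (apply_mem_S hφ x), inv_one, one_mul]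
      exact H.one_mem
    have hE : ∀ P φ, φ ∈ (cosetSystem F H hH).Hom P → ∀ x : P, (x : Ω)⁻¹ * φ x ∈ H := fun P φ h => h.2
    by_cases hcore : F.core = ⊥
    · rw [focal_le_iff]
      suffices hFE : F ≤ cosetSystem F H hH from fun P φ hφ => hE P φ (hFE P hφ)
      refine le_of_local hS hF hS1 _ fun U hU hUn hbig P φ hφ => ⟨hφ.1, ?_⟩
      obtain ⟨N, hN⟩ := exists_normalizerSystem (F := F) hUn.1
      refine focal_proper hW1 hW2 ih hn' hS hF hH hloc hU hUn hN ?_ (fun hM V hV hVM hVn P φ hφ => ?_) P φ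
        ((hN P).ge hφ)
      · by_contra h
        push Not at h
        have hUnorm : F.IsNormal U := ⟨hUn.1, fun P φ hφ => by
          obtain ⟨-, -, -, ψ, hψ, hψe, hψU⟩ := (hN P).le (h P φ hφ)
          exact ⟨ψ, hψ, hψe, hψU⟩⟩
        exact hU (le_bot_iff.mp (hcore ▸ (show U ≤ F.core from le_sSup hUnorm)))
      · refine hE P φ (hbig V hV (hVM.trans normalizerIn_le) ?_ P φ hφ)
        have := finite_of_le (normalizerIn_le (S := S) (P := V))
        refine lt_of_lt_of_le ?_ (Subgroup.card_le_of_le (le_inf normalizerIn_le hVn))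
        have hlt := lt_normalizerIn hS le_rfl (lt_of_le_of_ne normalizerIn_le hM)
        have := finite_of_le (normalizerIn_le (S := S) (P := normalizerIn S U))
        exact lt_of_not_ge fun h => hlt.ne (eq_of_le_of_card_le hlt.le h)
    · obtain ⟨Q, hQd⟩ : ∃ Q, Q = F.core := ⟨_, rfl⟩
      have hQ : F.IsNormal Q := hQd ▸ CfsgLib.FusionExt.isNormal_core F
      have hQ1 : Q ≠ ⊥ := fun e => hcore (hQd.symm.trans e)
      have hV : ∀ V : Subgroup Ω, V ≤ S → S ≤ Subgroup.normalizer (V : Set Ω) → V ≠ ⊥ →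
          (∃ P φ, φ ∈ F.Hom P ∧ φ ∉ F.normalizerHom V P) →
          ∀ P φ, φ ∈ F.normalizerHom V P → ∀ x : P, (x : Ω)⁻¹ * φ x ∈ H := by
        intro V hVS hVn hV1 hne P φ hφ
        have hNV : normalizerIn S V = S := inf_eq_left.mpr hVn
        have hVfn : F.IsFullyNormalized V := ⟨hVS, fun R _ => by
          rw [hNV]; exact Subgroup.card_le_of_le normalizerIn_le⟩
        obtain ⟨N, hN⟩ := exists_normalizerSystem (F := F) hVS
        obtain ⟨P₀, φ₀, h1, h2⟩ := hne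
        exact focal_proper hW1 hW2 ih hn' hS hF hH hloc hV1 hVfn hN ⟨P₀, φ₀, h1, fun h => h2 ((hN P₀).le h)⟩
          (fun h => absurd hNV h) P φ ((hN P).ge hφ)
      obtain ⟨hTc, hTn, hTN, -⟩ := normal_mul_centralizer hQ
      suffices hQf : Q ⊓ F.focalSubgroup ≤ H by
        by_cases hQS : Q = S
        · exact (le_inf (StableBiset.focalSubgroup_le F |>.trans hQS.ge) le_rfl).trans hQf
        have hQn : (Q.subgroupOf S).Normal :=
          (Subgroup.normal_subgroupOf_iff_le_normalizer hQ.1).mpr (le_normalizer_of_isNormal hQ)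
        let θ : S →* S ⧸ Q.subgroupOf S := QuotientGroup.mk' _
        have hk : ∀ s : S, θ s = 1 ↔ (s : Ω) ∈ Q := fun s => QuotientGroup.eq_one_iff s
        have hA := IsNormal.stronglyClosed hQ
        have hE' := factorSystem_isFactorSystem (θ := θ) hk hA
        have : Finite θ.range := Finite.of_surjective _ θ.rangeRestrict_surjective
        have hθp : IsPGroup p θ.range := hS.of_surjective _ θ.rangeRestrict_surjective
        have hlt := sysSize_factor_lt hE' hQ1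
        have hθne : θ.range ≠ ⊥ := fun e => hQS (le_antisymm hQ.1 fun s hs =>
          (hk ⟨s, hs⟩).mp (Subgroup.mem_bot.mp (e.le ⟨⟨s, hs⟩, rfl⟩)))
        have hquo := ih (factorSystem F θ Q hk hA) (by omega) hθp (isSaturated_factor hS hF hA hE')
          (imageAlong θ H) (by
            rw [Subgroup.commutator_le]
            rintro _ ⟨s, rfl⟩ _ ⟨t, rfl⟩
            refine ⟨⁅s, t⁆, hH (Subgroup.commutator_mem_commutator s.2 t.2), ?_⟩
            exact map_commutatorElement θ s t) fun P' φ' hφ' w => by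
            obtain ⟨V, hVd⟩ : ∃ V, V = preimageAlong θ (charSub W θ.range) := ⟨_, rfl⟩
            obtain ⟨P₁, ψ, hψ, hlift⟩ := exists_lift_normalizerHom hE' (charSub_le _) hφ'
            have hVS : V ≤ S := hVd ▸ preimageAlong_le _
            have hVn : S ≤ Subgroup.normalizer (V : Set Ω) := by
              intro s hs
              have := finite_of_le hVS
              refine mem_normalizer_of_forall fun v hv => ?_
              rw [hVd] at hv ⊢
              obtain ⟨hvS, hv'⟩ := mem_preimageAlong.mp hv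
              refine mem_preimageAlong.mpr ⟨S.mul_mem (S.mul_mem hs hvS) (S.inv_mem hs), ?_⟩
              show θ (⟨s, hs⟩ * ⟨v, hvS⟩ * (⟨s, hs⟩ : S)⁻¹) ∈ charSub W θ.range
              rw [map_mul, map_mul, map_inv]
              exact (Subgroup.mem_normalizer_iff.mp
                (charSub_le_normalizer hW2 hθp (Subgroup.le_normalizer ⟨_, rfl⟩)) _).mp hv'
            have hVQ : ¬ V ≤ Q := fun hle => charSub_ne_bot hW1 hθp hθne (le_bot_iff.mp fun y hy => by
              obtain ⟨s, rfl⟩ := charSub_le _ hy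
              exact Subgroup.mem_bot.mpr ((hk s).mpr (hle (hVd ▸ mem_preimageAlong.mpr ⟨s.2, hy⟩))))
            obtain ⟨x, hxS, hψS, hxe, hφe⟩ := hlift w
            refine ⟨(⟨x, hxS⟩ : S)⁻¹ * ⟨ψ x, hψS⟩, ?_, by rw [map_mul, map_inv, hxe, hφe]⟩
            refine hV V hVS hVn (fun e => hVQ (e ▸ bot_le)) ?_ P₁ ψ (hVd ▸ hψ) x
            by_contra h
            push Not at h
            exact hVQ ((show V ≤ F.core from le_sSup (show F.IsNormal V from ⟨hVS, fun P φ hφ => by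
              obtain ⟨-, -, -, χ, hχ, hχe, hχV⟩ := h P φ hφ
              exact ⟨χ, hχ, hχe, hχV⟩⟩)).trans hQd.ge)
        rw [focal_le_iff]
        intro P φ hφ x
        obtain ⟨φ', hφ', hP, hφS, hm, e⟩ := exists_map_induced hS hF hA hE' hφ
        obtain ⟨s, hs, hse⟩ := focal_le_iff.mp hquo _ φ' hφ' ⟨_, hm x⟩
        rw [e x] at hse
        have hq : (s : Ω)⁻¹ * ((x : Ω)⁻¹ * φ x) ∈ Q :=
          (theta_eq_iff hk s ((⟨x, hP x.2⟩ : S)⁻¹ * ⟨φ x, hφS x⟩)).mp (hse.trans (by rw [map_mul, map_inv]))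
        have hqH := hQf ⟨hq, F.focalSubgroup.mul_mem (F.focalSubgroup.inv_mem (hHf hs))
          (Subgroup.subset_closure ⟨P, φ, x, hφ, rfl⟩)⟩
        simpa using H.mul_mem hs hqH
      by_cases hall : ∀ P φ, φ ∈ F.Hom P → φ ∈ F.normalizerHom (Q ⊔ centralizerIn S Q) P
      · exact inf_focal_le_of_model hW2 hmodel hS hF hQ hTc hTn hTN hall hloc
      push Not at hall
      obtain ⟨hr, hsat⟩ := innerExt_saturated hS hF hQ
      have hKT := isKNormalizer_autInducedBy (le_normalizer_of_isNormal hQ)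
      by_cases hne : ∃ P φ, φ ∈ F.Hom P ∧ φ ∉ extHom F Q (autInducedBy S Q) S P
      · refine inf_le_right.trans ?_
        rw [focal_le_iff]
        suffices hFE : F ≤ cosetSystem F H hH from fun P φ hφ => hE P φ (hFE P hφ)
        refine le_of_normal_split hS hF hQ _ (fun P φ hφ => ⟨hφ.1, ?_⟩) fun P φ hφ => ⟨hφ.1, ?_⟩
        · refine hV _ hTn.1 (fun s hs => ((le_of_eq hTN.symm) hs).2) ?_ hall P φ hφ
          exact fun e => hQ1 (le_bot_iff.mp (le_sup_left.trans e.le))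
        · obtain ⟨G, hGsat, hGm⟩ : ∃ G : FusionSystem S, G.IsSaturated p ∧
              ∀ P φ, φ ∈ G.Hom P ↔ φ ∈ extHom F Q (autInducedBy S Q) S P := ⟨_, hsat, fun _ _ => Iff.rfl⟩
          have hsub : ∀ P φ, φ ∈ G.Hom P → φ ∈ F.Hom P := fun P φ h => ((hGm P φ).mp h).1
          have hlt : sysSize G < sysSize F := sysSize_lt_of_sub hsub (by
            obtain ⟨P, φ, h1, h2⟩ := hne
            exact ⟨P, φ, h1, fun h => h2 ((hGm P φ).mp h)⟩)
          exact focal_le_iff.mp (ih G (by omega) hS hGsat H hH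
            fun P φ h => hloc P φ (locHom_mono (F := F) le_rfl hsub true h)) P φ ((hGm P φ).mpr hφ)
      · push Not at hne
        exact inf_focal_le_of_inner hS hF hQ hne hH

end CfsgLib.Fusion
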