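import Cfsg.Agent.Lib.Fusion.FunctorNormal
import Cfsg.Agent.Lib.Fusion.LocalQuotient
import Cfsg.Agent.Lib.Fusion.LocalFree
import Cfsg.Agent.Lib.Fusion.Solvable
import Cfsg.Agent.Lib.Fusion.ModelExists
import Cfsg.Agent.Lib.Fusion.Normal
import Cfsg.Agent.Lib.Fusion.ThompsonInner
import Cfsg.Agent.S0664

/-!
# A functor normal in all good models makes the systems with good models solvable and realizable
-/

set_option autoImplicit false
set_option linter.style.haveILetI false

namespace CfsgLib.Fusion

open Cfsg Cfsg.FusionSystem CfsgLib.FusionSolvable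

universe u

variable {p : ℕ} [Fact p.Prime]

/-- A saturated system with good models has a series of strongly closed subgroups with abelian factors. -/
theorem hasSeries_of_functor {Good : ∀ (L : Type u) [Group L], Prop} (hGood : SectionClosed Good)
    {W : ∀ (Q : Type u) [Group Q], Subgroup Q}
    (hW1 : ∀ (Q : Type u) [Group Q] [Finite Q], IsPGroup p Q → Nontrivial Q → W Q ≠ ⊥)
    (hW2 : ∀ (Q R : Type u) [Group Q] [Group R] [Finite Q], IsPGroup p Q → ∀ φ : Q ≃* R,
      (W Q).map φ.toMonoidHom = W R)
    (hW3 : ∀ (L : Type u) [Group L] [Finite L] (T : Sylow p L),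
      Subgroup.centralizer ((pCore p L : Subgroup L) : Set L) ≤ pCore p L → Good L →
      (charSub W (T : Subgroup L)).Normal)
    {Ω : Type u} [Group Ω] {S : Subgroup Ω} [Finite S] (hS : IsPGroup p S) (F : FusionSystem S)
    (hF : F.IsSaturated p) (hfree : CentricFree F p Good) : HasSeries F ⊥ S := by
  suffices H : ∀ (n : ℕ) {Ω : Type u} [Group Ω] {S : Subgroup Ω} [Finite S] (F : FusionSystem S),
      Nat.card S < n → IsPGroup p S → F.IsSaturated p → CentricFree F p Good → HasSeries F ⊥ S from
    H _ F (Nat.lt_succ_self _) hS hF hfree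
  intro n
  induction n with
  | zero => intro _ _ _ _ F h; omega
  | succ n ih =>
    intro Ω _ S _ F hn hS hF hfree
    by_cases hS1 : S = ⊥
    · subst hS1
      exact hasSeries_refl CfsgLib.FusionExtend.sc_bot
    have hWn := isNormal_charSub hGood hW1 hW2 hW3 hS hF hfree
    obtain ⟨A, hA, hA1, hAc⟩ := exists_abelian_sc hS hWn (charSub_ne_bot hW1 hS hS1)
    have hAn : F.IsNormal A := CfsgLib.FusionExtend.isNormal_of_abelian hS hF hA hAc
    have := normal_subgroupOf hA
    obtain ⟨E, hE⟩ := exists_quotientFactor hA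
    have hp : IsPGroup p (⊤ : Subgroup (S ⧸ A.subgroupOf S)) :=
      (hS.to_quotient (A.subgroupOf S)).to_subgroup ⊤
    have hEfree : CentricFree E p Good :=
      centricFree_factor (fun f hf => hGood.quot f hf) hS hF hAn hE hfree
    have hlt : Nat.card (⊤ : Subgroup (S ⧸ A.subgroupOf S)) < n := by
      have h1 := Subgroup.card_eq_card_quotient_mul_card_subgroup (A.subgroupOf S)
      have h2 : 2 ≤ Nat.card (A.subgroupOf S) := by
        rw [Nat.card_congr (Subgroup.subgroupOfEquivOfLe hA.1).toEquiv]
        have := finite_of_le hA.1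
        have : Nontrivial A := (Subgroup.nontrivial_iff_ne_bot A).mpr hA1
        exact Finite.one_lt_card
      have h3 : 1 ≤ Nat.card (S ⧸ A.subgroupOf S) := Nat.card_pos
      rw [Subgroup.card_top]
      nlinarith
    have hEser := ih E hlt hp (CfsgLib.FusionFactor.isSaturated_factor hS hF hA hE) hEfree
    refine hasSeries_step CfsgLib.FusionExtend.sc_bot bot_le hAc.le ?_
    exact hasSeries_preimage hS hF hA hE hEser

/-- A saturated system with good models is realizable and solvable. -/
theorem realizable_solvable_of_functor {Good : ∀ (L : Type u) [Group L], Prop} (hGood : SectionClosed Good)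
    {W : ∀ (Q : Type u) [Group Q], Subgroup Q}
    (hW1 : ∀ (Q : Type u) [Group Q] [Finite Q], IsPGroup p Q → Nontrivial Q → W Q ≠ ⊥)
    (hW2 : ∀ (Q R : Type u) [Group Q] [Group R] [Finite Q], IsPGroup p Q → ∀ φ : Q ≃* R,
      (W Q).map φ.toMonoidHom = W R)
    (hW3 : ∀ (L : Type u) [Group L] [Finite L] (T : Sylow p L),
      Subgroup.centralizer ((pCore p L : Subgroup L) : Set L) ≤ pCore p L → Good L →
      (charSub W (T : Subgroup L)).Normal)
    {Ω : Type u} [Group Ω] {S : Subgroup Ω} [Finite S] (hS : IsPGroup p S) (F : FusionSystem S)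
    (hF : F.IsSaturated p) (hfree : CentricFree F p Good) :
    F.IsRealizable p ∧ F.IsSolvableSystem := by
  have hsol := isSolvable_of_hasSeries hS hF (hasSeries_of_functor hGood hW1 hW2 hW3 hS F hF hfree)
  obtain ⟨-, Q, hQ, hQc⟩ := isConstrained_of_isSolvable hS hF hsol
  obtain ⟨L, hL, ι, hfin, hι, hT, -⟩ := exists_model hS hF hQ hQc
  exact ⟨⟨L, hL, hfin, ι, hι, hT⟩, hsol⟩

/-- `Z(J(T))` is normal in the constrained groups without section `Qd(p)`, `p` odd. -/
theorem zjW_normal_of_qdFree (hp : p ≠ 2) (L : Type u) [Group L] [Finite L] (T : Sylow p L)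
    (hc : Subgroup.centralizer ((pCore p L : Subgroup L) : Set L) ≤ pCore p L)
    (hf : ¬ Involves ↥(qd p) L) : (charSub zjW (T : Subgroup L)).Normal := by
  rw [charSub_zjW]
  exact Cfsg.Agent.S0664.result hp hf hc T

end CfsgLib.Fusion
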