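import Cfsg.Agent.Lib.Fusion.MaxClass
import Cfsg.Agent.Lib.Fusion.Basic
import Cfsg.Agent.Lib.PGroup.Class2
import Cfsg.Agent.Lib.PGroup.Frattini
import Cfsg.Agent.Lib.LargeExtra.Transport
import Cfsg.Agent.Lib.TwoGroups.Semidihedral

/-!
# Groups with derived group of order `p` and an elementary abelian maximal subgroup `C(y)`
-/

namespace CfsgLib.Fusion.GenExtraspecial

open scoped commutatorElement

variable {P : Type*} [Group P] [Finite P] {p : ℕ} [Fact p.Prime] {z y g : P}

/-- The hypotheses: `y` is a noncentral element with elementary abelian centralizer and all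
commutators lie in a central subgroup `⟨z⟩` of order `p`. -/
structure Data (p : ℕ) (z y : P) : Prop where
  isP : IsPGroup p P
  zpow : z ^ p = 1
  zne : z ≠ 1
  comm : ∀ a b : P, ⁅a, b⁆ ∈ Subgroup.zpowers z
  zcen : z ∈ Subgroup.center P
  ync : y ∉ Subgroup.center P
  cabel : ∀ a b : P, a * y = y * a → b * y = y * b → a * b = b * a
  cexp : ∀ a : P, a * y = y * a → a ^ p = 1

namespace Data

variable (h : Data p z y)
include h

theorem card_z : Nat.card (Subgroup.zpowers z) = p := by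
  rw [Nat.card_zpowers, orderOf_eq_prime h.zpow h.zne]

theorem zle : Subgroup.zpowers z ≤ Subgroup.center P := Subgroup.zpowers_le.mpr h.zcen

theorem zpowers_eq {u : P} (hu : u ∈ Subgroup.zpowers z) (h1 : u ≠ 1) :
    Subgroup.zpowers u = Subgroup.zpowers z := by
  refine CfsgLib.Fusion.eq_of_le_of_card_le (Subgroup.zpowers_le.mpr hu) ?_
  rw [h.card_z]
  have h2 := MaxClass.mul_card_le_of_lt h.isP (bot_lt_iff_ne_bot.mpr (Subgroup.zpowers_ne_bot.mpr h1))
  rwa [Subgroup.card_bot, mul_one] at h2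

theorem index_le (u : P) : (Subgroup.centralizer {u}).index ≤ p := by
  let f : P →* P := MonoidHom.mk' (fun x => ⁅x, u⁆) fun a b => by
    have h1 := Subgroup.mem_center_iff.mp (h.zle (h.comm b u)) a
    have h2 := Subgroup.mem_center_iff.mp (h.zle (h.comm b u)) ⁅a, u⁆
    calc ⁅a * b, u⁆ = a * ⁅b, u⁆ * a⁻¹ * ⁅a, u⁆ := by simp only [commutatorElement_def]; group
      _ = ⁅b, u⁆ * ⁅a, u⁆ := by rw [h1]; group
      _ = ⁅a, u⁆ * ⁅b, u⁆ := h2.symm
  have hk : f.ker = Subgroup.centralizer {u} := by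
    ext x
    rw [MonoidHom.mem_ker, Subgroup.mem_centralizer_singleton_iff]
    exact commutatorElement_eq_one_iff_mul_comm
  rw [← hk, Subgroup.index_ker, ← h.card_z]
  exact Subgroup.card_le_of_le (by rintro _ ⟨x, rfl⟩; exact h.comm x u)

theorem sup_eq_top (hg : g * y ≠ y * g) : Subgroup.centralizer {y} ⊔ Subgroup.zpowers g = ⊤ := by
  have hlt : Subgroup.centralizer {y} < Subgroup.centralizer {y} ⊔ Subgroup.zpowers g :=
    lt_of_le_of_ne le_sup_left fun e => hg (by
      have := e.ge (Subgroup.mem_sup_right (Subgroup.mem_zpowers g))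
      rwa [Subgroup.mem_centralizer_singleton_iff] at this)
  have h1 := MaxClass.mul_card_le_of_lt h.isP hlt
  refine CfsgLib.Fusion.eq_of_le_of_card_le le_top ?_
  rw [Subgroup.card_top]
  calc Nat.card P = (Subgroup.centralizer {y}).index * Nat.card (Subgroup.centralizer ({y} : Set P)) :=
        (Subgroup.index_mul_card _).symm
    _ ≤ _ := (Nat.mul_le_mul_right _ (h.index_le y)).trans h1

theorem center_le : Subgroup.center P ≤ Subgroup.centralizer {y} := fun x hx =>
  Subgroup.mem_centralizer_singleton_iff.mpr (Subgroup.mem_center_iff.mp hx y).symm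

theorem exists_noncomm : ∃ g, g * y ≠ y * g := by
  by_contra hc
  push Not at hc
  exact h.ync (Subgroup.mem_center_iff.mpr hc)

theorem ypow : y ^ p = 1 := h.cexp y rfl

theorem comm_eq (hg : g * y ≠ y * g) : Subgroup.zpowers ⁅g, y⁆ = Subgroup.zpowers z :=
  h.zpowers_eq (h.comm g y) fun e => hg (commutatorElement_eq_one_iff_mul_comm.mp e)

theorem pow_mem (hF : frattini P ≤ Subgroup.zpowers z) (x : P) : x ^ p ∈ Subgroup.zpowers z :=
  hF (CfsgLib.PGroup.pow_mem_frattini h.isP x)

theorem mem_center_of_comm (hg : g * y ≠ y * g) {x : P} (hxy : x * y = y * x) (hxg : x * g = g * x) :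
    x ∈ Subgroup.center P := by
  refine Subgroup.mem_center_iff.mpr fun w => ?_
  have hle : Subgroup.centralizer {y} ⊔ Subgroup.zpowers g ≤ Subgroup.centralizer {x} := by
    refine sup_le (fun c hc => ?_) (Subgroup.zpowers_le.mpr ?_)
    · rw [Subgroup.mem_centralizer_singleton_iff] at hc ⊢
      exact h.cabel c x hc hxy
    · rw [Subgroup.mem_centralizer_singleton_iff]; exact hxg.symm
  have := hle ((h.sup_eq_top hg).ge (Subgroup.mem_top w))
  rwa [Subgroup.mem_centralizer_singleton_iff] at this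

/-- `P` is a direct product of `⟨y, g⟩` and an elementary abelian central subgroup. -/
theorem split (hg : g * y ≠ y * g) (hgp : g ^ p ∈ Subgroup.zpowers z) :
    ∃ A : Subgroup P, A ≤ Subgroup.center P ∧ (∀ a ∈ A, a ^ p = 1) ∧
      Nat.card (Subgroup.closure ({y, g} : Set P)) = p ^ 3 ∧
      (∀ x ∈ Subgroup.closure ({y, g} : Set P), (∀ w ∈ Subgroup.closure ({y, g} : Set P), w * x = x * w) →
        x ∈ Subgroup.zpowers z) ∧
      Nonempty (P ≃* Subgroup.closure ({y, g} : Set P) × A) := by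
  have hp : p.Prime := Fact.out
  set E := Subgroup.closure ({y, g} : Set P) with hE
  have hyE : y ∈ E := Subgroup.subset_closure (Or.inl rfl)
  have hgE : g ∈ E := Subgroup.subset_closure (Or.inr rfl)
  have hzE : Subgroup.zpowers z ≤ E := (h.comm_eq hg).ge.trans (Subgroup.zpowers_le.mpr
    (E.mul_mem (E.mul_mem (E.mul_mem hgE hyE) (E.inv_mem hgE)) (E.inv_mem hyE)))
  obtain ⟨A, ⟨hAH, hzA⟩, hmax⟩ := Set.Finite.exists_maximal
    (s := {A : Subgroup P | A ≤ Subgroup.center P ∧ z ∉ A}) (Set.toFinite _)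
    ⟨⊥, bot_le, fun e => h.zne (Subgroup.mem_bot.mp e)⟩
  have hHA : Subgroup.center P ≤ A ⊔ Subgroup.zpowers z := by
    intro u hu
    by_cases huA : u ∈ A
    · exact Subgroup.mem_sup_left huA
    have hz : z ∈ A ⊔ Subgroup.zpowers u := by
      by_contra hc
      exact huA (hmax ⟨sup_le hAH (Subgroup.zpowers_le.mpr hu), hc⟩ le_sup_left
        (Subgroup.mem_sup_right (Subgroup.mem_zpowers u)))
    have hAn : A.Normal := ⟨fun n hn w => by
      rw [Subgroup.mem_center_iff.mp (hAH hn) w, mul_inv_cancel_right]; exact hn⟩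
    obtain ⟨a, ha, w, hw, hwz⟩ := Subgroup.mem_sup_of_normal_left.mp hz
    have hw1 : w ≠ 1 := by rintro rfl; rw [mul_one] at hwz; exact hzA (hwz ▸ ha)
    have hup : u ^ p = 1 := h.cexp u (Subgroup.mem_center_iff.mp hu y).symm
    have hu1 : u ≠ 1 := fun e => huA (e ▸ one_mem A)
    have h1 : Subgroup.zpowers w = Subgroup.zpowers u := by
      refine CfsgLib.Fusion.eq_of_le_of_card_le (Subgroup.zpowers_le.mpr hw) ?_
      rw [Nat.card_zpowers, orderOf_eq_prime hup hu1]
      have h2 := MaxClass.mul_card_le_of_lt h.isP (bot_lt_iff_ne_bot.mpr (Subgroup.zpowers_ne_bot.mpr hw1))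
      rwa [Subgroup.card_bot, mul_one] at h2
    have hwA : w ∈ A ⊔ Subgroup.zpowers z := by
      rw [show w = a⁻¹ * z by rw [← hwz, inv_mul_cancel_left]]
      exact Subgroup.mul_mem _ (Subgroup.mem_sup_left (A.inv_mem ha)) (Subgroup.mem_sup_right (Subgroup.mem_zpowers z))
    exact (Subgroup.zpowers_le.mpr hwA) (h1.ge (Subgroup.mem_zpowers u))
  let f : E × A →* P := MonoidHom.noncommCoprod E.subtype A.subtype fun e a =>
    Subgroup.mem_center_iff.mp (hAH a.2) e
  have hrange : f.range = ⊤ := by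
    have hE' : E ≤ f.range := fun e he => ⟨(⟨e, he⟩, 1), by simp [f, MonoidHom.noncommCoprod]⟩
    have hA' : A ≤ f.range := fun a ha => ⟨(1, ⟨a, ha⟩), by simp [f, MonoidHom.noncommCoprod]⟩
    have hH : Subgroup.center P ≤ f.range := hHA.trans (sup_le hA' (hzE.trans hE'))
    refine top_le_iff.mp ((h.sup_eq_top hg).ge.trans (sup_le ?_ (Subgroup.zpowers_le.mpr (hE' hgE))))
    intro x hx
    rw [Subgroup.mem_centralizer_singleton_iff] at hx
    obtain ⟨i, hi⟩ := (h.comm_eq hg).ge (h.comm g x)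
    have hxy : (x * (y ^ i)⁻¹) * y = y * (x * (y ^ i)⁻¹) := by
      have hh : Commute (x * (y ^ i)⁻¹) y := (Commute.mul_left hx ((Commute.refl y).zpow_left i).inv_left)
      exact hh
    have hxg : (x * (y ^ i)⁻¹) * g = g * (x * (y ^ i)⁻¹) := by
      have h1 : g * y = ⁅g, y⁆ * y * g := by simp only [commutatorElement_def]; group
      have h2 : g * x = ⁅g, x⁆ * x * g := by simp only [commutatorElement_def]; group
      have hy' : g * y ^ i * g⁻¹ = ⁅g, y⁆ ^ i * y ^ i := by
        rw [← conj_zpow, h1, mul_inv_cancel_right]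
        exact Commute.mul_zpow (Subgroup.mem_center_iff.mp (h.zle (h.comm g y)) y).symm i
      have hx' : g * x * g⁻¹ = ⁅g, y⁆ ^ i * x := by
        rw [h2, mul_inv_cancel_right]; exact congrArg (· * x) hi.symm
      have h3 : g * (x * (y ^ i)⁻¹) * g⁻¹ = x * (y ^ i)⁻¹ := by
        calc g * (x * (y ^ i)⁻¹) * g⁻¹ = (g * x * g⁻¹) * (g * y ^ i * g⁻¹)⁻¹ := by group
          _ = ⁅g, y⁆ ^ i * (x * (y ^ i)⁻¹) * (⁅g, y⁆ ^ i)⁻¹ := by rw [hy', hx']; group
          _ = x * (y ^ i)⁻¹ := by
            rw [← Subgroup.mem_center_iff.mp (zpow_mem (h.zle (h.comm g y)) i), mul_inv_cancel_right]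
      rw [mul_inv_eq_iff_eq_mul] at h3
      exact h3.symm
    have hc := hH (h.mem_center_of_comm hg hxy hxg)
    have := f.range.mul_mem hc (hE' (zpow_mem hyE i))
    rwa [inv_mul_cancel_right] at this
  have hN : (Subgroup.zpowers z).Normal := ⟨fun n hn w => by
    rw [Subgroup.mem_center_iff.mp (h.zle hn) w, mul_inv_cancel_right]; exact hn⟩
  have hEle : Nat.card E ≤ p ^ 3 := by
    let π := QuotientGroup.mk' (Subgroup.zpowers z)
    have hk : Nat.card (π.comp E.subtype).ker ≤ p := by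
      rw [← h.card_z]
      refine Nat.card_le_card_of_injective (fun x => (⟨((x : E) : P), (QuotientGroup.eq_one_iff _).mp x.2⟩ :
        Subgroup.zpowers z)) fun a b e => Subtype.ext (Subtype.ext (congrArg (fun w : Subgroup.zpowers z => (w : P)) e))
    let q : (π.comp E.subtype).range → Fin p × Fin p → Prop := fun w ij => (w : _) = π y ^ (ij.1 : ℕ) * π g ^ (ij.2 : ℕ)
    have hq : ∀ w, ∃ ij, q w ij := by
      have hcommQ : ∀ a b : P ⧸ Subgroup.zpowers z, a * b = b * a := by
        intro a b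
        obtain ⟨a, rfl⟩ := QuotientGroup.mk'_surjective _ a
        obtain ⟨b, rfl⟩ := QuotientGroup.mk'_surjective _ b
        rw [← commutatorElement_eq_one_iff_mul_comm, ← map_commutatorElement]
        exact (QuotientGroup.eq_one_iff _).mpr (h.comm a b)
      have hy1 : π y ^ p = 1 := by rw [← map_pow, h.ypow, map_one]
      have hg1 : π g ^ p = 1 := by rw [← map_pow]; exact (QuotientGroup.eq_one_iff _).mpr hgp
      let R : Submonoid (P ⧸ Subgroup.zpowers z) :=
        { carrier := {w | ∃ i j : ℕ, w = π y ^ i * π g ^ j}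
          one_mem' := ⟨0, 0, by simp⟩
          mul_mem' := by
            rintro _ _ ⟨i, j, rfl⟩ ⟨i', j', rfl⟩
            refine ⟨i + i', j + j', ?_⟩
            rw [pow_add, pow_add, mul_assoc, mul_assoc, ← mul_assoc (π g ^ j), hcommQ (π g ^ j), mul_assoc] }
      have hsub : (π.comp E.subtype).range.toSubmonoid ≤ R := by
        rw [MonoidHom.range_comp, Subgroup.range_subtype, hE, MonoidHom.map_closure,
          Subgroup.closure_toSubmonoid_of_finite, Submonoid.closure_le, Set.image_pair]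
        rintro _ (rfl | rfl)
        · exact ⟨1, 0, by simp⟩
        · exact ⟨0, 1, by simp⟩
      rintro ⟨w, hw⟩
      obtain ⟨i, j, rfl⟩ := hsub hw
      refine ⟨(⟨i % p, Nat.mod_lt _ hp.pos⟩, ⟨j % p, Nat.mod_lt _ hp.pos⟩), ?_⟩
      show π y ^ i * π g ^ j = π y ^ (i % p) * π g ^ (j % p)
      rw [← pow_eq_pow_mod i hy1, ← pow_eq_pow_mod j hg1]
    choose k hkq using hq
    have hr : Nat.card (π.comp E.subtype).range ≤ p * p := by
      have := Nat.card_le_card_of_injective k fun a b e => Subtype.ext ((hkq a).trans (e ▸ (hkq b).symm))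
      simpa using this
    calc Nat.card E = Nat.card (π.comp E.subtype).ker * Nat.card (π.comp E.subtype).range := by
          rw [← Subgroup.index_ker, Subgroup.card_mul_index]
      _ ≤ p * (p * p) := Nat.mul_le_mul hk hr
      _ = p ^ 3 := by ring
  have hHlt : Subgroup.center P < Subgroup.centralizer {y} := lt_of_le_of_ne h.center_le fun e =>
    h.ync (e.ge (Subgroup.mem_centralizer_singleton_iff.mpr rfl))
  have hClt : Subgroup.centralizer {y} < ⊤ := lt_top_iff_ne_top.mpr fun e => hg (by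
    have := e.ge (Subgroup.mem_top g)
    rwa [Subgroup.mem_centralizer_singleton_iff] at this)
  have hAlt : A < Subgroup.center P := lt_of_le_of_ne hAH fun e => hzA (e.ge h.zcen)
  have h1 := MaxClass.mul_card_le_of_lt h.isP hHlt
  have h2 := MaxClass.mul_card_le_of_lt h.isP hClt
  have h3 := MaxClass.mul_card_le_of_lt h.isP hAlt
  rw [Subgroup.card_top] at h2
  have hcard : Nat.card (E × A) ≤ Nat.card P := by
    rw [Nat.card_prod]
    calc Nat.card E * Nat.card A ≤ p ^ 3 * Nat.card A := Nat.mul_le_mul_right _ hEle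
      _ = p * (p * (p * Nat.card A)) := by ring
      _ ≤ _ := (Nat.mul_le_mul_left _ ((Nat.mul_le_mul_left _ h3).trans h1)).trans h2
  have hsurj : Function.Surjective f := MonoidHom.range_eq_top.mp hrange
  have hbij : Function.Bijective f := (Nat.bijective_iff_surjective_and_card _).mpr
    ⟨hsurj, le_antisymm hcard (Nat.card_le_card_of_surjective _ hsurj)⟩
  have hE3 : Nat.card E = p ^ 3 := by
    refine le_antisymm hEle ?_
    have h4 := Nat.card_congr (Equiv.ofBijective _ hbij)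
    rw [Nat.card_prod] at h4
    refine Nat.le_of_mul_le_mul_right ?_ (Nat.card_pos : 0 < Nat.card A)
    rw [h4]
    calc p ^ 3 * Nat.card A = p * (p * (p * Nat.card A)) := by ring
      _ ≤ _ := (Nat.mul_le_mul_left _ ((Nat.mul_le_mul_left _ h3).trans h1)).trans h2
  refine ⟨A, hAH, fun a ha => h.cexp a (Subgroup.mem_center_iff.mp (hAH ha) y).symm, hE3, fun x hx hc => ?_,
    ⟨(MulEquiv.ofBijective f hbij).symm⟩⟩
  have hxc := h.mem_center_of_comm hg (hc y hyE).symm (hc g hgE).symm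
  have hN' : A.Normal := ⟨fun n hn w => by
    rw [Subgroup.mem_center_iff.mp (hAH hn) w, mul_inv_cancel_right]; exact hn⟩
  obtain ⟨a, ha, w, hw, rfl⟩ := Subgroup.mem_sup_of_normal_left.mp (hHA hxc)
  have haE : a ∈ E := by
    have := E.mul_mem hx (E.inv_mem (hzE hw))
    rwa [mul_inv_cancel_right] at this
  have : ((⟨a, haE⟩ : E), (1 : A)) = ((1 : E), (⟨a, ha⟩ : A)) := hbij.1 (by simp [f, MonoidHom.noncommCoprod])
  have : a = 1 := congrArg Subtype.val (Prod.ext_iff.mp this).1
  rw [this, one_mul]; exact hw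

theorem exists_type_zero_comm (A : Subgroup P) (hA : A ≤ Subgroup.center P) (hAp : ∀ a ∈ A, a ^ p = 1) :
    ∃ (B : Type) (_ : CommGroup B), (∀ b : B, b ^ p = 1) ∧ Nonempty (A ≃* B) := by
  have : Small.{0} A := Countable.toSmall A
  let e : A ≃* Shrink.{0} A := Shrink.mulEquiv.symm
  refine ⟨Shrink.{0} A, { (inferInstance : Group (Shrink.{0} A)) with
    mul_comm := fun a b => e.symm.injective (by
      rw [map_mul, map_mul]
      exact Subtype.ext (Subgroup.mem_center_iff.mp (hA (e.symm b).2) _)) }, fun b => ?_, ⟨e⟩⟩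
  refine e.symm.injective ?_
  rw [map_pow, map_one]
  exact Subtype.ext (hAp _ (e.symm b).2)

/-- For `p = 2`: `P ≅ D₈ × A`. -/
theorem dihedral (hF : frattini P ≤ Subgroup.zpowers z) (hp2 : p = 2) :
    ∃ (A : Type) (_ : CommGroup A), (∀ a : A, a ^ 2 = 1) ∧ Nonempty (P ≃* DihedralGroup 4 × A) := by
  subst hp2
  obtain ⟨g₀, hg₀⟩ := h.exists_noncomm
  have hyy : y * y = 1 := by rw [← pow_two]; exact h.ypow
  obtain ⟨u, hu, hu2⟩ : ∃ u, u * y ≠ y * u ∧ u ^ 2 ≠ 1 := by
    by_cases h2 : g₀ ^ 2 = 1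
    · refine ⟨g₀ * y, fun e => hg₀ (mul_right_cancel (b := y) (by rw [e, mul_assoc])), fun e => hg₀ ?_⟩
      have : g₀⁻¹ = g₀ := inv_eq_of_mul_eq_one_right (by rwa [← pow_two])
      have hy : y⁻¹ = y := inv_eq_of_mul_eq_one_right hyy
      have h3 : (g₀ * y)⁻¹ = g₀ * y := inv_eq_of_mul_eq_one_right (by rwa [← pow_two])
      rw [mul_inv_rev, this, hy] at h3
      exact h3.symm
    · exact ⟨g₀, hg₀, h2⟩
  obtain ⟨A, hAc, hAp, hcard, -, ⟨e⟩⟩ := h.split hu (h.pow_mem hF u)
  obtain ⟨B, hB, hBp, ⟨eB⟩⟩ := h.exists_type_zero_comm A hAc hAp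
  have hu4 : u ^ 4 = 1 := by
    rw [show 4 = 2 * 2 from rfl, pow_mul]
    obtain ⟨i, hi⟩ := h.pow_mem hF u
    rw [← hi, ← zpow_natCast, zpow_comm, zpow_natCast, h.zpow, one_zpow]
  have hord : orderOf u = 4 := by
    have := orderOf_eq_prime_pow (p := 2) (n := 1) (x := u) (by simpa using hu2) (by simpa using hu4)
    simpa using this
  have hinv : y * u * y⁻¹ = u⁻¹ := by
    have h1 : Subgroup.zpowers ⁅y, u⁆ = Subgroup.zpowers z :=
      h.zpowers_eq (h.comm y u) fun e => hu (commutatorElement_eq_one_iff_mul_comm.mp e).symm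
    obtain ⟨i, hi⟩ := h1.ge (h.pow_mem hF u)
    have hc2 : ⁅y, u⁆ ^ 2 = 1 := by
      obtain ⟨j, hj⟩ := h.comm y u
      rw [← hj, ← zpow_natCast, zpow_comm, zpow_natCast, h.zpow, one_zpow]
    have h2 : ⁅y, u⁆ = u ^ 2 := by
      rcases Int.even_or_odd i with ⟨k, rfl⟩ | ⟨k, rfl⟩
      · refine absurd ?_ hu2
        rw [← hi]
        show ⁅y, u⁆ ^ (k + k) = 1
        rw [← two_mul, zpow_mul, show (2 : ℤ) = ((2 : ℕ) : ℤ) from rfl, zpow_natCast, hc2, one_zpow]
      · rw [← hi]
        show _ = ⁅y, u⁆ ^ (2 * k + 1)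
        rw [zpow_add_one, zpow_mul, show (2 : ℤ) = ((2 : ℕ) : ℤ) from rfl, zpow_natCast, hc2, one_zpow, one_mul]
    refine eq_inv_of_mul_eq_one_left ?_
    calc y * u * y⁻¹ * u = ⁅y, u⁆ * u ^ 2 := by simp only [commutatorElement_def, pow_two]; group
      _ = u ^ 4 := by rw [h2, ← pow_add]
      _ = 1 := hu4
  have hnot : y ∉ Subgroup.zpowers u := by
    rintro ⟨i, hi⟩
    exact hu (hi ▸ ((Commute.refl u).zpow_right i).eq)
  have hinj := CfsgLib.TwoGroups.SD.dihedralHom_injective u y hu4 hyy hinv hord hnot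
  let d := (MonoidHom.ofInjective hinj).trans (MulEquiv.subgroupCongr
    ((CfsgLib.TwoGroups.SD.range_dihedralHom u y hu4 hyy hinv).trans
      (by rw [Set.pair_comm] : Subgroup.closure ({u, y} : Set P) = Subgroup.closure {y, u})))
  exact ⟨B, hB, hBp, ⟨e.trans (d.symm.prodCongr eB)⟩⟩

/-- For exponent `p`: `P ≅ E × A` with `E` extraspecial of order `p³`. -/
theorem heisenberg (hexp : ∀ x : P, x ^ p = 1) :
    ∃ (E : Type) (_ : Group E) (A : Type) (_ : CommGroup A), Cfsg.IsExtraspecial p E ∧ Nat.card E = p ^ 3 ∧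
      Monoid.exponent E = p ∧ (∀ a : A, a ^ p = 1) ∧ Nonempty (P ≃* E × A) := by
  obtain ⟨g, hg⟩ := h.exists_noncomm
  obtain ⟨A, hAc, hAp, hcard, hcen, ⟨e⟩⟩ := h.split hg (by rw [hexp]; exact one_mem _)
  obtain ⟨B, hB, hBp, ⟨eB⟩⟩ := h.exists_type_zero_comm A hAc hAp
  set E := Subgroup.closure ({y, g} : Set P) with hE
  have hyE : y ∈ E := Subgroup.subset_closure (Or.inl rfl)
  have hgE : g ∈ E := Subgroup.subset_closure (Or.inr rfl)
  have hzE : Subgroup.zpowers z ≤ E := (h.comm_eq hg).ge.trans (Subgroup.zpowers_le.mpr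
    (E.mul_mem (E.mul_mem (E.mul_mem hgE hyE) (E.inv_mem hgE)) (E.inv_mem hyE)))
  have hcE : Subgroup.center E = (Subgroup.zpowers z).subgroupOf E := by
    ext x
    refine ⟨fun hx => hcen x x.2 fun w hw => congrArg Subtype.val (Subgroup.mem_center_iff.mp hx ⟨w, hw⟩),
      fun hx => Subgroup.mem_center_iff.mpr fun w => Subtype.ext (Subgroup.mem_center_iff.mp (h.zle hx) w)⟩
  have hccard : Nat.card (Subgroup.center E) = p := by
    rw [hcE, Nat.card_congr (Subgroup.subgroupOfEquivOfLe hzE).toEquiv, h.card_z]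
  have hcomm : commutator E = Subgroup.center E := by
    refine le_antisymm ?_ ?_
    · rw [commutator_def, hcE, Subgroup.commutator_le]
      exact fun a _ b _ => h.comm a b
    · refine (hcE.le.trans ?_)
      intro x hx
      obtain ⟨i, hi⟩ := (h.comm_eq hg).ge hx
      have : x = ⁅(⟨g, hgE⟩ : E), ⟨y, hyE⟩⁆ ^ i := Subtype.ext hi.symm
      rw [this, commutator_def]
      exact zpow_mem (Subgroup.commutator_mem_commutator (Subgroup.mem_top _) (Subgroup.mem_top _)) i
  have hsp : Cfsg.IsExtraspecial p E := by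
    refine ⟨⟨h.isP.to_subgroup E, le_antisymm ?_ ?_, hcomm⟩, hccard⟩
    · exact CfsgLib.PGroup.frattini_le_of (p := p) _ hcomm.le fun x => by
        rw [show x ^ p = 1 from Subtype.ext (hexp x)]; exact one_mem _
    · exact hcomm.ge.trans (CfsgLib.PGroup.commutator_le_frattini (h.isP.to_subgroup E))
  have : Small.{0} E := Countable.toSmall E
  let eE : E ≃* Shrink.{0} E := Shrink.mulEquiv.symm
  refine ⟨Shrink.{0} E, inferInstance, B, hB, CfsgLib.LargeExtra.isExtraspecial_of_equiv eE hsp,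
    (Nat.card_congr eE.toEquiv).symm.trans hcard, ?_, hBp, ⟨e.trans (eE.prodCongr eB)⟩⟩
  rw [← Monoid.exponent_eq_of_mulEquiv eE]
  have : Nontrivial E := ⟨⟨y, hyE⟩, 1, fun e => h.ync (by
    rw [show y = 1 from congrArg Subtype.val e]; exact one_mem _)⟩
  refine (Monoid.exponent_eq_prime_iff (Fact.out : p.Prime)).mpr fun x hx => orderOf_eq_prime (Subtype.ext (hexp x)) hx

end Data

end CfsgLib.Fusion.GenExtraspecial
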