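import Cfsg.Agent.Lib.Fusion.NormalModT
import Cfsg.Agent.Lib.Fusion.Centric
import Cfsg.Agent.Lib.Fusion.Hyperfocal

/-!
# Elements of `C_S(T)` fixed by the maps of a normal subsystem

`GoodAt F E y Q` says that every automorphism of `Q` in `E` extends to a map of `F` fixing `y`. An element
good at a centric invariant subgroup `X ≤ Q` is good at `Q`.
-/

namespace CfsgLib.Fusion

open Cfsg Cfsg.FusionSystem CfsgLib.FusionNormal CfsgLib.Fusion.PPrimeRes

variable {Ω : Type*} [Group Ω] {S T : Subgroup Ω} {F : FusionSystem S} {E : FusionSystem T}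
variable {P Q R X : Subgroup Ω} {y : Ω}

/-- `f` extends from `P` to a map fixing `y`. -/
def ExtFix (F : FusionSystem S) (y : Ω) (P : Subgroup Ω) (f : Ω → Ω) : Prop :=
  ∃ g, MapFn F (P ⊔ Subgroup.zpowers y) g ∧ (∀ x ∈ P, g x = f x) ∧ g y = y

/-- Every automorphism of `Q` in `E` extends fixing `y`. -/
def GoodAt (F : FusionSystem S) (E : FusionSystem T) (y : Ω) (Q : Subgroup Ω) : Prop :=
  ∀ f, MapFn E Q f → f '' Q = (Q : Set Ω) → ExtFix F y Q f

theorem ExtFix.congr {f g : Ω → Ω} (h : ExtFix F y P f) (e : ∀ x ∈ P, f x = g x) : ExtFix F y P g := by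
  obtain ⟨k, hk, hP, hy⟩ := h
  exact ⟨k, hk, fun x hx => (hP x hx).trans (e x hx), hy⟩

theorem ExtFix.mono {f : Ω → Ω} (h : ExtFix F y P f) (hR : R ≤ P) : ExtFix F y R f := by
  obtain ⟨k, hk, hP, hy⟩ := h
  exact ⟨k, hk.mono (sup_le_sup_right hR _), fun x hx => hP x (hR hx), hy⟩

theorem ExtFix.comp {f g : Ω → Ω} (h : ExtFix F y P f) (h' : ExtFix F y R g) (hm : ∀ x ∈ P, f x ∈ R) :
    ExtFix F y P (g ∘ f) := by
  obtain ⟨f', hf', hfP, hfy⟩ := h
  obtain ⟨g', hg', hgP, hgy⟩ := h'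
  refine ⟨g' ∘ f', hf'.comp hg' (hf'.maps_sup (fun x hx => ?_) fun x hx => ?_), fun x hx => ?_, ?_⟩
  · rw [hfP x hx]; exact Subgroup.mem_sup_left (hm x hx)
  · rw [mapFn_fixed hf' (Subgroup.mem_sup_right (Subgroup.mem_zpowers y)) hfy x hx]
    exact Subgroup.mem_sup_right hx
  · show g' (f' x) = g (f x)
    rw [hfP x hx, hgP _ (hm x hx)]
  · show g' (f' y) = y
    rw [hfy, hgy]

theorem ExtFix.inv {f g : Ω → Ω} (h : ExtFix F y P f) (hr : f '' P = (R : Set Ω))
    (hinv : ∀ x ∈ P, g (f x) = x) : ExtFix F y R g := by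
  obtain ⟨f', hf', hfP, hfy⟩ := h
  obtain ⟨M, -, hM⟩ := hf'.exists_image
  obtain ⟨g', hg', -, hg'₁, -⟩ := hf'.exists_inv hM
  have hyM : y ∈ M := hfy ▸ mem_of_image hM (Subgroup.mem_sup_right (Subgroup.mem_zpowers y))
  have hRM : R ≤ M := fun z hz => by
    obtain ⟨x, hx, rfl⟩ := exists_of_image hr hz
    rw [← hfP x hx]; exact mem_of_image hM (Subgroup.mem_sup_left hx)
  refine ⟨g', hg'.mono (sup_le hRM (Subgroup.zpowers_le.mpr hyM)), fun z hz => ?_, ?_⟩
  · obtain ⟨x, hx, rfl⟩ := exists_of_image hr hz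
    rw [hinv x hx, ← hfP x hx, hg'₁ x (Subgroup.mem_sup_left hx)]
  · conv_lhs => rw [← hfy]
    exact hg'₁ y (Subgroup.mem_sup_right (Subgroup.mem_zpowers y))

theorem ExtFix.conj (hT : T ≤ S) (hy : y ∈ centralizerIn S T) (hP : P ≤ T) {t : Ω} (ht : t ∈ T) :
    ExtFix F y P fun x => t * x * t⁻¹ := by
  refine ⟨_, mapFn_conj (sup_le (hP.trans hT) (Subgroup.zpowers_le.mpr hy.1)) (hT ht), fun _ _ => rfl, ?_⟩
  show t * y * t⁻¹ = y
  rw [(mem_centralizerIn.mp hy).2 t ht, mul_inv_cancel_right]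

theorem iterate_succ_apply_mem {f : Ω → Ω} (hm : ∀ x ∈ P, f x ∈ P) (n : ℕ) : ∀ x ∈ P, f^[n] x ∈ P := by
  induction n with
  | zero => exact fun x hx => hx
  | succ n ih =>
    intro x hx
    rw [Function.iterate_succ_apply']
    exact hm _ (ih x hx)

theorem mapFn_iterate {f : Ω → Ω} (hf : MapFn F P f) (hm : ∀ x ∈ P, f x ∈ P) :
    ∀ n : ℕ, MapFn F P (f^[n])
  | 0 => mapFn_id hf.le_S
  | n + 1 => by
    rw [Function.iterate_succ']
    exact (mapFn_iterate hf hm n).comp hf (iterate_succ_apply_mem hm n)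

/-- A map of `E` conjugated by a map of `F`. -/
theorem mapFn_transport (hE : E.IsInvariantIn F) (hP : P ≤ T) {f : Ω → Ω} (hf : MapFn E P f)
    (hfP : ∀ x ∈ P, f x ∈ P) {β γ : Ω → Ω} (hβ : MapFn F P β) (hβr : β '' P = (R : Set Ω))
    (hγ : ∀ x ∈ P, γ (β x) = x) : MapFn E R (β ∘ f ∘ γ) := by
  obtain ⟨φ, hφ, hfe⟩ := hf
  obtain ⟨ψ, hψ, hψe⟩ := hβ
  obtain ⟨χ, hχ, hχe⟩ := stronglyInvariant_of_invariant hE P P le_rfl hP φ hφ
    (fun x => by rw [hfe]; exact hfP x x.2) ψ hψ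
  have hR : (P.subgroupOf P).map ψ = R := by
    refine SetLike.coe_injective ?_
    rw [← hβr]
    ext z
    constructor
    · rintro ⟨x, -, rfl⟩; exact ⟨x, x.2, (hψe x).symm⟩
    · rintro ⟨x, hx, rfl⟩; exact ⟨⟨x, hx⟩, hx, hψe _⟩
  subst hR
  refine ⟨χ, hχ, fun z => ?_⟩
  obtain ⟨_, x, hx, rfl⟩ := z
  refine (hχe x ⟨x, hx, rfl⟩).trans ?_
  show ψ _ = β (f (γ (ψ x)))
  rw [hψe, hψe, hγ x x.2]
  exact congrArg β (hfe x)

variable {p : ℕ} [Finite S] [Fact p.Prime]

/-- Automorphisms generate: it suffices to treat those of order prime to `p`. -/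
theorem goodAt_of_pPrime (hS : IsPGroup p S) (hT : T ≤ S) (hEs : E.IsSaturated p) (hy : y ∈ centralizerIn S T)
    (hQ : E.IsFullyNormalized Q)
    (h : ∀ f, MapFn E Q f → f '' Q = (Q : Set Ω) → ∀ r : ℕ, r.Coprime p → (∀ x ∈ Q, f^[r] x = x) →
      ExtFix F y Q f) : GoodAt F E y Q := by
  have := finite_of_le hT
  have hQT := hQ.1
  have := finite_mulAut hQT
  intro f hf hfr
  obtain ⟨α, hα, hαe⟩ := hf.exists_aut hfr
  obtain ⟨a, ha, t, ht, b, hab, hb⟩ := FullyAutomized.exists_mul (fullyNormalized_good (hS.to_le hT) hEs hQ).1 hα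
  let K : Subgroup (E.autGroup Q) :=
    { carrier := {a | ∀ f : Ω → Ω, (∀ x : Q, f x = (((a : MulAut Q) x : Q) : Ω)) → ExtFix F y Q f}
      one_mem' := fun f hf => by
        refine (ExtFix.conj hT hy hQT T.one_mem).congr fun x hx => ?_
        rw [hf ⟨x, hx⟩]; simp
      mul_mem' := by
        rintro u v hu hv f hf
        obtain ⟨fu, hfu, -, hue⟩ := exists_mapFn_of_aut hQT u.2
        obtain ⟨fv, hfv, -, hve⟩ := exists_mapFn_of_aut hQT v.2
        refine ((hv fv hve).comp (hu fu hue) fun x hx => ?_).congr fun x hx => ?_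
        · rw [hve ⟨x, hx⟩]; exact Subtype.mem _
        · show fu (fv x) = f x
          rw [hf ⟨x, hx⟩, hve ⟨x, hx⟩, hue]; rfl
      inv_mem' := by
        rintro u hu f hf
        obtain ⟨fu, hfu, hur, hue⟩ := exists_mapFn_of_aut hQT u.2
        refine (hu fu hue).inv hur fun x hx => ?_
        rw [hue ⟨x, hx⟩, hf]; simp }
  have haK : a ∈ K := by
    refine (Subgroup.closure_le K).mpr (fun u hu f' hf' => ?_) ha
    obtain ⟨fu, hfu, hur, hue⟩ := exists_mapFn_of_aut hQT u.2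
    refine (h fu hfu hur (orderOf u) hu fun x hx => ?_).congr fun x hx => (hue ⟨x, hx⟩).trans (hf' ⟨x, hx⟩).symm
    have hit : ∀ n (z : Q), fu^[n] z = ((((u : MulAut Q) ^ n) z : Q) : Ω) := by
      intro n
      induction n with
      | zero => exact fun z => rfl
      | succ n ih => intro z; rw [Function.iterate_succ_apply', ih, hue, pow_succ', MulAut.mul_apply]
    rw [hit _ ⟨x, hx⟩, ← Subgroup.orderOf_coe, pow_orderOf_eq_one]
    rfl
  obtain ⟨fa, hfa, -, hae⟩ := exists_mapFn_of_aut hQT a.2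
  refine ((ExtFix.conj hT hy hQT ht).comp (haK fa hae) fun x hx => ?_).congr fun x hx => ?_
  · show t * x * t⁻¹ ∈ Q
    rw [← hb ⟨x, hx⟩]; exact Subtype.mem _
  · show fa (t * x * t⁻¹) = f x
    rw [← hb ⟨x, hx⟩, hae, ← hαe ⟨x, hx⟩, hab]; rfl

/-- An element good at a centric invariant subgroup of `Q` is good at `Q`. -/
theorem goodAt_of_le (hS : IsPGroup p S) (hE : E.IsNormalIn F p) (hy : y ∈ centralizerIn S T)
    (hQ : E.IsFullyNormalized Q) (hXQ : X ≤ Q) (hXc : E.IsCentric X)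
    (hinv : ∀ f, MapFn E Q f → f '' Q = (Q : Set Ω) → f '' X = (X : Set Ω)) (hX : GoodAt F E y X) :
    GoodAt F E y Q := by
  have hF := hE.1.2.1
  have hEs := hE.1.1
  have hEi := hE.1.2.2
  have hT := hEi.2.1
  have hTS := hT.1
  have hST := hS.to_le hTS
  have := finite_of_le hTS
  have hQT := hQ.1
  have hQS := hQT.trans hTS
  have hQc : E.IsCentric Q := IsCentric.of_le hXc hXQ hQT
  set D := Q ⊔ Subgroup.zpowers y with hD
  have hyD : y ∈ D := Subgroup.mem_sup_right (Subgroup.mem_zpowers y)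
  have hyS : y ∈ S := hy.1
  have hDS : D ≤ S := sup_le hQS (Subgroup.zpowers_le.mpr hyS)
  have hXy : X ⊔ Subgroup.zpowers y ≤ D := sup_le_sup_right hXQ _
  have hQX : ∀ q ∈ Q, ∀ x ∈ X, q * x * q⁻¹ ∈ X := fun q hq x hx => by
    have hr : (fun z => q * z * q⁻¹) '' Q = (Q : Set Ω) :=
      (mapFn_conj (F := E) hQT (hQT hq)).image_eq_of_maps hQT
        (fun z hz => Q.mul_mem (Q.mul_mem hq hz) (Q.inv_mem hq)) le_rfl
    exact mem_of_image (hinv _ (mapFn_conj hQT (hQT hq)) hr) hx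
  have hQy : ∀ q ∈ Q, q * y = y * q := fun q hq => (mem_centralizerIn.mp hy).2 q (hQT hq)
  -- the admissible displacements
  let A : Set Ω := {v | v ∈ centralizerIn T Q ∧ ∃ ψ, MapFn F D ψ ∧ (∀ x ∈ X, ψ x = x) ∧
    (∀ q ∈ Q, ψ q ∈ Q) ∧ ψ y = y * v}
  have hA1 : (1 : Ω) ∈ A := ⟨Subgroup.one_mem _, id, mapFn_id hDS, fun _ _ => rfl, fun _ h => h, (mul_one y).symm⟩
  have hAm : ∀ v ∈ A, ∀ w ∈ A, v * w ∈ A := by
    rintro v ⟨hv, ψ, hψ, hψX, hψQ, hψy⟩ w ⟨hw, χ, hχ, hχX, hχQ, hχy⟩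
    have hwX : w ∈ X := IsCentric.centralizerIn_le' hXc
      ⟨hw.1, Subgroup.centralizer_le (SetLike.coe_subset_coe.mpr hXQ) hw.2⟩
    refine ⟨Subgroup.mul_mem _ hv hw, ψ ∘ χ, hχ.comp hψ (hχ.maps_sup (fun q hq => Subgroup.mem_sup_left (hχQ q hq))
      fun z hz => ?_), fun x hx => ?_, fun q hq => hψQ _ (hχQ q hq), ?_⟩
    · obtain ⟨n, rfl⟩ := Subgroup.mem_zpowers_iff.mp hz
      have h1 := mapFn_zpowers hχ hyD _ ⟨n, rfl⟩
      refine (Subgroup.zpowers_le.mpr ?_) h1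
      rw [hχy]; exact D.mul_mem hyD (Subgroup.mem_sup_left (hXQ hwX))
    · show ψ (χ x) = x
      rw [hχX x hx, hψX x hx]
    · show ψ (χ y) = _
      rw [hχy, hψ.map_mul hyD (Subgroup.mem_sup_left (hXQ hwX)), hψy, hψX w hwX, mul_assoc]
  refine goodAt_of_pPrime hS hTS hEs hy hQ fun f hf hfr r hr hfr1 => ?_
  have hfm : ∀ x ∈ Q, f x ∈ Q := fun x hx => mem_of_image hfr hx
  -- the extension modulo `T`
  obtain ⟨g₀, hg₀, hg₀Q, hg₀C⟩ := exists_ext_mod hS hE hf hQc
  have hDle : D ≤ Q ⊔ centralizerIn S T := sup_le_sup_left (Subgroup.zpowers_le.mpr hy) Q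
  have hv₀ : y⁻¹ * g₀ y ∈ centralizerIn T Q :=
    displace_mem_centralizerIn hT le_rfl hg₀ hg₀Q hQT hfr hy (hg₀C y hy)
  -- an extension of order prime to `p`
  have hg₀D : ∀ x ∈ D, g₀ x ∈ D := (hg₀.mono hDle).maps_sup
    (fun x hx => Subgroup.mem_sup_left (by rw [hg₀Q x hx]; exact hfm x hx)) fun x hx => by
      refine (Subgroup.zpowers_le.mpr ?_) (mapFn_zpowers (hg₀.mono hDle) hyD x hx)
      have := D.mul_mem hyD (Subgroup.mem_sup_left (IsCentric.centralizerIn_le' hQc hv₀))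
      rwa [mul_inv_cancel_left] at this
  have hgit := mapFn_iterate (hg₀.mono hDle) hg₀D
  have hfit := mapFn_iterate hf hfm
  have hitQ : ∀ n, ∀ x ∈ Q, g₀^[n] x = f^[n] x := by
    intro n
    induction n with
    | zero => exact fun x _ => rfl
    | succ n ih =>
      intro x hx
      rw [Function.iterate_succ_apply', Function.iterate_succ_apply', ih x hx, hg₀Q _ (iterate_succ_apply_mem hfm n x hx)]
  have hitr : ∀ n, f^[n] '' Q = (Q : Set Ω) := fun n =>
    (hfit n).image_eq_of_maps hQT (iterate_succ_apply_mem hfm n) le_rfl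
  have hitv : ∀ n, y⁻¹ * g₀^[n] y ∈ centralizerIn T Q := by
    intro n
    induction n with
    | zero => simp
    | succ n ih =>
      have hnQ := Subgroup.mem_sup_left (IsCentric.centralizerIn_le' hQc ih) (T := Subgroup.zpowers y)
      rw [Function.iterate_succ_apply', show g₀^[n] y = y * (y⁻¹ * g₀^[n] y) by group,
        (hg₀.mono hDle).map_mul hyD hnQ, ← mul_assoc]
      refine Subgroup.mul_mem _ hv₀ (mem_centralizerIn.mpr ⟨mapFn_mem hT (hg₀.mono hDle) hnQ ih.1, fun z hz => ?_⟩)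
      obtain ⟨x, hx, rfl⟩ := exists_of_image hfr hz
      rw [← hg₀Q x hx, ← (hg₀.mono hDle).map_mul (Subgroup.mem_sup_left hx) hnQ,
        ← (hg₀.mono hDle).map_mul hnQ (Subgroup.mem_sup_left hx), (mem_centralizerIn.mp ih).2 x hx]
  obtain ⟨e, he1, he2⟩ : ∃ e, (∀ x ∈ Q, f^[e] x = f x) ∧ g₀^[r * e] y = y := by
    set w := y⁻¹ * g₀^[r] y with hw
    have hwQ := IsCentric.centralizerIn_le' hQc (hitv r)
    have hpow : ∀ m, g₀^[r * m] y = y * w ^ m := by
      intro m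
      induction m with
      | zero => simp
      | succ m ih =>
        rw [show r * (m + 1) = r + r * m by ring, Function.iterate_add_apply, ih,
          (hgit r).map_mul hyD (Subgroup.mem_sup_left (Q.pow_mem hwQ m)), hitQ r _ (Q.pow_mem hwQ m),
          hfr1 _ (Q.pow_mem hwQ m), show g₀^[r] y = y * w from (mul_inv_cancel_left _ _).symm, pow_succ', mul_assoc, inv_mul_cancel_left]
    obtain ⟨j, hj⟩ := hS ⟨w, (hQT.trans hTS) hwQ⟩
    have hwj : w ^ p ^ j = 1 := congrArg Subtype.val hj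
    obtain ⟨e, he0, he1⟩ := Nat.chineseRemainder (Nat.Coprime.pow_left j hr.symm) 0 1
    refine ⟨e, fun x hx => ?_, ?_⟩
    · have hfx : ∀ m, f^[r * m] x = x := by
        intro m
        induction m with
        | zero => rfl
        | succ m ih => rw [show r * (m + 1) = r * m + r by ring, Function.iterate_add_apply, hfr1 x hx, ih]
      have hdiv : ∀ n : ℕ, f^[n] x = f^[n % r] x := fun n => by
        conv_lhs => rw [← Nat.mod_add_div n r, Function.iterate_add_apply, hfx]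
      rw [hdiv, he1]
      exact (hdiv 1).symm
    · obtain ⟨k, hk⟩ := Nat.modEq_zero_iff_dvd.mp he0
      rw [hpow, hk, pow_mul, hwj, one_pow, mul_one]
  obtain ⟨g, hgdef⟩ : ∃ g, g = g₀^[e] := ⟨_, rfl⟩
  have hg : MapFn F D g := hgdef ▸ hgit e
  have hgD : ∀ x ∈ D, g x ∈ D := hgdef ▸ iterate_succ_apply_mem hg₀D e
  have hgQ : ∀ x ∈ Q, g x = f x := fun x hx => by rw [hgdef, hitQ e x hx, he1 x hx]
  -- the displacements of `y` are admissible
  have hmem : ∀ i, y⁻¹ * g^[i] y ∈ A := by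
    intro i
    obtain ⟨v, hvdef⟩ : ∃ v, v = y⁻¹ * g^[i] y := ⟨_, rfl⟩
    rw [← hvdef]
    have hiQ : ∀ x ∈ Q, g^[i] x = f^[i] x := by
      induction i generalizing v with
      | zero => exact fun x _ => rfl
      | succ i ih =>
        intro x hx
        rw [Function.iterate_succ_apply', Function.iterate_succ_apply', ih _ rfl x hx,
          hgQ _ (iterate_succ_apply_mem hfm i x hx)]
    have hv : v ∈ centralizerIn T Q := by
      rw [hvdef, hgdef, ← Function.iterate_mul]; exact hitv _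
    have hvQ := IsCentric.centralizerIn_le' hQc hv
    have hvX : v ∈ X := IsCentric.centralizerIn_le' hXc
      ⟨hv.1, Subgroup.centralizer_le (SetLike.coe_subset_coe.mpr hXQ) hv.2⟩
    have hiX : f^[i] '' X = (X : Set Ω) := hinv _ (hfit i) (hitr i)
    obtain ⟨k, hk, hkX, hky⟩ := hX _ ((hfit i).mono hXQ) hiX
    have hkr : k '' (X ⊔ Subgroup.zpowers y : Subgroup Ω) = (X ⊔ Subgroup.zpowers y : Subgroup Ω) :=
      hk.image_eq_of_maps hk.le_S (hk.maps_sup
        (fun x hx => Subgroup.mem_sup_left (by rw [hkX x hx]; exact mem_of_image hiX hx))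
        fun z hz => by
          rw [mapFn_fixed hk (Subgroup.mem_sup_right (Subgroup.mem_zpowers y)) hky z hz]
          exact Subgroup.mem_sup_right hz) le_rfl
    obtain ⟨ki, hki, hkir, hki₁, -⟩ := hk.exists_inv hkr
    -- the map on `X⟨y⟩`
    set U := X ⊔ Subgroup.zpowers y with hU
    have hyU : y ∈ U := Subgroup.mem_sup_right (Subgroup.mem_zpowers y)
    obtain ⟨τ, hτdef⟩ : ∃ τ, τ = g^[i] ∘ ki := ⟨_, rfl⟩
    have hτ : MapFn F U τ := hτdef ▸ hki.comp ((mapFn_iterate hg hgD i).mono hXy)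
      fun x hx => mem_of_image hkir hx
    have hτX : ∀ x ∈ X, τ x = x := fun x hx => by
      obtain ⟨z, hz, rfl⟩ := exists_of_image hiX hx
      rw [hτdef]
      show g^[i] (ki (f^[i] z)) = _
      rw [← hkX z hz, hki₁ z (Subgroup.mem_sup_left hz), hiQ z (hXQ hz), hkX z hz]
    have hτy : τ y = y * v := by
      have h1 := hki₁ y hyU
      rw [hky] at h1
      rw [hτdef, hvdef]
      show g^[i] (ki y) = _
      rw [h1]; group
    have hτU : ∀ x ∈ U, τ x ∈ U := hτ.maps_sup (fun x hx => by rw [hτX x hx]; exact Subgroup.mem_sup_left hx)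
      fun z hz => (Subgroup.zpowers_le.mpr (by rw [hτy]; exact U.mul_mem hyU (Subgroup.mem_sup_left hvX)))
        (mapFn_zpowers hτ hyU z hz)
    have hτconj : ∀ q ∈ Q, ∀ x ∈ U, q * x * q⁻¹ ∈ U ∧ τ (q * x * q⁻¹) = q * τ x * q⁻¹ := by
      intro q hq
      have hmc : ∀ x ∈ U, q * x * q⁻¹ ∈ U := fun x hx =>
        (mapFn_conj (F := F) (hXy.trans hDS) (hQS hq)).maps_sup (fun z hz => Subgroup.mem_sup_left (hQX q hq z hz))
          (fun z hz => by
            obtain ⟨n, rfl⟩ := Subgroup.mem_zpowers_iff.mp hz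
            show q * y ^ n * q⁻¹ ∈ U
            rw [show q * y ^ n = y ^ n * q from (Commute.zpow_right (hQy q hq) n).eq, mul_inv_cancel_right]
            exact U.zpow_mem hyU n) x hx
      have h1 : MapFn F U (τ ∘ fun x => q * x * q⁻¹) := (mapFn_conj (hXy.trans hDS) (hQS hq)).comp hτ hmc
      have h2 : MapFn F U fun x => q * τ x * q⁻¹ := hτ.conj_comp (hQS hq)
      have hX' : ∀ x ∈ (X : Set Ω) ∪ {y}, (τ ∘ fun x => q * x * q⁻¹) x = q * τ x * q⁻¹ := by
        rintro x (hx | hx)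
        · show τ (q * x * q⁻¹) = _
          rw [hτX _ (hQX q hq x hx), hτX x hx]
        · rw [Set.mem_singleton_iff.mp hx]
          show τ (q * y * q⁻¹) = _
          rw [hQy q hq, mul_inv_cancel_right, hτy, ← mul_assoc, hQy q hq, mul_assoc y,
            (mem_centralizerIn.mp hv).2 q hq]
          group
      have hcl : Subgroup.closure ((X : Set Ω) ∪ {y}) = U := by
        rw [Subgroup.closure_union, Subgroup.closure_eq, ← Subgroup.zpowers_eq_closure]
      exact fun x hx => ⟨hmc x hx, mapFn_eq_closure h1 h2 hcl.le hX' x (hcl.ge hx)⟩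
    -- transport to a fully normalized conjugate
    have hUS : U ≤ S := hXy.trans hDS
    obtain ⟨U', θ, hU', hθ, hθU, -⟩ := exists_fullyNormalized_mapFn hS hF hUS
    have hQN : D ≤ normalizerIn S U := by
      have := finite_of_le hUS
      refine sup_le (fun q hq => ⟨hQS hq, mem_normalizer_of_forall fun x hx => (hτconj q hq x hx).1⟩) ?_
      exact Subgroup.zpowers_le.mpr (le_normalizerIn hUS hyU)
    have hθD := hθ.mono hQN
    obtain ⟨M, hMS, hM⟩ := hθD.exists_image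
    obtain ⟨θi, hθi, -, hθi₁, hθi₂⟩ := hθD.exists_inv hM
    have hU'M : U' ≤ M := fun z hz => by
      obtain ⟨x, hx, rfl⟩ := exists_of_image hθU hz
      exact mem_of_image hM (hXy hx)
    have hθU' : MapFn F U' θi := hθi.mono hU'M
    have hθiU : ∀ z ∈ U', θi z ∈ U := fun z hz => by
      obtain ⟨x, hx, rfl⟩ := exists_of_image hθU hz
      rw [hθi₁ x (hXy hx)]; exact hx
    obtain ⟨σ, hσdef⟩ : ∃ σ, σ = θ ∘ τ ∘ θi := ⟨_, rfl⟩
    have hσ : MapFn F U' σ := hσdef ▸ (hθU'.comp hτ hθiU).comp (hθD.mono hXy)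
      fun z hz => hτU _ (hθiU z hz)
    have hσr : σ '' U' = (U' : Set Ω) := hσ.image_eq_of_maps hU'.1 (fun z hz => by
      rw [hσdef]; exact mem_of_image hθU (hτU _ (hθiU z hz))) le_rfl
    obtain ⟨h, hh, hhU⟩ := hσ.exists_extension (fullyNormalized_good hS hF hU').2 hσr hU'M
      (fun z hz => by
        obtain ⟨x, hx, rfl⟩ := exists_of_image hM hz
        exact hθ.mem_normalizerIn (le_normalizerIn hUS) hθU (hQN hx) (hQN hx).2)
      (fun z hz => by
        obtain ⟨x, hx, rfl⟩ := exists_of_image hM hz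
        -- it is enough to conjugate by `θ` of the displaced element
        obtain ⟨x', hx', hxe⟩ : ∃ x' ∈ D, ∀ u ∈ U, τ (x * u * x⁻¹) = x' * τ u * x'⁻¹ := by
          rw [hD, sup_comm] at hx
          obtain ⟨a, ha, q, hq, rfl⟩ : ∃ a ∈ Subgroup.zpowers y, ∃ q ∈ Q, a * q = x := by
            rw [← SetLike.mem_coe, Subgroup.coe_mul_of_left_le_normalizer_right _ _
              (Subgroup.zpowers_le.mpr ?_)] at hx
            · exact Set.mem_mul.mp hx
            refine Subgroup.mem_normalizer_iff.mpr fun z => ⟨fun hz => ?_, fun hz => ?_⟩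
            · rw [← hQy z hz, mul_inv_cancel_right]; exact hz
            · have h1 := hQy _ hz
              rw [show y * z * y⁻¹ * y = y * z by group] at h1
              rwa [← mul_left_cancel h1] at hz
          refine ⟨τ a * q, D.mul_mem (hXy (hτU a (Subgroup.zpowers_le.mpr hyU ha))) (Subgroup.mem_sup_left hq),
            fun u hu => ?_⟩
          have haU : a ∈ U := Subgroup.zpowers_le.mpr hyU ha
          rw [show a * q * u * (a * q)⁻¹ = a * (q * u * q⁻¹) * a⁻¹ by group,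
            hτ.map_conj haU (hτconj q hq u hu).1, (hτconj q hq u hu).2]
          group
        refine ⟨θ x', hθD.mem_S hx', fun u hu => ?_⟩
        obtain ⟨u₀, hu₀, rfl⟩ := exists_of_image hθU hu
        have hxu : x * u₀ * x⁻¹ ∈ U := conj_mem_of_normalizer (hQN hx).2 hu₀
        rw [hσdef]
        show θ (τ (θi (θ x * θ u₀ * (θ x)⁻¹))) = θ x' * θ (τ (θi (θ u₀))) * (θ x')⁻¹
        rw [← hθD.map_conj hx (hXy hu₀), hθi₁ _ (hXy hxu), hθi₁ _ (hXy hu₀), hxe u₀ hu₀,
          hθD.map_conj hx' (hXy (hτU u₀ hu₀))])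
    -- back to `Q⟨y⟩`
    obtain ⟨QT', hQT'S, hQ'⟩ := (hθD.mono le_sup_left).exists_image
    have hQ'T : QT' ≤ T := fun z hz => by
      obtain ⟨x, hx, rfl⟩ := exists_of_image hQ' hz
      exact mapFn_mem hT hθD (Subgroup.mem_sup_left hx) (hQT hx)
    obtain ⟨X', -, hX'⟩ := (hθD.mono (hXQ.trans le_sup_left)).exists_image
    have hX'T : X' ≤ T := fun z hz => by
      obtain ⟨x, hx, rfl⟩ := exists_of_image hX' hz
      exact mapFn_mem hT hθD (Subgroup.mem_sup_left (hXQ hx)) (hQT (hXQ hx))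
    have hX'c : E.IsCentric X' := centric_of_F hEi hXc ((hθD.mono (hXQ.trans le_sup_left)).isConj hX') hX'T
    have hX'Q : X' ≤ QT' := fun z hz => by
      obtain ⟨x, hx, rfl⟩ := exists_of_image hX' hz
      exact mem_of_image hQ' (hXQ hx)
    have hQ'M : QT' ≤ M := fun z hz => by
      obtain ⟨x, hx, rfl⟩ := exists_of_image hQ' hz
      exact mem_of_image hM (Subgroup.mem_sup_left hx)
    have hhX : ∀ z ∈ X', h z = z := fun z hz => by
      obtain ⟨x, hx, rfl⟩ := exists_of_image hX' hz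
      have hxU : x ∈ U := Subgroup.mem_sup_left hx
      rw [hhU _ (mem_of_image hθU hxU), hσdef]
      show θ (τ (θi (θ x))) = θ x
      rw [hθi₁ x (hXy hxU), hτX x hx]
    have hhQ : ∀ z ∈ QT', h z ∈ QT' := fun z hz => by
      have hm : z⁻¹ * h z ∈ centralizerIn T X' := by
        refine mem_centralizerIn.mpr ⟨T.mul_mem (T.inv_mem (hQ'T hz)) (mapFn_mem hT hh (hQ'M hz) (hQ'T hz)),
          fun x hx => ?_⟩
        obtain ⟨z₀, hz₀, rfl⟩ := exists_of_image hQ' hz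
        obtain ⟨x₀, hx₀, rfl⟩ := exists_of_image hX' hx
        have hxM : θ x₀ ∈ M := hQ'M (hX'Q hx)
        have hcj : θ z₀ * θ x₀ * (θ z₀)⁻¹ ∈ X' := by
          rw [← hθD.map_conj (Subgroup.mem_sup_left hz₀) (Subgroup.mem_sup_left (hXQ hx₀))]
          exact mem_of_image hX' (hQX z₀ hz₀ x₀ hx₀)
        have h1 := hh.map_conj (hQ'M hz) hxM
        rw [hhX _ hcj, hhX _ hx] at h1
        calc θ x₀ * ((θ z₀)⁻¹ * h (θ z₀)) = (θ z₀)⁻¹ * (θ z₀ * θ x₀ * (θ z₀)⁻¹) * h (θ z₀) := by group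
          _ = (θ z₀)⁻¹ * (h (θ z₀) * θ x₀ * (h (θ z₀))⁻¹) * h (θ z₀) := by rw [h1]
          _ = _ := by group
      have := QT'.mul_mem hz (hX'Q (IsCentric.centralizerIn_le' hX'c hm))
      rwa [mul_inv_cancel_left] at this
    have hhy : h (θ y) = θ (y * v) := by
      rw [hhU _ (mem_of_image hθU hyU), hσdef]
      show θ (τ (θi (θ y))) = _
      rw [hθi₁ y hyD, hτy]
    have hyvD : y * v ∈ D := D.mul_mem hyD (Subgroup.mem_sup_left hvQ)
    have hhM : ∀ x ∈ D, h (θ x) ∈ M := (hθD.comp hh fun x hx => mem_of_image hM hx).maps_sup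
      (fun x hx => hQ'M (hhQ _ (mem_of_image hQ' hx))) fun z hz => by
        refine (Subgroup.zpowers_le.mpr ?_)
          (mapFn_zpowers (hθD.comp hh fun x hx => mem_of_image hM hx) hyD z hz)
        show h (θ y) ∈ M
        rw [hhy]; exact mem_of_image hM hyvD
    refine ⟨hv, θi ∘ (h ∘ θ), (hθD.comp hh fun x hx => mem_of_image hM hx).comp hθi hhM, fun x hx => ?_,
      fun q hq => ?_, ?_⟩
    · show θi (h (θ x)) = x
      rw [hhX _ (mem_of_image hX' hx), hθi₁ x (Subgroup.mem_sup_left (hXQ hx))]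
    · show θi (h (θ q)) ∈ Q
      obtain ⟨x, hx, hxe⟩ := exists_of_image hQ' (hhQ _ (mem_of_image hQ' hq))
      rw [← hxe, hθi₁ x (Subgroup.mem_sup_left hx)]; exact hx
    · show θi (h (θ y)) = _
      rw [hhy, hθi₁ _ hyvD]
  -- average
  have hrp : r ≠ 0 := fun h0 => by
    rw [h0, Nat.coprime_zero_left] at hr; exact (Fact.out : p.Prime).one_lt.ne' hr
  obtain ⟨v, hvdef⟩ : ∃ v, v = fun i => y⁻¹ * g^[i] y := ⟨_, rfl⟩
  have hvA : ∀ i, v i ∈ A := fun i => by rw [hvdef]; exact hmem i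
  have hgy : ∀ i, g^[i] y = y * v i := fun i => by rw [hvdef]; group
  have hvr : v r = 1 := by
    rw [hvdef, hgdef]
    show y⁻¹ * (g₀^[e])^[r] y = 1
    rw [← Function.iterate_mul, mul_comm, he2, inv_mul_cancel]
  let ZQ : Subgroup Ω := centralizerIn T Q
  have hZc : ∀ a ∈ centralizerIn T Q, ∀ b ∈ centralizerIn T Q, a * b = b * a := fun a ha b hb =>
    (mem_centralizerIn.mp hb).2 a (IsCentric.centralizerIn_le' hQc ha)
  haveI : IsMulCommutative ZQ := ⟨⟨fun a b => Subtype.ext (hZc a a.2 b b.2)⟩⟩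
  let V : ℕ → ZQ := fun i => ⟨v i, (hvA i).1⟩
  have hgv : ∀ i, g (v i) = (v 1)⁻¹ * v (i + 1) := fun i => by
    have hiD := Subgroup.mem_sup_left (IsCentric.centralizerIn_le' hQc (hvA i).1) (T := Subgroup.zpowers y)
    have h1 := hgy (i + 1)
    rw [Function.iterate_succ_apply', hgy i, hg.map_mul hyD hiD, show g y = y * v 1 from hgy 1, mul_assoc] at h1
    rw [← mul_left_cancel h1, inv_mul_cancel_left]
  -- the average
  obtain ⟨k, hk⟩ : ∃ k, v 1 ^ (r * k) = v 1 := by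
    obtain ⟨j, hj⟩ := hS ⟨v 1, hQS (IsCentric.centralizerIn_le' hQc (hvA 1).1)⟩
    obtain ⟨k, hk⟩ := exists_pow_eq_self_of_coprime (x := v 1)
      ((Nat.Coprime.pow_right j hr).of_dvd_right (orderOf_dvd_of_pow_eq_one (congrArg Subtype.val hj)))
    exact ⟨k, by rwa [pow_mul]⟩
  obtain ⟨P₀, hP₀⟩ : ∃ P₀ : ℕ → Ω, P₀ = fun n => ((List.range n).map v).prod := ⟨_, rfl⟩
  have hP0 : P₀ 0 = 1 := by simp [hP₀]
  have hPs : ∀ n, P₀ (n + 1) = P₀ n * v n := fun n => by simp [hP₀, List.range_succ]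
  have hPA : ∀ n, P₀ n ∈ A := fun n => by
    induction n with
    | zero => rw [hP0]; exact hA1
    | succ n ih => rw [hPs]; exact hAm _ ih _ (hvA n)
  have hPD : ∀ n, P₀ n ∈ Q := fun n => IsCentric.centralizerIn_le' hQc (hPA n).1
  have hgP : ∀ n, g (P₀ n) = (v 1)⁻¹ ^ n * (P₀ n * v n) := by
    intro n
    induction n with
    | zero =>
      rw [hP0, hg.map_one, hvdef]; simp
    | succ n ih =>
      rw [hPs, hg.map_mul (Subgroup.mem_sup_left (hPD n))
        (Subgroup.mem_sup_left (IsCentric.centralizerIn_le' hQc (hvA n).1)), ih, hgv, pow_succ]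
      have hw := Subgroup.inv_mem _ (hvA 1).1
      have hx := Subgroup.mul_mem _ (hPA n).1 (hvA n).1
      calc (v 1)⁻¹ ^ n * (P₀ n * v n) * ((v 1)⁻¹ * v (n + 1))
          = (v 1)⁻¹ ^ n * ((P₀ n * v n) * (v 1)⁻¹) * v (n + 1) := by group
        _ = _ := by rw [hZc _ hx _ hw]; group
  have hAp : ∀ n, P₀ r ^ n ∈ A := fun n => by
    induction n with
    | zero => rw [pow_zero]; exact hA1
    | succ n ih => rw [pow_succ]; exact hAm _ ih _ (hPA r)
  obtain ⟨hw0, ψ, hψ, hψX, hψQ, hψy⟩ := hAp k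
  have hwQ : P₀ r ^ k ∈ Q := Q.pow_mem (hPD r) k
  have hgw : g (y * P₀ r ^ k) = y * P₀ r ^ k := by
    rw [hg.map_mul hyD (Subgroup.mem_sup_left hwQ), show g y = y * v 1 from hgy 1, mul_assoc,
      hg.map_pow (Subgroup.mem_sup_left (hPD r)), hgP r, hvr, mul_one,
      (show Commute ((v 1)⁻¹ ^ r) (P₀ r) from hZc _ (Subgroup.pow_mem _ (Subgroup.inv_mem _ (hvA 1).1) r) _ (hPA r).1).mul_pow,
      ← pow_mul, inv_pow, hk, mul_inv_cancel_left]
  have hψQr : ψ '' Q = (Q : Set Ω) := (hψ.mono le_sup_left).image_eq_of_maps hQS hψQ le_rfl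
  have hψD : ψ '' D = (D : Set Ω) := hψ.image_eq_of_maps hDS (hψ.maps_sup
    (fun x hx => Subgroup.mem_sup_left (hψQ x hx)) fun z hz => (Subgroup.zpowers_le.mpr (by
      rw [hψy]; exact D.mul_mem hyD (Subgroup.mem_sup_left hwQ))) (mapFn_zpowers hψ hyD z hz)) le_rfl
  obtain ⟨ψi, hψi, hψir, hψi₁, hψi₂⟩ := hψ.exists_inv hψD
  have hψiQ : ψi '' Q = (Q : Set Ω) := (hψi.mono le_sup_left).image_eq_of_maps hQS (fun x hx => by
    obtain ⟨z, hz, rfl⟩ := exists_of_image hψQr hx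
    rw [hψi₁ z (Subgroup.mem_sup_left hz)]; exact hz) le_rfl
  obtain ⟨g', hg'def⟩ : ∃ g', g' = ψi ∘ g ∘ ψ := ⟨_, rfl⟩
  have hg' : MapFn F D g' := hg'def ▸ (hψ.comp hg fun x hx => mem_of_image hψD hx).comp hψi
    fun x hx => hgD _ (mem_of_image hψD hx)
  have hg'y : g' y = y := by
    rw [hg'def]
    show ψi (g (ψ y)) = y
    rw [hψy, hgw, ← hψy, hψi₁ y hyD]
  have hg'E : MapFn E Q g' := by
    have h1 : MapFn E Q (ψi ∘ f ∘ ψ) := mapFn_transport hEi hQT hf hfm (hψi.mono le_sup_left) hψiQ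
      fun x hx => hψi₂ x (Subgroup.mem_sup_left hx)
    refine h1.congr fun x hx => ?_
    rw [hg'def]
    show ψi (f (ψ x)) = ψi (g (ψ x))
    rw [hgQ _ (hψQ x hx)]
  -- `g'` agrees with `f` on `X`
  have hψiX : ∀ x ∈ X, ψi x = x := fun x hx => by
    conv_lhs => rw [← hψX x hx]
    exact hψi₁ x (Subgroup.mem_sup_left (hXQ hx))
  have hagree : ∀ x ∈ X, f x = g' x := fun x hx => by
    rw [hg'def]
    show f x = ψi (g (ψ x))
    rw [hψX x hx, hgQ x (hXQ hx), hψiX _ (mem_of_image (hinv f hf hfr) hx)]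
  obtain ⟨φ, hφ, hφe⟩ := hf
  obtain ⟨φ', hφ', hφ'e⟩ := hg'E
  obtain ⟨z, hzX, -, hze⟩ := exists_inner_of_agree hST hEs hXQ hXc hφ' hφ
    fun x hx => by rw [hφ'e, hφe]; exact (hagree x hx).symm
  have hzQ : (z : Ω) ∈ Q := z.2
  have hzT : g' (z : Ω) ∈ T := by rw [← hφ'e]; exact apply_mem_S hφ' z
  refine ⟨fun x => g' z * g' x * (g' (z : Ω))⁻¹, hg'.conj_comp (hTS hzT), fun x hx => ?_, ?_⟩
  · show g' z * g' x * (g' (z : Ω))⁻¹ = f x
    have h1 := hze ⟨x, hx⟩
    rw [map_mul, map_mul, map_inv, hφe, hφ'e, hφ'e] at h1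
    exact h1.symm
  · show g' z * g' y * (g' (z : Ω))⁻¹ = y
    rw [hg'y, (mem_centralizerIn.mp hy).2 _ hzT, mul_inv_cancel_right]

end CfsgLib.Fusion
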