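import Mathlib.GroupTheory.FreeGroup.NielsenSchreier
import Mathlib.GroupTheory.FreeGroup.Reduce
import Mathlib.GroupTheory.SemidirectProduct
import Mathlib.GroupTheory.Perm.Basic
import Mathlib.GroupTheory.Coset.Card
import Mathlib.SetTheory.Cardinal.Finite
import Mathlib.Data.Fintype.Perm
import Mathlib.Data.Finset.Max
import Mathlib.Tactic.Group

/-!
# A group acting on a tree with prescribed local isomorphisms

Given a finite group `S` and injective homomorphisms `f i : P i →* S`, we build a group `G` with `S ≤ G`,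
elements conjugating by the `f i`, no other fusion, all finite subgroups conjugate into `S`, and a free
normal subgroup whose index divides `(#S)!`. It lives in a semidirect product of the free group on the
edges of a finite coset graph by a group of permutations of `S`.
-/

set_option autoImplicit false

namespace CfsgLib.Fusion.GraphGroup

open scoped Classical

universe u v

variable {S : Type u} [Group S]

/-- The right regular permutation representation. -/
def lam : S →* Equiv.Perm S where
  toFun x := Equiv.mulRight x⁻¹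
  map_one' := by ext s; simp
  map_mul' x y := by ext s; simp [mul_assoc]

theorem lam_apply (x s : S) : lam x s = s * x⁻¹ := rfl

theorem lam_injective : Function.Injective (lam : S →* Equiv.Perm S) := fun x y h => by
  have := Equiv.congr_fun h 1
  simpa [lam_apply] using this

/-- Splitting a group along the left cosets of a subgroup. -/
noncomputable def cosetEquiv (P : Subgroup S) : S ≃ (S ⧸ P) × P where
  toFun s := (↑s, ⟨(Quotient.out (↑s : S ⧸ P))⁻¹ * s,
    QuotientGroup.eq.mp (QuotientGroup.out_eq' (↑s : S ⧸ P))⟩)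
  invFun z := Quotient.out z.1 * z.2
  left_inv s := by simp
  right_inv z := by
    obtain ⟨c, h⟩ := z
    have hc : ((Quotient.out c * (h : S) : S) : S ⧸ P) = c := by
      rw [QuotientGroup.mk_mul_of_mem _ h.2, QuotientGroup.out_eq']
    refine Prod.ext hc (Subtype.ext ?_)
    simp [hc]

theorem cosetEquiv_mul (P : Subgroup S) (s : S) (q : P) :
    cosetEquiv P (s * q) = ((cosetEquiv P s).1, (cosetEquiv P s).2 * q) := by
  have hc : ((s * q : S) : S ⧸ P) = (s : S ⧸ P) := QuotientGroup.mk_mul_of_mem _ q.2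
  refine Prod.ext hc (Subtype.ext ?_)
  show (Quotient.out ((s * q : S) : S ⧸ P))⁻¹ * (s * q) = _
  rw [hc, ← mul_assoc]
  rfl

/-- A permutation of `S` carrying the regular action of `P` to that of its image. -/
theorem exists_sigma [Finite S] (P : Subgroup S) (f : P →* S) (hf : Function.Injective f) :
    ∃ σ : Equiv.Perm S, ∀ x : P, σ * lam (x : S) = lam (f x) * σ := by
  have hcard : Nat.card (S ⧸ P) = Nat.card (S ⧸ f.range) := by
    have h1 := Subgroup.card_eq_card_quotient_mul_card_subgroup P
    have h2 := Subgroup.card_eq_card_quotient_mul_card_subgroup f.range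
    rw [← Nat.card_congr (f.ofInjective hf).toEquiv] at h2
    exact Nat.eq_of_mul_eq_mul_right Nat.card_pos (h1.symm.trans h2)
  obtain ⟨e⟩ := Finite.card_eq.mp hcard
  refine ⟨(cosetEquiv P).trans ((e.prodCongr (f.ofInjective hf).toEquiv).trans (cosetEquiv f.range).symm),
    fun x => Equiv.ext fun s => ?_⟩
  have h1 : s * (x : S)⁻¹ = s * ((x⁻¹ : P) : S) := rfl
  simp only [Equiv.Perm.mul_apply, lam_apply, Equiv.trans_apply, Equiv.prodCongr_apply]
  rw [h1, cosetEquiv_mul]
  simp only [Prod.map, cosetEquiv, Equiv.coe_fn_mk, Equiv.coe_fn_symm_mk, mul_assoc]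
  simp [MonoidHom.ofInjective_apply]

/-! ### Length in a free group -/

section Free

variable {α : Type v} [DecidableEq α]

theorem norm_eq (x : FreeGroup α) : FreeGroup.norm x = x.toWord.length := rfl

/-- Strip the common beginning of two reduced words. -/
theorem exists_prefix (L M : List (α × Bool)) :
    ∃ C L' M', L = C ++ L' ∧ M = C ++ M' ∧ ∀ a ∈ L'.head?, a ∉ M'.head? := by
  induction L generalizing M with
  | nil => exact ⟨[], [], M, rfl, rfl, by simp⟩
  | cons a L ih =>
    cases M with
    | nil => exact ⟨[], a :: L, [], rfl, rfl, by simp⟩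
    | cons b M =>
      by_cases h : a = b
      · subst h
        obtain ⟨C, L', M', h1, h2, h3⟩ := ih M
        exact ⟨a :: C, L', M', by simp [h1], by simp [h2], h3⟩
      · exact ⟨[], a :: L, b :: M, rfl, rfl, by simp [Ne.symm h]⟩

theorem isReduced_invRev {L : List (α × Bool)} (h : FreeGroup.IsReduced L) :
    FreeGroup.IsReduced (FreeGroup.invRev L) :=
  FreeGroup.isReduced_iff_reduce_eq.mpr (by rw [FreeGroup.reduce_invRev, h.reduce_eq])

/-- The length of `x⁻¹ y` through the common beginning. -/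
theorem norm_inv_mul (x y : FreeGroup α) :
    ∃ C L M, x.toWord = C ++ L ∧ y.toWord = C ++ M ∧
      FreeGroup.norm (x⁻¹ * y) = L.length + M.length ∧ (∀ a ∈ L.head?, a ∉ M.head?) := by
  obtain ⟨C, L, M, hL, hM, hh⟩ := exists_prefix x.toWord y.toWord
  refine ⟨C, L, M, hL, hM, ?_, hh⟩
  have hxr : FreeGroup.IsReduced (C ++ L) := hL ▸ FreeGroup.isReduced_toWord
  have hyr : FreeGroup.IsReduced (C ++ M) := hM ▸ FreeGroup.isReduced_toWord
  have hLr : FreeGroup.IsReduced L := hxr.infix (List.suffix_append C L).isInfix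
  have hMr : FreeGroup.IsReduced M := hyr.infix (List.suffix_append C M).isInfix
  have hred : FreeGroup.IsReduced (FreeGroup.invRev L ++ M) := by
    refine List.IsChain.append (isReduced_invRev hLr) hMr ?_
    intro a ha b hb hab
    cases L with
    | nil => simp [FreeGroup.invRev] at ha
    | cons c L =>
      have : a = (c.1, !c.2) := by simpa [FreeGroup.invRev] using ha.symm
      subst this
      have hcb : c ≠ b := fun e => hh c (by simp) (e ▸ hb)
      have h2 : c.2 ≠ b.2 := fun e => hcb (Prod.ext hab e)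
      show (!c.2) = b.2
      revert h2; cases c.2 <;> cases b.2 <;> simp
  have he : x⁻¹ * y = FreeGroup.mk (FreeGroup.invRev L ++ M) := by
    rw [← FreeGroup.mk_toWord (x := x), ← FreeGroup.mk_toWord (x := y), hL, hM, ← FreeGroup.mul_mk,
      ← FreeGroup.mul_mk, ← FreeGroup.mul_mk, mul_inv_rev, ← FreeGroup.inv_mk]
    group
  rw [norm_eq, he, FreeGroup.toWord_mk, hred.reduce_eq, List.length_append, FreeGroup.invRev_length]

theorem toWord_map_equiv {β : Type v} [DecidableEq β] (e : α → β) (he : Function.Injective e) (x : FreeGroup α) :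
    (FreeGroup.map e x).toWord = x.toWord.map fun z => (e z.1, z.2) := by
  conv_lhs => rw [← FreeGroup.mk_toWord (x := x), FreeGroup.map.mk, FreeGroup.toWord_mk]
  refine FreeGroup.IsReduced.reduce_eq ?_
  rw [FreeGroup.IsReduced, List.isChain_map]
  exact FreeGroup.isReduced_toWord.imp fun a b h hab => h (he hab)

/-- Near both ends of a long segment there are only its middle points. -/
theorem middle {x m : FreeGroup α} {k : ℕ} (hk : k = FreeGroup.norm x / 2)
    {y : FreeGroup α} (hy1 : FreeGroup.norm y ≤ FreeGroup.norm x - k)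
    (hy2 : FreeGroup.norm (y⁻¹ * x) ≤ FreeGroup.norm x - k)
    (hm : m = FreeGroup.mk (x.toWord.take k)) :
    y = m ∨ (FreeGroup.norm x = 2 * k + 1 ∧ y = FreeGroup.mk (x.toWord.take (k + 1))) := by
  obtain ⟨C, L, M, hL, hM, hn, -⟩ := norm_inv_mul y x
  rw [norm_eq, hL, List.length_append] at hy1
  rw [hn] at hy2
  have hx : FreeGroup.norm x = C.length + M.length := by rw [norm_eq, hM, List.length_append]
  have htake : x.toWord.take C.length = C := by rw [hM, List.take_left]
  have hL0 : L.length = 0 := by omega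
  have hyC : y = FreeGroup.mk C := by
    rw [← FreeGroup.mk_toWord (x := y), hL, List.length_eq_zero_iff.mp hL0, List.append_nil]
  rcases (show C.length = k ∨ (FreeGroup.norm x = 2 * k + 1 ∧ C.length = k + 1) by omega) with h | ⟨h1, h2⟩
  · exact Or.inl (by rw [hm, hyC, ← h, htake])
  · exact Or.inr ⟨h1, by rw [hyC, ← h2, htake]⟩

/-- A middle point is near every point of a set of diameter at most the length. -/
theorem middle_near {x v : FreeGroup α} {j : ℕ} (hj1 : FreeGroup.norm x ≤ 2 * j + 1)
    (hj2 : 2 * j ≤ FreeGroup.norm x + 1)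
    (hv : FreeGroup.norm v ≤ FreeGroup.norm x) (hxv : FreeGroup.norm (x⁻¹ * v) ≤ FreeGroup.norm x) :
    FreeGroup.norm ((FreeGroup.mk (x.toWord.take j))⁻¹ * v) ≤
      FreeGroup.norm x - FreeGroup.norm x / 2 := by
  have hjx : j ≤ x.toWord.length := by rw [norm_eq] at hj2 hj1; omega
  obtain ⟨C, L, M, hL, hM, hn, -⟩ := norm_inv_mul x v
  rw [hn] at hxv
  simp only [norm_eq, hM, hL, List.length_append] at hv hxv hj1 hj2 hjx
  by_cases hjC : j ≤ C.length
  · have ht : x.toWord.take j = C.take j := by rw [hL, List.take_append_of_le_length hjC]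
    have h2 : v.toWord = C.take j ++ (C.drop j ++ M) := by
      rw [← List.append_assoc, List.take_append_drop, hM]
    have he : (FreeGroup.mk (x.toWord.take j))⁻¹ * v = FreeGroup.mk (C.drop j ++ M) := by
      rw [ht, inv_mul_eq_iff_eq_mul, FreeGroup.mul_mk, ← h2, FreeGroup.mk_toWord]
    rw [he]
    refine FreeGroup.norm_mk_le.trans ?_
    simp only [norm_eq, hL, List.length_append, List.length_drop]
    omega
  · have ht : x.toWord.take j = C ++ L.take (j - C.length) := by
      rw [hL, List.take_append, List.take_of_length_le (by omega)]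
    have he : (FreeGroup.mk (x.toWord.take j))⁻¹ * v =
        FreeGroup.mk (FreeGroup.invRev (L.take (j - C.length)) ++ M) := by
      rw [ht, ← FreeGroup.mul_mk, ← FreeGroup.mul_mk, ← FreeGroup.inv_mk, mul_inv_rev,
        ← FreeGroup.mk_toWord (x := v), hM, ← FreeGroup.mul_mk]
      group
    rw [he]
    refine FreeGroup.norm_mk_le.trans ?_
    simp only [norm_eq, hL, List.length_append, FreeGroup.invRev_length, List.length_take]
    omega

end Free

/-! ### The construction -/

/-- The data: local isomorphisms and permutations inducing them. -/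
structure Setup (S : Type u) [Group S] where
  Gen : Type u
  P : Gen → Subgroup S
  f : (i : Gen) → P i →* S
  σ : Gen → Equiv.Perm S
  hσ : ∀ (i : Gen) (x : P i), σ i * lam (x : S) = lam (f i x) * σ i

namespace Setup

variable (D : Setup S)

/-- The group of permutations generated by the regular image and the chosen permutations. -/
def Q : Subgroup (Equiv.Perm S) := Subgroup.closure (Set.range lam ∪ Set.range D.σ)

/-- `S` inside `Q`. -/
def toQ : S →* D.Q := lam.codRestrict D.Q fun x => Subgroup.subset_closure (Or.inl ⟨x, rfl⟩)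

/-- The chosen permutations inside `Q`. -/
def sQ (i : D.Gen) : D.Q := ⟨D.σ i, Subgroup.subset_closure (Or.inr ⟨i, rfl⟩)⟩

theorem toQ_injective : Function.Injective D.toQ :=
  fun _ _ h => lam_injective (congrArg Subtype.val h)

theorem sQ_mul (i : D.Gen) (x : D.P i) : D.sQ i * D.toQ x = D.toQ (D.f i x) * D.sQ i :=
  Subtype.ext (D.hσ i x)

/-- The image of `P i` in `Q`. -/
def PQ (i : D.Gen) : Subgroup D.Q := (D.P i).map D.toQ

/-- Vertices. -/
abbrev V : Type u := D.Q ⧸ D.toQ.range

/-- Edges. -/
abbrev Ed : Type u := Σ i : D.Gen, D.Q ⧸ D.PQ i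

noncomputable instance decEqEd : DecidableEq D.Ed := Classical.decEq _

/-- Beginning of an edge. -/
def src (e : D.Ed) : D.V :=
  Quotient.liftOn' e.2 (fun q => (q : D.V)) fun a b h => by
    rw [QuotientGroup.leftRel_apply] at h
    obtain ⟨x, -, hx⟩ := h
    exact QuotientGroup.eq.mpr ⟨x, hx⟩

/-- End of an edge. -/
def tgt (e : D.Ed) : D.V :=
  Quotient.liftOn' e.2 (fun q => ((q * (D.sQ e.1)⁻¹ : D.Q) : D.V)) fun a b h => by
    rw [QuotientGroup.leftRel_apply] at h
    obtain ⟨x, hxP, hx⟩ := h
    refine QuotientGroup.eq.mpr ⟨D.f e.1 ⟨x, hxP⟩, ?_⟩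
    have h1 := D.sQ_mul e.1 ⟨x, hxP⟩
    rw [show (D.toQ x) = a⁻¹ * b from hx] at h1
    rw [← mul_inv_cancel_right (D.toQ (D.f e.1 ⟨x, hxP⟩)) (D.sQ e.1), ← h1, mul_inv_rev, inv_inv]
    simp only [mul_assoc]

theorem src_mk (i : D.Gen) (q : D.Q) : D.src ⟨i, ↑q⟩ = ↑q := rfl

theorem tgt_mk (i : D.Gen) (q : D.Q) : D.tgt ⟨i, ↑q⟩ = ↑(q * (D.sQ i)⁻¹) := rfl

/-- The action on edges. -/
def act : D.Q →* Equiv.Perm D.Ed where
  toFun q := Equiv.sigmaCongrRight fun i => MulAction.toPerm q
  map_one' := Equiv.ext fun ⟨i, c⟩ => by simp [MulAction.toPerm]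
  map_mul' a b := Equiv.ext fun ⟨i, c⟩ => by simp [MulAction.toPerm, mul_smul]

theorem act_mk (q r : D.Q) (i : D.Gen) : D.act q ⟨i, ↑r⟩ = ⟨i, ↑(q * r)⟩ := rfl

/-- The action on the free group of the edges. -/
def phi : D.Q →* MulAut (FreeGroup D.Ed) where
  toFun q := FreeGroup.freeGroupCongr (D.act q)
  map_one' := MulEquiv.ext fun x => by
    show FreeGroup.map _ x = x
    rw [map_one]
    exact FreeGroup.map.id x
  map_mul' a b := MulEquiv.ext fun x => by
    show FreeGroup.map _ x = FreeGroup.map _ (FreeGroup.map _ x)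
    rw [FreeGroup.map.comp, map_mul]
    rfl

theorem toWord_phi (q : D.Q) (w : FreeGroup D.Ed) :
    (D.phi q w).toWord = w.toWord.map fun z => (D.act q z.1, z.2) :=
  toWord_map_equiv _ (D.act q).injective w

theorem phi_of (q : D.Q) (e : D.Ed) : D.phi q (FreeGroup.of e) = FreeGroup.of (D.act q e) :=
  FreeGroup.map.of

/-- The ambient semidirect product. -/
abbrev Amb : Type u := SemidirectProduct (FreeGroup D.Ed) D.Q D.phi

/-- A generator carrying the local isomorphism. -/
def T (i : D.Gen) : D.Amb := ⟨FreeGroup.of ⟨i, ↑(1 : D.Q)⟩, (D.sQ i)⁻¹⟩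

/-- The group. -/
def Grp : Subgroup D.Amb :=
  Subgroup.closure (Set.range (fun s : S => (SemidirectProduct.inr (D.toQ s) : D.Amb)) ∪ Set.range D.T)

theorem inr_mem (s : S) : (SemidirectProduct.inr (D.toQ s) : D.Amb) ∈ D.Grp :=
  Subgroup.subset_closure (Or.inl ⟨s, rfl⟩)

theorem T_mem (i : D.Gen) : D.T i ∈ D.Grp := Subgroup.subset_closure (Or.inr ⟨i, rfl⟩)

/-- `S` inside the group. -/
def emb : S →* D.Grp :=
  ((SemidirectProduct.inr : D.Q →* D.Amb).comp D.toQ).codRestrict D.Grp D.inr_mem

theorem emb_injective : Function.Injective D.emb := fun _ _ h =>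
  D.toQ_injective (congrArg (fun z : D.Grp => (z : D.Amb).right) h)

/-! ### Walks -/

/-- Beginning of a letter. -/
def st (z : D.Ed × Bool) : D.V := if z.2 then D.src z.1 else D.tgt z.1

/-- End of a letter. -/
def en (z : D.Ed × Bool) : D.V := if z.2 then D.tgt z.1 else D.src z.1

/-- The word is a walk from `a` to `b`. -/
def Walk : D.V → List (D.Ed × Bool) → D.V → Prop
  | a, [], b => a = b
  | a, z :: L, b => D.st z = a ∧ Walk (D.en z) L b

theorem walk_append {a b : D.V} {L M : List (D.Ed × Bool)} :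
    D.Walk a (L ++ M) b ↔ ∃ c, D.Walk a L c ∧ D.Walk c M b := by
  induction L generalizing a with
  | nil => exact ⟨fun h => ⟨a, rfl, h⟩, fun ⟨c, h1, h2⟩ => h1 ▸ h2⟩
  | cons z L ih =>
    show (D.st z = a ∧ D.Walk _ (L ++ M) b) ↔ ∃ c, (D.st z = a ∧ D.Walk _ L c) ∧ D.Walk c M b
    rw [ih]
    exact ⟨fun ⟨h, c, h1, h2⟩ => ⟨c, ⟨h, h1⟩, h2⟩, fun ⟨c, ⟨h, h1⟩, h2⟩ => ⟨h, c, h1, h2⟩⟩

theorem walk_step {a b : D.V} {L M : List (D.Ed × Bool)} (h : FreeGroup.Red.Step L M)
    (hw : D.Walk a L b) : D.Walk a M b := by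
  cases h with
  | @not L1 L2 x c =>
    obtain ⟨d, h1, h2, h3, h4⟩ := (D.walk_append).mp hw
    refine (D.walk_append).mpr ⟨d, h1, ?_⟩
    have : D.en (x, !c) = D.st (x, c) := by cases c <;> simp [st, en]
    rw [this, h2] at h4
    exact h4

theorem walk_red {a b : D.V} {L M : List (D.Ed × Bool)} (h : FreeGroup.Red L M)
    (hw : D.Walk a L b) : D.Walk a M b := by
  induction h with
  | refl => exact hw
  | tail _ h2 ih => exact D.walk_step h2 ih

theorem src_act (q : D.Q) (e : D.Ed) : D.src (D.act q e) = q • D.src e := by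
  obtain ⟨i, c⟩ := e
  induction c using QuotientGroup.induction_on
  rfl

theorem tgt_act (q : D.Q) (e : D.Ed) : D.tgt (D.act q e) = q • D.tgt e := by
  obtain ⟨i, c⟩ := e
  induction c using QuotientGroup.induction_on with
  | H r =>
    rw [act_mk, tgt_mk, tgt_mk, mul_assoc]
    rfl

theorem walk_map {a b : D.V} {L : List (D.Ed × Bool)} (q : D.Q) (hw : D.Walk a L b) :
    D.Walk (q • a) (L.map fun z => (D.act q z.1, z.2)) (q • b) := by
  induction L generalizing a with
  | nil => exact congrArg (q • ·) hw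
  | cons z L ih =>
    obtain ⟨h1, h2⟩ := hw
    refine ⟨?_, ?_⟩
    · rw [← h1]; obtain ⟨e, c⟩ := z; cases c <;> simp [st, src_act, tgt_act]
    · have h3 := ih h2
      convert h3 using 1
      obtain ⟨e, c⟩ := z; cases c <;> simp [en, src_act, tgt_act]

theorem walk_invRev {a b : D.V} {L : List (D.Ed × Bool)} (hw : D.Walk a L b) :
    D.Walk b (FreeGroup.invRev L) a := by
  induction L generalizing a with
  | nil => exact hw.symm
  | cons z L ih =>
    obtain ⟨h1, h2⟩ := hw
    rw [FreeGroup.invRev_cons]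
    refine (D.walk_append).mpr ⟨_, ih h2, ?_⟩
    obtain ⟨e, c⟩ := z
    cases c <;> exact ⟨by simp [st, en], show _ = a by simpa [st, en] using h1⟩

/-- The base vertex moved by `q`. -/
def vx (q : D.Q) : D.V := (q : D.V)

theorem smul_vx (a b : D.Q) : a • D.vx b = D.vx (a * b) := rfl

/-- Every element of the group is a walk. -/
theorem walk_of_mem {g : D.Amb} (hg : g ∈ D.Grp) : D.Walk (D.vx 1) g.left.toWord (D.vx g.right) := by
  induction hg using Subgroup.closure_induction with
  | mem g hg =>
    rcases hg with ⟨s, rfl⟩ | ⟨i, rfl⟩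
    · show D.Walk _ (1 : FreeGroup D.Ed).toWord _
      rw [FreeGroup.toWord_one]
      exact QuotientGroup.eq.mpr ⟨s, by simp⟩
    · show D.Walk _ (FreeGroup.of (⟨i, ↑(1 : D.Q)⟩ : D.Ed)).toWord _
      rw [FreeGroup.toWord_of]
      refine ⟨show (if true = true then D.src ⟨i, ↑(1 : D.Q)⟩ else _) = _ by rw [if_pos rfl]; rfl, ?_⟩
      show (if true = true then D.tgt ⟨i, ↑(1 : D.Q)⟩ else _) = _
      rw [if_pos rfl]
      rw [tgt_mk, one_mul]; rfl
  | one => exact (FreeGroup.toWord_one (α := D.Ed)).symm ▸ rfl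
  | mul g g' _ _ h h' =>
    rw [SemidirectProduct.mul_left, SemidirectProduct.mul_right, FreeGroup.toWord_mul]
    refine D.walk_red FreeGroup.reduce.red ((D.walk_append).mpr ⟨_, h, ?_⟩)
    have := D.walk_map g.right h'
    rw [smul_vx, smul_vx, mul_one] at this
    rwa [toWord_phi]
  | inv g _ h =>
    rw [SemidirectProduct.inv_left, SemidirectProduct.inv_right, toWord_phi, FreeGroup.toWord_inv]
    have := D.walk_map g.right⁻¹ (D.walk_invRev h)
    rwa [smul_vx, smul_vx, inv_mul_cancel, mul_one] at this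

/-- Representatives of an edge beginning or ending at the base vertex. -/
theorem exists_first {z : D.Ed × Bool} (h : D.st z = D.vx 1) :
    ∃ (i : D.Gen) (s : S) (g : D.Amb), g ∈ D.Grp ∧ g.left = FreeGroup.mk [z] ∧ D.en z = D.vx g.right ∧
      ((g = SemidirectProduct.inr (D.toQ s) * D.T i ∧ z = (⟨i, ↑(D.toQ s)⟩, true)) ∨
        (g = SemidirectProduct.inr (D.toQ s) * (D.T i)⁻¹ ∧
          z = (⟨i, ↑(D.toQ s * D.sQ i)⟩, false))) := by
  obtain ⟨⟨i, c⟩, b⟩ := z
  induction c using QuotientGroup.induction_on with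
  | H r =>
  cases b
  · have h1 : ((r * (D.sQ i)⁻¹ : D.Q) : D.V) = ((1 : D.Q) : D.V) := by
      simpa [st, tgt_mk, vx] using h
    obtain ⟨t, ht⟩ := QuotientGroup.eq.mp h1.symm
    rw [inv_one, one_mul] at ht
    have hr : D.toQ t * D.sQ i = r := by rw [ht, inv_mul_cancel_right]
    refine ⟨i, t, SemidirectProduct.inr (D.toQ t) * (D.T i)⁻¹, D.Grp.mul_mem (D.inr_mem t)
      (D.Grp.inv_mem (D.T_mem i)), ?_, ?_, Or.inr ⟨rfl, by rw [hr]⟩⟩
    · simp only [T, SemidirectProduct.mul_left, SemidirectProduct.left_inr, SemidirectProduct.right_inr,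
        SemidirectProduct.inv_left, one_mul, inv_inv, map_inv, phi_of, act_mk, mul_one, hr]
      rfl
    · simp [en, src_mk, T, vx, hr]
  · have h1 : ((r : D.Q) : D.V) = ((1 : D.Q) : D.V) := by
      simpa [st, src_mk, vx] using h
    obtain ⟨t, ht⟩ := QuotientGroup.eq.mp h1.symm
    rw [inv_one, one_mul] at ht
    subst ht
    refine ⟨i, t, SemidirectProduct.inr (D.toQ t) * D.T i, D.Grp.mul_mem (D.inr_mem t) (D.T_mem i),
      ?_, ?_, Or.inl ⟨rfl, rfl⟩⟩
    · simp only [T, SemidirectProduct.mul_left, SemidirectProduct.left_inr, SemidirectProduct.right_inr,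
        one_mul, phi_of, act_mk, mul_one]
      rfl
    · simp [en, tgt_mk, T, vx]

/-- Every walk from the base vertex comes from the group. -/
theorem exists_of_walk {L : List (D.Ed × Bool)} : ∀ {g : D.Amb}, g ∈ D.Grp → ∀ {b : D.V},
    D.Walk (D.vx g.right) L b →
    ∃ g' ∈ D.Grp, g'.left = g.left * FreeGroup.mk L ∧ D.vx g'.right = b := by
  induction L with
  | nil => exact fun {g} hg {b} h => ⟨g, hg, by rw [← FreeGroup.one_eq_mk, mul_one], h⟩
  | cons z L ih =>
    intro g hg b h
    obtain ⟨h1, h2⟩ := h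
    set z' : D.Ed × Bool := (D.act g.right⁻¹ z.1, z.2) with hz'
    have hst : D.st z' = D.vx 1 := by
      have : D.st z' = g.right⁻¹ • D.st z := by
        obtain ⟨e, c⟩ := z; cases c <;> simp [hz', st, src_act, tgt_act, -map_inv]
      rw [this, h1, smul_vx, inv_mul_cancel]
    obtain ⟨i, s, k, hk, hkl, hken, -⟩ := D.exists_first hst
    have hen : D.vx (g * k).right = D.en z := by
      rw [SemidirectProduct.mul_right, ← smul_vx, ← hken]
      obtain ⟨e, c⟩ := z; cases c <;> simp [hz', en, src_act, tgt_act, -map_inv]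
    have hl : (g * k).left = g.left * FreeGroup.mk [z] := by
      rw [SemidirectProduct.mul_left, hkl]
      congr 1
      show FreeGroup.map _ (FreeGroup.mk [z']) = _
      rw [FreeGroup.map.mk]
      congr 1
      simp [hz']
    obtain ⟨g', hg', hl', hr'⟩ := ih (g := g * k) (D.Grp.mul_mem hg hk) (hen ▸ h2)
    exact ⟨g', hg', by rw [hl', hl, mul_assoc, FreeGroup.mul_mk]; rfl, hr'⟩

/-- An element with trivial word lies in `S`. -/
theorem exists_eq_inr {g : D.Amb} (hg : g ∈ D.Grp) (hl : g.left = 1) :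
    ∃ s : S, g = SemidirectProduct.inr (D.toQ s) := by
  have h := D.walk_of_mem hg
  rw [hl, FreeGroup.toWord_one] at h
  obtain ⟨s, hs⟩ := QuotientGroup.eq.mp (h : D.vx 1 = D.vx g.right)
  rw [inv_one, one_mul] at hs
  exact ⟨s, SemidirectProduct.ext hl hs.symm⟩

/-- The generator conjugates by its local isomorphism. -/
theorem inr_mul_T (i : D.Gen) (x : D.P i) :
    SemidirectProduct.inr (D.toQ x) * D.T i =
      D.T i * SemidirectProduct.inr (D.toQ (D.f i x)) := by
  refine SemidirectProduct.ext ?_ ?_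
  · simp only [T, SemidirectProduct.mul_left, SemidirectProduct.left_inr, SemidirectProduct.right_inr,
      one_mul, map_one, mul_one, phi_of, act_mk]
    congr 2
    exact QuotientGroup.eq.mpr ⟨(x : S)⁻¹, (D.P i).inv_mem x.2, by simp⟩
  · simp only [T, SemidirectProduct.mul_right, SemidirectProduct.right_inr]
    rw [eq_inv_mul_iff_mul_eq, ← mul_assoc, sQ_mul, mul_inv_cancel_right]

/-- Fusion in the group is generated by the local isomorphisms and by `S`. -/
theorem fusion {Δ : Type*} (j : Δ → S) (C : (Δ → S) → Prop) (h0 : C j)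
    (hconj : ∀ (s : S) (w : Δ → S), C w → C fun d => s * w d * s⁻¹)
    (hf : ∀ (i : D.Gen) (w : Δ → S) (hw : ∀ d, w d ∈ D.P i), C w → C fun d => D.f i ⟨w d, hw d⟩)
    (hfi : ∀ (i : D.Gen) (w : Δ → S) (hw : ∀ d, w d ∈ D.P i), (C fun d => D.f i ⟨w d, hw d⟩) → C w)
    (g : D.Grp) (u : Δ → S) (hu : ∀ d, g * D.emb (j d) = D.emb (u d) * g) : C u := by
  obtain ⟨g, hg⟩ := g
  induction hn : g.left.toWord.length using Nat.strong_induction_on generalizing g u with
  | _ n ih =>
  have hu' : ∀ d, g * SemidirectProduct.inr (D.toQ (j d)) = SemidirectProduct.inr (D.toQ (u d)) * g :=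
    fun d => congrArg Subtype.val (hu d)
  match hL : g.left.toWord with
  | [] =>
    obtain ⟨s, rfl⟩ := D.exists_eq_inr hg (FreeGroup.toWord_eq_nil_iff.mp hL)
    have : u = fun d => s * j d * s⁻¹ := funext fun d => by
      have h2 := D.toQ_injective (SemidirectProduct.inr_injective
        (by rw [map_mul, map_mul, map_mul, map_mul]; exact hu' d :
          (SemidirectProduct.inr (D.toQ (s * j d)) : D.Amb) = SemidirectProduct.inr (D.toQ (u d * s))))
      rw [h2, mul_inv_cancel_right]
    exact this ▸ hconj s j h0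
  | z :: L =>
    have hw := D.walk_of_mem hg
    rw [hL] at hw
    -- the first letter is fixed
    have hfix : ∀ d, D.act (D.toQ (u d)) z.1 = z.1 := fun d => by
      have h1 := congrArg SemidirectProduct.left (hu' d)
      simp only [SemidirectProduct.mul_left, SemidirectProduct.left_inr, SemidirectProduct.right_inr,
        map_one, mul_one, one_mul] at h1
      have h2 := congrArg FreeGroup.toWord h1
      rw [toWord_phi, hL, List.map_cons, List.cons.injEq] at h2
      exact (congrArg Prod.fst h2.1).symm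
    obtain ⟨i, s, k, hk, hkl, -, hcase⟩ := D.exists_first hw.1
    have hred : FreeGroup.IsReduced L :=
      (hL ▸ FreeGroup.isReduced_toWord : FreeGroup.IsReduced (z :: L)).infix
        (List.suffix_cons z L).isInfix
    have hrest : (k⁻¹ * g).left.toWord.length < n := by
      have : (k⁻¹ * g).left = D.phi k.right⁻¹ (FreeGroup.mk L) := by
        rw [SemidirectProduct.mul_left, SemidirectProduct.inv_left, SemidirectProduct.inv_right, ← map_mul]
        congr 1
        rw [hkl, inv_mul_eq_iff_eq_mul, FreeGroup.mul_mk]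
        show g.left = FreeGroup.mk (z :: L)
        rw [← hL, FreeGroup.mk_toWord]
      rw [this, toWord_phi, List.length_map, FreeGroup.toWord_mk, hred.reduce_eq, ← hn, hL,
        List.length_cons]
      exact Nat.lt_succ_self _
    rcases hcase with ⟨hk', hz⟩ | ⟨hk', hz⟩
    · have hp : ∀ d, s⁻¹ * u d * s ∈ D.P i := fun d => by
        have h1 := hfix d
        rw [hz] at h1
        dsimp only at h1
        rw [act_mk, Sigma.mk.injEq] at h1
        obtain ⟨x, hx, hxe⟩ := QuotientGroup.eq.mp (eq_of_heq h1.2).symm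
        rw [← map_inv, ← map_mul, ← map_mul] at hxe
        rw [mul_assoc, ← D.toQ_injective hxe]
        exact hx
      have h1 := ih _ hrest (fun d => D.f i ⟨_, hp d⟩) (k⁻¹ * g) (D.Grp.mul_mem (D.Grp.inv_mem hk) hg)
        (fun d => Subtype.ext (?_)) rfl
      · have h3 := hconj s _ (hfi i _ hp h1)
        have he : (fun d => s * (s⁻¹ * u d * s) * s⁻¹) = u := funext fun d => by group
        rwa [he] at h3
      show k⁻¹ * g * SemidirectProduct.inr (D.toQ (j d)) =
        SemidirectProduct.inr (D.toQ (D.f i ⟨_, hp d⟩)) * (k⁻¹ * g)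
      rw [mul_assoc, hu' d, hk', mul_inv_rev]
      have h4 := D.inr_mul_T i ⟨_, hp d⟩
      rw [map_mul, map_mul, map_mul, map_mul, map_inv, map_inv] at h4
      rw [eq_inv_mul_iff_mul_eq.mpr h4.symm]
      group
    · have hp : ∀ d, ∃ x : D.P i, D.f i x = s⁻¹ * u d * s := fun d => by
        have h1 := hfix d
        rw [hz] at h1
        dsimp only at h1
        rw [act_mk, Sigma.mk.injEq] at h1
        obtain ⟨x, hx, hxe⟩ := QuotientGroup.eq.mp (eq_of_heq h1.2).symm
        refine ⟨⟨x, hx⟩, D.toQ_injective ?_⟩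
        rw [← mul_inv_cancel_right (D.toQ (D.f i ⟨x, hx⟩)) (D.sQ i), ← sQ_mul,
          show D.toQ x = _ from hxe, map_mul, map_mul, map_inv]
        group
      choose x hx using hp
      have h1 := ih _ hrest (fun d => (x d : S)) (k⁻¹ * g) (D.Grp.mul_mem (D.Grp.inv_mem hk) hg)
        (fun d => Subtype.ext (?_)) rfl
      · have h3 := hconj s _ (hf i _ (fun d => (x d).2) h1)
        have he : (fun d => s * D.f i ⟨(x d : S), (x d).2⟩ * s⁻¹) = u := funext fun d => by
          rw [Subtype.coe_eta, hx]; group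
        rwa [he] at h3
      show k⁻¹ * g * SemidirectProduct.inr (D.toQ (j d)) =
        SemidirectProduct.inr (D.toQ (x d : S)) * (k⁻¹ * g)
      rw [mul_assoc, hu' d, hk', mul_inv_rev, inv_inv]
      have h4 := D.inr_mul_T i (x d)
      rw [hx d, map_mul, map_mul, map_mul, map_mul, map_inv, map_inv] at h4
      rw [show D.T i * (SemidirectProduct.inr (D.toQ s))⁻¹ * (SemidirectProduct.inr (D.toQ (u d)) * g) =
        D.T i * ((SemidirectProduct.inr (D.toQ s))⁻¹ * SemidirectProduct.inr (D.toQ (u d)) *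
          SemidirectProduct.inr (D.toQ s)) * ((SemidirectProduct.inr (D.toQ s))⁻¹ * g) by group, ← h4]
      group

/-- Every finite subgroup is conjugate into `S`. -/
theorem finite_conj (H : Subgroup D.Grp) [Finite H] :
    ∃ g : D.Grp, ∀ h ∈ H, g * h * g⁻¹ ∈ D.emb.range := by
  let o : H → FreeGroup D.Ed := fun h => ((h : D.Grp) : D.Amb).left
  let A : H → FreeGroup D.Ed → FreeGroup D.Ed := fun h y => o h * D.phi ((h : D.Grp) : D.Amb).right y
  have hAn : ∀ h y z, FreeGroup.norm ((A h y)⁻¹ * A h z) = FreeGroup.norm (y⁻¹ * z) := by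
    intro h y z
    show FreeGroup.norm ((o h * _)⁻¹ * (o h * _)) = _
    rw [mul_inv_rev, mul_assoc, inv_mul_cancel_left, ← map_inv, ← map_mul, norm_eq, norm_eq, toWord_phi,
      List.length_map]
  have hAo : ∀ h k, A h (o k) = o (h * k) := fun h k => rfl
  have hAA : ∀ h k y, A h (A k y) = A (h * k) y := fun h k y => by
    show o h * D.phi _ (o k * _) = o h * D.phi _ (o k) * _
    rw [map_mul, ← mul_assoc]
    congr 1
    simp [map_mul]
  haveI : Fintype H := Fintype.ofFinite H
  obtain ⟨h₀, -, hmax'⟩ := Finset.exists_max_image (Finset.univ : Finset H) (fun h => FreeGroup.norm (o h))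
    ⟨1, Finset.mem_univ _⟩
  have hmax : ∀ h, FreeGroup.norm (o h) ≤ FreeGroup.norm (o h₀) := fun h => hmax' h (Finset.mem_univ _)
  set x := o h₀ with hx
  set n := FreeGroup.norm x
  set k := n / 2 with hk
  set m := FreeGroup.mk (x.toWord.take k) with hm
  have hdiam : ∀ a b, FreeGroup.norm ((o a)⁻¹ * o b) ≤ n := fun a b => by
    have h1 : o b = A a (o (a⁻¹ * b)) := by rw [hAo, mul_inv_cancel_left]
    have h2 : o a = A a 1 := by simp [A]
    rw [h1, h2, hAn, inv_one, one_mul]
    exact hmax _
  let Near : FreeGroup D.Ed → Prop := fun y => ∀ h, FreeGroup.norm (y⁻¹ * o h) ≤ n - k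
  have hnear : ∀ j, n ≤ 2 * j + 1 → 2 * j ≤ n + 1 → Near (FreeGroup.mk (x.toWord.take j)) :=
    fun j h1 h2 h => middle_near h1 h2 (hmax h) (hdiam h₀ h)
  have honly : ∀ y, Near y →
      y = m ∨ (n = 2 * k + 1 ∧ y = FreeGroup.mk (x.toWord.take (k + 1))) := fun y hy => by
    refine middle rfl ?_ (hy h₀) rfl
    have := hy 1
    rwa [show o 1 = (1 : FreeGroup D.Ed) from rfl, mul_one, FreeGroup.norm_inv_eq] at this
  have hinv : ∀ h y, Near y → Near (A h y) := fun h y hy a => by
    rw [show o a = A h (o (h⁻¹ * a)) by rw [hAo, mul_inv_cancel_left], hAn]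
    exact hy _
  have hmN : Near m := hnear k (by omega) (by omega)
  have hfix : ∀ h, A h m = m := by
    intro h
    rcases honly _ (hinv h m hmN) with h1 | ⟨hodd, h1⟩
    · exact h1
    exfalso
    set m' := FreeGroup.mk (x.toWord.take (k + 1)) with hm'
    have hlt : k < x.toWord.length := by rw [← norm_eq]; omega
    set a := x.toWord[k] with ha
    have hm'm : m' = m * FreeGroup.mk [a] := by
      rw [hm', hm, FreeGroup.mul_mk, List.take_succ_eq_append_getElem hlt]
    rcases honly _ (hinv h m' (hnear (k + 1) (by omega) (by omega))) with h2 | ⟨-, h2⟩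
    · have e : (A h m)⁻¹ * A h m' = D.phi ((h : D.Grp) : D.Amb).right (m⁻¹ * m') := by
        show (o h * _)⁻¹ * (o h * _) = _
        rw [mul_inv_rev, mul_assoc, inv_mul_cancel_left, ← map_inv, ← map_mul]
      rw [h1, h2, hm'm, mul_inv_rev, inv_mul_cancel_right, inv_mul_cancel_left] at e
      have e2 := congrArg FreeGroup.toWord e
      rw [toWord_phi, FreeGroup.toWord_inv, FreeGroup.toWord_mk, FreeGroup.reduce_singleton] at e2
      simp [FreeGroup.invRev] at e2
    · have h3 : m = m' := by
        have e : A h m = A h m' := h1.trans h2.symm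
        have := congrArg (fun y => A h⁻¹ y) e
        simp only [hAA, inv_mul_cancel] at this
        simpa [A, o] using this
      rw [hm'm, left_eq_mul, FreeGroup.one_eq_mk] at h3
      have := FreeGroup.reduce.sound h3
      simp at this
  -- the fixed point is a walk
  have hw := D.walk_of_mem (h₀ : D.Grp).2
  rw [show ((h₀ : D.Grp) : D.Amb).left = x from rfl, ← List.take_append_drop k x.toWord] at hw
  obtain ⟨c, hw1, -⟩ := (D.walk_append).mp hw
  obtain ⟨g, hg, hgl, -⟩ := D.exists_of_walk (L := x.toWord.take k) (g := 1) D.Grp.one_mem hw1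
  rw [SemidirectProduct.one_left, one_mul, ← hm] at hgl
  refine ⟨(⟨g, hg⟩ : D.Grp)⁻¹, fun h hh => ?_⟩
  obtain ⟨s, hs⟩ := D.exists_eq_inr
    (((⟨g, hg⟩ : D.Grp)⁻¹ * h * (⟨g, hg⟩ : D.Grp)).2) (by
      show (g⁻¹ * (h : D.Amb) * g).left = 1
      have h1 := hfix ⟨h, hh⟩
      simp only [A, o] at h1
      rw [mul_assoc, SemidirectProduct.mul_left, SemidirectProduct.mul_left, SemidirectProduct.inv_left,
        SemidirectProduct.inv_right, ← map_mul, hgl, h1, inv_mul_cancel, map_one])
  rw [inv_inv]
  exact ⟨s, Subtype.ext hs.symm⟩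

/-- The free normal subgroup. -/
theorem exists_free [Finite S] :
    ∃ N : Subgroup D.Grp, N.Normal ∧ IsFreeGroup N ∧ N.index ∣ (Nat.card S).factorial := by
  set r : D.Grp →* D.Q := SemidirectProduct.rightHom.comp D.Grp.subtype with hr
  refine ⟨r.ker, inferInstance, ?_, ?_⟩
  · let l : r.ker →* FreeGroup D.Ed := MonoidHom.mk' (fun x => ((x : D.Grp) : D.Amb).left) fun a b => by
      have ha : ((a : D.Grp) : D.Amb).right = 1 := a.2
      show (((a : D.Grp) : D.Amb) * ((b : D.Grp) : D.Amb)).left = _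
      rw [SemidirectProduct.mul_left, ha, map_one]; rfl
    have hl : Function.Injective l := fun a b h => Subtype.ext (Subtype.ext
      (SemidirectProduct.ext h ((show ((a : D.Grp) : D.Amb).right = 1 from a.2).trans
        (show ((b : D.Grp) : D.Amb).right = 1 from b.2).symm)))
    exact IsFreeGroup.ofMulEquiv (l.ofInjective hl).symm
  · rw [Subgroup.index_ker]
    have : Fintype S := Fintype.ofFinite S
    rw [show (Nat.card S).factorial = Nat.card (Equiv.Perm S) by
      rw [Nat.card_eq_fintype_card, Nat.card_eq_fintype_card, Fintype.card_perm]]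
    exact (Subgroup.card_subgroup_dvd_card _).trans (Subgroup.card_subgroup_dvd_card D.Q)

end Setup

end CfsgLib.Fusion.GraphGroup
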