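import Cfsg.Agent.Lib.Fusion.Normal
import Cfsg.Agent.Lib.Fusion.AbelianIndexP
import Cfsg.Agent.Lib.Fusion.Saturated
import Cfsg.Agent.Lib.Fusion.Ext
import Cfsg.Agent.Lib.Fusion.ModelExists

/-!
Saturated systems over groups of Heisenberg type (class two, every non-central element has
commutator image the whole centre and abelian centralizer): a nontrivial `O_p` forces
constrainedness.
-/

set_option autoImplicit false

namespace CfsgLib.Fusion.HeisenbergCore

open Cfsg Cfsg.FusionSystem CfsgLib.Fusion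
open scoped commutatorElement

/-- Groups of Heisenberg type. -/
structure IsHeis (P : Type*) [Group P] : Prop where
  class_two : ∀ x y : P, ⁅x, y⁆ ∈ Subgroup.center P
  surj : ∀ x : P, x ∉ Subgroup.center P → ∀ z ∈ Subgroup.center P, ∃ y : P, ⁅y, x⁆ = z
  comm_cent : ∀ x : P, x ∉ Subgroup.center P → ∀ a b : P, a * x = x * a → b * x = x * b → a * b = b * a

theorem IsHeis.of_mulEquiv {P Q : Type*} [Group P] [Group Q] (h : IsHeis Q) (e : P ≃* Q) : IsHeis P := by
  have hc : ∀ x : P, x ∈ Subgroup.center P ↔ e x ∈ Subgroup.center Q := by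
    intro x
    simp only [Subgroup.mem_center_iff]
    constructor
    · intro hx y
      obtain ⟨y, rfl⟩ := e.surjective y
      rw [← map_mul, ← map_mul, hx]
    · intro hx y
      exact e.injective (by rw [map_mul, map_mul, hx])
  refine ⟨fun x y => ?_, fun x hx z hz => ?_, fun x hx a b ha hb => ?_⟩
  · rw [hc, map_commutatorElement]; exact h.class_two _ _
  · obtain ⟨y, hy⟩ := h.surj _ (fun h' => hx ((hc x).mpr h')) _ ((hc z).mp hz)
    refine ⟨e.symm y, e.injective ?_⟩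
    rw [map_commutatorElement, e.apply_symm_apply, hy]
  · refine e.injective ?_
    rw [map_mul, map_mul]
    exact h.comm_cent _ (fun h' => hx ((hc x).mpr h')) _ _ (by rw [← map_mul, ha, map_mul])
      (by rw [← map_mul, hb, map_mul])

variable {Ω : Type*} [Group Ω] {S : Subgroup Ω}

/-- The centre of `S` inside the ambient group. -/
abbrev zc (S : Subgroup Ω) : Subgroup Ω := S ⊓ Subgroup.centralizer (S : Set Ω)

theorem mem_zc_iff {x : Ω} (hx : x ∈ S) : x ∈ zc S ↔ (⟨x, hx⟩ : S) ∈ Subgroup.center S := by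
  rw [Subgroup.mem_center_iff]
  constructor
  · intro h y
    exact Subtype.ext (Subgroup.mem_centralizer_iff.mp h.2 y y.2)
  · intro h
    exact ⟨hx, fun y hy => congrArg Subtype.val (h ⟨y, hy⟩)⟩

theorem zc_comm {z y : Ω} (hz : z ∈ zc S) (hy : y ∈ S) : y * z = z * y :=
  Subgroup.mem_centralizer_iff.mp hz.2 y hy

section

variable (hH : IsHeis S)

include hH

theorem comm_mem {x y : Ω} (hx : x ∈ S) (hy : y ∈ S) : ⁅x, y⁆ ∈ zc S := by
  have h1 : ⁅x, y⁆ ∈ S := by
    rw [commutatorElement_def]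
    exact S.mul_mem (S.mul_mem (S.mul_mem hx hy) (S.inv_mem hx)) (S.inv_mem hy)
  rw [mem_zc_iff h1]
  exact hH.class_two ⟨x, hx⟩ ⟨y, hy⟩

theorem comm_surj {x z : Ω} (hx : x ∈ S) (hxz : x ∉ zc S) (hz : z ∈ zc S) :
    ∃ y ∈ S, ⁅y, x⁆ = z := by
  obtain ⟨y, hy⟩ := hH.surj ⟨x, hx⟩ (fun h => hxz ((mem_zc_iff hx).mpr h)) ⟨z, hz.1⟩
    ((mem_zc_iff hz.1).mp hz)
  exact ⟨y, y.2, congrArg Subtype.val hy⟩

theorem comm_cent' {x a b : Ω} (hx : x ∈ S) (hxz : x ∉ zc S) (ha : a ∈ S) (hb : b ∈ S)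
    (hax : a * x = x * a) (hbx : b * x = x * b) : a * b = b * a :=
  congrArg Subtype.val (hH.comm_cent ⟨x, hx⟩ (fun h => hxz ((mem_zc_iff hx).mpr h)) ⟨a, ha⟩ ⟨b, hb⟩
    (Subtype.ext hax) (Subtype.ext hbx))

variable [Finite S] {p : ℕ} [Fact p.Prime] {F : FusionSystem S} {E : Subgroup Ω}

/-- Structure of an essential subgroup: the centre is moved, and the subgroup is an abelian
centralizer. -/
theorem essential_data (hS : IsPGroup p S) (hF : F.IsSaturated p) (hE : F.IsEssential p E) :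
    zc S ≤ E ∧ E < S ∧ (∃ g ∈ F.autGroup E, ∃ z : E, (z : Ω) ∈ zc S ∧ ((g z : E) : Ω) ∉ zc S) ∧
      ∀ x ∈ E, x ∉ zc S → ∀ y ∈ S, (y ∈ E ↔ y * x = x * y) := by
  have hES : E ≤ S := hE.1.1
  have hlt : E < S := AbelianIndexP.lt_of_essential hS hF hE
  have hC : centralizerIn S E ≤ E := IsCentric.centralizerIn_le' hE.1
  have hZE : zc S ≤ E := fun z hz => hC ⟨hz.1, fun y hy => zc_comm hz (hES hy)⟩
  have hmove : ∃ g ∈ F.autGroup E, ∃ z : E, (z : Ω) ∈ zc S ∧ ((g z : E) : Ω) ∉ zc S := by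
    by_contra hno
    push Not at hno
    let L : ℕ → Subgroup E := fun i => if i = 0 then ⊥ else if i = 1 then (zc S).subgroupOf E else ⊤
    have hinv : ∀ i ≤ 2, ∀ a ∈ F.autGroup E, ∀ x ∈ L i, a x ∈ L i := by
      intro i hi a ha x hx
      interval_cases i
      · simp only [L, if_pos rfl, Subgroup.mem_bot] at hx ⊢
        rw [hx, map_one]
      · simp only [L, one_ne_zero, if_false, if_true, Subgroup.mem_subgroupOf] at hx ⊢
        exact hno a ha x hx
      · simp [L]
    refine hlt.not_ge (le_of_centric_radical hS hE.1 (radical_of_essential hE hS) (le_refl S)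
      Subgroup.le_normalizer (A := seriesStabilizer F E 2 L hinv) (fun a ha => ha.1) ?_
      (fun a ha b hb => seriesStabilizer_conj_mem ha hb) ?_)
    · rintro ⟨a, ha⟩
      have : Finite E := finite_of_le hES
      obtain ⟨k, hk⟩ := exists_pow_eq_one_of_stabilizes (hS.to_le hES) L (n := 2)
        (fun i hi => by interval_cases i <;> simp [L]) (by simp [L]) (α := a)
        ⟨0, fun x hx => by
          simp only [L, if_pos rfl, Subgroup.mem_bot] at hx
          simp [hx]⟩ ha.2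
      exact ⟨k, Subtype.ext hk⟩
    · intro q hq a hae
      refine ⟨autInducedBy_le_autGroup hES (mem_autInducedBy.mpr ⟨q, hq, hae⟩), fun i hi x hx => ?_⟩
      interval_cases i
      · simp only [L, zero_add, one_ne_zero, if_false, if_true, Subgroup.mem_subgroupOf] at hx
        simp only [L, if_pos rfl, Subgroup.mem_bot]
        refine Subtype.ext ?_
        rw [Subgroup.coe_mul, Subgroup.coe_inv, hae, zc_comm hx hq]
        simp [mul_assoc]
      · simp only [L, one_ne_zero, if_false, if_true, Subgroup.mem_subgroupOf]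
        rw [Subgroup.coe_mul, Subgroup.coe_inv, hae]
        have h1 := comm_mem hH (S.inv_mem (hES x.2)) hq
        rw [commutatorElement_def, inv_inv] at h1
        rwa [show (x : Ω)⁻¹ * (q * x * q⁻¹) = (x : Ω)⁻¹ * q * x * q⁻¹ by group]
  refine ⟨hZE, hlt, hmove, ?_⟩
  obtain ⟨g, hg, z, hz, hgz⟩ := hmove
  have hvS : ((g z : E) : Ω) ∈ S := hES (g z).2
  have hcz : ∀ e : E, (e : Ω) * ((g z : E) : Ω) = ((g z : E) : Ω) * (e : Ω) := by
    intro e
    obtain ⟨e, rfl⟩ := g.surjective e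
    have he : e * z = z * e := Subtype.ext (zc_comm hz (hES e.2))
    exact congrArg Subtype.val (show g e * g z = g z * g e by rw [← map_mul, he, map_mul])
  have hab : ∀ a b : E, (a : Ω) * b = b * a := fun a b =>
    comm_cent' hH hvS hgz (hES a.2) (hES b.2) (hcz a) (hcz b)
  intro x hx hxz y hy
  refine ⟨fun h => hab ⟨y, h⟩ ⟨x, hx⟩, fun h => hC ⟨hy, fun e he => ?_⟩⟩
  exact comm_cent' hH (hES hx) hxz (hES he) hy (hab ⟨e, he⟩ ⟨x, hx⟩) h

/-- A nontrivial normal subgroup inside the centre leaves no essential subgroups. -/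
theorem not_essential_of_le_zc (hS : IsPGroup p S) (hF : F.IsSaturated p) {Q : Subgroup Ω}
    (hQ : F.IsNormal Q) (hQne : Q ≠ ⊥) (hQZ : Q ≤ zc S) : ¬ F.IsEssential p E := by
  intro hE
  obtain ⟨hZE, -, ⟨g, hg, z, hz, hv⟩, hcent⟩ := essential_data hH hS hF hE
  have hES : E ≤ S := hE.1.1
  have : Finite (MulAut E) := finite_mulAut hES
  have hinv : ∀ a ∈ F.autGroup E, ∀ x : E, (x : Ω) ∈ Q → ((a x : E) : Ω) ∈ Q := fun a ha x hx =>
    StronglyClosed.aut_mem (IsNormal.stronglyClosed hQ) hES ha x hx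
  set v : E := g z with hvdef
  -- an element of `S` moving `v` inside `vQ`
  obtain ⟨q, hq, hq1⟩ : ∃ q ∈ Q, q ≠ 1 := (Subgroup.bot_or_exists_ne_one Q).resolve_left hQne
  obtain ⟨s, hs, hsv⟩ := comm_surj hH (hES v.2) hv (hQZ hq)
  have hsN : s ∈ Subgroup.normalizer (E : Set Ω) := by
    have : Finite E := finite_of_le hES
    refine mem_normalizer_of_forall fun x hx => ?_
    rw [show s * x * s⁻¹ = ⁅s, x⁆ * x by rw [commutatorElement_def]; group]
    exact E.mul_mem (hZE (comm_mem hH hs (hES hx))) hx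
  obtain ⟨u, huI, hue⟩ := exists_autInducedBy (K := S) hs hsN
  have hu : u ∈ F.autGroup E := autInducedBy_le_autGroup hES huI
  -- the stabilizer of the coset `vQ`
  let X : Subgroup (MulAut E) :=
    { carrier := {a | a ∈ F.autGroup E ∧ ((v⁻¹ * a v : E) : Ω) ∈ Q}
      one_mem' := ⟨Subgroup.one_mem _, by simp⟩
      mul_mem' := by
        rintro a b ⟨ha, ha'⟩ ⟨hb, hb'⟩
        refine ⟨Subgroup.mul_mem _ ha hb, ?_⟩
        have h1 : v⁻¹ * (a * b) v = (v⁻¹ * a v) * a (v⁻¹ * b v) := by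
          simp only [map_mul, map_inv, MulAut.mul_apply]; group
        rw [h1, Subgroup.coe_mul]
        exact Q.mul_mem ha' (hinv a ha _ hb')
      inv_mem' := by
        rintro a ⟨ha, ha'⟩
        refine ⟨Subgroup.inv_mem _ ha, ?_⟩
        have h1 : v⁻¹ * a⁻¹ v = (a⁻¹ (v⁻¹ * a v))⁻¹ := by
          simp only [map_mul, map_inv, MulAut.inv_apply_self, mul_inv_rev, inv_inv]
        rw [h1, Subgroup.coe_inv]
        exact Q.inv_mem (hinv _ (Subgroup.inv_mem _ ha) _ ha') }
  have huX : u ∈ X := by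
    refine ⟨hu, ?_⟩
    rw [Subgroup.coe_mul, Subgroup.coe_inv, hue]
    have h1 : (v : Ω)⁻¹ * (s * v * s⁻¹) = (v : Ω)⁻¹ * (⁅s, (v : Ω)⁆ * v) := by
      rw [commutatorElement_def]; group
    rw [h1, hsv, ← zc_comm (hQZ hq) (hES v.2), inv_mul_cancel_left]
    exact hq
  -- a conjugate of `Aut_S(E)` inside the stabilizer
  obtain ⟨-, R, hR⟩ := (fullyNormalized_good hS hF hE.2.1).1
  let γ : F.autGroup E := ⟨g, hg⟩
  have hRX : ∀ r ∈ (R : Subgroup (F.autGroup E)), (γ * r * γ⁻¹ : F.autGroup E) ∈ X.subgroupOf (F.autGroup E) := by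
    intro r hr
    rw [hR] at hr
    obtain ⟨t, ht, hte⟩ := mem_autInducedBy.mp (hr : (r : MulAut E) ∈ autInducedBy S E)
    refine ⟨(γ * r * γ⁻¹).2, ?_⟩
    have hte' : ∀ x : E, (((r : MulAut E) x : E) : Ω) = t * x * t⁻¹ := hte
    have h0 : (r : MulAut E) z = z :=
      Subtype.ext (by rw [hte', zc_comm hz ht, mul_inv_cancel_right])
    show ((v⁻¹ * (g * (r : MulAut E) * g⁻¹) v : E) : Ω) ∈ Q
    rw [MulAut.mul_apply, MulAut.mul_apply, hvdef, MulAut.inv_apply_self, h0, inv_mul_cancel]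
    exact Q.one_mem
  obtain ⟨x, hxX, t, htR, hxt⟩ : ∃ x ∈ X.subgroupOf (F.autGroup E), ∃ t ∈ (R : Subgroup (F.autGroup E)),
      (⟨u, hu⟩ : F.autGroup E) = x * γ * t * (x * γ)⁻¹ := by
    let X' := X.subgroupOf (F.autGroup E)
    let R' : Sylow p (F.autGroup E) := MulAut.conj γ • R
    have hR'X : (R' : Subgroup (F.autGroup E)) ≤ X' := by
      intro y hy
      rw [Sylow.pointwise_smul_def, Subgroup.mem_pointwise_smul_iff_inv_smul_mem, ← map_inv,
        MulAut.smul_def, MulAut.conj_apply, inv_inv] at hy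
      simpa [mul_assoc] using hRX _ hy
    have hup : IsPGroup p (Subgroup.zpowers (⟨⟨u, hu⟩, huX⟩ : X')) := by
      have h2 : (⟨u, hu⟩ : F.autGroup E) ∈ (R : Subgroup (F.autGroup E)) := by rw [hR]; exact huI
      obtain ⟨k, hk⟩ := R.2 ⟨_, h2⟩
      have hk' : (⟨⟨u, hu⟩, huX⟩ : X') ^ p ^ k = 1 := Subtype.ext (by simpa using congrArg Subtype.val hk)
      obtain ⟨j, -, hj⟩ := (Nat.dvd_prime_pow Fact.out).mp (orderOf_dvd_of_pow_eq_one hk')
      exact IsPGroup.of_card ((Nat.card_zpowers _).trans hj)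
    obtain ⟨U, hU⟩ := hup.exists_le_sylow
    obtain ⟨x, hx⟩ := MulAction.exists_smul_eq X' (R'.subtype hR'X) U
    have hmem : (⟨⟨u, hu⟩, huX⟩ : X') ∈ (MulAut.conj x • (R'.subtype hR'X) : Sylow p X') := by
      rw [← Sylow.smul_def, hx]; exact hU (Subgroup.mem_zpowers _)
    change _ ∈ ((MulAut.conj x • (R'.subtype hR'X) : Sylow p X') : Subgroup X') at hmem
    rw [Sylow.pointwise_smul_def, Subgroup.mem_pointwise_smul_iff_inv_smul_mem, ← map_inv,
      MulAut.smul_def, MulAut.conj_apply, inv_inv, Sylow.coe_subtype, Subgroup.mem_subgroupOf,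
      Sylow.pointwise_smul_def, Subgroup.mem_pointwise_smul_iff_inv_smul_mem, ← map_inv,
      MulAut.smul_def, MulAut.conj_apply, inv_inv] at hmem
    refine ⟨(x : F.autGroup E), x.2, _, hmem, ?_⟩
    simp only [Subgroup.coe_mul, Subgroup.coe_inv]
    group
  -- `h z` is fixed by `u`, so central
  set h : MulAut E := (x : MulAut E) * g with hh
  rw [hR] at htR
  obtain ⟨t₀, ht₀, hte⟩ := mem_autInducedBy.mp (htR : (t : MulAut E) ∈ autInducedBy S E)
  have hu_eq : u = h * (t : MulAut E) * h⁻¹ := congrArg Subtype.val hxt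
  have hfix : u (h z) = h z := by
    rw [hu_eq, MulAut.mul_apply, MulAut.mul_apply, MulAut.inv_apply_self]
    congr 1
    have hte' : ∀ x : E, (((t : MulAut E) x : E) : Ω) = t₀ * x * t₀⁻¹ := hte
    exact Subtype.ext (by rw [hte', zc_comm hz ht₀, mul_inv_cancel_right])
  have hsE : s ∉ E := by
    intro hsE
    refine hq1 ?_
    rw [← hsv, commutatorElement_eq_one_iff_mul_comm]
    exact (hcent v v.2 hv s hs).mp hsE
  have hhz : ((h z : E) : Ω) ∈ zc S := by
    by_contra hn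
    refine hsE ((hcent _ (h z).2 hn s hs).mpr ?_)
    have := congrArg Subtype.val hfix
    rw [hue] at this
    exact mul_inv_eq_iff_eq_mul.mp this
  refine hv ?_
  have hx2 := (hxX : (x : MulAut E) ∈ X).2
  have hxv : ((x : MulAut E) v) = h z := rfl
  have hx2 : ((v⁻¹ * h z : E) : Ω) ∈ Q := hxv ▸ hx2
  have : (v : Ω) = ((h z : E) : Ω) * ((v⁻¹ * h z : E) : Ω)⁻¹ := by simp
  rw [this]
  exact Subgroup.mul_mem _ hhz (Subgroup.inv_mem _ (hQZ hx2))

omit hH in
/-- A normal subgroup containing its centralizer in `S` is centric. -/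
theorem centric_of_normal {Q : Subgroup Ω} (hQ : F.IsNormal Q) (hC : centralizerIn S Q ≤ Q) :
    F.IsCentric Q := by
  refine ⟨hQ.1, ?_⟩
  rintro R ⟨φ, hφ, rfl⟩
  have hle : ∀ x : Q, φ x ∈ Q := fun x => StronglyClosed.apply_mem (IsNormal.stronglyClosed hQ) hφ x x.2
  rw [range_eq_of_card_le hφ hQ.1 hle le_rfl]
  exact hC

/-- A nontrivial `O_p` makes the system constrained. -/
theorem isConstrained_of_core_ne_bot (hS : IsPGroup p S) (hF : F.IsSaturated p) (hcore : F.core ≠ ⊥) :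
    F.IsConstrained p := by
  refine ⟨hF, ?_⟩
  have hQ : F.IsNormal F.core := CfsgLib.FusionExt.isNormal_core F
  by_cases hQZ : F.core ≤ zc S
  · refine ⟨S, isNormal_of_essential hS hF ?_, ?_⟩
    · rintro P (rfl | hP)
      · exact ⟨le_rfl, fun α _ x _ => (α x).2⟩
      · exact absurd hP (not_essential_of_le_zc hH hS hF hQ hcore hQZ)
    · refine ⟨le_rfl, fun R hR => ?_⟩
      obtain ⟨φ, hφ, rfl⟩ := hR
      rw [range_eq_of_card_le hφ le_rfl (apply_mem_S hφ) le_rfl]
      exact inf_le_left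
  obtain ⟨x, hxQ, hxz⟩ := SetLike.not_le_iff_exists.mp hQZ
  have hxS : x ∈ S := hQ.1 hxQ
  have hnorm := StronglyClosed.le_normalizer (IsNormal.stronglyClosed hQ)
  have hZQ : zc S ≤ F.core := by
    intro z hz
    obtain ⟨y, hy, rfl⟩ := comm_surj hH hxS hxz hz
    rw [commutatorElement_def]
    exact Subgroup.mul_mem _ ((Subgroup.mem_normalizer_iff.mp (hnorm hy) x).mp hxQ) (Subgroup.inv_mem _ hxQ)
  by_cases hQA : ∀ y ∈ F.core, y * x = x * y
  · let A : Subgroup Ω := S ⊓ Subgroup.centralizer ({x} : Set Ω)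
    have hA : ∀ {y : Ω}, y ∈ A ↔ y ∈ S ∧ y * x = x * y := by
      intro y
      simp only [A, Subgroup.mem_inf, Subgroup.mem_centralizer_singleton_iff]
    have hAn : F.IsNormal A := by
      refine isNormal_of_essential hS hF ?_
      rintro P (rfl | hP)
      · refine ⟨inf_le_left, fun α hα a ha => hA.mpr ⟨(α a).2, ?_⟩⟩
        obtain ⟨x', hx'⟩ : ∃ x' : ↥P, α x' = ⟨x, hxS⟩ := α.surjective _
        have hx'Q : (x' : Ω) ∈ F.core := by
          have := StronglyClosed.aut_mem (IsNormal.stronglyClosed hQ) le_rfl (Subgroup.inv_mem _ hα) ⟨x, hxS⟩ hxQ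
          rwa [← hx', MulAut.inv_apply_self] at this
        have hc : a * x' = x' * a := Subtype.ext
          (comm_cent' hH hxS hxz a.2 x'.2 (hA.mp ha).2 (hQA _ hx'Q))
        have h2 := congrArg Subtype.val (show α a * α x' = α x' * α a by rw [← map_mul, hc, map_mul])
        rw [hx'] at h2
        exact h2
      · have hQP : F.core ≤ P := IsNormal.le_centric_radical hS hQ hP.1 (radical_of_essential hP hS)
        obtain ⟨-, -, -, hcent⟩ := essential_data hH hS hF hP
        refine ⟨fun y hy => (hcent x (hQP hxQ) hxz y (hA.mp hy).1).mpr (hA.mp hy).2, fun α _ a _ => ?_⟩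
        exact hA.mpr ⟨hP.1.1 (α a).2, (hcent x (hQP hxQ) hxz _ (hP.1.1 (α a).2)).mp (α a).2⟩
    refine ⟨A, hAn, centric_of_normal hAn fun y hy => hA.mpr ⟨hy.1, ?_⟩⟩
    exact (Subgroup.mem_centralizer_iff.mp hy.2 x (hA.mpr ⟨hxS, rfl⟩)).symm
  · push Not at hQA
    obtain ⟨x', hx'Q, hx'x⟩ := hQA
    refine ⟨F.core, hQ, centric_of_normal hQ fun y hy => hZQ ?_⟩
    by_contra hyz
    refine hx'x (comm_cent' hH hy.1 hyz (hQ.1 hx'Q) hxS ?_ ?_)
    · exact Subgroup.mem_centralizer_iff.mp hy.2 x' hx'Q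
    · exact Subgroup.mem_centralizer_iff.mp hy.2 x hxQ

/-- A nontrivial `O_p` makes the system realizable. -/
theorem isRealizable_of_core_ne_bot (hS : IsPGroup p S) (hF : F.IsSaturated p) (hcore : F.core ≠ ⊥) :
    F.IsRealizable p := by
  obtain ⟨L, _, ι, hfin, hreal, hsyl, -⟩ :=
    exists_model_of_constrained hS (isConstrained_of_core_ne_bot hH hS hF hcore)
  exact ⟨L, inferInstance, hfin, ι, hreal, hsyl⟩

end

end CfsgLib.Fusion.HeisenbergCore
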