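import Cfsg.Agent.Lib.PGroup.MaxClassPearl
import Cfsg.Agent.Lib.Fusion.AbelianIndexP
import Cfsg.Agent.Lib.Fusion.EssentialFlag

/-!
# Pearls: essential subgroups that are elementary abelian of order `p ^ 2` or nonabelian of
order `p ^ 3`
-/

set_option autoImplicit false

namespace CfsgLib.Pearl

open Cfsg Cfsg.FusionSystem CfsgLib.Fusion CfsgLib.MaxClassSplit

variable {Ω : Type*} [Group Ω] {S : Subgroup Ω} [Finite S] {p : ℕ} [Fact p.Prime] {F : FusionSystem S}

/-- The data of a pearl, read inside `S`. -/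
structure Data (p n : ℕ) (S E : Subgroup Ω) : Prop where
  le : E ≤ S
  card : Nat.card S = p ^ n
  three : 3 ≤ n
  exp : ∀ e ∈ E, e ^ p = 1
  cent : centralizerIn S E ≤ E
  setting : ∃ x : S, (x : Ω) ∈ E ∧ Setting p n x

omit [Fact p.Prime] [Finite S] in
theorem centralizer_subgroupOf_le {E : Subgroup Ω} (hC : centralizerIn S E ≤ E) (hES : E ≤ S) :
    Subgroup.centralizer ((E.subgroupOf S : Subgroup S) : Set S) ≤ E.subgroupOf S := by
  intro y hy
  refine Subgroup.mem_subgroupOf.mpr (hC ⟨y.2, Subgroup.mem_centralizer_iff.mpr fun e he => ?_⟩)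
  exact congrArg Subtype.val (Subgroup.mem_centralizer_iff.mp hy ⟨e, hES he⟩ he)

theorem exp_of_essential (hS : IsPGroup p S) (hp : p ≠ 2) {E : Subgroup Ω} (hE : F.IsEssential p E)
    (hcard : Nat.card E = p ^ 3) (hna : ¬ IsMulCommutative E) : ∀ e ∈ E, e ^ p = 1 := by
  have : Finite E := finite_of_le hE.1.1
  have hflag : ∀ L₁ L₂ : Subgroup E, (∀ a : MulAut E, ∀ x ∈ L₁, a x ∈ L₁) →
      (∀ a : MulAut E, ∀ x ∈ L₂, a x ∈ L₂) → L₁ ≤ L₂ → Nat.card L₁ = p → Nat.card L₂ = p ^ 2 → False := by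
    intro L₁ L₂ h1 h2 h12 c1 c2
    let L : ℕ → Subgroup E := fun i =>
      match i with
      | 0 => ⊥
      | 1 => L₁
      | 2 => L₂
      | _ => ⊤
    refine CfsgLib.FusionFlag.not_flag hS hE 3 L rfl rfl ?_ ?_ ?_
    · intro i hi a x hx
      interval_cases i
      · simp only [L, Subgroup.mem_bot] at hx ⊢; simp [hx]
      · exact h1 a x hx
      · exact h2 a x hx
      · exact Subgroup.mem_top _
    · intro i hi
      interval_cases i
      · exact bot_le
      · exact h12
      · exact le_top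
    · intro i hi
      interval_cases i
      · simp [L, c1]
      · simp only [L, c1, c2, pow_two]
      · simp only [L, c2, Subgroup.card_top, hcard]; ring
  rcases CfsgLib.FusionFlag.classify_cube hcard hflag with ⟨hc, -⟩ | ⟨-, -, he⟩ | ⟨h2, -⟩
  · exact absurd hc hna
  · exact fun e he' => congrArg Subtype.val (he ⟨e, he'⟩)
  · exact absurd h2 hp

theorem data_of_pearl (hS : IsPGroup p S) (hF : F.IsSaturated p) (hp : p ≠ 2) {E : Subgroup Ω}
    (hE : F.IsEssential p E)
    (hpearl : (Nat.card E = p ^ 2 ∧ ∀ x ∈ E, x ^ p = 1 ∧ IsMulCommutative E) ∨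
      (Nat.card E = p ^ 3 ∧ ¬ IsMulCommutative E)) :
    ∃ n, Data p n S E ∧ (Nat.card E = p ^ 3 → 4 ≤ n) := by
  have hp' : p.Prime := Fact.out
  have hES : E ≤ S := hE.1.1
  have hlt := AbelianIndexP.lt_of_essential hS hF hE
  obtain ⟨n, hn⟩ := hS.exists_card_eq
  have hC : centralizerIn S E ≤ E := IsCentric.centralizerIn_le' hE.1
  have hA : Nat.card (E.subgroupOf S) = Nat.card E :=
    Nat.card_congr (Subgroup.subgroupOfEquivOfLe hES).toEquiv
  have hlt' : Nat.card E < Nat.card S := by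
    refine lt_of_le_of_ne (hA ▸ Subgroup.card_le_card_group _) fun e => hlt.ne ?_
    exact Subgroup.subgroupOf_eq_top.mp (Subgroup.eq_top_of_card_eq _ (hA.trans e)) |>.antisymm' hES
  have hCA := centralizer_subgroupOf_le hC hES
  rcases hpearl with ⟨hc, hx⟩ | ⟨hc, hna⟩
  · rw [hc, hn, Nat.pow_lt_pow_iff_right hp'.one_lt] at hlt'
    obtain ⟨x, hxA, hset⟩ := setting_of_abelian hn (by omega) (hA.trans hc)
      (fun a ha => Subtype.ext (hx a ha).1) hCA
    refine ⟨n, ⟨hES, hn, by omega, fun e he => (hx e he).1, hC, x, hxA, hset⟩, fun h => ?_⟩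
    have := Nat.pow_right_injective hp'.two_le (hc.symm.trans h)
    omega
  · rw [hc, hn, Nat.pow_lt_pow_iff_right hp'.one_lt] at hlt'
    have hexp := exp_of_essential hS hp hE hc hna
    have hna' : ¬ IsMulCommutative (E.subgroupOf S) := fun h => hna ⟨⟨fun a b => by
      have := congrArg Subtype.val (congrArg Subtype.val (h.is_comm.comm
        (⟨⟨a, hES a.2⟩, a.2⟩ : E.subgroupOf S) ⟨⟨b, hES b.2⟩, b.2⟩))
      exact Subtype.ext this⟩⟩
    obtain ⟨x, hxA, hset⟩ := setting_of_nonabelian hn (by omega) (hA.trans hc) hna'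
      (fun a ha => Subtype.ext (hexp a ha)) hCA
    exact ⟨n, ⟨hES, hn, by omega, hexp, hC, x, hxA, hset⟩, fun _ => by omega⟩

omit [Fact p.Prime] [Finite S] in
/-- Generating sets of subgroups of `S` read inside `S` give generating sets in the ambient group. -/
theorem gens_of_subgroup {H : Subgroup Ω} (hH : H ≤ S) {k : ℕ}
    (h : ∃ T : Finset S, T.card ≤ k ∧ Subgroup.closure (T : Set S) = H.subgroupOf S) :
    ∃ T : Finset Ω, T.card ≤ k ∧ Subgroup.closure (T : Set Ω) = H := by
  classical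
  obtain ⟨T, hT, hTe⟩ := h
  refine ⟨T.image S.subtype, Finset.card_image_le.trans hT, ?_⟩
  rw [Finset.coe_image, ← MonoidHom.map_closure, hTe, Subgroup.map_subgroupOf_eq_of_le hH]

theorem lcs_ne_bot {n : ℕ} {x : S} (h : Setting p n x) : Subgroup.lowerCentralSeries S (n - 2) ≠ ⊥ := by
  intro e
  have := h.nilpotent
  have h1 : (⊤ : Subgroup S).lowerCentralSeries (n - 2) = ⊥ := by
    refine Subgroup.map_injective S.subtype_injective ?_
    rw [Subgroup.map_bot, Subgroup.map_lowerCentralSeries, ← MonoidHom.range_eq_map,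
      Subgroup.range_subtype, e]
  have := Subgroup.lowerCentralSeries_eq_bot_iff_nilpotencyClass_le.mp h1
  rw [h.cls] at this
  have := h.three
  omega

end CfsgLib.Pearl
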