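import Cfsg.Agent.Lib.OddOrder41.FixOmega
import Mathlib.GroupTheory.SemidirectProduct
import Mathlib.GroupTheory.Nilpotent
import Mathlib.Algebra.Group.End

/-!
# Automorphisms inverting the elements of order `p`, for `p` odd
-/

namespace CfsgLib.Fusion.Inversion

variable {p : ℕ} [Fact p.Prime]

/-- An automorphism of order prime to an odd `p` fixing the elements of order `p` of an invariant `p`-subgroup
fixes this subgroup. -/
theorem fix_of_fix_omega {X : Type*} [Group X] [Finite X] (hp : p ≠ 2) (b : MulAut X)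
    (hb : (orderOf b).Coprime p) (H : Subgroup X) (hH : IsPGroup p H) (hinv : ∀ x ∈ H, b x ∈ H)
    (hfix : ∀ x ∈ H, x ^ p = 1 → b x = x) : ∀ x ∈ H, b x = x := by
  have : Finite (MulAut X) := Finite.of_injective (fun f : MulAut X => (f : X → X)) DFunLike.coe_injective
  let G := X ⋊[MonoidHom.id (MulAut X)] MulAut X
  have : Finite G := Finite.of_equiv _ SemidirectProduct.equivProd.symm
  let a : G := SemidirectProduct.inr b
  have key : ∀ x : X, a * SemidirectProduct.inl x * a⁻¹ = SemidirectProduct.inl (b x) := fun x => by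
    rw [← map_inv]; exact (SemidirectProduct.inl_aut b x).symm
  have hcomm : ∀ x : X, a * SemidirectProduct.inl x = SemidirectProduct.inl x * a ↔ b x = x := fun x => by
    rw [← mul_inv_eq_iff_eq_mul, key, SemidirectProduct.inl_inj]
  intro x hx
  refine (hcomm x).mp (CfsgLib.OddOrder41.fixes_of_fixes_exponent_p hp a ?_ _ (H.map SemidirectProduct.inl) rfl
    (hH.map _) ?_ ?_ _ ⟨x, hx, rfl⟩)
  · rw [orderOf_injective _ SemidirectProduct.inr_injective]; exact hb
  · rintro _ ⟨y, hy, rfl⟩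
    exact ⟨b y, hinv y hy, (key y).symm⟩
  · rintro _ ⟨y, hy, rfl⟩ hyp
    rw [← map_pow, ← map_one (SemidirectProduct.inl : X →* G), SemidirectProduct.inl_inj] at hyp
    exact (hcomm y).mpr (hfix y hy hyp)

/-- A `p`-group, `p` odd, with an automorphism inverting its elements of order `p` is abelian. -/
theorem mul_comm_of_inverts_omega {X : Type*} [Group X] [Finite X] (hX : IsPGroup p X) (hp : p ≠ 2)
    (τ : MulAut X) (hτ : ∀ x : X, x ^ p = 1 → τ x = x⁻¹) (x y : X) : x * y = y * x := by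
  have : Finite (MulAut X) := Finite.of_injective (fun f : MulAut X => (f : X → X)) DFunLike.coe_injective
  have hodd : Odd p := (Fact.out : p.Prime).odd_of_ne_two hp
  have hpow : ∀ n : ℕ, ∀ x : X, x ^ p = 1 → (τ ^ n) x = if Odd n then x⁻¹ else x := by
    intro n
    induction n with
    | zero => intro x _; simp
    | succ n ih =>
      intro x hx
      rw [pow_succ', MulAut.mul_apply, ih x hx]
      rcases Nat.even_or_odd n with h | h
      · rw [if_neg (Nat.not_odd_iff_even.mpr h), if_pos h.add_one, hτ x hx]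
      · rw [if_pos h, if_neg (Nat.not_odd_iff_even.mpr h.add_one), map_inv, hτ x hx, inv_inv]
  obtain ⟨k, m, hm, hkm⟩ := Nat.exists_eq_pow_mul_and_not_dvd (orderOf_pos τ).ne' p (Fact.out : p.Prime).ne_one
  set σ := τ ^ p ^ k with hσdef
  have hσ : ∀ x : X, x ^ p = 1 → σ x = x⁻¹ := fun x hx => by rw [hpow _ x hx, if_pos hodd.pow]
  have hσord : (orderOf σ).Coprime p := by
    refine Nat.Coprime.coprime_dvd_left (orderOf_dvd_of_pow_eq_one (n := m) ?_)
      (((Fact.out : p.Prime).coprime_iff_not_dvd.mpr hm).symm)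
    rw [hσdef, ← pow_mul, ← hkm, pow_orderOf_eq_one]
  have hσσ : ∀ x, σ (σ x) = x := fun x => by
    refine fix_of_fix_omega hp (σ * σ) ?_ ⊤ (hX.to_subgroup _) (fun _ _ => Subgroup.mem_top _)
      (fun x _ hx => ?_) x (Subgroup.mem_top _)
    · rw [← pow_two]; exact hσord.coprime_dvd_left (orderOf_pow_dvd _)
    · rw [MulAut.mul_apply, hσ x hx, map_inv, hσ x hx, inv_inv]
  have hfix : ∀ x, σ x = x → x = 1 := by
    intro x hx
    obtain ⟨j, hj⟩ := hX x
    induction j generalizing x with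
    | zero => simpa using hj
    | succ j ih =>
      have h1 := ih (x ^ p) (by rw [map_pow, hx]) (by rw [← pow_mul, ← pow_succ']; exact hj)
      have h2 := hσ x h1
      rw [hx] at h2
      have h3 : x ^ 2 = 1 := by rw [pow_two]; nth_rw 2 [h2]; exact mul_inv_cancel x
      have h4 := Nat.dvd_gcd (orderOf_dvd_of_pow_eq_one h1) (orderOf_dvd_of_pow_eq_one h3)
      rw [Nat.coprime_two_right.mpr hodd, Nat.dvd_one, orderOf_eq_one_iff] at h4
      exact h4
  have hsurj : Function.Surjective fun x => x⁻¹ * σ x := by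
    refine Finite.surjective_of_injective fun a b h => ?_
    have h1 : σ (b * a⁻¹) = b * a⁻¹ := by
      have h' : a⁻¹ * σ a = b⁻¹ * σ b := h
      rw [map_mul, map_inv]
      calc σ b * (σ a)⁻¹ = b * (b⁻¹ * σ b) * (σ a)⁻¹ := by group
        _ = b * (a⁻¹ * σ a) * (σ a)⁻¹ := by rw [h']
        _ = b * a⁻¹ := by group
    exact (mul_inv_eq_one.mp (hfix _ h1)).symm
  have hinv : ∀ g, σ g = g⁻¹ := fun g => by
    obtain ⟨a, rfl⟩ := hsurj g
    show σ (a⁻¹ * σ a) = _
    rw [map_mul, map_inv, hσσ, mul_inv_rev, inv_inv]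
  have h := map_mul σ x⁻¹ y⁻¹
  rw [hinv, hinv, hinv, inv_inv, inv_inv, mul_inv_rev, inv_inv, inv_inv] at h
  exact h.symm

/-- Two opposite transvections generate the inversion. -/
theorem exists_inversion {K : Type*} [CommGroup K] [Finite K] (A : Subgroup (MulAut K)) {a : MulAut K}
    (ha : a ∈ A) {α : MulAut K} (hα : α ∈ A) {x y : K} (hgen : Subgroup.zpowers x ⊔ Subgroup.zpowers y = ⊤)
    (hax : a x = x) (ha1 : a ≠ 1) (hacom : ∀ e, e⁻¹ * a e ∈ Subgroup.zpowers x) (hαy : α y = x)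
    (hox : ∀ u ∈ Subgroup.zpowers x, u ≠ 1 → Subgroup.zpowers u = Subgroup.zpowers x) :
    ∃ γ ∈ A, ∀ e : K, γ e = e⁻¹ := by
  have heq : ∀ (f g : MulAut K), f x = g x → f y = g y → f = g := fun f g h1 h2 => by
    have : Subgroup.zpowers x ⊔ Subgroup.zpowers y ≤ MonoidHom.eqLocus f.toMonoidHom g.toMonoidHom :=
      sup_le (Subgroup.zpowers_le.mpr h1) (Subgroup.zpowers_le.mpr h2)
    exact MulEquiv.ext fun e => this (hgen.ge (Subgroup.mem_top e))
  obtain ⟨z, hzdef⟩ : ∃ z, z = y⁻¹ * a y := ⟨_, rfl⟩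
  have hzmem : z ∈ Subgroup.zpowers x := hzdef ▸ hacom y
  have hz1 : z ≠ 1 := fun h => ha1 (heq a 1 hax (inv_mul_eq_one.mp (hzdef.symm.trans h)).symm)
  have hzx := hox z hzmem hz1
  have hxz : x ∈ Subgroup.zpowers z := hzx.ge (Subgroup.mem_zpowers x)
  have hay : a y = y * z := by rw [hzdef, mul_inv_cancel_left]
  have haz : a z = z := by
    obtain ⟨i, hi⟩ := hzmem
    rw [← hi, map_zpow, hax]
  set b := α⁻¹ * a * α with hbdef
  have hb : b ∈ A := A.mul_mem (A.mul_mem (A.inv_mem hα) ha) hα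
  have hby : b y = y := by
    show α⁻¹ (a (α y)) = y
    rw [hαy, hax, ← hαy, MulAut.inv_apply_self]
  have hbz : z⁻¹ * b z ∈ Subgroup.zpowers y := by
    obtain ⟨i, hi⟩ := hacom (α z)
    refine ⟨i, ?_⟩
    have h : z⁻¹ * b z = α⁻¹ ((α z)⁻¹ * a (α z)) := by
      rw [map_mul, map_inv, MulAut.inv_apply_self]; rfl
    rw [h, ← hi, map_zpow, ← hαy, MulAut.inv_apply_self]
  have hbz1 : z⁻¹ * b z ≠ 1 := fun h => ha1 <| by
    have h1 : b x = x := by
      obtain ⟨i, hi⟩ := hxz
      rw [← hi, map_zpow, (inv_mul_eq_one.mp h).symm]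
    have h2 : b = 1 := heq b 1 h1 hby
    rw [hbdef, mul_assoc, inv_mul_eq_one] at h2
    exact mul_eq_right.mp h2.symm
  obtain ⟨j, hj⟩ : ∃ j : ℕ, (z⁻¹ * b z) ^ j = y := by
    obtain ⟨i, hi⟩ := hbz
    have h : Subgroup.zpowers (α (z⁻¹ * b z)) = Subgroup.zpowers x := by
      refine hox _ ⟨i, ?_⟩ ((map_ne_one_iff α α.injective).mpr hbz1)
      rw [← hi, map_zpow, hαy]
    obtain ⟨j, hj⟩ := mem_powers_iff_mem_zpowers.mpr (h.ge (Subgroup.mem_zpowers x))
    exact ⟨j, α.injective (by rw [map_pow, hαy]; exact hj)⟩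
  have hbj : ∀ n : ℕ, (b ^ n) z = z * (z⁻¹ * b z) ^ n := by
    intro n
    induction n with
    | zero => simp
    | succ n ih =>
      obtain ⟨i, hi⟩ := hbz
      have hfix : b (z⁻¹ * b z) = z⁻¹ * b z := by rw [← hi, map_zpow, hby]
      rw [pow_succ', MulAut.mul_apply, ih, map_mul, map_pow, hfix, pow_succ', ← mul_assoc,
        mul_inv_cancel_left]
  have hcy : (b ^ j) y = y := by
    clear hj
    induction j with
    | zero => simp
    | succ j ih => rw [pow_succ', MulAut.mul_apply, ih, hby]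
  set c := (b ^ j)⁻¹ with hcdef
  have hcy' : c y = y := by
    conv_lhs => rw [← hcy]
    exact MulAut.inv_apply_self _ _ _
  have hcz : c z = z * y⁻¹ := by
    have h : (b ^ j) (z * y⁻¹) = z := by rw [map_mul, map_inv, hcy, hbj, hj, mul_inv_cancel_right]
    conv_lhs => rw [← h]
    exact MulAut.inv_apply_self _ _ _
  set γ := a * c * a with hγdef
  have hγ : γ ∈ A := A.mul_mem (A.mul_mem ha (A.inv_mem (A.pow_mem hb j))) ha
  have hγz : γ z = y⁻¹ := by
    show a (c (a z)) = _
    rw [haz, hcz, map_mul, map_inv, haz, hay, mul_inv_rev, mul_inv_cancel_left]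
  have hγy : γ y = z := by
    show a (c (a y)) = _
    rw [hay, map_mul, hcy', hcz, mul_left_comm, mul_inv_cancel, mul_one, haz]
  have h2y : (γ * γ) y = y⁻¹ := by rw [MulAut.mul_apply, hγy, hγz]
  have h2z : (γ * γ) z = z⁻¹ := by rw [MulAut.mul_apply, hγz, map_inv, hγy]
  refine ⟨γ * γ, A.mul_mem hγ hγ, fun e => ?_⟩
  have : Subgroup.zpowers z ⊔ Subgroup.zpowers y ≤
      MonoidHom.eqLocus (γ * γ).toMonoidHom (invMonoidHom : K →* K) :=
    sup_le (Subgroup.zpowers_le.mpr h2z) (Subgroup.zpowers_le.mpr h2y)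
  rw [hzx, hgen] at this
  exact this (Subgroup.mem_top e)

end CfsgLib.Fusion.Inversion
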