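import Cfsg.Agent.Lib.Fusion.LayerNormal
import Cfsg.Agent.Lib.Fusion.CentralProductSwap

/-!
# Existence of the layer, and components of central products

Given meets, the layer exists, and a component of a central product is a component of a factor.
-/

set_option autoImplicit false
set_option linter.unusedSectionVars false

namespace CfsgLib.FusionLayerNormal

open Cfsg Cfsg.FusionSystem CfsgLib.Fusion CfsgLib.FusionNormal CfsgLib.FusionTransport CfsgLib.FusionDichotomy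

universe u

variable {Ω : Type u} [Group Ω] {S : Subgroup Ω} {F : FusionSystem S} [Finite S] {p : ℕ} [Fact p.Prime]

/-- A saturated system is normal in itself. -/
theorem isNormalIn_self (hS : IsPGroup p S) (hF : F.IsSaturated p) : F.IsNormalIn F p := by
  refine isNormalIn_of_mapFn (ResLimit.weaklyNormal_self hS hF) fun a ha har => ?_
  have hle : S ⊔ centralizerIn S S = S := sup_eq_left.mpr centralizerIn_le
  refine ⟨a, by rw [hle]; exact ha, by rw [hle]; exact har, fun _ _ => rfl, fun c hc => ?_⟩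
  obtain ⟨hcS, hcc⟩ := Fusion.mem_centralizerIn.mp hc
  refine ⟨S.mul_mem (S.inv_mem hcS) (ha.mem_S hcS), Subgroup.mem_centralizer_iff.mpr fun y hy => ?_⟩
  obtain ⟨x, hx, rfl⟩ := exists_of_image har hy
  have h₁ : a x * a c = a c * a x := by rw [← ha.map_mul hx hcS, ← ha.map_mul hcS hx, hcc x hx]
  have h₂ : a x * c⁻¹ = c⁻¹ * a x := by
    have h := hcc (a x) (ha.mem_S hx)
    calc a x * c⁻¹ = c⁻¹ * (c * a x) * c⁻¹ := by group
      _ = c⁻¹ * a x := by rw [← h]; group
  calc a x * (c⁻¹ * a c) = c⁻¹ * (a x * a c) := by rw [← mul_assoc, h₂, mul_assoc]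
    _ = c⁻¹ * a c * a x := by rw [h₁, mul_assoc]

/-- The layer exists. -/
theorem exists_layer (hmeet : MeetHyp Ω p) (hS : IsPGroup p S) (hF : F.IsSaturated p) :
    ∃ (T : Subgroup Ω) (E : FusionSystem T), E.IsLayerOf F p := by
  classical
  let Q := fun (T : Subgroup Ω) (E : FusionSystem T) => E.IsNormalIn F p ∧
    ∀ (U : Subgroup Ω) (C : FusionSystem U), C.IsComponentIn F p → C.IsSubsystemOf E
  -- the size of a subsystem: its maps on the subgroups of `S`
  let m := fun (T : Subgroup Ω) (E : FusionSystem T) =>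
    Nat.card {x : (P : {P : Subgroup Ω // P ≤ S}) × (P.1 → S) //
      ∃ φ ∈ E.Hom x.1.1, ∀ y, (x.2 y : Ω) = φ y}
  have hfin : Finite {P : Subgroup Ω // P ≤ S} :=
    Finite.of_injective (fun P => (P.1.subgroupOf S)) fun P R h => Subtype.ext (by
      have h1 := congrArg (Subgroup.map S.subtype) h
      rwa [Subgroup.subgroupOf_map_subtype, Subgroup.subgroupOf_map_subtype, inf_eq_left.mpr P.2,
        inf_eq_left.mpr R.2] at h1)
  have : ∀ P : {P : Subgroup Ω // P ≤ S}, Finite P.1 := fun P => finite_of_le P.2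
  have hex : ∃ n T E, Q T E ∧ m T E = n :=
    ⟨_, S, F, ⟨isNormalIn_self hS hF, fun U C hC => FusionGF.subsystem_of_subnormal hC.1⟩, rfl⟩
  obtain ⟨T, E, ⟨hE, hEc⟩, hm⟩ := Nat.find_spec hex
  refine ⟨T, E, hE, hEc, fun R D hD hDc => ?_⟩
  obtain ⟨M, hMF, hME, hMD⟩ := hmeet S F ‹_› hS hF T R E D hE hD
  have hMc : ∀ (U : Subgroup Ω) (C : FusionSystem U), C.IsComponentIn F p → C.IsSubsystemOf M := fun U C hC =>
    FusionGF.subsystem_of_subnormal (component_of_le hmeet hS hC hMF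
      (le_inf (Fusion.le_S (hEc U C hC U (subtype_mem le_rfl))) (Fusion.le_S (hDc U C hC U (subtype_mem le_rfl))))).1
  intro P φ hφ
  refine hMD.1.2.2.1 P ?_
  by_contra hne
  have hlt : m (T ⊓ R) M < m T E := by
    have hPS : P ≤ S := (Fusion.le_S hφ).trans hE.1.2.2.2.1.1
    have hval : ∀ y : P, φ y ∈ S := fun y => hE.1.2.2.2.1.1 ((E.le_of_mem hφ).2 y)
    let A : Set ((P : {P : Subgroup Ω // P ≤ S}) × (P.1 → S)) :=
      {x | ∃ φ ∈ M.Hom x.1.1, ∀ y, (x.2 y : Ω) = φ y}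
    let B : Set ((P : {P : Subgroup Ω // P ≤ S}) × (P.1 → S)) :=
      {x | ∃ φ ∈ E.Hom x.1.1, ∀ y, (x.2 y : Ω) = φ y}
    show Nat.card A < Nat.card B
    rw [Nat.card_coe_set_eq, Nat.card_coe_set_eq]
    refine Set.ncard_lt_ncard ((Set.ssubset_iff_of_subset ?_).mpr
      ⟨⟨⟨P, hPS⟩, fun y => ⟨φ y, hval y⟩⟩, ⟨φ, hφ, fun _ => rfl⟩, ?_⟩)
    · rintro x ⟨ψ, hψ, h⟩; exact ⟨ψ, hME.1.2.2.1 _ hψ, h⟩
    · rintro ⟨ψ, hψ, h⟩
      obtain rfl : φ = ψ := MonoidHom.ext h
      exact hne hψ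
  exact Nat.find_min hex (hm ▸ hlt) ⟨_, M, ⟨hMF, hMc⟩, rfl⟩

/-- A component of a central product is a component of one of the factors. -/
theorem component_of_centralProduct (hmeet : MeetHyp Ω p) (hS : IsPGroup p S) (hF : F.IsSaturated p)
    {S₁ S₂ : Subgroup Ω} {F₁ : FusionSystem S₁} {F₂ : FusionSystem S₂} (h₁ : F₁.IsSaturated p)
    (h₂ : F₂.IsSaturated p) (h₁F : F₁.IsSubsystemOf F) (h₂F : F₂.IsSubsystemOf F)
    (hcp : IsCentralProductOf F₁ F₂ F) {T : Subgroup Ω} {C : FusionSystem T} (hC : C.IsComponentIn F p) :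
    C.IsComponentIn F₁ p ∨ C.IsComponentIn F₂ p := by
  have hsup := FusionGF.cp_sup hcp
  have hS₁ : S₁ ≤ S := by rw [hsup]; exact le_sup_left
  have hS₂ : S₂ ≤ S := by rw [hsup]; exact le_sup_right
  have := finite_of_le hS₁
  have := finite_of_le hS₂
  have hn₂ : F₂.IsNormalIn F p :=
    FusionGF.isNormalIn_of_factor hcp hF h₂F (isNormalIn_self (hS.to_le hS₂) h₂)
  have hn₁ : F₁.IsNormalIn F p :=
    FusionGF.isNormalIn_of_factor (FusionGF.cp_symm hcp) hF h₁F (isNormalIn_self (hS.to_le hS₁) h₁)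
  rcases component_dichotomy hmeet hS hC hn₁ with h | h₁'
  · exact Or.inl h
  rcases component_dichotomy hmeet hS hC hn₂ with h | h₂'
  · exact Or.inr h
  have hTS := FusionTransport.le_of_subnormal hC.1
  have := finite_of_le hTS
  refine (Cfsg.Agent.S5148.result p (hS.to_le hTS) C hC.2 ⟨⟨fun a b => Subtype.ext ?_⟩⟩).elim
  have hle : S₁ ⊔ S₂ ≤ Subgroup.centralizer ({(a : Ω)} : Set Ω) :=
    sup_le (fun r hr => Subgroup.mem_centralizer_singleton_iff.mpr ((h₁'.1 a a.2 r hr).symm))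
      (fun r hr => Subgroup.mem_centralizer_singleton_iff.mpr ((h₂'.1 a a.2 r hr).symm))
  exact (Subgroup.mem_centralizer_singleton_iff.mp (hle (hsup.le (hTS b.2)))).symm

end CfsgLib.FusionLayerNormal
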