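import Cfsg.Agent.Lib.Fusion.PPrimeNormal
import Cfsg.Agent.Lib.Fusion.PIndexExist
import Cfsg.Agent.Lib.Fusion.TransportNormal

/-!
# Weakly normal subsystems and the residual subsystems

Weak normality is inherited by intermediate systems and composes along automorphisms; `O^p` and
`O^{p'}` are monotone on weakly normal subsystems.
-/

namespace CfsgLib.Fusion.ResLimit

open Cfsg Cfsg.FusionSystem CfsgLib.Fusion CfsgLib.FusionNormal CfsgLib.Fusion.PPrimeGen
  CfsgLib.Fusion.PPrimeRes CfsgLib.FusionTransport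

universe u

variable {Ω : Type u} [Group Ω] {S T U W : Subgroup Ω} {F : FusionSystem S} {p : ℕ}

/-- Every system is strongly invariant in itself. -/
theorem stronglyInvariant_self : IsStronglyInvariant F F := by
  intro P Q hPQ _ φ hφ hm ψ hψ
  obtain ⟨θ, hθ, hθr, hθe⟩ := exists_restrict hψ hPQ rfl
  obtain ⟨θi, hθi, hθir, hθi₁, -⟩ := exists_inv hθ hθr
  obtain ⟨μ, hμ, hμe⟩ := exists_comp hθi hφ fun y => hθir.le ⟨y, rfl⟩
  obtain ⟨ν, hν, hνe⟩ := exists_comp hμ hψ fun y => by rw [hμe]; exact hm _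
  refine ⟨ν, hν, fun x hx => ?_⟩
  rw [hνe]
  refine apply_eq_of_coe_eq ?_
  show μ _ = φ x
  rw [hμe]
  refine apply_eq_of_coe_eq ?_
  show θi _ = (x : Ω)
  exact (apply_eq_of_coe_eq (hθe x).symm).trans (hθi₁ x (hθr.le ⟨x, rfl⟩))

/-- The base of a subsystem lies in the base of the system. -/
theorem base_le {E : FusionSystem T} {Y : FusionSystem U} (h : E.IsSubsystemOf Y) : T ≤ U :=
  le_S (h T (subtype_mem le_rfl))

variable [Fact p.Prime] [Finite S]

theorem weaklyNormal_self (hS : IsPGroup p S) (hF : F.IsSaturated p) : F.IsWeaklyNormalIn F p :=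
  ⟨hF, hF, (invariant_iff_strong hS hF (fun _ => subset_rfl) FusionExtend.sc_self).mpr
    stronglyInvariant_self⟩

omit [Finite S] in
/-- Weak normality is inherited by intermediate systems. -/
theorem weaklyNormal_of_le {E : FusionSystem T} {Y : FusionSystem U} [Finite U] (hU : IsPGroup p U)
    (hE : E.IsWeaklyNormalIn F p) (hY : Y.IsSaturated p) (hEY : E.IsSubsystemOf Y)
    (hYF : Y.IsSubsystemOf F) : E.IsWeaklyNormalIn Y p := by
  obtain ⟨hEs, -, hEi⟩ := hE
  have hsc : Y.StronglyClosed T :=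
    ⟨base_le hEY, fun R hR φ hφ => hEi.2.1.2 R hR φ (hYF R hφ)⟩
  exact ⟨hEs, hY, (invariant_iff_strong hU hY hEY hsc).mpr fun P Q hPQ hQ φ hφ hm ψ hψ =>
    stronglyInvariant_of_invariant hEi P Q hPQ hQ φ hφ hm ψ (hYF Q hψ)⟩

omit [Finite S] in
/-- A saturated subsystem lies in every subsystem of `p`-power index over a larger subgroup. -/
theorem sub_of_pIndex [Finite W] (hW : IsPGroup p W) {D : FusionSystem W} (hD : D.IsSaturated p)
    (hDF : D.IsSubsystemOf F) {Y : FusionSystem U} (hY : Y.HasPPowerIndexIn F p) (hWU : W ≤ U) :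
    D.IsSubsystemOf Y := by
  have hle : D ≤ interSystem Y D hWU := by
    refine alperin hW hD _ fun P hP => ?_
    obtain ⟨hPW, hPa⟩ : P ≤ W ∧ D.IsFullyAutomized p P := by
      rcases hP with rfl | hP
      · exact ⟨le_rfl, ((saturated_iff_top_and_receptive hW).mp hD).1⟩
      · exact ⟨hP.1.1, (fullyNormalized_good hW hD hP.2.1).1⟩
    intro α hα
    obtain ⟨a, haR, g, hg, b, rfl, hb⟩ := FullyAutomized.exists_mul hPa hα
    refine Subgroup.mul_mem _ ?_ ((mem_autGroup hPW).mpr (mem_of_conj hPW hg fun x => hb x))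
    obtain ⟨a', ha'R, ha'⟩ := residual_le_of_subsystem hDF hPW haR
    refine (mem_autGroup hPW).mpr ⟨?_, (mem_autGroup hPW).mp a.2⟩
    rw [← ha']
    exact (mem_autGroup (hPW.trans hWU)).mp (mem_autGroup_of_residual hY (hPW.trans hWU) ha'R)
  exact fun P φ hφ => (hle P hφ).1

omit [Finite S] [Fact p.Prime] in
/-- The hyperfocal subgroup of an invariant system is kept by automorphisms of the ambient one. -/
theorem hyperfocal_map_mem {X : FusionSystem U} (hX : X.IsInvariantIn F) {a : Ω → Ω}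
    (ha : MapFn F U a) (har : a '' U = (U : Set Ω)) {y : Ω} (hy : y ∈ X.hyperfocalSubgroup p) :
    a y ∈ X.hyperfocalSubgroup p := by
  obtain ⟨φ, hφ, hφe⟩ := ha
  have haU : ∀ x ∈ U, a x ∈ U := fun x hx => mem_of_image har hx
  suffices h : X.hyperfocalSubgroup p ≤ ((X.hyperfocalSubgroup p).comap φ).map U.subtype by
    obtain ⟨z, hz, rfl⟩ := h hy
    show a (z : Ω) ∈ _
    rw [← hφe]
    exact hz
  rw [FusionSystem.hyperfocalSubgroup, Subgroup.closure_le]
  rintro _ ⟨P, α, x, hP, hα, rfl⟩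
  refine ⟨⟨(x : Ω)⁻¹ * ((α : MulAut P) x : P),
    U.mul_mem (U.inv_mem (hP x.2)) (hP (Subtype.mem _))⟩, ?_, rfl⟩
  obtain ⟨χ, hχ, hχe⟩ : ∃ χ ∈ F.Hom P, ∀ z : P, χ z = φ ⟨z, hP z.2⟩ :=
    ⟨_, restrict_mem hP hφ, fun _ => rfl⟩
  obtain ⟨e, he⟩ := exists_equiv hχ rfl
  have hQU : χ.range ≤ U := by
    rintro _ ⟨z, rfl⟩
    rw [hχe, hφe]
    exact haU _ (hP z.2)
  let f : X.autGroup P →* X.autGroup χ.range :=
    ((MulAut.congr e).toMonoidHom.comp (X.autGroup P).subtype).codRestrict _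
      fun b => autGroup_congr_of_strong (stronglyInvariant_of_invariant hX) hP hQU hχ he b.2
  have hfa := CfsgLib.Transfer.map_pResidual_le (p := p) f ⟨α, hα, rfl⟩
  have h1 := mem_hyperfocal hQU hfa (e x)
  have h2 : ((f α : MulAut χ.range) (e x) : Ω) = φ ⟨_, hP ((α : MulAut P) x).2⟩ := by
    show ((e ((α : MulAut P) (e.symm (e x))) : χ.range) : Ω) = _
    rw [MulEquiv.symm_apply_apply, he, hχe]
  rw [h2, he, hχe, ← map_inv φ, ← map_mul φ] at h1
  exact h1

/-- The maps of `D` carried into `D` by `β`. -/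
def invAt {G : FusionSystem S} (D : FusionSystem W) (hWU : W ≤ U) {β : Ω → Ω} (hβ : MapFn G U β)
    (hβW : ∀ x ∈ W, β x ∈ W) : FusionSystem W where
  Hom P := {φ | φ ∈ D.Hom P ∧ ∀ R : Subgroup Ω, β '' P = (R : Set Ω) →
    ∃ χ, MapFn D R χ ∧ ∀ x : P, χ (β x) = β (φ x)}
  le_of_mem h := D.le_of_mem h.1
  injective_of_mem h := D.injective_of_mem h.1
  conj_mem := by
    intro P g hP hg
    refine ⟨D.conj_mem hP hg, fun R hR => ?_⟩
    have hRW : R ≤ W := fun y hy => by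
      obtain ⟨x, hx, rfl⟩ := exists_of_image hR hy
      exact hβW x (hP hx)
    exact ⟨_, mapFn_conj hRW (hβW g hg), fun x => (hβ.map_conj (hWU hg) (hWU (hP x.2))).symm⟩
  comp_mem := by
    rintro P Q φ ψ ⟨hφ, hφE⟩ ⟨hψ, hψE⟩ hm
    refine ⟨D.comp_mem hφ hψ hm, fun R hR => ?_⟩
    obtain ⟨R', -, hR'⟩ := (hβ.mono ((le_S hψ).trans hWU)).exists_image
    obtain ⟨χ₁, hχ₁, hχ₁e⟩ := hφE R hR
    obtain ⟨χ₂, hχ₂, hχ₂e⟩ := hψE R' hR'
    refine ⟨χ₂ ∘ χ₁, hχ₁.comp hχ₂ fun y hy => ?_, fun x => ?_⟩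
    · obtain ⟨x, hx, rfl⟩ := exists_of_image hR hy
      rw [hχ₁e ⟨x, hx⟩]
      exact mem_of_image hR' (hm _)
    · show χ₂ (χ₁ _) = _
      rw [hχ₁e, hχ₂e ⟨φ x, hm x⟩]
      rfl
  inv_mem := by
    rintro P φ ⟨hφ, hφE⟩
    obtain ⟨ψ, hψ, hψe⟩ := D.inv_mem hφ
    refine ⟨ψ, ⟨hψ, fun R hR => ?_⟩, hψe⟩
    obtain ⟨R', -, hR'⟩ := (hβ.mono ((le_S hφ).trans hWU)).exists_image
    obtain ⟨χ, hχ, hχe⟩ := hφE R' hR'
    have him : χ '' R' = (R : Set Ω) := by
      rw [← hR', ← hR, Set.image_image]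
      ext y
      constructor
      · rintro ⟨x, hx, rfl⟩
        exact ⟨φ ⟨x, hx⟩, ⟨_, rfl⟩, (hχe ⟨x, hx⟩).symm⟩
      · rintro ⟨_, ⟨x, rfl⟩, rfl⟩
        exact ⟨x, x.2, hχe x⟩
    obtain ⟨ξ, hξ, -, hξe, -⟩ := hχ.exists_inv him
    refine ⟨ξ, hξ, ?_⟩
    rintro ⟨_, x, rfl⟩
    rw [hψe]
    show ξ (β (φ x)) = _
    rw [← hχe]
    exact hξe _ (mem_of_image hR' x.2)

/-- Automorphisms of the ambient system keeping `W` keep the subsystem of `p`-power index over `W`. -/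
theorem transport_pIndex {X : FusionSystem U} (hX : X.IsWeaklyNormalIn F p) (hS : IsPGroup p S)
    {D : FusionSystem W} (hD : D.IsSaturated p) (hDi : D.HasPPowerIndexIn X p) {β : Ω → Ω}
    (hβ : MapFn F U β) (hβW : ∀ x ∈ W, β x ∈ W) {P R : Subgroup Ω} {f : Ω → Ω} (hf : MapFn D P f)
    (hR : β '' P = (R : Set Ω)) : ∃ g, MapFn D R g ∧ ∀ x ∈ P, g (β x) = β (f x) := by
  have hWU := base_le hDi.1
  have hUS : U ≤ S := hX.2.2.2.1.1
  have := finite_of_le (hWU.trans hUS)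
  have hWp : IsPGroup p W := hS.to_le (hWU.trans hUS)
  have hle : D ≤ invAt D hWU hβ hβW := by
    refine alperin hWp hD _ fun P hP => ?_
    obtain ⟨hPW, hPa⟩ : P ≤ W ∧ D.IsFullyAutomized p P := by
      rcases hP with rfl | hP
      · exact ⟨le_rfl, ((saturated_iff_top_and_receptive hWp).mp hD).1⟩
      · exact ⟨hP.1.1, (fullyNormalized_good hWp hD hP.2.1).1⟩
    intro α hα
    obtain ⟨a, haR, g, hg, b, rfl, hb⟩ := FullyAutomized.exists_mul hPa hα
    refine Subgroup.mul_mem _ ?_ ((mem_autGroup hPW).mpr (mem_of_conj hPW hg fun x => hb x))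
    refine (mem_autGroup hPW).mpr ⟨(mem_autGroup hPW).mp a.2, fun R hR => ?_⟩
    obtain ⟨θ, hθ, hθe⟩ := hβ.mono (hPW.trans hWU)
    have hθr : θ.range = R := SetLike.coe_injective (by rw [← MapFn.image_eq_range hθe, hR])
    obtain ⟨e, he⟩ := exists_equiv hθ hθr
    have hRW : R ≤ W := fun y hy => by
      obtain ⟨x, hx, rfl⟩ := exists_of_image hR hy
      exact hβW x (hPW hx)
    obtain ⟨a', ha'R, ha'⟩ := residual_le_of_subsystem hDi.1 hPW haR
    let f : X.autGroup P →* X.autGroup R :=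
      ((MulAut.congr e).toMonoidHom.comp (X.autGroup P).subtype).codRestrict _
        fun a => autGroup_congr_of_strong (stronglyInvariant_of_invariant hX.2.2) (hPW.trans hWU)
          (hRW.trans hWU) hθ he a.2
    obtain ⟨χ, hχ, -, hχe⟩ := exists_mapFn_of_aut hRW
      (mem_autGroup_of_residual hDi hRW (CfsgLib.Transfer.map_pResidual_le f ⟨a', ha'R, rfl⟩))
    refine ⟨χ, hχ, fun x => ?_⟩
    show χ (β x) = β (((a : MulAut P) x : P) : Ω)
    rw [← hθe, ← hθe, ← he, ← he, hχe]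
    show ((e ((a' : MulAut P) (e.symm (e x))) : R) : Ω) = _
    rw [MulEquiv.symm_apply_apply, ha']
  obtain ⟨φ, hφ, hφe⟩ := hf
  obtain ⟨χ, hχ, hχe⟩ := (hle P hφ).2 R hR
  exact ⟨χ, hχ, fun x hx => (hχe ⟨x, hx⟩).trans (by rw [hφe])⟩

omit [Fact p.Prime] in
/-- Weak normality composes when the automorphisms of the middle base keep the small system. -/
theorem weaklyNormal_trans {X : FusionSystem U} {D : FusionSystem W} (hD : D.IsWeaklyNormalIn X p)
    (hX : X.IsWeaklyNormalIn F p)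
    (hinv : ∀ a : Ω → Ω, MapFn F U a → a '' U = (U : Set Ω) → (∀ x ∈ W, a x ∈ W) ∧
      ∀ (P R : Subgroup Ω) (f : Ω → Ω), MapFn D P f → a '' P = (R : Set Ω) →
        ∃ χ, MapFn D R χ ∧ ∀ x ∈ P, χ (a x) = a (f x)) :
    D.IsWeaklyNormalIn F p := by
  obtain ⟨hDs, -, hDi⟩ := hD
  obtain ⟨-, hF, hXi⟩ := hX
  have hWU := hDi.2.1.1
  have hUS := hXi.2.1.1
  have := finite_of_le hUS
  have hWS := hWU.trans hUS
  have hsub : D.IsSubsystemOf F := fun P => (hDi.1 P).trans (hXi.1 P)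
  have hsc : F.StronglyClosed W := ⟨hWS, fun R hR φ hφ x => by
    obtain ⟨f, hf, hfe⟩ := mapFn_of_hom hφ
    obtain ⟨a, f₀, ha, har, hf₀, he⟩ := mapFn_frattini hXi (hR.trans hWU) hf
    rw [hfe, he x x.2]
    exact (hinv a ha har).1 _ (map_mem_of_sc hDi.2.1 hf₀ x.2 (hR x.2))⟩
  refine ⟨hDs, hF, isInvariantIn_of_mapFn hsub hsc (fun P P' f a hf ha har hP' => ?_)
    fun P f hP hf => ?_⟩
  · obtain ⟨a', f₀, ha', ha'r, hf₀, he⟩ := mapFn_frattini hXi hWU ha
    have hf₀W : ∀ x ∈ W, f₀ x ∈ W := fun x hx => map_mem_of_sc hDi.2.1 hf₀ hx hx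
    have hPW := hf.le_S
    obtain ⟨P₁, -, hP₁⟩ := (hf₀.mono hPW).exists_image
    obtain ⟨χ₁, hχ₁, hχ₁e⟩ := mapFn_transport hDi hf hf₀
      (hf₀.image_eq_of_maps hWU hf₀W le_rfl) hP₁
    have hP₁' : a' '' P₁ = (P' : Set Ω) := by
      rw [← hP₁, ← hP', Set.image_image]
      exact Set.image_congr fun x hx => (he x (hPW hx)).symm
    obtain ⟨χ₂, hχ₂, hχ₂e⟩ := (hinv a' ha' ha'r).2 P₁ P' χ₁ hχ₁ hP₁'
    refine ⟨χ₂, hχ₂, fun x hx => ?_⟩
    rw [he x (hPW hx), hχ₂e _ (mem_of_image hP₁ hx), hχ₁e x hx, he _ (hf.mem_S hx)]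
  · obtain ⟨a', f₀, ha', ha'r, hf₀, he⟩ := mapFn_frattini hXi (hP.trans hWU) hf
    obtain ⟨c, f₁, hc, hcr, hf₁, he'⟩ := mapFn_frattini hDi hP hf₀
    have hac : MapFn F W (a' ∘ c) :=
      (mapFn_of_sub hXi.1 hc).comp ha' fun x hx => hc.mem_S hx
    refine ⟨a' ∘ c, f₁, hac, hac.image_eq_of_maps hWS
      (fun x hx => (hinv a' ha' ha'r).1 _ (mem_of_image hcr hx)) le_rfl, hf₁, fun x hx => ?_⟩
    show f x = a' (c (f₁ x))
    rw [he x hx, he' x hx]

/-- Subsystems of `p`-power index of a weakly normal subsystem, over a subgroup kept by the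
automorphisms of its base, are weakly normal. -/
theorem weaklyNormal_pIndex (hS : IsPGroup p S) {X : FusionSystem U} (hX : X.IsWeaklyNormalIn F p)
    (hWn : (W.subgroupOf U).Normal) {D : FusionSystem W} (hD : D.IsSaturated p)
    (hDi : D.HasPPowerIndexIn X p)
    (hW : ∀ a : Ω → Ω, MapFn F U a → a '' U = (U : Set Ω) → ∀ x ∈ W, a x ∈ W) :
    D.IsWeaklyNormalIn F p := by
  have hUS : U ≤ S := hX.2.2.2.1.1
  have := finite_of_le hUS
  have h1 := isNormalIn_of_pIndex (hS.to_le hUS) hX.1 (base_le hDi.1) hWn hD hDi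
  exact weaklyNormal_trans h1.1 hX fun a ha har =>
    ⟨hW a ha har, fun P R f hf hR => transport_pIndex hX hS hD hDi ha (hW a ha har) hf hR⟩

omit [Fact p.Prime] [Finite S] in
theorem hyperfocal_normal (X : FusionSystem U) :
    ((X.hyperfocalSubgroup p).subgroupOf U).Normal :=
  ⟨fun _ hn g => hyperfocal_conj_mem g.2 hn⟩

/-! ### `O^{p'}` is monotone -/

variable {Z : FusionSystem T} {Q : Subgroup Ω}

/-- An automorphism of `N_T(Q)` in `Z` is in the residual of `F` if it is there on `Q`. -/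
theorem mem_res_of_restrict (hS : IsPGroup p S) (hZ : Z.IsWeaklyNormalIn F p)
    (hQc : Z.IsCentric Q) (hQf : F.IsFullyCentralized Q) {α : MulAut ↥(normalizerIn T Q)}
    (hα : α ∈ Z.autGroup (normalizerIn T Q)) {d : Ω → Ω} (hd : MapFn (res p F) Q d)
    (hdQ : d '' Q = (Q : Set Ω))
    (had : ∀ x : normalizerIn T Q, (x : Ω) ∈ Q → ((α x : normalizerIn T Q) : Ω) = d x) :
    α ∈ (res p F).autGroup (normalizerIn T Q) := by
  obtain ⟨hZs, hF, hZi⟩ := hZ
  have hTS : T ≤ S := hZi.2.1.1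
  have : Finite T := finite_of_le hTS
  have hQT : Q ≤ T := hQc.1
  have hNT : (normalizerIn T Q) ≤ T := normalizerIn_le
  have hNS : (normalizerIn T Q) ≤ S := hNT.trans hTS
  have hQN : Q ≤ (normalizerIn T Q) := le_normalizerIn hQT
  have := finite_mulAut (S := S) hNS
  have : Finite (normalizerIn T Q) := finite_of_le hNS
  have hRs := res_isSaturated hS hF
  have hRi := res_invariant hS (weaklyNormal_self hS hF)
  suffices key : ∀ a ∈ Z.autGroup (normalizerIn T Q), (orderOf a).Coprime p →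
      (∀ x : (normalizerIn T Q), (x : Ω) ∈ Q → ((a x : (normalizerIn T Q)) : Ω) ∈ Q) →
      (∃ d, MapFn (res p F) Q d ∧ ∀ x : (normalizerIn T Q), (x : Ω) ∈ Q → ((a x : (normalizerIn T Q)) : Ω) = d x) →
      a ∈ (res p F).autGroup (normalizerIn T Q) by
    obtain ⟨i, j, ⟨k, hk⟩, hj, hij⟩ := exists_parts (p := p) α
    have h1 : α ^ i ∈ (res p F).autGroup (normalizerIn T Q) := (res_primeToP hS hF).2 (normalizerIn T Q) hNS
      (mem_pPrimeAut_of_pow (autGroup_le_of_sub hTS hZi.1 hNT (Subgroup.pow_mem _ hα i)) hk)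
    have hpow : ∀ l : ℕ, (∀ x : (normalizerIn T Q), (x : Ω) ∈ Q → (((α ^ l) x : (normalizerIn T Q)) : Ω) ∈ Q) ∧
        ∃ d, MapFn (res p F) Q d ∧ ∀ x : (normalizerIn T Q), (x : Ω) ∈ Q → (((α ^ l) x : (normalizerIn T Q)) : Ω) = d x := by
      intro l
      induction l with
      | zero => exact ⟨fun x hx => by simpa using hx, id, mapFn_id (hQT.trans hTS), fun x _ => by simp⟩
      | succ l ih =>
        obtain ⟨hm, d', hd', hde⟩ := ih
        refine ⟨fun x hx => ?_, d' ∘ d,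
          hd.comp hd' fun x hx => mem_of_image hdQ hx, fun x hx => ?_⟩
        · rw [pow_succ, MulAut.mul_apply]
          exact hm _ (by rw [had x hx]; exact mem_of_image hdQ hx)
        · rw [pow_succ, MulAut.mul_apply, hde _ (by rw [had x hx]; exact mem_of_image hdQ hx),
            had x hx]
          rfl
    exact hij ▸ Subgroup.mul_mem _ h1
      (key _ (Subgroup.pow_mem _ hα j) hj (hpow j).1 (hpow j).2)
  intro a ha hac haQ hd
  obtain ⟨d, hd, hde⟩ := hd
  obtain ⟨fa, hfa, -, hfae⟩ := exists_mapFn_of_aut hNT ha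
  have hdr : d '' Q = (Q : Set Ω) := hd.image_eq_of_maps (hQT.trans hTS)
    (fun x hx => by rw [← hde ⟨x, hQN hx⟩ hx]; exact haQ _ hx) le_rfl
  have hQfR : (res p F).IsFullyCentralized Q :=
    ⟨hQf.1, fun X ⟨φ, hφ, hr⟩ => hQf.2 X ⟨φ, res_le p F Q hφ, hr⟩⟩
  obtain ⟨g, hg, hge⟩ := hd.exists_extension
    (receptive_of_fullyCentralized hS hRs hQfR) hdr hQN (inf_le_inf_right _ hTS)
    fun z hz => ⟨fa z, hTS (hfa.mem_S hz), fun x hx => by
      rw [← hde ⟨x, hQN hx⟩ hx, ← hde ⟨z * x * z⁻¹, hQN (conj_mem_of_normalizer hz.2 hx)⟩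
        (conj_mem_of_normalizer hz.2 hx), ← hfae, ← hfae]
      exact hfa.map_conj hz (hQN hx)⟩
  have hscR : (res p F).StronglyClosed T :=
    ⟨hTS, fun X hX φ hφ => hZi.2.1.2 X hX φ (res_le p F X hφ)⟩
  obtain ⟨β, hβ, hβe⟩ := hg.exists_aut (hg.image_eq_of_maps hNS
    (fun x hx => ⟨map_mem_of_sc hscR hg hx hx.1,
      (hg.mem_normalizerIn hQN ((Set.image_congr hge).trans hdr) hx hx.2).2⟩) le_rfl)
  obtain ⟨r, hr, hr1⟩ := exists_coprime_part β (m := orderOf a) hac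
  have hβa : ∀ l : ℕ, ∀ x : (normalizerIn T Q), (x : Ω) ∈ Q →
      (β ^ l) x = (a ^ l) x ∧ (((a ^ l) x : (normalizerIn T Q)) : Ω) ∈ Q := by
    intro l
    induction l with
    | zero => intro x hx; simpa using hx
    | succ l ih =>
      intro x hx
      have h1 : β x = a x := Subtype.ext (by rw [hβe, hge _ hx, hde x hx])
      rw [pow_succ, pow_succ, MulAut.mul_apply, MulAut.mul_apply, h1]
      exact ih _ (haQ x hx)
  have har : a ^ r = a := by rw [pow_eq_pow_iff_modEq.mpr hr1, pow_one]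
  have hσfix : ∀ x : (normalizerIn T Q), (x : Ω) ∈ Q → (a⁻¹ * β ^ r) x = x := fun x hx => by
    rw [MulAut.mul_apply, (hβa r x hx).1, har, MulAut.inv_apply_self]
  -- `a⁻¹ β^r` stabilizes `1 ≤ Q ≤ (normalizerIn T Q)`
  obtain ⟨k, hk⟩ : ∃ k, (a⁻¹ * β ^ r) ^ p ^ k = 1 := by
    refine exists_pow_eq_one_of_stabilizes (hS.to_le hNS) (n := 1)
      (fun i => if i = 0 then Q.subgroupOf (normalizerIn T Q) else ⊤) (fun i hi => ?_) rfl ⟨0, fun x hx => ?_⟩
      fun i hi x _ => ?_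
    · obtain rfl : i = 0 := by omega
      simp
    · rw [if_pos rfl, Subgroup.mem_subgroupOf] at hx
      rw [pow_zero, pow_one]
      exact hσfix x hx
    · obtain rfl : i = 0 := by omega
      rw [if_pos rfl, Subgroup.mem_subgroupOf]
      set σ := a⁻¹ * β ^ r
      have h1 : (((x⁻¹ * σ x : (normalizerIn T Q))) : Ω) ∈ centralizerIn T Q := by
        refine mem_centralizerIn.mpr ⟨hNT (Subtype.mem _), fun y hy => ?_⟩
        set y' : (normalizerIn T Q) := ⟨y, hQN hy⟩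
        have hc : ((x * y' * x⁻¹ : (normalizerIn T Q)) : Ω) ∈ Q := conj_mem_of_normalizer x.2.2 hy
        have h2 : σ x * y' * (σ x)⁻¹ = x * y' * x⁻¹ := by
          rw [← hσfix (x * y' * x⁻¹) hc, map_mul, map_mul, map_inv, hσfix y' hy]
        have h3 : y' * (x⁻¹ * σ x) = (x⁻¹ * σ x) * y' := by
          rw [← mul_right_inj x, ← mul_left_inj (σ x)⁻¹]
          calc x * (y' * (x⁻¹ * σ x)) * (σ x)⁻¹ = x * y' * x⁻¹ := by group
            _ = σ x * y' * (σ x)⁻¹ := h2.symm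
            _ = _ := by group
        exact congrArg Subtype.val h3
      exact IsCentric.centralizerIn_le' hQc h1
  have hRle : (res p F).autGroup (normalizerIn T Q) ≤ F.autGroup (normalizerIn T Q) :=
    PPrimeRes.autGroup_le_of_sub le_rfl (res_le p F) hNS
  set N₁ := (Z.autGroup (normalizerIn T Q)).subgroupOf (F.autGroup (normalizerIn T Q))
  set N₂ := ((res p F).autGroup (normalizerIn T Q)).subgroupOf (F.autGroup (normalizerIn T Q))
  have : N₁.Normal := ⟨fun x hx y => autGroup_conj_mem_of_strong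
    (stronglyInvariant_of_invariant hZi) hNT hTS hx y.2⟩
  have : N₂.Normal := ⟨fun x hx y => autGroup_conj_mem_of_strong
    (stronglyInvariant_of_invariant hRi) hNS le_rfl hx y.2⟩
  exact mem_of_pair (p := p) (N₁ := N₁) (N₂ := N₂)
    (a := ⟨a, autGroup_le_of_sub hTS hZi.1 hNT ha⟩)
    (b := ⟨β ^ r, hRle (Subgroup.pow_mem _ hβ r)⟩) ha (Subgroup.pow_mem _ hβ r)
    (by rw [← Subgroup.orderOf_coe]; exact hac) (by rw [← Subgroup.orderOf_coe]; exact hr)
    (k := k) (Subtype.ext hk)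

/-- The automorphisms of a weakly normal subsystem lying in the residual form a family. -/
theorem isFamily_residual (hS : IsPGroup p S) (hZ : Z.IsWeaklyNormalIn F p) :
    IsFamily p Z fun P => Z.autGroup P ⊓ (res p F).autGroup P where
  le _ _ := inf_le_left
  pAuts P hP := le_inf pPrimeAut_le_autGroup (pPrimeAut_le fun α hα k hk =>
    (res_primeToP hS hZ.2.1).2 P (hP.1.trans hZ.2.2.2.1.1)
      (mem_pPrimeAut_of_pow (autGroup_le_of_sub hZ.2.2.2.1.1 hZ.2.2.1 hP.1 hα) hk))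
  congr P R φ hP hφ e he a ha := ⟨autGroup_congr_mem hφ he ha.1,
    autGroup_congr_of_strong (stronglyInvariant_of_invariant
        (res_invariant hS (weaklyNormal_self hS hZ.2.1)))
      (hP.1.trans hZ.2.2.2.1.1) (fun y hy => by
        obtain ⟨x, hx⟩ := e.surjective ⟨y, hy⟩
        rw [show y = φ x by rw [← he, hx]]
        exact hZ.2.2.2.1.1 (apply_mem_S hφ x)) (hZ.2.2.1 P hφ) he ha.2⟩
  ascend Q hQn hQc a ha b hb hab := by
    obtain ⟨hZs, hF, hZi⟩ := hZ
    have hT := hZi.2.1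
    have hTS := hT.1
    have hQT : Q ≤ T := hQc.1
    have hRs := stronglyInvariant_of_invariant (res_invariant hS (weaklyNormal_self hS hF))
    refine ⟨ha, ?_⟩
    have hQN : Q ≤ (normalizerIn T Q) := le_normalizerIn hQT
    have hNS : (normalizerIn T Q) ≤ normalizerIn S Q := inf_le_inf_right _ hTS
    obtain ⟨Q₀, g, hQ₀n, hg, hgQ, hgm⟩ := exists_fullyNormalized_mapFn hS hF (hQT.trans hTS)
    have hQS := hQT.trans hTS
    have hcQ : F.IsConj Q Q₀ := (hg.mono (le_normalizerIn hQS)).isConj hgQ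
    have hQ₀T : Q₀ ≤ T := fun y hy => by
      obtain ⟨x, hx, rfl⟩ := exists_of_image hgQ hy
      exact map_mem_of_sc hT hg (le_normalizerIn hQS hx) (hQT hx)
    set N₀ := normalizerIn T Q₀
    have hgN : g '' (normalizerIn T Q) = (N₀ : Set Ω) := (hg.mono hNS).image_eq_of_maps
      (normalizerIn_le.trans hTS)
      (fun x hx => ⟨map_mem_of_sc hT hg (hNS hx) hx.1, (hgm x (hNS hx)).2⟩)
      (card_normalizerIn_eq hS hF hZi hQn hQ₀n hcQ hQ₀T).le
    obtain ⟨φ, hφ, hφe⟩ := hg.mono hNS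
    have hφr : φ.range = N₀ := SetLike.coe_injective (by rw [← MapFn.image_eq_range hφe, hgN])
    obtain ⟨e, he⟩ := exists_equiv hφ hφr
    obtain ⟨ψ, hψ, hψe⟩ := hg.mono (le_normalizerIn hQS)
    obtain ⟨e₀, he₀⟩ := exists_equiv hψ
      (SetLike.coe_injective (by rw [← MapFn.image_eq_range hψe, hgQ]) : ψ.range = Q₀)
    have ha₀ : MulAut.congr e a ∈ Z.autGroup N₀ := autGroup_congr_of_strong
      (stronglyInvariant_of_invariant hZi) normalizerIn_le normalizerIn_le hφ he ha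
    have hb₀ : MulAut.congr e₀ b ∈ (res p F).autGroup Q₀ :=
      autGroup_congr_of_strong hRs hQS hQ₀n.1 hψ he₀ hb.2
    obtain ⟨d, hd, hdr, hde⟩ := exists_mapFn_of_aut hQ₀n.1 hb₀
    have key := mem_res_of_restrict hS ⟨hZs, hF, hZi⟩ (centric_of_F hZi hQc hcQ hQ₀T)
      (isFullyCentralized_of_fullyNormalized hS hF hQ₀n) ha₀ hd hdr fun y hy => by
        obtain ⟨x, hx, hxy⟩ := exists_of_image hgQ hy
        have hy' : y = e ⟨x, hQN hx⟩ := Subtype.ext (by rw [he, hφe]; exact hxy.symm)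
        have hy₀ : (y : Ω) = ((e₀ ⟨x, hx⟩ : Q₀) : Ω) := by rw [he₀, hψe]; exact hxy.symm
        rw [hy₀, hde, hy']
        show ((e (a (e.symm (e _))) : N₀) : Ω) = ((e₀ (b (e₀.symm (e₀ _))) : Q₀) : Ω)
        rw [MulEquiv.symm_apply_apply, MulEquiv.symm_apply_apply, he, he₀, hφe, hψe,
          hab ⟨x, hx⟩ (hQN hx)]
    obtain ⟨φi, hφi, -, hi, -⟩ := exists_inv hφ hφr
    have h1 := autGroup_congr_of_strong (e := e.symm) hRs (normalizerIn_le.trans hTS)
      (normalizerIn_le.trans hTS) hφi (fun y => by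
        obtain ⟨x, rfl⟩ := e.surjective y
        rw [MulEquiv.symm_apply_apply]
        exact ((apply_eq_of_coe_eq (he x)).trans (hi x (hφr.le ⟨x, rfl⟩))).symm) key
    rwa [show MulAut.congr e.symm (MulAut.congr e a) = a from
      MulEquiv.ext fun x => by simp [MulAut.congr]] at h1

/-- `O^{p'}` is monotone on weakly normal subsystems. -/
theorem res_sub_res (hS : IsPGroup p S) (hZ : Z.IsWeaklyNormalIn F p) :
    (res p Z).IsSubsystemOf (res p F) := by
  have hTS : T ≤ S := hZ.2.2.2.1.1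
  have := finite_of_le hTS
  have hG := isFamily_residual hS hZ
  have hle : ∀ P, P ≤ T → Z.autGroup P ⊓ (res p F).autGroup P ≤
      (interSystem (res p F) Z hTS).autGroup P := fun P hP α hα =>
    (mem_autGroup hP).mpr ⟨(mem_autGroup (hP.trans hTS)).mp hα.2, (mem_autGroup hP).mp hα.1⟩
  exact fun P φ hφ => ((res_le_of_family (hS.to_le hTS) hZ.1 hG
    (fun P hP => (hG.pAuts P hP).trans (hle P hP.1)) (hle T le_rfl)) P hφ).1

/-- The `p'`-residual is `res`. -/
theorem eq_res (hS : IsPGroup p S) (hF : F.IsSaturated p) {R : FusionSystem S}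
    (hR : F.IsPPrimeResidual p R) : R = res p F :=
  le_antisymm' (hR.2.2 _ (res_isSaturated hS hF) (res_primeToP hS hF))
    ((res_isPPrimeResidual hS hF).2.2 R hR.1 hR.2.1)

omit [Fact p.Prime] [Finite S] in
/-- The `p'`-residual is its own `p'`-residual. -/
theorem pPrimeResidual_self {R : FusionSystem S} (hR : F.IsPPrimeResidual p R) :
    R.IsPPrimeResidual p R := by
  refine ⟨hR.1, ⟨fun _ => subset_rfl, fun P _ => Subgroup.map_subtype_le _⟩,
    fun D hDs hD => hR.2.2 D hDs ⟨fun P => (hD.1 P).trans (hR.2.1.1 P), fun P hP => ?_⟩⟩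
  refine pPrimeAut_le fun α hα k hk => ?_
  exact hD.2 P hP (mem_pPrimeAut_of_pow (hR.2.1.2 P hP (mem_pPrimeAut_of_pow hα hk)) hk)

end CfsgLib.Fusion.ResLimit
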