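import Cfsg.Agent.Lib.Fusion.ComponentDichotomy
import Cfsg.Agent.Lib.Fusion.ResidualWeak
import Cfsg.Agent.Lib.FusionNormal.LayerTransport

/-!
# Components are normal in the layer

Given meets, products of commuting normal subsystems and layers: the layer of a normal subsystem is
normal, and every component is normal in the layer.
-/

set_option autoImplicit false
set_option linter.unusedSectionVars false

namespace CfsgLib.FusionLayerNormal

open Cfsg Cfsg.FusionSystem CfsgLib.Fusion CfsgLib.FusionNormal CfsgLib.FusionTransport CfsgLib.FusionDichotomy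

universe u

variable {Ω : Type u} [Group Ω]

/-- Commuting normal subsystems have central products. -/
def ProductHyp (Ω : Type u) [Group Ω] (p : ℕ) : Prop :=
  ∀ (S : Subgroup Ω) (F : FusionSystem S), Finite S → IsPGroup p S → F.IsSaturated p → FusionGF.HasProducts F p

/-- Saturated systems have layers. -/
def LayerHyp (Ω : Type u) [Group Ω] (p : ℕ) : Prop :=
  ∀ (S : Subgroup Ω) (F : FusionSystem S), Finite S → IsPGroup p S → F.IsSaturated p →
    ∃ (T : Subgroup Ω) (E : FusionSystem T), E.IsLayerOf F p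

variable {S T U V : Subgroup Ω} {F : FusionSystem S} [Finite S] {p : ℕ} [Fact p.Prime]

theorem eq_of_sub {W : Subgroup Ω} {A B : FusionSystem W} (h : A.IsSubsystemOf B) (h' : B.IsSubsystemOf A) :
    A = B := by
  have e := funext fun P => Set.Subset.antisymm (h P) (h' P)
  cases A; cases B; cases e; rfl

/-- The layer of a normal subsystem is normal. -/
theorem layer_isNormalIn (hmeet : MeetHyp Ω p) (hS : IsPGroup p S) {D : FusionSystem U} (hD : D.IsNormalIn F p)
    {E : FusionSystem T} (hE : E.IsLayerOf D p) : E.IsNormalIn F p := by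
  have hUS : U ≤ S := hD.1.2.2.2.1.1
  have := finite_of_le hUS
  have hU := hS.to_le hUS
  have hTU : T ≤ U := hE.1.1.2.2.2.1.1
  have hw : E.IsWeaklyNormalIn F p := by
    refine ResLimit.weaklyNormal_trans hE.1.1 hD.1 fun a ha har => ?_
    obtain ⟨e, hef, heg⟩ := exists_emb_of_mapFn ha har
    have hrel := rel_invariant hD.1.2.2 (ha.congr fun x _ => (hef x).symm) heg
    obtain ⟨himg, hmap⟩ := LayerTransport.layer_invariant hU hrel hE
    refine ⟨fun x hx => ?_, fun P R f hf hR => ⟨e.f ∘ f ∘ e.g, ?_, fun x hx => ?_⟩⟩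
    · rw [← hef, ← himg]; exact e.f_mem_img hTU hx
    · have : e.img P = R := SetLike.coe_injective (by
        rw [← e.image_eq (hf.le_S.trans hTU), ← hR]; exact Set.image_congr fun x _ => hef x)
      exact this ▸ hmap hf
    · show e.f (f (e.g (a x))) = a (f x)
      rw [← hef x, e.gf x (hTU (hf.le_S hx)), hef]
  have := finite_of_le hTU
  have hres := PPrimeRes.res_isNormalIn hS hw
  have hresD : (PPrimeRes.res p E).IsNormalIn D p := PPrimeRes.res_isNormalIn hU hE.1.1
  have hle : E.IsSubsystemOf (PPrimeRes.res p E) := hE.2.2 _ _ hresD fun W C hC =>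
    FusionGF.subsystem_of_subnormal (component_of_le hmeet hU hC hresD
      (Fusion.le_S (hE.2.1 W C hC W (subtype_mem le_rfl)))).1
  rwa [← eq_of_sub hle (PPrimeRes.res_le p E)] at hres

/-- A normal subsystem inside another normal subsystem is normal in it when it is its own residual. -/
theorem layer_isNormalIn_of_le (hS : IsPGroup p S) (hmeet : MeetHyp Ω p) {D : FusionSystem U}
    {E : FusionSystem T} (hE : E.IsLayerOf D p) (hEF : E.IsNormalIn F p) (hDF : D.IsNormalIn F p)
    {L : FusionSystem V} (hL : L.IsNormalIn F p) (hle : E.IsSubsystemOf L) : E.IsNormalIn L p := by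
  have hVS : V ≤ S := hL.1.2.2.2.1.1
  have := finite_of_le hVS
  have hUS : U ≤ S := hDF.1.2.2.2.1.1
  have := finite_of_le hUS
  have : Finite T := finite_of_le hE.1.1.2.2.2.1.1
  have hw := ResLimit.weaklyNormal_of_le (hS.to_le hVS) hEF.1 hL.1.1 hle hL.1.2.2.1
  have hresD : (PPrimeRes.res p E).IsNormalIn D p := PPrimeRes.res_isNormalIn (hS.to_le hUS) hE.1.1
  have hle' : E.IsSubsystemOf (PPrimeRes.res p E) := hE.2.2 _ _ hresD fun W C hC =>
    FusionGF.subsystem_of_subnormal (component_of_le hmeet (hS.to_le hUS) hC hresD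
      (Fusion.le_S (hE.2.1 W C hC W (subtype_mem le_rfl)))).1
  have h := PPrimeRes.res_isNormalIn (hS.to_le hVS) hw
  rwa [← eq_of_sub hle' (PPrimeRes.res_le p E)] at h

/-- The first factor is a subsystem of a central product. -/
theorem cp_left_le {T₁ T₂ W : Subgroup Ω} [Finite T₁] [Finite T₂] {E₁ : FusionSystem T₁} {E₂ : FusionSystem T₂}
    {D : FusionSystem W} (h : IsCentralProductOf E₁ E₂ D) (hc : T₁ ⊓ T₂ ≤ E₁.center) : E₁.IsSubsystemOf D := by
  refine fun P => hom_subset_iff_mapFn.mpr fun f hf => ?_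
  obtain ⟨g, hg, hgP, hgZ⟩ := mapFn_central (FusionExt.isCentral_center E₁) hf
  obtain ⟨k, hk, hke⟩ := FusionGF.cp_pair (P := P) h (B := T₁ ⊓ T₂) (f₂ := id)
    (hg.mono (sup_le_sup_left hc P)) (mapFn_id inf_le_right) le_sup_right le_rfl
    (fun x hx => ⟨x, Subgroup.mem_sup_left hx, 1, one_mem _, (mul_one x).symm⟩)
  refine hk.congr fun x hx => ?_
  have e := hke x (Subgroup.mem_sup_left hx) 1 (one_mem _) (by rwa [mul_one])
  rw [mul_one] at e
  rw [e, hgP x hx]
  exact mul_one _

/-- Every component is normal in every layer. -/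
theorem component_normal_layer (hp : Fact p.Prime) (hfin : Finite S) (hmeet : MeetHyp Ω p)
    (hprod : ProductHyp Ω p) (hlayer : LayerHyp Ω p) (hS : IsPGroup p S) {C : FusionSystem T}
    (hC : C.IsSubnormalIn F p) (hq : C.Quasisimple p) {L : FusionSystem V} (hL : L.IsLayerOf F p) :
    C.IsNormalIn L p := by
  induction hC generalizing V with
  | @refl F p =>
    have := hp
    have := hfin
    have hsub := hL.2.1 _ F ⟨.refl F p, hq⟩
    obtain rfl := le_antisymm hL.1.1.2.2.2.1.1 (Fusion.le_S (hsub _ (subtype_mem le_rfl)))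
    have hn := hL.1
    obtain rfl := eq_of_sub hn.1.2.2.1 hsub
    exact hn
  | @step U S C D F p hCD hD ih =>
    have := hp
    have := hfin
    have hUS : U ≤ S := hD.1.2.2.2.1.1
    have : Finite U := finite_of_le hUS
    have hU := hS.to_le hUS
    have hVS : V ≤ S := hL.1.1.2.2.2.1.1
    have : Finite V := finite_of_le hVS
    have hV := hS.to_le hVS
    obtain ⟨W, LD, hLD⟩ := hlayer U D ‹_› hU hD.1.1
    have hCLD := ih hp ‹Finite U› hmeet hprod hlayer hU hq hLD
    have hWU : W ≤ U := hLD.1.1.2.2.2.1.1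
    have hWS := hWU.trans hUS
    have : Finite W := finite_of_le hWS
    have hLDF := layer_isNormalIn hmeet hS hD hLD
    -- the layer of `D` lies in `L`
    have hle : LD.IsSubsystemOf L := by
      obtain ⟨M, hMF, hML, hMD⟩ := hmeet S F hfin hS hD.1.2.1 V U L D hL.1 hD
      refine fun P => (hLD.2.2 _ M hMD (fun X K hK => ?_) P).trans (hML.1.2.2.1 P)
      have hKF : K.IsComponentIn F p := ⟨.step hK.1 hD, hK.2⟩
      exact FusionGF.subsystem_of_subnormal (component_of_le hmeet hS hKF hMF
        (le_inf (Fusion.le_S (hL.2.1 X K hKF X (subtype_mem le_rfl)))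
          (FusionTransport.le_of_subnormal hK.1))).1
    have hLDL := layer_isNormalIn_of_le hS hmeet hLD hLDF hD hL.1 hle
    -- the centralizer of the layer of `D` inside `L`
    obtain ⟨G, hG, hGc⟩ := exists_centralizer_normal hS hLDF
    obtain ⟨M, hMF, hML, hMG⟩ := hmeet S F hfin hS hD.1.2.1 V (subsystemCentralizer F LD) L G hL.1 hG
    have hVC : V ⊓ subsystemCentralizer F LD ≤ centralizerIn S W := inf_le_right.trans subsystemCentralizer_le
    have hcomm : ⁅V ⊓ subsystemCentralizer F LD, W⁆ = ⊥ := by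
      rw [Subgroup.commutator_eq_bot_iff_le_centralizer]
      exact fun m hm w hw => (Fusion.mem_centralizerIn.mp (hVC hm)).2 w hw
    have hMs := finite_of_le (hVC.trans centralizerIn_le)
    have hc₁ : (V ⊓ subsystemCentralizer F LD) ⊓ W ≤ M.center :=
      FusionGF.inf_le_center hS (hVC.trans centralizerIn_le) hMF.1.1
        (fun P φ hφ => hGc P (hMG.1.2.2.1 P hφ))
    have hc₂ : (V ⊓ subsystemCentralizer F LD) ⊓ W ≤ LD.center :=
      (le_inf inf_le_right (inf_le_left.trans inf_le_right)).trans
        (FusionGF.inf_le_center hS hWS hLDF.1.1 (hom_subset_centralizerHom hS hLDF))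
    obtain ⟨P₁, hP₁, hcp₁⟩ := hprod V L ‹_› hV hL.1.1.1 _ _ M LD hML hLDL hcomm
    obtain ⟨P₂, hP₂, hcp₂⟩ := hprod S F hfin hS hD.1.2.1 _ _ M LD hMF hLDF hcomm
    have hcp := hcp₁ hc₁ hc₂
    have hP₁F : P₁.IsNormalIn F p := FusionGF.cp_normal hcp (hcp₂ hc₁ hc₂) hP₂
    have hLDP : LD.IsSubsystemOf P₁ := by
      refine FusionGF.cp_right_le hcp fun f Q hf => ?_
      obtain ⟨g, hg, hgQ, hgZ⟩ := mapFn_central (FusionExt.isCentral_center LD) hf
      exact ⟨g, hg.mono (sup_le_sup_left hc₂ Q), hgQ, fun z hz => hgZ z (hc₂ hz)⟩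
    -- every component lies in the product
    have hall : L.IsSubsystemOf P₁ := by
      refine hL.2.2 _ P₁ hP₁F fun X K hK => ?_
      have hXS := FusionTransport.le_of_subnormal hK.1
      rcases component_dichotomy hmeet hS hK hLDF with h | h
      · exact fun Q φ hφ => hLDP Q (FusionGF.subsystem_of_subnormal h.1 Q hφ)
      · have hX : X ≤ V ⊓ subsystemCentralizer F LD :=
          le_inf (Fusion.le_S (hL.2.1 X K hK X (subtype_mem le_rfl))) (h.le_subsystemCentralizer hS hXS hK.2 hLDF)
        exact fun Q φ hφ => cp_left_le hcp hc₁ Q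
          (FusionGF.subsystem_of_subnormal (component_of_le hmeet hS hK hMF hX).1 Q hφ)
    have hback := hP₁.1.2.2.1
    have hV' : (V ⊓ subsystemCentralizer F LD) ⊔ W = V :=
      le_antisymm (sup_le inf_le_left hLDL.1.2.2.2.1.1) (Fusion.le_S (hall V (subtype_mem le_rfl)))
    have := finite_of_le (sup_le inf_le_left hLDL.1.2.2.2.1.1 : (V ⊓ subsystemCentralizer F LD) ⊔ W ≤ V)
    have hCP := FusionGF.isNormalIn_of_factor hcp hP₁.1.1 hLDP hCLD
    clear hcp₁ hcp₂ hcp hLDP
    generalize hgen : (V ⊓ subsystemCentralizer F LD) ⊔ W = X at P₁ hP₁ hP₁F hall hback hCP hV'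
    subst hV'
    rwa [eq_of_sub hall hback]

/-- Every component is normal in every layer. -/
theorem component_isNormalIn_layer (hmeet : MeetHyp Ω p) (hprod : ProductHyp Ω p) (hlayer : LayerHyp Ω p)
    (hS : IsPGroup p S) {C : FusionSystem T} (hC : C.IsComponentIn F p) {L : FusionSystem V}
    (hL : L.IsLayerOf F p) : C.IsNormalIn L p :=
  component_normal_layer ‹_› ‹_› hmeet hprod hlayer hS hC.1 hC.2 hL

/-- Every component is normal in every generalized Fitting subsystem. -/
theorem component_isNormalIn_fitting (hmeet : MeetHyp Ω p) (hprod : ProductHyp Ω p) (hlayer : LayerHyp Ω p)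
    (hS : IsPGroup p S) (hF : F.IsSaturated p) {C : FusionSystem T} (hC : C.IsComponentIn F p)
    {D : FusionSystem U} (hD : D.IsGeneralizedFittingOf F p) : C.IsNormalIn D p :=
  FusionGF.generalizedFitting_component_normal hS hF (hprod S F ‹_› hS hF)
    (fun _ _ hE => component_isNormalIn_layer hmeet hprod hlayer hS hC hE) hD

end CfsgLib.FusionLayerNormal
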