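import Cfsg.Agent.Lib.Fusion.LocalQuotient
import Cfsg.Agent.Lib.Fusion.Ext
import Cfsg.Agent.Lib.Fusion.Stabilizer

/-!
# Control of fusion by local subsystems

The tools of the minimal counterexample argument: a system containing the automorphisms found in the
normalizers of subgroups with ever larger normalizers is everything; a system with a normal subgroup `Q` is
generated by `N_F(Q C_S(Q))` and `N_F^{Aut_S(Q)}(Q)`; in the latter case normal subgroups lift from `F/Q`.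
-/

namespace CfsgLib.Fusion

open Cfsg Cfsg.FusionSystem CfsgLib.FusionFactor

universe u v

variable {Ω : Type u} [Group Ω] {S M : Subgroup Ω} {F E : FusionSystem S} {p : ℕ} {P Q V : Subgroup Ω}

section Functor

/-- The subgroup a functor attaches to `M`, in the ambient group. -/
abbrev charSub (W : ∀ (Q : Type u) [Group Q], Subgroup Q) (M : Subgroup Ω) : Subgroup Ω :=
  (W ↥M).map M.subtype

variable {W : ∀ (Q : Type u) [Group Q], Subgroup Q}

theorem charSub_le (M : Subgroup Ω) : charSub W M ≤ M := Subgroup.map_subtype_le _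

theorem charSub_subgroupOf (M : Subgroup Ω) : (charSub W M).subgroupOf M = W ↥M :=
  Subgroup.comap_map_eq_self_of_injective M.subtype_injective _

theorem charSub_ne_bot (hW1 : ∀ (Q : Type u) [Group Q] [Finite Q], IsPGroup p Q → Nontrivial Q → W Q ≠ ⊥)
    [Finite M] (hM : IsPGroup p M) (h : M ≠ ⊥) : charSub W M ≠ ⊥ := fun e =>
  hW1 _ hM ((Subgroup.nontrivial_iff_ne_bot M).mpr h)
    ((Subgroup.map_eq_bot_iff_of_injective _ M.subtype_injective).mp e)

theorem charSub_map (hW2 : ∀ (Q R : Type u) [Group Q] [Group R] [Finite Q], IsPGroup p Q → ∀ φ : Q ≃* R,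
    (W Q).map φ.toMonoidHom = W R) [Finite M] (hM : IsPGroup p M) {G : Type u} [Group G] (f : M →* G)
    (hf : Function.Injective f) : ((charSub W M).subgroupOf M).map f = charSub W f.range := by
  rw [charSub_subgroupOf, charSub, ← hW2 _ _ hM (MonoidHom.ofInjective hf), Subgroup.map_map]
  rfl

theorem charSub_le_normalizer (hW2 : ∀ (Q R : Type u) [Group Q] [Group R] [Finite Q], IsPGroup p Q →
    ∀ φ : Q ≃* R, (W Q).map φ.toMonoidHom = W R) [Finite M] (hM : IsPGroup p M) :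
    Subgroup.normalizer (M : Set Ω) ≤ Subgroup.normalizer (charSub W M : Set Ω) := by
  intro g hg
  have : Finite (charSub W M) := finite_of_le (charSub_le M)
  refine mem_normalizer_of_forall fun x hx => ?_
  have hr : (conjHom M g).range = M := by
    ext y
    constructor
    · rintro ⟨a, rfl⟩; exact (Subgroup.mem_normalizer_iff.mp hg a).mp a.2
    · intro hy
      have hm : g⁻¹ * y * g ∈ M := (Subgroup.mem_normalizer_iff.mp hg _).mpr (by simpa [mul_assoc] using hy)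
      exact ⟨⟨_, hm⟩, show g * (g⁻¹ * y * g) * g⁻¹ = y by group⟩
  have h := charSub_map hW2 hM (conjHom M g) fun a b hab =>
    Subtype.ext (mul_left_cancel (mul_right_cancel hab))
  rw [hr] at h
  exact h.le ⟨⟨x, charSub_le M hx⟩, hx, rfl⟩

end Functor

section Size

/-- The number of maps of a fusion system. -/
noncomputable def sysSize (F : FusionSystem S) : ℕ :=
  Set.ncard {x : (P : Subgroup Ω) × (P →* Ω) | x.2 ∈ F.Hom x.1}

variable [Finite S]

theorem finite_maps (F : FusionSystem S) : {x : (P : Subgroup Ω) × (P →* Ω) | x.2 ∈ F.Hom x.1}.Finite := by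
  have h1 : {P : Subgroup Ω | P ≤ S}.Finite := CfsgLib.FusionExt.finite_setOf_le (· ≤ S) fun _ h => h
  have h2 : ∀ P ∈ {P : Subgroup Ω | P ≤ S}, (F.Hom P).Finite := fun P hP => by
    have := finite_of_le (show P ≤ S from hP)
    let f : F.Hom P → (P → S) := fun φ x => ⟨(φ : P →* Ω) x, apply_mem_S φ.2 x⟩
    have : Finite (F.Hom P) := Finite.of_injective f fun a b hab =>
      Subtype.ext (MonoidHom.ext fun x => congrArg Subtype.val (congrFun hab x))
    exact Set.toFinite _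
  refine ((h1.biUnion fun P hP => (h2 P hP).image fun φ => (⟨P, φ⟩ : (P : Subgroup Ω) × (P →* Ω)))).subset ?_
  rintro ⟨P, φ⟩ hφ
  exact Set.mem_biUnion (le_S hφ) ⟨φ, hφ, rfl⟩

theorem sysSize_lt_of_sub {G : FusionSystem M} (hsub : ∀ P φ, φ ∈ G.Hom P → φ ∈ F.Hom P)
    (h : ∃ P φ, φ ∈ F.Hom P ∧ φ ∉ G.Hom P) : sysSize G < sysSize F := by
  obtain ⟨P, φ, hφ, hn⟩ := h
  exact Set.ncard_lt_ncard ⟨fun x hx => hsub x.1 x.2 hx, fun hle => hn (hle (a := ⟨P, φ⟩) hφ)⟩ (finite_maps F)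

theorem sysSize_factor_lt {Ω' : Type v} [Group Ω'] {S' : Subgroup Ω'} {θ : S →* Ω'} {E' : FusionSystem S'}
    (hE : F.IsFactorSystem Q θ E') (hQ : Q ≠ ⊥) : sysSize E' < sysSize F := by
  classical
  obtain ⟨hQS, hk, hr, hH⟩ := hE
  subst hr
  let x₀ : (P : Subgroup Ω) × (P →* Ω) := ⟨⊥, (⊥ : Subgroup Ω).subtype⟩
  let f : (P' : Subgroup Ω') × (P' →* Ω') → (P : Subgroup Ω) × (P →* Ω) := fun x =>
    if h : x.2 ∈ E'.Hom x.1 then ⟨_, ((hH x.1 x.2).mp h).2.choose⟩ else x₀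
  have hf : ∀ x, x.2 ∈ E'.Hom x.1 → ∃ φ : preimageAlong θ x.1 →* Ω, φ ∈ F.Hom (preimageAlong θ x.1) ∧
      InducedAlong θ φ x.2 ∧ f x = ⟨preimageAlong θ x.1, φ⟩ := fun x h =>
    ⟨_, ((hH x.1 x.2).mp h).2.choose_spec.1, ((hH x.1 x.2).mp h).2.choose_spec.2, dif_pos h⟩
  have hne : ∀ x, x.2 ∈ E'.Hom x.1 → f x ≠ x₀ := by
    intro x hx e
    obtain ⟨φ, -, -, hfe⟩ := hf x hx
    rw [hfe] at e
    refine hQ (le_bot_iff.mp ?_)
    have : preimageAlong θ x.1 = ⊥ := congrArg Sigma.fst e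
    rw [← this]
    exact kernel_le_preimageAlong hk hQS _
  have hlt : ({x : (P : Subgroup Ω) × (P →* Ω) | x.2 ∈ F.Hom x.1} \ {x₀}).ncard < sysSize F :=
    Set.ncard_diff_singleton_lt_of_mem (subtype_mem bot_le) (finite_maps F)
  refine lt_of_le_of_lt (Set.ncard_le_ncard_of_injOn f ?_ ?_ ((finite_maps F).subset Set.diff_subset)) hlt
  · intro x hx
    obtain ⟨φ, hφ, -, hfe⟩ := hf x hx
    refine ⟨?_, hne x hx⟩
    show (f x).2 ∈ F.Hom (f x).1
    rw [hfe]; exact hφ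
  · rintro ⟨A, a⟩ ha ⟨B, b⟩ hb e
    obtain ⟨φ, -, hi, hfa⟩ := hf _ ha
    obtain ⟨φ', -, hi', hfb⟩ := hf _ hb
    rw [hfa, hfb] at e
    have hAB : A = B := by
      show A = B
      rw [← imageAlong_preimageAlong (θ := θ) (show A ≤ θ.range from le_S (F := E') ha),
        show preimageAlong θ A = preimageAlong θ B from congrArg Sigma.fst e,

        imageAlong_preimageAlong (θ := θ) (show B ≤ θ.range from le_S (F := E') hb)]
    subst hAB
    obtain rfl : φ = φ' := eq_of_heq (Sigma.mk.inj_iff.mp e).2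
    exact Sigma.ext rfl (heq_of_eq (induced_unique (le_S (F := E') ha) hi hi'))

end Size

section Local

variable [Finite S] [Fact p.Prime]

/-- A map on a group containing `V` that fixes `V` is a map of the normalizer of `V`. -/
theorem mem_normalizerHom {φ : P →* Ω} (hφ : φ ∈ F.Hom P) (hVP : V ≤ P) (hP : P ≤ normalizerIn S V)
    (hV : ∀ x : P, (x : Ω) ∈ V → φ x ∈ V) : φ ∈ F.normalizerHom V P := by
  have hVS : V ≤ S := hVP.trans (le_S hφ)
  have := finite_of_le hVS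
  have hr : (φ.comp (Subgroup.inclusion hVP)).range = V :=
    range_eq_of_card_le (restrict_mem hVP hφ) hVS (fun q => hV _ q.2) le_rfl
  obtain ⟨κ, -, hκ⟩ := exists_aut (restrict_mem hVP hφ) hr
  refine ⟨hφ, hP, fun x => ⟨apply_mem_S hφ x, mem_normalizer_of_forall fun y hy => ?_⟩, _,
    restrict_mem (sup_le le_rfl hVP) hφ, fun _ => rfl,
    (map_eq_iff_exists_aut (restrict_mem (sup_le le_rfl hVP) hφ)).mpr ⟨κ, fun q => (hκ q).symm⟩⟩
  obtain ⟨q, hq⟩ := hr.ge hy
  have hm : (x : Ω) * q * (x : Ω)⁻¹ ∈ V := (Subgroup.mem_normalizer_iff.mp (hP x.2).2 _).mp q.2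
  have := hV ⟨_, hVP hm⟩ hm
  rw [show (⟨(x : Ω) * q * (x : Ω)⁻¹, hVP hm⟩ : P) = x * Subgroup.inclusion hVP q * x⁻¹ from rfl,
    map_mul, map_mul, map_inv] at this
  rwa [show φ (Subgroup.inclusion hVP q) = y from hq] at this

/-- The maps of `F` that lie in `E` or start at a subgroup of order less than `m`. -/
def truncSystem (F E : FusionSystem S) (m : ℕ) : FusionSystem S where
  Hom P := {φ | φ ∈ F.Hom P ∧ (Nat.card P < m ∨ φ ∈ E.Hom P)}
  le_of_mem h := F.le_of_mem h.1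
  injective_of_mem h := F.injective_of_mem h.1
  conj_mem hP hg := ⟨F.conj_mem hP hg, Or.inr (E.conj_mem hP hg)⟩
  comp_mem := by
    rintro P R φ ψ ⟨hφ, hφ'⟩ ⟨hψ, hψ'⟩ h
    refine ⟨F.comp_mem hφ hψ h, ?_⟩
    rcases hφ' with h1 | h1
    · exact Or.inl h1
    by_cases hlt : Nat.card P < m
    · exact Or.inl hlt
    rcases hψ' with h2 | h2
    · have := finite_of_le (le_S hψ)
      have : Nat.card P ≤ Nat.card R :=
        Nat.card_le_card_of_injective (φ.codRestrict R h) fun a b e =>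
          F.injective_of_mem hφ (congrArg Subtype.val e)
      omega
    · exact Or.inr (E.comp_mem h1 h2 h)
  inv_mem := by
    rintro P φ ⟨hφ, hφ'⟩
    obtain ⟨ψ, hψ, hψe⟩ := F.inv_mem hφ
    refine ⟨ψ, ⟨hψ, ?_⟩, hψe⟩
    rcases hφ' with h1 | h1
    · left
      rwa [← Nat.card_congr (MonoidHom.ofInjective (F.injective_of_mem hφ)).toEquiv]
    · right
      obtain ⟨ψ', hψ', hψ'e⟩ := E.inv_mem h1
      obtain rfl : ψ = ψ' := MonoidHom.ext fun ⟨y, x, hx⟩ => by
        subst hx; exact (hψe x).trans (hψ'e x).symm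
      exact hψ'

/-- If for every nontrivial fully normalized `U` the maps of `N_F(U)` lie in `E` as soon as those of all
`N_F(V)` with larger `N_S(V)` do, then `F ≤ E`. -/
theorem le_of_local (hS : IsPGroup p S) (hF : F.IsSaturated p) (hS1 : S ≠ ⊥) (E : FusionSystem S)
    (hloc : ∀ U : Subgroup Ω, U ≠ ⊥ → F.IsFullyNormalized U →
      (∀ V : Subgroup Ω, V ≠ ⊥ → V ≤ S → Nat.card (normalizerIn S U) < Nat.card (normalizerIn S V) →
        ∀ P φ, φ ∈ F.normalizerHom V P → φ ∈ E.Hom P) →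
      ∀ P φ, φ ∈ F.normalizerHom U P → φ ∈ E.Hom P) : F ≤ E := by
  suffices H : ∀ n k, Nat.card S < k + n →
      ((∀ V, V ≠ ⊥ → V ≤ S → k ≤ Nat.card (normalizerIn S V) → ∀ P φ, φ ∈ F.normalizerHom V P → φ ∈ E.Hom P) ∧
        ∀ P φ, φ ∈ F.Hom P → k ≤ Nat.card P → φ ∈ E.Hom P) from
    fun P φ hφ => (H (Nat.card S + 1) 0 (by omega)).2 P φ hφ (Nat.zero_le _)
  intro n
  induction n with
  | zero =>
    intro k hk
    exact ⟨fun V _ _ h => absurd ((Subgroup.card_le_of_le normalizerIn_le).trans_lt (by omega)) (not_lt.mpr h),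
      fun P φ hφ h => absurd ((Subgroup.card_le_of_le (le_S hφ)).trans_lt (by omega)) (not_lt.mpr h)⟩
  | succ n ih =>
    intro k hk
    obtain ⟨ihB, ihA⟩ := ih (k + 1) (by omega)
    have hfn : ∀ U, U ≠ ⊥ → F.IsFullyNormalized U → k ≤ Nat.card (normalizerIn S U) →
        ∀ P φ, φ ∈ F.normalizerHom U P → φ ∈ E.Hom P := fun U hU hUn hk' =>
      hloc U hU hUn fun V hV hVS hlt => ihB V hV hVS (by omega)
    have hA : ∀ P φ, φ ∈ F.Hom P → k ≤ Nat.card P → φ ∈ E.Hom P := by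
      intro P φ hφ hkP
      have h : F ≤ truncSystem F E k := by
        refine alperin hS hF _ fun R hR => ?_
        have hRn : F.IsFullyNormalized R := by
          rcases hR with rfl | hR
          · have := finite_of_le (normalizerIn_le (S := R) (P := R))
            exact ⟨le_rfl, fun _ _ => Subgroup.card_le_of_le (normalizerIn_le.trans_eq
              (inf_eq_left.mpr Subgroup.le_normalizer).symm)⟩
          · exact hR.2.1
        intro a ha
        rw [mem_autGroup hRn.1]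
        have hm := (mem_autGroup hRn.1).mp ha
        refine ⟨hm, ?_⟩
        rcases lt_or_ge (Nat.card R) k with h' | h'
        · exact Or.inl h'
        · refine Or.inr (hfn R ?_ hRn (h'.trans ?_) R _
            (mem_normalizerHom hm le_rfl (le_normalizerIn hRn.1) fun _ _ => Subtype.prop _))
          · rcases hR with rfl | hR
            · exact hS1
            · intro e
              subst e
              have : centralizerIn S (⊥ : Subgroup Ω) ≤ ⊥ := IsCentric.centralizerIn_le' hR.1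
              exact hS1 (le_bot_iff.mp fun s hs => this (mem_centralizerIn.mpr ⟨hs, fun q hq => by
                rw [Subgroup.mem_bot.mp hq, one_mul, mul_one]⟩))
          · have := finite_of_le (normalizerIn_le (S := S) (P := R))
            exact Subgroup.card_le_of_le (le_normalizerIn hRn.1)
      rcases (h P hφ).2 with h' | h'
      · omega
      · exact h'
    refine ⟨fun V hV hVS hkV P φ hφ => ?_, hA⟩
    obtain ⟨V', hV', hV'n⟩ := exists_fullyNormalized (F := F) hVS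
    obtain ⟨ha, hr⟩ := fullyNormalized_good hS hF hV'n
    obtain ⟨θ, hθ, hθT, hθV⟩ := exists_normalizer_hom hS ha hr hV'
    obtain ⟨hφF, hP, hφT, ψ, hψ, hψe, hψV⟩ := hφ
    have hle : P ⊔ V ≤ normalizerIn S V := sup_le hP (le_normalizerIn hVS)
    have hψT : ∀ x, ψ x ∈ normalizerIn S V := sup_le_map_comap
      (fun a ha => by rw [show ψ ⟨a, _⟩ = φ ⟨a, ha⟩ from hψe ⟨a, ha⟩]; exact hφT _)
      (fun b hb => le_normalizerIn hVS (hψV.le ⟨_, hb, rfl⟩))
    have hθV' : ∀ x : normalizerIn S V, (x : Ω) ∈ V → θ x ∈ V' := fun x hx => hθV.le ⟨x, hx, rfl⟩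
    have hV'ne : V' ≠ ⊥ := fun e => hV (le_bot_iff.mp fun v hv => Subgroup.mem_bot.mpr (by
      have h1 := hθV' ⟨v, le_normalizerIn hVS hv⟩ hv
      rw [e, Subgroup.mem_bot, ← map_one θ] at h1
      exact congrArg Subtype.val (F.injective_of_mem hθ h1)))
    have hcard : Nat.card (normalizerIn S V) ≤ Nat.card (normalizerIn S V') := by
      have := finite_of_le (normalizerIn_le (S := S) (P := V'))
      exact Nat.card_le_card_of_injective (θ.codRestrict _ hθT) fun a b e =>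
        F.injective_of_mem hθ (congrArg Subtype.val e)
    have hθE : θ ∈ E.Hom (normalizerIn S V) := hA _ _ hθ hkV
    have hθ₀ := restrict_mem hle hθ
    have hθ₀E := restrict_mem hle hθE
    obtain ⟨θ', hθ', hθ'r, hθ'1, hθ'2⟩ := exists_inv hθ₀ rfl
    obtain ⟨χ₁, hχ₁, hχ₁e⟩ := exists_comp hθ' hψ fun y => hθ'r.le ⟨y, rfl⟩
    obtain ⟨χ, hχ, hχe⟩ := exists_comp hχ₁ hθ fun y => by rw [hχ₁e]; exact hψT _
    have hV'le : V' ≤ (θ.comp (Subgroup.inclusion hle)).range := by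
      rw [← hθV]
      rintro _ ⟨x, hx, rfl⟩
      exact ⟨⟨x, Subgroup.mem_sup_right hx⟩, rfl⟩
    have hχV : ∀ y : (θ.comp (Subgroup.inclusion hle)).range, (y : Ω) ∈ V' → χ y ∈ V' := by
      intro y hy
      rw [← hθV] at hy
      obtain ⟨x, hx, hxy⟩ := hy
      have e : θ' y = (x : Ω) := by
        rw [apply_eq_of_coe_eq (φ := θ') (x := y) (y := ⟨θ x, ⟨⟨x, Subgroup.mem_sup_right hx⟩, rfl⟩⟩) hxy.symm]
        exact hθ'1 ⟨x, Subgroup.mem_sup_right hx⟩ _
      rw [hχe]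
      refine hθV' _ ?_
      show χ₁ y ∈ V
      rw [hχ₁e]
      refine hψV.le ⟨⟨(x : Ω), Subgroup.mem_sup_right hx⟩, hx, apply_eq_of_coe_eq (φ := ψ) ?_⟩
      exact e.symm
    have hχE : χ ∈ E.Hom _ := hfn V' hV'ne hV'n (hkV.trans hcard) _ _
      (mem_normalizerHom hχ hV'le (by rintro _ ⟨x, rfl⟩; exact hθT _) hχV)
    -- `ψ = θ⁻¹ χ θ`
    obtain ⟨η₁, hη₁, hη₁e⟩ := exists_comp hθ₀E hχE fun x => ⟨x, rfl⟩
    obtain ⟨θE', hθE', -, hθE'1, -⟩ := exists_inv hθE rfl
    obtain ⟨η, hη, hηe⟩ := exists_comp hη₁ hθE' fun x => by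
      rw [hη₁e, hχe]; exact ⟨_, rfl⟩
    have key : ψ = η := MonoidHom.ext fun x => by
      rw [hηe]
      refine ((apply_eq_of_coe_eq (φ := θE') ?_).trans (hθE'1 ⟨ψ x, hψT x⟩ ⟨_, rfl⟩)).symm
      show η₁ x = θ ⟨ψ x, hψT x⟩
      rw [hη₁e, hχe]
      refine apply_eq_of_coe_eq ?_
      show χ₁ _ = ψ x
      rw [hχ₁e]
      exact apply_eq_of_coe_eq (hθ'1 x _)
    rw [show φ = η.comp (Subgroup.inclusion le_sup_left) from MonoidHom.ext fun x => by rw [← key]; exact (hψe x).symm]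
    exact restrict_mem le_sup_left hη

/-- For `Q` normal in `F`, the subgroup `Q C_S(Q)` is centric and fully normalized, and normal in `S`. -/
theorem normal_mul_centralizer (hQ : F.IsNormal Q) :
    F.IsCentric (Q ⊔ centralizerIn S Q) ∧ F.IsFullyNormalized (Q ⊔ centralizerIn S Q) ∧
      normalizerIn S (Q ⊔ centralizerIn S Q) = S ∧
      ∀ (P : Subgroup Ω) (φ : P →* Ω), φ ∈ F.Hom P → ∀ x : P, (x : Ω) ∈ Q ⊔ centralizerIn S Q →
        Q ⊔ centralizerIn S Q ≤ P → φ x ∈ Q ⊔ centralizerIn S Q := by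
  set T := Q ⊔ centralizerIn S Q with hT
  have hTS : T ≤ S := sup_le hQ.1 centralizerIn_le
  have := finite_of_le hTS
  have hA := IsNormal.stronglyClosed hQ
  have himg : ∀ (P : Subgroup Ω) (φ : P →* Ω), φ ∈ F.Hom P → ∀ x : P, (x : Ω) ∈ T → T ≤ P → φ x ∈ T := by
    intro P φ hφ x hx hTP
    have hQP : Q ≤ P := le_sup_left.trans hTP
    obtain ⟨φQ, hφQ, -, hφQe⟩ := exists_restrict hφ hQP rfl
    have hr : φQ.range = Q := range_eq_of_card_le hφQ hQ.1 (fun q => hA.2 Q le_rfl _ hφQ q) le_rfl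
    have h : T ≤ ((T.comap φ).map P.subtype) := sup_le
      (fun q hq => ⟨⟨q, hQP hq⟩, Subgroup.mem_sup_left
        (StronglyClosed.apply_mem hA hφ ⟨q, hQP hq⟩ hq), rfl⟩)
      (fun c hc => ⟨⟨c, hTP (Subgroup.mem_sup_right hc)⟩, Subgroup.mem_sup_right (mem_centralizerIn.mpr
        ⟨apply_mem_S hφ _, fun q hq => by
          obtain ⟨q', rfl⟩ := hr.ge hq
          rw [hφQe, ← map_mul, ← map_mul]
          exact congrArg φ (Subtype.ext ((mem_centralizerIn.mp hc).2 _ q'.2))⟩), rfl⟩)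
    obtain ⟨y, hy, hyx⟩ := h hx
    rw [show x = y from Subtype.ext hyx.symm]
    exact hy
  have hnorm : normalizerIn S T = S := le_antisymm normalizerIn_le fun g hg =>
    ⟨hg, mem_normalizer_of_forall fun x hx =>
      himg T _ (F.conj_mem hTS hg) ⟨x, hx⟩ hx le_rfl⟩
  refine ⟨⟨hTS, fun P hP => ?_⟩, ⟨hTS, fun P _ => ?_⟩, hnorm, himg⟩
  · obtain ⟨φ, hφ, rfl⟩ := hP
    have hr : φ.range = T := range_eq_of_card_le hφ hTS (fun q => himg T φ hφ q q.2 le_rfl) le_rfl
    rw [hr]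
    exact (inf_le_inf_left S (Subgroup.centralizer_le (SetLike.coe_subset_coe.mpr le_sup_left))).trans le_sup_right
  · rw [hnorm]; exact Subgroup.card_le_of_le normalizerIn_le

theorem le_normalizer_of_isNormal (hQ : F.IsNormal Q) : S ≤ Subgroup.normalizer (Q : Set Ω) :=
  StronglyClosed.le_normalizer (IsNormal.stronglyClosed hQ)

omit [Finite S] [Fact p.Prime] in
theorem isKNormalizer_autInducedBy (hQ : S ≤ Subgroup.normalizer (Q : Set Ω)) :
    IsKNormalizer S Q (autInducedBy S Q) S := fun g => by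
  refine ⟨fun hg => ?_, fun h => h.1⟩
  obtain ⟨a, ha, hae⟩ := exists_autInducedBy (K := S) (P := Q) hg (hQ hg)
  exact ⟨hg, a, ha, hae⟩

/-- `N_F^{Aut_S(Q)}(Q)` is saturated. -/
theorem innerExt_saturated (hS : IsPGroup p S) (hF : F.IsSaturated p) (hQ : F.IsNormal Q) :
    ∃ hr : F.IsReceptive Q, (extSystem F hr.1 (autInducedBy S Q) S
      (isKNormalizer_autInducedBy (le_normalizer_of_isNormal hQ))).IsSaturated p := by
  have hQn : F.IsFullyNormalized Q := ⟨hQ.1, fun P _ => by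
    rw [show normalizerIn S Q = S from inf_eq_left.mpr (le_normalizer_of_isNormal hQ)]
    exact Subgroup.card_le_of_le normalizerIn_le⟩
  obtain ⟨-, hr⟩ := fullyNormalized_good hS hF hQn
  refine ⟨hr, extSystem_saturated hS hF hr ?_ _⟩
  rw [inf_idem, inf_eq_left.mpr (autInducedBy_le_autGroup hQ.1)]
  have := finite_mulAut hQ.1
  obtain ⟨k, hk⟩ := IsPGroup.iff_card.mp (isPGroup_autInducedBy hS Q)
  rw [hk, Nat.factorization_pow, Nat.Prime.factorization (Fact.out : p.Prime)]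
  simp

/-- `F` is generated by `N_F(Q C_S(Q))` and `N_F^{Aut_S(Q)}(Q)`. -/
theorem le_of_normal_split (hS : IsPGroup p S) (hF : F.IsSaturated p) (hQ : F.IsNormal Q) (E : FusionSystem S)
    (hT : ∀ P φ, φ ∈ F.normalizerHom (Q ⊔ centralizerIn S Q) P → φ ∈ E.Hom P)
    (h1 : ∀ P φ, φ ∈ extHom F Q (autInducedBy S Q) S P → φ ∈ E.Hom P) : F ≤ E := by
  intro P φ hφ
  obtain ⟨hTc, hTn, hTN, himg⟩ := normal_mul_centralizer hQ
  set T := Q ⊔ centralizerIn S Q with hTdef
  have hPS := le_S hφ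
  have hQS := hQ.1
  have hTS : T ≤ S := hTn.1
  have hQT : Q ≤ T := le_sup_left
  have := finite_of_le hQS
  have hA := IsNormal.stronglyClosed hQ
  obtain ⟨ψ, hψ, hψe, hψQ⟩ := IsNormal.exists_ext hQ hφ
  have hψ₀ := restrict_mem (le_sup_right : Q ≤ P ⊔ Q) hψ
  have hr : (ψ.comp (Subgroup.inclusion (le_sup_right : Q ≤ P ⊔ Q))).range = Q :=
    range_eq_of_card_le hψ₀ hQS (fun q => hψQ _ q.2) le_rfl
  obtain ⟨hr', -⟩ := innerExt_saturated hS hF hQ
  have hext : P ⊔ T ≤ extender S Q (ψ.comp (Subgroup.inclusion (le_sup_right : Q ≤ P ⊔ Q))) := by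
    refine sup_le (fun x hx => mem_extender.mpr ⟨hPS hx, le_normalizer_of_isNormal hQ (hPS hx),
      ψ ⟨x, Subgroup.mem_sup_left hx⟩, apply_mem_S hψ _, fun q hq => ?_⟩)
      (sup_le (le_extender hQS (apply_mem_S hψ₀)) centralizerIn_le_extender)
    show ψ ⟨x * (q : Ω) * x⁻¹, _⟩ = _ * ψ ⟨q, _⟩ * _
    rw [← map_inv, ← map_mul, ← map_mul]
    exact apply_eq_of_coe_eq rfl
  obtain ⟨χ, hχ, hχe⟩ := exists_extension hr' hψ₀ hr (hQT.trans le_sup_right : Q ≤ P ⊔ T) hext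
  have hPT : P ⊔ T ≤ S := sup_le hPS hTS
  have hχN : χ ∈ F.normalizerHom T (P ⊔ T) :=
    mem_normalizerHom hχ le_sup_right (hTN.symm ▸ hPT) fun x hx => himg _ χ hχ x hx le_sup_right
  have hχE := hT _ _ hχN
  have hle : P ⊔ Q ≤ P ⊔ T := sup_le_sup_left hQT P
  have hχ₀ := restrict_mem hle hχ
  have hχ₀E := restrict_mem hle hχE
  obtain ⟨χ', hχ', hχ'r, hχ'1, -⟩ := exists_inv hχ₀ rfl
  obtain ⟨ρ, hρ, hρe⟩ := exists_comp hχ' hψ fun y => hχ'r.le ⟨y, rfl⟩
  have hQle : Q ≤ (χ.comp (Subgroup.inclusion hle)).range := fun q hq => by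
    obtain ⟨q', hq'⟩ := hr.ge hq
    exact ⟨Subgroup.inclusion le_sup_right q', (hχe q').trans hq'⟩
  have hρQ : ∀ q : Q, ρ ⟨q, hQle q.2⟩ = q := fun q => by
    obtain ⟨q', hq'⟩ := hr.ge q.2
    rw [hρe]
    refine Eq.trans (apply_eq_of_coe_eq ?_) hq'
    refine Eq.trans (apply_eq_of_coe_eq ?_) (hχ'1 (Subgroup.inclusion le_sup_right q') ⟨_, rfl⟩)
    exact hq'.symm.trans (hχe q').symm
  have hρE : ρ ∈ E.Hom _ := h1 _ _ ⟨hρ, le_trans (fun y ⟨x, hx⟩ => hx ▸ apply_mem_S hχ₀ x) le_rfl,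
    apply_mem_S hρ, _, restrict_mem (sup_le le_rfl hQle) hρ, fun _ => rfl, 1, one_mem _, fun q => hρQ q⟩
  obtain ⟨η, hη, hηe⟩ := exists_comp hχ₀E hρE fun x => ⟨x, rfl⟩
  rw [show φ = η.comp (Subgroup.inclusion le_sup_left) from MonoidHom.ext fun x => by
    refine ((hηe _).trans ((hρe _).trans ?_)).symm
    refine Eq.trans (apply_eq_of_coe_eq ?_) (hψe x)
    exact hχ'1 ⟨x, Subgroup.mem_sup_left x.2⟩ _]
  exact restrict_mem le_sup_left hη

/-- An automorphism congruent modulo `Q` to conjugation by an element of `S` has `p`-power order when all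
maps act on `Q` as elements of `S`. -/
theorem exists_pow_eq_one_of_mod (hS : IsPGroup p S)
    {Ω' : Type v} [Group Ω'] {θ : S →* Ω'} (hk : ∀ s : S, θ s = 1 ↔ (s : Ω) ∈ Q)
    (h1 : ∀ P φ, φ ∈ F.Hom P → φ ∈ extHom F Q (autInducedBy S Q) S P) {R : Subgroup Ω} (hRS : R ≤ S)
    (hQR : Q ≤ R) {a : MulAut R} (ha : a ∈ F.autGroup R) (v : S)
    (hav : ∀ x : R, θ ⟨(a x : R), hRS (a x).2⟩ = θ v * θ ⟨x, hRS x.2⟩ * (θ v)⁻¹) :
    ∃ k, a ^ p ^ k = 1 := by
  have := finite_of_le hRS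
  have := finite_mulAut hRS
  obtain ⟨m, hm⟩ := hS v
  set α := a ^ p ^ m with hα
  have hpow : ∀ (j : ℕ) (x : R), θ ⟨((a ^ j) x : R), hRS ((a ^ j) x).2⟩ =
      θ v ^ j * θ ⟨x, hRS x.2⟩ * (θ v ^ j)⁻¹ := by
    intro j
    induction j with
    | zero => intro x; simp
    | succ j ih =>
      intro x
      rw [pow_succ', pow_succ', MulAut.mul_apply, hav, ih]
      group
  have hαm : α ∈ F.autGroup R := pow_mem ha _
  obtain ⟨-, -, -, ψ, hψ, hψe, κ, hκ, hκe⟩ := h1 R _ ((mem_autGroup hRS).mp hαm)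
  obtain ⟨l, hl⟩ := (isPGroup_autInducedBy hS Q) ⟨κ, hκ⟩
  have hl' : κ ^ p ^ l = 1 := congrArg Subtype.val hl
  have hαQ : ∀ (q : Q), ((α ⟨q, hQR q.2⟩ : R) : Ω) = ((κ q : Q) : Ω) := fun q => by
    refine Eq.trans ?_ (hκe q)
    exact ((apply_eq_of_coe_eq rfl).trans (hψe ⟨q, hQR q.2⟩)).symm
  obtain ⟨k, hk'⟩ := exists_pow_eq_one_of_stabilizes (hS.to_le hRS) (n := 1)
    (fun i => if i = 0 then Q.subgroupOf R else ⊤) (α := α) (fun i hi => by simp) (by simp)
    ⟨l, fun x hx => by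
      have hx : (x : Ω) ∈ Q := by simpa [Subgroup.mem_subgroupOf] using hx
      have key : ∀ (j : ℕ) (q : Q), (((α ^ j) ⟨q, hQR q.2⟩ : R) : Ω) = (((κ ^ j) q : Q) : Ω) := by
        intro j
        induction j with
        | zero => intro q; simp
        | succ j ih =>
          intro q
          rw [pow_succ', pow_succ', MulAut.mul_apply, MulAut.mul_apply, ← hαQ]
          exact congrArg (fun z => ((α z : R) : Ω)) (Subtype.ext (ih q))
      refine Subtype.ext ?_
      have h := key (p ^ l) ⟨x, hx⟩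
      rw [hl'] at h
      exact h⟩
    (fun i hi x _ => by
      obtain rfl : i = 0 := by omega
      simp only [↓reduceIte, Subgroup.mem_subgroupOf]
      have h := hpow (p ^ m) x
      rw [← map_pow, hm, map_one, one_mul, inv_one, mul_one] at h
      exact (hk _).mp (show θ (⟨x, hRS x.2⟩⁻¹ * ⟨(α x : R), hRS (α x).2⟩) = 1 by
        rw [map_mul, map_inv, h, inv_mul_cancel]))
  exact ⟨m + k, by rw [pow_add, pow_mul]; exact hk'⟩

/-- If all maps act on the normal subgroup `Q` as elements of `S`, normal subgroups lift from `F/Q`. -/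
theorem isNormal_preimage (hS : IsPGroup p S) (hF : F.IsSaturated p) (hQ : F.IsNormal Q)
    (h1 : ∀ P φ, φ ∈ F.Hom P → φ ∈ extHom F Q (autInducedBy S Q) S P)
    {Ω' : Type v} [Group Ω'] {S' : Subgroup Ω'} {θ : S →* Ω'} {E' : FusionSystem S'}
    (hE : F.IsFactorSystem Q θ E') {W' : Subgroup Ω'} (hW : E'.IsNormal W') :
    F.IsNormal (preimageAlong θ W') := by
  obtain ⟨hQS, hk, hr, hH⟩ := id hE
  subst hr
  have hA := IsNormal.stronglyClosed hQ
  have hW' := IsNormal.stronglyClosed hW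
  set V := preimageAlong θ W' with hV
  have hVS : V ≤ S := preimageAlong_le _
  have hQV : Q ≤ V := kernel_le_preimageAlong hk hQS _
  have hVsc : F.StronglyClosed V := by
    refine ⟨hVS, fun R hR φ hφ x => ?_⟩
    obtain ⟨φ', hφ', hP, hφS, hm, e⟩ := exists_map_induced hS hF hA hE hφ
    refine mem_preimageAlong.mpr ⟨hφS x, ?_⟩
    rw [← e x]
    exact StronglyClosed.apply_mem hW' hφ' _ (map_mem_of_mem_preimageAlong (hR x.2) _)
  refine (isNormal_iff_stronglyClosed_le hS hF).mpr ⟨hVsc, fun R hc hrad => ?_⟩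
  have hQR : Q ≤ R := IsNormal.le_centric_radical hS hQ hc hrad
  have hRS := hc.1
  have := finite_of_le hRS
  have := finite_of_le hVS
  have := finite_mulAut hRS
  have hVn := StronglyClosed.le_normalizer hVsc
  have hθR : ∀ x : R, θ ⟨x, hRS x.2⟩ ∈ imageAlong θ R := fun x => ⟨⟨x, hRS x.2⟩, x.2, rfl⟩
  let A : Subgroup (MulAut R) :=
    { carrier := {a | a ∈ F.autGroup R ∧ ∃ v : S, (v : Ω) ∈ V ∧
        ∀ x : R, θ ⟨(a x : R), hRS (a x).2⟩ = θ v * θ ⟨x, hRS x.2⟩ * (θ v)⁻¹}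
      one_mem' := ⟨one_mem _, 1, V.one_mem, fun x => by simp⟩
      mul_mem' := by
        rintro a b ⟨ha, v, hv, hav⟩ ⟨hb, w, hw, hbw⟩
        refine ⟨mul_mem ha hb, v * w, V.mul_mem hv hw, fun x => ?_⟩
        rw [MulAut.mul_apply, hav (b x), hbw x, map_mul]
        group
      inv_mem' := by
        rintro a ⟨ha, v, hv, hav⟩
        refine ⟨inv_mem ha, v⁻¹, V.inv_mem hv, fun x => ?_⟩
        have h := hav (a⁻¹ x)
        rw [MulAut.apply_inv_self] at h
        rw [h, map_inv]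
        group }
  refine le_of_centric_radical hS hc hrad hVS hVn (A := A) (fun a ha => ha.1) ?_ ?_ ?_
  · rintro ⟨a, ha, v, hv, hav⟩
    obtain ⟨k, hk'⟩ := exists_pow_eq_one_of_mod hS hk h1 hRS hQR ha v hav
    exact ⟨k, Subtype.ext hk'⟩
  · rintro a ⟨ha, v, hv, hav⟩ b hb
    refine ⟨mul_mem (mul_mem hb ha) (inv_mem hb), ?_⟩
    obtain ⟨b', hb', hP, hbS, hm, e⟩ := exists_map_induced hS hF hA hE ((mem_autGroup hRS).mp hb)
    obtain ⟨ψ, hψ, hψe, hψW⟩ := IsNormal.exists_ext hW hb'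
    obtain ⟨v', hv'S, hv'V, hv'e⟩ := exists_preimage hW.1
      ⟨_, hψW (θ v) (map_mem_of_mem_preimageAlong hv v.2)⟩
    refine ⟨⟨v', hv'S⟩, hv'V, fun x => ?_⟩
    set y := b⁻¹ x
    have hbe : ∀ z : R, ψ ⟨θ ⟨z, hRS z.2⟩, Subgroup.mem_sup_left (hθR z)⟩ = θ ⟨(b z : R), hRS (b z).2⟩ :=
      fun z => (hψe ⟨_, hθR z⟩).trans (e z)
    have hxy : (⟨x, hRS x.2⟩ : S) = ⟨(b y : R), hRS (b y).2⟩ := by
      simp [y]
    show θ ⟨(b (a y) : R), _⟩ = θ ⟨v', hv'S⟩ * θ ⟨x, _⟩ * (θ ⟨v', hv'S⟩)⁻¹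
    rw [← hbe (a y), hxy, ← hbe y, show θ ⟨v', hv'S⟩ = _ from hv'e, ← map_inv, ← map_mul, ← map_mul]
    exact apply_eq_of_coe_eq (hav y)
  · intro v hv a ha
    refine ⟨autInducedBy_le_autGroup hRS (mem_autInducedBy.mpr ⟨v, hVS hv, ha⟩), ⟨v, hVS hv⟩, hv, fun x => ?_⟩
    rw [← map_inv, ← map_mul, ← map_mul]
    exact congrArg θ (Subtype.ext (ha x))

end Local

end CfsgLib.Fusion
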