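import Mathlib.GroupTheory.GroupAction.Quotient
import Mathlib.GroupTheory.Index
import Mathlib.Data.Int.GCD
import Mathlib.Data.Set.Finite.Lemmas

/-!
# Numbers of fixed points of subgroups ("marks")

Marks of finite `G`-sets determine them up to isomorphism, and satisfy the Burnside congruences.
-/

namespace CfsgLib.Fusion.Marks

open MulAction Pointwise

variable {G : Type*} [Group G]

/-- The points fixed by every element of `K`. -/
def fixSet (K : Subgroup G) (X : Type*) [MulAction G X] : Set X := {x | ∀ k ∈ K, k • x = x}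

/-- The number of points fixed by `K`. -/
noncomputable def mark (K : Subgroup G) (X : Type*) [MulAction G X] : ℕ := Nat.card (fixSet K X)

theorem mem_fixSet {K : Subgroup G} {X : Type*} [MulAction G X] {x : X} :
    x ∈ fixSet K X ↔ ∀ k ∈ K, k • x = x := Iff.rfl

theorem mem_fixSet_iff_le {K : Subgroup G} {X : Type*} [MulAction G X] {x : X} :
    x ∈ fixSet K X ↔ K ≤ stabilizer G x := Iff.rfl

theorem mark_map_conj (K : Subgroup G) (X : Type*) [MulAction G X] (g : G) :
    mark (K.map (MulAut.conj g).toMonoidHom) X = mark K X := by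
  refine (Nat.card_congr ?_).symm
  refine (MulAction.toPerm g).subtypeEquiv fun x => ?_
  constructor
  · rintro hx _ ⟨k, hk, rfl⟩
    show (g * k * g⁻¹) • g • x = g • x
    rw [mul_smul, mul_smul, inv_smul_smul, hx k hk]
  · intro hx k hk
    have := hx _ ⟨k, hk, rfl⟩
    change (g * k * g⁻¹) • g • x = g • x at this
    rw [mul_smul, mul_smul, inv_smul_smul] at this
    exact MulAction.injective g this

theorem mk_mem_fixSet {K H : Subgroup G} {g : G} :
    (g : G ⧸ H) ∈ fixSet K (G ⧸ H) ↔ ∀ k ∈ K, g⁻¹ * k * g ∈ H := by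
  refine forall_congr' fun k => imp_congr_right fun _ => ?_
  change ((k * g : G) : G ⧸ H) = g ↔ _
  rw [QuotientGroup.eq]
  constructor
  · intro h; have := H.inv_mem h; simpa [mul_assoc] using this
  · intro h; have := H.inv_mem h; simpa [mul_assoc] using this

/-- A subgroup with a fixed point on `G ⧸ H` is conjugate into `H`. -/
theorem exists_conj_le [Finite G] {K H : Subgroup G} (h : mark K (G ⧸ H) ≠ 0) :
    ∃ g : G, K.map (MulAut.conj g).toMonoidHom ≤ H := by
  obtain ⟨⟨q, hq⟩⟩ := (Nat.card_ne_zero.mp h).1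
  obtain ⟨g, rfl⟩ := QuotientGroup.mk_surjective q
  refine ⟨g⁻¹, ?_⟩
  rintro _ ⟨k, hk, rfl⟩
  show g⁻¹ * k * g⁻¹⁻¹ ∈ H
  rw [inv_inv]
  exact mk_mem_fixSet.mp hq k hk

theorem map_conj_eq_of_le [Finite G] {K H : Subgroup G} {g : G}
    (h : K.map (MulAut.conj g).toMonoidHom ≤ H) (hc : Nat.card H ≤ Nat.card K) :
    K.map (MulAut.conj g).toMonoidHom = H := by
  refine SetLike.coe_injective (Set.eq_of_subset_of_ncard_le h ?_ (Set.toFinite _))
  rw [← Nat.card_coe_set_eq, ← Nat.card_coe_set_eq]
  refine hc.trans (le_of_eq ?_)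
  exact Nat.card_congr (K.equivMapOfInjective _ (MulAut.conj g).injective).toEquiv

theorem mark_self_mul_card [Finite G] (H : Subgroup G) :
    mark H (G ⧸ H) * Nat.card H = Nat.card (Subgroup.normalizer (H : Set G)) := by
  rw [mark, mul_comm, ← Nat.card_prod]
  refine Nat.card_congr
    ((QuotientGroup.preimageMkEquivSubgroupProdSet H (fixSet H (G ⧸ H))).symm.trans ?_)
  refine Equiv.subtypeEquivRight fun g => ?_
  show (g : G ⧸ H) ∈ fixSet H (G ⧸ H) ↔ g ∈ _
  rw [mk_mem_fixSet, ← inv_mem_iff (H := Subgroup.normalizer (H : Set G)) (x := g)]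
  constructor
  · intro h
    have hle : H.map (MulAut.conj g⁻¹).toMonoidHom ≤ H := by
      rintro _ ⟨k, hk, rfl⟩
      show g⁻¹ * k * g⁻¹⁻¹ ∈ H
      rw [inv_inv]; exact h k hk
    have he := map_conj_eq_of_le hle le_rfl
    rw [Subgroup.mem_normalizer_iff]
    intro k
    refine ⟨fun hk => hle ⟨k, hk, rfl⟩, fun hk => ?_⟩
    rw [← he] at hk
    obtain ⟨k', hk', e⟩ := hk
    have : k' = k := by
      change g⁻¹ * k' * g⁻¹⁻¹ = g⁻¹ * k * g⁻¹⁻¹ at e
      exact mul_left_cancel (mul_right_cancel e)
    rwa [← this]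
  · intro h k hk
    have := (Subgroup.mem_normalizer_iff.mp h k).mp hk
    rwa [inv_inv] at this

theorem card_mul_add_sum_modEq {N : Type*} [Group N] [Fintype N] (K : Subgroup N)
    [DecidablePred (· ∈ K)] {C : Type*} [MulAction N C] [Fintype C]
    (hC : ∀ k ∈ K, ∀ a : C, k • a = a) :
    Nat.card K * Nat.card C +
      ∑ n ∈ Finset.univ.filter (fun n => n ∉ K), Nat.card (fixedBy C n) ≡ 0 [MOD Nat.card N] := by
  classical
  have e := sum_card_fixedBy_eq_card_orbits_mul_card_group N C
  simp only [← Nat.card_eq_fintype_card] at e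
  rw [← Finset.sum_filter_add_sum_filter_not Finset.univ (fun n => n ∈ K)] at e
  have e2 : ∀ n ∈ Finset.univ.filter (fun n => n ∈ K), Nat.card (fixedBy C n) = Nat.card C := by
    intro n hn
    refine Nat.card_congr (Equiv.subtypeUnivEquiv fun c => ?_)
    exact hC n (Finset.mem_filter.mp hn).2 c
  rw [Finset.sum_congr rfl e2, Finset.sum_const, smul_eq_mul] at e
  have e3 : (Finset.univ.filter (fun n => n ∈ K)).card = Nat.card K := by
    rw [Nat.card_eq_fintype_card, Fintype.card_subtype]
  rw [e3] at e
  rw [e]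
  exact Nat.modEq_zero_iff_dvd.mpr (dvd_mul_left _ _)

/-- Burnside congruence: two finite sets on which `K` acts trivially and the elements outside `K`
fix equally many points. -/
theorem burnside_congr {N : Type*} [Group N] [Finite N] (K : Subgroup N) {A B : Type*}
    [MulAction N A] [MulAction N B] [Finite A] [Finite B]
    (hA : ∀ k ∈ K, ∀ a : A, k • a = a) (hB : ∀ k ∈ K, ∀ b : B, k • b = b)
    (h : ∀ n : N, n ∉ K → Nat.card (fixedBy A n) = Nat.card (fixedBy B n)) :
    Nat.card K * Nat.card A ≡ Nat.card K * Nat.card B [MOD Nat.card N] := by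
  classical
  cases nonempty_fintype N
  cases nonempty_fintype A
  cases nonempty_fintype B
  have a := card_mul_add_sum_modEq K hA
  have b := card_mul_add_sum_modEq K hB
  have hs : ∑ n ∈ Finset.univ.filter (fun n => n ∉ K), Nat.card (fixedBy A n) =
      ∑ n ∈ Finset.univ.filter (fun n => n ∉ K), Nat.card (fixedBy B n) :=
    Finset.sum_congr rfl fun n hn => h n (Finset.mem_filter.mp hn).2
  rw [hs] at a
  exact Nat.ModEq.add_right_cancel' _ (a.trans b.symm)

/-- The points of an invariant set fixed by `K`. -/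
def fixIn {X : Type*} [MulAction G X] (A : Set X) (K : Subgroup G) : Set X := A ∩ fixSet K X

theorem ncard_fixIn_sdiff {Z : Type*} [MulAction G Z] [Finite Z] (K : Subgroup G) {C O : Set Z}
    (hOC : O ⊆ C) : (fixIn (C \ O) K).ncard = (fixIn C K).ncard - (fixIn O K).ncard := by
  rw [← Set.ncard_sdiff (s := fixIn O K) (t := fixIn C K) (Set.inter_subset_inter_left _ hOC)
    (Set.toFinite _)]
  congr 1
  ext z
  simp only [fixIn, Set.mem_inter_iff, Set.mem_sdiff]
  tauto

theorem exists_map_of_marks [Finite G] {X Y : Type*} [MulAction G X] [MulAction G Y] [Finite X]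
    [Finite Y] [Nonempty Y] : ∀ (A : Set X) (B : Set Y),
      (∀ (g : G), ∀ a ∈ A, g • a ∈ A) → (∀ (g : G), ∀ b ∈ B, g • b ∈ B) →
      (∀ K : Subgroup G, (fixIn A K).ncard = (fixIn B K).ncard) →
      ∃ f : X → Y, Set.BijOn f A B ∧ ∀ (g : G), ∀ a ∈ A, f (g • a) = g • f a := by
  intro A
  induction h : A.ncard using Nat.strong_induction_on generalizing A with
  | _ n ih =>
    intro B hA hB hm
    classical
    rcases A.eq_empty_or_nonempty with rfl | hne
    · have h0 := hm ⊥
      have : fixIn B (⊥ : Subgroup G) = B := Set.inter_eq_left.mpr fun b _ k hk => by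
        rw [Subgroup.mem_bot.mp hk, one_smul]
      rw [this] at h0
      have hb : B = ∅ := by
        simpa [fixIn, Set.ncard_eq_zero (Set.toFinite _)] using h0.symm
      subst hb
      exact ⟨fun _ => Classical.arbitrary Y, Set.bijOn_empty _, by simp⟩
    · obtain ⟨x, hxA, hxmax⟩ := Set.exists_max_image A (fun a => Nat.card (stabilizer G a))
        (Set.toFinite _) hne
      set H := stabilizer G x with hH
      have h1 : (fixIn B H).ncard ≠ 0 := by
        rw [← hm H, ne_eq, Set.ncard_eq_zero (Set.toFinite _)]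
        exact Set.Nonempty.ne_empty ⟨x, hxA, fun k hk => hk⟩
      obtain ⟨y, hyB, hy⟩ := Set.nonempty_of_ncard_ne_zero h1
      have hstab : stabilizer G y = H := by
        have hle : H ≤ stabilizer G y := hy
        refine (SetLike.coe_injective (Set.eq_of_subset_of_ncard_le hle ?_ (Set.toFinite _))).symm
        rw [← Nat.card_coe_set_eq, ← Nat.card_coe_set_eq]
        have h2 : (fixIn A (stabilizer G y)).ncard ≠ 0 := by
          rw [hm, ne_eq, Set.ncard_eq_zero (Set.toFinite _)]
          exact Set.Nonempty.ne_empty ⟨y, hyB, fun k hk => hk⟩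
        obtain ⟨x', hx'A, hx'⟩ := Set.nonempty_of_ncard_ne_zero h2
        exact (Nat.card_le_card_of_injective _ (Subgroup.inclusion_injective (fun k hk => hx' k hk : stabilizer G y ≤ stabilizer G x'))).trans (hxmax x' hx'A)
      have hst : ∀ g g' : G, g • x = g' • x ↔ g • y = g' • y := by
        intro g g'
        have ex : g • x = g' • x ↔ g'⁻¹ * g ∈ stabilizer G x := by
          rw [mem_stabilizer_iff, mul_smul, inv_smul_eq_iff]
        have ey : g • y = g' • y ↔ g'⁻¹ * g ∈ stabilizer G y := by
          rw [mem_stabilizer_iff, mul_smul, inv_smul_eq_iff]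
        rw [ex, ey, hstab, hH]
      set OX := orbit G x
      set OY := orbit G y
      have hOX : OX ⊆ A := by rintro _ ⟨g, rfl⟩; exact hA g x hxA
      have hOY : OY ⊆ B := by rintro _ ⟨g, rfl⟩; exact hB g y hyB
      let e : X → Y := fun a => if h : ∃ g : G, g • x = a then h.choose • y else Classical.arbitrary Y
      have he : ∀ g : G, e (g • x) = g • y := fun g => by
        have h : ∃ g' : G, g' • x = g • x := ⟨g, rfl⟩
        simp only [e, dif_pos h]
        exact (hst _ _).mp h.choose_spec
      have heq : ∀ (g : G), ∀ a ∈ OX, e (g • a) = g • e a := by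
        rintro g _ ⟨g', rfl⟩
        change e (g • g' • x) = g • e (g' • x)
        rw [← mul_smul, he, he, mul_smul]
      have hbij : Set.BijOn e OX OY := by
        refine ⟨?_, ?_, ?_⟩
        · rintro _ ⟨g, rfl⟩; exact ⟨g, (he g).symm⟩
        · rintro _ ⟨g, rfl⟩ _ ⟨g', rfl⟩ hh
          change e (g • x) = e (g' • x) at hh
          rw [he, he] at hh
          exact (hst g g').mpr hh
        · rintro _ ⟨g, rfl⟩; exact ⟨g • x, ⟨g, rfl⟩, he g⟩
      have hfo : ∀ K : Subgroup G, (fixIn OX K).ncard = (fixIn OY K).ncard := by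
        intro K
        have : e '' fixIn OX K = fixIn OY K := by
          apply Set.Subset.antisymm
          · rintro _ ⟨a, ⟨ha, hk⟩, rfl⟩
            exact ⟨hbij.mapsTo ha, fun k hkK => by rw [← heq k a ha, hk k hkK]⟩
          · rintro b ⟨hb, hk⟩
            obtain ⟨a, ha, rfl⟩ := hbij.surjOn hb
            refine ⟨a, ⟨ha, fun k hkK => hbij.injOn ?_ ha ?_⟩, rfl⟩
            · exact mem_orbit_of_mem_orbit k ha
            · rw [heq k a ha, hk k hkK]
        rw [← this]
        exact ((hbij.injOn.mono Set.inter_subset_left).ncard_image).symm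
      have hA' : ∀ (g : G), ∀ a ∈ A \ OX, g • a ∈ A \ OX := fun g a ha =>
        ⟨hA g a ha.1, fun h => ha.2 (by simpa using mem_orbit_of_mem_orbit g⁻¹ h)⟩
      have hB' : ∀ (g : G), ∀ a ∈ B \ OY, g • a ∈ B \ OY := fun g a ha =>
        ⟨hB g a ha.1, fun h => ha.2 (by simpa using mem_orbit_of_mem_orbit g⁻¹ h)⟩
      have hm' : ∀ K : Subgroup G, (fixIn (A \ OX) K).ncard = (fixIn (B \ OY) K).ncard := by
        intro K
        rw [ncard_fixIn_sdiff K hOX, ncard_fixIn_sdiff K hOY, hm, hfo]
      have hlt : (A \ OX).ncard < n := by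
        rw [← h]
        refine Set.ncard_lt_ncard (Set.ssubset_iff_exists.mpr ⟨Set.sdiff_subset, x, hxA, ?_⟩)
          (Set.toFinite _)
        exact fun hh => hh.2 (mem_orbit_self x)
      obtain ⟨f, hf, hfe⟩ := ih _ hlt _ rfl (B \ OY) hA' hB' hm'
      refine ⟨fun a => if a ∈ OX then e a else f a, ?_, ?_⟩
      · have h1 : Set.BijOn (fun a => if a ∈ OX then e a else f a) OX OY :=
          hbij.congr fun a ha => (if_pos ha).symm
        have h2 : Set.BijOn (fun a => if a ∈ OX then e a else f a) (A \ OX) (B \ OY) :=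
          hf.congr fun a ha => (if_neg ha.2).symm
        have h12 := h1.union h2 (by
          intro a ha b hb hab
          simp only at hab
          rcases ha with ha | ha <;> rcases hb with hb | hb
          · exact h1.injOn ha hb hab
          · have q := h1.mapsTo ha
            rw [hab] at q
            exact absurd q (h2.mapsTo hb).2
          · have q := h1.mapsTo hb
            rw [← hab] at q
            exact absurd q (h2.mapsTo ha).2
          · exact h2.injOn ha hb hab)
        rwa [Set.union_sdiff_cancel hOX, Set.union_sdiff_cancel hOY] at h12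
      · intro g a ha
        by_cases hao : a ∈ OX
        · have hgo : g • a ∈ OX := mem_orbit_of_mem_orbit g hao
          simp only [if_pos hao, if_pos hgo, heq g a hao]
        · simp only [if_neg hao, if_neg (hA' g a ⟨ha, hao⟩).2, hfe g a ⟨ha, hao⟩]

/-- Finite `G`-sets with equal marks are isomorphic. -/
theorem exists_equiv_of_marks [Finite G] {X Y : Type*} [MulAction G X] [MulAction G Y] [Finite X]
    [Finite Y] (h : ∀ K : Subgroup G, mark K X = mark K Y) :
    ∃ e : X ≃ Y, ∀ (g : G) (x : X), e (g • x) = g • e x := by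
  rcases isEmpty_or_nonempty Y with hY | hY
  · have h0 := h ⊥
    have hx : mark (⊥ : Subgroup G) X = Nat.card X :=
      Nat.card_congr (Equiv.subtypeUnivEquiv fun x k hk => by
        rw [Subgroup.mem_bot.mp hk, one_smul])
    have hy : mark (⊥ : Subgroup G) Y = 0 := Nat.card_of_isEmpty
    rw [hx, hy] at h0
    have : IsEmpty X := (Nat.card_eq_zero.mp h0).resolve_right (not_infinite_iff_finite.mpr ‹_›)
    exact ⟨Equiv.equivOfIsEmpty X Y, fun g x => (IsEmpty.false x).elim⟩
  obtain ⟨f, hf, he⟩ := exists_map_of_marks (G := G) (Set.univ : Set X) (Set.univ : Set Y)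
    (fun _ _ _ => trivial) (fun _ _ _ => trivial) fun K => by
      simpa [fixIn, mark, Nat.card_coe_set_eq] using h K
  exact ⟨Equiv.ofBijective f (Set.bijOn_univ.mp hf), fun g x => he g x trivial⟩

end CfsgLib.Fusion.Marks
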