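import Mathlib.GroupTheory.Nilpotent
import Mathlib.GroupTheory.PGroup
import Mathlib.GroupTheory.Index

/-!
# Orders of the upper central series of a `p`-group of maximal class
-/

namespace CfsgLib.Fusion.MaxClass

open Subgroup
open scoped commutatorElement

variable {G : Type*} [Group G] [Finite G] {p : ℕ} [Fact p.Prime]

theorem mul_card_le_of_lt (hG : IsPGroup p G) {H K : Subgroup G} (h : H < K) :
    p * Nat.card H ≤ Nat.card K := by
  obtain ⟨a, ha⟩ := IsPGroup.iff_card.mp (hG.to_subgroup H)
  obtain ⟨b, hb⟩ := IsPGroup.iff_card.mp (hG.to_subgroup K)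
  have hlt : Nat.card H < Nat.card K := by
    refine lt_of_le_of_ne (Subgroup.card_le_of_le h.le) fun he => h.ne ?_
    exact SetLike.coe_injective (Set.eq_of_subset_of_ncard_le h.le
      (by rw [← Nat.card_coe_set_eq, ← Nat.card_coe_set_eq]; exact he.ge) (Set.toFinite _))
  rw [ha, hb] at hlt ⊢
  rw [← pow_succ']
  exact Nat.pow_le_pow_right (Fact.out : p.Prime).pos
    ((Nat.pow_lt_pow_iff_right (Fact.out : p.Prime).one_lt).mp hlt)

theorem sq_mul_card_le (hG : IsPGroup p G) {d : ℕ} (h : Group.nilpotencyClass G = d + 2) :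
    p * p * Nat.card (Subgroup.upperCentralSeries G (d + 1)) ≤ Nat.card G := by
  have : Group.IsNilpotent G := hG.isNilpotent
  set Z := Subgroup.upperCentralSeries G (d + 1) with hZ
  obtain ⟨n, hn⟩ := hG.index Z
  have hne : Z ≠ ⊤ := fun e => by
    have := Subgroup.upperCentralSeries_eq_top_iff_nilpotencyClass_le.mp e
    omega
  have hn0 : n ≠ 0 := fun h0 => hne (index_eq_one.mp (by rw [hn, h0, pow_zero]))
  have hn1 : n ≠ 1 := fun h1 => by
    rw [h1, pow_one] at hn
    obtain ⟨g, hg⟩ : ∃ g, g ∉ Z := by
      by_contra hc; push Not at hc; exact hne ((eq_top_iff' Z).mpr hc)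
    have htop : Z ⊔ zpowers g = ⊤ := by
      have hlt : Z < Z ⊔ zpowers g :=
        lt_of_le_of_ne le_sup_left fun e => hg (e.ge (mem_sup_right (mem_zpowers g)))
      refine index_eq_one.mp ?_
      have h2 := index_strictAnti hlt
      have h3 := index_dvd_of_le hlt.le
      rw [hn] at h2 h3
      exact ((Nat.dvd_prime Fact.out).mp h3).resolve_right h2.ne
    refine hg (Subgroup.mem_upperCentralSeries_succ_iff.mpr fun y => ?_)
    let π := QuotientGroup.mk' (Subgroup.upperCentralSeries G d)
    have hle : Z ⊔ zpowers g ≤ (centralizer {π g}).comap π := by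
      refine sup_le (fun z hz => ?_) ((zpowers_le).mpr ?_)
      · rw [mem_comap, mem_centralizer_singleton_iff]
        have h1 := Subgroup.mem_upperCentralSeries_succ_iff.mp hz g
        have h2 : π ⁅z, g⁆ = 1 := (QuotientGroup.eq_one_iff _).mpr h1
        rw [map_commutatorElement, commutatorElement_eq_one_iff_mul_comm] at h2
        exact h2
      · rw [mem_comap, mem_centralizer_singleton_iff]
    have h1 := hle (htop ▸ mem_top y)
    rw [mem_comap, mem_centralizer_singleton_iff] at h1
    refine (QuotientGroup.eq_one_iff _).mp ?_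
    show π ⁅g, y⁆ = 1
    rw [map_commutatorElement, commutatorElement_eq_one_iff_mul_comm]
    exact h1.symm
  have h2 : p * p ≤ Z.index := by
    rw [hn, ← pow_two]
    exact Nat.pow_le_pow_right (Fact.out : p.Prime).pos (by omega)
  calc p * p * Nat.card Z ≤ Z.index * Nat.card Z := Nat.mul_le_mul_right _ h2
    _ = Nat.card G := Z.index_mul_card

/-- In a group of order `p^n` of class at least `n - 1` the `k`-th centre has order `p^k`. -/
theorem card_upperCentralSeries (hG : IsPGroup p G) {n : ℕ} (hn : Nat.card G = p ^ n) (h2 : 3 ≤ n)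
    (hmax : (⊤ : Subgroup G).lowerCentralSeries (n - 2) ≠ ⊥) {k : ℕ} (hk : k + 2 ≤ n) :
    Nat.card (Subgroup.upperCentralSeries G k) = p ^ k := by
  have : Group.IsNilpotent G := hG.isNilpotent
  have hp : p.Prime := Fact.out
  have hc : n - 1 ≤ Group.nilpotencyClass G := by
    by_contra h
    exact hmax (Subgroup.lowerCentralSeries_eq_bot_iff_nilpotencyClass_le.mpr (by omega))
  obtain ⟨d, hd⟩ : ∃ d, Group.nilpotencyClass G = d + 2 := ⟨Group.nilpotencyClass G - 2, by omega⟩
  have hstep : ∀ i j, i + j ≤ d + 1 →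
      p ^ j * Nat.card (Subgroup.upperCentralSeries G i) ≤ Nat.card (Subgroup.upperCentralSeries G (i + j)) := by
    intro i j
    induction j with
    | zero => intro _; simp
    | succ j ih =>
      intro hij
      have h1 := mul_card_le_of_lt hG (Subgroup.upperCentralSeries.StrictMonoOn G (a := i + j) (b := i + (j + 1))
        (Set.mem_Iic.mpr (by omega)) (Set.mem_Iic.mpr (by omega)) (by omega))
      calc p ^ (j + 1) * Nat.card (Subgroup.upperCentralSeries G i)
          = p * (p ^ j * Nat.card (Subgroup.upperCentralSeries G i)) := by rw [pow_succ']; ring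
        _ ≤ p * Nat.card (Subgroup.upperCentralSeries G (i + j)) := Nat.mul_le_mul_left _ (ih (by omega))
        _ ≤ _ := h1
  have hlo := hstep 0 k (by omega)
  simp only [Subgroup.upperCentralSeries_zero, card_bot, mul_one, zero_add] at hlo
  have hhi := hstep k (d + 1 - k) (by omega)
  rw [show k + (d + 1 - k) = d + 1 by omega] at hhi
  have htop := sq_mul_card_le hG hd
  refine le_antisymm ?_ hlo
  have h3 : p ^ (d + 3 - k) * Nat.card (Subgroup.upperCentralSeries G k) ≤ p ^ n := by
    rw [← hn]
    calc _ = p * p * (p ^ (d + 1 - k) * Nat.card (Subgroup.upperCentralSeries G k)) := by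
          rw [show d + 3 - k = d + 1 - k + 1 + 1 by omega, pow_succ, pow_succ]; ring
      _ ≤ p * p * Nat.card (Subgroup.upperCentralSeries G (d + 1)) := Nat.mul_le_mul_left _ hhi
      _ ≤ _ := htop
  have h4 : p ^ n ≤ p ^ (d + 3 - k) * p ^ k := by
    rw [← pow_add]; exact Nat.pow_le_pow_right hp.pos (by omega)
  exact Nat.le_of_mul_le_mul_left (h3.trans h4) (pow_pos hp.pos _)

end CfsgLib.Fusion.MaxClass
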