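import Cfsg.Agent.Lib.Transfer.Basic

/-!
# The meet of invariant subsystems, II: finite group theory

Maximal `p`-subgroups of a subgroup, traces on normal subgroups, the Frattini argument, `O^p` of a subgroup,
and the fusion theorem for a Sylow subgroup as an induction principle.
-/

set_option autoImplicit false

namespace CfsgLib.Meet

open Cfsg

variable {G H : Type*} [Group G] [Group H] {p : ℕ}

/-- `Q` is a Sylow `p`-subgroup of the subgroup `K`. -/
def SylIn (p : ℕ) (Q K : Subgroup G) : Prop :=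
  Q ≤ K ∧ IsPGroup p Q ∧ ∀ R : Subgroup G, Q ≤ R → R ≤ K → IsPGroup p R → R = Q

theorem card_map_conj (A : Subgroup G) (a : G) :
    Nat.card (A.map (MulAut.conj a).toMonoidHom) = Nat.card A :=
  (Nat.card_congr (A.equivMapOfInjective (MulAut.conj a).toMonoidHom (MulAut.conj a).injective).toEquiv).symm

theorem conj_le_map {Q : Subgroup G} {a : G} (h : ∀ x ∈ Q, a * x * a⁻¹ ∈ Q) [Finite G] {y : G} (hy : y ∈ Q) :
    a⁻¹ * y * a ∈ Q := by
  have he : Q.map (MulAut.conj a).toMonoidHom = Q := by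
    refine Subgroup.eq_of_le_of_card_ge (by rintro _ ⟨x, hx, rfl⟩; exact h x hx) ?_
    exact (card_map_conj Q a).ge
  obtain ⟨x, hx, rfl⟩ := he.ge hy
  simpa [mul_assoc] using hx

theorem exists_coprime_power [Finite G] [Fact p.Prime] (a : G) :
    ∃ m : ℕ, (orderOf (a ^ m)).Coprime p ∧ ∀ {M : Type*} [Monoid M] (b : M),
      (∀ j : ℕ, a ^ j = 1 → b ^ j = 1) → (orderOf b).Coprime p → b ^ m = b := by
  have hp : p.Prime := Fact.out
  set n := orderOf a with hn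
  set k := n.factorization p with hk
  have hn0 : n ≠ 0 := (orderOf_pos a).ne'
  have hcop : Nat.Coprime (p ^ k) (n / p ^ k) := (Nat.coprime_ordCompl hp hn0).pow_left k
  obtain ⟨m, hm1, hm2⟩ := Nat.chineseRemainder hcop 0 1
  refine ⟨m, ?_, fun {M} _ b hb hbp => ?_⟩
  · have h1 : p ^ k ∣ m := Nat.modEq_zero_iff_dvd.mp hm1
    have h2 : (a ^ m) ^ (n / p ^ k) = 1 := by
      rw [← pow_mul]
      refine orderOf_dvd_iff_pow_eq_one.mp ?_
      calc n = p ^ k * (n / p ^ k) := (Nat.ordProj_mul_ordCompl_eq_self n p).symm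
        _ ∣ m * (n / p ^ k) := Nat.mul_dvd_mul_right h1 _
    exact Nat.Coprime.coprime_dvd_left (orderOf_dvd_of_pow_eq_one h2)
      (Nat.coprime_ordCompl hp hn0).symm
  · have h1 : orderOf b ∣ n := orderOf_dvd_of_pow_eq_one (hb n (pow_orderOf_eq_one a))
    have h2 : orderOf b ∣ n / p ^ k := by
      refine (hbp.pow_right k).dvd_of_dvd_mul_left ?_
      rw [Nat.ordProj_mul_ordCompl_eq_self]; exact h1
    have h3 : m ≡ 1 [MOD orderOf b] := Nat.ModEq.of_dvd h2 hm2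
    rw [← pow_mod_orderOf, h3, pow_mod_orderOf, pow_one]

/-- An element of order prime to `p` that becomes a `p`-element modulo a normal subgroup lies in it. -/
theorem mem_of_mul_pElement {K E : Subgroup G} (hE : ∀ a ∈ K, ∀ b ∈ E, a * b * a⁻¹ ∈ E) {g d : G}
    (hg : g ∈ K) (hd : d ∈ K) {k r : ℕ} (hdk : d ^ p ^ k = 1) (hr : r.Coprime p) (hgr : g ^ r = 1)
    (hgd : g * d ∈ E) : g ∈ E := by
  have hn : (E.subgroupOf K).Normal := ⟨fun b hb a => hE a a.2 b hb⟩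
  let π := QuotientGroup.mk' (E.subgroupOf K)
  have h1 : π ⟨g, hg⟩ * π ⟨d, hd⟩ = 1 := by
    rw [← map_mul]
    exact (QuotientGroup.eq_one_iff _).mpr hgd
  have h2 : π ⟨g, hg⟩ ^ p ^ k = 1 := by
    rw [eq_inv_of_mul_eq_one_left h1, inv_pow, ← map_pow]
    have : (⟨d, hd⟩ : K) ^ p ^ k = 1 := Subtype.ext hdk
    rw [this, map_one, inv_one]
  have h3 : π ⟨g, hg⟩ ^ r = 1 := by
    rw [← map_pow]
    have : (⟨g, hg⟩ : K) ^ r = 1 := Subtype.ext hgr
    rw [this, map_one]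
  have h4 : π ⟨g, hg⟩ = 1 := orderOf_eq_one_iff.mp
    (Nat.eq_one_of_dvd_coprimes (hr.pow_right k) (orderOf_dvd_of_pow_eq_one h3)
      (orderOf_dvd_of_pow_eq_one h2))
  exact Subgroup.mem_subgroupOf.mp ((QuotientGroup.eq_one_iff (⟨g, hg⟩ : K)).mp h4)

/-! ### `O^p` of a subgroup -/

/-- `O^p(K)`. -/
def opr (p : ℕ) (K : Subgroup G) : Subgroup G := (pResidual p K).map K.subtype

theorem opr_le {K : Subgroup G} : opr p K ≤ K := Subgroup.map_subtype_le _

theorem mem_opr {K : Subgroup G} {g : G} (hg : g ∈ K) (h : (orderOf g).Coprime p) : g ∈ opr p K :=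
  ⟨⟨g, hg⟩, CfsgLib.Transfer.mem_pResidual (by rwa [← Subgroup.orderOf_coe]), rfl⟩

theorem opr_induction {K : Subgroup G} (C : Subgroup G)
    (h : ∀ g ∈ K, (orderOf g).Coprime p → g ∈ C) : opr p K ≤ C := by
  rw [opr, Subgroup.map_le_iff_le_comap, CfsgLib.Transfer.pResidual_le_iff]
  exact fun g hg => h g g.2 (by rwa [Subgroup.orderOf_coe])

theorem conj_mem_opr {K : Subgroup G} {a : G} (ha : ∀ g ∈ K, a * g * a⁻¹ ∈ K) :
    ∀ g ∈ opr p K, a * g * a⁻¹ ∈ opr p K := by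
  refine fun g hg => opr_induction ((opr p K).comap (MulAut.conj a).toMonoidHom) (fun g hgK hgp => ?_) hg
  refine mem_opr (ha g hgK) ?_
  have : orderOf ((MulAut.conj a).toMonoidHom g) = orderOf g :=
    orderOf_injective _ (MulAut.conj a).injective g
  rw [← this] at hgp
  exact hgp

theorem map_opr_le {K : Subgroup G} {L : Subgroup H} (f : G →* H) (hf : ∀ g ∈ K, f g ∈ L) :
    (opr p K).map f ≤ opr p L := by
  rw [Subgroup.map_le_iff_le_comap]
  exact opr_induction _ fun g hg hgp => mem_opr (hf g hg) (hgp.coprime_dvd_left (orderOf_map_dvd f g))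

/-! ### Sylow subgroups of subgroups -/

section finite

variable [Finite G] [Fact p.Prime] {Q K N : Subgroup G}

theorem SylIn.exists_sylow (h : SylIn p Q K) : ∃ T : Sylow p K, (T : Subgroup K) = Q.subgroupOf K := by
  refine ⟨⟨Q.subgroupOf K, h.2.1.comap_subtype, fun {R} hR hle => ?_⟩, rfl⟩
  have := h.2.2 (R.map K.subtype) (fun x hx => ⟨⟨x, h.1 hx⟩, hle hx, rfl⟩) (Subgroup.map_subtype_le _) (hR.map _)
  exact le_antisymm (fun x hx => this.le ⟨x, hx, rfl⟩) hle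

theorem sylIn_of_sylow (T : Sylow p K) : SylIn p ((T : Subgroup K).map K.subtype) K := by
  refine ⟨Subgroup.map_subtype_le _, T.2.map _, fun R hle hRK hR => ?_⟩
  have := T.3 (hR.comap_subtype (K := K)) fun x hx => hle ⟨x, hx, rfl⟩
  refine le_antisymm (fun x hx => ⟨⟨x, hRK hx⟩, this.le hx, rfl⟩) hle

theorem exists_sylIn (A : Subgroup G) (hA : IsPGroup p A) (hAK : A ≤ K) : ∃ R, A ≤ R ∧ SylIn p R K := by
  obtain ⟨T, hT⟩ := (hA.comap_subtype (K := K)).exists_le_sylow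
  exact ⟨(T : Subgroup K).map K.subtype, fun x hx => ⟨⟨x, hAK hx⟩, hT hx, rfl⟩, sylIn_of_sylow T⟩

/-- Every `p`-subgroup is conjugate into a Sylow subgroup. -/
theorem SylIn.exists_conj (h : SylIn p Q K) {A : Subgroup G} (hA : IsPGroup p A) (hAK : A ≤ K) :
    ∃ a ∈ K, ∀ x ∈ A, a * x * a⁻¹ ∈ Q := by
  obtain ⟨T, hT⟩ := h.exists_sylow
  obtain ⟨T', hT'⟩ := (hA.comap_subtype (K := K)).exists_le_sylow
  obtain ⟨a, ha⟩ := MulAction.exists_smul_eq K T' T
  refine ⟨a, a.2, fun x hx => ?_⟩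
  have h1 : a * ⟨x, hAK hx⟩ * a⁻¹ ∈ (T : Subgroup K) := by
    rw [← ha, Sylow.coe_subgroup_smul]
    exact Subgroup.smul_mem_pointwise_smul _ (MulAut.conj a) _ (hT' hx)
  rw [hT] at h1
  exact h1

theorem SylIn.card_le (h : SylIn p Q K) {A : Subgroup G} (hA : IsPGroup p A) (hAK : A ≤ K) :
    Nat.card A ≤ Nat.card Q := by
  obtain ⟨a, -, ha⟩ := h.exists_conj hA hAK
  rw [← card_map_conj A a]
  exact Subgroup.card_le_of_le (by rintro _ ⟨x, hx, rfl⟩; exact ha x hx)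

omit [Fact p.Prime] in
theorem sylIn_of_card (hQ : Q ≤ K) (hp : IsPGroup p Q)
    (h : ∀ R : Subgroup G, Q ≤ R → R ≤ K → IsPGroup p R → Nat.card R ≤ Nat.card Q) : SylIn p Q K :=
  ⟨hQ, hp, fun R hle hRK hR => (Subgroup.eq_of_le_of_card_ge hle (h R hle hRK hR)).symm⟩

theorem SylIn.inf_normal (h : SylIn p Q K) (hNK : N ≤ K) (hN : ∀ a ∈ K, ∀ n ∈ N, a * n * a⁻¹ ∈ N) :
    SylIn p (Q ⊓ N) N := by
  refine sylIn_of_card inf_le_right (h.2.1.to_le inf_le_left) fun R _ hRN hR => ?_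
  obtain ⟨a, ha, hae⟩ := h.exists_conj hR (hRN.trans hNK)
  rw [← card_map_conj R a]
  exact Subgroup.card_le_of_le (by
    rintro _ ⟨x, hx, rfl⟩
    exact ⟨hae x hx, hN a ha x (hRN hx)⟩)

/-- The Frattini argument. -/
theorem exists_frattini_mul (h : SylIn p Q K) (hNK : N ≤ K) (hN : ∀ a ∈ K, ∀ n ∈ N, a * n * a⁻¹ ∈ N)
    {g : G} (hg : g ∈ K) :
    ∃ n ∈ N, ∃ k ∈ K, (∀ x ∈ Q ⊓ N, k * x * k⁻¹ ∈ Q ⊓ N) ∧ g = n * k := by
  have hs := h.inf_normal hNK hN
  obtain ⟨n, hn, hne⟩ := hs.exists_conj (A := (Q ⊓ N).map (MulAut.conj g).toMonoidHom) (hs.2.1.map _)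
    (by rintro _ ⟨x, hx, rfl⟩; exact hN g hg x hx.2)
  refine ⟨n⁻¹, N.inv_mem hn, n * g, K.mul_mem (hNK hn) hg, fun x hx => ?_, (inv_mul_cancel_left n g).symm⟩
  have := hne _ ⟨x, hx, rfl⟩
  simpa [mul_assoc] using this

omit [Fact p.Prime] in
theorem opr_conj_self {a g : G} (ha : a ∈ K) (hg : g ∈ opr p K) : a * g * a⁻¹ ∈ opr p K :=
  conj_mem_opr (fun x hx => K.mul_mem (K.mul_mem ha hx) (K.inv_mem ha)) g hg

/-- `K = O^p(K) Q`. -/
theorem SylIn.exists_opr_mul (h : SylIn p Q K) {g : G} (hg : g ∈ K) :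
    ∃ o ∈ opr p K, ∃ q ∈ Q, g = o * q := by
  obtain ⟨T, hT⟩ := h.exists_sylow
  have := CfsgLib.Transfer.pResidual_normal (G := K) (p := p)
  have hmem : (⟨g, hg⟩ : K) ∈ pResidual p K ⊔ (T : Subgroup K) := by
    rw [sup_comm, CfsgLib.Transfer.sylow_sup_pResidual T]; exact Subgroup.mem_top _
  rw [Subgroup.mem_sup_of_normal_left] at hmem
  obtain ⟨o, ho, q, hq, e⟩ := hmem
  exact ⟨o, ⟨o, ho, rfl⟩, q, hT.le hq, congrArg Subtype.val e.symm⟩

/-- An element normalizing a Sylow subgroup is a coprime element times an element of it. -/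
theorem SylIn.exists_coprime_mul (h : SylIn p Q K) {g : G} (hg : g ∈ K)
    (hgn : ∀ x ∈ Q, g * x * g⁻¹ ∈ Q) :
    ∃ c ∈ K, (orderOf c).Coprime p ∧ (∀ x ∈ Q, c * x * c⁻¹ ∈ Q) ∧ ∃ q ∈ Q, g = c * q := by
  obtain ⟨m, hm, hmb⟩ := exists_coprime_power (p := p) g
  have hmem : g ∈ Subgroup.normalizer (Q : Set G) ⊓ K := by
    refine ⟨Subgroup.mem_normalizer_iff.mpr fun x => ⟨hgn x, fun hx => ?_⟩, hg⟩
    have := conj_le_map hgn hx
    simpa [mul_assoc] using this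
  set L := Subgroup.normalizer (Q : Set G) ⊓ K
  have hQL : Q ≤ L := le_inf Subgroup.le_normalizer h.1
  have hn : (Q.subgroupOf L).Normal :=
    ⟨fun x hx a => Subgroup.mem_subgroupOf.mpr ((Subgroup.mem_normalizer_iff.mp a.2.1 x).mp hx)⟩
  let π := QuotientGroup.mk' (Q.subgroupOf L)
  have hc : g ^ m ∈ L := L.pow_mem hmem m
  have hx : (orderOf (π ⟨g, hmem⟩)).Coprime p := by
    refine ((Fact.out : p.Prime).coprime_iff_not_dvd.mpr fun hd => ?_).symm
    obtain ⟨z, hz⟩ : ∃ z : L ⧸ Q.subgroupOf L, orderOf z = p := by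
      have hpow : p ∣ Nat.card (L ⧸ Q.subgroupOf L) := hd.trans (orderOf_dvd_natCard _)
      exact exists_prime_orderOf_dvd_card' p hpow
    obtain ⟨z, rfl⟩ := QuotientGroup.mk'_surjective _ z
    set A := (Subgroup.zpowers (π z)).comap π with hA
    have hAp : IsPGroup p A := by
      refine IsPGroup.comap_of_ker_isPGroup ?_ π ?_
      · exact IsPGroup.of_card (n := 1) (by rw [Nat.card_zpowers, hz, pow_one])
      · rw [QuotientGroup.ker_mk']; exact h.2.1.comap_subtype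
    have hQA : Q ≤ A.map L.subtype := fun x hx => ⟨⟨x, hQL hx⟩, by
      show π ⟨x, hQL hx⟩ ∈ Subgroup.zpowers (π z)
      rw [show π ⟨x, hQL hx⟩ = 1 from (QuotientGroup.eq_one_iff _).mpr hx]
      exact Subgroup.one_mem _, rfl⟩
    have hzA : z ∈ A := Subgroup.mem_zpowers _
    have := h.2.2 _ hQA (fun x ⟨y, _, hy⟩ => hy ▸ y.2.2) (hAp.map _)
    have h1 : π z = 1 := (QuotientGroup.eq_one_iff _).mpr (this.le ⟨z, hzA, rfl⟩)
    rw [h1, orderOf_one] at hz
    exact (Fact.out : p.Prime).one_lt.ne hz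
  refine ⟨g ^ m, K.pow_mem hg m, hm, fun x hx => (Subgroup.mem_normalizer_iff.mp hc.1 x).mp hx,
    (g ^ m)⁻¹ * g, ?_, (mul_inv_cancel_left _ _).symm⟩
  have h1 := hmb (π ⟨g, hmem⟩) (fun j hj => by
    rw [← map_pow, show (⟨g, hmem⟩ : L) ^ j = 1 from Subtype.ext hj, map_one]) hx
  rw [← map_pow] at h1
  exact Subgroup.mem_subgroupOf.mp (QuotientGroup.eq.mp h1)

/-- A property of fusion in a Sylow subgroup holds when it holds for its elements and for elements of order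
prime to `p` normalizing the subgroup. -/
theorem SylIn.fusion_induction (h : SylIn p Q K) (C : Subgroup G → G → Prop)
    (hmono : ∀ {R R' : Subgroup G} {x : G}, R ≤ R' → C R' x → C R x)
    (hmul : ∀ {R R' : Subgroup G} {x y : G}, R ≤ Q → R' ≤ Q → C R x → (∀ r ∈ R, x * r * x⁻¹ ∈ R') → C R' y →
      C R (y * x))
    (hinv : ∀ {R R' : Subgroup G} {x : G}, R ≤ Q → R' ≤ Q → C R x → (∀ r ∈ R, x * r * x⁻¹ ∈ R') →
      (∀ r ∈ R', x⁻¹ * r * x ∈ R) → C R' x⁻¹)
    (helt : ∀ R ≤ Q, ∀ x ∈ Q, C R x)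
    (hcop : ∀ R ≤ Q, ∀ x ∈ K, (orderOf x).Coprime p → (∀ r ∈ R, x * r * x⁻¹ ∈ R) → C R x) :
    ∀ R ≤ Q, ∀ x ∈ K, (∀ r ∈ R, x * r * x⁻¹ ∈ Q) → C R x := by
  suffices H : ∀ (n : ℕ) (R : Subgroup G), Nat.card Q - Nat.card R < n → R ≤ Q → ∀ x ∈ K,
      (∀ r ∈ R, x * r * x⁻¹ ∈ Q) → C R x from fun R => H _ R (Nat.lt_succ_self _)
  intro n
  induction n with
  | zero => intro R h; omega
  | succ n ih =>
  intro R hlt hRQ x hx hxR
  rcases eq_or_lt_of_le hRQ with rfl | hRlt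
  · obtain ⟨c, hc, hcp, hcn, q, hq, rfl⟩ := h.exists_coprime_mul hx hxR
    exact hmul le_rfl le_rfl (helt R le_rfl q hq) (fun r hr => R.mul_mem (R.mul_mem hq hr) (R.inv_mem hq))
      (hcop R le_rfl c hc hcp hcn)
  -- a conjugate of `R` whose normalizer in `Q` is largest
  have hRK := hRQ.trans h.1
  obtain ⟨A, hRA, hA⟩ := exists_sylIn (K := Subgroup.normalizer (R : Set G) ⊓ K) R
    (h.2.1.to_le hRQ) (le_inf Subgroup.le_normalizer hRK)
  obtain ⟨a, ha, haA⟩ := h.exists_conj hA.2.1 (hA.1.trans inf_le_right)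
  set Rs := R.map (MulAut.conj a).toMonoidHom with hRs
  have hRsQ : Rs ≤ Q := by rintro _ ⟨r, hr, rfl⟩; exact haA r (hRA hr)
  set L := Subgroup.normalizer (Rs : Set G) ⊓ K with hL
  set U := Subgroup.normalizer (Rs : Set G) ⊓ Q with hU
  have hUL : SylIn p U L := by
    refine sylIn_of_card (inf_le_inf_left _ h.1) (h.2.1.to_le inf_le_right) fun B _ hBL hB => ?_
    refine le_trans ?_ (le_of_eq_of_le (card_map_conj A a).symm (Subgroup.card_le_of_le ?_))
    · have hB' : B.map (MulAut.conj a⁻¹).toMonoidHom ≤ Subgroup.normalizer (R : Set G) ⊓ K := by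
        rintro _ ⟨b, hb, rfl⟩
        refine ⟨Subgroup.mem_normalizer_iff.mpr fun r => ?_,
          K.mul_mem (K.mul_mem (K.inv_mem ha) (hBL hb).2) (K.inv_mem (K.inv_mem ha))⟩
        have h1 := Subgroup.mem_normalizer_iff.mp (hBL hb).1 (a * r * a⁻¹)
        have e : ∀ z : G, a * z * a⁻¹ ∈ Rs ↔ z ∈ R := fun z =>
          Subgroup.mem_map_iff_mem (MulAut.conj a).injective
        rw [e] at h1
        rw [h1, ← e]
        simp [mul_assoc]
      rw [← card_map_conj B a⁻¹]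
      exact hA.card_le (hB.map _) hB'
    · rintro _ ⟨b, hb, rfl⟩
      refine ⟨Subgroup.mem_normalizer_iff.mpr fun r => ?_, haA b hb⟩
      have h1 := Subgroup.mem_normalizer_iff.mp (hA.1 hb).1 (a⁻¹ * r * a)
      have e : ∀ z : G, z ∈ Rs ↔ a⁻¹ * z * a ∈ R := fun z => by
        rw [show z ∈ Rs ↔ _ from Subgroup.mem_map_equiv]; rfl
      rw [e, e, h1]
      simp [mul_assoc]
  -- elements normalizing `Rs`
  have hnorm : ∀ y ∈ L, C Rs y := by
    intro y hy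
    have hnc : ∀ z ∈ L, ∀ r ∈ Rs, z * r * z⁻¹ ∈ Rs := fun z hz r hr =>
      (Subgroup.mem_normalizer_iff.mp hz.1 r).mp hr
    obtain ⟨o, ho, q, hq, rfl⟩ := hUL.exists_opr_mul hy
    refine hmul hRsQ hRsQ (helt Rs hRsQ q hq.2) (hnc q (hUL.1 hq)) ?_
    let M : Subgroup G :=
      { carrier := {z | z ∈ L ∧ C Rs z}
        one_mem' := ⟨L.one_mem, helt Rs hRsQ 1 Q.one_mem⟩
        mul_mem' := fun {z w} hz hw => ⟨L.mul_mem hz.1 hw.1, hmul hRsQ hRsQ hw.2 (hnc w hw.1) hz.2⟩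
        inv_mem' := fun {z} hz => ⟨L.inv_mem hz.1, hinv hRsQ hRsQ hz.2 (hnc z hz.1) fun r hr => by
          simpa using hnc z⁻¹ (L.inv_mem hz.1) r hr⟩ }
    exact (opr_induction M (fun z hz hzp => ⟨hz, hcop Rs hRsQ z hz.2 hzp (hnc z hz)⟩) ho).2
  -- elements carrying a subgroup onto `Rs`
  have hto : ∀ (R₁ : Subgroup G) (y : G), R₁ ≤ Q → R₁ < Q → y ∈ K → Nat.card R₁ = Nat.card R →
      (∀ r ∈ R₁, y * r * y⁻¹ ∈ Rs) → C R₁ y := by
    intro R₁ y hR₁ hR₁lt hy hc hyR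
    set U₁ := Subgroup.normalizer (R₁ : Set G) ⊓ Q with hU₁
    have hRU : R₁ < U₁ := by
      have := h.2.1.isNilpotent
      refine lt_of_le_of_ne (le_inf Subgroup.le_normalizer hR₁) fun heq => hR₁lt.ne ?_
      have h1 := Group.normalizerCondition_of_isNilpotent (G := Q) (R₁.subgroupOf Q)
      by_contra hne
      obtain ⟨z, hz, hzR⟩ := SetLike.exists_of_lt (h1 (lt_top_iff_ne_top.mpr fun ht => hne
        (le_antisymm hR₁ fun w hw => (ht.ge (Subgroup.mem_top (⟨w, hw⟩ : Q)) : w ∈ R₁))))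
      refine hzR (Subgroup.mem_subgroupOf.mpr (heq.ge ⟨Subgroup.mem_normalizer_iff.mpr fun w => ?_, z.2⟩))
      constructor
      · intro hw
        exact Subgroup.mem_subgroupOf.mp ((Subgroup.mem_normalizer_iff.mp hz ⟨w, hR₁ hw⟩).mp hw)
      · intro hw
        have hwQ : w ∈ Q := by
          have := Q.mul_mem (Q.mul_mem (Q.inv_mem z.2) (hR₁ hw)) z.2
          simpa [mul_assoc] using this
        exact Subgroup.mem_subgroupOf.mp ((Subgroup.mem_normalizer_iff.mp hz ⟨w, hwQ⟩).mpr hw)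
    have hRs' : Rs = R₁.map (MulAut.conj y).toMonoidHom := by
      refine (Subgroup.eq_of_le_of_card_ge (by rintro _ ⟨r, hr, rfl⟩; exact hyR r hr) ?_).symm
      rw [hRs, card_map_conj, card_map_conj, hc]
    obtain ⟨v, hv, hve⟩ := hUL.exists_conj (A := U₁.map (MulAut.conj y).toMonoidHom)
      ((h.2.1.to_le inf_le_right).map _) (by
        rintro _ ⟨u, hu, rfl⟩
        refine ⟨Subgroup.mem_normalizer_iff.mpr fun r => ?_,
          K.mul_mem (K.mul_mem hy (h.1 hu.2)) (K.inv_mem hy)⟩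
        have e : ∀ z : G, z ∈ Rs ↔ y⁻¹ * z * y ∈ R₁ := fun z => by
          rw [hRs', show z ∈ R₁.map (MulAut.conj y).toMonoidHom ↔ _ from Subgroup.mem_map_equiv]; rfl
        have h1 := Subgroup.mem_normalizer_iff.mp hu.1 (y⁻¹ * r * y)
        rw [e, e, h1]
        simp [mul_assoc])
    have hcard : Nat.card Q - Nat.card U₁ < n := by
      have h1 : Nat.card R₁ < Nat.card U₁ :=
        lt_of_not_ge fun hle => hRU.ne (Subgroup.eq_of_le_of_card_ge hRU.le hle)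
      have h2 : Nat.card U₁ ≤ Nat.card Q := Subgroup.card_le_of_le inf_le_right
      omega
    have hvy : ∀ u ∈ U₁, v * y * u * (v * y)⁻¹ ∈ Q := fun u hu => by
      have := (hve _ ⟨u, hu, rfl⟩).2
      simpa [mul_assoc] using this
    have h2 : C R₁ (v * y) := hmono hRU.le (ih U₁ hcard inf_le_right (v * y) (K.mul_mem hv.2 hy) hvy)
    rw [show y = v⁻¹ * (v * y) by rw [inv_mul_cancel_left]]
    refine hmul hR₁ hRsQ h2 (fun r hr => ?_) (hnorm _ (L.inv_mem hv))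
    have := (Subgroup.mem_normalizer_iff.mp hv.1 _).mp (hyR r hr)
    simpa [mul_assoc] using this
  -- from `R` to its image through `Rs`
  set R' := R.map (MulAut.conj x).toMonoidHom with hR'
  have hR'Q : R' ≤ Q := by rintro _ ⟨r, hr, rfl⟩; exact hxR r hr
  have hR'c : Nat.card R' = Nat.card R := card_map_conj R x
  have hR'lt : R' < Q := lt_of_le_of_ne hR'Q fun he => hRlt.ne
    (Subgroup.eq_of_le_of_card_ge hRQ (by rw [← hR'c, he]))
  have h1 := hto R a hRQ hRlt ha rfl fun r hr => ⟨r, hr, rfl⟩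
  have h2 := hto R' (a * x⁻¹) hR'Q hR'lt (K.mul_mem ha (K.inv_mem hx)) hR'c (by
    rintro _ ⟨r, hr, rfl⟩
    exact ⟨r, hr, by simp [mul_assoc]⟩)
  have h3 : C Rs (a * x⁻¹)⁻¹ := hinv hR'Q hRsQ h2
    (by rintro _ ⟨r, hr, rfl⟩; exact ⟨r, hr, by simp [mul_assoc]⟩)
    (by rintro _ ⟨r, hr, rfl⟩; exact ⟨r, hr, by simp [mul_assoc]⟩)
  have := hmul hRQ hRsQ h1 (fun r hr => ⟨r, hr, rfl⟩) h3
  simpa [mul_assoc] using this

end finite

end CfsgLib.Meet
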