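import Cfsg.Agent.Lib.Fusion.PrimeToP
import Cfsg.Agent.Lib.Fusion.ExtSaturated
import Cfsg.Agent.Lib.FusionNormal.Centric
import Cfsg.Prelude.Def_FusionComponents

/-!
# The least saturated subsystem of index prime to `p`

`res p F` is the least system containing the `p`-automorphisms of the centric subgroups and closed
under "an automorphism of `S` whose restriction to a centric subgroup is a map is a map". Every map
of `F` is an automorphism of `S` after a map of `res`; `Val` records this automorphism. By downward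
induction on the order, the values of the maps fixing a fully normalized `Q` are realised on `N_S(Q)`,
which gives saturation.
-/

namespace CfsgLib.Fusion.PPrimeRes

open Cfsg Cfsg.FusionSystem CfsgLib.Fusion CfsgLib.FusionNormal

variable {Ω : Type*} [Group Ω] {S : Subgroup Ω} {F : FusionSystem S} {P Q R B W N : Subgroup Ω}
variable {p : ℕ}

section least

variable [Finite S]

/-- The least system in `F` contained in all systems with property `C`, cut out invariantly. -/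
def leastInv (C : FusionSystem S → Prop) (F : FusionSystem S) : FusionSystem S where
  Hom P := {φ | φ ∈ F.Hom P ∧ ∀ E : FusionSystem S, C E → ∀ β : Ω → Ω,
    MapFn F S β → ∀ R : Subgroup Ω, β '' P = (R : Set Ω) →
      ∃ χ, MapFn E R χ ∧ ∀ x : P, χ (β x) = β (φ x)}
  le_of_mem h := F.le_of_mem h.1
  injective_of_mem h := F.injective_of_mem h.1
  conj_mem := by
    intro P g hP hg
    refine ⟨F.conj_mem hP hg, fun E _ β hβ R hR => ?_⟩
    have hRS : R ≤ S := fun y hy => by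
      obtain ⟨x, hx, rfl⟩ := exists_of_image hR hy
      exact hβ.mem_S (hP hx)
    exact ⟨_, mapFn_conj hRS (hβ.mem_S hg), fun x => (hβ.map_conj hg (hP x.2)).symm⟩
  comp_mem := by
    rintro P Q φ ψ ⟨hφ, hφE⟩ ⟨hψ, hψE⟩ hm
    refine ⟨F.comp_mem hφ hψ hm, fun E hE β hβ R hR => ?_⟩
    obtain ⟨R', -, hR'⟩ := (hβ.mono (le_S hψ)).exists_image
    obtain ⟨χ₁, hχ₁, hχ₁e⟩ := hφE E hE β hβ R hR
    obtain ⟨χ₂, hχ₂, hχ₂e⟩ := hψE E hE β hβ R' hR'
    refine ⟨χ₂ ∘ χ₁, hχ₁.comp hχ₂ fun y hy => ?_, fun x => ?_⟩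
    · obtain ⟨x, hx, rfl⟩ := exists_of_image hR hy
      rw [hχ₁e ⟨x, hx⟩]
      exact mem_of_image hR' (hm _)
    · show χ₂ (χ₁ _) = _
      rw [hχ₁e, hχ₂e ⟨φ x, hm x⟩]
      rfl
  inv_mem := by
    rintro P φ ⟨hφ, hφE⟩
    obtain ⟨ψ, hψ, hψe⟩ := F.inv_mem hφ
    refine ⟨ψ, ⟨hψ, fun E hE β hβ R hR => ?_⟩, hψe⟩
    obtain ⟨R', -, hR'⟩ := (hβ.mono (le_S hφ)).exists_image
    obtain ⟨χ, hχ, hχe⟩ := hφE E hE β hβ R' hR'
    have him : χ '' R' = (R : Set Ω) := by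
      rw [← hR', ← hR, Set.image_image]
      ext y
      constructor
      · rintro ⟨x, hx, rfl⟩
        exact ⟨φ ⟨x, hx⟩, ⟨_, rfl⟩, (hχe ⟨x, hx⟩).symm⟩
      · rintro ⟨_, ⟨x, rfl⟩, rfl⟩
        exact ⟨x, x.2, hχe x⟩
    obtain ⟨ξ, hξ, -, hξe, -⟩ := hχ.exists_inv him
    refine ⟨ξ, hξ, ?_⟩
    rintro ⟨_, x, rfl⟩
    rw [hψe]
    show ξ (β (φ x)) = _
    rw [← hχe]
    exact hξe _ (mem_of_image hR' x.2)

theorem leastInv_le (C : FusionSystem S → Prop) (F : FusionSystem S) : leastInv C F ≤ F :=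
  fun _ _ h => h.1

theorem leastInv_le_of {C : FusionSystem S → Prop} {E : FusionSystem S} (hE : C E) :
    leastInv C F ≤ E := by
  rintro P φ ⟨hφ, h⟩
  obtain ⟨χ, hχ, hχe⟩ := h E hE id (mapFn_id le_rfl) P (Set.image_id _)
  exact hχ.mem fun x => (hχe x).symm

/-- Transport by a map of `F` defined on `S`. -/
theorem leastInv_transport {C : FusionSystem S → Prop} {f b : Ω → Ω}
    (hf : MapFn (leastInv C F) P f) (hb : MapFn F S b) (hR : b '' P = (R : Set Ω)) :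
    ∃ g, MapFn (leastInv C F) R g ∧ ∀ x ∈ P, g (b x) = b (f x) := by
  obtain ⟨φ, ⟨hφ, hφE⟩, he⟩ := hf
  have hP := le_S hφ
  obtain ⟨b', hb', hb'r, hb'₁, -⟩ := (hb.mono hP).exists_inv hR
  have hf' : MapFn F P f := ⟨φ, hφ, he⟩
  have hg : MapFn F R (b ∘ f ∘ b') :=
    (hb'.comp hf' fun y hy => mem_of_image hb'r hy).comp hb fun y hy =>
      hf'.mem_S (mem_of_image hb'r hy)
  obtain ⟨χ, hχ, hχe⟩ := hg
  have hval : ∀ x : P, b (f (b' (b x))) = b (φ x) := fun x => by rw [hb'₁ x x.2, he]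
  refine ⟨_, ⟨χ, ⟨hχ, fun E hE β hβ R' hR' => ?_⟩, hχe⟩,
    fun x hx => (hval ⟨x, hx⟩).trans (by rw [he])⟩
  have himg : (β ∘ b) '' P = (R' : Set Ω) := by rw [Set.image_comp, hR, hR']
  obtain ⟨ξ, hξ, hξe⟩ := hφE E hE (β ∘ b) (hb.comp hβ fun y hy => hb.mem_S hy) R' himg
  refine ⟨ξ, hξ, fun y => ?_⟩
  obtain ⟨x, hx, hxy⟩ := exists_of_image hR y.2
  rw [hχe, ← hxy]
  show ξ (β (b x)) = β (b (f (b' (b x))))
  rw [hval ⟨x, hx⟩]
  exact hξe ⟨x, hx⟩

end least

/-- Contains the `p`-automorphisms of the centric subgroups, and the automorphisms of `S` that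
restrict to a map on some centric subgroup. -/
def Adm (p : ℕ) (F D : FusionSystem S) : Prop :=
  HasPAutsOnCentrics p F D ∧
    ∀ (a : Ω → Ω) (P : Subgroup Ω), F.IsCentric P → MapFn F S a → MapFn D P a → MapFn D S a

variable [Finite S]

/-- The least admissible system. -/
def res (p : ℕ) (F : FusionSystem S) : FusionSystem S := leastInv (Adm p F) F

theorem res_le (p : ℕ) (F : FusionSystem S) : res p F ≤ F := leastInv_le _ _

theorem res_le_of {E : FusionSystem S} (hE : Adm p F E) : res p F ≤ E := leastInv_le_of hE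

theorem res_mapFn {f : Ω → Ω} (hf : MapFn (res p F) P f) : MapFn F P f :=
  hom_subset_iff_mapFn.mp (res_le p F P) f hf

theorem leastPAuts_le_res : leastPAuts p F ≤ res p F := by
  rintro P φ ⟨hφ, h⟩
  exact ⟨hφ, fun E hE => h E hE.1⟩

theorem res_adm : Adm p F (res p F) := by
  refine ⟨fun P hP α hα => (mem_autGroup hP.1).mpr
    (leastPAuts_le_res P ((mem_autGroup hP.1).mp (hasPAuts_leastPAuts P hP hα))), ?_⟩
  intro a P hP ha haP
  obtain ⟨φ, hφ, hφe⟩ := ha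
  refine ⟨φ, ⟨hφ, fun E hE β hβ R hR => ?_⟩, hφe⟩
  obtain rfl : R = S := SetLike.coe_injective (hR.symm.trans (mapFn_image_S hβ))
  obtain ⟨β', hβ', -, hβ'₁, hβ'₂⟩ := hβ.exists_inv (mapFn_image_S hβ)
  have ha : MapFn F R a := ⟨φ, hφ, hφe⟩
  have hb : MapFn F R (β ∘ a ∘ β') :=
    (hβ'.comp ha fun y hy => hβ'.mem_S hy).comp hβ fun y hy => ha.mem_S (hβ'.mem_S hy)
  obtain ⟨P', -, hP'⟩ := (hβ.mono hP.1).exists_image
  obtain ⟨ψ, ⟨hψ, hψE⟩, hψe⟩ := haP
  obtain ⟨ξ, hξ, hξe⟩ := hψE E hE β hβ P' hP'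
  refine ⟨β ∘ a ∘ β', hE.2 _ P' (IsCentric.of_conj hP ((hβ.mono hP.1).isConj hP')) hb
    (hξ.congr fun y hy => ?_), fun x => ?_⟩
  · obtain ⟨x, hx, rfl⟩ := exists_of_image hP' hy
    rw [hξe ⟨x, hx⟩, hψe]
    show _ = β (a (β' (β x)))
    rw [hβ'₁ x (hP.1 hx)]
  · show β (a (β' (β x))) = _
    rw [hβ'₁ x x.2, hφe]

/-! ### Automorphisms of `S` as functions -/

open Classical in
/-- An automorphism of `S`, read on `Ω`. -/
noncomputable def ev (α : MulAut S) (x : Ω) : Ω := if h : x ∈ S then ((α ⟨x, h⟩ : S) : Ω) else x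

omit [Finite S] in
theorem ev_coe (α : MulAut S) {x : Ω} (h : x ∈ S) : ev α x = ((α ⟨x, h⟩ : S) : Ω) := dif_pos h

omit [Finite S] in
theorem ev_mem (α : MulAut S) {x : Ω} (h : x ∈ S) : ev α x ∈ S := by
  rw [ev_coe α h]; exact Subtype.mem _

omit [Finite S] in
theorem ev_mul (α β : MulAut S) {x : Ω} (h : x ∈ S) : ev (α * β) x = ev α (ev β x) := by
  rw [ev_coe _ h, ev_coe β h, ev_coe α (Subtype.mem _)]; rfl

omit [Finite S] in
theorem ev_one {x : Ω} (h : x ∈ S) : ev (1 : MulAut S) x = x := by rw [ev_coe _ h]; rfl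

omit [Finite S] in
theorem ev_inv_ev (α : MulAut S) {x : Ω} (h : x ∈ S) : ev α⁻¹ (ev α x) = x := by
  rw [← ev_mul _ _ h, inv_mul_cancel, ev_one h]

omit [Finite S] in
theorem ev_ev_inv (α : MulAut S) {x : Ω} (h : x ∈ S) : ev α (ev α⁻¹ x) = x := by
  rw [← ev_mul _ _ h, mul_inv_cancel, ev_one h]

omit [Finite S] in
theorem mem_autGroup_iff_ev {E : FusionSystem S} {α : MulAut S} :
    α ∈ E.autGroup S ↔ MapFn E S (ev α) := by
  rw [mem_autGroup_iff_mapFn le_rfl]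
  constructor
  · rintro ⟨f, hf, he⟩
    exact hf.congr fun x hx => by rw [ev_coe α hx]; exact he ⟨x, hx⟩
  · exact fun h => ⟨_, h, fun x => ev_coe α x.2⟩

theorem res_autGroup_le : (res p F).autGroup S ≤ F.autGroup S := fun α hα =>
  mem_autGroup_iff_ev.mpr (res_mapFn (mem_autGroup_iff_ev.mp hα))

/-! ### Values -/

/-- `f` is `α` after a map of `res`. -/
def Val (p : ℕ) (F : FusionSystem S) (P : Subgroup Ω) (f : Ω → Ω) (α : MulAut S) : Prop :=
  α ∈ F.autGroup S ∧ ∃ f₀, MapFn (res p F) P f₀ ∧ ∀ x ∈ P, f x = ev α (f₀ x)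

variable {f g : Ω → Ω} {α β γ κ : MulAut S}

theorem Val.mapFn (h : Val p F P f α) : MapFn F P f := by
  obtain ⟨hα, f₀, hf₀, he⟩ := h
  exact ((res_mapFn hf₀).comp (mem_autGroup_iff_ev.mp hα) fun x hx => hf₀.mem_S hx).congr
    fun x hx => (he x hx).symm

theorem Val.congr (h : Val p F P f α) (e : ∀ x ∈ P, f x = g x) : Val p F P g α := by
  obtain ⟨hα, f₀, hf₀, he⟩ := h
  exact ⟨hα, f₀, hf₀, fun x hx => (e x hx).symm.trans (he x hx)⟩

theorem Val.mono (h : Val p F P f α) (hR : R ≤ P) : Val p F R f α := by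
  obtain ⟨hα, f₀, hf₀, he⟩ := h
  exact ⟨hα, f₀, hf₀.mono hR, fun x hx => he x (hR hx)⟩

theorem val_of_res (hf : MapFn (res p F) P f) : Val p F P f 1 :=
  ⟨Subgroup.one_mem _, f, hf, fun _ hx => (ev_one (hf.mem_S hx)).symm⟩

theorem Val.res_of_one (h : Val p F P f 1) : MapFn (res p F) P f := by
  obtain ⟨-, f₀, hf₀, he⟩ := h
  exact hf₀.congr fun x hx => by rw [he x hx, ev_one (hf₀.mem_S hx)]

theorem val_ev (hP : P ≤ S) (hα : α ∈ F.autGroup S) : Val p F P (ev α) α :=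
  ⟨hα, id, mapFn_id hP, fun _ _ => rfl⟩

theorem Val.comp (hf : Val p F P f α) (hg : Val p F Q g β) (h : ∀ x ∈ P, f x ∈ Q) :
    Val p F P (g ∘ f) (β * α) := by
  obtain ⟨hα, f₀, hf₀, hfe⟩ := hf
  obtain ⟨hβ, g₀, hg₀, hge⟩ := hg
  have ha := mem_autGroup_iff_ev.mp (Subgroup.inv_mem _ hα)
  obtain ⟨R, -, hR⟩ := (ha.mono hg₀.le_S).exists_image
  obtain ⟨χ, hχ, hχe⟩ := leastInv_transport hg₀ ha hR
  have hval : ∀ x ∈ P, f₀ x = ev α⁻¹ (f x) := fun x hx => by
    rw [hfe x hx, ev_inv_ev _ (hf₀.mem_S hx)]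
  refine ⟨Subgroup.mul_mem _ hβ hα, χ ∘ f₀, hf₀.comp hχ fun x hx => ?_, fun x hx => ?_⟩
  · rw [hval x hx]; exact mem_of_image hR (h x hx)
  · show g (f x) = ev (β * α) (χ (f₀ x))
    rw [hval x hx, hχe _ (h x hx), hge _ (h x hx), ev_mul β α (ev_mem _ (hg₀.mem_S (h x hx))),
      ev_ev_inv _ (hg₀.mem_S (h x hx))]

theorem Val.inv (hf : Val p F P f α) (hfr : f '' P = (R : Set Ω)) (hgf : ∀ x ∈ P, g (f x) = x) :
    Val p F R g α⁻¹ := by
  obtain ⟨hα, f₀, hf₀, hfe⟩ := hf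
  obtain ⟨R₀, -, hR₀⟩ := hf₀.exists_image
  obtain ⟨g₀, hg₀, -, hg₀e, -⟩ := hf₀.exists_inv hR₀
  have hR : ev α '' R₀ = (R : Set Ω) := by
    rw [← hR₀, ← hfr, Set.image_image]
    exact Set.image_congr fun x hx => (hfe x hx).symm
  obtain ⟨χ, hχ, hχe⟩ := leastInv_transport hg₀ (mem_autGroup_iff_ev.mp hα) hR
  refine ⟨Subgroup.inv_mem _ hα, χ, hχ, fun y hy => ?_⟩
  obtain ⟨x, hx, rfl⟩ := exists_of_image hfr hy
  rw [hgf x hx, hfe x hx, hχe _ (mem_of_image hR₀ hx), hg₀e x hx, ev_inv_ev _ (hf₀.le_S hx)]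

theorem Val.mul_right (h : Val p F P f α) (hγ : γ ∈ (res p F).autGroup S) :
    Val p F P f (α * γ) := by
  obtain ⟨hα, f₀, hf₀, he⟩ := h
  refine ⟨Subgroup.mul_mem _ hα (res_autGroup_le hγ), ev γ⁻¹ ∘ f₀,
    hf₀.comp (mem_autGroup_iff_ev.mp (Subgroup.inv_mem _ hγ)) fun x hx => hf₀.mem_S hx,
    fun x hx => ?_⟩
  show f x = ev (α * γ) (ev γ⁻¹ (f₀ x))
  rw [ev_mul α γ (ev_mem _ (hf₀.mem_S hx)), ev_ev_inv _ (hf₀.mem_S hx), he x hx]

theorem Val.unique (hP : F.IsCentric P) (h₁ : Val p F P f α) (h₂ : Val p F P f β) :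
    β⁻¹ * α ∈ (res p F).autGroup S := by
  obtain ⟨hα, f₀, hf₀, hfe⟩ := h₁
  obtain ⟨hβ, f₁, hf₁, hge⟩ := h₂
  obtain ⟨R₀, -, hR₀⟩ := hf₀.exists_image
  obtain ⟨g₀, hg₀, hg₀r, hg₀e, -⟩ := hf₀.exists_inv hR₀
  refine mem_autGroup_iff_ev.mpr (res_adm.2 _ R₀
    (IsCentric.of_conj hP ((res_mapFn hf₀).isConj hR₀))
    (mem_autGroup_iff_ev.mp (Subgroup.mul_mem _ (Subgroup.inv_mem _ hβ) hα)) ?_)
  refine (hg₀.comp hf₁ fun y hy => mem_of_image hg₀r hy).congr fun y hy => ?_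
  obtain ⟨x, hx, rfl⟩ := exists_of_image hR₀ hy
  show f₁ (g₀ (f₀ x)) = _
  rw [hg₀e x hx, ev_mul β⁻¹ α (hf₀.mem_S hx), ← hfe x hx, hge x hx, ev_inv_ev _ (hf₁.mem_S hx)]

theorem Val.exists_inv (hf : Val p F P f α) (hfr : f '' P = (R : Set Ω)) :
    ∃ g, Val p F R g α⁻¹ ∧ g '' R = (P : Set Ω) ∧ (∀ x ∈ P, g (f x) = x) ∧
      ∀ y ∈ R, f (g y) = y := by
  obtain ⟨g, -, hgr, hg₁, hg₂⟩ := hf.mapFn.exists_inv hfr
  exact ⟨g, hf.inv hfr hg₁, hgr, hg₁, hg₂⟩

theorem exists_val [Fact p.Prime] (hS : IsPGroup p S) (hF : F.IsSaturated p)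
    (hf : MapFn F P f) : ∃ α, Val p F P f α := by
  obtain ⟨a, f₀, ha, hf₀, he⟩ := factors_of_map hS hF P f hf
  obtain ⟨α, hα, hαe⟩ := ha.exists_aut (mapFn_image_S ha)
  exact ⟨α, hα, f₀, hom_subset_iff_mapFn.mp (leastPAuts_le_res P) f₀ hf₀, fun x hx => by
    rw [he x hx, ev_coe α (hf₀.mem_S hx), hαe]⟩

/-! ### Values of maps fixing a subgroup -/

/-- `α` is the value of a map on `N_S(Q)` fixing `Q`. -/
def InA (p : ℕ) (F : FusionSystem S) (Q : Subgroup Ω) (α : MulAut S) : Prop :=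
  ∃ a, Val p F (normalizerIn S Q) a α ∧ ∀ x ∈ Q, a x = x

omit [Finite S] in
theorem image_eq_of_fixed {a : Ω → Ω} (h : ∀ x ∈ Q, a x = x) : a '' Q = (Q : Set Ω) :=
  (Set.image_congr h).trans (Set.image_id' _)

theorem image_normalizerIn_of_fixed {a : Ω → Ω} (ha : MapFn F (normalizerIn S Q) a)
    (hQ : Q ≤ S) (h : ∀ x ∈ Q, a x = x) :
    a '' (normalizerIn S Q) = (normalizerIn S Q : Set Ω) :=
  ha.image_eq_of_maps normalizerIn_le
    (fun _ hx => ha.mem_normalizerIn (le_normalizerIn hQ) (image_eq_of_fixed h) hx hx.2) le_rfl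

theorem InA.mem (h : InA p F Q α) : α ∈ F.autGroup S := by
  obtain ⟨a, ha, -⟩ := h; exact ha.1

theorem inA_of_res (hQ : Q ≤ S) (hγ : γ ∈ (res p F).autGroup S) : InA p F Q γ := by
  refine ⟨id, ?_, fun _ _ => rfl⟩
  have := (val_of_res (p := p) (F := F) (mapFn_id (normalizerIn_le (P := Q)))).mul_right hγ
  rwa [one_mul] at this

theorem InA.mul (hQ : Q ≤ S) (hα : InA p F Q α) (hβ : InA p F Q β) : InA p F Q (α * β) := by
  obtain ⟨a, ha, hae⟩ := hα
  obtain ⟨b, hb, hbe⟩ := hβ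
  exact ⟨a ∘ b, hb.comp ha fun x hx =>
      mem_of_image (image_normalizerIn_of_fixed hb.mapFn hQ hbe) hx,
    fun x hx => by show a (b x) = x; rw [hbe x hx, hae x hx]⟩

theorem InA.inv (hQ : Q ≤ S) (hα : InA p F Q α) : InA p F Q α⁻¹ := by
  obtain ⟨a, ha, hae⟩ := hα
  obtain ⟨g, hg, -, hg₁, -⟩ := ha.exists_inv (image_normalizerIn_of_fixed ha.mapFn hQ hae)
  refine ⟨g, hg, fun x hx => ?_⟩
  have := hg₁ x (le_normalizerIn hQ hx)
  rwa [hae x hx] at this

theorem InA.mul_res (hQ : Q ≤ S) (hα : InA p F Q α) (hγ : γ ∈ (res p F).autGroup S) :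
    InA p F Q (α * γ) := hα.mul hQ (inA_of_res hQ hγ)

/-! ### The normalizer system of `Q` with automorphisms induced by `S` -/

section fixed

variable {T : Subgroup Ω} {K : Subgroup (MulAut Q)} {hQ : Q ≤ S} {hT : IsKNormalizer S Q K T}

theorem mapFn_ext (hP : P ≤ T) {g : Ω → Ω} (hg : MapFn F (P ⊔ Q) g) (hm : ∀ x ∈ P, g x ∈ T)
    {k : MulAut Q} (hk : k ∈ K) (hke : ∀ x : Q, g x = ((k x : Q) : Ω)) :
    MapFn (extSystem F hQ K T hT) P g := by
  obtain ⟨φ, hφ, he⟩ := hg.mono (le_sup_left : P ≤ P ⊔ Q)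
  obtain ⟨ψ, hψ, hψe⟩ := hg
  exact ⟨φ, ⟨hφ, hP, fun x => by rw [he]; exact hm x x.2, ψ, hψ,
    fun x => (hψe _).trans (he x).symm, k, hk, fun x => (hψe _).trans (hke x)⟩, he⟩

theorem exists_of_mapFn_ext (h : MapFn (extSystem F hQ K T hT) P f) :
    MapFn F P f ∧ ∃ g, MapFn F (P ⊔ Q) g ∧ (∀ x ∈ P, g x = f x) ∧
      ∃ k ∈ K, ∀ x : Q, g x = ((k x : Q) : Ω) := by
  obtain ⟨φ, ⟨hφ, hP, hm, ψ, hψ, hψe, k, hk, hke⟩, he⟩ := h
  obtain ⟨g, hg, hge⟩ := mapFn_of_hom hψ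
  refine ⟨⟨φ, hφ, he⟩, g, hg, fun x hx => ?_, k, hk, fun x => ?_⟩
  · exact ((hge ⟨x, Subgroup.mem_sup_left hx⟩).symm.trans (hψe ⟨x, hx⟩)).trans (he ⟨x, hx⟩)
  · exact (hge ⟨x, Subgroup.mem_sup_right x.2⟩).symm.trans (hke x)

/-- The maps of `res` lying in `N_F^K(Q)`. -/
def resExt (p : ℕ) (F : FusionSystem S) (hQ : Q ≤ S) (K : Subgroup (MulAut Q)) (T : Subgroup Ω)
    (hT : IsKNormalizer S Q K T) : FusionSystem T where
  Hom P := {φ | φ ∈ (res p F).Hom P ∧ φ ∈ (extSystem F hQ K T hT).Hom P}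
  le_of_mem h := (extSystem F hQ K T hT).le_of_mem h.2
  injective_of_mem h := (extSystem F hQ K T hT).injective_of_mem h.2
  conj_mem hP hg := ⟨(res p F).conj_mem (hP.trans hT.le) (hT.le hg),
    (extSystem F hQ K T hT).conj_mem hP hg⟩
  comp_mem hφ hψ h := ⟨(res p F).comp_mem hφ.1 hψ.1 h,
    (extSystem F hQ K T hT).comp_mem hφ.2 hψ.2 h⟩
  inv_mem := by
    rintro P φ ⟨h₁, h₂⟩
    obtain ⟨ψ, hψ, hψe⟩ := (res p F).inv_mem h₁
    obtain ⟨χ, hχ, hχe⟩ := (extSystem F hQ K T hT).inv_mem h₂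
    have : ψ = χ := MonoidHom.ext fun ⟨_, x, rfl⟩ => (hψe x).trans (hχe x).symm
    exact ⟨ψ, ⟨hψ, this ▸ hχ⟩, hψe⟩

end fixed

omit [Finite S] in
theorem coe_pow_restrict {A : Subgroup Ω} (hAW : A ≤ W) {a : MulAut A} {b : MulAut W}
    (h : ∀ x : A, ((b ⟨x, hAW x.2⟩ : W) : Ω) = ((a x : A) : Ω)) (m : ℕ) :
    ∀ x : A, (((b ^ m) ⟨x, hAW x.2⟩ : W) : Ω) = (((a ^ m) x : A) : Ω) := by
  induction m with
  | zero => intro x; simp
  | succ m ih =>
    intro x
    rw [pow_succ, pow_succ, MulAut.mul_apply, MulAut.mul_apply]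
    rw [show b ⟨x, hAW x.2⟩ = ⟨((a x : A) : Ω), hAW (a x).2⟩ from Subtype.ext (h x)]
    exact ih (a x)

section saturated

variable [Fact p.Prime]

theorem card_centralizer_eq (hQ : F.IsFullyCentralized Q) (hQ' : F.IsFullyCentralized P)
    (h : F.IsConj Q P) : Nat.card (centralizerIn S P) = Nat.card (centralizerIn S Q) :=
  le_antisymm (hQ.2 P h) (hQ'.2 Q (isConj_symm h))

/-- A map between fully centralized subgroups carries centralizer onto centralizer. -/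
theorem image_centralizer (hQ : F.IsFullyCentralized Q) (hP : F.IsFullyCentralized P) {f : Ω → Ω}
    (hf : MapFn F N f) (hQN : Q ≤ N) (hCN : centralizerIn S Q ≤ N)
    (hfr : f '' Q = (P : Set Ω)) :
    f '' (centralizerIn S Q) = (centralizerIn S P : Set Ω) :=
  (hf.mono hCN).image_eq_of_maps centralizerIn_le
    (fun _ hx => hf.mem_centralizerIn hQN hfr (hCN hx) hx)
    (card_centralizer_eq hQ hP ((hf.mono hQN).isConj hfr)).le

theorem isCentric_sup_centralizer (hQ : F.IsFullyCentralized Q) :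
    F.IsCentric (Q ⊔ centralizerIn S Q) := by
  refine ⟨sup_le hQ.1 centralizerIn_le, fun W hW => ?_⟩
  obtain ⟨f, hf, hr⟩ := isConj_iff.mp hW
  obtain ⟨P, -, hP⟩ := (hf.mono le_sup_left).exists_image
  have hPW : P ≤ W := fun y hy => by
    obtain ⟨x, hx, rfl⟩ := exists_of_image hP hy
    exact mem_of_image hr (Subgroup.mem_sup_left hx)
  obtain ⟨f', hf', hf'r, hf'₁, -⟩ := (hf.mono le_sup_left).exists_inv hP
  have hle : Nat.card (centralizerIn S P) ≤ Nat.card (centralizerIn S Q) :=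
    hQ.2 P ((hf.mono le_sup_left).isConj hP)
  have him := (hf.mono (le_sup_right : centralizerIn S Q ≤ Q ⊔ _)).image_eq_of_maps centralizerIn_le
    (fun x hx => hf.mem_centralizerIn le_sup_left hP (Subgroup.mem_sup_right hx) hx) hle
  intro c hc
  have hcP : c ∈ centralizerIn S P :=
    mem_centralizerIn.mpr ⟨hc.1, fun y hy => (mem_centralizerIn.mp hc).2 y (hPW hy)⟩
  obtain ⟨x, hx, rfl⟩ := exists_of_image him hcP
  exact mem_of_image hr (Subgroup.mem_sup_right hx)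

theorem sup_le_normalizerIn (hQ : Q ≤ S) : Q ⊔ centralizerIn S Q ≤ normalizerIn S Q :=
  sup_le (le_normalizerIn hQ) centralizerIn_le_normalizerIn

/-- An extension of `v|Q` with target `Q'` to `N Q C_S(Q)`, for `N ≤ N_S(Q)` with `v` defined on `N`. -/
theorem exists_ext_agree (hS : IsPGroup p S) (hF : F.IsSaturated p) (hQ' : F.IsFullyNormalized R)
    {v : Ω → Ω} (hv : MapFn F N v) (hQN : Q ≤ N) (hN : N ≤ normalizerIn S Q)
    (hvr : v '' Q = (R : Set Ω)) :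
    ∃ d, MapFn F (N ⊔ centralizerIn S Q) d ∧ ∀ x ∈ Q, d x = v x := by
  obtain ⟨φ, hφ, he⟩ := hv.mono hQN
  have hφr : φ.range = R := SetLike.coe_injective (by rw [← MapFn.image_eq_range he, hvr])
  obtain ⟨ψ, hψ, hψe⟩ := Fusion.exists_extension (fullyNormalized_good hS hF hQ').2 hφ hφr
    (hQN.trans le_sup_left : Q ≤ N ⊔ centralizerIn S Q)
    (sup_le (fun g hg => mem_extender.mpr ⟨(hN hg).1, (hN hg).2, v g, hv.mem_S hg, fun x hx => by
      rw [he, he]; exact hv.map_conj hg (hQN x.2)⟩) centralizerIn_le_extender)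
  obtain ⟨d, hd, hde⟩ := mapFn_of_hom hψ
  exact ⟨d, hd, fun x hx =>
    ((hde ⟨x, Subgroup.mem_sup_left (hQN hx)⟩).symm.trans (hψe ⟨x, hx⟩)).trans (he ⟨x, hx⟩)⟩

/-- A centric subgroup of `N_F^{Aut_S(Q)}(Q)` times `Q` is centric in `F`. -/
theorem isCentric_sup_of_ext (hS : IsPGroup p S) (hF : F.IsSaturated p)
    (hQn : F.IsFullyNormalized Q) {K : Subgroup (MulAut Q)}
    {hT : IsKNormalizer S Q K (normalizerIn S Q)}
    (hP : (extSystem F hQn.1 K (normalizerIn S Q) hT).IsCentric P) :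
    F.IsCentric (P ⊔ Q) := by
  have hQS := hQn.1
  have hPT := hP.1
  have hWT : P ⊔ Q ≤ normalizerIn S Q := sup_le hPT (le_normalizerIn hQS)
  refine ⟨hWT.trans normalizerIn_le, fun W₁ hW₁ c hc => ?_⟩
  obtain ⟨f, hf, hr⟩ := isConj_iff.mp hW₁
  obtain ⟨Q₁, hQ₁S, hQ₁⟩ := (hf.mono le_sup_right).exists_image
  have hQW : Q₁ ≤ W₁ := fun y hy => by
    obtain ⟨x, hx, rfl⟩ := exists_of_image hQ₁ hy
    exact mem_of_image hr (Subgroup.mem_sup_right hx)
  obtain ⟨h, hh, hhr, hhm⟩ := exists_normalizer_mapFn hS hF hQn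
    (isConj_symm ((hf.mono le_sup_right).isConj hQ₁))
  have hW₁N : W₁ ≤ normalizerIn S Q₁ := fun y hy => by
    obtain ⟨x, hx, rfl⟩ := exists_of_image hr hy
    exact hf.mem_normalizerIn le_sup_right hQ₁ hx (hWT hx).2
  have hcQ₁ : c ∈ centralizerIn S Q₁ :=
    mem_centralizerIn.mpr ⟨hc.1, fun y hy => (mem_centralizerIn.mp hc).2 y (hQW hy)⟩
  have hu : MapFn F (P ⊔ Q) (h ∘ f) := hf.comp hh fun x hx => hW₁N (mem_of_image hr hx)
  have hur : (h ∘ f) '' Q = (Q : Set Ω) := image_comp hQ₁ hhr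
  obtain ⟨W₂, -, hW₂⟩ := hu.exists_image
  obtain ⟨u', hu', hu'r, hu'₁, -⟩ := hu.exists_inv hW₂
  have hQW₂ : Q ≤ W₂ := fun y hy => by
    obtain ⟨x, hx, rfl⟩ := exists_of_image hur hy
    exact mem_of_image hW₂ (Subgroup.mem_sup_right hx)
  have hW₂N : W₂ ≤ normalizerIn S Q := fun y hy => by
    obtain ⟨x, hx, rfl⟩ := exists_of_image hW₂ hy
    exact hhm _ (hW₁N (mem_of_image hr hx))
  have hu'Q : u' '' Q = (Q : Set Ω) := by
    ext y
    constructor
    · rintro ⟨x, hx, rfl⟩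
      obtain ⟨z, hz, rfl⟩ := exists_of_image hur hx
      rwa [hu'₁ z (Subgroup.mem_sup_right hz)]
    · intro hy
      exact ⟨_, mem_of_image hur hy, hu'₁ y (Subgroup.mem_sup_right hy)⟩
  obtain ⟨d, hd, hde⟩ := exists_ext_agree hS hF hQn hu' hQW₂ hW₂N hu'Q
  have hdQ : d '' Q = (Q : Set Ω) := (Set.image_congr hde).trans hu'Q
  have hdT : ∀ y ∈ W₂ ⊔ centralizerIn S Q, d y ∈ normalizerIn S Q := fun y hy =>
    hd.mem_normalizerIn (hQW₂.trans le_sup_left) hdQ hy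
      ((sup_le hW₂N centralizerIn_le_normalizerIn) hy).2
  have hnew : MapFn F (P ⊔ Q) (d ∘ (h ∘ f)) :=
    hu.comp hd fun x hx => Subgroup.mem_sup_left (mem_of_image hW₂ hx)
  obtain ⟨P₃, -, hP₃⟩ := (hnew.mono le_sup_left).exists_image
  have hfix : ∀ x ∈ Q, (d ∘ (h ∘ f)) x = x := fun x hx => by
    show d ((h ∘ f) x) = x
    rw [hde _ (mem_of_image hur hx), hu'₁ x (Subgroup.mem_sup_right hx)]
  have hconj := (mapFn_ext (hQ := hQS) (hT := hT) hPT hnew
    (fun x hx => hdT _ (Subgroup.mem_sup_left (mem_of_image hW₂ (Subgroup.mem_sup_left hx))))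
    K.one_mem fun x => hfix x x.2).isConj hP₃
  have hhc : h c ∈ centralizerIn S Q :=
    hh.mem_centralizerIn (le_normalizerIn hQ₁S) hhr (centralizerIn_le_normalizerIn hcQ₁) hcQ₁
  have hc' : d (h c) ∈ centralizerIn (normalizerIn S Q) P₃ := by
    refine mem_centralizerIn.mpr ⟨hdT _ (Subgroup.mem_sup_right hhc), fun y hy => ?_⟩
    obtain ⟨x, hx, rfl⟩ := exists_of_image hP₃ hy
    have hfx : f x ∈ W₁ := mem_of_image hr (Subgroup.mem_sup_left hx)
    have hcN := centralizerIn_le_normalizerIn hcQ₁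
    have hm : h (f x) ∈ W₂ ⊔ centralizerIn S Q :=
      Subgroup.mem_sup_left (mem_of_image hW₂ (Subgroup.mem_sup_left hx))
    show d (h (f x)) * d (h c) = d (h c) * d (h (f x))
    rw [← hd.map_mul hm (Subgroup.mem_sup_right hhc), ← hd.map_mul (Subgroup.mem_sup_right hhc) hm,
      ← hh.map_mul (hW₁N hfx) hcN, ← hh.map_mul hcN (hW₁N hfx),
      (mem_centralizerIn.mp hc).2 _ hfx]
  obtain ⟨x, hx, hxe⟩ := exists_of_image hP₃ (hP.2 P₃ hconj hc')
  have h1 : h (f x) = h c := hd.injOn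
    (Subgroup.mem_sup_left (mem_of_image hW₂ (Subgroup.mem_sup_left hx)))
    (Subgroup.mem_sup_right hhc) hxe
  rw [← hh.injOn (hW₁N (mem_of_image hr (Subgroup.mem_sup_left hx)))
    (centralizerIn_le_normalizerIn hcQ₁) h1]
  exact mem_of_image hr (Subgroup.mem_sup_left hx)

theorem hasPAuts_resExt (hS : IsPGroup p S) (hF : F.IsSaturated p) (hQn : F.IsFullyNormalized Q)
    {hT : IsKNormalizer S Q (autInducedBy S Q) (normalizerIn S Q)} :
    HasPAutsOnCentrics p (extSystem F hQn.1 (autInducedBy S Q) (normalizerIn S Q) hT)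
      (resExt p F hQn.1 (autInducedBy S Q) (normalizerIn S Q) hT) := by
  intro P hP
  refine pPrimeAut_le fun α hα k hk => ?_
  have hm := (mem_autGroup hP.1).mp hα
  refine (mem_autGroup hP.1).mpr ⟨?_, hm⟩
  obtain ⟨a, ha, har, hae⟩ := exists_mapFn_of_aut hP.1 hα
  obtain ⟨-, g, hg, hge, κ, hκ, hκe⟩ := exists_of_mapFn_ext ha
  have hW := isCentric_sup_of_ext hS hF hQn hP
  have hgm : ∀ x ∈ P ⊔ Q, g x ∈ P ⊔ Q := hg.maps_sup
    (fun x hx => by rw [hge x hx]; exact Subgroup.mem_sup_left (mem_of_image har hx))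
    (fun x hx => by rw [hκe ⟨x, hx⟩]; exact Subgroup.mem_sup_right (Subtype.mem _))
  obtain ⟨b, hb, hbe⟩ := hg.exists_aut (hg.image_eq_of_maps hW.1 hgm le_rfl)
  obtain ⟨l, hl⟩ := isPGroup_autInducedBy hS Q ⟨κ, hκ⟩
  have hl' : κ ^ p ^ l = 1 := congrArg Subtype.val hl
  have hbP : ∀ x : P, ((b ⟨x, Subgroup.mem_sup_left x.2⟩ : ↥(P ⊔ Q)) : Ω) = ((α x : P) : Ω) :=
    fun x => ((hbe _).trans (hge x x.2)).trans (hae x)
  have hbQ : ∀ x : Q, ((b ⟨x, Subgroup.mem_sup_right x.2⟩ : ↥(P ⊔ Q)) : Ω) = ((κ x : Q) : Ω) :=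
    fun x => (hbe _).trans (hκe x)
  have hpow : b ^ p ^ (k + l) = 1 := by
    have hαk : α ^ p ^ (k + l) = 1 := by
      rw [pow_add, pow_mul, ← hk, pow_orderOf_eq_one, one_pow]
    have hκk : κ ^ p ^ (k + l) = 1 := by
      rw [add_comm, pow_add, pow_mul, hl', one_pow]
    let φ : ↥(P ⊔ Q) →* Ω := (P ⊔ Q).subtype.comp (b ^ p ^ (k + l)).toMonoidHom
    have hle : P ⊔ Q ≤ (φ.eqLocus (P ⊔ Q).subtype).map (P ⊔ Q).subtype :=
      sup_le
        (fun x hx => ⟨⟨x, Subgroup.mem_sup_left hx⟩, by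
          show (((b ^ p ^ (k + l)) ⟨x, _⟩ : ↥(P ⊔ Q)) : Ω) = x
          rw [coe_pow_restrict le_sup_left hbP _ ⟨x, hx⟩, hαk]; rfl, rfl⟩)
        (fun x hx => ⟨⟨x, Subgroup.mem_sup_right hx⟩, by
          show (((b ^ p ^ (k + l)) ⟨x, _⟩ : ↥(P ⊔ Q)) : Ω) = x
          rw [coe_pow_restrict le_sup_right hbQ _ ⟨x, hx⟩, hκk]; rfl, rfl⟩)
    refine MulEquiv.ext fun x => Subtype.ext ?_
    obtain ⟨y, hy, hyx⟩ := hle x.2
    obtain rfl : y = x := Subtype.ext hyx
    exact hy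
  obtain ⟨j, -, hj⟩ := (Nat.dvd_prime_pow (Fact.out : p.Prime)).mp (orderOf_dvd_of_pow_eq_one hpow)
  obtain ⟨c, hc, -, hce⟩ := exists_mapFn_of_aut hW.1 (res_adm.1 _ hW (mem_pPrimeAut_of_pow hb hj))
  exact (hc.mono le_sup_left).mem fun x =>
    ((hce ⟨x, Subgroup.mem_sup_left x.2⟩).trans (hbP x)).symm

/-- The values of maps fixing a fully normalized `Q` on overgroups in `N_S(Q)`. -/
theorem exists_inA_of_fixed (hS : IsPGroup p S) (hF : F.IsSaturated p)
    (hQn : F.IsFullyNormalized Q) (hQW : Q ≤ W) (hW : W ≤ normalizerIn S Q)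
    (hf : MapFn F W f) (hfix : ∀ x ∈ Q, f x = x) : ∃ α, InA p F Q α ∧ Val p F W f α := by
  have hQS := hQn.1
  obtain ⟨-, hQr⟩ := fullyNormalized_good hS hF hQn
  haveI := finite_of_le (normalizerIn_le (S := S) (P := Q))
  haveI := finite_mulAut hQS
  have hT : IsKNormalizer S Q (autInducedBy S Q) (normalizerIn S Q) := fun g =>
    and_congr_right fun hg => ⟨fun hn => by
      obtain ⟨a, ha, hae⟩ := exists_autInducedBy (K := S) hg hn
      exact ⟨a, ha, hae⟩, fun ⟨a, _, h⟩ => mem_normalizer_of_aut h⟩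
  have hK : Nat.card ↥(autInducedBy S Q ⊓ autInducedBy S Q) =
      p ^ (Nat.card ↥(autInducedBy S Q ⊓ F.autGroup Q)).factorization p := by
    rw [inf_idem, inf_eq_left.mpr (autInducedBy_le_autGroup hQS)]
    obtain ⟨n, hn⟩ := IsPGroup.iff_card.mp (isPGroup_autInducedBy hS Q)
    rw [hn, Nat.Prime.factorization_pow (Fact.out : p.Prime), Finsupp.single_eq_same]
  have hMs := extSystem_saturated hS hF hQr hK hT
  have hTp : IsPGroup p (normalizerIn S Q) := hS.to_le normalizerIn_le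
  set M := extSystem F hQr.1 (autInducedBy S Q) (normalizerIn S Q) hT with hM
  have hfT : ∀ x ∈ W, f x ∈ normalizerIn S Q := fun x hx =>
    hf.mem_normalizerIn hQW (image_eq_of_fixed hfix) hx (hW hx).2
  have hfM : MapFn M W f := mapFn_ext hW (hf.mono (sup_le le_rfl hQW)) hfT
    (autInducedBy S Q).one_mem fun x => hfix x x.2
  obtain ⟨a, f₀, ha, hf₀, he⟩ := factors_of_map hTp hMs W f hfM
  have hf₀' : MapFn (resExt p F hQr.1 (autInducedBy S Q) (normalizerIn S Q) hT) W f₀ :=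
    hom_subset_iff_mapFn.mp (leastPAuts_le_of (hasPAuts_resExt hS hF hQn) W) f₀ hf₀
  have hf₀r : MapFn (res p F) W f₀ := by
    obtain ⟨φ, hφ, hφe⟩ := hf₀'
    exact ⟨φ, hφ.1, hφe⟩
  obtain ⟨haF, g, hg, hge, κ, hκ, hκe⟩ := exists_of_mapFn_ext ha
  have hQT : Q ≤ normalizerIn S Q := le_normalizerIn hQS
  obtain ⟨s, hs, hse⟩ := mem_autInducedBy.mp hκ
  have hsQ : ∀ x ∈ Q, a x = s * x * s⁻¹ := fun x hx => by
    rw [← hge x (hQT hx), hκe ⟨x, hx⟩, hse]
  have hsi : MapFn F (normalizerIn S Q) fun x => s⁻¹ * a x * s⁻¹⁻¹ := haF.conj_comp (S.inv_mem hs)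
  obtain ⟨α, hα⟩ := exists_val hS hF hsi
  have hA : InA p F Q α := ⟨_, hα, fun x hx => by simp [hsQ x hx, mul_assoc]⟩
  have hav : Val p F (normalizerIn S Q) a α := by
    have h1 := hα.comp (val_of_res (p := p) (F := F)
      (mapFn_conj (le_refl S) hs)) fun x hx => hsi.mem_S hx
    rw [one_mul] at h1
    exact h1.congr fun x _ => by simp [mul_assoc]
  refine ⟨α, hA, ?_⟩
  have h2 := (val_of_res hf₀r).comp hav fun x hx => hf₀.mem_S hx
  rw [mul_one] at h2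
  exact h2.congr fun x hx => (he x hx).symm

theorem inA_of_centric (hS : IsPGroup p S) (hF : F.IsSaturated p) (hQn : F.IsFullyNormalized Q)
    (hQW : Q ≤ W) (hW : W ≤ normalizerIn S Q) (hWc : F.IsCentric W) (hf : Val p F W f κ)
    (hfix : ∀ x ∈ Q, f x = x) : InA p F Q κ := by
  obtain ⟨α, hα, hv⟩ := exists_inA_of_fixed hS hF hQn hQW hW hf.mapFn hfix
  have := hα.mul_res hQn.1 (Val.unique hWc hf hv)
  rwa [mul_inv_cancel_left] at this

/-- The comparison of a map on `N` with the extension of its restriction to `Q`. -/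
theorem exists_ext_delta (hS : IsPGroup p S) (hF : F.IsSaturated p) (hQn : F.IsFullyNormalized Q)
    (hRn : F.IsFullyNormalized R) (hQN : Q ≤ N) (hN : N ≤ normalizerIn S Q) {v : Ω → Ω}
    {ζ : MulAut S} (hv : Val p F N v ζ) (hvr : v '' Q = (R : Set Ω)) :
    ∃ d γ α, Val p F (N ⊔ centralizerIn S Q) d γ ∧ (∀ x ∈ Q, d x = v x) ∧ InA p F Q α ∧
      Val p F N id (ζ⁻¹ * (γ * α)) := by
  obtain ⟨d, hd, hde⟩ := exists_ext_agree hS hF hRn hv.mapFn hQN hN hvr
  obtain ⟨γ, hγ⟩ := exists_val hS hF hd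
  have hdr : d '' Q = (R : Set Ω) := (Set.image_congr hde).trans hvr
  obtain ⟨M, -, hM⟩ := hd.exists_image
  obtain ⟨d', hd', hd'r, hd'₁, hd'₂⟩ := hd.exists_inv hM
  have hC := image_centralizer (isFullyCentralized_of_fullyNormalized hS hF hQn)
    (isFullyCentralized_of_fullyNormalized hS hF hRn) hd (hQN.trans le_sup_left) le_sup_right hdr
  have hvM : ∀ g ∈ N, v g ∈ M := by
    intro g hg
    have hgd := hd.mem_S (Subgroup.mem_sup_left hg)
    have h1 : (d g)⁻¹ * v g ∈ centralizerIn S R := by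
      refine mem_centralizerIn'.mpr ⟨S.mul_mem (S.inv_mem hgd) (hv.mapFn.mem_S hg), fun y => ?_⟩
      obtain ⟨x, hx, hxy⟩ := exists_of_image hvr y.2
      have e1 := hd.map_conj (Subgroup.mem_sup_left hg) (Subgroup.mem_sup_left (hQN hx))
      rw [hde x hx, hde _ (conj_mem_of_normalizer (hN hg).2 hx),
        hv.mapFn.map_conj hg (hQN hx)] at e1
      rw [← hxy]
      calc (d g)⁻¹ * v g * v x * ((d g)⁻¹ * v g)⁻¹
          = (d g)⁻¹ * (v g * v x * (v g)⁻¹) * d g := by group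
        _ = v x := by rw [e1]; group
    obtain ⟨c, hc, hce⟩ := exists_of_image hC h1
    have h2 := M.mul_mem (mem_of_image hM (Subgroup.mem_sup_left hg))
      (mem_of_image hM (Subgroup.mem_sup_right hc))
    rwa [hce, mul_inv_cancel_left] at h2
  have hδ : MapFn F N (d' ∘ v) := hv.mapFn.comp hd' hvM
  obtain ⟨α, hα, hαv⟩ := exists_inA_of_fixed hS hF hQn hQN hN hδ fun x hx => by
    show d' (v x) = x
    rw [← hde x hx]; exact hd'₁ x (Subgroup.mem_sup_left (hQN hx))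
  obtain ⟨N₂, -, hN₂⟩ := hv.mapFn.exists_image
  obtain ⟨v', hv', -, hv'₁, -⟩ := hv.exists_inv hN₂
  have h2 : Val p F N v (γ * α) :=
    (hαv.comp hγ fun x hx => mem_of_image hd'r (hvM x hx)).congr fun x hx => hd'₂ _ (hvM x hx)
  exact ⟨d, γ, α, hγ, hde, hα,
    (h2.comp hv' fun x hx => mem_of_image hN₂ hx).congr fun x hx => hv'₁ x hx⟩

/-- The normalizer of `Q` in `Aut_F(Q C_S(Q))` normalizes the values. -/
theorem inA_conj (hS : IsPGroup p S) (hF : F.IsSaturated p) (hQn : F.IsFullyNormalized Q)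
    {d : Ω → Ω} (hd : Val p F (Q ⊔ centralizerIn S Q) d γ) (hdr : d '' Q = (Q : Set Ω))
    (hα : InA p F Q α) : InA p F Q (γ * α * γ⁻¹) := by
  obtain ⟨a, ha, hae⟩ := hα
  have hQS := hQn.1
  have hW : Q ⊔ centralizerIn S Q ≤ normalizerIn S Q := sup_le_normalizerIn hQS
  have hWS := hW.trans normalizerIn_le
  have hmd : d '' (Q ⊔ centralizerIn S Q : Subgroup Ω) = (Q ⊔ centralizerIn S Q : Subgroup Ω) :=
    hd.mapFn.image_eq_of_maps hWS (hd.mapFn.maps_sup
      (fun x hx => Subgroup.mem_sup_left (mem_of_image hdr hx))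
      (fun x hx => Subgroup.mem_sup_right
        (hd.mapFn.mem_centralizerIn le_sup_left hdr (Subgroup.mem_sup_right hx) hx))) le_rfl
  obtain ⟨d', hd', hd'r, hd'₁, hd'₂⟩ := hd.exists_inv hmd
  have hma : ∀ x ∈ Q ⊔ centralizerIn S Q, a x ∈ Q ⊔ centralizerIn S Q :=
    (ha.mapFn.mono hW).maps_sup
      (fun x hx => by rw [hae x hx]; exact Subgroup.mem_sup_left hx)
      (fun x hx => Subgroup.mem_sup_right (ha.mapFn.mem_centralizerIn (le_normalizerIn hQS)
        (image_eq_of_fixed hae) (centralizerIn_le_normalizerIn hx) hx))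
  have h1 : Val p F (Q ⊔ centralizerIn S Q) (d ∘ a ∘ d') (γ * α * γ⁻¹) := by
    have := (hd'.comp (ha.mono hW) fun x hx => mem_of_image hd'r hx).comp hd
      fun x hx => hma _ (mem_of_image hd'r hx)
    rwa [← mul_assoc] at this
  refine inA_of_centric hS hF hQn le_sup_left hW
    (isCentric_sup_centralizer (isFullyCentralized_of_fullyNormalized hS hF hQn)) h1 fun x hx => ?_
  obtain ⟨y, hy, rfl⟩ := exists_of_image hdr hx
  show d (a (d' (d y))) = d y
  rw [hd'₁ y (Subgroup.mem_sup_left hy), hae y hy]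

/-- The statement proved by induction. -/
def Detects (p : ℕ) (F : FusionSystem S) (n : ℕ) : Prop :=
  ∀ R : Subgroup Ω, F.IsFullyNormalized R → n < Nat.card R → ∀ κ, Val p F R id κ → InA p F R κ

theorem inA_of_overgroup (hS : IsPGroup p S) (hF : F.IsSaturated p) {n : ℕ}
    (ih : Detects p F n) (hQn : F.IsFullyNormalized Q) (hn : Nat.card Q = n) (hQN : Q < N)
    (hN : N ≤ normalizerIn S Q) (hκ : Val p F N id κ) : InA p F Q κ := by
  have hQS := hQn.1
  have hNS := hN.trans normalizerIn_le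
  obtain ⟨R, f, hRn, hf, hfr, -⟩ := exists_fullyNormalized_mapFn hS hF hNS
  have hfN := hf.mono (le_normalizerIn hNS)
  obtain ⟨η, hη⟩ := exists_val hS hF hfN
  obtain ⟨Q₁, hQ₁S, hQ₁⟩ := (hfN.mono hQN.le).exists_image
  have hcard : n < Nat.card R := by
    rw [hfN.card_image hfr, ← hn]; exact card_lt_card hNS hQN
  have hRN : R ≤ normalizerIn S Q₁ := fun y hy => by
    obtain ⟨x, hx, rfl⟩ := exists_of_image hfr hy
    exact hfN.mem_normalizerIn hQN.le hQ₁ hx (hN hx).2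
  have hQ₁R : Q₁ ≤ R := fun y hy => by
    obtain ⟨x, hx, rfl⟩ := exists_of_image hQ₁ hy
    exact mem_of_image hfr (hQN.le hx)
  obtain ⟨h, hh, hhr, hhm⟩ := exists_normalizer_mapFn hS hF hQn
    (isConj_symm ((hfN.mono hQN.le).isConj hQ₁))
  obtain ⟨b, hb⟩ := exists_val hS hF hh
  -- the key: values are detected after transport by `b * η`
  have key : ∀ κ, Val p F N id κ → InA p F Q (b * η * κ * (b * η)⁻¹) := by
    intro κ hκ
    obtain ⟨f', hf', hf'r, -, hf'₂⟩ := hη.exists_inv hfr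
    have h1 : Val p F R id (η * κ * η⁻¹) := by
      have := (hf'.comp hκ fun x hx => mem_of_image hf'r hx).comp hη
        fun x hx => mem_of_image hf'r hx
      rw [← mul_assoc] at this
      exact this.congr fun x hx => hf'₂ x hx
    obtain ⟨a, ha, hae⟩ := ih R hRn hcard _ h1
    have hX : R ⊔ centralizerIn S R ≤ normalizerIn S R := sup_le_normalizerIn hRn.1
    have hXQ : R ⊔ centralizerIn S R ≤ normalizerIn S Q₁ := sup_le hRN fun c hc =>
      centralizerIn_le_normalizerIn (mem_centralizerIn.mpr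
        ⟨hc.1, fun y hy => (mem_centralizerIn.mp hc).2 y (hQ₁R hy)⟩)
    have hma : ∀ x ∈ R ⊔ centralizerIn S R, a x ∈ R ⊔ centralizerIn S R :=
      (ha.mapFn.mono hX).maps_sup
        (fun x hx => by rw [hae x hx]; exact Subgroup.mem_sup_left hx)
        (fun x hx => Subgroup.mem_sup_right (ha.mapFn.mem_centralizerIn (le_normalizerIn hRn.1)
          (image_eq_of_fixed hae) (centralizerIn_le_normalizerIn hx) hx))
    obtain ⟨X₂, -, hX₂⟩ := (hh.mono hXQ).exists_image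
    obtain ⟨h', hh', hh'r, hh'₁, -⟩ := (hb.mono hXQ).exists_inv hX₂
    have h2 : Val p F X₂ (h ∘ a ∘ h') (b * η * κ * (b * η)⁻¹) := by
      have := (hh'.comp (ha.mono hX) fun x hx => mem_of_image hh'r hx).comp (hb.mono hXQ)
        fun x hx => hma _ (mem_of_image hh'r hx)
      have e : b * (η * κ * η⁻¹ * b⁻¹) = b * η * κ * (b * η)⁻¹ := by group
      rwa [e] at this
    have hQX : Q ≤ X₂ := fun y hy => by
      obtain ⟨x, hx, rfl⟩ := exists_of_image hhr hy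
      exact mem_of_image hX₂ (Subgroup.mem_sup_left (hQ₁R hx))
    refine inA_of_centric hS hF hQn hQX (fun y hy => ?_)
      (IsCentric.of_conj (isCentric_sup_centralizer
        (isFullyCentralized_of_fullyNormalized hS hF hRn)) ((hh.mono hXQ).isConj hX₂)) h2
      fun y hy => ?_
    · obtain ⟨x, hx, rfl⟩ := exists_of_image hX₂ hy
      exact hhm x (hXQ hx)
    · obtain ⟨x, hx, rfl⟩ := exists_of_image hhr hy
      show h (a (h' (h x))) = h x
      rw [hh'₁ x (Subgroup.mem_sup_left (hQ₁R hx)), hae x (hQ₁R hx)]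
  have hu : Val p F N (h ∘ f) (b * η) := hη.comp hb fun x hx => hRN (mem_of_image hfr hx)
  have hur : (h ∘ f) '' Q = (Q : Set Ω) := image_comp hQ₁ hhr
  obtain ⟨d, γ, α, hd, hde, hα, hn'⟩ := exists_ext_delta hS hF hQn hQn hQN.le hN hu hur
  have hdr : d '' Q = (Q : Set Ω) := (Set.image_congr hde).trans hur
  have h3 := key _ hn'
  rw [mul_inv_cancel_left] at h3
  -- `h3 : γ * α * (b * η)⁻¹ ∈ A`
  have h4 : InA p F Q (γ * (α * κ * α⁻¹) * γ⁻¹) := by
    have := (h3.mul hQS (key κ hκ)).mul hQS (h3.inv hQS)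
    convert this using 1
    group
  have hdQ : Val p F (Q ⊔ centralizerIn S Q) d γ := hd.mono (sup_le_sup hQN.le le_rfl)
  have him := hdQ.mapFn.image_eq_of_maps ((sup_le_normalizerIn hQS).trans normalizerIn_le)
    (hdQ.mapFn.maps_sup (fun x hx => Subgroup.mem_sup_left (mem_of_image hdr hx))
      (fun x hx => Subgroup.mem_sup_right (hdQ.mapFn.mem_centralizerIn le_sup_left hdr
        (Subgroup.mem_sup_right hx) hx))) le_rfl
  obtain ⟨d', hd', hd'r, hd'₁, -⟩ := hdQ.exists_inv him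
  have hd'Q : d' '' Q = (Q : Set Ω) := by
    ext y
    constructor
    · rintro ⟨x, hx, rfl⟩
      obtain ⟨z, hz, rfl⟩ := exists_of_image hdr hx
      rwa [hd'₁ z (Subgroup.mem_sup_left hz)]
    · intro hy
      exact ⟨_, mem_of_image hdr hy, hd'₁ y (Subgroup.mem_sup_left hy)⟩
  have h5 := inA_conj hS hF hQn hd' hd'Q h4
  have h6 := ((hα.inv hQS).mul hQS h5).mul hQS hα
  convert h6 using 1
  group

/-- A map of `res` on a proper overgroup in `N_S(Q)` restricts to a map extending to `Q C_S(Q)`. -/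
theorem exists_res_ext (hS : IsPGroup p S) (hF : F.IsSaturated p) {n : ℕ} (ih : Detects p F n)
    (hQn : F.IsFullyNormalized Q) (hn : Nat.card Q = n) (hRn : F.IsFullyNormalized R) (hQN : Q < N)
    (hN : N ≤ normalizerIn S Q) {v : Ω → Ω} (hv : MapFn (res p F) N v)
    (hvr : v '' Q = (R : Set Ω)) :
    ∃ χ, MapFn (res p F) (Q ⊔ centralizerIn S Q) χ ∧ ∀ x ∈ Q, χ x = v x := by
  have hQS := hQn.1
  obtain ⟨d, γ, α, hd, hde, hα, hn'⟩ :=
    exists_ext_delta hS hF hQn hRn hQN.le hN (val_of_res hv) hvr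
  rw [inv_one, one_mul] at hn'
  have hγ : InA p F Q γ := by
    have := (inA_of_overgroup hS hF ih hQn hn hQN hN hn').mul hQS (hα.inv hQS)
    rwa [mul_inv_cancel_right] at this
  obtain ⟨a, ha, hae⟩ := hγ.inv hQS
  have hW : Q ⊔ centralizerIn S Q ≤ normalizerIn S Q := sup_le_normalizerIn hQS
  have hma : ∀ x ∈ Q ⊔ centralizerIn S Q, a x ∈ N ⊔ centralizerIn S Q :=
    (ha.mapFn.mono hW).maps_sup
      (fun x hx => by rw [hae x hx]; exact Subgroup.mem_sup_left (hQN.le hx))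
      (fun x hx => Subgroup.mem_sup_right (ha.mapFn.mem_centralizerIn (le_normalizerIn hQS)
        (image_eq_of_fixed hae) (centralizerIn_le_normalizerIn hx) hx))
  have h1 := (ha.mono hW).comp hd hma
  rw [mul_inv_cancel] at h1
  exact ⟨d ∘ a, h1.res_of_one, fun x hx => by
    show d (a x) = v x
    rw [hae x hx, hde x hx]⟩

/-- Read between fully normalized conjugates, `f` extends to the centralizers as a map of `res`. -/
def Good (p : ℕ) (F : FusionSystem S) (P : Subgroup Ω) (f : Ω → Ω) : Prop :=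
  ∀ (P' Q Q' : Subgroup Ω) (g g' : Ω → Ω), f '' P = (P' : Set Ω) → F.IsFullyNormalized Q →
    F.IsFullyNormalized Q' → MapFn (res p F) (normalizerIn S P) g → g '' P = (Q : Set Ω) →
    MapFn (res p F) (normalizerIn S P') g' → g' '' P' = (Q' : Set Ω) →
    ∃ χ, MapFn (res p F) (Q ⊔ centralizerIn S Q) χ ∧ ∀ x ∈ P, χ (g x) = g' (f x)

theorem good_of_centric (hP : F.IsCentric P) (hf : MapFn (res p F) P f) : Good p F P f := by
  intro P' Q Q' g g' hfP' _ _ hg hgQ hg' _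
  have hgP := hg.mono (le_normalizerIn hP.1)
  obtain ⟨g₁, hg₁, hg₁r, hg₁₁, -⟩ := hgP.exists_inv hgQ
  have hQc : F.IsCentric Q := IsCentric.of_conj hP ((res_mapFn hgP).isConj hgQ)
  have hP'S : P' ≤ S := IsConj.le_right ((res_mapFn hf).isConj hfP')
  rw [sup_eq_left.mpr (IsCentric.centralizerIn_le' hQc)]
  refine ⟨g' ∘ f ∘ g₁, (hg₁.comp hf fun x hx => mem_of_image hg₁r hx).comp hg' fun x hx =>
    le_normalizerIn hP'S (mem_of_image hfP' (mem_of_image hg₁r hx)), fun x hx => ?_⟩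
  show g' (f (g₁ (g x))) = g' (f x)
  rw [hg₁₁ x hx]

theorem good_of_larger (hS : IsPGroup p S) (hF : F.IsSaturated p) {n : ℕ} (ih : Detects p F n)
    (hn : Nat.card P = n) (hPB : P < B) (hf : MapFn (res p F) B f) : Good p F P f := by
  intro P' Q Q' g g' hfP' hQn hQ'n hg hgQ hg' hg'Q
  have hBS := hf.le_S
  have hPN : P < normalizerIn B P := Fusion.lt_normalizerIn hS hBS hPB
  have hNN : normalizerIn B P ≤ normalizerIn S P := inf_le_inf_right _ hBS
  obtain ⟨M, -, hM⟩ := (hg.mono hNN).exists_image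
  obtain ⟨g₁, hg₁, hg₁r, hg₁₁, -⟩ := (hg.mono hNN).exists_inv hM
  have hQM : Q < M := by
    refine lt_of_le_of_ne (fun y hy => ?_) fun e => ?_
    · obtain ⟨x, hx, rfl⟩ := exists_of_image hgQ hy
      exact mem_of_image hM (hPN.le hx)
    · have h1 := card_lt_card (hNN.trans normalizerIn_le) hPN
      rw [← (hg.mono hNN).card_image hM, ← e,
        (hg.mono (le_normalizerIn (hPN.le.trans (hNN.trans normalizerIn_le)))).card_image hgQ] at h1
      exact lt_irrefl _ h1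
  have hMN : M ≤ normalizerIn S Q := fun y hy => by
    obtain ⟨x, hx, rfl⟩ := exists_of_image hM hy
    exact hg.mem_normalizerIn (le_normalizerIn (hPB.le.trans hBS)) hgQ (hNN hx) (hNN hx).2
  have hfm : ∀ x ∈ normalizerIn B P, f x ∈ normalizerIn S P' := fun x hx =>
    hf.mem_normalizerIn hPB.le hfP' hx.1 hx.2
  have hv : MapFn (res p F) M (g' ∘ f ∘ g₁) :=
    (hg₁.comp hf fun x hx => (mem_of_image hg₁r hx).1).comp hg' fun x hx =>
      hfm _ (mem_of_image hg₁r hx)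
  have hve : ∀ x ∈ P, (g' ∘ f ∘ g₁) (g x) = g' (f x) := fun x hx => by
    show g' (f (g₁ (g x))) = _
    rw [hg₁₁ x (hPN.le hx)]
  have hvr : (g' ∘ f ∘ g₁) '' Q = (Q' : Set Ω) := by
    rw [← hgQ, ← hg'Q, ← hfP', Set.image_image, Set.image_image]
    exact Set.image_congr hve
  have hnQ : Nat.card Q = n := by
    rw [(hg.mono (le_normalizerIn (hPB.le.trans hBS))).card_image hgQ, hn]
  obtain ⟨χ, hχ, hχe⟩ := exists_res_ext hS hF ih hQn hnQ hQ'n hQM hMN hv hvr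
  exact ⟨χ, hχ, fun x hx => (hχe _ (mem_of_image hgQ hx)).trans (hve x hx)⟩

theorem isFullyNormalized_ev (hα : α ∈ F.autGroup S) (hQ : F.IsFullyNormalized Q)
    (hR : ev α '' Q = (R : Set Ω)) : F.IsFullyNormalized R := by
  have ha := mem_autGroup_iff_ev.mp hα
  have hc := (ha.mono hQ.1).isConj hR
  refine ⟨IsConj.le_right hc, fun W hW => (hQ.2 W (isConj_trans hc hW)).trans ?_⟩
  obtain ⟨φ, hφ, he⟩ := ha.mono (normalizerIn_le (P := Q))
  exact card_le_of_map hφ normalizerIn_le fun x => by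
    rw [he]; exact ha.mem_normalizerIn hQ.1 hR (normalizerIn_le x.2) x.2.2

theorem exists_res_good (hS : IsPGroup p S) (hF : F.IsSaturated p) (hP : P ≤ S) :
    ∃ (Q : Subgroup Ω) (g : Ω → Ω), F.IsFullyNormalized Q ∧
      MapFn (res p F) (normalizerIn S P) g ∧ g '' P = (Q : Set Ω) := by
  obtain ⟨Q₀, h, hQ₀, hh, hhr, -⟩ := exists_fullyNormalized_mapFn hS hF hP
  obtain ⟨η, hη, h₀, hh₀, he⟩ := exists_val hS hF hh
  obtain ⟨Q, -, hQ⟩ := (hh₀.mono (le_normalizerIn hP)).exists_image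
  refine ⟨Q, h₀, isFullyNormalized_ev (Subgroup.inv_mem _ hη) hQ₀ ?_, hh₀, hQ⟩
  rw [← hhr, ← hQ, Set.image_image]
  refine Set.image_congr fun x hx => ?_
  rw [he x (le_normalizerIn hP hx), ev_inv_ev _ (hh₀.mem_S (le_normalizerIn hP hx))]

theorem Good.congr (h : Good p F P f) (e : ∀ x ∈ P, f x = g x) : Good p F P g := by
  intro P' Q Q' k k' hfP' hQ hQ' hk hkQ hk' hk'Q
  obtain ⟨χ, hχ, hχe⟩ := h P' Q Q' k k' ((Set.image_congr e).trans hfP') hQ hQ' hk hkQ hk' hk'Q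
  exact ⟨χ, hχ, fun x hx => by rw [hχe x hx, e x hx]⟩

theorem Good.comp (hS : IsPGroup p S) (hF : F.IsSaturated p) (hf : MapFn F P f)
    (hfP : f '' P = (R : Set Ω)) (h₁ : Good p F P f) (h₂ : Good p F R g) :
    Good p F P (g ∘ f) := by
  intro P' Q Q' k k' hgfP hQ hQ' hk hkQ hk' hk'Q
  have hRS : R ≤ S := IsConj.le_right (hf.isConj hfP)
  obtain ⟨Q₁, k₁, hQ₁, hk₁, hk₁Q⟩ := exists_res_good hS hF hRS
  obtain ⟨χ₁, hχ₁, hχ₁e⟩ := h₁ R Q Q₁ k k₁ hfP hQ hQ₁ hk hkQ hk₁ hk₁Q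
  have hgR : g '' R = (P' : Set Ω) := by rw [← hfP, ← Set.image_comp]; exact hgfP
  obtain ⟨χ₂, hχ₂, hχ₂e⟩ := h₂ P' Q₁ Q' k₁ k' hgR hQ₁ hQ' hk₁ hk₁Q hk' hk'Q
  have hχQ : χ₁ '' Q = (Q₁ : Set Ω) := by
    rw [← hkQ, ← hk₁Q, ← hfP, Set.image_image, Set.image_image]
    exact Set.image_congr hχ₁e
  refine ⟨χ₂ ∘ χ₁, hχ₁.comp hχ₂ ((res_mapFn hχ₁).maps_sup
    (fun x hx => Subgroup.mem_sup_left (mem_of_image hχQ hx))
    (fun x hx => Subgroup.mem_sup_right
      ((res_mapFn hχ₁).mem_centralizerIn le_sup_left hχQ (Subgroup.mem_sup_right hx) hx))),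
    fun x hx => ?_⟩
  show χ₂ (χ₁ (k x)) = k' (g (f x))
  rw [hχ₁e x hx, hχ₂e _ (mem_of_image hfP hx)]

theorem Good.inv (hS : IsPGroup p S) (hF : F.IsSaturated p) (hfP : f '' P = (R : Set Ω))
    (hgf : ∀ x ∈ P, g (f x) = x) (h : Good p F P f) : Good p F R g := by
  intro P' Q Q' k k' hgR hQ hQ' hk hkQ hk' hk'Q
  obtain rfl : P' = P := SetLike.coe_injective (by
    rw [← hgR, ← hfP, Set.image_image]
    exact (Set.image_congr hgf).trans (Set.image_id' _))
  obtain ⟨χ, hχ, hχe⟩ := h R Q' Q k' k hfP hQ' hQ hk' hk'Q hk hkQ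
  have hχQ : χ '' Q' = (Q : Set Ω) := by
    rw [← hkQ, ← hk'Q, ← hfP, Set.image_image, Set.image_image]
    exact Set.image_congr hχe
  have hc := (res_mapFn hχ).mono (le_sup_left : Q' ≤ _) |>.isConj hχQ
  have hC := image_centralizer (isFullyCentralized_of_fullyNormalized hS hF hQ')
    (isFullyCentralized_of_fullyNormalized hS hF hQ) (res_mapFn hχ) le_sup_left le_sup_right hχQ
  obtain ⟨M, -, hM⟩ := hχ.exists_image
  have hle : Q ⊔ centralizerIn S Q ≤ M := sup_le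
    (fun y hy => by
      obtain ⟨x, hx, rfl⟩ := exists_of_image hχQ hy
      exact mem_of_image hM (Subgroup.mem_sup_left hx))
    (fun y hy => by
      obtain ⟨x, hx, rfl⟩ := exists_of_image hC hy
      exact mem_of_image hM (Subgroup.mem_sup_right hx))
  obtain ⟨χ', hχ', -, hχ'₁, -⟩ := hχ.exists_inv hM
  refine ⟨χ', hχ'.mono hle, fun y hy => ?_⟩
  obtain ⟨x, hx, rfl⟩ := exists_of_image hfP hy
  rw [← hχe x hx, hgf x hx]
  exact hχ'₁ _ (Subgroup.mem_sup_left (mem_of_image hk'Q hx))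

theorem good_of_card_le (hS : IsPGroup p S) (hF : F.IsSaturated p) {n : ℕ} (ih : Detects p F n)
    (hn : Nat.card P = n) (hPB : P ≤ B) (hf : MapFn (res p F) B f)
    (hB : Nat.card B = n → Good p F B f) : Good p F P f := by
  rcases eq_or_lt_of_le hPB with rfl | h
  · exact hB hn
  · exact good_of_larger hS hF ih hn h hf

/-- The maps of `res` that are good on subgroups of order `n`. -/
def stepSystem (hS : IsPGroup p S) (hF : F.IsSaturated p) {n : ℕ} (ih : Detects p F n) :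
    FusionSystem S where
  Hom P := {φ | φ ∈ (res p F).Hom P ∧
    (Nat.card P = n → ∀ f : Ω → Ω, (∀ x : P, φ x = f x) → Good p F P f)}
  le_of_mem h := (res p F).le_of_mem h.1
  injective_of_mem h := (res p F).injective_of_mem h.1
  conj_mem := by
    intro P g hP hg
    refine ⟨(res p F).conj_mem hP hg, fun hn f hf => ?_⟩
    have h1 : Good p F P fun x => g * x * g⁻¹ := by
      by_cases hPS : P = S
      · refine good_of_centric ⟨hP, fun W hW => ?_⟩ (mapFn_conj hP hg)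
        have := eq_of_le_of_card_le (IsConj.le_right hW)
          ((congrArg (fun X : Subgroup Ω => Nat.card X) hPS).symm.le.trans (IsConj.card_eq hW).ge)
        exact centralizerIn_le.trans this.ge
      · exact good_of_larger hS hF ih hn (lt_of_le_of_ne hP hPS) (mapFn_conj le_rfl hg)
    exact h1.congr fun x hx => hf ⟨x, hx⟩
  comp_mem := by
    rintro P R φ ψ ⟨hφ, hφg⟩ ⟨hψ, hψg⟩ hm
    refine ⟨(res p F).comp_mem hφ hψ hm, fun hn f hf => ?_⟩
    obtain ⟨f₁, hf₁, hf₁e⟩ := mapFn_of_hom hφ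
    obtain ⟨f₂, hf₂, hf₂e⟩ := mapFn_of_hom hψ
    obtain ⟨P', -, hP'⟩ := hf₁.exists_image
    have hP'R : P' ≤ R := fun y hy => by
      obtain ⟨x, hx, rfl⟩ := exists_of_image hP' hy
      rw [← hf₁e ⟨x, hx⟩]; exact hm _
    have hnP' : Nat.card P' = n := by rw [hf₁.card_image hP', hn]
    refine (Good.comp hS hF (res_mapFn hf₁) hP' (hφg hn f₁ hf₁e)
      (good_of_card_le hS hF ih hnP' hP'R hf₂ fun hR => hψg hR f₂ hf₂e)).congr fun x hx => ?_
    show f₂ (f₁ x) = f x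
    rw [← hf ⟨x, hx⟩, ← hf₁e ⟨x, hx⟩, ← hf₂e ⟨φ ⟨x, hx⟩, hm _⟩]
    rfl
  inv_mem := by
    rintro P φ ⟨hφ, hφg⟩
    obtain ⟨ψ, hψ, hψe⟩ := (res p F).inv_mem hφ
    refine ⟨ψ, ⟨hψ, fun hn f hf => ?_⟩, hψe⟩
    obtain ⟨f₁, hf₁, hf₁e⟩ := mapFn_of_hom hφ
    refine Good.inv hS hF (MapFn.image_eq_range hf₁e) (fun x hx => ?_)
      (hφg ((card_range hφ).symm.trans hn) f₁ hf₁e)
    rw [← hf₁e ⟨x, hx⟩]
    exact (hf _).symm.trans (hψe ⟨x, hx⟩)

theorem stepSystem_adm (hS : IsPGroup p S) (hF : F.IsSaturated p) {n : ℕ} (ih : Detects p F n) :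
    Adm p F (stepSystem hS hF ih) := by
  refine ⟨fun P hP α hα => ?_, fun a P hP ha haP => ?_⟩
  · have h1 := (mem_autGroup hP.1).mp (res_adm.1 P hP hα)
    exact (mem_autGroup hP.1).mpr ⟨h1, fun _ f hf => good_of_centric hP ⟨_, h1, hf⟩⟩
  · obtain ⟨ψ, hψ, hψe⟩ := haP
    obtain ⟨φ, hφ, hφe⟩ := res_adm.2 a P hP ha ⟨ψ, hψ.1, hψe⟩
    have hSc : F.IsCentric S := IsCentric.of_le hP hP.1 le_rfl
    exact ⟨φ, ⟨hφ, fun _ f hf => good_of_centric hSc ⟨φ, hφ, hf⟩⟩, hφe⟩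

theorem inA_of_id (hS : IsPGroup p S) (hF : F.IsSaturated p) {n : ℕ} (ih : Detects p F n)
    (hQn : F.IsFullyNormalized Q) (hn : Nat.card Q = n) (hκ : Val p F Q id κ) :
    InA p F Q κ := by
  obtain ⟨hκF, f₀, hf₀, he⟩ := hκ
  obtain ⟨φ, hφ, hφe⟩ := hf₀
  obtain ⟨Q', -, hQ'⟩ := MapFn.exists_image (⟨φ, hφ, hφe⟩ : MapFn (res p F) Q f₀)
  have hgood : Good p F Q f₀ := (res_le_of (stepSystem_adm hS hF ih) Q hφ).2 hn f₀ hφe
  have hf₀ : MapFn (res p F) Q f₀ := ⟨φ, hφ, hφe⟩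
  have hQ'n : F.IsFullyNormalized Q' := by
    refine isFullyNormalized_ev (Subgroup.inv_mem _ hκF) hQn ?_
    rw [← hQ']
    refine Set.image_congr fun x hx => ?_
    have e : x = ev κ (f₀ x) := he x hx
    conv_lhs => rw [e]
    exact ev_inv_ev _ (hf₀.mem_S hx)
  obtain ⟨χ, hχ, hχe⟩ := hgood Q' Q Q' id id hQ' hQn hQ'n (mapFn_id normalizerIn_le)
    (Set.image_id _) (mapFn_id normalizerIn_le) (Set.image_id _)
  have h1 := (val_of_res hχ).comp (val_ev (p := p) (le_refl S) hκF) fun x hx => hχ.mem_S hx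
  rw [mul_one] at h1
  refine inA_of_centric hS hF hQn le_sup_left (sup_le_normalizerIn hQn.1)
    (isCentric_sup_centralizer (isFullyCentralized_of_fullyNormalized hS hF hQn)) h1 fun x hx => ?_
  show ev κ (χ x) = x
  rw [show χ x = f₀ x from hχe x hx]
  exact (he x hx).symm

theorem detects (hS : IsPGroup p S) (hF : F.IsSaturated p) (n : ℕ) : Detects p F n := by
  suffices h : ∀ m n, Nat.card S - n < m → Detects p F n from h _ n (Nat.lt_succ_self _)
  intro m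
  induction m with
  | zero => intro n h; omega
  | succ m ih =>
    intro n hn R hR hnR κ hκ
    refine inA_of_id hS hF (ih _ ?_) hR rfl hκ
    have := card_le_card_S (R := R) hR.1
    omega

theorem inA_of_fixed (hS : IsPGroup p S) (hF : F.IsSaturated p) (hQn : F.IsFullyNormalized Q)
    (hκ : Val p F Q id κ) : InA p F Q κ :=
  inA_of_id hS hF (detects hS hF _) hQn rfl hκ

/-! ### The main theorems -/

theorem res_isSubsystemOf : (res p F).IsSubsystemOf F := res_le p F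

theorem res_primeToP (hS : IsPGroup p S) (hF : F.IsSaturated p) :
    (res p F).HasPrimeToPIndexIn F p :=
  (primeToP_of_centrics hS hF res_isSubsystemOf res_adm.1).1

theorem res_fullyAutomized_top (hS : IsPGroup p S) (hF : F.IsSaturated p) :
    (res p F).IsFullyAutomized p S := by
  have hTop : F.IsFullyNormalized S := ⟨le_rfl, fun Q hQ => by
    rw [eq_of_le_of_card_le (IsConj.le_right hQ) (IsConj.card_eq hQ).ge]⟩
  have h := (fullyAutomized_iff.mp (fullyNormalized_good hS hF hTop).1).2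
  refine fullyAutomized_iff.mpr ⟨le_rfl, h.trans ?_⟩
  have := finite_mulAut (le_refl S)
  have hp : p.Prime := Fact.out
  congr 1
  apply le_antisymm
  · rw [← hp.pow_dvd_iff_le_factorization Nat.card_pos.ne', ← h]
    exact Subgroup.card_dvd_of_le (autInducedBy_le_autGroup le_rfl)
  · rw [← hp.pow_dvd_iff_le_factorization Nat.card_pos.ne']
    exact (Nat.ordProj_dvd _ p).trans (Subgroup.card_dvd_of_le res_autGroup_le)

theorem res_isSaturated (hS : IsPGroup p S) (hF : F.IsSaturated p) :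
    (res p F).IsSaturated p := by
  refine saturated_of_top_and_receptive hS (res_fullyAutomized_top hS hF) fun P hP => ?_
  have hPn : F.IsFullyNormalized P := by
    refine ⟨hP.1, fun W hW => ?_⟩
    obtain ⟨f, hf, hr⟩ := isConj_iff.mp hW
    obtain ⟨α, hα, f₀, hf₀, he⟩ := exists_val hS hF hf
    obtain ⟨W', hW'S, hW'⟩ := hf₀.exists_image
    refine le_trans ?_ (hP.2 W' (hf₀.isConj hW'))
    have hr' : ev α⁻¹ '' W = (W' : Set Ω) := by
      rw [← hr, ← hW', Set.image_image]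
      exact Set.image_congr fun x hx => by rw [he x hx, ev_inv_ev _ (hf₀.mem_S hx)]
    have ha := mem_autGroup_iff_ev.mp (Subgroup.inv_mem _ hα)
    obtain ⟨φ, hφ, hφe⟩ := ha.mono (normalizerIn_le (P := W))
    exact card_le_of_map hφ normalizerIn_le fun x => by
      rw [hφe]
      exact ha.mem_normalizerIn (IsConj.le_right hW) hr' (normalizerIn_le x.2) x.2.2
  obtain ⟨-, hPr⟩ := fullyNormalized_good hS hF hPn
  refine ⟨hP.1, fun R φ hφ hr => ?_⟩
  obtain ⟨ψ, hψ, hψe⟩ := hPr.2 R φ (res_le p F R hφ) hr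
  obtain ⟨f, hf, hfe⟩ := mapFn_of_hom hφ
  obtain ⟨k, hk, hke⟩ := mapFn_of_hom hψ
  obtain ⟨γ, hγ⟩ := exists_val hS hF hk
  have hRS : R ≤ S := le_S hφ
  have hRN : R ≤ extender S R φ := le_extender hRS (apply_mem_S hφ)
  have hkR : ∀ x ∈ R, k x = f x := fun x hx => by
    rw [← hke ⟨x, hRN hx⟩, hψe x hx (hRN hx), hfe]
  have hfr : f '' R = (P : Set Ω) := by rw [MapFn.image_eq_range hfe, hr]
  obtain ⟨f', hf', hf'r, -, hf'₂⟩ := (val_of_res hf).exists_inv hfr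
  have hid : Val p F P id γ := by
    have := hf'.comp (hγ.mono hRN) fun x hx => mem_of_image hf'r hx
    rw [inv_one, mul_one] at this
    exact this.congr fun x hx => (hkR _ (mem_of_image hf'r hx)).trans (hf'₂ x hx)
  obtain ⟨a, ha, hae⟩ := (inA_of_fixed hS hF hPn hid).inv hP.1
  have hkN : ∀ x ∈ extender S R φ, k x ∈ normalizerIn S P := fun x hx =>
    hk.mem_normalizerIn hRN ((Set.image_congr hkR).trans hfr) hx (extender_le_normalizerIn hx).2
  have h1 := hγ.comp ha hkN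
  rw [inv_mul_cancel] at h1
  obtain ⟨χ, hχ, hχe⟩ := h1.res_of_one
  exact ⟨χ, hχ, fun x hxR hxN => by
    rw [hχe]
    show a (k x) = _
    rw [hkR x hxR, hae _ (mem_of_image hfr hxR), hfe ⟨x, hxR⟩]⟩

theorem adm_of_saturated (hS : IsPGroup p S) (hF : F.IsSaturated p) {D : FusionSystem S}
    (hD : D.IsSaturated p) (hle : D ≤ F) (h : HasPAutsOnCentrics p F D) : Adm p F D :=
  ⟨h, fun _ _ hP ha haP => mapFn_of_centric_restrict hS hF hD hle hP hP.1 ha haP⟩

/-- `res` is the `p'`-residual. -/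
theorem res_isPPrimeResidual (hS : IsPGroup p S) (hF : F.IsSaturated p) :
    F.IsPPrimeResidual p (res p F) :=
  ⟨res_isSaturated hS hF, res_primeToP hS hF, fun _ hD hDF =>
    res_le_of (adm_of_saturated hS hF hD hDF.1 fun P hP => hDF.2 P hP.1)⟩

end saturated

end CfsgLib.Fusion.PPrimeRes
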