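import Cfsg.Agent.Lib.Fusion.MeetExt
import Cfsg.Agent.Lib.Fusion.MeetGroup
import Cfsg.Agent.Lib.Fusion.PPrimeResidual

/-!
# The meet of invariant subsystems, III: the automorphism groups

For fully normalized `P` the group `O^p` of the controlled automorphisms of `P C_S(P)`, times the
conjugations by `N_T(P)`, is normal in the stabilizer of `P` and has these conjugations as Sylow subgroup.
Its restrictions define the automorphisms `JMap D P` of every subgroup `P` of `T` centric there.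
-/

set_option autoImplicit false

namespace CfsgLib.Meet

open Cfsg Cfsg.FusionSystem CfsgLib.Fusion CfsgLib.FusionNormal CfsgLib.Fusion.PPrimeRes
open scoped commutatorElement

variable {Ω : Type*} [Group Ω] {S : Subgroup Ω} {F : FusionSystem S} {p : ℕ} {T : Subgroup Ω}
variable {P Q R K M : Subgroup Ω}

/-- The automorphisms of `K` leaving `P` invariant. -/
def stabAut (K P : Subgroup Ω) : Subgroup (MulAut K) where
  carrier := {a | ∀ x : K, (x : Ω) ∈ P ↔ ((a x : K) : Ω) ∈ P}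
  one_mem' _ := Iff.rfl
  mul_mem' {a b} ha hb x := (hb x).trans (ha (b x))
  inv_mem' {a} ha x := by
    have := ha (a⁻¹ x)
    rw [MulAut.apply_inv_self] at this
    exact this.symm

/-- The automorphisms of `P C_S(P)` in the system that stabilize `P`. -/
def stabW (F : FusionSystem S) (P : Subgroup Ω) : Subgroup (MulAut (W S P)) :=
  F.autGroup (W S P) ⊓ stabAut (W S P) P

theorem mapFn_ev (hK : K ≤ S) {a : MulAut K} (ha : a ∈ F.autGroup K) : MapFn F K (ev a) := by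
  obtain ⟨f, hf, -, hfe⟩ := exists_mapFn_of_aut hK ha
  exact hf.congr fun x hx => (hfe ⟨x, hx⟩).trans (ev_coe a hx).symm

theorem ev_image (a : MulAut K) : ev a '' K = (K : Set Ω) := by
  ext y
  constructor
  · rintro ⟨x, hx, rfl⟩; exact ev_mem a hx
  · intro hy
    exact ⟨ev a⁻¹ y, ev_mem _ hy, ev_ev_inv a hy⟩

theorem ev_val (a : MulAut K) (x : K) : ev a (x : Ω) = ((a x : K) : Ω) := ev_coe a x.2

theorem aut_ext {a b : MulAut K} (h : ∀ x ∈ K, ev a x = ev b x) : a = b :=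
  MulEquiv.ext fun x => Subtype.ext (by rw [← ev_val, ← ev_val]; exact h x x.2)

theorem ev_conj_of {a : MulAut K} {t : Ω} (h : ∀ x : K, ((a x : K) : Ω) = t * (x : Ω) * t⁻¹) {x : Ω}
    (hx : x ∈ K) : ev a x = t * x * t⁻¹ := (ev_coe a hx).trans (h ⟨x, hx⟩)

theorem ev_pow_fixed (a : MulAut K) {x z : Ω} (hx : x ∈ K) (hz : z ∈ K) (h : ev a x = x * z)
    (hzf : ev a z = z) : ∀ j : ℕ, ev (a ^ j) x = x * z ^ j := by
  intro j
  induction j with
  | zero => rw [pow_zero, ev_one hx]; simp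
  | succ j ih =>
    rw [pow_succ, ev_mul _ _ hx, h, ev_coe _ (K.mul_mem hx hz)]
    have hzj : ev (a ^ j) z = z := by
      clear ih
      induction j with
      | zero => rw [pow_zero, ev_one hz]
      | succ j ih => rw [pow_succ, ev_mul _ _ hz, hzf, ih]
    rw [show (⟨x * z, K.mul_mem hx hz⟩ : K) = ⟨x, hx⟩ * ⟨z, hz⟩ from rfl, map_mul, Subgroup.coe_mul,
      ← ev_coe _ hx, ← ev_coe _ hz, ih, hzj, pow_succ, mul_assoc]

variable [Finite S] [Fact p.Prime] (D : Datum F p T)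

/-- The conjugations of `P C_S(P)` by `N_T(P)`. -/
abbrev auT (S T P : Subgroup Ω) : Subgroup (MulAut (W S P)) := autInducedBy (normalizerIn T P) (W S P)

/-- `O^p` of the controlled automorphisms, times the conjugations by `N_T(P)`. -/
def jW (hP : P ≤ T) : Subgroup (MulAut (W S P)) := opr p (extGrp D hP) ⊔ auT S T P

section

omit [Fact p.Prime]

theorem extFn_ev {hP : P ≤ T} {a : MulAut (W S P)} (ha : a ∈ extGrp D hP) : ExtFn D P (ev a) := by
  obtain ⟨g, hg, hga⟩ := ha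
  exact hg.congr D fun x hx => (hga ⟨x, hx⟩).trans (ev_coe a hx).symm

theorem mem_extGrp_of_ev (hP : P ≤ T) {a : MulAut (W S P)} {g : Ω → Ω} (hg : ExtFn D P g)
    (h : ∀ x ∈ W S P, g x = ev a x) : a ∈ extGrp D hP :=
  ⟨g, hg, fun x => (h x x.2).trans (ev_val a x)⟩

theorem extGrp_le_stabW (hP : P ≤ T) : extGrp D hP ≤ stabW F P := fun a ha =>
  ⟨extGrp_le D hP ha, fun x => ⟨extGrp_stab D ha x, fun h => by
    have := extGrp_stab D (Subgroup.inv_mem _ ha) (a x) h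
    rwa [MulAut.inv_apply_self] at this⟩⟩

theorem auT_le_extGrp (hP : P ≤ T) : auT S T P ≤ extGrp D hP := fun a ha => by
  obtain ⟨t, ht, hte⟩ := mem_autInducedBy.mp ha
  exact mem_extGrp_of_ev D hP (extFn_conj D hP ht) fun x hx => (ev_conj_of hte hx).symm

theorem auT_le_autS (hTS : T ≤ S) : auT S T P ≤ autInducedBy (normalizerIn S P) (W S P) :=
  autInducedBy_mono (inf_le_inf_right _ hTS) _

theorem jW_le_extGrp (hP : P ≤ T) : jW D hP ≤ extGrp D hP :=
  sup_le opr_le (auT_le_extGrp D hP)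

theorem jW_le_stabW (hP : P ≤ T) : jW D hP ≤ stabW F P := (jW_le_extGrp D hP).trans (extGrp_le_stabW D hP)

theorem stabW_mem {a : MulAut (W S P)} (ha : a ∈ stabW F P) {x : Ω} (hx : x ∈ P) :
    ev a x ∈ P := by
  rw [ev_coe a (le_W hx)]; exact (ha.2 ⟨x, le_W hx⟩).mp hx

theorem stabW_image (hP : P ≤ S) {a : MulAut (W S P)} (ha : a ∈ stabW F P) : ev a '' P = (P : Set Ω) :=
  mapFn_image hP (mapFn_ev (W_le hP) ha.1) fun _ hx => stabW_mem ha hx

theorem autS_le_stabW (hP : P ≤ S) : autInducedBy (normalizerIn S P) (W S P) ≤ stabW F P := fun a ha => by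
  obtain ⟨s, hs, hse⟩ := mem_autInducedBy.mp ha
  refine ⟨autInducedBy_le_autGroup (W_le hP) (autInducedBy_mono normalizerIn_le _ ha), fun x => ?_⟩
  rw [hse]
  exact Subgroup.mem_normalizer_iff.mp hs.2 x

theorem extGrp_conj (hP : P ≤ T) {n a : MulAut (W S P)} (hn : n ∈ stabW F P) (ha : a ∈ extGrp D hP) :
    n * a * n⁻¹ ∈ extGrp D hP := by
  have hPS := hP.trans D.le_S'
  obtain ⟨g', hg', he⟩ := (extFn_ev D ha).transport D hP (mapFn_ev (W_le hPS) hn.1) (stabW_image hPS hn)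
    (ev_image n)
  refine mem_extGrp_of_ev D hP hg' fun y hy => ?_
  have h1 := he _ (ev_mem n⁻¹ hy)
  rw [ev_ev_inv n hy] at h1
  rw [h1, ev_mul _ _ hy, ev_mul _ _ (ev_mem n⁻¹ hy)]

end

theorem sylIn_of_fullyAutomized {Ω : Type*} [Group Ω] {S P : Subgroup Ω} {F : FusionSystem S} [Finite S]
    {p : ℕ} [Fact p.Prime] (h : F.IsFullyAutomized p P) : SylIn p (autInducedBy S P) (F.autGroup P) := by
  obtain ⟨hPS, U, hU⟩ := h
  have := finite_mulAut hPS
  have h1 := sylIn_of_sylow U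
  rwa [hU, Subgroup.subgroupOf_map_subtype,
    inf_eq_left.mpr (autInducedBy_le_autGroup (F := F) hPS)] at h1

theorem sylIn_autS (hS : IsPGroup p S) (hF : F.IsSaturated p) (hn : F.IsFullyNormalized P) :
    SylIn p (autInducedBy S P) (F.autGroup P) :=
  sylIn_of_fullyAutomized (fullyNormalized_good hS hF hn).1

/-- `Aut_{N_S(P)}` is a Sylow subgroup of the stabilizer. -/
theorem sylIn_stabW (hS : IsPGroup p S) (hF : F.IsSaturated p) (hn : F.IsFullyNormalized P) :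
    SylIn p (autInducedBy (normalizerIn S P) (W S P)) (stabW F P) := by
  have hPS := hn.1
  have hWS := W_le (S := S) hPS
  have hPf := isFullyCentralized_of_fullyNormalized hS hF hn
  have := finite_mulAut hPS
  have := finite_mulAut hWS
  refine ⟨autS_le_stabW hPS, isPGroup_autInducedBy (hS.to_le normalizerIn_le) _, fun U hle hUK hU =>
    le_antisymm (fun r hr => ?_) hle⟩
  -- the restrictions to `P` form a `p`-subgroup
  let V : Subgroup (MulAut P) :=
    { carrier := {α | ∃ a ∈ U, ∀ x : P, ((α x : P) : Ω) = ev a (x : Ω)}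
      one_mem' := ⟨1, U.one_mem, fun x => (ev_one (le_W x.2)).symm⟩
      mul_mem' := by
        rintro α β ⟨a, ha, hae⟩ ⟨b, hb, hbe⟩
        refine ⟨a * b, U.mul_mem ha hb, fun x => ?_⟩
        rw [ev_mul _ _ (le_W x.2), MulAut.mul_apply, hae, hbe]
      inv_mem' := by
        rintro α ⟨a, ha, hae⟩
        refine ⟨a⁻¹, U.inv_mem ha, fun x => ?_⟩
        have h1 := hae (α⁻¹ x)
        rw [MulAut.apply_inv_self] at h1
        rw [h1, ev_inv_ev a (le_W (Subtype.mem _))] }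
  have hVp : IsPGroup p V := by
    rintro ⟨α, a, ha, hae⟩
    obtain ⟨k, hk⟩ := hU ⟨a, ha⟩
    have key : ∀ (j : ℕ) (x : P), (((α ^ j) x : P) : Ω) = ev (a ^ j) (x : Ω) := by
      intro j
      induction j with
      | zero => intro x; rw [pow_zero, pow_zero, ev_one (le_W x.2)]; rfl
      | succ j ih =>
        intro x
        rw [pow_succ', pow_succ', MulAut.mul_apply, hae, ih, ev_mul _ _ (le_W x.2)]
    refine ⟨k, Subtype.ext (MulEquiv.ext fun x => Subtype.ext ?_)⟩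
    show (((α ^ p ^ k) x : P) : Ω) = (x : Ω)
    rw [key, show a ^ p ^ k = 1 from congrArg Subtype.val hk, ev_one (le_W x.2)]
  have hVS : V = autInducedBy S P := (sylIn_autS hS hF hn).2.2 V (fun α hα => by
      obtain ⟨s, hs, hse⟩ := mem_autInducedBy.mp hα
      have hsn : s ∈ normalizerIn S P := ⟨hs, mem_normalizer_of_aut hse⟩
      obtain ⟨a, ha, hae⟩ := exists_autInducedBy (K := normalizerIn S P) hsn (normalizer_W hPS hsn)
      exact ⟨a, hle ha, fun x => (hse x).trans (ev_conj_of hae (le_W x.2)).symm⟩)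
    (fun α ⟨a, ha, hae⟩ => (mem_autGroup_iff_mapFn hPS).mpr
      ⟨ev a, (mapFn_ev hWS (hUK ha).1).mono le_W, fun x => (hae x).symm⟩) hVp
  obtain ⟨β, hβ, hβe⟩ := ((mapFn_ev hWS (hUK hr).1).mono le_W).exists_aut (stabW_image hPS (hUK hr))
  obtain ⟨s, hs, hse⟩ := mem_autInducedBy.mp (hVS.le ⟨r, hr, hβe⟩)
  have hsn : s ∈ normalizerIn S P := ⟨hs, mem_normalizer_of_aut hse⟩
  obtain ⟨c, hc, hce⟩ := exists_autInducedBy (K := normalizerIn S P) hsn (normalizer_W hPS hsn)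
  set k := c⁻¹ * r with hk
  have hkU : k ∈ U := U.mul_mem (U.inv_mem (hle hc)) hr
  suffices hkQ : k ∈ autInducedBy (normalizerIn S P) (W S P) by
    have := Subgroup.mul_mem _ hc hkQ
    rwa [hk, mul_inv_cancel_left] at this
  have hkP : ∀ x ∈ P, ev k x = x := fun x hx => by
    rw [hk, ev_mul _ _ (le_W hx), ← hβe ⟨x, hx⟩, hse, ← ev_conj_of hce (le_W hx), ev_inv_ev c (le_W hx)]
  have hkm : MapFn F (W S P) (ev k) := mapFn_ev hWS (hUK hkU).1
  set C := centralizerIn S P with hC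
  have := finite_of_le (centralizerIn_le : C ≤ S)
  have hCS : C ≤ S := centralizerIn_le
  have := finite_mulAut hCS
  have hCim : ev k '' C = (C : Set Ω) := (hkm.mono cen_le_W).image_eq_of_maps hCS
    (mapFn_cen hPS hkm fun x hx => by rw [hkP x hx]; exact hx) le_rfl
  obtain ⟨γ, hγ, hγe⟩ := (hkm.mono cen_le_W).exists_aut hCim
  have hsat : (fixSystem F hPS).IsSaturated p :=
    centralizerSystem_saturated hS hF hPf fun A => extHom_bot F P A
  have hγG : γ ∈ (fixSystem F hPS).autGroup C :=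
    mem_fix_autGroup hPS le_rfl (hkm.mono (sup_comm C P).le) (fun x => (hγe x).symm) hkP
  have := finite_of_le hCS
  have hsyl := sylIn_of_fullyAutomized ((saturated_iff_top_and_receptive (hS.to_le hCS)).mp hsat).1
  have hkp : IsPGroup p (Subgroup.zpowers γ) := by
    obtain ⟨l, hl⟩ := hU ⟨k, hkU⟩
    have key : ∀ (j : ℕ) (x : C), (((γ ^ j) x : C) : Ω) = ev (k ^ j) (x : Ω) := by
      intro j
      induction j with
      | zero => intro x; rw [pow_zero, pow_zero, ev_one (cen_le_W x.2)]; rfl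
      | succ j ih =>
        intro x
        rw [pow_succ', pow_succ', MulAut.mul_apply, hγe, ih, ev_mul _ _ (cen_le_W x.2)]
    have hγl : γ ^ p ^ l = 1 := MulEquiv.ext fun x => Subtype.ext (by
      rw [key, show k ^ p ^ l = 1 from congrArg Subtype.val hl, ev_one (cen_le_W x.2)]; rfl)
    rintro ⟨_, j, rfl⟩
    refine ⟨l, Subtype.ext ?_⟩
    show (γ ^ j) ^ p ^ l = 1
    rw [← zpow_natCast, ← zpow_mul, mul_comm, zpow_mul, zpow_natCast, hγl, one_zpow]
  obtain ⟨a, -, ha⟩ := hsyl.exists_conj hkp (Subgroup.zpowers_le.mpr hγG)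
  obtain ⟨d, hd, hde⟩ := mem_autInducedBy.mp (ha γ (Subgroup.mem_zpowers γ))
  -- `γ` is itself inner
  set d' := a⁻¹ ⟨d, hd⟩ with hd'
  have hγd : ∀ x : C, γ x = d' * x * d'⁻¹ := fun x => by
    have h1 : (a * γ * a⁻¹) (a x) = ⟨d, hd⟩ * a x * ⟨d, hd⟩⁻¹ := Subtype.ext (hde (a x))
    rw [MulAut.mul_apply, MulAut.mul_apply, MulAut.inv_apply_self] at h1
    apply a.injective
    rw [h1, map_mul, map_mul, map_inv, hd', MulAut.apply_inv_self]
  have hdN : (d' : Ω) ∈ normalizerIn S P := centralizerIn_le_normalizerIn d'.2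
  obtain ⟨c', hc', hce'⟩ := exists_autInducedBy (K := normalizerIn S P) hdN (normalizer_W hPS hdN)
  suffices k = c' by rw [this]; exact hc'
  refine aut_ext fun x hx => ?_
  refine MapFn.eq_on_sup hkm (mapFn_ev hWS (autS_le_stabW hPS hc').1) (fun y hy => ?_) (fun y hy => ?_) x hx
  · rw [hkP y hy, ev_conj_of hce' (le_W hy), ← (mem_centralizerIn.mp d'.2).2 y hy, mul_inv_cancel_right]
  · rw [← hγe ⟨y, hy⟩, hγd, ev_conj_of hce' (cen_le_W hy)]; rfl

section normalized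

variable (hS : IsPGroup p S) (hF : F.IsSaturated p) (hP : P ≤ T) (hPc : TCentric F T P)
  (hn : F.IsFullyNormalized P)

local notation "Q₀" => autInducedBy (normalizerIn S P) (W S P)

include hS hF hn in
/-- The conjugates of `Aut_{N_T(P)}` that lie in the Sylow subgroup are conjugations by elements of `T`. -/
theorem conj_auT (hP : P ≤ T) {k a : MulAut (W S P)} (hk : k ∈ stabW F P) (ha : a ∈ auT S T P)
    (hka : k * a * k⁻¹ ∈ Q₀) (hsc : F.StronglyClosed T) : k * a * k⁻¹ ∈ auT S T P := by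
  have hPS := hP.trans hsc.1
  have hWS := W_le (S := S) hPS
  have hWf : F.IsFullyCentralized (W S P) :=
    isFullyCentralized_of_centric (isCentric_W (isFullyCentralized_of_fullyNormalized hS hF hn))
  have hkm := mapFn_ev hWS hk.1
  obtain ⟨t, ht, hte⟩ := mem_autInducedBy.mp ha
  obtain ⟨s, hs, hse⟩ := mem_autInducedBy.mp hka
  obtain ⟨φ, hφ, hφe⟩ := id hkm
  have htS := hsc.1 ht.1
  have hWM : W S P ≤ W S P ⊔ Subgroup.zpowers t := le_sup_left
  have hle : W S P ⊔ Subgroup.zpowers t ≤ extender S (W S P) φ := by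
    refine sup_le (le_extender hWS (apply_mem_S hφ)) (Subgroup.zpowers_le.mpr (mem_extender.mpr
      ⟨htS, normalizer_W hPS ⟨htS, ht.2⟩, s, hs.1, fun x hx => ?_⟩))
    rw [hφe, hφe]
    show ev k (t * (x : Ω) * t⁻¹) = s * ev k x * s⁻¹
    have h1 := ev_conj_of hse (ev_mem k x.2)
    rw [← h1, ev_mul _ _ (ev_mem k x.2), ev_inv_ev k x.2, ev_mul _ _ x.2, ev_conj_of hte x.2]
  obtain ⟨G, hG, hGe⟩ := hkm.exists_extension (receptive_of_fullyCentralized hS hF hWf) (ev_image k) hWM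
    (sup_le (Fusion.le_normalizerIn hWS) (Subgroup.zpowers_le.mpr ⟨htS, normalizer_W hPS ⟨htS, ht.2⟩⟩))
    (fun n hn => by
      obtain ⟨-, hnN, u, hu, he⟩ := mem_extender.mp (hle hn)
      refine ⟨u, hu, fun x hx => ?_⟩
      have h1 := he ⟨x, hx⟩ (conj_mem_of_normalizer hnN hx)
      rwa [hφe, hφe] at h1)
  have htM : t ∈ W S P ⊔ Subgroup.zpowers t := Subgroup.mem_sup_right (Subgroup.mem_zpowers t)
  have hGt : G t ∈ T := mapFn_mem hsc hG htM ht.1
  have hGP : G '' P = (P : Set Ω) :=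
    (Set.image_congr fun x hx => hGe x (le_W hx)).trans (stabW_image hPS hk)
  refine mem_autInducedBy.mpr ⟨G t, ⟨hGt, (hG.mem_normalizerIn (le_W.trans hWM) hGP htM ht.2).2⟩, fun x => ?_⟩
  obtain ⟨y, hy, hyx⟩ := exists_of_image (ev_image k) x.2
  have hmem : t * y * t⁻¹ ∈ W S P := conj_mem_of_normalizer (normalizer_W hPS ⟨htS, ht.2⟩) hy
  rw [← ev_val, ← hyx, ev_mul _ _ (ev_mem k hy), ev_inv_ev k hy, ev_mul _ _ hy, ev_conj_of hte hy,
    ← hGe _ hmem, hG.map_conj htM (hWM hy), hGe y hy]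

include hS hF hPc hn in
theorem opr_inf : Q₀ ⊓ opr p (extGrp D hP) ≤ auT S T P := by
  have hWS := W_le (S := S) (hP.trans D.le_S')
  have := finite_mulAut hWS
  have hNK := extGrp_le_stabW D hP
  have hsyl := (sylIn_stabW hS hF hn).inf_normal hNK fun a ha b hb => extGrp_conj D hP ha hb
  obtain ⟨U, hU⟩ := hsyl.exists_sylow
  rintro x ⟨hxQ, z, hz, rfl⟩
  have hzU : z ∈ (U : Subgroup (extGrp D hP)) := hU.ge ⟨hxQ, z.2⟩
  have h1 := CfsgLib.Transfer.inf_pResidual_le_focal U ⟨hzU, hz⟩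
  refine Subgroup.mem_comap.mp ((?_ : Subgroup.focalSubgroup (U : Subgroup (extGrp D hP)) ≤
    (auT S T P).comap (extGrp D hP).subtype) h1)
  rw [Subgroup.focalSubgroup_def, Subgroup.closure_le]
  rintro g ⟨hg, b₀, hb₀, a, rfl⟩
  have hb : ((b₀⁻¹ : extGrp D hP) : MulAut (W S P)) ∈ Q₀ :=
    ((hU.le (Subgroup.inv_mem _ hb₀)) : _ ∈ Q₀ ⊓ extGrp D hP).1
  have hab : ((a * b₀⁻¹ * a⁻¹ : extGrp D hP) : MulAut (W S P)) ∈ Q₀ := by
    have h2 := hU.le (Subgroup.mul_mem _ (Subgroup.inv_mem _ hb₀) hg)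
    have e : b₀⁻¹ * ⁅b₀, a⁆ = a * b₀⁻¹ * a⁻¹ := by rw [commutatorElement_def]; group
    rw [e] at h2
    exact (h2 : _ ∈ Q₀ ⊓ extGrp D hP).1
  obtain ⟨s, hs, hse⟩ := mem_autInducedBy.mp hb
  obtain ⟨s', hs', hse'⟩ := mem_autInducedBy.mp hab
  obtain ⟨t, ht, hte⟩ := focal_step D hS hF hP hPc hn hs a.2 (Subgroup.inv_mem _ b₀.2) hse hs' hse'
  refine mem_autInducedBy.mpr ⟨t, ht, fun x => ?_⟩
  rw [← hte x]
  simp [commutatorElement_def, mul_assoc]

omit [Fact p.Prime] in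
theorem auT_le_jW : auT S T P ≤ jW D hP := le_sup_right

omit [Fact p.Prime] in
theorem opr_le_jW : opr p (extGrp D hP) ≤ jW D hP := le_sup_left

omit [Fact p.Prime] in
theorem mem_jW {x : MulAut (W S P)} (hx : x ∈ jW D hP) :
    ∃ o ∈ opr p (extGrp D hP), ∃ c ∈ auT S T P, x = o * c := by
  have hle : auT S T P ≤ Subgroup.normalizer (opr p (extGrp D hP) : Set (MulAut (W S P))) := fun a ha => by
    have hh : ∀ b ∈ extGrp D hP, ∀ g ∈ opr p (extGrp D hP), b * g * b⁻¹ ∈ opr p (extGrp D hP) := fun b hb g hg =>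
      conj_mem_opr (fun y hy => Subgroup.mul_mem _ (Subgroup.mul_mem _ hb hy) (Subgroup.inv_mem _ hb)) g hg
    refine Subgroup.mem_normalizer_iff.mpr fun g => ⟨hh a (auT_le_extGrp D hP ha) g, fun hg => ?_⟩
    have := hh a⁻¹ (Subgroup.inv_mem _ (auT_le_extGrp D hP ha)) _ hg
    simpa [mul_assoc] using this
  rw [jW, ← SetLike.mem_coe, Subgroup.coe_mul_of_right_le_normalizer_left _ _ hle] at hx
  obtain ⟨o, ho, c, hc, rfl⟩ := hx
  exact ⟨o, ho, c, hc, rfl⟩

include hS hF hPc hn in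
theorem jW_inf : Q₀ ⊓ jW D hP = auT S T P := by
  refine le_antisymm (fun x hx => ?_) (le_inf (auT_le_autS D.le_S') (auT_le_jW D hP))
  obtain ⟨o, ho, c, hc, rfl⟩ := mem_jW D hP hx.2
  refine Subgroup.mul_mem _ (opr_inf D hS hF hP hPc hn ⟨?_, ho⟩) hc
  have := Subgroup.mul_mem _ hx.1 (Subgroup.inv_mem _ (auT_le_autS (P := P) D.le_S' hc))
  rwa [mul_inv_cancel_right] at this

include hS hF hn in
/-- `jW` is normal in the stabilizer. -/
theorem conj_jW {n x : MulAut (W S P)} (hn' : n ∈ stabW F P) (hx : x ∈ jW D hP) : n * x * n⁻¹ ∈ jW D hP := by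
  have hPS := hP.trans D.le_S'
  have := finite_mulAut (W_le (S := S) hPS)
  have hNK := extGrp_le_stabW D hP
  have hN : ∀ a ∈ stabW F P, ∀ b ∈ extGrp D hP, a * b * a⁻¹ ∈ extGrp D hP := fun a ha b hb => extGrp_conj D hP ha hb
  have hsyl := sylIn_stabW hS hF hn
  have hO : ∀ m ∈ stabW F P, ∀ g ∈ opr p (extGrp D hP), m * g * m⁻¹ ∈ opr p (extGrp D hP) := fun m hm =>
    conj_mem_opr (hN m hm)
  refine (?_ : jW D hP ≤ (jW D hP).comap (MulAut.conj n).toMonoidHom) hx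
  refine sup_le (fun g hg => opr_le_jW D hP (hO n hn' g hg)) fun a ha => ?_
  obtain ⟨h, hh, k, hk, hkQ, rfl⟩ := exists_frattini_mul hsyl hNK hN hn'
  have h1 : k * a * k⁻¹ ∈ auT S T P :=
    conj_auT hS hF hn hP hk ha (hkQ a ⟨auT_le_autS D.le_S' ha, auT_le_extGrp D hP ha⟩).1 D.sc
  obtain ⟨o, ho, q, hq, rfl⟩ := (hsyl.inf_normal hNK hN).exists_opr_mul hh
  have h2 : q * (k * a * k⁻¹) * q⁻¹ ∈ auT S T P := by
    obtain ⟨s, hs, hse⟩ := mem_autInducedBy.mp hq.1
    obtain ⟨t, ht, hte⟩ := mem_autInducedBy.mp h1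
    have hsT := StronglyClosed.le_normalizer D.sc hs.1
    refine mem_autInducedBy.mpr ⟨s * t * s⁻¹, ⟨conj_mem_of_normalizer hsT ht.1,
      Subgroup.mul_mem _ (Subgroup.mul_mem _ hs.2 ht.2) (Subgroup.inv_mem _ hs.2)⟩, fun x => ?_⟩
    obtain ⟨y, rfl⟩ := q.surjective x
    rw [MulAut.mul_apply, MulAut.mul_apply, MulAut.inv_apply_self, hse, hte, hse]
    group
  show o * q * k * a * (o * q * k)⁻¹ ∈ jW D hP
  rw [show o * q * k * a * (o * q * k)⁻¹ = o * (q * (k * a * k⁻¹) * q⁻¹) * o⁻¹ by group]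
  exact Subgroup.mul_mem _ (Subgroup.mul_mem _ (opr_le_jW D hP ho) (auT_le_jW D hP h2))
    (Subgroup.inv_mem _ (opr_le_jW D hP ho))

include hS hF hPc hn in
theorem sylIn_jW : SylIn p (auT S T P) (jW D hP) := by
  have := finite_mulAut (W_le (S := S) (hP.trans D.le_S'))
  rw [← jW_inf D hS hF hP hPc hn]
  exact (sylIn_stabW hS hF hn).inf_normal (jW_le_stabW D hP) fun a ha b hb => conj_jW D hS hF hP hn ha hb

include hPc in
/-- A controlled automorphism fixing `P` has `p`-power order. -/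
theorem pow_eq_one_of_fix (hS : IsPGroup p S) {a : MulAut (W S P)} (ha : a ∈ extGrp D hP)
    (hfix : ∀ x ∈ P, ev a x = x) : ∃ k : ℕ, a ^ p ^ k = 1 := by
  have hPS := hP.trans D.le_S'
  have := finite_of_le hPS
  obtain ⟨l, hl⟩ := IsPGroup.iff_card.mp (hS.to_le hPS)
  refine ⟨l, aut_ext fun x hx => ?_⟩
  have hm := mapFn_ev (F := F) (W_le hPS) (Subgroup.pow_mem _ (extGrp_le D hP ha) (p ^ l))
  rw [ev_one hx]
  refine MapFn.eq_on_sup hm (mapFn_id (W_le hPS)) (fun y hy => ?_) (fun c hc => ?_) x hx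
  · rw [ev_pow_fixed a (le_W hy) (Subgroup.one_mem _) (by rw [hfix y hy, mul_one]) (hfix 1 P.one_mem)]
    simp
  · have hg := extFn_ev D ha
    have hz1 : c⁻¹ * ev a c ∈ T := hg.2.2.1 c hc
    have hz2 : c⁻¹ * ev a c ∈ centralizerIn S P :=
      Subgroup.mul_mem _ (Subgroup.inv_mem _ hc) (mapFn_cen hPS hg.1 hg.2.1 c hc)
    have hz : c⁻¹ * ev a c ∈ P := TCentric.centralizer_le D.le_S' hPc ⟨hz1, hz2.2⟩
    rw [ev_pow_fixed a (cen_le_W hc) (le_W hz) (mul_inv_cancel_left c _).symm (hfix _ hz)]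
    have hpow : (⟨_, hz⟩ : P) ^ p ^ l = 1 := by rw [← hl]; exact pow_card_eq_one'
    show c * (c⁻¹ * ev a c) ^ p ^ l = c
    rw [show (c⁻¹ * ev a c) ^ p ^ l = 1 from congrArg Subtype.val hpow, mul_one]

include hS hF hPc hn in
/-- An element of `jW` fixing `P` is trivial. -/
theorem eq_one_of_fix {a : MulAut (W S P)} (ha : a ∈ jW D hP) (hfix : ∀ x ∈ P, ev a x = x) : a = 1 := by
  have hPS := hP.trans D.le_S'
  have := finite_mulAut (W_le (S := S) hPS)
  let N : Subgroup (MulAut (W S P)) :=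
    { carrier := {a | a ∈ jW D hP ∧ ∀ x ∈ P, ev a x = x}
      one_mem' := ⟨Subgroup.one_mem _, fun x hx => ev_one (le_W hx)⟩
      mul_mem' := fun {a b} ha hb => ⟨Subgroup.mul_mem _ ha.1 hb.1, fun x hx => by
        rw [ev_mul _ _ (le_W hx), hb.2 x hx, ha.2 x hx]⟩
      inv_mem' := fun {a} ha => ⟨Subgroup.inv_mem _ ha.1, fun x hx => by
        conv_lhs => rw [← ha.2 x hx]
        exact ev_inv_ev a (le_W hx)⟩ }
  have hNp : IsPGroup p N := fun b => by
    obtain ⟨k, hk⟩ := pow_eq_one_of_fix D hP hPc hS (jW_le_extGrp D hP b.2.1) b.2.2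
    exact ⟨k, Subtype.ext hk⟩
  obtain ⟨g, hg, hgN⟩ := (sylIn_jW D hS hF hP hPc hn).exists_conj hNp fun b hb => hb.1
  have hb : g⁻¹ * a * g ∈ N := by
    have hgs := jW_le_stabW D hP hg
    refine ⟨Subgroup.mul_mem _ (Subgroup.mul_mem _ (Subgroup.inv_mem _ hg) ha) hg, fun x hx => ?_⟩
    rw [ev_mul _ _ (le_W hx), ev_mul _ _ (ev_mem g (le_W hx)), hfix _ (stabW_mem hgs hx), ev_inv_ev g (le_W hx)]
  have h1 := hgN _ hb
  rw [show g * (g⁻¹ * a * g) * g⁻¹ = a by group] at h1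
  obtain ⟨t, ht, hte⟩ := mem_autInducedBy.mp h1
  have htC : t ∈ centralizerIn T P := mem_centralizerIn.mpr ⟨ht.1, fun x hx => by
    calc x * t = t * x * t⁻¹ * t := by rw [← ev_conj_of hte (le_W hx), hfix x hx]
      _ = t * x := by group⟩
  have htP := TCentric.centralizer_le D.le_S' hPc htC
  refine aut_ext fun x hx => ?_
  rw [ev_one hx]
  refine MapFn.eq_on_sup (mapFn_ev (F := F) (W_le hPS) (jW_le_stabW D hP ha).1) (mapFn_id (W_le hPS)) hfix
    (fun c hc => ?_) x hx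
  rw [ev_conj_of hte (cen_le_W hc), (mem_centralizerIn.mp hc).2 t htP, mul_inv_cancel_right]
  rfl

end normalized

/-- An automorphism of `P` that is, on every fully normalized conjugate, a restriction from `jW`. -/
def JMap (P : Subgroup Ω) (g : Ω → Ω) : Prop :=
  MapFn F P g ∧ g '' P = (P : Set Ω) ∧ ∀ (R : Subgroup Ω) (f : Ω → Ω), F.IsFullyNormalized R → MapFn F P f →
    f '' P = (R : Set Ω) → ∀ hR : R ≤ T, ∃ a ∈ jW D hR, ∀ x ∈ P, f (g x) = ev a (f x)

variable {g g' : Ω → Ω}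

omit [Fact p.Prime] in
theorem JMap.congr (h : JMap D P g) (e : ∀ x ∈ P, g x = g' x) : JMap D P g' :=
  ⟨h.1.congr e, (Set.image_congr fun x hx => (e x hx).symm).trans h.2.1, fun R f hR hf hfR hRT => by
    obtain ⟨a, ha, hae⟩ := h.2.2 R f hR hf hfR hRT
    exact ⟨a, ha, fun x hx => by rw [← e x hx, hae x hx]⟩⟩

omit [Fact p.Prime] in
theorem jMap_id (hP : P ≤ S) : JMap D P id :=
  ⟨mapFn_id hP, Set.image_id _, fun R f _ _ hfR _ => ⟨1, Subgroup.one_mem _, fun x hx =>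
    (ev_one (le_W (mem_of_image hfR hx))).symm⟩⟩

omit [Fact p.Prime] in
theorem JMap.comp (h : JMap D P g) (h' : JMap D P g') : JMap D P (g' ∘ g) := by
  refine ⟨h.1.comp h'.1 fun x hx => mem_of_image h.2.1 hx, image_comp h.2.1 h'.2.1, fun R f hR hf hfR hRT => ?_⟩
  obtain ⟨a, ha, hae⟩ := h.2.2 R f hR hf hfR hRT
  obtain ⟨b, hb, hbe⟩ := h'.2.2 R f hR hf hfR hRT
  refine ⟨b * a, Subgroup.mul_mem _ hb ha, fun x hx => ?_⟩
  show f (g' (g x)) = _
  rw [hbe _ (mem_of_image h.2.1 hx), hae x hx, ev_mul _ _ (le_W (mem_of_image hfR hx))]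

omit [Fact p.Prime] in
theorem JMap.inv (h : JMap D P g) (hg' : ∀ x ∈ P, g' (g x) = x) : JMap D P g' := by
  obtain ⟨k, hk, hkr, hk₁, hk₂⟩ := h.1.exists_inv h.2.1
  have hkg : ∀ y ∈ P, k y = g' y := fun y hy => by
    obtain ⟨x, hx, rfl⟩ := exists_of_image h.2.1 hy
    rw [hk₁ x hx, hg' x hx]
  refine ⟨hk.congr hkg, (Set.image_congr fun y hy => (hkg y hy).symm).trans hkr, fun R f hR hf hfR hRT => ?_⟩
  obtain ⟨a, ha, hae⟩ := h.2.2 R f hR hf hfR hRT
  refine ⟨a⁻¹, Subgroup.inv_mem _ ha, fun x hx => ?_⟩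
  rw [← hkg x hx]
  have h1 := hae _ (mem_of_image hkr hx)
  rw [hk₂ x hx] at h1
  rw [h1, ev_inv_ev a (le_W (mem_of_image hfR (mem_of_image hkr hx)))]

omit [Fact p.Prime] in
/-- Transport along an isomorphism of the system. -/
theorem JMap.transport (h : JMap D P g) {f : Ω → Ω} (hf : MapFn F P f) (hfQ : f '' P = (Q : Set Ω))
    (he : ∀ x ∈ P, g' (f x) = f (g x)) : JMap D Q g' := by
  obtain ⟨k, hk, hkr, hk₁, hk₂⟩ := hf.exists_inv hfQ
  have hm : ∀ x ∈ P, g x ∈ P := fun x hx => mem_of_image h.2.1 hx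
  have hg' : ∀ y ∈ Q, f (g (k y)) = g' y := fun y hy => by
    rw [← he _ (mem_of_image hkr hy), hk₂ y hy]
  refine ⟨((hk.comp h.1 fun y hy => mem_of_image hkr hy).comp hf
    fun y hy => hm _ (mem_of_image hkr hy)).congr hg', ?_, fun R u hR hu huR hRT => ?_⟩
  · exact (Set.image_congr hg').symm.trans (image_comp (image_comp hkr h.2.1) hfQ)
  · obtain ⟨a, ha, hae⟩ := h.2.2 R (u ∘ f) hR (hf.comp hu fun x hx => mem_of_image hfQ hx)
      (image_comp hfQ huR) hRT
    refine ⟨a, ha, fun y hy => ?_⟩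
    obtain ⟨x, hx, rfl⟩ := exists_of_image hfQ hy
    rw [he x hx]
    exact hae x hx

/-- A normalizer map carries `P C_S(P)` onto that of the fully normalized conjugate. -/
theorem normalizer_map_W (hS : IsPGroup p S) (hF : F.IsSaturated p) (hPn : F.IsFullyNormalized P)
    (hRn : F.IsFullyNormalized R) {h : Ω → Ω} (hh : MapFn F (normalizerIn S P) h)
    (hhR : h '' P = (R : Set Ω)) : MapFn F (W S P) h ∧ h '' W S P = (W S R : Set Ω) := by
  have hPS := hPn.1
  have hle : W S P ≤ normalizerIn S P := sup_le (le_normalizerIn hPS) centralizerIn_le_normalizerIn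
  have hm := hh.mono hle
  obtain ⟨θ, hθ, -, -, hθW⟩ := exists_W_map (p := p) hS hF (hm.mono le_W) hhR
    (isFullyCentralized_of_fullyNormalized hS hF hPn) (isFullyCentralized_of_fullyNormalized hS hF hRn)
  refine ⟨hm, hm.image_eq_of_maps (W_le hRn.1) (hm.maps_sup (fun x hx => le_W (mem_of_image hhR hx))
    fun c hc => cen_le_W (hm.mem_centralizerIn le_W hhR (cen_le_W hc) hc)) ?_⟩
  rw [hθ.card_image hθW]

/-- Maps between fully normalized subgroups carry `jW` to `jW`. -/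
theorem jW_transport (hS : IsPGroup p S) (hF : F.IsSaturated p) (hP : P ≤ T) (hR : R ≤ T)
    (hPn : F.IsFullyNormalized P) (hRn : F.IsFullyNormalized R) {θ : Ω → Ω} (hθ : MapFn F (W S P) θ)
    (hθR : θ '' P = (R : Set Ω)) (hθW : θ '' W S P = (W S R : Set Ω)) {a : MulAut (W S P)} (ha : a ∈ jW D hP) :
    ∃ b ∈ jW D hR, ∀ x ∈ W S P, θ (ev a x) = ev b (θ x) := by
  have hPS := hP.trans D.le_S'
  have hRS := hR.trans D.le_S'
  obtain ⟨φ, hφ, hφe⟩ := id hθ
  obtain ⟨e, he⟩ := exists_equiv hφ (Q := W S R)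
    (SetLike.coe_injective (by rw [← MapFn.image_eq_range hφe, hθW]))
  have hee : ∀ x : W S P, ((e x : W S R) : Ω) = θ x := fun x => (he x).trans (hφe x)
  set Φ := (MulAut.congr e).toMonoidHom with hΦ
  have hΦe : ∀ (a : MulAut (W S P)) (x : Ω), x ∈ W S P → θ (ev a x) = ev (Φ a) (θ x) := fun a x hx => by
    rw [ev_coe a hx, ← hee (a ⟨x, hx⟩), ← hee ⟨x, hx⟩, ev_val]
    congr 1
    simp [Φ, MulAut.congr]
  refine ⟨Φ a, ?_, hΦe a⟩
  refine (?_ : jW D hP ≤ (jW D hR).comap Φ) ha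
  refine sup_le (Subgroup.map_le_iff_le_comap.mp ((map_opr_le Φ fun b hb => ?_).trans (opr_le_jW D hR)))
    fun c hc => ?_
  · obtain ⟨g', hg', hge⟩ := (extFn_ev D hb).transport D hP hθ hθR hθW
    refine mem_extGrp_of_ev D hR hg' fun y hy => ?_
    obtain ⟨x, hx, rfl⟩ := exists_of_image hθW hy
    rw [hge x hx, hΦe b x hx]
  · obtain ⟨t, ht, hte⟩ := mem_autInducedBy.mp hc
    have htS : t ∈ normalizerIn S P := ⟨D.le_S' ht.1, ht.2⟩
    obtain ⟨h, hh, hhR, hhN⟩ := exists_normalizer_mapFn hS hF hRn ((hθ.mono le_W).isConj hθR)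
    obtain ⟨hhW, hhWr⟩ := normalizer_map_W hS hF hPn hRn hh hhR
    obtain ⟨hi, hhi, hhir, hhi₁, hhi₂⟩ := hhW.exists_inv hhWr
    have hk : MapFn F (W S R) (θ ∘ hi) := hhi.comp hθ fun y hy => mem_of_image hhir hy
    obtain ⟨k, hkA, hke⟩ := hk.exists_aut (image_comp hhir hθW)
    have hkR : k ∈ stabW F R := by
      refine ⟨hkA, fun y => ?_⟩
      obtain ⟨x, hx, hxy⟩ := exists_of_image hhWr y.2
      rw [hke, ← hxy]
      show h x ∈ R ↔ θ (hi (h x)) ∈ R
      rw [hhi₁ x hx]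
      refine ⟨fun hm => ?_, fun hm => ?_⟩
      · obtain ⟨z, hz, hzx⟩ := exists_of_image hhR hm
        rw [← hhW.injOn (le_W hz) hx hzx]; exact mem_of_image hθR hz
      · obtain ⟨z, hz, hzx⟩ := exists_of_image hθR hm
        rw [← hθ.injOn (le_W hz) hx hzx]; exact mem_of_image hhR hz
    have htT : h t ∈ normalizerIn T R := ⟨mapFn_mem D.sc hh htS ht.1, (hhN t htS).2⟩
    obtain ⟨c', hc', hce'⟩ := exists_autInducedBy (K := normalizerIn T R) htT
      (normalizer_W hRS ⟨D.le_S' htT.1, htT.2⟩)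
    suffices Φ c = k * c' * k⁻¹ by
      show Φ c ∈ jW D hR
      rw [this]; exact conj_jW D hS hF hR hRn hkR (auT_le_jW D hR hc')
    refine aut_ext fun y hy => ?_
    obtain ⟨x, hx, rfl⟩ := exists_of_image hθW hy
    have hkx : ev k (h x) = θ x := by
      rw [ev_coe k (mem_of_image hhWr hx), hke]
      show θ (hi (h x)) = θ x
      rw [hhi₁ x hx]
    have hmem : t * x * t⁻¹ ∈ W S P := conj_mem_of_normalizer (normalizer_W hPS htS) hx
    rw [← hΦe c x hx, ev_conj_of hte hx, ev_mul _ _ (mem_of_image hθW hx)]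
    conv_rhs => rw [← hkx, ev_inv_ev k (mem_of_image hhWr hx), ev_mul _ _ (mem_of_image hhWr hx),
      ev_conj_of hce' (mem_of_image hhWr hx), ← hh.map_conj htS ((sup_le (le_normalizerIn hPS)
        centralizerIn_le_normalizerIn : W S P ≤ normalizerIn S P) hx)]
    rw [ev_coe k (mem_of_image hhWr hmem), hke]
    show θ (t * x * t⁻¹) = θ (hi (h (t * x * t⁻¹)))
    rw [hhi₁ _ hmem]

/-- For fully normalized `P` the maps `JMap` are the restrictions of `jW`. -/
theorem jMap_iff (hS : IsPGroup p S) (hF : F.IsSaturated p) (hP : P ≤ T) (hn : F.IsFullyNormalized P) :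
    JMap D P g ↔ ∃ a ∈ jW D hP, ∀ x ∈ P, g x = ev a x := by
  have hPS := hP.trans D.le_S'
  refine ⟨fun h => h.2.2 P id hn (mapFn_id hPS) (Set.image_id _) hP, ?_⟩
  rintro ⟨a, ha, hae⟩
  have hst := jW_le_stabW D hP ha
  refine JMap.congr (g := ev a) D ⟨(mapFn_ev (W_le hPS) hst.1).mono le_W, stabW_image hPS hst,
    fun R f hRn hf hfR hR => ?_⟩ fun x hx => (hae x hx).symm
  obtain ⟨θ, hθ, hθe, hθR, hθW⟩ := exists_W_map (p := p) hS hF hf hfR
    (isFullyCentralized_of_fullyNormalized hS hF hn) (isFullyCentralized_of_fullyNormalized hS hF hRn)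
  obtain ⟨b, hb, hbe⟩ := jW_transport D hS hF hP hR hn hRn hθ hθR hθW ha
  exact ⟨b, hb, fun x hx => by rw [← hθe x hx, ← hθe _ (stabW_mem hst hx)]; exact hbe x (le_W hx)⟩

/-- Conjugation by an element of `N_T(P)`. -/
theorem jMap_conj (hS : IsPGroup p S) (hF : F.IsSaturated p) (hP : P ≤ T) {t : Ω}
    (ht : t ∈ normalizerIn T P) : JMap D P fun x => t * x * t⁻¹ := by
  have hPS := hP.trans D.le_S'
  have htS : t ∈ normalizerIn S P := ⟨D.le_S' ht.1, ht.2⟩
  obtain ⟨R, h, hRn, hh, hhR, hhN⟩ := exists_fullyNormalized_mapFn hS hF hPS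
  have hPN := le_normalizerIn hPS
  have hRT : R ≤ T := fun y hy => by
    obtain ⟨x, hx, rfl⟩ := exists_of_image hhR hy
    exact mapFn_mem D.sc hh (hPN hx) (hP hx)
  have hRS := hRn.1
  have htT : h t ∈ normalizerIn T R := ⟨mapFn_mem D.sc hh htS ht.1, (hhN t htS).2⟩
  obtain ⟨c, hc, hce⟩ := exists_autInducedBy (K := normalizerIn T R) htT
    (normalizer_W hRS ⟨D.le_S' htT.1, htT.2⟩)
  have h1 : JMap D R fun y => h t * y * (h t)⁻¹ :=
    (jMap_iff D hS hF hRT hRn).mpr ⟨c, auT_le_jW D hRT hc, fun y hy => (ev_conj_of hce (le_W hy)).symm⟩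
  obtain ⟨hi, hhi, hhir, hhi₁, hhi₂⟩ := (hh.mono hPN).exists_inv hhR
  refine h1.transport D hhi hhir fun y hy => ?_
  obtain ⟨x, hx, rfl⟩ := exists_of_image hhR hy
  show t * hi (h x) * t⁻¹ = hi (h t * h x * (h t)⁻¹)
  rw [hhi₁ x hx, ← hh.map_conj htS (hPN hx), hhi₁ _ (conj_mem_of_normalizer ht.2 hx)]

/-- The group of `JMap`s. -/
def jAut (hP : P ≤ S) : Subgroup (MulAut P) where
  carrier := {α | JMap D P (ev α)}
  one_mem' := (jMap_id D hP).congr D fun x hx => (ev_one hx).symm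
  mul_mem' := fun {a b} ha hb => (hb.comp D ha).congr D fun x hx => (ev_mul a b hx).symm
  inv_mem' := fun {a} ha => ha.inv D fun x hx => ev_inv_ev a hx

/-- `Aut_T(P)` is a Sylow subgroup of the `JMap`s of fully normalized `P`. -/
theorem sylIn_jAut (hS : IsPGroup p S) (hF : F.IsSaturated p) (hP : P ≤ T) (hPc : TCentric F T P)
    (hn : F.IsFullyNormalized P) : SylIn p (autInducedBy T P) (jAut D (hP.trans D.le_S')) := by
  have hPS := hP.trans D.le_S'
  have := finite_mulAut hPS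
  have := finite_mulAut (W_le (S := S) hPS)
  refine sylIn_of_card (fun α hα => ?_) (isPGroup_autInducedBy (hS.to_le D.le_S') P) fun U _ hUK hU => ?_
  · obtain ⟨t, ht, hte⟩ := mem_autInducedBy.mp hα
    exact (jMap_conj D hS hF hP ⟨ht, mem_normalizer_of_aut hte⟩).congr D fun x hx => (ev_conj_of hte hx).symm
  let U' : Subgroup (MulAut (W S P)) :=
    { carrier := {a | a ∈ jW D hP ∧ ∃ α ∈ U, ∀ x ∈ P, ev a x = ev α x}
      one_mem' := ⟨Subgroup.one_mem _, 1, U.one_mem, fun x hx => by rw [ev_one (le_W hx), ev_one hx]⟩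
      mul_mem' := by
        rintro a b ⟨ha, α, hα, hae⟩ ⟨hb, β, hβ, hbe⟩
        refine ⟨Subgroup.mul_mem _ ha hb, α * β, U.mul_mem hα hβ, fun x hx => ?_⟩
        rw [ev_mul _ _ (le_W hx), ev_mul _ _ hx, hbe x hx, hae _ (ev_mem β hx)]
      inv_mem' := by
        rintro a ⟨ha, α, hα, hae⟩
        refine ⟨Subgroup.inv_mem _ ha, α⁻¹, U.inv_mem hα, fun x hx => ?_⟩
        conv_lhs => rw [← ev_ev_inv α hx, ← hae _ (ev_mem _ hx)]
        exact ev_inv_ev a (le_W (ev_mem _ hx)) }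
  have hU'p : IsPGroup p U' := by
    rintro ⟨a, ha, α, hα, hae⟩
    obtain ⟨k, hk⟩ := hU ⟨α, hα⟩
    refine ⟨k, Subtype.ext (eq_one_of_fix D hS hF hP hPc hn (Subgroup.pow_mem _ ha _) fun x hx => ?_)⟩
    have key : ∀ j : ℕ, ∀ y ∈ P, ev (a ^ j) y = ev (α ^ j) y := by
      intro j
      induction j with
      | zero => intro y hy; rw [pow_zero, pow_zero, ev_one (le_W hy), ev_one hy]
      | succ j ih =>
        intro y hy
        rw [pow_succ', pow_succ', ev_mul _ _ (le_W hy), ev_mul _ _ hy, ih y hy, hae _ (ev_mem _ hy)]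
    show ev (a ^ p ^ k) x = x
    rw [key _ x hx, show α ^ p ^ k = 1 from congrArg Subtype.val hk, ev_one hx]
  obtain ⟨g, hg, hgU⟩ := (sylIn_jW D hS hF hP hPc hn).exists_conj hU'p fun a ha => ha.1
  have hgs := jW_le_stabW D hP hg
  obtain ⟨γ, -, hγe⟩ := ((mapFn_ev (W_le hPS) hgs.1).mono le_W).exists_aut (stabW_image hPS hgs)
  rw [← card_map_conj U γ]
  refine Subgroup.card_le_of_le ?_
  rintro _ ⟨α, hα, rfl⟩
  obtain ⟨a, ha, hae⟩ := (jMap_iff D hS hF hP hn).mp (hUK hα)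
  obtain ⟨t, ht, hte⟩ := mem_autInducedBy.mp (hgU a ⟨ha, α, hα, fun x hx => (hae x hx).symm⟩)
  refine mem_autInducedBy.mpr ⟨t, ht.1, fun x => ?_⟩
  obtain ⟨y, rfl⟩ := γ.surjective x
  show (((γ * α * γ⁻¹) (γ y) : P) : Ω) = _
  rw [MulAut.mul_apply, MulAut.mul_apply, MulAut.inv_apply_self, hγe, hγe,
    ← ev_conj_of hte (ev_mem g (le_W y.2)), ev_mul _ _ (ev_mem g (le_W y.2)), ev_inv_ev g (le_W y.2),
    ev_mul _ _ (le_W y.2), ← hae _ y.2, ev_val]

end CfsgLib.Meet
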