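import Cfsg.Agent.Lib.Fusion.CoreComponents
import Cfsg.Agent.Lib.Fusion.SubsystemCentralizer
import Cfsg.Agent.Lib.Fusion.ConstrainedLocal
import Cfsg.Agent.Lib.Transfer.Basic

/-!
# The meet of invariant subsystems, I: controlled extensions

A family of saturated invariant subsystems `E i` over `Ti i` with `T = ⋂ Ti i` is given. For `P ≤ T` a map is
*controlled* on `W = P C_S(P)` when it leaves `P` invariant, moves the elements of `C_S(P)` only within `T`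
and restricts to a map of each `E i`. For fully centralized `P` these form a group whose `p`-elements
inside `Aut_S(W)` are, modulo the focal subgroup, conjugations by elements of `T`.
-/

set_option autoImplicit false

namespace CfsgLib.Meet

open Cfsg Cfsg.FusionSystem CfsgLib.Fusion CfsgLib.FusionNormal

variable {Ω : Type*} [Group Ω] {S : Subgroup Ω}

/-- A finite family of saturated invariant subsystems whose groups meet in `T`. -/
structure Datum (F : FusionSystem S) (p : ℕ) (T : Subgroup Ω) where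
  /-- the index type -/
  ι : Type
  nonempty : Nonempty ι
  /-- the groups -/
  Ti : ι → Subgroup Ω
  /-- the subsystems -/
  E : ∀ i, FusionSystem (Ti i)
  sat : ∀ i, (E i).IsSaturated p
  inv : ∀ i, (E i).IsInvariantIn F
  le : ∀ i, T ≤ Ti i
  glb : ∀ x, (∀ i, x ∈ Ti i) → x ∈ T
  sc : F.StronglyClosed T

variable {F : FusionSystem S} {p : ℕ} {T : Subgroup Ω} {P Q R : Subgroup Ω}

/-- `P C_S(P)`. -/
def W (S : Subgroup Ω) (P : Subgroup Ω) : Subgroup Ω := P ⊔ centralizerIn S P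

theorem le_W : P ≤ W S P := le_sup_left

theorem cen_le_W : centralizerIn S P ≤ W S P := le_sup_right

theorem W_le (hP : P ≤ S) : W S P ≤ S := sup_le hP centralizerIn_le

theorem W_mono {S' : Subgroup Ω} (h : S' ≤ S) : W S' P ≤ W S P :=
  sup_le_sup_left (inf_le_inf_right _ h) P

theorem Datum.leS (D : Datum F p T) (i : D.ι) : D.Ti i ≤ S := (D.inv i).2.1.1

theorem Datum.le_S' (D : Datum F p T) : T ≤ S := D.sc.1

theorem Datum.Wi_le (D : Datum F p T) (i : D.ι) : W (D.Ti i) P ≤ W S P := W_mono (D.leS i)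

theorem Datum.Wi_le_Ti (D : Datum F p T) (hP : P ≤ T) (i : D.ι) : W (D.Ti i) P ≤ D.Ti i :=
  W_le (hP.trans (D.le i))

/-- A controlled map on `P C_S(P)`. -/
def ExtFn (D : Datum F p T) (P : Subgroup Ω) (g : Ω → Ω) : Prop :=
  MapFn F (W S P) g ∧ (∀ x ∈ P, g x ∈ P) ∧ (∀ c ∈ centralizerIn S P, c⁻¹ * g c ∈ T) ∧
    ∀ i, MapFn (D.E i) (W (D.Ti i) P) g

section basic

variable [Finite S] (D : Datum F p T)

theorem mapFn_image {g : Ω → Ω} (hP : P ≤ S) (hg : MapFn F (W S P) g) (hm : ∀ x ∈ P, g x ∈ P) :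
    g '' P = (P : Set Ω) :=
  (hg.mono le_W).image_eq_of_maps hP hm le_rfl

theorem mapFn_cen {g : Ω → Ω} (hP : P ≤ S) (hg : MapFn F (W S P) g) (hm : ∀ x ∈ P, g x ∈ P) :
    ∀ c ∈ centralizerIn S P, g c ∈ centralizerIn S P := fun _ hc =>
  hg.mem_centralizerIn le_W (mapFn_image hP hg hm) (cen_le_W hc) hc

theorem mapFn_W {g : Ω → Ω} (hP : P ≤ S) (hg : MapFn F (W S P) g) (hm : ∀ x ∈ P, g x ∈ P) :
    g '' W S P = (W S P : Set Ω) :=
  hg.image_eq_of_maps (W_le hP) (hg.maps_sup (fun x hx => le_W (hm x hx))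
    fun c hc => cen_le_W (mapFn_cen hP hg hm c hc)) le_rfl

theorem mapFn_cenTi {g : Ω → Ω} (hP : P ≤ S) (i : D.ι) (hg : MapFn F (W S P) g)
    (hm : ∀ x ∈ P, g x ∈ P) : ∀ c ∈ centralizerIn (D.Ti i) P, g c ∈ centralizerIn (D.Ti i) P := fun c hc => by
  have hc' : c ∈ centralizerIn S P := ⟨D.leS i hc.1, hc.2⟩
  exact ⟨mapFn_mem (D.inv i).2.1 hg (cen_le_W hc') hc.1, (mapFn_cen hP hg hm c hc').2⟩

theorem mapFn_Wi {g : Ω → Ω} (hP : P ≤ T) (i : D.ι) (hg : MapFn F (W S P) g)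
    (hm : ∀ x ∈ P, g x ∈ P) : g '' W (D.Ti i) P = (W (D.Ti i) P : Set Ω) :=
  (hg.mono (D.Wi_le i)).image_eq_of_maps (W_le (hP.trans (D.le i)) |>.trans (D.leS i))
    ((hg.mono (D.Wi_le i)).maps_sup (fun x hx => le_W (hm x hx))
      fun c hc => cen_le_W (mapFn_cenTi D (hP.trans D.le_S') i hg hm c hc)) le_rfl

theorem extFn_id (hP : P ≤ T) : ExtFn D P id :=
  ⟨mapFn_id (W_le (hP.trans D.le_S')), fun _ hx => hx, fun c _ => by simp [T.one_mem],
    fun i => mapFn_id (D.Wi_le_Ti hP i)⟩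

theorem ExtFn.congr {g g' : Ω → Ω} (h : ExtFn D P g) (e : ∀ x ∈ W S P, g x = g' x) : ExtFn D P g' :=
  ⟨h.1.congr e, fun x hx => (e x (le_W hx)) ▸ h.2.1 x hx, fun c hc => (e c (cen_le_W hc)) ▸ h.2.2.1 c hc,
    fun i => (h.2.2.2 i).congr fun x hx => e x (D.Wi_le i hx)⟩

theorem ExtFn.comp (hP : P ≤ T) {g g' : Ω → Ω} (h : ExtFn D P g) (h' : ExtFn D P g') :
    ExtFn D P (g' ∘ g) := by
  have hPS := hP.trans D.le_S'
  refine ⟨h.1.comp h'.1 fun x hx => mem_of_image (mapFn_W hPS h.1 h.2.1) hx,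
    fun x hx => h'.2.1 _ (h.2.1 x hx), fun c hc => ?_,
    fun i => (h.2.2.2 i).comp (h'.2.2.2 i) fun x hx => mem_of_image (mapFn_Wi D hP i h.1 h.2.1) hx⟩
  have h1 := T.mul_mem (h.2.2.1 c hc) (h'.2.2.1 _ (mapFn_cen hPS h.1 h.2.1 c hc))
  show c⁻¹ * g' (g c) ∈ T
  simpa [mul_assoc] using h1

theorem ExtFn.inv (hP : P ≤ T) {g : Ω → Ω} (h : ExtFn D P g) :
    ∃ g', ExtFn D P g' ∧ ∀ x ∈ W S P, g' (g x) = x := by
  have hPS := hP.trans D.le_S'
  obtain ⟨g', hg', -, h1, h2⟩ := h.1.exists_inv (mapFn_W hPS h.1 h.2.1)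
  have hP' : ∀ y ∈ P, g' y ∈ P := fun y hy => by
    obtain ⟨x, hx, rfl⟩ := exists_of_image (mapFn_image hPS h.1 h.2.1) hy
    rw [h1 x (le_W hx)]; exact hx
  refine ⟨g', ⟨hg', hP', fun c hc => ?_, fun i => ?_⟩, h1⟩
  · have hc' := mapFn_cen hPS hg' hP' c hc
    have h3 := T.inv_mem (h.2.2.1 _ hc')
    rw [h2 c (cen_le_W hc)] at h3
    simpa using h3
  · obtain ⟨k, hk, -, hk1, -⟩ := (h.2.2.2 i).exists_inv (mapFn_Wi D hP i h.1 h.2.1)
    refine hk.congr fun y hy => ?_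
    obtain ⟨x, hx, rfl⟩ := exists_of_image (mapFn_Wi D hP i h.1 h.2.1) hy
    rw [hk1 x hx, h1 x (D.Wi_le i hx)]

/-- The group of controlled automorphisms of `P C_S(P)`. -/
def extGrp (hP : P ≤ T) : Subgroup (MulAut (W S P)) where
  carrier := {a | ∃ g, ExtFn D P g ∧ ∀ x : W S P, g x = ((a x : W S P) : Ω)}
  one_mem' := ⟨id, extFn_id D hP, fun _ => rfl⟩
  mul_mem' := fun {a b} ⟨g, hg, hga⟩ ⟨g', hg', hgb⟩ =>
    ⟨g ∘ g', hg'.comp D hP hg, fun x => by show g (g' x) = _; rw [hgb x, hga]; rfl⟩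
  inv_mem' := fun {a} ⟨g, hg, hga⟩ => by
    obtain ⟨g', hg', h1⟩ := hg.inv D hP
    refine ⟨g', hg', fun x => ?_⟩
    have h2 := h1 _ ((a⁻¹ x : W S P)).2
    rw [hga, MulAut.apply_inv_self] at h2
    exact h2

theorem mem_extGrp {hP : P ≤ T} {a : MulAut (W S P)} :
    a ∈ extGrp D hP ↔ ∃ g, ExtFn D P g ∧ ∀ x : W S P, g x = ((a x : W S P) : Ω) := Iff.rfl

theorem extGrp_le (hP : P ≤ T) : extGrp D hP ≤ F.autGroup (W S P) := by
  rintro a ⟨g, hg, hga⟩
  exact (mem_autGroup_iff_mapFn (W_le (hP.trans D.le_S'))).mpr ⟨g, hg.1, hga⟩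

theorem extGrp_stab {hP : P ≤ T} {a : MulAut (W S P)} (ha : a ∈ extGrp D hP) (x : W S P)
    (hx : (x : Ω) ∈ P) : ((a x : W S P) : Ω) ∈ P := by
  obtain ⟨g, hg, hga⟩ := ha
  rw [← hga]
  exact hg.2.1 x hx

/-- Conjugation by an element of `N_T(P)` is controlled. -/
theorem extFn_conj (hP : P ≤ T) {t : Ω} (ht : t ∈ normalizerIn T P) :
    ExtFn D P fun x => t * x * t⁻¹ := by
  refine ⟨mapFn_conj (W_le (hP.trans D.le_S')) (D.le_S' ht.1),
    fun x hx => conj_mem_of_normalizer ht.2 hx, fun c hc => ?_,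
    fun i => mapFn_conj (D.Wi_le_Ti hP i) (D.le i ht.1)⟩
  have h1 := conj_mem_of_normalizer (StronglyClosed.le_normalizer D.sc (S.inv_mem hc.1)) ht.1
  simpa [mul_assoc] using T.mul_mem h1 (T.inv_mem ht.1)

variable [Fact p.Prime]

omit [Fact p.Prime] in
/-- Controlled maps are carried along maps between the subgroups `P C_S(P)`. -/
theorem ExtFn.transport (hP : P ≤ T) {θ g : Ω → Ω} (hθ : MapFn F (W S P) θ)
    (hθP : θ '' P = (Q : Set Ω)) (hθW : θ '' W S P = (W S Q : Set Ω)) (h : ExtFn D P g) :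
    ∃ g', ExtFn D Q g' ∧ ∀ x ∈ W S P, g' (θ x) = θ (g x) := by
  have hPS := hP.trans D.le_S'
  obtain ⟨ρ, hρ, hρr, hρ1, hρ2⟩ := hθ.exists_inv hθW
  have hgm : ∀ x ∈ W S P, g x ∈ W S P := fun x hx => mem_of_image (mapFn_W hPS h.1 h.2.1) hx
  have hcomp : ∀ x ∈ W S P, (θ ∘ g ∘ ρ) (θ x) = θ (g x) := fun x hx => by
    show θ (g (ρ (θ x))) = _
    rw [hρ1 x hx]
  refine ⟨θ ∘ g ∘ ρ, ⟨(hρ.comp h.1 fun y hy => mem_of_image hρr hy).comp hθ
    fun y hy => hgm _ (mem_of_image hρr hy), fun y hy => ?_, fun c hc => ?_, fun i => ?_⟩, hcomp⟩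
  · obtain ⟨x, hx, rfl⟩ := exists_of_image hθP hy
    rw [hcomp x (le_W hx)]
    exact mem_of_image hθP (h.2.1 x hx)
  · have hcW := cen_le_W hc
    have hd : ρ c ∈ W S P := mem_of_image hρr hcW
    have hdC : ρ c ∈ centralizerIn S P := by
      refine mem_centralizerIn.mpr ⟨hρ.mem_S hcW, fun x hx => ?_⟩
      have hθx : θ x ∈ W S Q := le_W (mem_of_image hθP hx)
      rw [← hρ1 x (le_W hx), ← hρ.map_mul hθx hcW, ← hρ.map_mul hcW hθx,
        (mem_centralizerIn.mp hc).2 _ (mem_of_image hθP hx)]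
    have h1 := h.2.2.1 _ hdC
    have h2 := mapFn_mem D.sc hθ ((W S P).mul_mem ((W S P).inv_mem hd) (hgm _ hd)) h1
    rw [hθ.map_mul ((W S P).inv_mem hd) (hgm _ hd), hθ.map_inv hd, hρ2 c hcW] at h2
    exact h2
  · have hQT : Q ≤ T := fun y hy => by
      obtain ⟨x, hx, rfl⟩ := exists_of_image hθP hy
      exact mapFn_mem D.sc hθ (le_W hx) (hP hx)
    have hQWi : θ '' W (D.Ti i) P = (W (D.Ti i) Q : Set Ω) := by
      ext y
      constructor
      · rintro ⟨x, hx, rfl⟩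
        refine (hθ.mono (D.Wi_le i)).maps_sup (fun x hx => le_W (mem_of_image hθP hx))
          (fun c hc => cen_le_W ⟨mapFn_mem (D.inv i).2.1 hθ (cen_le_W ⟨D.leS i hc.1, hc.2⟩) hc.1, ?_⟩) x hx
        exact (hθ.mem_centralizerIn le_W hθP (cen_le_W ⟨D.leS i hc.1, hc.2⟩) ⟨D.leS i hc.1, hc.2⟩).2
      · intro hy
        have hyW := D.Wi_le i hy
        refine ⟨ρ y, ?_, hρ2 y hyW⟩
        refine (hρ.mono (D.Wi_le i)).maps_sup (M := W (D.Ti i) P) (fun z hz => ?_) (fun c hc => ?_) y hy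
        · obtain ⟨x, hx, rfl⟩ := exists_of_image hθP hz
          rw [hρ1 x (le_W hx)]; exact le_W hx
        · have hcC : c ∈ centralizerIn S Q := ⟨D.leS i hc.1, hc.2⟩
          refine cen_le_W (mem_centralizerIn.mpr ⟨mapFn_mem (D.inv i).2.1 hρ (cen_le_W hcC) hc.1,
            fun x hx => ?_⟩)
          have hθx : θ x ∈ W S Q := le_W (mem_of_image hθP hx)
          rw [← hρ1 x (le_W hx), ← hρ.map_mul hθx (cen_le_W hcC), ← hρ.map_mul (cen_le_W hcC) hθx,
            (mem_centralizerIn.mp hcC).2 _ (mem_of_image hθP hx)]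
    obtain ⟨a, f₀, ha, har, hf₀, he⟩ := mapFn_frattini (D.inv i) (D.Wi_le_Ti hP i) (hθ.mono (D.Wi_le i))
    obtain ⟨M, hMT, hM⟩ := hf₀.exists_image
    obtain ⟨k, hk, hkr, hk1, -⟩ := hf₀.exists_inv hM
    have hgW : ∀ x ∈ W (D.Ti i) P, g x ∈ W (D.Ti i) P :=
      fun x hx => mem_of_image (mapFn_Wi D hP i h.1 h.2.1) hx
    have hmid : MapFn (D.E i) M (f₀ ∘ g ∘ k) :=
      (hk.comp (h.2.2.2 i) fun y hy => mem_of_image hkr hy).comp hf₀
        fun y hy => hgW _ (mem_of_image hkr hy)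
    have haM : a '' M = (W (D.Ti i) Q : Set Ω) := by
      rw [← hM, ← hQWi, Set.image_image]
      exact Set.image_congr fun x hx => (he x hx).symm
    obtain ⟨χ, hχ, hχe⟩ := mapFn_transport (D.inv i) hmid ha har haM
    refine hχ.congr fun y hy => ?_
    obtain ⟨x, hx, rfl⟩ := exists_of_image hQWi hy
    rw [hcomp x (D.Wi_le i hx), he x hx, hχe _ (mem_of_image hM hx), he _ (hgW x hx)]
    show a (f₀ (g (k (f₀ x)))) = _
    rw [hk1 x hx]

theorem exists_W_map (hS : IsPGroup p S) (hF : F.IsSaturated p) {f : Ω → Ω} (hf : MapFn F P f)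
    (hfQ : f '' P = (Q : Set Ω)) (hP : F.IsFullyCentralized P) (hQ : F.IsFullyCentralized Q) :
    ∃ θ, MapFn F (W S P) θ ∧ (∀ x ∈ P, θ x = f x) ∧ θ '' P = (Q : Set Ω) ∧
      θ '' W S P = (W S Q : Set Ω) := by
  obtain ⟨θ, hθ, hθe⟩ := hf.extend_centralizer hS hF hQ hfQ
  have hθP : θ '' P = (Q : Set Ω) := (Set.image_congr hθe).trans hfQ
  refine ⟨θ, hθ, hθe, hθP, ?_⟩
  obtain ⟨M, hMS, hM⟩ := (hθ.mono (cen_le_W (S := S) (P := P))).exists_image
  have hMC : M ≤ centralizerIn S Q := fun y hy => by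
    obtain ⟨c, hc, rfl⟩ := exists_of_image hM hy
    exact hθ.mem_centralizerIn le_sup_left hθP (Subgroup.mem_sup_right hc) hc
  have := finite_of_le (centralizerIn_le : centralizerIn S Q ≤ S)
  have hME : M = centralizerIn S Q := eq_of_le_of_card_le hMC
    ((hP.2 Q (hf.isConj hfQ)).trans ((hθ.mono cen_le_W).card_image hM).ge)
  ext y
  constructor
  · rintro ⟨x, hx, rfl⟩
    exact hθ.maps_sup (fun x hx => le_W (mem_of_image hθP hx))
      (fun c hc => cen_le_W (hMC (mem_of_image hM hc))) x hx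
  · intro hy
    obtain ⟨J, -, hJ⟩ := hθ.exists_image
    have hle : W S Q ≤ J := sup_le (fun z hz => by
        obtain ⟨x, hx, rfl⟩ := exists_of_image hθP hz
        exact mem_of_image hJ (Subgroup.mem_sup_left hx))
      fun z hz => by
        obtain ⟨c, hc, rfl⟩ := exists_of_image hM (hME ▸ hz)
        exact mem_of_image hJ (Subgroup.mem_sup_right hc)
    exact exists_of_image hJ (hle hy)

omit [Fact p.Prime] in
/-- An element of `N_S(P)` normalizes `P C_S(P)`. -/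
theorem normalizer_W (hP : P ≤ S) {s : Ω} (hs : s ∈ normalizerIn S P) :
    s ∈ Subgroup.normalizer (W S P : Set Ω) := by
  have := finite_of_le (W_le hP)
  refine mem_normalizer_of_forall fun x hx => ?_
  refine (mapFn_conj (F := innerFusionSystem S) (W_le hP) hs.1).maps_sup
    (fun y hy => le_W (conj_mem_of_normalizer hs.2 hy)) (fun c hc => cen_le_W ?_) x hx
  refine mem_centralizerIn.mpr ⟨S.mul_mem (S.mul_mem hs.1 hc.1) (S.inv_mem hs.1), fun y hy => ?_⟩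
  have h1 := (mem_centralizerIn.mp hc).2 _ ((Subgroup.mem_normalizer_iff''.mp hs.2 y).mp hy)
  calc y * (s * c * s⁻¹) = s * (s⁻¹ * y * s * c) * s⁻¹ := by group
    _ = s * c * s⁻¹ * y := by rw [h1]; group

omit [Fact p.Prime] in
/-- `P C_S(P)` is centric for fully centralized `P`. -/
theorem isCentric_W (hP : F.IsFullyCentralized P) : F.IsCentric (W S P) := by
  refine ⟨W_le hP.1, fun V hV c hc => ?_⟩
  obtain ⟨θ, hθ, hθV⟩ := isConj_iff.mp hV
  obtain ⟨P', -, hP'⟩ := (hθ.mono (le_W (S := S) (P := P))).exists_image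
  obtain ⟨M, hMS, hM⟩ := (hθ.mono (cen_le_W (S := S) (P := P))).exists_image
  have hMC : M ≤ centralizerIn S P' := fun y hy => by
    obtain ⟨d, hd, rfl⟩ := exists_of_image hM hy
    exact hθ.mem_centralizerIn le_W hP' (cen_le_W hd) hd
  have := finite_of_le (centralizerIn_le : centralizerIn S P' ≤ S)
  have hME : M = centralizerIn S P' := eq_of_le_of_card_le hMC
    ((hP.2 P' ((hθ.mono le_W).isConj hP')).trans ((hθ.mono cen_le_W).card_image hM).ge)
  have hcP : c ∈ centralizerIn S P' := mem_centralizerIn.mpr ⟨hc.1, fun y hy => by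
    obtain ⟨x, hx, rfl⟩ := exists_of_image hP' hy
    exact (mem_centralizerIn.mp hc).2 _ (mem_of_image hθV (le_W hx))⟩
  obtain ⟨d, hd, rfl⟩ := exists_of_image hM (hME ▸ hcP)
  exact mem_of_image hθV (cen_le_W hd)

omit [Fact p.Prime] in
/-- The part of `P C_{Ti i}(P)` in `T` is `P`. -/
theorem mem_of_mem_Wi (hP : P ≤ T) (hPc : TCentric F T P) (i : D.ι) {x : Ω} (hx : x ∈ W (D.Ti i) P)
    (hxT : x ∈ T) : x ∈ P := by
  have hle : centralizerIn (D.Ti i) P ≤ Subgroup.normalizer (P : Set Ω) := fun c hc =>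
    Subgroup.centralizer_le_normalizer _ hc.2
  rw [W, ← SetLike.mem_coe, Subgroup.coe_mul_of_right_le_normalizer_left P _ hle] at hx
  obtain ⟨y, hy, c, hc, rfl⟩ := hx
  have hcT : c ∈ T := by simpa using T.mul_mem (T.inv_mem (hP hy)) hxT
  exact P.mul_mem hy (TCentric.centralizer_le D.le_S' hPc ⟨hcT, hc.2⟩)

/-- `P C_{Ti i}(P)` is fully normalized in `E i`. -/
theorem isFullyNormalized_Wi (hS : IsPGroup p S) (hF : F.IsSaturated p) (hP : P ≤ T)
    (hPc : TCentric F T P) (hPn : F.IsFullyNormalized P) (i : D.ι) :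
    (D.E i).IsFullyNormalized (W (D.Ti i) P) := by
  refine ⟨D.Wi_le_Ti hP i, fun V hV => ?_⟩
  obtain ⟨χ, hχ, hχV⟩ := isConj_iff.mp hV
  have hχF : MapFn F (W (D.Ti i) P) χ := mapFn_of_sub (D.inv i).1 hχ
  obtain ⟨P', -, hP'⟩ := (hχF.mono (le_W (S := D.Ti i) (P := P))).exists_image
  obtain ⟨h, hh, hhP, hhN⟩ := exists_normalizer_mapFn hS hF hPn
    (isConj_symm ((hχF.mono le_W).isConj hP'))
  have hN : normalizerIn (D.Ti i) V ≤ normalizerIn S P' := fun t ht => by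
    have : Finite P' := finite_of_le (IsConj.le_right ((hχF.mono le_W).isConj hP'))
    refine ⟨D.leS i ht.1, mem_normalizer_of_forall fun y hy => ?_⟩
    obtain ⟨x, hx, rfl⟩ := exists_of_image hP' hy
    have hxT : χ x ∈ T := mapFn_mem D.sc hχF (le_W hx) (hP hx)
    have h1 : t * χ x * t⁻¹ ∈ V := conj_mem_of_normalizer ht.2 (mem_of_image hχV (le_W hx))
    obtain ⟨z, hz, hze⟩ := exists_of_image hχV h1
    rw [← hze]
    refine mem_of_image hP' (mem_of_mem_Wi D hP hPc i hz ?_)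
    rw [← mapFn_mem_iff D.sc hχF hz, hze]
    exact conj_mem_of_normalizer (StronglyClosed.le_normalizer D.sc (D.leS i ht.1)) hxT
  obtain ⟨φ, hφ, hφe⟩ := hh.mono hN
  refine card_le_of_map hφ ((normalizerIn_le).trans (D.leS i)) fun t => ?_
  rw [hφe]
  have htN := hhN _ (hN t.2)
  have htT : h t ∈ D.Ti i := mapFn_mem (D.inv i).2.1 (hh.mono hN) t.2 t.2.1
  refine ⟨htT, ?_⟩
  have : Finite (W (D.Ti i) P) := finite_of_le ((D.Wi_le_Ti hP i).trans (D.leS i))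
  refine mem_normalizer_of_forall fun x hx => ?_
  refine (mapFn_conj (F := D.E i) (D.Wi_le_Ti hP i) htT).maps_sup
    (fun y hy => le_W (conj_mem_of_normalizer htN.2 hy)) (fun c hc => cen_le_W ?_) x hx
  refine mem_centralizerIn.mpr ⟨(D.Ti i).mul_mem ((D.Ti i).mul_mem htT hc.1) ((D.Ti i).inv_mem htT),
    fun y hy => ?_⟩
  have h1 := (mem_centralizerIn.mp hc).2 _ ((Subgroup.mem_normalizer_iff''.mp htN.2 y).mp hy)
  calc y * (h t * c * (h t)⁻¹) = h t * ((h t)⁻¹ * y * h t * c) * (h t)⁻¹ := by group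
    _ = h t * c * (h t)⁻¹ * y := by rw [h1]; group

/-- An element of `S` inducing on `P C_{Ti i}(P)` an automorphism from `E i` acts there as an element of
`Ti i`. -/
theorem exists_induced_Ti (hS : IsPGroup p S) (hF : F.IsSaturated p) (hP : P ≤ T)
    (hPc : TCentric F T P) (hPn : F.IsFullyNormalized P) (i : D.ι) {s : Ω} (hs : s ∈ S)
    {β : MulAut (W (D.Ti i) P)} (hβ : β ∈ (D.E i).autGroup (W (D.Ti i) P))
    (hβe : ∀ x : W (D.Ti i) P, ((β x : W (D.Ti i) P) : Ω) = s * (x : Ω) * s⁻¹) :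
    ∃ t ∈ D.Ti i, ∀ x ∈ W (D.Ti i) P, t * x * t⁻¹ = s * x * s⁻¹ := by
  have hKT : W (D.Ti i) P ≤ D.Ti i := D.Wi_le_Ti hP i
  have : Finite (D.Ti i) := finite_of_le (D.leS i)
  have hTp : IsPGroup p (D.Ti i) := hS.to_le (D.leS i)
  obtain ⟨⟨-, R, hR⟩, -⟩ := fullyNormalized_good hTp (D.sat i) (isFullyNormalized_Wi D hS hF hP hPc hPn i)
  have := finite_mulAut hKT
  let J : Subgroup ((D.E i).autGroup (W (D.Ti i) P)) := (autInducedBy S (W (D.Ti i) P)).subgroupOf ((D.E i).autGroup (W (D.Ti i) P))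
  have hJp : IsPGroup p J := (isPGroup_autInducedBy hS (W (D.Ti i) P)).comap_subtype
  have hle : (R : Subgroup ((D.E i).autGroup (W (D.Ti i) P))) ≤ J := by
    rw [hR]; exact fun a ha => autInducedBy_mono (D.leS i) (W (D.Ti i) P) ha
  have hJR : J = R := R.3 hJp hle
  have hmem : (⟨β, hβ⟩ : (D.E i).autGroup (W (D.Ti i) P)) ∈ J := by
    show β ∈ autInducedBy S (W (D.Ti i) P)
    exact mem_autInducedBy.mpr ⟨s, hs, hβe⟩
  rw [hJR, hR] at hmem
  obtain ⟨t, ht, hte⟩ := mem_autInducedBy.mp hmem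
  exact ⟨t, ht, fun x hx => (hte ⟨x, hx⟩).symm.trans (hβe ⟨x, hx⟩)⟩

/-- Controlled `p`-elements modulo the focal subgroup come from `T`. -/
theorem focal_step (hS : IsPGroup p S) (hF : F.IsSaturated p) (hP : P ≤ T) (hPc : TCentric F T P)
    (hPn : F.IsFullyNormalized P) {s : Ω} (hs : s ∈ normalizerIn S P) {a b : MulAut (W S P)}
    (ha : a ∈ extGrp D hP) (hb : b ∈ extGrp D hP)
    (hbs : ∀ x : W S P, ((b x : W S P) : Ω) = s * (x : Ω) * s⁻¹) {s' : Ω} (hs' : s' ∈ normalizerIn S P)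
    (hab : ∀ x : W S P, (((a * b * a⁻¹) x : W S P) : Ω) = s' * (x : Ω) * s'⁻¹) :
    ∃ t ∈ normalizerIn T P, ∀ x : W S P, (((b⁻¹ * (a * b * a⁻¹)) x : W S P) : Ω) = t * (x : Ω) * t⁻¹ := by
  obtain ⟨g, hg, hga⟩ := ha
  have hPS := hP.trans D.le_S'
  have hWS := W_le (S := S) hPS
  have hgr := mapFn_W hPS hg.1 hg.2.1
  have hWf : F.IsFullyCentralized (W S P) :=
    isFullyCentralized_of_centric (isCentric_W (isFullyCentralized_of_fullyNormalized hS hF hPn))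
  obtain ⟨G, hG, hGe⟩ := hg.1.exists_extension (receptive_of_fullyCentralized hS hF hWf) hgr
    (le_sup_left : W S P ≤ W S P ⊔ Subgroup.zpowers s)
    (sup_le (Fusion.le_normalizerIn hWS) (Subgroup.zpowers_le.mpr ⟨hs.1, normalizer_W hPS hs⟩))
    (fun n hn => by
      obtain ⟨φ, hφ, hφe⟩ := hg.1
      have hle : W S P ⊔ Subgroup.zpowers s ≤ extender S (W S P) φ := by
        refine sup_le (le_extender hWS (apply_mem_S hφ)) (Subgroup.zpowers_le.mpr (mem_extender.mpr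
          ⟨hs.1, normalizer_W hPS hs, s', hs'.1, fun x hx => ?_⟩))
        rw [hφe, hφe]
        show g (s * (x : Ω) * s⁻¹) = s' * g x * s'⁻¹
        rw [← hbs, hga, hga, ← hab (a x), MulAut.mul_apply, MulAut.mul_apply, MulAut.inv_apply_self]
      obtain ⟨-, hnN, s'', hs'', he⟩ := mem_extender.mp (hle hn)
      refine ⟨s'', hs'', fun x hx => ?_⟩
      have h1 := he ⟨x, hx⟩ (conj_mem_of_normalizer hnN hx)
      rwa [hφe, hφe] at h1)
  have hsM : s ∈ W S P ⊔ Subgroup.zpowers s := Subgroup.mem_sup_right (Subgroup.mem_zpowers s)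
  have hWM : W S P ≤ W S P ⊔ Subgroup.zpowers s := le_sup_left
  have hs1 : G s ∈ S := hG.mem_S hsM
  have hGs : ∀ x : W S P, (((a * b * a⁻¹) x : W S P) : Ω) = G s * (x : Ω) * (G s)⁻¹ := fun x => by
    obtain ⟨y, rfl⟩ := a.surjective x
    rw [MulAut.mul_apply, MulAut.mul_apply, MulAut.inv_apply_self, ← hga, ← hga, hbs]
    have hmem : s * (y : Ω) * s⁻¹ ∈ W S P := by rw [← hbs]; exact Subtype.mem _
    rw [← hGe _ hmem, hG.map_conj hsM (hWM y.2), hGe _ y.2]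
  set u := s⁻¹ * G s with hu
  have huT : u ∈ T := D.glb u fun i => by
    obtain ⟨β, hβ, hβe⟩ : ∃ β ∈ (D.E i).autGroup (W (D.Ti i) P), ∀ x : W (D.Ti i) P,
        ((β x : W (D.Ti i) P) : Ω) = s * (x : Ω) * s⁻¹ := by
      obtain ⟨gb, hgb, hgbe⟩ := hb
      obtain ⟨β, hβ, hβe⟩ := (hgb.2.2.2 i).exists_aut (mapFn_Wi D hP i hgb.1 hgb.2.1)
      exact ⟨β, hβ, fun x => by rw [hβe, hgbe ⟨x, D.Wi_le i x.2⟩, hbs]⟩
    obtain ⟨t, ht, hte⟩ := exists_induced_Ti D hS hF hP hPc hPn i hs.1 hβ hβe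
    -- `s = t c` with `c` centralizing `W (Ti i) P`
    have hcS : t⁻¹ * s ∈ S := S.mul_mem (S.inv_mem (D.leS i ht)) hs.1
    have hcC : t⁻¹ * s ∈ centralizerIn S P := mem_centralizerIn.mpr ⟨hcS, fun x hx => by
      have h1 := hte x (le_W hx)
      calc x * (t⁻¹ * s) = t⁻¹ * (t * x * t⁻¹) * s := by group
        _ = t⁻¹ * s * x := by rw [h1]; group⟩
    have htM : t ∈ W S P ⊔ Subgroup.zpowers s := by
      have h1 := Subgroup.mul_mem _ hsM (Subgroup.inv_mem _ (hWM (cen_le_W hcC)))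
      simpa [mul_assoc] using h1
    have hGt : G t ∈ D.Ti i := mapFn_mem (D.inv i).2.1 hG htM ht
    have h2 : (t⁻¹ * s)⁻¹ * G (t⁻¹ * s) ∈ T := by
      rw [hGe _ (cen_le_W hcC)]; exact hg.2.2.1 _ hcC
    have h3 : (t⁻¹ * s)⁻¹ * (t⁻¹ * G t) * (t⁻¹ * s) ∈ D.Ti i := by
      have := conj_mem_of_normalizer (StronglyClosed.le_normalizer (D.inv i).2.1 (S.inv_mem hcS))
        ((D.Ti i).mul_mem ((D.Ti i).inv_mem ht) hGt)
      simpa using this
    have h4 : G s = G t * G (t⁻¹ * s) := by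
      rw [← hG.map_mul htM (hWM (cen_le_W hcC)), mul_inv_cancel_left]
    have h5 : u = ((t⁻¹ * s)⁻¹ * (t⁻¹ * G t) * (t⁻¹ * s)) * ((t⁻¹ * s)⁻¹ * G (t⁻¹ * s)) := by
      rw [hu, h4]; group
    rw [h5]
    exact (D.Ti i).mul_mem h3 (D.le i h2)
  refine ⟨u, ⟨huT, ?_⟩, fun x => ?_⟩
  · have : Finite P := finite_of_le hPS
    have hab' : a * b * a⁻¹ ∈ extGrp D hP :=
      Subgroup.mul_mem _ (Subgroup.mul_mem _ ⟨g, hg, hga⟩ hb) (Subgroup.inv_mem _ ⟨g, hg, hga⟩)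
    refine mem_normalizer_of_forall fun x hx => ?_
    have h1 : G s * x * (G s)⁻¹ ∈ P := by
      rw [← hGs ⟨x, le_W hx⟩]
      exact extGrp_stab D hab' _ hx
    have h2 := conj_mem_of_normalizer (Subgroup.inv_mem _ hs.2) h1
    simpa [hu, mul_assoc] using h2
  · rw [MulAut.mul_apply]
    obtain ⟨z, hz⟩ := b.surjective ((a * b * a⁻¹) x)
    rw [← hz, MulAut.inv_apply_self]
    have h1 : s * (z : Ω) * s⁻¹ = G s * (x : Ω) * (G s)⁻¹ := by rw [← hbs, hz, hGs]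
    calc (z : Ω) = s⁻¹ * (s * (z : Ω) * s⁻¹) * s := by group
      _ = u * (x : Ω) * u⁻¹ := by rw [h1, hu]; group

end basic

end CfsgLib.Meet
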