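import Cfsg.Agent.Lib.Fusion.MeetAut
import Cfsg.Agent.Lib.Fusion.GoodLift

/-!
# The meet of invariant subsystems, IV: automorphisms of order prime to `p` pass up and down

For `A` centric in `T` and `A ≤ M ≤ N_T(A)`, automorphisms of `JMap` type of order prime to `p` on `M`
stabilizing `A` restrict to such automorphisms of `A`, and those of `A` that normalize `Aut_M(A)` extend to
`M`. The rigidity behind both: inside an invariant subsystem an automorphism of order prime to `p` is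
determined by its restriction to a centric subgroup.
-/

set_option autoImplicit false

namespace CfsgLib.Meet

open Cfsg Cfsg.FusionSystem CfsgLib.Fusion CfsgLib.FusionNormal CfsgLib.Fusion.PPrimeRes

variable {Ω : Type*} [Group Ω] {S : Subgroup Ω} {F : FusionSystem S} {p : ℕ} {T : Subgroup Ω}
variable {P Q R K M A V H X : Subgroup Ω}

theorem mem_of_pow_mem_of_coprime {G : Type*} [Group G] {U : Subgroup G} {d : G} {r k : ℕ} (h : d ^ r ∈ U)
    (hk : d ^ p ^ k = 1) (hr : r.Coprime p) : d ∈ U := by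
  have h1 : (1 : ℤ) = (r : ℤ) * r.gcdA (p ^ k) + ((p ^ k : ℕ) : ℤ) * r.gcdB (p ^ k) := by
    rw [← Nat.gcd_eq_gcd_ab, hr.pow_right k]; rfl
  rw [← zpow_one d, h1, zpow_add, zpow_mul, zpow_mul, zpow_natCast, zpow_natCast, hk, one_zpow, mul_one]
  exact U.zpow_mem h _

theorem ev_pow_restrict (hVH : V ≤ H) {a : MulAut H} {γ : MulAut V} (h : ∀ x ∈ V, ev a x = ev γ x) :
    ∀ j : ℕ, ∀ x ∈ V, ev (a ^ j) x = ev (γ ^ j) x := by
  intro j
  induction j with
  | zero => intro x hx; rw [pow_zero, pow_zero, ev_one (hVH hx), ev_one hx]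
  | succ j ih =>
    intro x hx
    rw [pow_succ', pow_succ', ev_mul _ _ (hVH hx), ev_mul _ _ hx, ih x hx, h _ (ev_mem _ hx)]

theorem pow_eq_one_of_restrict (hVH : V ≤ H) {a : MulAut H} {γ : MulAut V} (h : ∀ x ∈ V, ev a x = ev γ x)
    {j : ℕ} (hj : a ^ j = 1) : γ ^ j = 1 :=
  aut_ext fun x hx => by rw [← ev_pow_restrict hVH h j x hx, hj, ev_one (hVH hx), ev_one hx]

section ambient

variable [Finite S]

/-- Restriction of an automorphism to an invariant subgroup. -/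
theorem exists_restrict_aut (hH : H ≤ S) (hVH : V ≤ H) {a : MulAut H} (ha : a ∈ F.autGroup H)
    (hm : ∀ x ∈ V, ev a x ∈ V) :
    ∃ γ ∈ F.autGroup V, (∀ x ∈ V, ev a x = ev γ x) ∧ orderOf γ ∣ orderOf a := by
  have hf := (mapFn_ev hH ha).mono hVH
  obtain ⟨γ, hγ, hγe⟩ := hf.exists_aut (hf.image_eq_of_maps (hVH.trans hH) hm le_rfl)
  have he : ∀ x ∈ V, ev a x = ev γ x := fun x hx => by rw [ev_coe γ hx]; exact (hγe ⟨x, hx⟩).symm
  exact ⟨γ, hγ, he, orderOf_dvd_of_pow_eq_one (pow_eq_one_of_restrict hVH he (pow_orderOf_eq_one a))⟩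

variable [Fact p.Prime]

/-- An automorphism whose restriction has order prime to `p` may itself be taken of order prime to `p`. -/
theorem exists_coprime_lift (hH : H ≤ S) (hVH : V ≤ H) {G : Subgroup (MulAut H)} {a : MulAut H} (ha : a ∈ G)
    {γ : MulAut V} (he : ∀ x ∈ V, ev a x = ev γ x) (hγ : (orderOf γ).Coprime p) :
    ∃ b ∈ G, (orderOf b).Coprime p ∧ ∀ x ∈ V, ev b x = ev γ x := by
  have := finite_mulAut hH
  obtain ⟨m, hm, hmb⟩ := exists_coprime_power (p := p) a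
  refine ⟨a ^ m, G.pow_mem ha m, hm, fun x hx => ?_⟩
  rw [ev_pow_restrict hVH he m x hx, hmb γ (fun j hj => pow_eq_one_of_restrict hVH he hj) hγ]

/-- A map extends to the join of its source with induced normalizing elements. -/
theorem exists_extension_sup {f : Ω → Ω} (hQ : F.IsReceptive Q) (hf : MapFn F P f)
    (hr : f '' P = (Q : Set Ω)) (hM : M ≤ normalizerIn S P)
    (h : ∀ g ∈ M, ∃ s ∈ S, ∀ x ∈ P, f (g * x * g⁻¹) = s * f x * s⁻¹) :
    ∃ G, MapFn F (P ⊔ M) G ∧ ∀ x ∈ P, G x = f x := by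
  obtain ⟨φ, hφ, hφe⟩ := id hf
  have hPS := hf.le_S
  have hle : P ⊔ M ≤ extender S P φ := by
    refine sup_le (le_extender hPS (apply_mem_S hφ)) fun g hg => ?_
    obtain ⟨s, hs, hse⟩ := h g hg
    exact mem_extender.mpr ⟨(hM hg).1, (hM hg).2, s, hs, fun x hx => by rw [hφe, hφe]; exact hse x x.2⟩
  refine hf.exists_extension hQ hr le_sup_left (sup_le (le_normalizerIn hPS) hM) fun g hg => ?_
  obtain ⟨-, hgN, s, hs, hse⟩ := mem_extender.mp (hle hg)
  refine ⟨s, hs, fun x hx => ?_⟩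
  have := hse ⟨x, hx⟩ (conj_mem_of_normalizer hgN hx)
  rwa [hφe, hφe] at this

variable {U : Subgroup Ω} {E : FusionSystem U}

theorem autGroup_conj (hE : E.IsInvariantIn F) (hH : H ≤ U) {a b : MulAut H} (ha : a ∈ E.autGroup H)
    (hb : b ∈ F.autGroup H) : b * a * b⁻¹ ∈ E.autGroup H := by
  have hHS := hH.trans hE.2.1.1
  have h := CfsgLib.Fusion.mapFn_transport hE hH (mapFn_ev hH ha) (fun _ hx => ev_mem a hx)
    (mapFn_ev hHS hb) (ev_image b) fun x hx => ev_inv_ev b hx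
  refine (mem_autGroup_iff_mapFn hH).mpr ⟨_, h, fun x => ?_⟩
  rw [← ev_val, ev_mul _ _ x.2, ev_mul _ _ (ev_mem _ x.2)]
  rfl

theorem autGroup_sub (hE : E.IsSubsystemOf F) (hH : H ≤ U) (hHS : H ≤ S) : E.autGroup H ≤ F.autGroup H := by
  intro a ha
  exact (mem_autGroup_iff_mapFn hHS).mpr ⟨ev a, mapFn_of_sub hE (mapFn_ev hH ha), fun x => ev_val a x⟩

/-- An automorphism of order prime to `p` differing from one in `E` by one that fixes `V` pointwise and moves
by elements of `V` lies in `E`. -/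
theorem mem_autGroup_of_agree (hS : IsPGroup p S) (hE : E.IsInvariantIn F) (hVH : V ≤ H) (hH : H ≤ U)
    {b e : MulAut H} (hb : b ∈ F.autGroup H) (hbp : (orderOf b).Coprime p) (he : e ∈ E.autGroup H)
    (hV : ∀ x ∈ V, ev e x = ev b x) (hVm : ∀ x ∈ V, ev b x ∈ V)
    (hmov : ∀ h ∈ H, (ev b h)⁻¹ * ev e h ∈ V) : b ∈ E.autGroup H := by
  have hHS := hH.trans hE.2.1.1
  have := finite_mulAut hHS
  have := finite_of_le (hVH.trans hHS)
  have hd : ∀ x ∈ V, ev (b⁻¹ * e) x = x := fun x hx => by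
    rw [ev_mul _ _ (hVH hx), hV x hx, ev_inv_ev b (hVH hx)]
  obtain ⟨l, hl⟩ := IsPGroup.iff_card.mp (hS.to_le (hVH.trans hHS))
  have hVim : ev b '' V = (V : Set Ω) :=
    ((mapFn_ev hHS hb).mono hVH).image_eq_of_maps (hVH.trans hHS) hVm le_rfl
  have hdl : (b⁻¹ * e) ^ p ^ l = 1 := aut_ext fun h hh => by
    set v := h⁻¹ * ev (b⁻¹ * e) h with hv
    have hvV : v ∈ V := by
      obtain ⟨w, hw, hwe⟩ := exists_of_image hVim (hmov h hh)
      have hbh := ev_mem b hh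
      have h1 : ev e h = ev b (h * w) := by
        rw [(mapFn_ev hHS hb).map_mul hh (hVH hw), hwe, mul_inv_cancel_left]
      rw [hv, ev_mul _ _ hh, h1, ev_inv_ev b (H.mul_mem hh (hVH hw)), inv_mul_cancel_left]
      exact hw
    rw [ev_one hh, ev_pow_fixed _ hh (hVH hvV) (mul_inv_cancel_left h _).symm (hd v hvV)]
    have : (⟨v, hvV⟩ : V) ^ p ^ l = 1 := by rw [← hl]; exact pow_card_eq_one'
    rw [show v ^ p ^ l = 1 from congrArg Subtype.val this, mul_one]
  refine mem_of_mul_pElement (K := F.autGroup H) (fun x hx y hy => autGroup_conj hE hH hy hx) hb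
    (Subgroup.mul_mem _ (Subgroup.inv_mem _ hb) (autGroup_sub hE.1 hH hHS he)) hdl hbp
    (pow_orderOf_eq_one b) ?_
  rwa [mul_inv_cancel_left]

/-- Rigidity over a centric subgroup. -/
theorem mem_autGroup_of_centric (hS : IsPGroup p S) (hEs : E.IsSaturated p) (hE : E.IsInvariantIn F)
    (hVH : V ≤ H) (hH : H ≤ normalizerIn U V) (hVc : E.IsCentric V) {b : MulAut H} (hb : b ∈ F.autGroup H)
    (hbp : (orderOf b).Coprime p) (hVm : ∀ x ∈ V, ev b x ∈ V) (hbV : MapFn E V (ev b)) :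
    b ∈ E.autGroup H := by
  have hUS := hE.2.1.1
  have hHU : H ≤ U := hH.trans normalizerIn_le
  have := finite_of_le hUS
  have hbm := mapFn_ev (hHU.trans hUS) hb
  have hVim : ev b '' V = (V : Set Ω) := (hbm.mono hVH).image_eq_of_maps ((hVH.trans hHU).trans hUS) hVm le_rfl
  have hind : ∀ g ∈ H, ∀ x ∈ V, ev b (g * x * g⁻¹) = ev b g * ev b x * (ev b g)⁻¹ := fun g hg x hx =>
    hbm.map_conj hg (hVH hx)
  obtain ⟨G, hG, hGe⟩ := exists_extension_sup
    (receptive_of_fullyCentralized (hS.to_le hUS) hEs (isFullyCentralized_of_centric hVc)) hbV hVim hH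
    fun g hg => ⟨ev b g, hHU (ev_mem b hg), hind g hg⟩
  rw [sup_eq_right.mpr hVH] at hG
  have hmov : ∀ h ∈ H, (ev b h)⁻¹ * G h ∈ V := fun h hh => by
    refine IsCentric.centralizerIn_le' hVc (mem_centralizerIn.mpr
      ⟨U.mul_mem (U.inv_mem (hHU (ev_mem b hh))) (hG.mem_S hh), fun y hy => ?_⟩)
    obtain ⟨x, hx, rfl⟩ := exists_of_image hVim hy
    have h1 : G h * ev b x * (G h)⁻¹ = ev b h * ev b x * (ev b h)⁻¹ := by
      rw [← hind h hh x hx, ← hGe x hx, ← hG.map_conj hh (hVH hx), hGe _ (conj_mem_of_normalizer (hH hh).2 hx)]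
    calc ev b x * ((ev b h)⁻¹ * G h) = (ev b h)⁻¹ * (ev b h * ev b x * (ev b h)⁻¹) * G h := by group
      _ = (ev b h)⁻¹ * G h * ev b x := by rw [← h1]; group
  obtain ⟨e, he, hee⟩ := hG.exists_aut (hG.image_eq_of_maps hHU (fun h hh => by
    have := H.mul_mem (ev_mem b hh) (hVH (hmov h hh))
    rwa [mul_inv_cancel_left] at this) le_rfl)
  refine mem_autGroup_of_agree hS hE hVH hHU hb hbp he (fun x hx => ?_) hVm fun h hh => ?_
  · rw [ev_coe e (hVH hx), hee, hGe x hx]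
  · rw [ev_coe e hh, hee]; exact hmov h hh

end ambient

variable [Finite S] (D : Datum F p T) [Fact p.Prime]

omit [Fact p.Prime] in
theorem cen_normalizes (hsc : F.StronglyClosed T) (hPc : TCentric F T A) (hAK : A ≤ K) (hK : K ≤ normalizerIn T A) :
    centralizerIn S A ≤ normalizerIn S K := fun c hc => by
  have := finite_of_le ((hK.trans normalizerIn_le).trans hsc.1)
  refine ⟨hc.1, mem_normalizer_of_forall fun k hk => ?_⟩
  have hkN := hK hk
  have hm : c * k * c⁻¹ * k⁻¹ ∈ centralizerIn T A := by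
    refine mem_centralizerIn.mpr ⟨T.mul_mem (conj_mem_of_normalizer (StronglyClosed.le_normalizer hsc hc.1) hkN.1)
      (T.inv_mem hkN.1), fun x hx => ?_⟩
    have hc' := (mem_centralizerIn.mp hc).2
    have hx' : k⁻¹ * x * k ∈ A := (Subgroup.mem_normalizer_iff''.mp hkN.2 x).mp hx
    have h1 : c⁻¹ * (k⁻¹ * x * k) = k⁻¹ * x * k * c⁻¹ := by
      calc c⁻¹ * (k⁻¹ * x * k) = c⁻¹ * (k⁻¹ * x * k * c) * c⁻¹ := by group
        _ = _ := by rw [hc' _ hx']; group
    calc x * (c * k * c⁻¹ * k⁻¹) = x * c * k * c⁻¹ * k⁻¹ := by group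
      _ = c * x * k * c⁻¹ * k⁻¹ := by rw [hc' x hx]
      _ = c * k * (k⁻¹ * x * k * c⁻¹) * k⁻¹ := by group
      _ = c * k * c⁻¹ * k⁻¹ * x := by rw [← h1]; group
  have := K.mul_mem (hAK (TCentric.centralizer_le hsc.1 hPc hm)) hk
  rwa [inv_mul_cancel_right] at this

omit [Fact p.Prime] in
theorem tcentric_map {θ : Ω → Ω} (hPc : TCentric F T P) (hsc : F.StronglyClosed T) (hθ : MapFn F P θ)
    (hQ : θ '' P = (Q : Set Ω)) : TCentric F T Q := hPc.of_conj hsc (hθ.isConj hQ)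

/-- A map on `M C_S(X)` carries it to the corresponding product. -/
theorem move_sup (hXf : F.IsFullyCentralized X) (hXM : X ≤ M) {θ : Ω → Ω}
    (hθ : MapFn F (M ⊔ centralizerIn S X) θ) {X' M' : Subgroup Ω} (hX : θ '' X = (X' : Set Ω))
    (hM : θ '' M = (M' : Set Ω)) :
    F.IsFullyCentralized X' ∧ θ '' (M ⊔ centralizerIn S X : Subgroup Ω) =
      ((M' ⊔ centralizerIn S X' : Subgroup Ω) : Set Ω) := by
  have hXH : X ≤ M ⊔ centralizerIn S X := hXM.trans le_sup_left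
  have hCH : centralizerIn S X ≤ M ⊔ centralizerIn S X := le_sup_right
  obtain ⟨C', hC'S, hC'⟩ := (hθ.mono hCH).exists_image
  have hC'le : C' ≤ centralizerIn S X' := fun y hy => by
    obtain ⟨c, hc, rfl⟩ := exists_of_image hC' hy
    exact hθ.mem_centralizerIn hXH hX (hCH hc) hc
  have hconj : F.IsConj X X' := (hθ.mono hXH).isConj hX
  have := finite_of_le (centralizerIn_le : centralizerIn S X' ≤ S)
  have hge : Nat.card (centralizerIn S X') ≤ Nat.card (centralizerIn S X) := hXf.2 X' hconj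
  have hcC : Nat.card C' = Nat.card (centralizerIn S X) := (hθ.mono hCH).card_image hC'
  obtain rfl : C' = centralizerIn S X' := eq_of_le_of_card_le hC'le (hge.trans hcC.ge)
  refine ⟨⟨IsConj.le_right hconj, fun V hV => hcC ▸ hXf.2 V (isConj_trans hconj hV)⟩, ?_⟩
  obtain ⟨J, -, hJ⟩ := hθ.exists_image
  ext y
  constructor
  · rintro ⟨x, hx, rfl⟩
    exact hθ.maps_sup (fun x hx => Subgroup.mem_sup_left (mem_of_image hM hx))
      (fun c hc => Subgroup.mem_sup_right (mem_of_image hC' hc)) x hx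
  · intro hy
    refine exists_of_image hJ ((sup_le (fun z hz => ?_) fun z hz => ?_ : M' ⊔ centralizerIn S X' ≤ J) hy)
    · obtain ⟨x, hx, rfl⟩ := exists_of_image hM hz
      exact mem_of_image hJ (Subgroup.mem_sup_left hx)
    · obtain ⟨c, hc, rfl⟩ := exists_of_image hC' hz
      exact mem_of_image hJ (Subgroup.mem_sup_right hc)

omit [Fact p.Prime] in
/-- An automorphism transported along a map. -/
theorem exists_transport_aut {θ : Ω → Ω} (hθ : MapFn F H θ) (hQ : θ '' H = (Q : Set Ω)) {b : MulAut H}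
    (hb : b ∈ F.autGroup H) :
    ∃ b' ∈ F.autGroup Q, orderOf b' = orderOf b ∧ ∀ x ∈ H, θ (ev b x) = ev b' (θ x) := by
  obtain ⟨φ, hφ, hφe⟩ := id hθ
  obtain ⟨e, he⟩ := exists_equiv hφ (Q := Q) (SetLike.coe_injective (by rw [← MapFn.image_eq_range hφe, hQ]))
  refine ⟨MulAut.congr e b, (map_autGroup hφ he).le ⟨b, hb, rfl⟩, (MulAut.congr e).orderOf_eq b, fun x hx => ?_⟩
  have hee : ∀ x : H, ((e x : Q) : Ω) = θ x := fun x => (he x).trans (hφe x)
  rw [ev_coe b hx, ← hee (b ⟨x, hx⟩), ← hee ⟨x, hx⟩, ev_val]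
  simp [MulAut.congr]

/-- Controlled automorphisms of order prime to `p` of a fully centralized subgroup give `JMap`s. -/
theorem jMap_of_extFn (hS : IsPGroup p S) (hF : F.IsSaturated p) (hA : A ≤ T)
    (hAf : F.IsFullyCentralized A) (hH : H ≤ S) (hWH : W S A ≤ H) {b : MulAut H} (hb : b ∈ F.autGroup H)
    (hbp : (orderOf b).Coprime p) (hbe : ExtFn D A (ev b)) : JMap D A (ev b) := by
  have hAS := hA.trans D.le_S'
  have hWS := W_le (S := S) hAS
  obtain ⟨a, ha, hae, had⟩ := exists_restrict_aut hH hWH hb fun x hx => mem_of_image (mapFn_W hAS hbe.1 hbe.2.1) hx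
  refine ⟨hbe.1.mono le_W, mapFn_image hAS hbe.1 hbe.2.1, fun R f hR hf hfR hRT => ?_⟩
  obtain ⟨θ, hθ, hθe, hθR, hθW⟩ := exists_W_map (p := p) hS hF hf hfR hAf
    (isFullyCentralized_of_fullyNormalized hS hF hR)
  obtain ⟨g', hg', hge⟩ := hbe.transport D hA hθ hθR hθW
  obtain ⟨a', -, hao, ha'e⟩ := exists_transport_aut hθ hθW ha
  have hmem : a' ∈ extGrp D hRT := mem_extGrp_of_ev D hRT hg' fun y hy => by
    obtain ⟨x, hx, rfl⟩ := exists_of_image hθW hy
    rw [hge x hx, ← ha'e x hx, hae x hx]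
  refine ⟨a', opr_le_jW D hRT (mem_opr hmem (hao ▸ hbp.coprime_dvd_left had)), fun x hx => ?_⟩
  rw [← hθe x hx, ← hθe _ (hbe.2.1 x hx), ← ha'e x (le_W hx), hae x (le_W hx)]

/-- A subgroup of `T` fully centralized in `F` is so in each member. -/
theorem isFullyCentralized_member (hS : IsPGroup p S) (hF : F.IsSaturated p) (hP : P ≤ T)
    (hPf : F.IsFullyCentralized P) (i : D.ι) : (D.E i).IsFullyCentralized P := by
  refine ⟨hP.trans (D.le i), fun V hV => ?_⟩
  obtain ⟨χ, hχ, hχV⟩ := isConj_iff.mp hV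
  obtain ⟨k, hk, hkr, -, -⟩ := (mapFn_of_sub (D.inv i).1 hχ).exists_inv hχV
  obtain ⟨G, hG, hGe⟩ := hk.extend_centralizer hS hF hPf hkr
  have hsub : centralizerIn (D.Ti i) V ≤ V ⊔ centralizerIn S V := fun c hc =>
    Subgroup.mem_sup_right ⟨D.leS i hc.1, hc.2⟩
  obtain ⟨φ, hφ, hφe⟩ := hG.mono hsub
  refine card_le_of_map hφ (centralizerIn_le.trans (D.leS i)) fun c => ?_
  rw [hφe]
  exact ⟨mapFn_mem (D.inv i).2.1 hG (hsub c.2) c.2.1,
    (hG.mem_centralizerIn le_sup_left ((Set.image_congr hGe).trans hkr) (hsub c.2) ⟨D.leS i c.2.1, c.2.2⟩).2⟩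

/-- The part in a member: automorphisms extend from `P C_{Ti}(P)` to larger subgroups of its normalizer. -/
theorem mapFn_member (hS : IsPGroup p S) (hF : F.IsSaturated p) (hP : P ≤ T) (hPf : F.IsFullyCentralized P) (i : D.ι)
    {Hi : Subgroup Ω} (hVHi : W (D.Ti i) P ≤ Hi) (hHi : Hi ≤ normalizerIn (D.Ti i) P) (hH : H ≤ S) (hHiH : Hi ≤ H)
    {b : MulAut H} (hb : b ∈ F.autGroup H) (hbp : (orderOf b).Coprime p) (hbHi : ∀ x ∈ Hi, ev b x ∈ Hi)
    (hbP : ∀ x ∈ P, ev b x ∈ P) (hbE : MapFn (D.E i) (W (D.Ti i) P) (ev b)) :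
    MapFn (D.E i) Hi (ev b) := by
  have := finite_of_le (D.leS i)
  have hPi := hP.trans (D.le i)
  obtain ⟨β, hβ, hβe, hβd⟩ := exists_restrict_aut hH hHiH hb hbHi
  have hVm : ∀ x ∈ W (D.Ti i) P, ev β x ∈ W (D.Ti i) P := fun x hx => by
    rw [← hβe x (hVHi hx)]
    exact (hbE.maps_sup (fun y hy => le_W (hbP y hy)) fun c hc => cen_le_W
      (hbE.mem_centralizerIn le_W ((hbE.mono le_W).image_eq_of_maps hPi hbP le_rfl) (cen_le_W hc) hc)) x hx
  have hPfi := isFullyCentralized_member D hS hF hP hPf i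
  have hVc : (D.E i).IsCentric (W (D.Ti i) P) := isCentric_W hPfi
  have := mem_autGroup_of_centric hS (D.sat i) (D.inv i) hVHi
    (fun x hx => ⟨(hHi hx).1, normalizer_W hPi (hHi hx)⟩) hVc hβ (hbp.coprime_dvd_left hβd) hVm
    (hbE.congr fun x hx => hβe x (hVHi hx))
  exact (mapFn_ev (hHi.trans normalizerIn_le) this).congr fun x hx => (hβe x hx).symm

/-- The images of a normalizer of `P C_{Ti}(P)`. -/
theorem cenTi_le (hPc : TCentric F T A) (hAK : A ≤ K) (hK : K ≤ normalizerIn T A) (i : D.ι) :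
    centralizerIn (D.Ti i) A ≤ normalizerIn (D.Ti i) K := fun c hc =>
  ⟨hc.1, (cen_normalizes (F := F) D.sc hPc hAK hK ⟨D.leS i hc.1, hc.2⟩).2⟩

/-- A controlled automorphism of `X` normalizing `M` is controlled on `M`. -/
theorem extFn_of_restrict (hS : IsPGroup p S) (hF : F.IsSaturated p) (hXc : TCentric F T X)
    (hXf : F.IsFullyCentralized X) (hXM : X ≤ M) (hM : M ≤ normalizerIn T X) {b : MulAut H}
    (hH : H ≤ S) (hMH : M ≤ H) (hCH : centralizerIn S X ≤ H) (hb : b ∈ F.autGroup H)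
    (hbp : (orderOf b).Coprime p) (hbM : ∀ x ∈ M, ev b x ∈ M) (hbe : ExtFn D X (ev b)) :
    ExtFn D M (ev b) := by
  have hMT : M ≤ T := hM.trans normalizerIn_le
  have hXS := hXc.le.trans D.le_S'
  have hCle : ∀ {U : Subgroup Ω}, centralizerIn U M ≤ centralizerIn U X := fun {U} c hc =>
    ⟨hc.1, Subgroup.centralizer_le (SetLike.coe_subset_coe.mpr hXM) hc.2⟩
  refine ⟨(mapFn_ev hH hb).mono (sup_le hMH (hCle.trans hCH)), hbM, fun c hc => hbe.2.2.1 c (hCle hc), fun i => ?_⟩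
  have hHiH : M ⊔ centralizerIn (D.Ti i) X ≤ H :=
    sup_le hMH fun c hc => hCH ⟨D.leS i hc.1, hc.2⟩
  refine (mapFn_member D hS hF hXc.le hXf i (Hi := M ⊔ centralizerIn (D.Ti i) X)
    (sup_le_sup_right hXM _) (sup_le (fun x hx => ⟨D.le i (hM hx).1, (hM hx).2⟩) centralizerIn_le_normalizerIn)
    hH hHiH hb hbp ?_ hbe.2.1 (hbe.2.2.2 i)).mono (sup_le le_sup_left (hCle.trans le_sup_right))
  exact ((mapFn_ev hH hb).mono hHiH).maps_sup (fun x hx => Subgroup.mem_sup_left (hbM x hx))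
    fun c hc => Subgroup.mem_sup_right (mapFn_cenTi D hXS i hbe.1 hbe.2.1 c hc)

/-- Ascent: an automorphism of order prime to `p` normalizing `Aut_M(X)` extends to a `JMap` of `M`. -/
theorem ascend (hS : IsPGroup p S) (hF : F.IsSaturated p) (hXc : TCentric F T X) (hXn : F.IsFullyNormalized X)
    (hXM : X ≤ M) (hM : M ≤ normalizerIn T X) {α : MulAut X} (hα : JMap D X (ev α))
    (hαp : (orderOf α).Coprime p)
    (hn : ∀ t ∈ M, ∃ t' ∈ M, ∀ x ∈ X, ev α (t * x * t⁻¹) = t' * ev α x * t'⁻¹) :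
    ∃ g, JMap D M g ∧ ∀ x ∈ X, g x = ev α x := by
  have hX := hXc.le
  have hXS := hXn.1
  have hMT : M ≤ T := hM.trans normalizerIn_le
  have hMS := hMT.trans D.le_S'
  have hWS := W_le (S := S) hXS
  have hXf := isFullyCentralized_of_fullyNormalized hS hF hXn
  obtain ⟨a₀, ha₀, ha₀e⟩ := (jMap_iff D hS hF hX hXn).mp hα
  obtain ⟨a, ha, hap, hae⟩ := exists_coprime_lift hWS le_W ha₀ (fun x hx => (ha₀e x hx).symm) hαp
  have hast := jW_le_stabW D hX ha
  -- the extension to `M C_S(X)`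
  have hind : ∀ t ∈ M, ∃ s ∈ S, ∀ x ∈ W S X, ev a (t * x * t⁻¹) = s * ev a x * s⁻¹ := by
    intro t ht
    obtain ⟨t', ht', hte'⟩ := hn t ht
    have htN : ∀ {u}, u ∈ M → u ∈ Subgroup.normalizer (W S X : Set Ω) := fun hu =>
      normalizer_W hXS ⟨D.le_S' (hM hu).1, (hM hu).2⟩
    obtain ⟨c, hc, hce⟩ := exists_autInducedBy (K := normalizerIn T X) (hM ht) (htN ht)
    obtain ⟨c', hc', hce'⟩ := exists_autInducedBy (K := normalizerIn T X) (hM ht') (htN ht')
    have h1 : c'⁻¹ * (a * c * a⁻¹) = 1 := by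
      have hmem : a * c * a⁻¹ ∈ jW D hX :=
        Subgroup.mul_mem _ (Subgroup.mul_mem _ ha (auT_le_jW D hX hc)) (Subgroup.inv_mem _ ha)
      refine eq_one_of_fix D hS hF hX hXc hXn
        (Subgroup.mul_mem _ (Subgroup.inv_mem _ (auT_le_jW D hX hc')) hmem) fun x hx => ?_
      obtain ⟨y, hy, rfl⟩ := exists_of_image (stabW_image hXS hast) hx
      have hy' := le_W (S := S) hy
      rw [ev_mul _ _ (ev_mem a hy'), ev_mul _ _ (ev_mem a hy'), ev_inv_ev a hy', ev_mul _ _ hy',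
        ev_conj_of hce hy', hae _ (conj_mem_of_normalizer (hM ht).2 hy), hte' y hy, ← hae y hy,
        ← ev_conj_of hce' (ev_mem a hy'), ev_inv_ev c' (ev_mem a hy')]
    refine ⟨t', D.le_S' (hM ht').1, fun x hx => ?_⟩
    have h2 : a * c = c' * a := by
      rw [inv_mul_eq_one] at h1
      rw [h1]; group
    rw [← ev_conj_of hce hx, ← ev_mul _ _ hx, h2, ev_mul _ _ hx, ev_conj_of hce' (ev_mem a hx)]
  obtain ⟨G, hG, hGe⟩ := exists_extension_sup
    (receptive_of_fullyCentralized hS hF (isFullyCentralized_of_centric (isCentric_W hXf)))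
    (mapFn_ev hWS hast.1) (ev_image a)
    (fun t ht => ⟨hMS ht, normalizer_W hXS ⟨D.le_S' (hM ht).1, (hM ht).2⟩⟩) hind
  set H := M ⊔ centralizerIn S X with hHdef
  have hH : H ≤ S := sup_le hMS centralizerIn_le
  have hWH : W S X ≤ H := sup_le_sup_right hXM _
  have hHW : H ≤ W S X ⊔ M := sup_le le_sup_right (cen_le_W.trans le_sup_left)
  have hGX : G '' X = (X : Set Ω) := (Set.image_congr fun x hx => hGe x (le_W hx)).trans (stabW_image hXS hast)
  have hGM : ∀ t ∈ M, G t ∈ M := fun t ht => by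
    obtain ⟨t', ht', hte'⟩ := hn t ht
    have htm : t ∈ W S X ⊔ M := Subgroup.mem_sup_right ht
    have hGt : G t ∈ T := mapFn_mem D.sc hG htm (hMT ht)
    have hm : t'⁻¹ * G t ∈ centralizerIn T X := by
      refine mem_centralizerIn.mpr ⟨T.mul_mem (T.inv_mem (hMT ht')) hGt, fun y hy => ?_⟩
      obtain ⟨x, hx, rfl⟩ := exists_of_image hGX hy
      have hxm : x ∈ W S X ⊔ M := Subgroup.mem_sup_left (le_W hx)
      have h1 : G t * G x * (G t)⁻¹ = t' * G x * t'⁻¹ := by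
        have hcx := conj_mem_of_normalizer (hM ht).2 hx
        rw [← hG.map_conj htm hxm, hGe _ (le_W hcx), hGe _ (le_W hx), hae _ hcx, hae x hx]
        exact hte' x hx
      calc G x * (t'⁻¹ * G t) = t'⁻¹ * (t' * G x * t'⁻¹) * G t := by group
        _ = t'⁻¹ * G t * G x := by rw [← h1]; group
    have := M.mul_mem ht' (hXM (TCentric.centralizer_le D.le_S' hXc hm))
    rwa [mul_inv_cancel_left] at this
  obtain ⟨b₀, hb₀, hb₀e⟩ := (hG.mono hHW).exists_aut ((hG.mono hHW).image_eq_of_maps hH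
    ((hG.mono hHW).maps_sup (fun t ht => Subgroup.mem_sup_left (hGM t ht)) fun c hc => by
      rw [hGe c (cen_le_W hc)]; exact hWH (ev_mem a (cen_le_W hc))) le_rfl)
  have := finite_mulAut hH
  obtain ⟨m, hm, hmb⟩ := exists_coprime_power (p := p) (⟨b₀, hb₀⟩ : F.autGroup H)
  have hresW : ∀ x ∈ W S X, ev b₀ x = ev a x := fun x hx => by rw [ev_coe b₀ (hWH hx), hb₀e, hGe x hx]
  set b := b₀ ^ m with hb
  have hbF : b ∈ F.autGroup H := Subgroup.pow_mem _ hb₀ m
  have hbp : (orderOf b).Coprime p := by rwa [← Subgroup.orderOf_coe, Subgroup.coe_pow] at hm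
  have hbW : ∀ x ∈ W S X, ev b x = ev a x := fun x hx => by
    rw [hb, ev_pow_restrict hWH hresW m x hx, hmb a (fun j hj => pow_eq_one_of_restrict hWH hresW
      (congrArg Subtype.val hj)) hap]
  have hbM : ∀ x ∈ M, ev b x ∈ M := fun x hx => by
    have hb₀M : ∀ x ∈ M, ev b₀ x ∈ M := fun x hx => by
      rw [ev_coe b₀ (Subgroup.mem_sup_left hx), hb₀e]; exact hGM x hx
    obtain ⟨γ, -, hγe, -⟩ := exists_restrict_aut hH le_sup_left hb₀ hb₀M
    rw [hb, ev_pow_restrict le_sup_left hγe m x hx]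
    exact ev_mem _ hx
  have hbe : ExtFn D X (ev b) := (extFn_ev D (jW_le_extGrp D hX ha)).congr D fun x hx => (hbW x hx).symm
  -- move to a fully normalized conjugate of `M`
  obtain ⟨M', θ, hM'n, hθ, hθM, -⟩ := exists_fullyNormalized_mapFn hS hF hMS
  have hθH : MapFn F H θ := hθ.mono (sup_le (le_normalizerIn hMS) (cen_normalizes D.sc hXc hXM hM))
  obtain ⟨X', -, hθX⟩ := (hθH.mono (hXM.trans le_sup_left)).exists_image
  obtain ⟨hX'f, hθHr⟩ := move_sup hXf hXM hθH hθX hθM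
  obtain ⟨-, hθW⟩ := move_sup hXf le_rfl (hθH.mono hWH) hθX hθX
  obtain ⟨b', hb', hb'o, hb'e⟩ := exists_transport_aut hθH hθHr hbF
  obtain ⟨g', hg', hge⟩ := hbe.transport D hX (hθH.mono hWH) hθX hθW
  have hM'T : M' ≤ T := fun y hy => by
    obtain ⟨x, hx, rfl⟩ := exists_of_image hθM hy
    exact mapFn_mem D.sc hθH (Subgroup.mem_sup_left hx) (hMT hx)
  have hX'M' : X' ≤ M' := fun y hy => by
    obtain ⟨x, hx, rfl⟩ := exists_of_image hθX hy
    exact mem_of_image hθM (hXM hx)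
  have hM'N : M' ≤ normalizerIn T X' := fun y hy => by
    obtain ⟨x, hx, rfl⟩ := exists_of_image hθM hy
    exact ⟨hM'T hy, (hθH.mem_normalizerIn (hXM.trans le_sup_left) hθX (Subgroup.mem_sup_left hx) (hM hx).2).2⟩
  have hX'c := tcentric_map hXc D.sc (hθH.mono (hXM.trans le_sup_left)) hθX
  have hb'e' : ExtFn D X' (ev b') := hg'.congr D fun y hy => by
    obtain ⟨x, hx, rfl⟩ := exists_of_image hθW hy
    rw [hge x hx, ← hb'e x (hWH hx)]
  have h1 := extFn_of_restrict D hS hF hX'c hX'f hX'M' hM'N (sup_le hM'n.1 centralizerIn_le) le_sup_left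
    le_sup_right hb' (hb'o ▸ hbp) (fun y hy => by
      obtain ⟨x, hx, rfl⟩ := exists_of_image hθM hy
      rw [← hb'e x (Subgroup.mem_sup_left hx)]; exact mem_of_image hθM (hbM x hx)) hb'e'
  have h2 := jMap_of_extFn D hS hF hM'T (isFullyCentralized_of_fullyNormalized hS hF hM'n)
    (sup_le hM'n.1 centralizerIn_le) (sup_le_sup_left (fun c hc => show c ∈ centralizerIn S X' from
      ⟨hc.1, Subgroup.centralizer_le (SetLike.coe_subset_coe.mpr hX'M') hc.2⟩) _) hb' (hb'o ▸ hbp) h1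
  have hMle : M ≤ H := le_sup_left
  obtain ⟨k, hk, hkr, hk₁, -⟩ := (hθH.mono hMle).exists_inv hθM
  refine ⟨ev b, h2.transport D hk hkr fun y hy => ?_, fun x hx => by rw [hbW x (le_W hx), hae x hx]⟩
  obtain ⟨x, hx, rfl⟩ := exists_of_image hθM hy
  rw [hk₁ x hx, ← hb'e x (hMle hx), hk₁ _ (hbM x hx)]

include D in
/-- The fixers of `A` in the stabilizer of `K` have `Aut_{C_S(A)}` as Sylow subgroup. -/
theorem fixer_le_autC (hS : IsPGroup p S) (hF : F.IsSaturated p) (hAc : TCentric F T A)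
    (hAf : F.IsFullyCentralized A) (hAK : A ≤ K) (hK : K ≤ normalizerIn T A) (hKn : F.IsFullyNormalized K)
    {Y : Subgroup (MulAut (W S K))} (hYst : Y ≤ stabW F K) (hYfix : ∀ y ∈ Y, ∀ x ∈ A, ev y x = x)
    (hYp : IsPGroup p Y)
    (hYn : ∀ c ∈ autInducedBy (centralizerIn S A) (W S K), ∀ y ∈ Y, c * y * c⁻¹ ∈ Y) :
    Y ≤ autInducedBy (centralizerIn S A) (W S K) := by
  have hKS := hKn.1
  have hWS := W_le (S := S) hKS
  have := finite_mulAut hWS
  set C := centralizerIn S A with hC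
  have hCN : C ≤ normalizerIn S K := cen_normalizes D.sc hAc hAK hK
  set V := autInducedBy C (W S K) with hV
  have hVQ : V ≤ autInducedBy (normalizerIn S K) (W S K) := autInducedBy_mono hCN _
  have hVY : V ≤ Subgroup.normalizer (Y : Set (MulAut (W S K))) := fun c hc =>
    Subgroup.mem_normalizer_iff.mpr fun y => ⟨hYn c hc y, fun h => by
      have := hYn c⁻¹ (Subgroup.inv_mem _ hc) _ h
      simpa [mul_assoc] using this⟩
  have hUp : IsPGroup p (V ⊔ Y : Subgroup (MulAut (W S K))) :=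
    (isPGroup_autInducedBy (hS.to_le centralizerIn_le) _).to_sup_of_normal_right' hYp hVY
  obtain ⟨n, hn, hnQ⟩ := (sylIn_stabW hS hF hKn).exists_conj hUp
    (sup_le (hVQ.trans (autS_le_stabW hKS)) hYst)
  have hnm := mapFn_ev (F := F) hWS hn.1
  have hWf : F.IsFullyCentralized (W S K) :=
    isFullyCentralized_of_centric (isCentric_W (isFullyCentralized_of_fullyNormalized hS hF hKn))
  obtain ⟨G, hG, hGe⟩ := exists_extension_sup (receptive_of_fullyCentralized hS hF hWf) hnm (ev_image n)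
    (fun c (hc : c ∈ C) => ⟨hc.1, normalizer_W hKS (hCN hc)⟩) fun c hc => by
      obtain ⟨κ, hκ, hκe⟩ := exists_autInducedBy (K := C) hc (normalizer_W hKS (hCN hc))
      obtain ⟨s, hs, hse⟩ := mem_autInducedBy.mp (hnQ κ (Subgroup.mem_sup_left hκ))
      refine ⟨s, hs.1, fun x hx => ?_⟩
      rw [← ev_conj_of hse (ev_mem n hx), ev_mul _ _ (ev_mem n hx), ev_inv_ev n hx, ev_mul _ _ hx,
        ev_conj_of hκe hx]
  have hAW : A ≤ W S K ⊔ C := (hAK.trans le_W).trans le_sup_left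
  obtain ⟨A', -, hA'⟩ := (hG.mono hAW).exists_image
  have hconj : F.IsConj A A' := (hG.mono hAW).isConj hA'
  obtain ⟨C', -, hC'⟩ := (hG.mono (le_sup_right : C ≤ W S K ⊔ C)).exists_image
  have hC'le : C' ≤ centralizerIn S A' := fun y hy => by
    obtain ⟨c, hc, rfl⟩ := exists_of_image hC' hy
    exact hG.mem_centralizerIn hAW hA' (Subgroup.mem_sup_right hc) hc
  have := finite_of_le (centralizerIn_le : centralizerIn S A' ≤ S)
  obtain rfl : C' = centralizerIn S A' := eq_of_le_of_card_le hC'le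
    ((hAf.2 A' hconj).trans ((hG.mono (le_sup_right : C ≤ W S K ⊔ C)).card_image hC').ge)
  intro y hy
  obtain ⟨s, hs, hse⟩ := mem_autInducedBy.mp (hnQ y (Subgroup.mem_sup_right hy))
  have hsC : s ∈ centralizerIn S A' := mem_centralizerIn.mpr ⟨hs.1, fun z hz => by
    obtain ⟨x, hx, rfl⟩ := exists_of_image hA' hz
    have hxW : x ∈ W S K := le_W (hAK hx)
    have h1 : s * G x * s⁻¹ = G x := by
      rw [hGe x hxW, ← ev_conj_of hse (ev_mem n hxW), ev_mul _ _ (ev_mem n hxW), ev_inv_ev n hxW,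
        ev_mul _ _ hxW, hYfix y hy x hx]
    calc G x * s = s * G x * s⁻¹ * s := by rw [h1]
      _ = s * G x := by group⟩
  obtain ⟨c, hc, rfl⟩ := exists_of_image hC' hsC
  refine mem_autInducedBy.mpr ⟨c, hc, fun x => ?_⟩
  have hcx : c * (x : Ω) * c⁻¹ ∈ W S K := conj_mem_of_normalizer (normalizer_W hKS (hCN hc)) x.2
  have hnx : ev n (x : Ω) ∈ W S K := ev_mem n x.2
  rw [← ev_val, ← ev_inv_ev n hcx, ← hGe _ hcx, hG.map_conj (Subgroup.mem_sup_right hc) (Subgroup.mem_sup_left x.2),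
    hGe _ x.2, ← ev_conj_of hse hnx, ev_mul _ _ hnx, ev_inv_ev n x.2, ev_mul _ _ x.2,
    ev_inv_ev n (ev_mem y x.2)]

/-- Descent, in good position. -/
theorem descend_core (hS : IsPGroup p S) (hF : F.IsSaturated p) (hAc : TCentric F T A)
    (hAf : F.IsFullyCentralized A) (hAK : A ≤ K) (hK : K ≤ normalizerIn T A) (hKn : F.IsFullyNormalized K)
    {α : MulAut K} (hα : JMap D K (ev α)) (hαp : (orderOf α).Coprime p) (hαA : ∀ x ∈ A, ev α x ∈ A) :
    JMap D A (ev α) := by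
  have hA := hAc.le
  have hKT : K ≤ T := hK.trans normalizerIn_le
  have hKS := hKT.trans D.le_S'
  have hAS := hA.trans D.le_S'
  have hWS := W_le (S := S) hKS
  have hKc : TCentric F T K := hAc.of_le hAK hKT
  have hKf := isFullyCentralized_of_fullyNormalized hS hF hKn
  set C := centralizerIn S A with hC
  have hCN : C ≤ normalizerIn S K := cen_normalizes D.sc hAc hAK hK
  obtain ⟨a₀, ha₀, ha₀e⟩ := (jMap_iff D hS hF hKT hKn).mp hα
  obtain ⟨a, ha, hap, hae⟩ := exists_coprime_lift hWS le_W ha₀ (fun x hx => (ha₀e x hx).symm) hαp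
  have hast := jW_le_stabW D hKT ha
  have haA : ∀ x ∈ A, ev a x ∈ A := fun x hx => by rw [hae x (hAK hx)]; exact hαA x hx
  have haAim : ev a '' A = (A : Set Ω) :=
    ((mapFn_ev hWS hast.1).mono (hAK.trans le_W)).image_eq_of_maps hAS haA le_rfl
  -- the fixers of `A`
  let Y : Subgroup (MulAut (W S K)) :=
    { carrier := {y | y ∈ jW D hKT ∧ ∀ x ∈ A, ev y x = x}
      one_mem' := ⟨Subgroup.one_mem _, fun x hx => ev_one (le_W (hAK hx))⟩
      mul_mem' := fun {y z} hy hz => ⟨Subgroup.mul_mem _ hy.1 hz.1, fun x hx => by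
        rw [ev_mul _ _ (le_W (hAK hx)), hz.2 x hx, hy.2 x hx]⟩
      inv_mem' := fun {y} hy => ⟨Subgroup.inv_mem _ hy.1, fun x hx => by
        conv_lhs => rw [← hy.2 x hx]
        exact ev_inv_ev y (le_W (hAK hx))⟩ }
  have hYp : IsPGroup p Y := by
    rintro ⟨y, hy, hyA⟩
    have := finite_of_le hAS
    obtain ⟨l, hl⟩ := IsPGroup.iff_card.mp (hS.to_le hAS)
    refine ⟨l, Subtype.ext (eq_one_of_fix D hS hF hKT hKc hKn (Subgroup.pow_mem _ hy _) fun k hk => ?_)⟩
    have hkW : k ∈ W S K := le_W hk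
    have hyk : ev y k ∈ K := stabW_mem (jW_le_stabW D hKT hy) hk
    have hz : k⁻¹ * ev y k ∈ A := by
      refine TCentric.centralizer_le D.le_S' hAc (mem_centralizerIn.mpr
        ⟨hKT (K.mul_mem (K.inv_mem hk) hyk), fun x hx => ?_⟩)
      have hx' := conj_mem_of_normalizer (hK hk).2 hx
      have hym := mapFn_ev (F := F) hWS (jW_le_stabW D hKT hy).1
      have h1 : ev y k * x * (ev y k)⁻¹ = k * x * k⁻¹ := by
        conv_lhs => rw [← hyA x hx]
        rw [← hym.map_conj hkW (le_W (hAK hx)), hyA _ hx']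
      calc x * (k⁻¹ * ev y k) = k⁻¹ * (k * x * k⁻¹) * ev y k := by group
        _ = k⁻¹ * ev y k * x := by rw [← h1]; group
    show ev (y ^ p ^ l) k = k
    rw [ev_pow_fixed y hkW (le_W (hAK hz)) (mul_inv_cancel_left k _).symm (hyA _ hz)]
    have h2 : (⟨_, hz⟩ : A) ^ p ^ l = 1 := by rw [← hl]; exact pow_card_eq_one'
    rw [show (k⁻¹ * ev y k) ^ p ^ l = 1 from congrArg Subtype.val h2, mul_one]
  have hcfix : ∀ c ∈ autInducedBy C (W S K), c ∈ stabW F K ∧ ∀ x ∈ A, ev c x = x := fun c hc => by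
    refine ⟨autS_le_stabW hKS (autInducedBy_mono hCN _ hc), fun x hx => ?_⟩
    obtain ⟨d, hd, hde⟩ := mem_autInducedBy.mp hc
    rw [ev_conj_of hde (le_W (hAK hx)), ← (mem_centralizerIn.mp hd).2 x hx, mul_inv_cancel_right]
  have hYC : Y ≤ autInducedBy C (W S K) := fixer_le_autC D hS hF hAc hAf hAK hK hKn
    (fun y hy => jW_le_stabW D hKT hy.1) (fun y hy => hy.2) hYp fun c hc y hy => by
      obtain ⟨hcs, hcA⟩ := hcfix c hc
      refine ⟨conj_jW D hS hF hKT hKn hcs hy.1, fun x hx => ?_⟩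
      have hxW : x ∈ W S K := le_W (hAK hx)
      have hci : ev c⁻¹ x = x := by conv_lhs => rw [← hcA x hx, ev_inv_ev c hxW]
      rw [ev_mul _ _ hxW, hci, ev_mul _ _ hxW, hy.2 x hx, hcA x hx]
  have hcomm : ∀ c ∈ autInducedBy C (W S K),
      a * c * a⁻¹ * c⁻¹ ∈ Y ∧ a * c * a⁻¹ ∈ autInducedBy C (W S K) := fun c hc => by
    have h1 : a * c * a⁻¹ * c⁻¹ ∈ Y := by
      refine ⟨?_, fun x hx => ?_⟩
      · rw [show a * c * a⁻¹ * c⁻¹ = a * (c * a⁻¹ * c⁻¹) by group]
        exact Subgroup.mul_mem _ ha (conj_jW D hS hF hKT hKn (hcfix c hc).1 (Subgroup.inv_mem _ ha))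
      · have hxW : x ∈ W S K := le_W (hAK hx)
        obtain ⟨y, hy, rfl⟩ := exists_of_image haAim hx
        have hyW : y ∈ W S K := le_W (hAK hy)
        have hci : ev c⁻¹ (ev a y) = ev a y := by
          conv_lhs => rw [← (hcfix c hc).2 _ hx, ev_inv_ev c hxW]
        rw [ev_mul _ _ hxW, hci, ev_mul _ _ hxW, ev_inv_ev a hyW, ev_mul _ _ hyW, (hcfix c hc).2 y hy]
    refine ⟨h1, ?_⟩
    have := Subgroup.mul_mem _ (hYC h1) hc
    rwa [inv_mul_cancel_right] at this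
  -- the extension to `K C`
  have hWf : F.IsFullyCentralized (W S K) := isFullyCentralized_of_centric (isCentric_W hKf)
  obtain ⟨G, hG, hGe⟩ := exists_extension_sup (receptive_of_fullyCentralized hS hF hWf)
    (mapFn_ev hWS hast.1) (ev_image a) (fun c (hc : c ∈ C) => ⟨hc.1, normalizer_W hKS (hCN hc)⟩) fun c hc => by
      obtain ⟨κ, hκ, hκe⟩ := exists_autInducedBy (K := C) hc (normalizer_W hKS (hCN hc))
      obtain ⟨s, hs, hse⟩ := mem_autInducedBy.mp (hcomm κ hκ).2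
      refine ⟨s, hs.1, fun x hx => ?_⟩
      rw [← ev_conj_of hse (ev_mem a hx), ev_mul _ _ (ev_mem a hx), ev_inv_ev a hx, ev_mul _ _ hx,
        ev_conj_of hκe hx]
  set H := W S K ⊔ C with hHdef
  have hH : H ≤ S := sup_le hWS centralizerIn_le
  have hWH : W S K ≤ H := le_sup_left
  have hCH : C ≤ H := le_sup_right
  have hKH : K ≤ H := le_W.trans hWH
  have hWAH : W S A ≤ H := sup_le (hAK.trans hKH) hCH
  obtain ⟨b₀, hb₀, hb₀e⟩ := hG.exists_aut (hG.image_eq_of_maps hH (hG.maps_sup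
    (fun x hx => hWH (by rw [hGe x hx]; exact ev_mem a hx)) fun c hc =>
      hCH (hG.mem_centralizerIn (hAK.trans hKH) ((Set.image_congr fun x hx => hGe x (le_W (hAK hx))).trans haAim)
        (hCH hc) hc)) le_rfl)
  have hresW : ∀ x ∈ W S K, ev b₀ x = ev a x := fun x hx => by rw [ev_coe b₀ (hWH hx), hb₀e, hGe x hx]
  obtain ⟨b, hbF, hbp, hbW⟩ := exists_coprime_lift hH hWH hb₀ hresW hap
  have hbm : MapFn F (W S A) (ev b) := (mapFn_ev hH hbF).mono hWAH
  have hbA : ∀ x ∈ A, ev b x ∈ A := fun x hx => by rw [hbW x (le_W (hAK hx))]; exact haA x hx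
  have hbC : ∀ c ∈ C, ev b c ∈ C := mapFn_cen hAS hbm hbA
  have hZ : ∀ z ∈ A, z ∈ C → ev b z ∈ A ∧ ev b z ∈ C ∧ ∀ c ∈ C, z * c = c * z := fun z hz hzC =>
    ⟨hbA z hz, hbC z hzC, fun c hc => (mem_centralizerIn.mp hc).2 z hz⟩
  -- the displacement of `C`
  have hdisp : ∀ c ∈ C, c⁻¹ * ev b c ∈ A := by
    intro c hc
    set d := c⁻¹ * ev b c with hd
    have hdC : d ∈ C := C.mul_mem (C.inv_mem hc) (hbC c hc)
    obtain ⟨κ, hκ, hκe⟩ := exists_autInducedBy (K := C) hc (normalizer_W hKS (hCN hc))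
    have hstep : κ⁻¹ * (a * κ * a⁻¹) ∈ auT S T K := by
      refine (jW_inf D hS hF hKT hKc hKn).le ⟨autInducedBy_mono hCN _
        (Subgroup.mul_mem _ (Subgroup.inv_mem _ hκ) (hcomm κ hκ).2), ?_⟩
      have := conj_jW D hS hF hKT hKn (hcfix κ⁻¹ (Subgroup.inv_mem _ hκ)).1 (hcomm κ hκ).1.1
      rwa [show κ⁻¹ * (a * κ * a⁻¹ * κ⁻¹) * κ⁻¹⁻¹ = κ⁻¹ * (a * κ * a⁻¹) by group] at this
    obtain ⟨t, ht, hte⟩ := mem_autInducedBy.mp hstep
    have hz : t⁻¹ * d ∈ centralizerIn S (W S K) := by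
      refine mem_centralizerIn.mpr ⟨S.mul_mem (S.inv_mem (D.le_S' ht.1)) hdC.1, fun y hy => ?_⟩
      obtain ⟨x, hx, rfl⟩ := exists_of_image (ev_image a) hy
      have hcx : c * x * c⁻¹ ∈ W S K := conj_mem_of_normalizer (normalizer_W hKS (hCN hc)) hx
      have hax : ev a x ∈ W S K := ev_mem a hx
      have h1 : ev b c * ev a x * (ev b c)⁻¹ = ev a (c * x * c⁻¹) := by
        rw [← hbW x hx, ← (mapFn_ev hH hbF).map_conj (hCH hc) (hWH hx), hbW _ hcx]
      have h3 : c * ev (κ⁻¹ * (a * κ * a⁻¹)) (ev a x) * c⁻¹ = ev a (c * x * c⁻¹) := by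
        rw [← ev_conj_of hκe (ev_mem _ hax), ← ev_mul _ _ hax, mul_inv_cancel_left, ev_mul _ _ hax,
          ev_inv_ev a hx, ev_mul _ _ hx, ev_conj_of hκe hx]
      have h2 : d * ev a x * d⁻¹ = t * ev a x * t⁻¹ := by
        rw [← ev_conj_of hte hax]
        calc d * ev a x * d⁻¹ = c⁻¹ * (ev b c * ev a x * (ev b c)⁻¹) * c := by rw [hd]; group
          _ = c⁻¹ * (c * ev (κ⁻¹ * (a * κ * a⁻¹)) (ev a x) * c⁻¹) * c := by rw [h1, h3]
          _ = _ := by group
      calc ev a x * (t⁻¹ * d) = t⁻¹ * (t * ev a x * t⁻¹) * d := by group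
        _ = t⁻¹ * d * ev a x := by rw [← h2]; group
    set z := t⁻¹ * d with hzdef
    have hzW : z ∈ centralizerIn S K := ⟨hz.1, Subgroup.centralizer_le (SetLike.coe_subset_coe.mpr le_W) hz.2⟩
    have hzC : z ∈ C := ⟨hz.1, Subgroup.centralizer_le (SetLike.coe_subset_coe.mpr (hAK.trans le_W)) hz.2⟩
    have htC : t ∈ C := by
      have := C.mul_mem hdC (C.inv_mem hzC)
      rwa [hzdef, mul_inv_rev, inv_inv, ← mul_assoc, mul_inv_cancel, one_mul] at this
    have htA : t ∈ A := TCentric.centralizer_le D.le_S' hAc ⟨ht.1, htC.2⟩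
    have hbz : z⁻¹ * ev b z ∈ A := by
      refine TCentric.centralizer_le D.le_S' hAc ⟨?_, (C.mul_mem (C.inv_mem hzC) (hbC z hzC)).2⟩
      rw [hbW z (cen_le_W hzW)]
      exact (extFn_ev D (jW_le_extGrp D hKT ha)).2.2.1 z hzW
    obtain ⟨hbtA, hbtC, htcomm⟩ := hZ t htA htC
    have hbm' := mapFn_ev (F := F) hH hbF
    set w := d⁻¹ * ev b d with hw
    have hwA : w ∈ A ∧ w ∈ C := by
      refine ⟨?_, C.mul_mem (C.inv_mem hdC) (hbC d hdC)⟩
      have hd' : d = t * z := (mul_inv_cancel_left t d).symm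
      have e : w = (t⁻¹ * ev b t) * (z⁻¹ * ev b z) := by
        have hu : z⁻¹ * (t⁻¹ * ev b t) = (t⁻¹ * ev b t) * z⁻¹ :=
          ((hZ _ (A.mul_mem (A.inv_mem htA) hbtA) (C.mul_mem (C.inv_mem htC) hbtC)).2.2 z⁻¹ (C.inv_mem hzC)).symm
        rw [hw, hd', hbm'.map_mul (hCH htC) (hCH hzC)]
        calc (t * z)⁻¹ * (ev b t * ev b z) = z⁻¹ * (t⁻¹ * ev b t) * ev b z := by group
          _ = _ := by rw [hu]; group
      rw [e]
      exact A.mul_mem (A.mul_mem (A.inv_mem htA) hbtA) hbz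
    have hiter : ∀ j : ℕ, ∃ v, v ∈ A ∧ v ∈ C ∧ ev (b ^ j) c = c * d ^ j * v := by
      intro j
      induction j with
      | zero => exact ⟨1, A.one_mem, C.one_mem, by rw [pow_zero, ev_one (hCH hc)]; simp⟩
      | succ j ih =>
        obtain ⟨v, hvA, hvC, hv⟩ := ih
        obtain ⟨hbvA, hbvC, -⟩ := hZ v hvA hvC
        refine ⟨w ^ j * ev b v, A.mul_mem (A.pow_mem hwA.1 j) hbvA, C.mul_mem (C.pow_mem hwA.2 j) hbvC, ?_⟩
        rw [pow_succ', ev_mul _ _ (hCH hc), hv, hbm'.map_mul (hCH (C.mul_mem hc (C.pow_mem hdC j))) (hCH hvC),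
          hbm'.map_mul (hCH hc) (hCH (C.pow_mem hdC j)), hbm'.map_pow (hCH hdC),
          show ev b d = d * w by rw [hw, mul_inv_cancel_left],
          show ev b c = c * d by rw [hd, mul_inv_cancel_left],
          Commute.mul_pow ((hZ w hwA.1 hwA.2).2.2 d hdC).symm, pow_succ']
        simp [mul_assoc]
    obtain ⟨v, hvA, -, hv⟩ := hiter (orderOf b)
    rw [pow_orderOf_eq_one, ev_one (hCH hc)] at hv
    have hdr : d ^ orderOf b ∈ A := by
      have : d ^ orderOf b = v⁻¹ := by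
        refine eq_inv_of_mul_eq_one_left ?_
        calc d ^ orderOf b * v = c⁻¹ * (c * d ^ orderOf b * v) := by group
          _ = 1 := by rw [← hv, inv_mul_cancel]
      rw [this]; exact A.inv_mem hvA
    have := finite_of_le hH
    obtain ⟨k, hk⟩ := hS ⟨d, hdC.1⟩
    have hk' : d ^ p ^ k = 1 := congrArg Subtype.val hk
    refine mem_of_pow_mem_of_coprime hdr hk' hbp
  have hext : ExtFn D A (ev b) := by
    refine ⟨hbm, hbA, fun c hc => hA (hdisp c hc), fun i => ?_⟩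
    have hle : W (D.Ti i) K ⊔ centralizerIn (D.Ti i) A ≤ H :=
      sup_le ((D.Wi_le i).trans hWH) fun c hc => hCH ⟨D.leS i hc.1, hc.2⟩
    have haK := extFn_ev D (jW_le_extGrp D hKT ha)
    refine (mapFn_member D hS hF hKT hKf i (Hi := W (D.Ti i) K ⊔ centralizerIn (D.Ti i) A) le_sup_left
      (sup_le (sup_le (le_normalizerIn (hKT.trans (D.le i))) centralizerIn_le_normalizerIn) (cenTi_le D hAc hAK hK i))
      hH hle hbF hbp ?_ (fun x hx => by rw [hbW x (le_W hx)]; exact stabW_mem hast hx)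
      ((haK.2.2.2 i).congr fun x hx => (hbW x (D.Wi_le i hx)).symm)).mono
      (sup_le ((hAK.trans le_W).trans le_sup_left) le_sup_right)
    exact ((mapFn_ev hH hbF).mono hle).maps_sup
      (fun x hx => Subgroup.mem_sup_left (by
        rw [hbW x (D.Wi_le i hx)]; exact mem_of_image (mapFn_Wi D hKT i haK.1 haK.2.1) hx))
      fun c hc => Subgroup.mem_sup_right (mapFn_cenTi D hAS i hbm hbA c hc)
  exact (jMap_of_extFn D hS hF hA hAf hH hWAH hbF hbp hext).congr D fun x hx => by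
    rw [hbW x (le_W (hAK hx)), hae x (hAK hx)]

/-- Descent: a `JMap` of order prime to `p` stabilizing a centric subgroup restricts to a `JMap`. -/
theorem descend (hS : IsPGroup p S) (hF : F.IsSaturated p) (hAc : TCentric F T A) (hAK : A ≤ K)
    (hK : K ≤ normalizerIn T A) {α : MulAut K} (hα : JMap D K (ev α)) (hαp : (orderOf α).Coprime p)
    (hαA : ∀ x ∈ A, ev α x ∈ A) : JMap D A (ev α) := by
  have hKT : K ≤ T := hK.trans normalizerIn_le
  have hKS := hKT.trans D.le_S'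
  have hαF : α ∈ F.autGroup K := (mem_autGroup_iff_mapFn hKS).mpr ⟨ev α, hα.1, fun x => ev_val α x⟩
  -- `A` into fully centralized position
  obtain ⟨A₁, f, hA₁n, hf, hfA, hfN⟩ := exists_fullyNormalized_mapFn hS hF (hAc.le.trans D.le_S')
  have hfK : MapFn F K f := hf.mono (hK.trans (inf_le_inf_right _ D.le_S'))
  obtain ⟨K₁, -, hfK₁⟩ := hfK.exists_image
  obtain ⟨α₁, hα₁F, hα₁o, hα₁e⟩ := exists_transport_aut hfK hfK₁ hαF
  have hA₁c := tcentric_map hAc D.sc (hfK.mono hAK) hfA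
  have hA₁f := isFullyCentralized_of_fullyNormalized hS hF hA₁n
  have hA₁K₁ : A₁ ≤ K₁ := fun y hy => by
    obtain ⟨x, hx, rfl⟩ := exists_of_image hfA hy
    exact mem_of_image hfK₁ (hAK hx)
  have hK₁N : K₁ ≤ normalizerIn T A₁ := fun y hy => by
    obtain ⟨x, hx, rfl⟩ := exists_of_image hfK₁ hy
    exact ⟨mapFn_mem D.sc hfK hx (hKT hx), (hfK.mem_normalizerIn hAK hfA hx (hK hx).2).2⟩
  have hα₁j : JMap D K₁ (ev α₁) := hα.transport D hfK hfK₁ fun x hx => (hα₁e x hx).symm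
  -- `K` into fully normalized position
  obtain ⟨K₂, θ, hK₂n, hθ, hθK, -⟩ := exists_fullyNormalized_mapFn hS hF ((hK₁N.trans normalizerIn_le).trans D.le_S')
  have hθH : MapFn F (K₁ ⊔ centralizerIn S A₁) θ := hθ.mono
    (sup_le (le_normalizerIn ((hK₁N.trans normalizerIn_le).trans D.le_S')) (cen_normalizes D.sc hA₁c hA₁K₁ hK₁N))
  have hθ₁ : MapFn F K₁ θ := hθH.mono le_sup_left
  obtain ⟨A₂, -, hθA⟩ := (hθ₁.mono hA₁K₁).exists_image
  obtain ⟨hA₂f, -⟩ := move_sup hA₁f hA₁K₁ hθH hθA hθK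
  obtain ⟨α₂, -, hα₂o, hα₂e⟩ := exists_transport_aut hθ₁ hθK hα₁F
  have h := descend_core D hS hF (tcentric_map hA₁c D.sc (hθ₁.mono hA₁K₁) hθA) hA₂f
    (fun y hy => by
      obtain ⟨x, hx, rfl⟩ := exists_of_image hθA hy
      exact mem_of_image hθK (hA₁K₁ hx))
    (fun y hy => by
      obtain ⟨x, hx, rfl⟩ := exists_of_image hθK hy
      exact ⟨mapFn_mem D.sc hθ₁ hx (hK₁N hx).1, (hθ₁.mem_normalizerIn hA₁K₁ hθA hx (hK₁N hx).2).2⟩)
    hK₂n (hα₁j.transport D hθ₁ hθK fun x hx => (hα₂e x hx).symm) (by rw [hα₂o, hα₁o]; exact hαp)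
    (fun y hy => by
      obtain ⟨x, hx, rfl⟩ := exists_of_image hθA hy
      obtain ⟨z, hz, rfl⟩ := exists_of_image hfA hx
      rw [← hα₂e _ (hA₁K₁ hx), ← hα₁e z (hAK hz)]
      exact mem_of_image hθA (mem_of_image hfA (hαA z hz)))
  obtain ⟨k, hk, hkr, hk₁, -⟩ := (hθ₁.mono hA₁K₁).exists_inv hθA
  obtain ⟨l, hl, hlr, hl₁, -⟩ := (hfK.mono hAK).exists_inv hfA
  have hα₁A : ∀ x ∈ A₁, ev α₁ x ∈ A₁ := fun x hx => by
    obtain ⟨z, hz, rfl⟩ := exists_of_image hfA hx
    rw [← hα₁e z (hAK hz)]; exact mem_of_image hfA (hαA z hz)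
  refine (h.transport D hk hkr (g' := ev α₁) fun y hy => ?_).transport D hl hlr fun x hx => ?_
  · obtain ⟨x, hx, rfl⟩ := exists_of_image hθA hy
    rw [hk₁ x hx, ← hα₂e x (hA₁K₁ hx), hk₁ _ (hα₁A x hx)]
  · obtain ⟨z, hz, rfl⟩ := exists_of_image hfA hx
    rw [hl₁ z hz, ← hα₁e z (hAK hz), hl₁ _ (hαA z hz)]

end CfsgLib.Meet
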