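import Cfsg.Agent.Lib.Fusion.MeetSaturated

/-!
# The meet of invariant subsystems, VII: normality and maximality

The generated system is normal in the whole system and in every member, and contains every subsystem over
`T` that is normal in all of them.
-/

set_option autoImplicit false

namespace CfsgLib.Meet

open Cfsg Cfsg.FusionSystem CfsgLib.Fusion CfsgLib.FusionNormal CfsgLib.Fusion.PPrimeRes

variable {Ω : Type*} [Group Ω] {S : Subgroup Ω} {F : FusionSystem S} {p : ℕ} {T : Subgroup Ω}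
variable {P Q R : Subgroup Ω} [Finite S] [Fact p.Prime]

omit [Fact p.Prime] in
theorem tcentric_top (hT : F.StronglyClosed T) : TCentric F T T := by
  have := finite_of_le hT.1
  refine ⟨le_rfl, fun V hV => ?_⟩
  obtain ⟨φ, hφ, rfl⟩ := hV
  have hle : φ.range ≤ T := by rintro _ ⟨x, rfl⟩; exact hT.2 T le_rfl φ hφ x
  rw [eq_of_le_of_card_le hle (card_range hφ).ge]
  exact centralizerIn_le

omit [Fact p.Prime] in
theorem fullyNormalized_top (hT : F.StronglyClosed T) : F.IsFullyNormalized T := by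
  have := finite_of_le hT.1
  refine ⟨hT.1, fun V hV => ?_⟩
  obtain ⟨φ, hφ, rfl⟩ := hV
  have hle : φ.range ≤ T := by rintro _ ⟨x, rfl⟩; exact hT.2 T le_rfl φ hφ x
  rw [eq_of_le_of_card_le hle (card_range hφ).ge]

variable (D : Datum F p T) (hS : IsPGroup p S) (hF : F.IsSaturated p)

include hS hF in
/-- An automorphism of `T` in the generated system, as an element of `jW`. -/
theorem exists_top_jW {α : MulAut T} (hα : α ∈ (jSys D).autGroup T) :
    ∃ a ∈ jW D (le_refl T), ∀ x ∈ T, ev α x = ev a x := by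
  have hA := (jSys_main D hS hF).2 T (tcentric_top D.sc) (ev α) (mapFn_ev le_rfl hα) (ev_image α)
  exact (jMap_iff D hS hF le_rfl (fullyNormalized_top D.sc)).mp hA

include hS hF in
theorem jSys_isNormalIn : (jSys D).IsNormalIn F p := by
  refine ⟨⟨(jSys_main D hS hF).1, hF, jSys_invariant_F D hS hF⟩, fun α hα => ?_⟩
  obtain ⟨a, ha, hae⟩ := exists_top_jW D hS hF hα
  have hg := extFn_ev D (jW_le_extGrp D le_rfl ha)
  refine ⟨a, extGrp_le D le_rfl (jW_le_extGrp D le_rfl ha), fun x => ?_, fun c hc => ⟨?_, ?_⟩⟩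
  · exact ((ev_val a (Subgroup.inclusion le_sup_left x)).symm.trans (hae x x.2).symm).trans (ev_val α x)
  · exact ev_val a c ▸ hg.2.2.1 c hc
  · exact ev_val a c ▸ Subgroup.mul_mem _ (Subgroup.inv_mem _ hc.2) (mapFn_cen D.le_S' hg.1 hg.2.1 c hc).2

include hS hF in
theorem jSys_isNormalIn_member (i : D.ι) : (jSys D).IsNormalIn (D.E i) p := by
  have := finite_of_le (D.leS i)
  refine ⟨⟨(jSys_main D hS hF).1, D.sat i, jSys_invariant_member D hS hF i⟩, fun α hα => ?_⟩
  obtain ⟨a, ha, hae⟩ := exists_top_jW D hS hF hα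
  have hg := extFn_ev D (jW_le_extGrp D le_rfl ha)
  obtain ⟨β, hβ, hβe⟩ := (hg.2.2.2 i).exists_aut (mapFn_Wi D le_rfl i hg.1 hg.2.1)
  refine ⟨β, hβ, fun x => ?_, fun c hc => ⟨?_, ?_⟩⟩
  · rw [← ev_val α x, hae x x.2]; exact hβe _
  · exact (hβe c).symm ▸ hg.2.2.1 c ⟨D.leS i hc.1, hc.2⟩
  · exact (hβe c).symm ▸ Subgroup.mul_mem _ (Subgroup.inv_mem _ hc.2)
      (mapFn_cenTi D D.le_S' i hg.1 hg.2.1 c hc).2

include hS hF in
/-- A subgroup of `T` fully normalized in `F` is so in each member. -/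
theorem isFullyNormalized_member (hP : P ≤ T) (hPn : F.IsFullyNormalized P) (i : D.ι) :
    (D.E i).IsFullyNormalized P := by
  refine ⟨hP.trans (D.le i), fun V hV => ?_⟩
  obtain ⟨χ, hχ, hχV⟩ := isConj_iff.mp hV
  obtain ⟨h, hh, hhV, hhN⟩ := exists_normalizer_mapFn hS hF hPn
    (isConj_symm ((mapFn_of_sub (D.inv i).1 hχ).isConj hχV))
  have hsub : normalizerIn (D.Ti i) V ≤ normalizerIn S V := inf_le_inf_right _ (D.leS i)
  obtain ⟨φ, hφ, hφe⟩ := hh.mono hsub
  refine card_le_of_map hφ (normalizerIn_le.trans (D.leS i)) fun t => ?_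
  rw [hφe]
  exact ⟨mapFn_mem (D.inv i).2.1 hh (hsub t.2) t.2.1, (hhN t (hsub t.2)).2⟩

omit [Fact p.Prime] in
/-- A single normal subsystem as a family. -/
def single {D' : FusionSystem T} (h : D'.IsNormalIn F p) : Datum F p T where
  ι := Unit
  nonempty := ⟨()⟩
  Ti _ := T
  E _ := D'
  sat _ := h.1.1
  inv _ := h.1.2.2
  le _ := le_rfl
  glb _ hx := hx ()
  sc := h.1.2.2.2.1

include hS hF in
/-- A normal subsystem over `T` is the generated system of itself alone. -/
theorem normal_le_single {D' : FusionSystem T} (h : D'.IsNormalIn F p) {f : Ω → Ω} (hf : MapFn D' P f) :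
    MapFn (jSys (single h)) P f := by
  have hT := h.1.2.2.2.1
  have hTS := hT.1
  have := finite_of_le hTS
  have hTp := hS.to_le hTS
  have := finite_mulAut hTS
  have hWS := W_le (S := S) hTS
  have := finite_mulAut hWS
  have hTn := fullyNormalized_top hT
  have hTc := tcentric_top hT
  set D₀ := single h with hD₀
  have hPT := hf.le_S
  obtain ⟨a, j, ha, har, hj, he⟩ := split_member D₀ hS hF () hf
  obtain ⟨α, hα, hαe⟩ := ha.exists_aut har
  have hsyl := sylIn_of_fullyAutomized (F := D')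
    ((saturated_iff_top_and_receptive hTp).mp h.1.1).1
  obtain ⟨o, ho, q, hq, hoq⟩ := hsyl.exists_opr_mul (K := D'.autGroup T) hα
  let K : Subgroup (MulAut T) := jAut D₀ hTS
  have hqK : q ∈ K := by
    obtain ⟨t, ht, hte⟩ := mem_autInducedBy.mp hq
    exact (jMap_conj D₀ hS hF le_rfl ⟨ht, mem_normalizer_of_aut hte⟩).congr D₀ fun x hx => (ev_conj_of hte hx).symm
  have hoK : o ∈ K := by
    refine opr_induction K (fun g hg hgp => ?_) ho
    obtain ⟨b, hb, -, hbT, hbC⟩ := FusionTransport.mapFn_extension h (mapFn_ev le_rfl hg) (ev_image g)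
    have hbm : ExtFn D₀ T b := by
      refine ⟨hb, fun x hx => by rw [hbT x hx]; exact ev_mem g hx, fun c hc => (hbC c hc).1, fun i => ?_⟩
      have hle : W T T ≤ T := W_le le_rfl
      exact ((mapFn_ev (F := D') le_rfl hg).mono hle).congr fun x hx => (hbT x (hle hx)).symm
    obtain ⟨β, hβ, hβe⟩ := (show MapFn F (W S T) b from hb).exists_aut (mapFn_W hTS hb hbm.2.1)
    have hβm : β ∈ extGrp D₀ (le_refl T) := mem_extGrp_of_ev D₀ le_rfl hbm fun x hx => by rw [ev_coe β hx, hβe]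
    obtain ⟨c, hc, hcp, hce⟩ := exists_coprime_lift hWS le_W hβm
      (fun x hx => by rw [ev_coe β (le_W hx), hβe, hbT x hx] : ∀ x ∈ T, ev β x = ev g x) hgp
    exact (jMap_iff D₀ hS hF le_rfl hTn).mpr ⟨c, opr_le_jW D₀ le_rfl (mem_opr hc hcp), fun x hx => (hce x hx).symm⟩
  have hαK : JMap D₀ T (ev α) := by
    have := K.mul_mem hoK hqK
    rwa [← hoq] at this
  rw [inf_eq_left.mpr hPT] at hj he
  refine ((hj.comp (hαK.mapFn D₀ hTc) fun x hx => hj.mem_S hx)).congr fun x hx => ?_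
  show ev α (j x) = f x
  rw [ev_coe α (hj.mem_S hx), hαe, he x hx]

include hS hF in
/-- Controlled maps for a normal subsystem are controlled for every family in whose members it is normal. -/
theorem extFn_of_single {D' : FusionSystem T} (h : D'.IsNormalIn F p) (hi : ∀ i, D'.IsNormalIn (D.E i) p)
    (hP : P ≤ T) (hPc : TCentric F T P) (hPn : F.IsFullyNormalized P) {a : MulAut (W S P)}
    (ha : a ∈ extGrp (single h) hP) (hap : (orderOf a).Coprime p) : a ∈ extGrp D hP := by
  have hPS := hPn.1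
  have hWS := W_le (S := S) hPS
  have hg := extFn_ev (single h) ha
  refine mem_extGrp_of_ev D hP (g := ev a) ⟨hg.1, hg.2.1, hg.2.2.1, fun i => ?_⟩ fun _ _ => rfl
  have hU := D.leS i
  have := finite_of_le hU
  have hUp := hS.to_le hU
  have hPU := hP.trans (D.le i)
  have hWiU := D.Wi_le_Ti hP i
  set Di := single (hi i) with hDi
  have hPci : TCentric (D.E i) T P := ⟨hP, fun V hV => hPc.2 V (by
    obtain ⟨χ, hχ, hχV⟩ := isConj_iff.mp hV
    exact (mapFn_of_sub (D.inv i).1 hχ).isConj hχV)⟩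
  have hPni := isFullyNormalized_member D hS hF hP hPn i
  have hgD : MapFn D' P (ev a) := (hg.2.2.2 ()).mono le_W
  have hgim : ev a '' P = (P : Set Ω) := mapFn_image hPS hg.1 hg.2.1
  have hj : JMap Di P (ev a) := (jSys_main Di hUp (D.sat i)).2 P hPci _
    (normal_le_single hUp (D.sat i) (hi i) hgD) hgim
  obtain ⟨e, he, hee⟩ := (jMap_iff Di hUp (D.sat i) hP hPni).mp hj
  have hem := extFn_ev Di (jW_le_extGrp Di hP he)
  obtain ⟨β, hβ, hβe, hβd⟩ := exists_restrict_aut hWS (D.Wi_le i)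
    ((mem_autGroup_iff_mapFn hWS).mpr ⟨ev a, hg.1, fun x => ev_val a x⟩)
    (fun x hx => mem_of_image (mapFn_Wi D hP i hg.1 hg.2.1) hx)
  have hPW : P ≤ W (D.Ti i) P := le_W
  have hagree : ∀ x ∈ P, ev e x = ev β x := fun x hx => by rw [← hee x hx, ← hβe x (hPW hx)]
  have hmov : ∀ y ∈ W (D.Ti i) P, (ev β y)⁻¹ * ev e y ∈ P := by
    intro y hy
    have hle : centralizerIn (D.Ti i) P ≤ Subgroup.normalizer (P : Set Ω) := fun c hc =>
      Subgroup.centralizer_le_normalizer _ hc.2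
    have hy' := hy
    rw [W, ← SetLike.mem_coe, Subgroup.coe_mul_of_right_le_normalizer_left P _ hle] at hy'
    obtain ⟨x, hx, c, hc, rfl⟩ := hy'
    have hcS : c ∈ centralizerIn S P := ⟨hU hc.1, hc.2⟩
    have hcW : c ∈ W (D.Ti i) P := cen_le_W hc
    have hm1 : c⁻¹ * ev β c ∈ P := by
      rw [← hβe c hcW]
      exact TCentric.centralizer_le D.le_S' hPc ⟨hg.2.2.1 c hcS,
        (Subgroup.mul_mem _ (Subgroup.inv_mem _ hcS) (mapFn_cen hPS hg.1 hg.2.1 c hcS)).2⟩
    have hm2 : c⁻¹ * ev e c ∈ P :=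
      TCentric.centralizer_le D.le_S' hPc ⟨hem.2.2.1 c hc,
        (Subgroup.mul_mem _ (Subgroup.inv_mem _ hc) (mapFn_cen hPU hem.1 hem.2.1 c hc)).2⟩
    show (ev β (x * c))⁻¹ * ev e (x * c) ∈ P
    rw [(mapFn_ev (F := F) (hWiU.trans hU) hβ).map_mul (hPW hx) hcW, hem.1.map_mul (hPW hx) hcW, hagree x hx,
      show (ev β x * ev β c)⁻¹ * (ev β x * ev e c) = (c⁻¹ * ev β c)⁻¹ * (c⁻¹ * ev e c) by group]
    exact P.mul_mem (P.inv_mem hm1) hm2
  have hmem := mem_autGroup_of_agree hS (D.inv i) hPW hWiU hβ (hap.coprime_dvd_left hβd)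
    (extGrp_le Di hP (jW_le_extGrp Di hP he)) hagree
    (fun x hx => by rw [← hβe x (hPW hx)]; exact hg.2.1 x hx) hmov
  exact (mapFn_ev hWiU hmem).congr fun x hx => (hβe x hx).symm

include hS hF in
/-- The generated system contains every subsystem over `T` normal in the whole and in every member. -/
theorem normal_le_jSys {D' : FusionSystem T} (h : D'.IsNormalIn F p) (hi : ∀ i, D'.IsNormalIn (D.E i) p) :
    D'.IsSubsystemOf (jSys D) := by
  intro P
  refine hom_subset_iff_mapFn.mpr fun f hf => ?_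
  refine jSys_induction (single h) (C := fun P f => MapFn (jSys D) P f) (fun h e => h.congr e)
    (fun hP hg => mapFn_conj hP hg) (fun _ _ hf _ _ hg hm => hf.comp hg hm)
    (fun _ _ hf hr hg hinv => by
      obtain ⟨k, hk, hkr, hk₁, -⟩ := hf.exists_inv hr
      refine hk.congr fun y hy => ?_
      obtain ⟨x, hx, rfl⟩ := exists_of_image hr hy
      rw [hk₁ x hx, hinv x hx]) (fun R g hR hg => JMap.mapFn D ?_ hR) (normal_le_single hS hF h hf)
  -- move to a fully normalized conjugate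
  obtain ⟨R', u, hn, hR'c, hu, huR, -⟩ := exists_tcentric_fn D hS hF hR
  have hRS := hR.le.trans D.le_S'
  have hu' := hu.mono (le_normalizerIn hRS)
  obtain ⟨k, hk, hkr, hk₁, hk₂⟩ := hu'.exists_inv huR
  have hg' : JMap (single h) R' (u ∘ g ∘ k) := hg.transport (single h) hu' huR fun x hx => by
    show u (g (k (u x))) = u (g x)
    rw [hk₁ x hx]
  have hR'T := hR'c.le
  have hR'S := hn.1
  obtain ⟨a, ha, hae⟩ := (jMap_iff (single h) hS hF hR'T hn).mp hg'
  let K : Subgroup (MulAut (W S R')) :=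
    { carrier := {a | (∀ x ∈ R', ev a x ∈ R') ∧ JMap D R' (ev a)}
      one_mem' := ⟨fun x hx => by rw [ev_one (le_W hx)]; exact hx,
        (jMap_id D hR'S).congr D fun x hx => (ev_one (le_W hx)).symm⟩
      mul_mem' := fun {a b} ha hb => ⟨fun x hx => by
          rw [ev_mul _ _ (le_W hx)]; exact ha.1 _ (hb.1 x hx),
        (hb.2.comp D ha.2).congr D fun x hx => (ev_mul a b (le_W hx)).symm⟩
      inv_mem' := fun {a} ha => by
        have hj := ha.2.inv D (g' := ev a⁻¹) fun x hx => ev_inv_ev a (le_W hx)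
        exact ⟨fun x hx => mem_of_image hj.2.1 hx, hj⟩ }
  have hle : jW (single h) hR'T ≤ K := by
    refine sup_le (opr_induction K fun b hb hbp => ?_) fun b hb => ?_
    · refine ⟨fun x hx => (extFn_ev (single h) hb).2.1 x hx, (jMap_iff D hS hF hR'T hn).mpr ⟨b,
        opr_le_jW D hR'T (mem_opr (extFn_of_single D hS hF h hi hR'T hR'c hn hb hbp) hbp), fun _ _ => rfl⟩⟩
    · exact ⟨fun x hx => (extFn_ev D (auT_le_extGrp D hR'T hb)).2.1 x hx,
        (jMap_iff D hS hF hR'T hn).mpr ⟨b, auT_le_jW D hR'T hb, fun _ _ => rfl⟩⟩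
  refine ((hle ha).2.congr D fun x hx => (hae x hx).symm).transport D hk hkr fun y hy => ?_
  show g (k y) = k (u (g (k y)))
  rw [hk₁ _ (mem_of_image hg.2.1 (mem_of_image hkr hy))]

end CfsgLib.Meet
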