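import Cfsg.Agent.Lib.FusionNormal.Alperin
import Cfsg.Agent.Lib.Fusion.Saturated
import Cfsg.Agent.Lib.PCore.Basic

/-!
# A family of subgroups controlling saturation

If `F` is generated by the maps on a conjugation-invariant family, saturated on that family, and
every centric subgroup outside has a conjugate with `Aut_S ∩ O_p(Aut_F)` not inner, then `F` is
saturated. The proof is a descending induction on the order.
-/

namespace CfsgLib.Fusion.SatCrit

open Cfsg Cfsg.FusionSystem CfsgLib.Fusion CfsgLib.FusionNormal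

/-! ### Groups -/

/-- In `Γ`, with `Γ₀` normal of `p`-power index, `p`-subgroups are conjugated into one Sylow subgroup by `Γ₀`. -/
theorem exists_conj_into {G : Type*} [Group G] [Finite G] {p : ℕ} [Fact p.Prime]
    {Γ Γ₀ A B : Subgroup G} (hle : Γ₀ ≤ Γ) (hn : ∀ a ∈ Γ, ∀ b ∈ Γ₀, a * b * a⁻¹ ∈ Γ₀)
    (hp : ∀ a ∈ Γ, ∃ k : ℕ, a ^ p ^ k ∈ Γ₀) (hA : A ≤ Γ) (hAp : IsPGroup p A) (hB : B ≤ Γ)
    (hBp : IsPGroup p B) :
    ∃ n ∈ Γ₀, ∃ Sy : Subgroup G, A ≤ Sy ∧ Sy ≤ Γ ∧ IsPGroup p Sy ∧ (∀ b ∈ B, n * b * n⁻¹ ∈ Sy) ∧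
      ∀ a ∈ Γ, ∃ m ∈ Γ₀, ∃ s ∈ Sy, a = m * s := by
  obtain ⟨T, hT⟩ := (hAp.comap_subtype (K := Γ)).exists_le_sylow
  obtain ⟨T', hT'⟩ := (hBp.comap_subtype (K := Γ)).exists_le_sylow
  obtain ⟨g, hg⟩ := MulAction.exists_smul_eq Γ T' T
  haveI hN : (Γ₀.subgroupOf Γ).Normal := ⟨fun b hb a => hn a a.2 b hb⟩
  have hq : IsPGroup p (Γ ⧸ Γ₀.subgroupOf Γ) := by
    intro x
    induction x using QuotientGroup.induction_on with
    | H a =>
      obtain ⟨k, hk⟩ := hp a a.2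
      refine ⟨k, ?_⟩
      rw [← QuotientGroup.mk_pow, QuotientGroup.eq_one_iff]
      exact hk
  have htop : (T : Subgroup Γ).map (QuotientGroup.mk' (Γ₀.subgroupOf Γ)) = ⊤ := by
    have h1 := (T.mapSurjective (f := QuotientGroup.mk' (Γ₀.subgroupOf Γ))
      (QuotientGroup.mk'_surjective _)).is_maximal' (hq.to_subgroup ⊤) le_top
    rw [Sylow.coe_mapSurjective] at h1
    exact h1.symm
  have hdec : ∀ a : Γ, ∃ m ∈ Γ₀.subgroupOf Γ, ∃ s ∈ (T : Subgroup Γ), a = m * s := by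
    intro a
    obtain ⟨s, hs, hse⟩ := htop.ge (Subgroup.mem_top (a : Γ ⧸ Γ₀.subgroupOf Γ))
    refine ⟨a * s⁻¹, ?_, s, hs, (inv_mul_cancel_right a s).symm⟩
    rw [← QuotientGroup.eq_one_iff, QuotientGroup.mk_mul, QuotientGroup.mk_inv]
    rw [QuotientGroup.mk'_apply] at hse
    rw [hse, mul_inv_cancel]
  obtain ⟨m, hm, s, hs, hms⟩ := hdec g⁻¹
  refine ⟨(m⁻¹ : Γ), Γ₀.inv_mem hm, (T : Subgroup Γ).map Γ.subtype, fun a ha => ⟨⟨a, hA ha⟩, hT ha, rfl⟩,
    Subgroup.map_subtype_le _, T.2.map _, fun b hb => ?_, fun a ha => ?_⟩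
  · have h1 : g * ⟨b, hB hb⟩ * g⁻¹ ∈ (T : Subgroup Γ) := by
      rw [← hg, Sylow.coe_subgroup_smul]
      exact Subgroup.smul_mem_pointwise_smul _ (MulAut.conj g) _ (hT' hb)
    have h2 := (T : Subgroup Γ).mul_mem ((T : Subgroup Γ).mul_mem hs h1) ((T : Subgroup Γ).inv_mem hs)
    refine ⟨_, h2, ?_⟩
    have h3 : s * (g * ⟨b, hB hb⟩ * g⁻¹) * s⁻¹ = m⁻¹ * ⟨b, hB hb⟩ * m := by
      rw [show g = s⁻¹ * m⁻¹ by rw [← mul_inv_rev, ← hms, inv_inv]]
      group
    rw [h3]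
    simp
  · obtain ⟨m', hm', s', hs', he⟩ := hdec ⟨a, ha⟩
    exact ⟨m', hm', s', ⟨s', hs', rfl⟩, congrArg Subtype.val he⟩

variable {Ω : Type*} [Group Ω] {S : Subgroup Ω} {F : FusionSystem S} {p : ℕ}
variable {A B C K P Q R X : Subgroup Ω}

/-! ### Automorphisms restricting into a given group -/

/-- Automorphisms of `K` that act on `P` as an element of `O`. -/
def resSet (hPK : P ≤ K) (O : Subgroup (MulAut P)) : Subgroup (MulAut K) where
  carrier := {h | ∃ o ∈ O, ∀ x : P, ((h ⟨x, hPK x.2⟩ : K) : Ω) = ((o x : P) : Ω)}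
  one_mem' := ⟨1, O.one_mem, fun _ => rfl⟩
  mul_mem' := by
    rintro a b ⟨o, ho, hoe⟩ ⟨o', ho', ho'e⟩
    refine ⟨o * o', O.mul_mem ho ho', fun x => ?_⟩
    rw [MulAut.mul_apply, MulAut.mul_apply, ← hoe]
    congr 2
    exact Subtype.ext (ho'e x)
  inv_mem' := by
    rintro a ⟨o, ho, hoe⟩
    refine ⟨o⁻¹, O.inv_mem ho, fun x => ?_⟩
    have h1 : (⟨x, hPK x.2⟩ : K) = a ⟨((o⁻¹ x : P) : Ω), hPK (Subtype.mem _)⟩ :=
      Subtype.ext (by rw [hoe, MulAut.apply_inv_self])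
    rw [h1, MulAut.inv_apply_self]

theorem resSet_mono (hPK : P ≤ K) {O O' : Subgroup (MulAut P)} (h : O ≤ O') : resSet hPK O ≤ resSet hPK O' :=
  fun _ ⟨o, ho, he⟩ => ⟨o, h ho, he⟩

theorem resSet_fix (hPK : P ≤ K) {a : MulAut K} (ha : a ∈ resSet hPK (⊥ : Subgroup (MulAut P))) (x : P) :
    a ⟨x, hPK x.2⟩ = ⟨x, hPK x.2⟩ := by
  obtain ⟨o, ho, hoe⟩ := ha
  refine Subtype.ext ((hoe x).trans ?_)
  rw [Subgroup.mem_bot.mp ho]; rfl

theorem resSet_bot_conj (hPK : P ≤ K) {O : Subgroup (MulAut P)} {a b : MulAut K} (ha : a ∈ resSet hPK O)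
    (hb : b ∈ resSet hPK (⊥ : Subgroup (MulAut P))) : a * b * a⁻¹ ∈ resSet hPK (⊥ : Subgroup (MulAut P)) := by
  obtain ⟨o, -, hoe⟩ := ha
  refine ⟨1, Subgroup.one_mem _, fun x => ?_⟩
  have h1 : (⟨x, hPK x.2⟩ : K) = a ⟨((o⁻¹ x : P) : Ω), hPK (Subtype.mem _)⟩ :=
    Subtype.ext (by rw [hoe, MulAut.apply_inv_self])
  rw [MulAut.mul_apply, MulAut.mul_apply, h1, MulAut.inv_apply_self, resSet_fix hPK hb, ← h1]
  rfl

theorem resSet_pow (hPK : P ≤ K) {O : Subgroup (MulAut P)} (hO : IsPGroup p O) {a : MulAut K}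
    (ha : a ∈ resSet hPK O) : ∃ k : ℕ, a ^ p ^ k ∈ resSet hPK (⊥ : Subgroup (MulAut P)) := by
  obtain ⟨o, ho, hoe⟩ := ha
  have key : ∀ (m : ℕ) (x : P), (((a ^ m) ⟨x, hPK x.2⟩ : K) : Ω) = (((o ^ m) x : P) : Ω) := by
    intro m
    induction m with
    | zero => intro x; rfl
    | succ m ih =>
      intro x
      rw [pow_succ', pow_succ', MulAut.mul_apply, MulAut.mul_apply, ← hoe]
      congr 2
      exact Subtype.ext (ih x)
  obtain ⟨k, hk⟩ := hO ⟨o, ho⟩
  refine ⟨k, 1, Subgroup.one_mem _, fun x => ?_⟩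
  rw [key, show o ^ p ^ k = 1 from congrArg Subtype.val hk]

/-- A map sending `P` onto itself and `g` to `h` carries conjugation to conjugation. -/
theorem conj_of_mapFn {f : Ω → Ω} (hf : MapFn F R f) {g : Ω} (hg : g ∈ R) (hPR : P ≤ R) {x : Ω} (hx : x ∈ P) :
    f (g * x * g⁻¹) = f g * f x * (f g)⁻¹ := hf.map_conj hg (hPR hx)

variable [Finite S] [Fact p.Prime]

/-- Above the order of `Ps` every subgroup has a fully automized receptive conjugate. -/
def Big (F : FusionSystem S) (p : ℕ) (Ps : Subgroup Ω) : Prop :=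
  ∀ R : Subgroup Ω, R ≤ S → Nat.card Ps < Nat.card R →
    ∃ Q, F.IsConj R Q ∧ F.IsFullyAutomized p Q ∧ F.IsReceptive Q

theorem mem_extender_of_induced {φ : K →* Ω} {g : Ω} (hg : g ∈ normalizerIn S K) {c : MulAut K}
    (hce : ∀ x : K, ((c x : K) : Ω) = g * (x : Ω) * g⁻¹)
    (h : ∃ s ∈ S, ∀ x : K, φ (c x) = s * φ x * s⁻¹) : g ∈ extender S K φ := by
  obtain ⟨s, hs, hse⟩ := h
  refine mem_extender.mpr ⟨hg.1, hg.2, s, hs, fun x hx => ?_⟩
  rw [← hse x]
  exact apply_eq_of_coe_eq (hce x).symm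

/-- A map on `K` carrying a `p`-group of automorphisms into conjugations by elements of `S`. -/
theorem exists_target {Ps : Subgroup Ω} (hbig : Big F p Ps) (hK : K ≤ S) (hc : Nat.card Ps < Nat.card K)
    {Sy : Subgroup (MulAut K)} (hSy : Sy ≤ F.autGroup K) (hp : IsPGroup p Sy) :
    ∃ Q, F.IsReceptive Q ∧ ∃ φ ∈ F.Hom K, φ.range = Q ∧ ∀ a ∈ Sy, ∃ s ∈ S, ∀ x : K, φ (a x) = s * φ x * s⁻¹ := by
  obtain ⟨Q, ⟨φ₀, hφ₀, hr₀⟩, hQa, hQr⟩ := hbig K hK hc
  obtain ⟨e, he⟩ := exists_equiv hφ₀ hr₀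
  obtain ⟨α, hα, hαA⟩ := FullyAutomized.exists_conj hQa (A := Sy.map (MulAut.congr e).toMonoidHom)
    ((Subgroup.map_mono hSy).trans (map_autGroup hφ₀ he).le) (hp.map _)
  obtain ⟨αm, hαm, hαr, hαe⟩ := exists_map_of_mem_autGroup hQa.1 hα
  obtain ⟨φ, hφ, hφe⟩ := exists_comp hφ₀ hαm (fun x => hr₀.le ⟨x, rfl⟩)
  have hφ' : ∀ x : K, φ x = ((α (e x) : Q) : Ω) := fun x => by
    rw [hφe, hαe]; congr 2; exact Subtype.ext (he x).symm
  refine ⟨Q, hQr, φ, hφ, ?_, fun a ha => ?_⟩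
  · ext y
    constructor
    · rintro ⟨x, rfl⟩; rw [hφ']; exact (α (e x)).2
    · intro hy; exact ⟨e.symm (α.symm ⟨y, hy⟩), by rw [hφ']; simp⟩
  obtain ⟨s, hs, hse⟩ := mem_autInducedBy.mp (hαA _ ⟨a, ha, rfl⟩)
  refine ⟨s, hs, fun x => ?_⟩
  rw [hφ', hφ', ← hse]
  simp [MulAut.congr]

/-- Both sides of a map acquire larger domains after correcting it by an element of `Γ₀`. -/
theorem widen {Ps K' M M' : Subgroup Ω} (hS : IsPGroup p S) (hbig : Big F p Ps)
    (hc : Nat.card Ps < Nat.card K) {f : Ω → Ω} (hf : MapFn F K f) (hfr : f '' K = (K' : Set Ω))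
    {Γ Γ₀ : Subgroup (MulAut K)} (hΓ : Γ ≤ F.autGroup K) (hle : Γ₀ ≤ Γ)
    (hn : ∀ a ∈ Γ, ∀ b ∈ Γ₀, a * b * a⁻¹ ∈ Γ₀) (hp : ∀ a ∈ Γ, ∃ k : ℕ, a ^ p ^ k ∈ Γ₀)
    (hM : M ≤ normalizerIn S K) (hM' : M' ≤ normalizerIn S K')
    (h1 : ∀ g ∈ M, ∀ a ∈ F.autGroup K, (∀ x : K, ((a x : K) : Ω) = g * (x : Ω) * g⁻¹) → a ∈ Γ)
    (h2 : ∀ g ∈ M', ∀ a ∈ F.autGroup K, (∀ x : K, f ((a x : K) : Ω) = g * f x * g⁻¹) → a ∈ Γ) :
    ∃ n ∈ Γ₀, ∃ δ δ' : Ω → Ω, MapFn F (K ⊔ M) δ ∧ MapFn F (K' ⊔ M') δ' ∧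
      ∀ x : K, δ' (f x) = δ ((n x : K) : Ω) := by
  have hKS := hf.le_S
  obtain ⟨φf, hφf, hφfe⟩ := hf
  have hφfr : φf.range = K' := SetLike.coe_injective (by rw [← MapFn.image_eq_range hφfe, hfr])
  have hK'S : K' ≤ S := hφfr ▸ range_le_S hφf
  obtain ⟨e, he⟩ := exists_equiv hφf hφfr
  have := finite_mulAut hKS
  have hMS : M ≤ S := hM.trans normalizerIn_le
  have hM'S : M' ≤ S := hM'.trans normalizerIn_le
  have hA : autInducedBy M K ≤ Γ := fun a ha => by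
    obtain ⟨g, hg, hge⟩ := mem_autInducedBy.mp ha
    exact h1 g hg a (autInducedBy_le_autGroup hKS (autInducedBy_mono hMS K ha)) hge
  have hB : (autInducedBy M' K').map (MulAut.congr e.symm).toMonoidHom ≤ Γ := by
    rintro _ ⟨b, hb, rfl⟩
    have hbF : b ∈ F.autGroup K' := autInducedBy_le_autGroup hK'S (autInducedBy_mono hM'S K' hb)
    have hmem : (MulAut.congr e.symm).toMonoidHom b ∈ F.autGroup K := by
      obtain ⟨b', hb', hb'e⟩ := (map_autGroup hφf he).ge hbF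
      have h3 : (MulAut.congr e.symm).toMonoidHom b = b' := by
        rw [← hb'e]; exact MulEquiv.ext fun x => by simp [MulAut.congr]
      rw [h3]; exact hb'
    obtain ⟨g, hg, hge⟩ := mem_autInducedBy.mp hb
    refine h2 g hg _ hmem fun x => ?_
    rw [← hφfe, ← hφfe, ← he, ← he, ← hge]
    simp [MulAut.congr]
  obtain ⟨n, hn₀, Sy, hASy, hSyΓ, hSyp, hBSy, -⟩ := exists_conj_into hle hn hp hA
    (isPGroup_autInducedBy (hS.to_le hMS) K) hB ((isPGroup_autInducedBy (hS.to_le hM'S) K').map _)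
  obtain ⟨Q, hQr, φ, hφ, hφr, hφs⟩ := exists_target hbig hKS hc (hSyΓ.trans hΓ) hSyp
  obtain ⟨ψ, hψ, hψe⟩ := Fusion.exists_extension hQr hφ hφr (le_sup_left : K ≤ K ⊔ M)
    (sup_le (le_extender hKS (apply_mem_S hφ)) fun g hg => by
      obtain ⟨c, hc, hce⟩ := exists_autInducedBy (K := M) hg (hM hg).2
      exact mem_extender_of_induced (hM hg) hce (hφs c (hASy hc)))
  -- the other side
  obtain ⟨φi, hφi, hφir, hφi₁, hφi₂⟩ := exists_inv hφf hφfr
  obtain ⟨nm, hnm, hnr, hne⟩ := exists_map_of_mem_autGroup hKS (hΓ (hle hn₀))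
  obtain ⟨μ, hμ, hμe⟩ := exists_comp hφi hnm fun y => hφir.le ⟨y, rfl⟩
  obtain ⟨φ', hφ', hφ'e⟩ := exists_comp hμ hφ fun y => by rw [hμe, hne]; exact Subtype.mem _
  have hφ'' : ∀ x : K, φ' (e x) = φ (n x) := fun x => by
    rw [hφ'e]
    refine apply_eq_of_coe_eq ?_
    show μ (e x) = ((n x : K) : Ω)
    rw [hμe, hne]
    congr 2
    refine Subtype.ext ((apply_eq_of_coe_eq (he x)).trans (hφi₁ x (hφfr.le ⟨x, rfl⟩)))
  have hφ'r : φ'.range = Q := by
    rw [← hφr]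
    ext y
    constructor
    · rintro ⟨z, rfl⟩
      obtain ⟨x, rfl⟩ := e.surjective z
      exact ⟨n x, (hφ'' x).symm⟩
    · rintro ⟨w, rfl⟩
      exact ⟨e (n⁻¹ w), by rw [hφ'', MulAut.apply_inv_self]⟩
  obtain ⟨ψ', hψ', hψ'e⟩ := Fusion.exists_extension hQr hφ' hφ'r (le_sup_left : K' ≤ K' ⊔ M')
    (sup_le (le_extender hK'S (apply_mem_S hφ')) fun g hg => by
      obtain ⟨c, hc, hce⟩ := exists_autInducedBy (K := M') hg (hM' hg).2
      refine mem_extender_of_induced (hM' hg) hce ?_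
      obtain ⟨s, hs, hse⟩ := hφs _ (hBSy _ ⟨c, hc, rfl⟩)
      refine ⟨s, hs, fun z => ?_⟩
      obtain ⟨x, rfl⟩ := e.surjective z
      have h3 : c (e x) = e (((MulAut.congr e.symm).toMonoidHom c) x) := by simp [MulAut.congr]
      rw [h3, hφ'', hφ'', ← hse (n x)]
      simp [MulAut.mul_apply])
  obtain ⟨δ, hδ, hδe⟩ := mapFn_of_hom hψ
  obtain ⟨δ', hδ', hδ'e⟩ := mapFn_of_hom hψ'
  refine ⟨n, hn₀, δ, δ', hδ, hδ', fun x => ?_⟩
  have h3 := hδ'e ⟨((e x : K') : Ω), Subgroup.mem_sup_left (e x).2⟩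
  rw [hψ'e (e x), hφ''] at h3
  simp only [he, hφfe] at h3
  rw [← h3, ← hδe ⟨((n x : K) : Ω), Subgroup.mem_sup_left (n x).2⟩, hψe]

/-! ### Reaching the fully normalized member of a class -/

/-- `A` is carried onto `Ps` by a map defined on its normalizer. -/
def Reach (F : FusionSystem S) (Ps A : Subgroup Ω) : Prop :=
  ∃ g, MapFn F (normalizerIn S A) g ∧ g '' A = (Ps : Set Ω)

theorem Reach.isConj {Ps : Subgroup Ω} (h : Reach F Ps A) (hA : A ≤ S) : F.IsConj A Ps := by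
  obtain ⟨g, hg, hgA⟩ := h
  exact (hg.mono (le_normalizerIn hA)).isConj hgA

theorem card_normalizer_le {Ps : Subgroup Ω} (hn : F.IsFullyNormalized Ps) (hA : F.IsConj A Ps) :
    Nat.card (normalizerIn S A) ≤ Nat.card (normalizerIn S Ps) := hn.2 A (isConj_symm hA)

theorem maps_normalizer {g : Ω → Ω} (hA : A ≤ R) (hg : MapFn F R g) (hr : g '' A = (B : Set Ω))
    (hRN : R ≤ normalizerIn S A) : ∀ y ∈ R, g y ∈ normalizerIn S B := fun _ hy =>
  hg.mem_normalizerIn hA hr hy (hRN hy).2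

/-- Reaching `Ps` passes along a map with a domain properly containing the subgroup. -/
theorem reach_of_edge (hS : IsPGroup p S) {Ps : Subgroup Ω} (hbig : Big F p Ps)
    (hn : F.IsFullyNormalized Ps) :
    ∀ (n : ℕ) (A B K : Subgroup Ω) (f : Ω → Ω), Nat.card S - Nat.card K < n → F.IsConj A Ps → A < K →
      K ≤ normalizerIn S A → MapFn F K f → f '' A = (B : Set Ω) → Reach F Ps B → Reach F Ps A := by
  intro n
  induction n with
  | zero => intro A B K f h; omega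
  | succ n ih =>
  intro A B K f hlt hAc hAK hKA hf hfA ⟨gB, hgB, hgBB⟩
  have hKS : K ≤ S := hKA.trans normalizerIn_le
  have := finite_of_le (normalizerIn_le (S := S) (P := A))
  have hfm := maps_normalizer hAK.le hf hfA hKA
  by_cases hKN : K = normalizerIn S A
  · subst hKN
    exact ⟨gB ∘ f, hf.comp hgB hfm, image_comp hfA hgBB⟩
  have hKltA : K < normalizerIn S A := lt_of_le_of_ne hKA hKN
  -- reduce to an image properly inside the normalizer
  obtain ⟨B, f, gB, hf, hfA, hgB, hgBB, K', hK', hK'lt⟩ : ∃ (B : Subgroup Ω) (f gB : Ω → Ω),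
      MapFn F K f ∧ f '' A = (B : Set Ω) ∧ MapFn F (normalizerIn S B) gB ∧ gB '' B = (Ps : Set Ω) ∧
      ∃ K' : Subgroup Ω, f '' K = (K' : Set Ω) ∧ K' < normalizerIn S B := by
    obtain ⟨K', hK'S, hK'⟩ := hf.exists_image
    have hle : K' ≤ normalizerIn S B := fun y hy => by
      obtain ⟨x, hx, rfl⟩ := exists_of_image hK' hy
      exact hfm x hx
    by_cases hne : K' = normalizerIn S B
    swap
    · exact ⟨B, f, gB, hf, hfA, hgB, hgBB, K', hK', lt_of_le_of_ne hle hne⟩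
    obtain ⟨K₂, -, hK₂⟩ := (hf.comp hgB hfm).exists_image
    refine ⟨Ps, gB ∘ f, id, hf.comp hgB hfm, image_comp hfA hgBB, mapFn_id normalizerIn_le, Set.image_id _,
      K₂, hK₂, lt_of_le_of_ne (fun y hy => ?_) fun h => ?_⟩
    · obtain ⟨x, hx, rfl⟩ := exists_of_image hK₂ hy
      exact maps_normalizer hAK.le (hf.comp hgB hfm) (image_comp hfA hgBB) hKA x hx
    · have h1 := (hf.comp hgB hfm).card_image hK₂
      have h2 := card_normalizer_le hn hAc
      have h3 := FusionNormal.card_lt_card (normalizerIn_le (S := S) (P := A)) hKltA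
      rw [← h] at h2
      omega
  have hfm := maps_normalizer hAK.le hf hfA hKA
  have hAS : A ≤ S := hAK.le.trans hKS
  have hBS : B ≤ S := fun y hy => by
    obtain ⟨x, hx, rfl⟩ := exists_of_image hfA hy
    exact hf.mem_S (hAK.le hx)
  have hcA : Nat.card A = Nat.card Ps := (IsConj.card_eq hAc).symm
  have hc : Nat.card Ps < Nat.card K := hcA ▸ FusionNormal.card_lt_card hKS hAK
  set M := normalizerIn (normalizerIn S A) K with hMdef
  set M' := normalizerIn (normalizerIn S B) K' with hM'def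
  have hKM : K < M := Fusion.lt_normalizerIn hS normalizerIn_le hKltA
  have hK'M : K' < M' := Fusion.lt_normalizerIn hS normalizerIn_le hK'lt
  let Γ : Subgroup (MulAut K) := F.autGroup K ⊓ resSet hAK.le (⊤ : Subgroup (MulAut A))
  have hΓmem : ∀ a ∈ F.autGroup K, (∀ x : A, ((a ⟨x, hAK.le x.2⟩ : K) : Ω) ∈ A) → a ∈ Γ := by
    intro a ha hm
    obtain ⟨k, hk, -, hke⟩ := exists_mapFn_of_aut hKS ha
    obtain ⟨o, -, hoe⟩ := (hk.mono hAK.le).exists_aut ((hk.mono hAK.le).image_eq_of_maps hAS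
      (fun x hx => by rw [hke ⟨x, hAK.le hx⟩]; exact hm ⟨x, hx⟩) le_rfl)
    exact ⟨ha, o, Subgroup.mem_top _, fun x => (hke ⟨x, hAK.le x.2⟩).symm.trans (hoe x).symm⟩
  obtain ⟨m, hm, δ, δ', hδ, hδ', hrel⟩ := widen hS hbig hc hf hK' (Γ := Γ) (Γ₀ := Γ) inf_le_left le_rfl
    (fun a ha b hb => Γ.mul_mem (Γ.mul_mem ha hb) (Γ.inv_mem ha)) (fun a ha => ⟨0, by simpa using ha⟩)
    (M := M) (M' := M') (inf_le_inf_right _ normalizerIn_le) (inf_le_inf_right _ normalizerIn_le)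
    (fun g hg a ha hge => hΓmem a ha fun x => by
      rw [hge]; exact conj_mem_of_normalizer hg.1.2 x.2)
    (fun g hg a ha hge => hΓmem a ha fun x => by
      obtain ⟨z, hz, hze⟩ := exists_of_image hfA
        (conj_mem_of_normalizer hg.1.2 (mem_of_image hfA x.2) : g * f x * g⁻¹ ∈ B)
      rw [← hge ⟨x, hAK.le x.2⟩] at hze
      rw [← hf.injOn (hAK.le hz) (Subtype.mem _) hze]; exact hz)
  rw [sup_eq_right.mpr hKM.le] at hδ
  rw [sup_eq_right.mpr hK'M.le] at hδ'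
  obtain ⟨-, o, -, hoe⟩ := hm
  obtain ⟨C, hCS, hC⟩ := (hδ.mono (hAK.le.trans hKM.le)).exists_image
  have hBK' : B ≤ K' := fun y hy => by
    obtain ⟨x, hx, rfl⟩ := exists_of_image hfA hy
    exact mem_of_image hK' (hAK.le hx)
  have hδ'B : δ' '' B = (C : Set Ω) := by
    refine (hδ'.mono (hBK'.trans hK'M.le)).image_eq_of_maps hCS (fun y hy => ?_) ?_
    · obtain ⟨x, hx, rfl⟩ := exists_of_image hfA hy
      rw [hrel ⟨x, hAK.le hx⟩, hoe ⟨x, hx⟩]
      exact mem_of_image hC (Subtype.mem _)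
    · rw [(hδ.mono (hAK.le.trans hKM.le)).card_image hC, (hf.mono hAK.le).card_image hfA]
  have hMN : M ≤ normalizerIn S A := inf_le_left
  have hM'N : M' ≤ normalizerIn S B := inf_le_left
  have hCc : F.IsConj C Ps :=
    isConj_trans (isConj_symm ((hδ.mono (hAK.le.trans hKM.le)).isConj hC)) hAc
  obtain ⟨J, -, hJ⟩ := hδ'.exists_image
  obtain ⟨η, hη, -, hη₁, -⟩ := hδ'.exists_inv hJ
  have hJN : J ≤ normalizerIn S C := fun y hy => by
    obtain ⟨x, hx, rfl⟩ := exists_of_image hJ hy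
    exact maps_normalizer (hBK'.trans hK'M.le) hδ' hδ'B hM'N x hx
  have hcards : Nat.card K < Nat.card M ∧ Nat.card K < Nat.card J ∧ Nat.card M ≤ Nat.card S ∧
      Nat.card J ≤ Nat.card S := by
    refine ⟨FusionNormal.card_lt_card (hMN.trans normalizerIn_le) hKM, ?_,
      card_le_card_S (hMN.trans normalizerIn_le), card_le_card_S (hJN.trans normalizerIn_le)⟩
    rw [hδ'.card_image hJ, ← hf.card_image hK']
    exact FusionNormal.card_lt_card (hM'N.trans normalizerIn_le) hK'M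
  have hCJ : C < J := by
    refine lt_of_le_of_ne (fun y hy => ?_) fun h => ?_
    · obtain ⟨x, hx, rfl⟩ := exists_of_image hδ'B hy
      exact mem_of_image hJ (hK'M.le (hBK' hx))
    · have h1 := (hδ.mono (hAK.le.trans hKM.le)).card_image hC
      have h2 := hcards.2.1
      rw [← h, h1, hcA] at h2
      omega
  have hηC : η '' C = (B : Set Ω) := by
    refine (hη.mono hCJ.le).image_eq_of_maps hBS (fun y hy => ?_) ?_
    · obtain ⟨x, hx, rfl⟩ := exists_of_image hδ'B hy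
      rw [hη₁ x (hK'M.le (hBK' hx))]; exact hx
    · rw [((hδ'.mono (hBK'.trans hK'M.le))).card_image hδ'B]
  have hCr : Reach F Ps C := ih C B J η (by omega) hCc hCJ hJN hη hηC ⟨gB, hgB, hgBB⟩
  exact ih A C M δ (by omega) hAc (hAK.trans hKM) hMN hδ hC hCr

/-- Properties of maps inside a class outside the family propagate from maps with larger domains. -/
theorem class_induction {Ps : Subgroup Ω} (hS : IsPGroup p S) (hPs : Ps ≤ S) (hne : Ps ≠ S) {ℋ : Set (Subgroup Ω)}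
    (hnot : ∀ A, F.IsConj A Ps → A ∉ ℋ)
    (hgen : ∀ E : FusionSystem S, (∀ P ∈ ℋ, F.Hom P ⊆ E.Hom P) → F ≤ E)
    (D : Subgroup Ω → (Ω → Ω) → Prop)
    (hcongr : ∀ {A f g}, D A f → (∀ x ∈ A, f x = g x) → D A g)
    (hcomp : ∀ {A B : Subgroup Ω} {f g : Ω → Ω}, F.IsConj A Ps → MapFn F A f → f '' A = (B : Set Ω) → D A f →
      MapFn F B g → D B g → D A (g ∘ f))
    (hinv : ∀ {A B : Subgroup Ω} {f g : Ω → Ω}, F.IsConj A Ps → MapFn F A f → f '' A = (B : Set Ω) → D A f →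
      MapFn F B g → (∀ x ∈ A, g (f x) = x) → D B g)
    (hbase : ∀ {A K : Subgroup Ω} {f : Ω → Ω}, F.IsConj A Ps → A < K → K ≤ normalizerIn S A → MapFn F K f →
      D A f) :
    ∀ A f, F.IsConj A Ps → MapFn F A f → D A f := by
  have hbase' : ∀ {R : Subgroup Ω} {f : Ω → Ω} (A : Subgroup Ω), F.IsConj A Ps → A < R → MapFn F R f →
      D A f := fun {R f} A hA hlt hf =>
    hbase hA (Fusion.lt_normalizerIn hS hf.le_S hlt) (inf_le_inf_right _ hf.le_S)
      (hf.mono normalizerIn_le)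
  let E : FusionSystem S :=
    { Hom := fun R => {φ | φ ∈ F.Hom R ∧ ∀ (A : Subgroup Ω) (f : Ω → Ω) (hAR : A ≤ R), F.IsConj A Ps →
        (∀ x : A, φ ⟨x, hAR x.2⟩ = f x) → D A f}
      le_of_mem := fun h => F.le_of_mem h.1
      injective_of_mem := fun h => F.injective_of_mem h.1
      conj_mem := by
        intro P g hP hg
        refine ⟨F.conj_mem hP hg, fun A f hAR hA he => ?_⟩
        have hAne : A ≠ S := fun h => hne (eq_of_le_of_card_le hPs (by rw [IsConj.card_eq hA, h]))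
        exact hcongr (hbase' A hA (lt_of_le_of_ne (hAR.trans hP) hAne) (mapFn_conj le_rfl hg))
          fun x hx => he ⟨x, hx⟩
      comp_mem := by
        rintro P Q φ ψ ⟨hφ, h1⟩ ⟨hψ, h2⟩ h
        refine ⟨F.comp_mem hφ hψ h, fun A f hAR hA he => ?_⟩
        obtain ⟨u, hu, hue⟩ := mapFn_of_hom hφ
        obtain ⟨v, hv, hve⟩ := mapFn_of_hom hψ
        obtain ⟨B, -, hB⟩ := (hu.mono hAR).exists_image
        have hBQ : B ≤ Q := fun y hy => by
          obtain ⟨x, hx, rfl⟩ := exists_of_image hB hy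
          rw [← hue ⟨x, hAR hx⟩]; exact h _
        have hBc : F.IsConj B Ps := isConj_trans (isConj_symm ((hu.mono hAR).isConj hB)) hA
        refine hcongr (hcomp hA (hu.mono hAR) hB (h1 A u hAR hA fun x => hue ⟨x, hAR x.2⟩) (hv.mono hBQ)
          (h2 B v hBQ hBc fun x => hve ⟨x, hBQ x.2⟩)) fun x hx => ?_
        show v (u x) = f x
        rw [← he ⟨x, hx⟩]
        exact ((hve _).trans (congrArg v (hue ⟨x, hAR hx⟩))).symm
      inv_mem := by
        rintro P φ ⟨hφ, h1⟩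
        obtain ⟨ψ, hψ, hψe⟩ := F.inv_mem hφ
        refine ⟨ψ, ⟨hψ, fun B g hBR hB he => ?_⟩, hψe⟩
        obtain ⟨u, hu, hue⟩ := mapFn_of_hom hφ
        have hg : MapFn F B g := ⟨_, restrict_mem hBR hψ, fun x => he x⟩
        obtain ⟨A, -, hA⟩ := hg.exists_image
        have hkey : ∀ y ∈ B, g y ∈ P ∧ u (g y) = y := fun y hy => by
          obtain ⟨x, hx⟩ := hBR hy
          have h2 : g y = x := by
            rw [← he ⟨y, hy⟩]
            exact (apply_eq_of_coe_eq hx.symm).trans (hψe x)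
          rw [h2]
          exact ⟨x.2, (hue x).symm.trans hx⟩
        have hAP : A ≤ P := fun y hy => by
          obtain ⟨z, hz, rfl⟩ := exists_of_image hA hy
          exact (hkey z hz).1
        have hAc : F.IsConj A Ps := isConj_trans (isConj_symm (hg.isConj hA)) hB
        refine hinv hAc (hu.mono hAP) ?_ (h1 A u hAP hAc fun x => hue ⟨x, hAP x.2⟩) hg fun x hx => ?_
        · refine (hu.mono hAP).image_eq_of_maps hg.le_S (fun y hy => ?_) (hg.card_image hA).ge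
          obtain ⟨z, hz, rfl⟩ := exists_of_image hA hy
          rw [(hkey z hz).2]; exact hz
        · obtain ⟨z, hz, rfl⟩ := exists_of_image hA hx
          rw [(hkey z hz).2] }
  have hFE : F ≤ E := hgen E fun R hR φ hφ => ⟨hφ, fun A f hAR hA he => by
    obtain ⟨u, hu, hue⟩ := mapFn_of_hom hφ
    exact hcongr (hbase' A hA (lt_of_le_of_ne hAR fun h => hnot A hA (h ▸ hR)) hu)
      fun x hx => (hue ⟨x, hAR hx⟩).symm.trans (he ⟨x, hx⟩)⟩
  intro A f hA hf
  obtain ⟨φ, hφ, hφe⟩ := hf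
  exact (hFE A hφ).2 A f le_rfl hA fun x => hφe x

theorem reach_all (hS : IsPGroup p S) {Ps : Subgroup Ω} (hbig : Big F p Ps) (hn : F.IsFullyNormalized Ps)
    (hne : Ps ≠ S) {ℋ : Set (Subgroup Ω)} (hnot : ∀ A, F.IsConj A Ps → A ∉ ℋ)
    (hgen : ∀ E : FusionSystem S, (∀ P ∈ ℋ, F.Hom P ⊆ E.Hom P) → F ≤ E) (hA : F.IsConj A Ps) :
    Reach F Ps A := by
  obtain ⟨f, hf, hfr⟩ := isConj_iff.mp hA
  have key := class_induction hS hn.1 hne hnot hgen
    (fun A f => ∀ B : Subgroup Ω, f '' A = (B : Set Ω) → (Reach F Ps A ↔ Reach F Ps B))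
    (fun h e B hB => h B ((Set.image_congr e).trans hB))
    (fun {A B f g} hA hf hB h hg h' C hC => by
      obtain ⟨C', -, hC'⟩ := hg.exists_image
      obtain rfl : C' = C := SetLike.coe_injective ((image_comp hB hC').symm.trans hC)
      exact (h B hB).trans (h' C' hC'))
    (fun {A B f g} hA hf hB h hg hgf C hC => by
      obtain rfl : C = A := SetLike.coe_injective (hC.symm.trans (by
        rw [← hB, Set.image_image]; exact (Set.image_congr fun x hx => hgf x hx).trans (Set.image_id _)))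
      exact (h B hB).symm)
    (fun {A K f} hA hlt hKN hf B hB => by
      refine ⟨fun hr => ?_, reach_of_edge hS hbig hn _ A B K f (Nat.lt_succ_self _) hA hlt hKN hf hB⟩
      obtain ⟨J, hJS, hJ⟩ := hf.exists_image
      obtain ⟨g, hg, -, hg₁, -⟩ := hf.exists_inv hJ
      have hBJ : B ≤ J := fun y hy => by
        obtain ⟨x, hx, rfl⟩ := exists_of_image hB hy
        exact mem_of_image hJ (hlt.le hx)
      have hJN : J ≤ normalizerIn S B := fun y hy => by
        obtain ⟨x, hx, rfl⟩ := exists_of_image hJ hy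
        exact maps_normalizer hlt.le hf hB hKN x hx
      have hgB : g '' B = (A : Set Ω) := by
        rw [← hB, Set.image_image]
        exact (Set.image_congr fun x hx => hg₁ x (hlt.le hx)).trans (Set.image_id _)
      refine reach_of_edge hS hbig hn _ B A J g (Nat.lt_succ_self _)
        (isConj_trans (isConj_symm ((hf.mono hlt.le).isConj hB)) hA) (lt_of_le_of_ne hBJ fun h => ?_) hJN hg hgB hr
      have h1 := hf.card_image hJ
      have h2 := (hf.mono hlt.le).card_image hB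
      have h3 := FusionNormal.card_lt_card hf.le_S hlt
      rw [h] at h2
      omega)
    A f hA hf Ps hfr
  exact key.mpr ⟨id, mapFn_id normalizerIn_le, Set.image_id _⟩

/-! ### The extension subgroup -/

theorem pCore_map_conj_mem {a b : MulAut P} (ha : a ∈ F.autGroup P)
    (hb : b ∈ (pCore p (F.autGroup P)).map (F.autGroup P).subtype) :
    a * b * a⁻¹ ∈ (pCore p (F.autGroup P)).map (F.autGroup P).subtype := by
  obtain ⟨b, hb, rfl⟩ := hb
  exact ⟨⟨a, ha⟩ * b * ⟨a, ha⟩⁻¹, (pCore_normal p _).conj_mem b hb ⟨a, ha⟩, rfl⟩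

/-- The elements of `N_S(P)` acting on `P` through `O_p(Aut_F(P))`. -/
def coreExt (F : FusionSystem S) (p : ℕ) (P : Subgroup Ω) : Subgroup Ω where
  carrier := {g | g ∈ normalizerIn S P ∧ ∃ o ∈ (pCore p (F.autGroup P)).map (F.autGroup P).subtype,
    ∀ x : P, ((o x : P) : Ω) = g * (x : Ω) * g⁻¹}
  one_mem' := ⟨Subgroup.one_mem _, 1, Subgroup.one_mem _, fun x => by simp⟩
  mul_mem' := by
    rintro g h ⟨hg, α, hα, hαe⟩ ⟨hh, β, hβ, hβe⟩
    refine ⟨Subgroup.mul_mem _ hg hh, α * β, Subgroup.mul_mem _ hα hβ, fun x => ?_⟩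
    rw [MulAut.mul_apply, hαe, hβe]
    group
  inv_mem' := by
    rintro g ⟨hg, α, hα, hαe⟩
    refine ⟨Subgroup.inv_mem _ hg, α⁻¹, Subgroup.inv_mem _ hα, fun x => ?_⟩
    obtain ⟨y, rfl⟩ := α.surjective x
    rw [MulAut.inv_apply_self, hαe]
    group

theorem coreExt_le : coreExt F p P ≤ normalizerIn S P := fun _ h => h.1

theorem le_normalizer_coreExt (hP : P ≤ S) :
    ∀ h ∈ normalizerIn S P, h ∈ Subgroup.normalizer (coreExt F p P : Set Ω) := by
  intro h hh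
  have := finite_of_le ((coreExt_le (F := F) (p := p) (P := P)).trans normalizerIn_le)
  refine mem_normalizer_of_forall fun g hg => ?_
  obtain ⟨hgN, o, ho, hoe⟩ := hg
  obtain ⟨c, hc, hce⟩ := exists_autInducedBy (K := S) hh.1 hh.2
  refine ⟨Subgroup.mul_mem _ (Subgroup.mul_mem _ hh hgN) (Subgroup.inv_mem _ hh), c * o * c⁻¹,
    pCore_map_conj_mem (autInducedBy_le_autGroup hP hc) ho, fun x => ?_⟩
  obtain ⟨y, rfl⟩ := c.surjective x
  rw [MulAut.mul_apply, MulAut.mul_apply, MulAut.inv_apply_self, hce, hoe, hce]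
  group

theorem le_coreExt (hS : IsPGroup p S) (hP : P ≤ S) : P ≤ coreExt F p P := by
  intro g hg
  refine ⟨le_normalizerIn hP hg, MulAut.conj ⟨g, hg⟩, ?_, fun x => rfl⟩
  refine ⟨⟨MulAut.conj ⟨g, hg⟩, inn_le_autGroup hP (mem_inn.mpr ⟨⟨g, hg⟩, fun _ => rfl⟩)⟩, ?_, rfl⟩
  refine PCore.le_pCore (N := (Inn P).subgroupOf (F.autGroup P)) ?_ ?_
    (Subgroup.mem_subgroupOf.mpr (mem_inn.mpr ⟨⟨g, hg⟩, fun _ => rfl⟩))
  · refine ⟨fun b hb c => Subgroup.mem_subgroupOf.mpr ?_⟩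
    obtain ⟨z, hz⟩ := mem_inn.mp (Subgroup.mem_subgroupOf.mp hb)
    refine mem_inn.mpr ⟨(c : MulAut P) z, fun x => ?_⟩
    simp [hz, MulAut.inv_apply]
  · exact ((isPGroup_autInducedBy hS P).to_le (inn_le_autInducedBy hP)).comap_subtype

theorem mapFn_coreExt {Ps : Subgroup Ω} (hPs : Ps ≤ S) {f : Ω → Ω} (hf : MapFn F K f) (hPK : Ps ≤ K)
    (hKN : K ≤ normalizerIn S Ps) (hfP : f '' Ps = (Ps : Set Ω)) {x : Ω} (hx : x ∈ K)
    (hxX : x ∈ coreExt F p Ps) : f x ∈ coreExt F p Ps := by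
  obtain ⟨-, o, ho, hoe⟩ := hxX
  obtain ⟨a, ha, hae⟩ := (hf.mono hPK).exists_aut hfP
  refine ⟨maps_normalizer hPK hf hfP hKN x hx, a * o * a⁻¹, pCore_map_conj_mem ha ho, fun y => ?_⟩
  obtain ⟨z, rfl⟩ := a.surjective y
  rw [MulAut.mul_apply, MulAut.mul_apply, MulAut.inv_apply_self, hae, hoe, hae, hf.map_conj hx (hPK z.2)]

/-- An automorphism of `Ps` with a larger domain extends to `coreExt`. -/
theorem exists_ext_coreExt (hS : IsPGroup p S) {Ps : Subgroup Ω} (hbig : Big F p Ps)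
    (hn : F.IsFullyNormalized Ps) (hreach : ∀ A, F.IsConj A Ps → Reach F Ps A) :
    ∀ (n : ℕ) (K : Subgroup Ω) (f : Ω → Ω), Nat.card S - Nat.card K < n → Ps < K → K ≤ normalizerIn S Ps →
      MapFn F K f → f '' Ps = (Ps : Set Ω) →
      ∃ e, MapFn F (coreExt F p Ps) e ∧ e '' (coreExt F p Ps : Set Ω) = (coreExt F p Ps : Set Ω) ∧
        ∀ x ∈ Ps, e x = f x := by
  intro n
  induction n with
  | zero => intro K f h; omega
  | succ n ih =>
  intro K f hlt hPK hKN hf hfP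
  have hPsS := hn.1
  set X := coreExt F p Ps with hX
  have hXS : X ≤ S := coreExt_le.trans normalizerIn_le
  have hKS := hKN.trans normalizerIn_le
  by_cases hXK : X ≤ K
  · exact ⟨f, hf.mono hXK, (hf.mono hXK).image_eq_of_maps hXS
      (fun x hx => mapFn_coreExt hPsS hf hPK.le hKN hfP (hXK hx) hx) le_rfl, fun _ _ => rfl⟩
  obtain ⟨K', hK'S, hK'⟩ := hf.exists_image
  have hPK' : Ps ≤ K' := fun y hy => by
    obtain ⟨x, hx, rfl⟩ := exists_of_image hfP hy
    exact mem_of_image hK' (hPK.le hx)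
  have hK'N : K' ≤ normalizerIn S Ps := fun y hy => by
    obtain ⟨x, hx, rfl⟩ := exists_of_image hK' hy
    exact maps_normalizer hPK.le hf hfP hKN x hx
  obtain ⟨fi, hfi, hfir, hfi₁, hfi₂⟩ := hf.exists_inv hK'
  have hfiP : fi '' Ps = (Ps : Set Ω) := by
    conv_lhs => rw [← hfP, Set.image_image]
    exact (Set.image_congr fun x hx => hfi₁ x (hPK.le hx)).trans (Set.image_id _)
  have hXK' : ¬ X ≤ K' := fun h => hXK fun x hx => by
    have := finite_of_le hXS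
    obtain ⟨y, hy, rfl⟩ := exists_of_image ((hfi.mono h).image_eq_of_maps hXS
      (fun y hy => mapFn_coreExt hPsS hfi hPK' hK'N hfiP (h hy) hy) le_rfl) hx
    exact mem_of_image hfir (h hy)
  have grow : ∀ J : Subgroup Ω, J ≤ normalizerIn S Ps → Ps ≤ J → ¬ X ≤ J →
      J < J ⊔ (X ⊓ Subgroup.normalizer (J : Set Ω)) := by
    intro J hJN hPJ hXJ
    have hJS : J ≤ S := hJN.trans normalizerIn_le
    refine lt_of_le_of_ne le_sup_left fun h => ?_
    have hJX : J ≤ Subgroup.normalizer (X : Set Ω) := fun j hj => le_normalizer_coreExt hPsS j (hJN hj)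
    have hlt' : J < J ⊔ X := lt_of_le_of_ne le_sup_left fun h' => hXJ (le_sup_right.trans h'.ge)
    obtain ⟨g, hg, hgJ⟩ := SetLike.exists_of_lt (Fusion.lt_normalizerIn hS (sup_le hJS hXS) hlt')
    have hg1 : g ∈ ((J ⊔ X : Subgroup Ω) : Set Ω) := hg.1
    rw [Subgroup.coe_mul_of_left_le_normalizer_right J X hJX] at hg1
    obtain ⟨k, hk, x, hx, rfl⟩ := hg1
    have hxN : x ∈ Subgroup.normalizer (J : Set Ω) := by
      have := Subgroup.mul_mem _ (Subgroup.inv_mem _ (Subgroup.le_normalizer hk)) hg.2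
      rwa [inv_mul_cancel_left] at this
    exact hgJ (J.mul_mem hk (h.symm ▸ Subgroup.mem_sup_right ⟨hx, hxN⟩))
  set M := X ⊓ Subgroup.normalizer (K : Set Ω) with hM
  set M' := X ⊓ Subgroup.normalizer (K' : Set Ω) with hM'
  set O := (pCore p (F.autGroup Ps)).map (F.autGroup Ps).subtype with hO
  have hOp : IsPGroup p O := by
    have := finite_mulAut hPsS
    exact (PCore.pCore_isPGroup (p := p)).map _
  obtain ⟨a, ha, hae⟩ := (hf.mono hPK.le).exists_aut hfP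
  have hc : Nat.card Ps < Nat.card K := FusionNormal.card_lt_card hKS hPK
  obtain ⟨m, hm, δ, δ', hδ, hδ', hrel⟩ := widen hS hbig hc hf hK'
    (Γ := F.autGroup K ⊓ resSet hPK.le O) (Γ₀ := F.autGroup K ⊓ resSet hPK.le (⊥ : Subgroup (MulAut Ps)))
    inf_le_left (inf_le_inf_left _ (resSet_mono _ bot_le))
    (fun u hu v hv => ⟨Subgroup.mul_mem _ (Subgroup.mul_mem _ hu.1 hv.1) (Subgroup.inv_mem _ hu.1),
      resSet_bot_conj _ hu.2 hv.2⟩)
    (fun u hu => by
      obtain ⟨k, hk⟩ := resSet_pow hPK.le hOp hu.2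
      exact ⟨k, Subgroup.pow_mem _ hu.1 _, hk⟩)
    (M := M) (M' := M') (fun g hg => ⟨hXS hg.1, hg.2⟩) (fun g hg => ⟨hXS hg.1, hg.2⟩)
    (fun g hg u hu hue => by
      obtain ⟨-, o, ho, hoe⟩ := hg.1
      exact ⟨hu, o, ho, fun x => (hue _).trans (hoe x).symm⟩)
    (fun g hg u hu hue => by
      obtain ⟨-, o, ho, hoe⟩ := hg.1
      refine ⟨hu, a⁻¹ * o * a, by
        have := pCore_map_conj_mem (Subgroup.inv_mem _ ha) ho
        rwa [inv_inv] at this, fun x => ?_⟩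
      refine hf.injOn (Subtype.mem _) (hPK.le (Subtype.mem _)) ((hue ⟨x, hPK.le x.2⟩).trans ?_)
      rw [MulAut.mul_apply, MulAut.mul_apply, ← hae ((a⁻¹ : MulAut Ps) _), MulAut.apply_inv_self, hoe, hae])
  have hδδ' : ∀ x ∈ Ps, δ' (f x) = δ x := fun x hx => by
    rw [hrel ⟨x, hPK.le hx⟩, resSet_fix hPK.le hm.2 ⟨x, hx⟩]
  obtain ⟨C, hCS, hC⟩ := (hδ.mono (hPK.le.trans le_sup_left)).exists_image
  have hδ'P : δ' '' Ps = (C : Set Ω) := by
    conv_lhs => rw [← hfP, Set.image_image]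
    exact (Set.image_congr hδδ').trans hC
  obtain ⟨gC, hgC, hgCC⟩ := hreach C (isConj_symm ((hδ.mono (hPK.le.trans le_sup_left)).isConj hC))
  have hLN : K ⊔ M ≤ normalizerIn S Ps := sup_le hKN (inf_le_left.trans coreExt_le)
  have hL'N : K' ⊔ M' ≤ normalizerIn S Ps := sup_le hK'N (inf_le_left.trans coreExt_le)
  have h₁ := grow K hKN hPK.le hXK
  have h₂ := grow K' hK'N hPK' hXK'
  have hcard₁ := FusionNormal.card_lt_card (hLN.trans normalizerIn_le) h₁
  have hcard₂ := FusionNormal.card_lt_card (hL'N.trans normalizerIn_le) h₂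
  have hcard₃ := card_le_card_S (hLN.trans (normalizerIn_le (S := S)))
  have hcard₄ := card_le_card_S (hL'N.trans (normalizerIn_le (S := S)))
  have hcK := hf.card_image hK'
  obtain ⟨e₁, he₁, he₁r, he₁e⟩ := ih (K ⊔ M) (gC ∘ δ) (by omega) (hPK.trans h₁) hLN
    (hδ.comp hgC fun y hy => maps_normalizer (hPK.le.trans le_sup_left) hδ hC hLN y hy) (image_comp hC hgCC)
  obtain ⟨e₂, he₂, he₂r, he₂e⟩ := ih (K' ⊔ M') (gC ∘ δ') (by omega) (lt_of_le_of_lt hPK' h₂) hL'N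
    (hδ'.comp hgC fun y hy => maps_normalizer (hPK'.trans le_sup_left) hδ' hδ'P hL'N y hy)
    (image_comp hδ'P hgCC)
  obtain ⟨e₂i, he₂i, he₂ir, he₂i₁, -⟩ := he₂.exists_inv he₂r
  refine ⟨e₂i ∘ e₁, he₁.comp he₂i fun y hy => mem_of_image he₁r hy, image_comp he₁r he₂ir, fun x hx => ?_⟩
  show e₂i (e₁ x) = f x
  have h5 : e₁ x = e₂ (f x) := by
    rw [he₁e x hx, he₂e _ (mem_of_image hfP hx)]
    show gC (δ x) = gC (δ' (f x))
    rw [hδδ' x hx]
  rw [h5, he₂i₁ _ (le_coreExt hS hPsS (mem_of_image hfP hx))]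

/-- All automorphisms of `Ps` extend to `coreExt`. -/
theorem exists_ext_of_aut (hS : IsPGroup p S) {Ps : Subgroup Ω} (hbig : Big F p Ps)
    (hn : F.IsFullyNormalized Ps) (hne : Ps ≠ S) {ℋ : Set (Subgroup Ω)}
    (hnot : ∀ A, F.IsConj A Ps → A ∉ ℋ)
    (hgen : ∀ E : FusionSystem S, (∀ P ∈ ℋ, F.Hom P ⊆ E.Hom P) → F ≤ E) {γ : Ω → Ω} (hγ : MapFn F Ps γ)
    (hγP : γ '' Ps = (Ps : Set Ω)) :
    ∃ e, MapFn F (coreExt F p Ps) e ∧ e '' (coreExt F p Ps : Set Ω) = (coreExt F p Ps : Set Ω) ∧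
      ∀ x ∈ Ps, e x = γ x := by
  have hPsS := hn.1
  have hreach : ∀ A, F.IsConj A Ps → Reach F Ps A := fun A hA => reach_all hS hbig hn hne hnot hgen hA
  set X := coreExt F p Ps with hX
  have key := class_induction hS hn.1 hne hnot hgen
    (fun A f => ∀ (B : Subgroup Ω) (gA gB : Ω → Ω), f '' A = (B : Set Ω) →
      MapFn F (normalizerIn S A) gA → gA '' A = (Ps : Set Ω) →
      MapFn F (normalizerIn S B) gB → gB '' B = (Ps : Set Ω) →
      ∃ e, MapFn F X e ∧ e '' X = (X : Set Ω) ∧ ∀ x ∈ A, e (gA x) = gB (f x))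
    (fun {A f g} h hfg B gA gB hB h1 h2 h3 h4 => by
      obtain ⟨e, he, her, hee⟩ := h B gA gB ((Set.image_congr hfg).trans hB) h1 h2 h3 h4
      exact ⟨e, he, her, fun x hx => by rw [hee x hx, hfg x hx]⟩)
    (fun {A B f g} hA hf hB h hg h' C gA gC hC h1 h2 h3 h4 => by
      obtain ⟨gB, hgB, hgBB⟩ := hreach B (isConj_trans (isConj_symm (hf.isConj hB)) hA)
      obtain ⟨C', -, hC'⟩ := hg.exists_image
      obtain rfl : C' = C := SetLike.coe_injective ((image_comp hB hC').symm.trans hC)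
      obtain ⟨e, he, her, hee⟩ := h B gA gB hB h1 h2 hgB hgBB
      obtain ⟨e', he', he'r, he'e⟩ := h' C' gB gC hC' hgB hgBB h3 h4
      refine ⟨e' ∘ e, he.comp he' fun y hy => mem_of_image her hy, image_comp her he'r, fun x hx => ?_⟩
      show e' (e (gA x)) = gC (g (f x))
      rw [hee x hx, he'e _ (mem_of_image hB hx)])
    (fun {A B f g} hA hf hB h hg hgf C gB gA hC h1 h2 h3 h4 => by
      obtain rfl : C = A := SetLike.coe_injective (hC.symm.trans (by
        rw [← hB, Set.image_image]; exact (Set.image_congr fun x hx => hgf x hx).trans (Set.image_id _)))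
      obtain ⟨e, he, her, hee⟩ := h B gA gB hB h3 h4 h1 h2
      obtain ⟨ei, hei, heir, hei₁, -⟩ := he.exists_inv her
      refine ⟨ei, hei, heir, fun y hy => ?_⟩
      obtain ⟨x, hx, rfl⟩ := exists_of_image hB hy
      rw [← hee x hx, hgf x hx, hei₁ _ (le_coreExt hS hPsS (mem_of_image h4 hx))])
    (fun {A K f} hA hlt hKN hf B gA gB hB h1 h2 h3 h4 => by
      obtain ⟨K₁, hK₁S, hK₁⟩ := (h1.mono hKN).exists_image
      obtain ⟨gi, hgi, hgir, hgi₁, -⟩ := (h1.mono hKN).exists_inv hK₁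
      have hPK₁ : Ps < K₁ := by
        refine lt_of_le_of_ne (fun y hy => ?_) fun h => ?_
        · obtain ⟨x, hx, rfl⟩ := exists_of_image h2 hy
          exact mem_of_image hK₁ (hlt.le hx)
        · have h5 := (h1.mono hKN).card_image hK₁
          rw [← h, IsConj.card_eq hA] at h5
          have := FusionNormal.card_lt_card (hKN.trans normalizerIn_le) hlt
          omega
      have hK₁N : K₁ ≤ normalizerIn S Ps := fun y hy => by
        obtain ⟨x, hx, rfl⟩ := exists_of_image hK₁ hy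
        exact maps_normalizer (le_normalizerIn (hlt.le.trans hf.le_S)) h1 h2 le_rfl x (hKN hx)
      have hmap := (hgi.comp hf fun y hy => mem_of_image hgir hy).comp h3
        fun y hy => maps_normalizer hlt.le hf hB hKN _ (mem_of_image hgir hy)
      have hfix : (gB ∘ f ∘ gi) '' Ps = (Ps : Set Ω) := by
        conv_lhs => rw [← h2, Set.image_image]
        rw [← h4, ← hB, Set.image_image]
        exact Set.image_congr fun x hx => by
          show gB (f (gi (gA x))) = gB (f x)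
          rw [hgi₁ x (hlt.le hx)]
      obtain ⟨e, he, her, hee⟩ := exists_ext_coreExt hS hbig hn hreach _ K₁ _ (Nat.lt_succ_self _) hPK₁ hK₁N
        hmap hfix
      refine ⟨e, he, her, fun x hx => ?_⟩
      rw [hee _ (mem_of_image h2 hx)]
      show gB (f (gi (gA x))) = _
      rw [hgi₁ x (hlt.le hx)])
    Ps γ (isConj_refl hPsS) hγ Ps id id hγP (mapFn_id normalizerIn_le) (Set.image_id _)
    (mapFn_id normalizerIn_le) (Set.image_id _)
  exact key

theorem fullyAutomized_of_ext (hS : IsPGroup p S) {Ps : Subgroup Ω} (hbig : Big F p Ps)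
    (hn : F.IsFullyNormalized Ps) (hlt : Ps < coreExt F p Ps) (hreach : ∀ A, F.IsConj A Ps → Reach F Ps A)
    (hext : ∀ γ, MapFn F Ps γ → γ '' Ps = (Ps : Set Ω) → ∃ e, MapFn F (coreExt F p Ps) e ∧
      e '' (coreExt F p Ps : Set Ω) = (coreExt F p Ps : Set Ω) ∧ ∀ x ∈ Ps, e x = γ x) :
    F.IsFullyAutomized p Ps := by
  have hPsS := hn.1
  set X := coreExt F p Ps with hX
  have hXS : X ≤ S := coreExt_le.trans normalizerIn_le
  have := finite_mulAut hPsS
  have := finite_mulAut hXS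
  obtain ⟨T, hT⟩ := ((isPGroup_autInducedBy hS Ps).comap_subtype (K := F.autGroup Ps)).exists_le_sylow
  refine ⟨hPsS, T, ?_⟩
  set T' := (T : Subgroup (F.autGroup Ps)).map (F.autGroup Ps).subtype with hT'
  have hT'p : IsPGroup p T' := T.2.map _
  have hT'F : T' ≤ F.autGroup Ps := Subgroup.map_subtype_le _
  obtain ⟨n, hn₀, Sy, -, hSyΓ, hSyp, -, hdec⟩ := exists_conj_into (p := p)
    (Γ := F.autGroup X ⊓ resSet hlt.le T') (Γ₀ := F.autGroup X ⊓ resSet hlt.le (⊥ : Subgroup (MulAut Ps)))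
    (A := ⊥) (B := ⊥)
    (inf_le_inf_left _ (resSet_mono _ bot_le))
    (fun u hu v hv => ⟨Subgroup.mul_mem _ (Subgroup.mul_mem _ hu.1 hv.1) (Subgroup.inv_mem _ hu.1),
      resSet_bot_conj _ hu.2 hv.2⟩)
    (fun u hu => by
      obtain ⟨k, hk⟩ := resSet_pow hlt.le hT'p hu.2
      exact ⟨k, Subgroup.pow_mem _ hu.1 _, hk⟩)
    bot_le IsPGroup.of_bot bot_le IsPGroup.of_bot
  obtain ⟨Q, -, φ, hφ, hφr, hφs⟩ := exists_target hbig hXS (FusionNormal.card_lt_card hXS hlt)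
    (hSyΓ.trans inf_le_left) hSyp
  obtain ⟨δ, hδ, hδe⟩ := mapFn_of_hom hφ
  obtain ⟨C, hCS, hC⟩ := (hδ.mono hlt.le).exists_image
  obtain ⟨gC, hgC, hgCC⟩ := hreach C (isConj_symm ((hδ.mono hlt.le).isConj hC))
  have hCN : C ≤ normalizerIn S C := le_normalizerIn hCS
  have hu : MapFn F Ps (gC ∘ δ) := (hδ.mono hlt.le).comp hgC fun y hy => hCN (mem_of_image hC hy)
  obtain ⟨u, huA, hue⟩ := hu.exists_aut (image_comp hC hgCC)
  have hconj : T'.map (MulAut.conj u).toMonoidHom ≤ autInducedBy S Ps := by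
    rintro _ ⟨t, ht, rfl⟩
    obtain ⟨γ, hγ, hγr, hγe⟩ := exists_mapFn_of_aut hPsS (hT'F ht)
    obtain ⟨e, he, her, hee⟩ := hext γ hγ hγr
    obtain ⟨b, hb, hbe⟩ := he.exists_aut her
    have hbT : ∀ x : Ps, ((b ⟨x, hlt.le x.2⟩ : X) : Ω) = ((t x : Ps) : Ω) := fun x => by
      rw [hbe, hee _ x.2, hγe]
    obtain ⟨m, hm, s, hs, hbms⟩ := hdec b ⟨hb, t, ht, hbT⟩
    obtain ⟨r, hr, hre⟩ := hφs s hs
    have hst : ∀ x : Ps, ((s ⟨x, hlt.le x.2⟩ : X) : Ω) = ((t x : Ps) : Ω) := fun x => by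
      rw [← hbT x, hbms, MulAut.mul_apply]
      obtain ⟨-, o, -, hoe⟩ := hSyΓ hs
      have h1 := resSet_fix hlt.le hm.2 (o x)
      rw [show s ⟨x, hlt.le x.2⟩ = ⟨((o x : Ps) : Ω), hlt.le (o x).2⟩ from Subtype.ext (hoe x), h1]
    have hrel : ∀ x : Ps, δ ((t x : Ps) : Ω) = r * δ x * r⁻¹ := fun x => by
      have h1 := hre ⟨x, hlt.le x.2⟩
      rw [hδe, hδe, hst x] at h1
      exact h1
    have hrN : r ∈ normalizerIn S C := by
      have := finite_of_le hCS
      refine ⟨hr, mem_normalizer_of_forall fun y hy => ?_⟩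
      obtain ⟨x, hx, rfl⟩ := exists_of_image hC hy
      rw [← hrel ⟨x, hx⟩]; exact mem_of_image hC (Subtype.mem _)
    refine mem_autInducedBy.mpr ⟨gC r, hgC.mem_S hrN, fun y => ?_⟩
    obtain ⟨x, rfl⟩ := u.surjective y
    show ((u (t (u⁻¹ (u x))) : Ps) : Ω) = _
    rw [MulAut.inv_apply_self, hue, hue]
    show gC (δ ((t x : Ps) : Ω)) = gC r * gC (δ x) * (gC r)⁻¹
    rw [hrel, hgC.map_conj hrN (hCN (mem_of_image hC x.2))]
  refine (eq_of_le_of_card_le hT ?_).symm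
  calc Nat.card (T : Subgroup (F.autGroup Ps)) = Nat.card T' :=
        (Nat.card_congr (Subgroup.equivMapOfInjective _ _ Subtype.coe_injective).toEquiv)
    _ = Nat.card (T'.map (MulAut.conj u).toMonoidHom) :=
        (Nat.card_congr (Subgroup.equivMapOfInjective _ _ (MulAut.conj u).injective).toEquiv)
    _ ≤ Nat.card (autInducedBy S Ps) := Subgroup.card_le_of_le hconj
    _ = Nat.card ((autInducedBy S Ps).subgroupOf (F.autGroup Ps)) :=
        (Nat.card_congr (Subgroup.subgroupOfEquivOfLe (autInducedBy_le_autGroup hPsS)).toEquiv).symm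

theorem receptive_of_ext (hS : IsPGroup p S) {Ps : Subgroup Ω} (hbig : Big F p Ps)
    (hn : F.IsFullyNormalized Ps) (hlt : Ps < coreExt F p Ps) (hreach : ∀ A, F.IsConj A Ps → Reach F Ps A)
    (hext : ∀ γ, MapFn F Ps γ → γ '' Ps = (Ps : Set Ω) → ∃ e, MapFn F (coreExt F p Ps) e ∧
      e '' (coreExt F p Ps : Set Ω) = (coreExt F p Ps : Set Ω) ∧ ∀ x ∈ Ps, e x = γ x)
    (hfa : F.IsFullyAutomized p Ps) : F.IsReceptive Ps := by
  have hPsS := hn.1
  set X := coreExt F p Ps with hX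
  have hXS : X ≤ S := coreExt_le.trans normalizerIn_le
  have := finite_mulAut hPsS
  -- extension of an automorphism
  have main : ∀ (γ : Ω → Ω) (N : Subgroup Ω), MapFn F Ps γ → γ '' Ps = (Ps : Set Ω) → N ≤ normalizerIn S Ps →
      (∀ g ∈ N, ∃ s ∈ S, ∀ x ∈ Ps, γ (g * x * g⁻¹) = s * γ x * s⁻¹) →
      ∃ k, MapFn F N k ∧ ∀ x ∈ Ps, k x = γ x := by
    intro γ N hγ hγP hN hsN
    obtain ⟨a, ha, hae⟩ := hγ.exists_aut hγP
    obtain ⟨e, he, her, hee⟩ := hext γ hγ hγP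
    set O' := (autInducedBy S Ps).map (MulAut.conj a⁻¹).toMonoidHom with hO'
    have hO'p : IsPGroup p O' := (isPGroup_autInducedBy hS Ps).map _
    have hOS : (pCore p (F.autGroup Ps)).map (F.autGroup Ps).subtype ≤ autInducedBy S Ps := by
      obtain ⟨-, T, hT⟩ := hfa
      rintro _ ⟨o, ho, rfl⟩
      exact (hT.le (PCore.pCore_le_sylow T ho) : (o : MulAut Ps) ∈ autInducedBy S Ps)
    have hsX : ∀ g ∈ X, ∃ s ∈ S, ∀ x ∈ Ps, γ (g * x * g⁻¹) = s * γ x * s⁻¹ := by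
      rintro g ⟨-, o, ho, hoe⟩
      obtain ⟨s, hs, hse⟩ := mem_autInducedBy.mp (hOS (pCore_map_conj_mem ha ho))
      refine ⟨s, hs, fun x hx => ?_⟩
      rw [← hoe ⟨x, hx⟩, ← hae, ← hae ⟨x, hx⟩, ← hse]
      simp
    obtain ⟨φγ, hφγ, hφγe⟩ := id hγ
    have hNX : ∀ g ∈ N ⊔ X, ∃ s ∈ S, ∀ x ∈ Ps, γ (g * x * g⁻¹) = s * γ x * s⁻¹ := by
      have hle : N ⊔ X ≤ extender S Ps φγ := by
        refine sup_le (fun g hg => ?_) fun g hg => ?_
        · obtain ⟨s, hs, hse⟩ := hsN g hg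
          exact mem_extender.mpr ⟨(hN hg).1, (hN hg).2, s, hs, fun x hx => by
            rw [hφγe, hφγe]; exact hse x x.2⟩
        · obtain ⟨s, hs, hse⟩ := hsX g hg
          exact mem_extender.mpr ⟨hXS hg, (coreExt_le hg).2, s, hs, fun x hx => by
            rw [hφγe, hφγe]; exact hse x x.2⟩
      intro g hg
      obtain ⟨-, hgN, s, hs, hse⟩ := mem_extender.mp (hle hg)
      refine ⟨s, hs, fun x hx => ?_⟩
      have := hse ⟨x, hx⟩ (conj_mem_of_normalizer hgN hx)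
      rwa [hφγe, hφγe] at this
    have hNXN : N ⊔ X ≤ normalizerIn S Ps := sup_le hN coreExt_le
    have hnX : normalizerIn S Ps ≤ normalizerIn S X := fun g hg => ⟨hg.1, le_normalizer_coreExt hPsS g hg⟩
    obtain ⟨m, hm, δ, δ', hδ, hδ', hrel⟩ := widen hS hbig (FusionNormal.card_lt_card hXS hlt) he her
      (Γ := F.autGroup X ⊓ resSet hlt.le O') (Γ₀ := F.autGroup X ⊓ resSet hlt.le (⊥ : Subgroup (MulAut Ps)))
      inf_le_left (inf_le_inf_left _ (resSet_mono _ bot_le))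
      (fun u hu v hv => ⟨Subgroup.mul_mem _ (Subgroup.mul_mem _ hu.1 hv.1) (Subgroup.inv_mem _ hu.1),
        resSet_bot_conj _ hu.2 hv.2⟩)
      (fun u hu => by
        obtain ⟨k, hk⟩ := resSet_pow hlt.le hO'p hu.2
        exact ⟨k, Subgroup.pow_mem _ hu.1 _, hk⟩)
      (M := N ⊔ X) (M' := normalizerIn S Ps) (hNXN.trans hnX) hnX
      (fun g hg u hu hue => by
        obtain ⟨s, hs, hse⟩ := hNX g hg
        obtain ⟨c, hc, hce⟩ := exists_autInducedBy (K := S) hs (P := Ps) (by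
          have := finite_of_le hPsS
          refine mem_normalizer_of_forall fun y hy => ?_
          obtain ⟨x, hx, rfl⟩ := exists_of_image hγP hy
          rw [← hse x hx]
          exact mem_of_image hγP (conj_mem_of_normalizer (hNXN hg).2 hx))
        refine ⟨hu, a⁻¹ * c * a, ⟨c, hc, by simp⟩, fun x => ?_⟩
        rw [hue]
        refine hγ.injOn (conj_mem_of_normalizer (hNXN hg).2 x.2) (Subtype.mem _) ?_
        rw [hse x x.2, MulAut.mul_apply, MulAut.mul_apply, ← hae ((a⁻¹ : MulAut Ps) _), MulAut.apply_inv_self, hce, hae])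
      (fun g hg u hu hue => by
        obtain ⟨c, hc, hce⟩ := exists_autInducedBy (K := S) hg.1 hg.2
        refine ⟨hu, a⁻¹ * c * a, ⟨c, hc, by simp⟩, fun x => ?_⟩
        refine he.injOn (Subtype.mem _) (hlt.le (Subtype.mem _)) ?_
        rw [hue, hee _ x.2, hee _ (Subtype.mem _), MulAut.mul_apply, MulAut.mul_apply, ← hae _,
          ← hae ((a⁻¹ : MulAut Ps) _), MulAut.apply_inv_self, hce])
    rw [sup_eq_right.mpr (le_sup_right : X ≤ N ⊔ X)] at hδ
    rw [sup_eq_right.mpr (coreExt_le : X ≤ normalizerIn S Ps)] at hδ'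
    have hPN : Ps ≤ normalizerIn S Ps := le_normalizerIn hPsS
    have hPM : Ps ≤ N ⊔ X := hlt.le.trans le_sup_right
    have hrelP : ∀ x ∈ Ps, δ' (γ x) = δ x := fun x hx => by
      rw [← hee x hx, hrel ⟨x, hlt.le hx⟩, resSet_fix hlt.le hm.2 ⟨x, hx⟩]
    obtain ⟨C, hCS, hC⟩ := (hδ.mono hPM).exists_image
    have hδ'P : δ' '' Ps = (C : Set Ω) := by
      conv_lhs => rw [← hγP, Set.image_image]
      exact (Set.image_congr hrelP).trans hC
    have hfull : δ' '' (normalizerIn S Ps : Set Ω) = (normalizerIn S C : Set Ω) :=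
      hδ'.image_eq_of_maps normalizerIn_le (maps_normalizer hPN hδ' hδ'P le_rfl)
        (hn.2 C ((hδ'.mono hPN).isConj hδ'P))
    obtain ⟨δi, hδi, hδir, hδi₁, -⟩ := hδ'.exists_inv hfull
    refine ⟨δi ∘ δ, (hδ.comp hδi (maps_normalizer hPM hδ hC hNXN)).mono le_sup_left, fun x hx => ?_⟩
    show δi (δ x) = γ x
    rw [← hrelP x hx, hδi₁ _ (hPN (mem_of_image hγP hx))]
  refine ⟨hPsS, fun A φ hφ hφr => ?_⟩
  have hAc : F.IsConj A Ps := ⟨φ, hφ, hφr⟩
  have hAS := le_S hφ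
  obtain ⟨g, hg, hgA⟩ := hreach A hAc
  obtain ⟨f, hf, hfe⟩ := mapFn_of_hom hφ
  have hfA : f '' A = (Ps : Set Ω) := by rw [MapFn.image_eq_range hfe, hφr]
  have hAN : A ≤ normalizerIn S A := le_normalizerIn hAS
  obtain ⟨gi, hgi, hgir, hgi₁, -⟩ := (hg.mono hAN).exists_inv hgA
  have hγ := hgi.comp hf fun y hy => mem_of_image hgir hy
  have hγP : (f ∘ gi) '' Ps = (Ps : Set Ω) := image_comp hgir hfA
  set N := extender S A φ with hNdef
  have hNA : N ≤ normalizerIn S A := extender_le_normalizerIn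
  have hAN' : A ≤ N := le_extender hAS (apply_mem_S hφ)
  obtain ⟨N₁, -, hN₁⟩ := (hg.mono hNA).exists_image
  have hgN := maps_normalizer hAN hg hgA le_rfl
  obtain ⟨k, hk, hke⟩ := main (f ∘ gi) N₁ hγ hγP
    (fun y hy => by
      obtain ⟨x, hx, rfl⟩ := exists_of_image hN₁ hy
      exact hgN x (hNA hx))
    (fun y hy => by
      obtain ⟨x, hx, rfl⟩ := exists_of_image hN₁ hy
      obtain ⟨-, hxN, s, hs, hse⟩ := mem_extender.mp hx
      refine ⟨s, hs, fun z hz => ?_⟩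
      obtain ⟨w, hw, rfl⟩ := exists_of_image hgA hz
      have hm := conj_mem_of_normalizer hxN hw
      rw [← hg.map_conj (hNA hx) (hAN hw)]
      show f (gi (g (x * w * x⁻¹))) = s * f (gi (g w)) * s⁻¹
      rw [hgi₁ _ hm, hgi₁ w hw, ← hfe ⟨_, hm⟩, ← hfe ⟨w, hw⟩]
      exact hse ⟨w, hw⟩ hm)
  obtain ⟨ψ, hψ, hψe⟩ := (hg.mono hNA).comp hk fun x hx => mem_of_image hN₁ hx
  refine ⟨ψ, hψ, fun x hx hxN => ?_⟩
  rw [hψe]
  show k (g x) = _
  rw [hke _ (mem_of_image hgA hx)]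
  show f (gi (g x)) = _
  rw [hgi₁ x hx]
  exact (hfe ⟨x, hx⟩).symm

/-- The hypothesis on centric subgroups makes `coreExt` larger. -/
theorem lt_coreExt (hS : IsPGroup p S) {Ps : Subgroup Ω} (hn : F.IsFullyNormalized Ps)
    (hreach : ∀ A, F.IsConj A Ps → Reach F Ps A)
    (hstar : F.IsCentric Ps → ∃ Q, F.IsConj Ps Q ∧
      ¬ (autInducedBy S Q ⊓ (pCore p (F.autGroup Q)).map (F.autGroup Q).subtype ≤ Inn Q)) :
    Ps < coreExt F p Ps := by
  have hPsS := hn.1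
  refine lt_of_le_of_ne (le_coreExt hS hPsS) fun heq => ?_
  by_cases hcen : F.IsCentric Ps
  · obtain ⟨Q, hQ, hQn⟩ := hstar hcen
    obtain ⟨a, ⟨haS, haO⟩, hai⟩ := SetLike.not_le_iff_exists.mp hQn
    obtain ⟨g, hg, hge⟩ := mem_autInducedBy.mp haS
    have hQS := IsConj.le_right hQ
    have hgN : g ∈ normalizerIn S Q := ⟨hg, mem_normalizer_of_aut hge⟩
    obtain ⟨f, hf, hfQ⟩ := hreach Q (isConj_symm hQ)
    have hQN := le_normalizerIn hQS
    obtain ⟨φ, hφ, hφe⟩ := hf.mono hQN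
    have hφr : φ.range = Ps := SetLike.coe_injective (by rw [← MapFn.image_eq_range hφe, hfQ])
    obtain ⟨e, he⟩ := exists_equiv hφ hφr
    have hmem : (MulAut.congr e).toMonoidHom a ∈
        (pCore p (F.autGroup Ps)).map (F.autGroup Ps).subtype := by
      have := finite_mulAut hQS
      set N := (((pCore p (F.autGroup Q)).map (F.autGroup Q).subtype).map
        (MulAut.congr e).toMonoidHom).subgroupOf (F.autGroup Ps) with hN
      have hNn : N.Normal := by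
        refine ⟨fun b hb c => ?_⟩
        obtain ⟨b', hb', hb'e⟩ := hb
        obtain ⟨c', hc', hc'e⟩ := (map_autGroup hφ he).ge c.2
        refine ⟨c' * b' * c'⁻¹, pCore_map_conj_mem hc' hb', ?_⟩
        rw [map_mul, map_mul, map_inv, hb'e, hc'e]
        rfl
      have hNp : IsPGroup p N := (((PCore.pCore_isPGroup (p := p)).map _).map _).comap_subtype
      have haF : (MulAut.congr e).toMonoidHom a ∈ F.autGroup Ps :=
        (map_autGroup hφ he).le ⟨a, Subgroup.map_subtype_le _ haO, rfl⟩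
      exact ⟨⟨_, haF⟩, PCore.le_pCore hNn hNp ⟨a, haO, rfl⟩, rfl⟩
    have hfg : f g ∈ coreExt F p Ps := by
      refine ⟨maps_normalizer hQN hf hfQ le_rfl g hgN, _, hmem, fun y => ?_⟩
      obtain ⟨x, rfl⟩ := e.surjective y
      show ((MulAut.congr e a (e x) : Ps) : Ω) = _
      rw [he, hφe, ← hf.map_conj hgN (hQN x.2), ← hge, ← hφe, ← he]
      simp [MulAut.congr]
    rw [← heq] at hfg
    obtain ⟨x, hx, hxe⟩ := exists_of_image hfQ hfg
    exact hai ((mem_inn.mpr ⟨⟨g, hf.injOn (hQN hx) hgN hxe ▸ hx⟩, fun z => Subtype.ext (hge z)⟩))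
  · obtain ⟨Q, hQ, c, hc, hcQ⟩ : ∃ Q, F.IsConj Ps Q ∧ ∃ c ∈ centralizerIn S Q, c ∉ Q := by
      by_contra h
      exact hcen ⟨hPsS, fun Q hQ c hc => by_contra fun hcQ => h ⟨Q, hQ, c, hc, hcQ⟩⟩
    obtain ⟨f, hf, hfQ⟩ := hreach Q (isConj_symm hQ)
    have hQN := le_normalizerIn (IsConj.le_right hQ)
    have hcN := centralizerIn_le_normalizerIn hc
    obtain ⟨hfS, hfC⟩ := mem_centralizerIn.mp (hf.mem_centralizerIn hQN hfQ hcN hc)
    have hfc : f c ∈ coreExt F p Ps :=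
      ⟨maps_normalizer hQN hf hfQ le_rfl c hcN, 1, Subgroup.one_mem _, fun y => by
        rw [MulAut.one_apply, ← hfC y y.2, mul_inv_cancel_right]⟩
    rw [← heq] at hfc
    obtain ⟨x, hx, hxe⟩ := exists_of_image hfQ hfc
    exact hcQ (hf.injOn (hQN hx) hcN hxe ▸ hx)

/-- The saturation criterion. -/
theorem saturated_of_family (hS : IsPGroup p S) {ℋ : Set (Subgroup Ω)}
    (hℋconj : ∀ P ∈ ℋ, ∀ Q, F.IsConj P Q → Q ∈ ℋ)
    (hsat : ∀ P ∈ ℋ, ∃ Q, F.IsConj P Q ∧ F.IsFullyAutomized p Q ∧ F.IsReceptive Q)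
    (hgen : ∀ E : FusionSystem S, (∀ P ∈ ℋ, F.Hom P ⊆ E.Hom P) → F ≤ E)
    (hstar : ∀ P : Subgroup Ω, F.IsCentric P → P ∉ ℋ → ∃ Q, F.IsConj P Q ∧
      ¬ (autInducedBy S Q ⊓ (pCore p (F.autGroup Q)).map (F.autGroup Q).subtype ≤ Inn Q)) :
    F.IsSaturated p := by
  suffices H : ∀ (n : ℕ) (P : Subgroup Ω), P ≤ S → Nat.card S - Nat.card P < n →
      ∃ Q, F.IsConj P Q ∧ F.IsFullyAutomized p Q ∧ F.IsReceptive Q from
    fun P hP => H _ P hP (Nat.lt_succ_self _)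
  intro n
  induction n with
  | zero => intro P _ h; omega
  | succ n ih =>
  intro P hP hlt
  by_cases hPH : P ∈ ℋ
  · exact hsat P hPH
  have hPne : P ≠ S := by
    intro h
    have hcen : F.IsCentric P := by
      refine ⟨hP, fun Q hQ => ?_⟩
      rw [eq_of_le_of_card_le (IsConj.le_right hQ) (by rw [IsConj.card_eq hQ, h])]
      exact inf_le_left
    obtain ⟨Q, hQ, hQn⟩ := hstar P hcen hPH
    refine hQn ?_
    rw [eq_of_le_of_card_le (IsConj.le_right hQ) (by rw [IsConj.card_eq hQ, h]), autInducedBy_self]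
    exact inf_le_left
  obtain ⟨Ps, hPPs, hn⟩ := exists_fullyNormalized (F := F) hP
  have hcard := IsConj.card_eq hPPs
  have hne : Ps ≠ S := fun h => hPne (eq_of_le_of_card_le hP (by rw [← hcard, h]))
  have hbig : Big F p Ps := fun R hR hc => ih R hR (by
    have := card_le_card_S hR
    omega)
  have hnot : ∀ A, F.IsConj A Ps → A ∉ ℋ := fun A hA hAH =>
    hPH (hℋconj A hAH P (isConj_trans hA (isConj_symm hPPs)))
  have hreach : ∀ A, F.IsConj A Ps → Reach F Ps A := fun A hA => reach_all hS hbig hn hne hnot hgen hA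
  have hX := lt_coreExt hS hn hreach fun hc => hstar Ps hc (hnot Ps (isConj_refl hn.1))
  have hext := fun γ (h1 : MapFn F Ps γ) (h2 : γ '' Ps = (Ps : Set Ω)) =>
    exists_ext_of_aut hS hbig hn hne hnot hgen h1 h2
  have hfa := fullyAutomized_of_ext hS hbig hn hX hreach hext
  exact ⟨Ps, hPPs, hfa, receptive_of_ext hS hbig hn hX hreach hext hfa⟩

end CfsgLib.Fusion.SatCrit
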