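import Cfsg.Agent.Lib.Fusion.MeetSystem
import Cfsg.Agent.Lib.Fusion.SaturationCriterion

/-!
# The meet of invariant subsystems, VI: saturation

By descending induction on the order every subgroup has a fully automized receptive conjugate in the
generated system, and the automorphisms of the subgroups centric in `T` are exactly the `JMap`s.
-/

set_option autoImplicit false

namespace CfsgLib.Meet

open Cfsg Cfsg.FusionSystem CfsgLib.Fusion CfsgLib.FusionNormal CfsgLib.Fusion.PPrimeRes CfsgLib.Fusion.SatCrit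

variable {Ω : Type*} [Group Ω] {S : Subgroup Ω} {F : FusionSystem S} {p : ℕ} {T : Subgroup Ω}
variable {P Q R K M A V H X : Subgroup Ω} [Finite S] (D : Datum F p T)

/-- The image of a fully normalized subgroup of the whole system under an automorphism of `T`. -/
def Good (X : Subgroup Ω) : Prop :=
  TCentric F T X ∧ ∃ (X₀ : Subgroup Ω) (a : Ω → Ω),
    F.IsFullyNormalized X₀ ∧ TCentric F T X₀ ∧ MapFn F T a ∧ a '' X = (X₀ : Set Ω)

/-- Every automorphism of `X` in the generated system is a `JMap`. -/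
def Auto (X : Subgroup Ω) : Prop :=
  ∀ f, MapFn (jSys D) X f → f '' X = (X : Set Ω) → JMap D X f

/-- The elements of `N_T(X)` acting on `X` through `R` and the inner automorphisms. -/
def pre (T X : Subgroup Ω) (R : Subgroup (MulAut X)) : Subgroup Ω where
  carrier := {t | t ∈ normalizerIn T X ∧ ∃ r ∈ R ⊔ autInducedBy X X, ∀ x : X, ((r x : X) : Ω) = t * x * t⁻¹}
  one_mem' := ⟨Subgroup.one_mem _, 1, Subgroup.one_mem _, fun x => by simp⟩
  mul_mem' := by
    rintro s t ⟨hs, r, hr, hre⟩ ⟨ht, r', hr', hr'e⟩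
    refine ⟨Subgroup.mul_mem _ hs ht, r * r', Subgroup.mul_mem _ hr hr', fun x => ?_⟩
    rw [MulAut.mul_apply, hre, hr'e]
    group
  inv_mem' := by
    rintro s ⟨hs, r, hr, hre⟩
    refine ⟨Subgroup.inv_mem _ hs, r⁻¹, Subgroup.inv_mem _ hr, fun x => ?_⟩
    obtain ⟨y, rfl⟩ := r.surjective x
    rw [MulAut.inv_apply_self, hre]
    group

theorem pre_le {R : Subgroup (MulAut X)} : pre T X R ≤ normalizerIn T X := fun _ h => h.1

theorem le_pre (hX : X ≤ T) {R : Subgroup (MulAut X)} : X ≤ pre T X R := fun u hu => by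
  obtain ⟨c, hc, hce⟩ := exists_autInducedBy (K := X) hu (Subgroup.le_normalizer hu)
  exact ⟨⟨hX hu, Subgroup.le_normalizer hu⟩, c, Subgroup.mem_sup_right hc, hce⟩

theorem pre_mono {R R' : Subgroup (MulAut X)} (h : R ≤ R') : pre T X R ≤ pre T X R' :=
  fun _ ⟨ht, r, hr, hre⟩ => ⟨ht, r, sup_le_sup_right h _ hr, hre⟩

variable [Fact p.Prime]

theorem jSys_hST (hS : IsPGroup p S) (D : Datum F p T) : IsPGroup p T := hS.to_le D.le_S'

theorem exists_good (hS : IsPGroup p S) (hF : F.IsSaturated p) (hA : TCentric F T A) :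
    ∃ (X : Subgroup Ω) (g : Ω → Ω), Good (F := F) (T := T) X ∧ MapFn (jSys D) (normalizerIn T A) g ∧
      g '' A = (X : Set Ω) := by
  obtain ⟨X₀, h, hn, hX₀c, hh, hhA, -⟩ := exists_tcentric_fn D hS hF hA
  have hle : normalizerIn T A ≤ normalizerIn S A := inf_le_inf_right _ D.le_S'
  obtain ⟨a, j, ha, har, hj, he⟩ := split_F D hS hF (hh.mono hle)
  rw [inf_eq_left.mpr (normalizerIn_le : normalizerIn T A ≤ T)] at hj he
  have hAN : A ≤ normalizerIn T A := le_normalizerIn hA.le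
  obtain ⟨X, -, hX⟩ := (hj.mono hAN).exists_image
  refine ⟨X, j, ⟨tcentric_map hA D.sc ((jSys_sub D hj).mono hAN) hX, X₀, a, hn, hX₀c, ha, ?_⟩, hj, hX⟩
  rw [← hX, Set.image_image, ← hhA]
  exact Set.image_congr fun x hx => (he x (hAN hx)).symm

include D in
theorem good_card (hS : IsPGroup p S) (hF : F.IsSaturated p) (hX : Good (F := F) (T := T) X)
    (hV : F.IsConj X V) : Nat.card (normalizerIn T V) ≤ Nat.card (normalizerIn T X) := by
  obtain ⟨hXc, X₀, a, hn, hX₀c, ha, haX⟩ := hX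
  have hc : F.IsConj V X₀ := isConj_trans (isConj_symm hV) ((ha.mono hXc.le).isConj haX)
  obtain ⟨h, hh, hhV, hhN⟩ := exists_normalizer_mapFn hS hF hn hc
  obtain ⟨b, hb, hbr, hb₁, hb₂⟩ := ha.exists_inv (image_T D.sc ha le_rfl)
  have hbX : b '' X₀ = (X : Set Ω) := by
    rw [← haX, Set.image_image]
    exact (Set.image_congr fun x hx => hb₁ x (hXc.le hx)).trans (Set.image_id' _)
  have hsub : normalizerIn T V ≤ normalizerIn S V := inf_le_inf_right _ D.le_S'
  have hm : ∀ t ∈ normalizerIn T V, h t ∈ T := fun t ht => mapFn_mem D.sc hh (hsub ht) ht.1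
  obtain ⟨φ, hφ, hφe⟩ := (hh.mono hsub).comp hb hm
  refine card_le_of_map hφ (normalizerIn_le.trans D.le_S') fun t => ?_
  rw [hφe]
  exact ⟨mem_of_image hbr (hm t t.2), (hb.mem_normalizerIn hX₀c.le hbX (hm t t.2) (hhN t (hsub t.2)).2).2⟩

theorem good_fullyNormalized (hS : IsPGroup p S) (hF : F.IsSaturated p) (hX : Good (F := F) (T := T) X) :
    (jSys D).IsFullyNormalized X := by
  refine ⟨hX.1.le, fun V hV => good_card D hS hF hX ?_⟩
  obtain ⟨f, hf, hfV⟩ := isConj_iff.mp hV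
  exact (jSys_sub D hf).isConj hfV

theorem good_sylow (hS : IsPGroup p S) (hF : F.IsSaturated p) (hX : Good (F := F) (T := T) X) :
    SylIn p (autInducedBy T X) (jAut D (hX.1.le.trans D.le_S')) := by
  obtain ⟨hXc, X₀, a, hn, hX₀c, ha, haX⟩ := hX
  have hXS := hXc.le.trans D.le_S'
  have hX₀S := hX₀c.le.trans D.le_S'
  have := finite_mulAut hXS
  have := finite_mulAut hX₀S
  have ham := ha.mono hXc.le
  obtain ⟨φ, hφ, hφe⟩ := id ham
  obtain ⟨e, he⟩ := exists_equiv hφ (Q := X₀) (SetLike.coe_injective (by rw [← MapFn.image_eq_range hφe, haX]))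
  have hee : ∀ x : X, ((e x : X₀) : Ω) = a x := fun x => (he x).trans (hφe x)
  set Φ := (MulAut.congr e).toMonoidHom with hΦ
  have hΦi : Function.Injective Φ := (MulAut.congr e).injective
  refine sylIn_of_card (fun α hα => ?_) (isPGroup_autInducedBy (hS.to_le D.le_S') X) fun U _ hUK hU => ?_
  · obtain ⟨t, ht, hte⟩ := mem_autInducedBy.mp hα
    exact (jMap_conj D hS hF hXc.le ⟨ht, mem_normalizer_of_aut hte⟩).congr D fun x hx => (ev_conj_of hte hx).symm
  have h1 : U.map Φ ≤ jAut D hX₀S := by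
    rintro _ ⟨α, hα, rfl⟩
    refine (hUK hα).transport D ham haX fun x hx => ?_
    rw [ev_coe α hx, ← hee ⟨x, hx⟩, ← hee (α ⟨x, hx⟩), ev_val]
    simp [Φ, MulAut.congr]
  have h2 := (sylIn_jAut D hS hF hX₀c.le hX₀c hn).card_le (hU.map Φ) h1
  rw [← Nat.card_congr (U.equivMapOfInjective Φ hΦi).toEquiv] at h2
  refine h2.trans ?_
  have h3 : autInducedBy T X₀ ≤ (autInducedBy T X).map Φ := fun β hβ => by
    obtain ⟨t, ht, hte⟩ := mem_autInducedBy.mp hβ
    obtain ⟨u, hu, rfl⟩ := exists_of_image (image_T D.sc ha le_rfl) ht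
    have huN : u ∈ Subgroup.normalizer (X : Set Ω) := by
      have := finite_of_le hXS
      refine mem_normalizer_of_forall fun x hx => ?_
      obtain ⟨z, hz, hze⟩ := exists_of_image haX
        (conj_mem_of_normalizer (mem_normalizer_of_aut hte) (mem_of_image haX hx))
      rw [← ha.map_conj hu (hXc.le hx)] at hze
      rw [← ha.injOn (hXc.le hz) (T.mul_mem (T.mul_mem hu (hXc.le hx)) (T.inv_mem hu)) hze]
      exact hz
    obtain ⟨c, hc, hce⟩ := exists_autInducedBy (K := T) hu huN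
    refine ⟨c, hc, MulEquiv.ext fun y => Subtype.ext ?_⟩
    obtain ⟨x, rfl⟩ := e.surjective y
    rw [hte, hee, ← ha.map_conj hu (hXc.le x.2), ← hce, ← hee]
    simp [Φ, MulAut.congr]
  refine (Subgroup.card_le_of_le h3).trans ?_
  rw [← Nat.card_congr ((autInducedBy T X).equivMapOfInjective Φ hΦi).toEquiv]

theorem fullyAutomized_good (hS : IsPGroup p S) (hF : F.IsSaturated p) (hX : Good (F := F) (T := T) X)
    (hA : Auto D X) : (jSys D).IsFullyAutomized p X := by
  have hXS := hX.1.le.trans D.le_S'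
  have hTS := D.le_S'
  have := finite_of_le hTS
  have := finite_mulAut hXS
  have heq : (jSys D).autGroup X = jAut D hXS := by
    ext α
    rw [mem_autGroup_iff_mapFn hX.1.le]
    constructor
    · rintro ⟨f, hf, hfe⟩
      refine (hA f hf (hf.image_eq_of_maps hX.1.le (fun x hx => by rw [hfe ⟨x, hx⟩]; exact Subtype.mem _) le_rfl)).congr D
        fun x hx => (hfe ⟨x, hx⟩).trans (ev_coe α hx).symm
    · exact fun h => ⟨ev α, JMap.mapFn D h hX.1, fun x => ev_val α x⟩
  refine ⟨hX.1.le, ?_⟩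
  rw [heq]
  exact (good_sylow D hS hF hX).exists_sylow

/-- Induction over the maps of the generated system inside a class. -/
theorem class_ind (hS : IsPGroup p S) (hF : F.IsSaturated p) (hX : TCentric F T X)
    (C : Subgroup Ω → (Ω → Ω) → Prop)
    (hcongr : ∀ {A f g}, C A f → (∀ x ∈ A, f x = g x) → C A g)
    (hcomp : ∀ {A B : Subgroup Ω} {f g : Ω → Ω}, (jSys D).IsConj A X → MapFn (jSys D) A f →
      f '' A = (B : Set Ω) → C A f → MapFn (jSys D) B g → C B g → C A (g ∘ f))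
    (hinv : ∀ {A B : Subgroup Ω} {f g : Ω → Ω}, (jSys D).IsConj A X → MapFn (jSys D) A f →
      f '' A = (B : Set Ω) → C A f → MapFn (jSys D) B g → (∀ x ∈ A, g (f x) = x) → C B g)
    (hbase : ∀ {A K : Subgroup Ω} {f : Ω → Ω}, (jSys D).IsConj A X → TCentric F T A → A < K →
      K ≤ normalizerIn T A → MapFn (jSys D) K f → C A f)
    (hgen : ∀ {A : Subgroup Ω} {f : Ω → Ω}, (jSys D).IsConj A X → TCentric F T A → JMap D A f → C A f) :
    ∀ A f, (jSys D).IsConj A X → MapFn (jSys D) A f → C A f := by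
  have := finite_of_le D.le_S'
  have hTp := jSys_hST hS D
  have hcen : ∀ {A}, (jSys D).IsConj A X → TCentric F T A := fun {A} hA => by
    obtain ⟨f, hf, hfA⟩ := isConj_iff.mp (isConj_symm hA)
    exact tcentric_map hX D.sc (jSys_sub D hf) hfA
  have hbase' : ∀ {R : Subgroup Ω} {f : Ω → Ω} (A : Subgroup Ω), (jSys D).IsConj A X → A < R →
      MapFn (jSys D) R f → C A f := fun {R f} A hA hlt hf =>
    hbase hA (hcen hA) (Fusion.lt_normalizerIn hTp hf.le_S hlt) (inf_le_inf_right _ hf.le_S)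
      (hf.mono normalizerIn_le)
  intro A f hA hf
  refine (jSys_induction D (C := fun R φ => MapFn (jSys D) R φ ∧ ∀ A ≤ R, (jSys D).IsConj A X → C A φ)
    (fun ⟨hm, h⟩ e => ⟨hm.congr e, fun A hA hc => hcongr (h A hA hc) fun x hx => e x (hA hx)⟩)
    (fun {R g} hR hg => ⟨mapFn_conj hR hg, fun A hA hc => ?_⟩)
    ?_ ?_ (fun R φ hR hφ => ⟨hφ.mapFn D hR, fun A hA hc => ?_⟩) hf).2 A le_rfl hA
  · rcases eq_or_lt_of_le (hA.trans hR) with rfl | hlt
    · exact hgen hc (hcen hc) (jMap_conj D hS hF le_rfl ⟨hg, Subgroup.le_normalizer hg⟩)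
    · exact hbase' A hc hlt (mapFn_conj le_rfl hg)
  · rintro P Q u v hP - ⟨hu, h1⟩ hQ - ⟨hv, h2⟩ hm
    refine ⟨hu.comp hv hm, fun A hA hc => ?_⟩
    obtain ⟨B, -, hB⟩ := (hu.mono hA).exists_image
    have hBQ : B ≤ Q := fun y hy => by
      obtain ⟨x, hx, rfl⟩ := exists_of_image hB hy
      exact hm x (hA hx)
    exact hcomp hc (hu.mono hA) hB (h1 A hA hc) (hv.mono hBQ)
      (h2 B hBQ (isConj_trans (isConj_symm ((hu.mono hA).isConj hB)) hc))
  · rintro P Q u v hP - ⟨hu, h1⟩ hr - huv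
    obtain ⟨k, hk, hkr, hk₁, hk₂⟩ := hu.exists_inv hr
    have hkv : ∀ y ∈ Q, k y = v y := fun y hy => by
      obtain ⟨x, hx, rfl⟩ := exists_of_image hr hy
      rw [hk₁ x hx, huv x hx]
    refine ⟨hk.congr hkv, fun B hB hc => ?_⟩
    obtain ⟨A, -, hA⟩ := (hk.mono hB).exists_image
    have hAP : A ≤ P := fun y hy => by
      obtain ⟨z, hz, rfl⟩ := exists_of_image hA hy
      exact mem_of_image hkr (hB hz)
    have hAc : (jSys D).IsConj A X := isConj_trans (isConj_symm ((hk.mono hB).isConj hA)) hc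
    have huA : u '' A = (B : Set Ω) := by
      rw [← hA, Set.image_image]
      exact (Set.image_congr fun y hy => hk₂ y (hB hy)).trans (Set.image_id' _)
    exact hinv hAc (hu.mono hAP) huA (h1 A hAP hAc) ((hk.congr hkv).mono hB) fun x hx => huv x (hAP hx)
  · rcases eq_or_lt_of_le hA with rfl | hlt
    · exact hgen hc hR hφ
    · exact hbase' A hc hlt (hφ.mapFn D hR)

section level

variable (hS : IsPGroup p S) (hF : F.IsSaturated p) (hX : Good (F := F) (T := T) X) (hbig : Big (jSys D) p X)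
  (hauto : ∀ R, TCentric F T R → Nat.card X < Nat.card R → Auto D R)

include hS hF hX hbig in
theorem reach_good (hA : (jSys D).IsConj A X) : Reach (jSys D) X A := by
  have := finite_of_le D.le_S'
  have hTp := jSys_hST hS D
  have hn := good_fullyNormalized D hS hF hX
  obtain ⟨f, hf, hfr⟩ := isConj_iff.mp hA
  refine (class_ind D hS hF hX.1 (fun A f => ∀ B : Subgroup Ω, f '' A = (B : Set Ω) →
      (Reach (jSys D) X A ↔ Reach (jSys D) X B))
    (fun h e B hB => h B ((Set.image_congr e).trans hB))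
    (fun {A B f g} _ _ hB h hg h' C hC => by
      obtain ⟨C', -, hC'⟩ := hg.exists_image
      obtain rfl : C' = C := SetLike.coe_injective ((image_comp hB hC').symm.trans hC)
      exact (h B hB).trans (h' C' hC'))
    (fun {A B f g} _ _ hB h _ hgf C hC => by
      obtain rfl : C = A := SetLike.coe_injective (hC.symm.trans (by
        rw [← hB, Set.image_image]; exact (Set.image_congr fun x hx => hgf x hx).trans (Set.image_id' _)))
      exact (h B hB).symm)
    (fun {A K f} hA _ hlt hKN hf B hB => ?_)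
    (fun {A f} _ _ hf B hB => by rw [show B = A from SetLike.coe_injective (hB.symm.trans hf.2.1)])
    A f hA hf X hfr).mpr ⟨id, mapFn_id normalizerIn_le, Set.image_id _⟩
  refine ⟨fun hr => ?_, reach_of_edge hTp hbig hn _ A B K f (Nat.lt_succ_self _) hA hlt hKN hf hB⟩
  obtain ⟨J, -, hJ⟩ := hf.exists_image
  obtain ⟨g, hg, -, hg₁, -⟩ := hf.exists_inv hJ
  have hBJ : B ≤ J := fun y hy => by
    obtain ⟨x, hx, rfl⟩ := exists_of_image hB hy
    exact mem_of_image hJ (hlt.le hx)
  have hJN : J ≤ normalizerIn T B := fun y hy => by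
    obtain ⟨x, hx, rfl⟩ := exists_of_image hJ hy
    exact maps_normalizer hlt.le hf hB hKN x hx
  have hgB : g '' B = (A : Set Ω) := by
    rw [← hB, Set.image_image]
    exact (Set.image_congr fun x hx => hg₁ x (hlt.le hx)).trans (Set.image_id' _)
  refine reach_of_edge hTp hbig hn _ B A J g (Nat.lt_succ_self _)
    (isConj_trans (isConj_symm ((hf.mono hlt.le).isConj hB)) hA) (lt_of_le_of_ne hBJ fun h => ?_) hJN hg hgB hr
  have h1 := hf.card_image hJ
  have h2 := (hf.mono hlt.le).card_image hB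
  have h3 := FusionNormal.card_lt_card hf.le_S hlt
  rw [h] at h2
  omega

include hS hF hX hbig hauto in
/-- A map stabilizing a good subgroup and defined on more is a `JMap`. -/
theorem stab_edge : ∀ (n : ℕ) (K : Subgroup Ω) (k : Ω → Ω), Nat.card T - Nat.card K < n → X < K →
    K ≤ normalizerIn T X → MapFn (jSys D) K k → k '' X = (X : Set Ω) → JMap D X k := by
  have := finite_of_le D.le_S'
  have hTp := jSys_hST hS D
  have hXT := hX.1.le
  have hXS := hXT.trans D.le_S'
  intro n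
  induction n with
  | zero => intro K k h; omega
  | succ n ih =>
  intro K k hlt hXK hKN hk hkX
  have hKT : K ≤ T := hKN.trans normalizerIn_le
  have hKc : TCentric F T K := hX.1.of_le hXK.le hKT
  have hc : Nat.card X < Nat.card K := FusionNormal.card_lt_card hKT hXK
  let Γ : Subgroup (MulAut K) := (jSys D).autGroup K ⊓ stabAut K X
  let Γ₀ : Subgroup (MulAut K) :=
    { carrier := {a | a ∈ Γ ∧ JMap D X (ev a)}
      one_mem' := ⟨Γ.one_mem, (jMap_id D hXS).congr D fun x hx => (ev_one (hXK.le hx)).symm⟩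
      mul_mem' := fun {a b} ha hb => ⟨Γ.mul_mem ha.1 hb.1,
        (hb.2.comp D ha.2).congr D fun x hx => (ev_mul a b (hXK.le hx)).symm⟩
      inv_mem' := fun {a} ha => ⟨Γ.inv_mem ha.1, ha.2.inv D fun x hx => ev_inv_ev a (hXK.le hx)⟩ }
  have hKJ : ∀ a ∈ (jSys D).autGroup K, JMap D K (ev a) := fun a ha =>
    hauto K hKc hc (ev a) (mapFn_ev hKT ha) (ev_image a)
  have hΓX : ∀ a ∈ Γ, ∀ x ∈ X, ev a x ∈ X := fun a ha x hx => by
    rw [ev_coe a (hXK.le hx)]; exact (ha.2 ⟨x, hXK.le hx⟩).mp hx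
  have hΓmem : ∀ a ∈ (jSys D).autGroup K, (∀ x ∈ X, ev a x ∈ X) → a ∈ Γ := fun a ha h => by
    refine ⟨ha, fun x => ⟨fun hx => by rw [← ev_val]; exact h _ hx, fun hx => ?_⟩⟩
    obtain ⟨y, hy, hye⟩ := exists_of_image (((mapFn_ev hKT ha).mono hXK.le).image_eq_of_maps hXT h le_rfl) hx
    rw [ev_coe a (hXK.le hy)] at hye
    have := a.injective (Subtype.ext hye)
    rw [← this]; exact hy
  have hnorm : ∀ a ∈ Γ, ∀ b ∈ Γ₀, a * b * a⁻¹ ∈ Γ₀ := fun a ha b hb => by
    refine ⟨Γ.mul_mem (Γ.mul_mem ha hb.1) (Γ.inv_mem ha), ?_⟩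
    have hm : MapFn F X (ev a) := (jSys_sub D (mapFn_ev hKT ha.1)).mono hXK.le
    refine hb.2.transport D hm (hm.image_eq_of_maps hXS (hΓX a ha) le_rfl) fun x hx => ?_
    rw [ev_mul _ _ (ev_mem a (hXK.le hx)), ev_inv_ev a (hXK.le hx), ev_mul _ _ (hXK.le hx)]
  have hpow : ∀ a ∈ Γ, ∃ l : ℕ, a ^ p ^ l ∈ Γ₀ := fun a ha => by
    have := finite_mulAut (hKT.trans D.le_S')
    refine ⟨(orderOf a).factorization p, Γ.pow_mem ha _, ?_⟩
    have hord : (orderOf (a ^ p ^ (orderOf a).factorization p)).Coprime p := by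
      rw [orderOf_pow_of_dvd (pow_ne_zero _ (Fact.out : p.Prime).ne_zero) (Nat.ordProj_dvd _ _)]
      exact (Nat.coprime_ordCompl Fact.out (orderOf_pos a).ne').symm
    exact descend D hS hF hX.1 hXK.le hKN (hKJ _ (Subgroup.pow_mem _ ha.1 _)) hord (hΓX _ (Γ.pow_mem ha _))
  have hconjΓ : ∀ g ∈ normalizerIn (normalizerIn T X) K, ∀ a ∈ (jSys D).autGroup K,
      (∀ x : K, ((a x : K) : Ω) = g * (x : Ω) * g⁻¹) → a ∈ Γ := fun g hg a ha hge =>
    hΓmem a ha fun x hx => by rw [ev_conj_of hge (hXK.le hx)]; exact conj_mem_of_normalizer hg.1.2 hx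
  by_cases hKeq : K = normalizerIn T X
  · have hkK : k '' K = (K : Set Ω) := hk.image_eq_of_maps hKT
      (fun y hy => hKeq.ge (maps_normalizer hXK.le hk hkX hKN y hy)) le_rfl
    obtain ⟨a, ha, hae⟩ := hk.exists_aut hkK
    have hak : ∀ x ∈ K, ev a x = k x := fun x hx => by rw [ev_coe a hx, hae]
    have haΓ : a ∈ Γ := hΓmem a ha fun x hx => by rw [hak x (hXK.le hx)]; exact mem_of_image hkX hx
    have := finite_mulAut (hKT.trans D.le_S')
    have hinn : autInducedBy K K ≤ Γ := fun c hc => by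
      obtain ⟨g, hg, hge⟩ := mem_autInducedBy.mp hc
      exact hconjΓ g ⟨hKN hg, Subgroup.le_normalizer hg⟩ c
        (autInducedBy_le_autGroup hKT (autInducedBy_mono hKT _ hc)) hge
    obtain ⟨-, -, Sy, -, hSyΓ, hSyp, -, hdec⟩ := exists_conj_into (p := p) (Γ := Γ) (Γ₀ := Γ₀)
      (B := ⊥) (fun _ h => h.1) hnorm hpow hinn (isPGroup_autInducedBy (hTp.to_le hKT) K) bot_le IsPGroup.of_bot
    obtain ⟨m, hm, s, hs, hms⟩ := hdec a haΓ
    obtain ⟨Q, -, φ, hφ, hφr, hφs⟩ := exists_target hbig hKT hc (hSyΓ.trans inf_le_left) hSyp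
    obtain ⟨f, hf, hfe⟩ := mapFn_of_hom hφ
    obtain ⟨r, hr, hre⟩ := hφs s hs
    have hsX := hΓX s (hSyΓ hs)
    have hre' : ∀ x ∈ K, f (ev s x) = r * f x * r⁻¹ := fun x hx => by
      have h1 := hre ⟨x, hx⟩
      rw [hfe, hfe, ← ev_val] at h1
      exact h1
    obtain ⟨V, hVT, hV⟩ := (hf.mono hXK.le).exists_image
    have hrV : r ∈ normalizerIn T V := by
      have := finite_of_le hVT
      refine ⟨hr, mem_normalizer_of_forall fun y hy => ?_⟩
      obtain ⟨x, hx, rfl⟩ := exists_of_image hV hy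
      rw [← hre' x (hXK.le hx)]
      exact mem_of_image hV (hsX x hx)
    obtain ⟨J, -, hJ⟩ := hf.exists_image
    have hJN : J ≤ normalizerIn T V := fun y hy => by
      obtain ⟨x, hx, rfl⟩ := exists_of_image hJ hy
      exact maps_normalizer hXK.le hf hV hKN x hx
    have := finite_of_le (normalizerIn_le : normalizerIn T V ≤ T)
    have hJeq : J = normalizerIn T V := by
      refine eq_of_le_of_card_le hJN ?_
      rw [hf.card_image hJ, hKeq]
      exact good_card D hS hF hX ((jSys_sub D (hf.mono hXK.le)).isConj hV)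
    obtain ⟨g, hg, rfl⟩ := exists_of_image hJ (hJeq.ge hrV)
    have hsg : ∀ x ∈ K, ev s x = g * x * g⁻¹ := fun x hx => by
      refine hf.injOn (ev_mem s hx) (K.mul_mem (K.mul_mem hg hx) (K.inv_mem hg)) ?_
      rw [hre' x hx, hf.map_conj hg hx]
    refine ((jMap_conj D hS hF hXT (hKN hg)).comp D hm.2).congr D fun x hx => ?_
    show ev m (g * x * g⁻¹) = k x
    rw [← hsg x (hXK.le hx), ← ev_mul _ _ (hXK.le hx), ← hms, hak x (hXK.le hx)]
  · have hKlt : K < normalizerIn T X := lt_of_le_of_ne hKN hKeq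
    obtain ⟨K', -, hK'⟩ := hk.exists_image
    have hXK' : X ≤ K' := fun y hy => by
      obtain ⟨x, hx, rfl⟩ := exists_of_image hkX hy
      exact mem_of_image hK' (hXK.le hx)
    have hK'N : K' ≤ normalizerIn T X := fun y hy => by
      obtain ⟨x, hx, rfl⟩ := exists_of_image hK' hy
      exact maps_normalizer hXK.le hk hkX hKN x hx
    have hK'lt : K' < normalizerIn T X := lt_of_le_of_ne hK'N fun h => by
      have h1 := hk.card_image hK'
      have h2 := FusionNormal.card_lt_card (normalizerIn_le (S := T) (P := X)) hKlt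
      rw [h] at h1
      omega
    set M := normalizerIn (normalizerIn T X) K with hM
    set M' := normalizerIn (normalizerIn T X) K' with hM'
    have hKM : K < M := Fusion.lt_normalizerIn hTp normalizerIn_le hKlt
    have hK'M : K' < M' := Fusion.lt_normalizerIn hTp normalizerIn_le hK'lt
    obtain ⟨m, hm, δ, δ', hδ, hδ', hrel⟩ := widen hTp hbig hc hk hK' (Γ := Γ) (Γ₀ := Γ₀) inf_le_left
      (fun _ h => h.1) hnorm hpow (M := M) (M' := M') (inf_le_inf_right _ normalizerIn_le)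
      (inf_le_inf_right _ normalizerIn_le) hconjΓ
      (fun g hg a ha hge => hΓmem a ha fun x hx => by
        obtain ⟨z, hz, hze⟩ := exists_of_image hkX (conj_mem_of_normalizer hg.1.2 (mem_of_image hkX hx))
        rw [← hge ⟨x, hXK.le hx⟩, ← ev_val] at hze
        rw [← hk.injOn (hXK.le hz) (ev_mem a (hXK.le hx)) hze]; exact hz)
    rw [sup_eq_right.mpr hKM.le] at hδ
    rw [sup_eq_right.mpr hK'M.le] at hδ'
    obtain ⟨C, hCT, hC⟩ := (hδ.mono (hXK.le.trans hKM.le)).exists_image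
    have hrelX : ∀ x ∈ X, δ' (k x) = δ (ev m x) := fun x hx => by
      rw [hrel ⟨x, hXK.le hx⟩, ev_coe m (hXK.le hx)]
    have hδ'X : δ' '' X = (C : Set Ω) := by
      conv_lhs => rw [← hkX, Set.image_image]
      rw [← hC]
      conv_rhs => rw [← hm.2.2.1, Set.image_image]
      exact Set.image_congr hrelX
    obtain ⟨gC, hgC, hgCC⟩ := reach_good D hS hF hX hbig
      (isConj_symm ((hδ.mono (hXK.le.trans hKM.le)).isConj hC))
    have hMN : M ≤ normalizerIn T X := normalizerIn_le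
    have hM'N : M' ≤ normalizerIn T X := normalizerIn_le
    have hcardM := FusionNormal.card_lt_card (hMN.trans normalizerIn_le) hKM
    have hcardM' := FusionNormal.card_lt_card (hM'N.trans normalizerIn_le) hK'M
    have hM₁ := card_le_card_S (hMN.trans (normalizerIn_le (S := T)))
    have hM'₁ := card_le_card_S (hM'N.trans (normalizerIn_le (S := T)))
    have hcK := hk.card_image hK'
    have h₁ := ih M (gC ∘ δ) (by omega) (hXK.trans hKM) hMN
      (hδ.comp hgC (maps_normalizer (hXK.le.trans hKM.le) hδ hC hMN)) (image_comp hC hgCC)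
    have h₂ := ih M' (gC ∘ δ') (by omega) (lt_of_le_of_lt hXK' hK'M) hM'N
      (hδ'.comp hgC (maps_normalizer (hXK'.trans hK'M.le) hδ' hδ'X hM'N)) (image_comp hδ'X hgCC)
    obtain ⟨i₂, -, -, hi₂, -⟩ := h₂.1.exists_inv h₂.2.1
    refine ((hm.2.comp D h₁).comp D (h₂.inv D hi₂)).congr D fun x hx => ?_
    show i₂ (gC (δ (ev m x))) = k x
    rw [← hrelX x hx]
    exact hi₂ _ (mem_of_image hkX hx)

include hS hF hX hbig hauto in
/-- The automorphisms of a good subgroup in the generated system. -/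
theorem auto_good : Auto D X := by
  have := finite_of_le D.le_S'
  have hTp := jSys_hST hS D
  have hXT := hX.1.le
  intro f hf hfX
  by_cases hXeq : X = T
  · have hconj : ∀ {A}, (jSys D).IsConj A X → A = X := fun {A} hA => by
      have hAT := IsConj.le_left hA
      rw [hXeq] at hA ⊢
      exact eq_of_le_of_card_le hAT (IsConj.card_eq hA).le
    refine class_ind D hS hF hX.1 (fun A f => A = X → JMap D X f)
      (fun {A f g} h e hA => (h hA).congr D fun x hx => e x (hA.symm ▸ hx))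
      (fun {A B f g} hA hf hB h _ h' e => (h e).comp D
        (h' (hconj (isConj_trans (isConj_symm (hf.isConj hB)) hA))))
      (fun {A B f g} hA _ _ h _ hgf _ => (h (hconj hA)).inv D fun x hx => hgf x ((hconj hA).symm ▸ hx))
      (fun {A K f} _ _ hlt hK _ e => absurd (hlt.trans_le (hK.trans normalizerIn_le)) (by rw [e, hXeq]; exact lt_irrefl T))
      (fun {A f} _ _ h e => e ▸ h) X f (isConj_refl hXT) hf rfl
  have hXN : X ≤ normalizerIn T X := le_normalizerIn hXT
  have hXlt : X < normalizerIn T X := Fusion.lt_normalizerIn hTp le_rfl (lt_of_le_of_ne hXT hXeq)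
  have hreach : ∀ {A}, (jSys D).IsConj A X → Reach (jSys D) X A := fun hA => reach_good D hS hF hX hbig hA
  have hedge : ∀ {A K : Subgroup Ω} {f : Ω → Ω}, (jSys D).IsConj A X → A < K → K ≤ normalizerIn T A →
      MapFn (jSys D) K f → ∀ (B : Subgroup Ω) (gA gB : Ω → Ω), f '' A = (B : Set Ω) →
      MapFn (jSys D) (normalizerIn T A) gA → gA '' A = (X : Set Ω) →
      MapFn (jSys D) (normalizerIn T B) gB → gB '' B = (X : Set Ω) →
      ∃ e, JMap D X e ∧ ∀ x ∈ A, e (gA x) = gB (f x) := by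
    intro A K f hA hlt hKN hf B gA gB hB h1 h2 h3 h4
    obtain ⟨K₁, -, hK₁⟩ := (h1.mono hKN).exists_image
    obtain ⟨gi, hgi, hgir, hgi₁, -⟩ := (h1.mono hKN).exists_inv hK₁
    have hXK₁ : X < K₁ := by
      refine lt_of_le_of_ne (fun y hy => ?_) fun h => ?_
      · obtain ⟨x, hx, rfl⟩ := exists_of_image h2 hy
        exact mem_of_image hK₁ (hlt.le hx)
      · have h5 := (h1.mono hKN).card_image hK₁
        rw [← h, IsConj.card_eq hA] at h5
        have := FusionNormal.card_lt_card (hKN.trans normalizerIn_le) hlt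
        omega
    have hK₁N : K₁ ≤ normalizerIn T X := fun y hy => by
      obtain ⟨x, hx, rfl⟩ := exists_of_image hK₁ hy
      exact maps_normalizer (le_normalizerIn (hlt.le.trans hf.le_S)) h1 h2 le_rfl x (hKN hx)
    have hmap := (hgi.comp hf fun y hy => mem_of_image hgir hy).comp h3
      fun y hy => maps_normalizer hlt.le hf hB hKN _ (mem_of_image hgir hy)
    have hfix : (gB ∘ f ∘ gi) '' X = (X : Set Ω) := by
      conv_lhs => rw [← h2, Set.image_image]
      rw [← h4, ← hB, Set.image_image]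
      exact Set.image_congr fun x hx => by
        show gB (f (gi (gA x))) = gB (f x)
        rw [hgi₁ x (hlt.le hx)]
    refine ⟨_, stab_edge D hS hF hX hbig hauto _ K₁ _ (Nat.lt_succ_self _) hXK₁ hK₁N hmap hfix, fun x hx => ?_⟩
    show gB (f (gi (gA x))) = _
    rw [hgi₁ x (hlt.le hx)]
  have key := class_ind D hS hF hX.1
    (fun A f => ∀ (B : Subgroup Ω) (gA gB : Ω → Ω), f '' A = (B : Set Ω) →
      MapFn (jSys D) (normalizerIn T A) gA → gA '' A = (X : Set Ω) →
      MapFn (jSys D) (normalizerIn T B) gB → gB '' B = (X : Set Ω) →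
      ∃ e, JMap D X e ∧ ∀ x ∈ A, e (gA x) = gB (f x))
    (fun {A f g} h hfg B gA gB hB h1 h2 h3 h4 => by
      obtain ⟨e, he, hee⟩ := h B gA gB ((Set.image_congr hfg).trans hB) h1 h2 h3 h4
      exact ⟨e, he, fun x hx => by rw [hee x hx, hfg x hx]⟩)
    (fun {A B f g} hA hf hB h hg h' C gA gC hC h1 h2 h3 h4 => by
      obtain ⟨gB, hgB, hgBB⟩ := hreach (isConj_trans (isConj_symm (hf.isConj hB)) hA)
      obtain ⟨C', -, hC'⟩ := hg.exists_image
      obtain rfl : C' = C := SetLike.coe_injective ((image_comp hB hC').symm.trans hC)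
      obtain ⟨e, he, hee⟩ := h B gA gB hB h1 h2 hgB hgBB
      obtain ⟨e', he', he'e⟩ := h' C' gB gC hC' hgB hgBB h3 h4
      refine ⟨e' ∘ e, he.comp D he', fun x hx => ?_⟩
      show e' (e (gA x)) = gC (g (f x))
      rw [hee x hx, he'e _ (mem_of_image hB hx)])
    (fun {A B f g} hA _ hB h _ hgf C gB gA hC h1 h2 h3 h4 => by
      obtain rfl : C = A := SetLike.coe_injective (hC.symm.trans (by
        rw [← hB, Set.image_image]; exact (Set.image_congr fun x hx => hgf x hx).trans (Set.image_id' _)))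
      obtain ⟨e, he, hee⟩ := h B gA gB hB h3 h4 h1 h2
      obtain ⟨ei, -, -, hei₁, -⟩ := he.1.exists_inv he.2.1
      refine ⟨ei, he.inv D hei₁, fun y hy => ?_⟩
      obtain ⟨x, hx, rfl⟩ := exists_of_image hB hy
      rw [← hee x hx, hgf x hx, hei₁ _ (mem_of_image h4 hx)])
    (fun {A K f} hA _ hlt hKN hf => hedge hA hlt hKN hf)
    (fun {A f} hA hAc hf B gA gB hB h1 h2 h3 h4 => by
      obtain rfl : B = A := SetLike.coe_injective (hB.symm.trans hf.2.1)
      have hne : B ≠ T := fun h => by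
        have h5 := IsConj.card_eq hA
        rw [h] at h5
        exact hXeq (eq_of_le_of_card_le hXT h5.ge)
      obtain ⟨e₁, he₁, he₁e⟩ := hedge hA (Fusion.lt_normalizerIn hTp le_rfl (lt_of_le_of_ne hAc.le hne)) le_rfl
        (mapFn_id normalizerIn_le) B gA gB (Set.image_id _) h1 h2 h3 h4
      obtain ⟨gi, hgi, hgir, hgi₁, -⟩ := (h1.mono (le_normalizerIn hAc.le)).exists_inv h2
      have h0 : JMap D X (gA ∘ f ∘ gi) := hf.transport D ((jSys_sub D h1).mono (le_normalizerIn hAc.le)) h2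
        fun x hx => by
          show gA (f (gi (gA x))) = gA (f x)
          rw [hgi₁ x hx]
      refine ⟨e₁ ∘ gA ∘ f ∘ gi, h0.comp D he₁, fun x hx => ?_⟩
      show e₁ (gA (f (gi (gA x)))) = gB (f x)
      rw [hgi₁ x hx]
      exact he₁e _ (mem_of_image hf.2.1 hx))
    X f (isConj_refl hXT) hf X id id hfX (mapFn_id normalizerIn_le) (Set.image_id _)
    (mapFn_id normalizerIn_le) (Set.image_id _)
  obtain ⟨e, he, hee⟩ := key
  exact he.congr D fun x hx => hee x hx

include hS hF hX hbig hauto in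
theorem auto_class (hA : (jSys D).IsConj A X) : Auto D A := by
  intro f hf hfA
  obtain ⟨g, hg, hgX⟩ := reach_good D hS hF hX hbig hA
  have hAT := IsConj.le_left hA
  have hg' := hg.mono (le_normalizerIn hAT)
  obtain ⟨gi, hgi, hgir, hgi₁, hgi₂⟩ := hg'.exists_inv hgX
  have hu := (hgi.comp hf fun y hy => mem_of_image hgir hy).comp hg' fun y hy =>
    mem_of_image hfA (mem_of_image hgir hy)
  have hju := auto_good D hS hF hX hbig hauto _ hu (image_comp (image_comp hgir hfA) hgX)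
  refine hju.transport D (jSys_sub D hgi) hgir fun y hy => ?_
  show f (gi y) = gi (g (f (gi y)))
  rw [hgi₁ _ (mem_of_image hfA (mem_of_image hgir hy))]

end level

omit [Fact p.Prime] in
theorem inn_conj {x u : MulAut P} (hu : u ∈ autInducedBy P P) : x * u * x⁻¹ ∈ autInducedBy P P := by
  obtain ⟨z, hz, hze⟩ := mem_autInducedBy.mp hu
  refine mem_autInducedBy.mpr ⟨(x ⟨z, hz⟩ : P), Subtype.mem _, fun y => ?_⟩
  obtain ⟨w, rfl⟩ := x.surjective y
  rw [MulAut.mul_apply, MulAut.mul_apply, MulAut.inv_apply_self,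
    show u w = ⟨z, hz⟩ * w * ⟨z, hz⟩⁻¹ from Subtype.ext (hze w), map_mul, map_mul, map_inv]
  rfl

omit [Fact p.Prime] in
theorem conj_sup_inn {R R' : Subgroup (MulAut P)} {x : MulAut P} (h : ∀ r ∈ R, x * r * x⁻¹ ∈ R') :
    ∀ r ∈ R ⊔ autInducedBy P P, x * r * x⁻¹ ∈ R' ⊔ autInducedBy P P := fun r hr => by
  refine (?_ : R ⊔ autInducedBy P P ≤ (R' ⊔ autInducedBy P P).comap (MulAut.conj x).toMonoidHom) hr
  exact sup_le (fun r hr => Subgroup.mem_sup_left (h r hr)) fun u hu => Subgroup.mem_sup_right (inn_conj hu)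

/-- Receptivity of a fully normalized subgroup for the `JMap`s. -/
theorem extend_fn (hS : IsPGroup p S) (hF : F.IsSaturated p) (hXc : TCentric F T X) (hXn : F.IsFullyNormalized X)
    {g : Ω → Ω} (hg : JMap D X g) {N : Subgroup Ω} (hN : N ≤ normalizerIn T X)
    (h : ∀ t ∈ N, ∃ s ∈ T, ∀ x ∈ X, g (t * x * t⁻¹) = s * g x * s⁻¹) :
    ∃ G, MapFn (jSys D) N G ∧ ∀ x ∈ X, x ∈ N → G x = g x := by
  have hXT := hXc.le
  have hXS := hXn.1
  have := finite_of_le hXS
  have := finite_of_le D.le_S'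
  have := finite_mulAut hXS
  set Q₁ := autInducedBy T X with hQ₁
  have hsyl := sylIn_jAut D hS hF hXT hXc hXn
  have hinn : autInducedBy X X ≤ Q₁ := autInducedBy_mono hXT _
  let C : Subgroup (MulAut X) → MulAut X → Prop := fun R x =>
    ∃ G, MapFn (jSys D) (pre T X R) G ∧ ∀ y ∈ X, G y = ev x y
  have himg : ∀ {R R' : Subgroup (MulAut X)} {x : MulAut X} {G : Ω → Ω}, MapFn (jSys D) (pre T X R) G →
      (∀ y ∈ X, G y = ev x y) → (∀ r ∈ R, x * r * x⁻¹ ∈ R') → ∀ t ∈ pre T X R, G t ∈ pre T X R' := by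
    intro R R' x G hG hGe hxR t ht
    have hle := le_pre (R := R) hXT
    have hGX : G '' X = (X : Set Ω) := (Set.image_congr hGe).trans (ev_image x)
    obtain ⟨htN, r, hr, hre⟩ := id ht
    refine ⟨⟨hG.mem_S ht, (hG.mem_normalizerIn hle hGX ht htN.2).2⟩, x * r * x⁻¹, conj_sup_inn hxR r hr, fun y => ?_⟩
    obtain ⟨z, rfl⟩ := x.surjective y
    rw [MulAut.mul_apply, MulAut.mul_apply, MulAut.inv_apply_self, ← ev_val x (r z),
      ← hGe _ (Subtype.mem _), hre, hG.map_conj ht (hle z.2), hGe _ z.2, ev_val]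
  have key := SylIn.fusion_induction hsyl C
    (fun hle ⟨G, hG, hGe⟩ => ⟨G, hG.mono (pre_mono hle), hGe⟩)
    (fun {R R' x y} _ _ ⟨G, hG, hGe⟩ hxR ⟨G', hG', hG'e⟩ =>
      ⟨G' ∘ G, hG.comp hG' (himg hG hGe hxR), fun z hz => by
        show G' (G z) = _
        rw [hGe z hz, hG'e _ (ev_mem x hz), ev_mul _ _ hz]⟩)
    (fun {R R' x} hR hR' ⟨G, hG, hGe⟩ hxR hxR' => by
      obtain ⟨J, -, hJ⟩ := hG.exists_image
      obtain ⟨k, hk, -, hk₁, -⟩ := hG.exists_inv hJ
      have hle := le_pre (R := R) hXT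
      have hXJ : X ≤ J := fun y hy => by
        obtain ⟨z, hz, rfl⟩ := exists_of_image (ev_image x) hy
        rw [← hGe z hz]; exact mem_of_image hJ (hle hz)
      refine ⟨k, hk.mono fun t' ht' => ?_, fun y hy => ?_⟩
      · obtain ⟨ht'N, r', hr', hr'e⟩ := ht'
        have hr : x⁻¹ * r' * x ∈ R ⊔ autInducedBy X X := by
          have h1 := conj_sup_inn (x := x⁻¹) (R' := R) (fun r hr => by simpa using hxR' r hr) r' hr'
          simpa using h1
        obtain ⟨t, ht, hte⟩ := mem_autInducedBy.mp ((sup_le hR hinn : R ⊔ autInducedBy X X ≤ Q₁) hr)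
        have htm : t ∈ pre T X R := ⟨⟨ht, mem_normalizer_of_aut hte⟩, _, hr, hte⟩
        have hGt : G t ∈ T := hG.mem_S htm
        have hm : (G t)⁻¹ * t' ∈ centralizerIn T X := by
          refine mem_centralizerIn.mpr ⟨T.mul_mem (T.inv_mem hGt) ht'N.1, fun y hy => ?_⟩
          obtain ⟨z, hz, rfl⟩ := exists_of_image (ev_image x) hy
          have h1 : G t * ev x z * (G t)⁻¹ = t' * ev x z * t'⁻¹ := by
            rw [← ev_conj_of hr'e (ev_mem x hz), ← hGe z hz, ← hG.map_conj htm (hle hz),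
              ← ev_conj_of hte hz, hGe _ (ev_mem _ hz), hGe z hz, ev_mul _ _ hz,
              ev_mul _ _ (ev_mem x hz), ev_ev_inv x (ev_mem r' (ev_mem x hz))]
          calc ev x z * ((G t)⁻¹ * t') = (G t)⁻¹ * (G t * ev x z * (G t)⁻¹) * t' := by group
            _ = (G t)⁻¹ * t' * ev x z := by rw [h1]; group
        have := J.mul_mem (mem_of_image hJ htm) (hXJ (TCentric.centralizer_le D.le_S' hXc hm))
        rwa [mul_inv_cancel_left] at this
      · obtain ⟨z, hz, rfl⟩ := exists_of_image (ev_image x) hy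
        rw [ev_inv_ev x hz, ← hGe z hz, hk₁ z (hle hz)])
    (fun R _ x hx => by
      obtain ⟨t, ht, hte⟩ := mem_autInducedBy.mp hx
      exact ⟨fun z => t * z * t⁻¹, mapFn_conj (pre_le.trans normalizerIn_le) ht,
        fun z hz => (ev_conj_of hte hz).symm⟩)
    (fun R hR x hx hxp hxR => by
      obtain ⟨G, hG, hGe⟩ := ascend D hS hF hXc hXn (M := pre T X R) (le_pre hXT) pre_le hx hxp fun t ht => by
        obtain ⟨htN, r, hr, hre⟩ := id ht
        have hr2 := conj_sup_inn hxR r hr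
        obtain ⟨t', ht', ht'e⟩ := mem_autInducedBy.mp ((sup_le hR hinn : R ⊔ autInducedBy X X ≤ Q₁) hr2)
        refine ⟨t', ⟨⟨ht', mem_normalizer_of_aut ht'e⟩, _, hr2, ht'e⟩, fun y hy => ?_⟩
        rw [← ev_conj_of hre hy, ← ev_conj_of ht'e (ev_mem x hy), ev_mul _ _ (ev_mem x hy), ev_inv_ev x hy,
          ev_mul _ _ hy]
      exact ⟨G, JMap.mapFn D hG (hXc.of_le (le_pre hXT) (pre_le.trans normalizerIn_le)), hGe⟩)
  obtain ⟨x, -, hxe⟩ := hg.1.exists_aut hg.2.1
  have hxg : ∀ y ∈ X, ev x y = g y := fun y hy => by rw [ev_coe x hy, hxe]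
  obtain ⟨G, hG, hGe⟩ := key (autInducedBy N X) (autInducedBy_mono (hN.trans normalizerIn_le) _) x
    (hg.congr D fun y hy => (hxg y hy).symm) fun r hr => by
      obtain ⟨t, ht, hte⟩ := mem_autInducedBy.mp hr
      obtain ⟨s, hs, hse⟩ := h t ht
      refine mem_autInducedBy.mpr ⟨s, hs, fun y => ?_⟩
      obtain ⟨z, rfl⟩ := x.surjective y
      rw [MulAut.mul_apply, MulAut.mul_apply, MulAut.inv_apply_self, hxe, hte, hse z z.2, hxe]
  refine ⟨G, hG.mono fun t ht => ?_, fun y hy _ => by rw [hGe y hy, hxg y hy]⟩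
  obtain ⟨c, hc, hce⟩ := exists_autInducedBy (K := N) ht (hN ht).2
  exact ⟨hN ht, c, Subgroup.mem_sup_left hc, hce⟩

/-- Good subgroups are receptive. -/
theorem receptive_good (hS : IsPGroup p S) (hF : F.IsSaturated p) (hX : Good (F := F) (T := T) X)
    (hA : Auto D X) (hreach : ∀ A, (jSys D).IsConj A X → Reach (jSys D) X A) : (jSys D).IsReceptive X := by
  have := finite_of_le D.le_S'
  obtain ⟨hXc, X₀, a, hn, hX₀c, ha, haX⟩ := hX
  have hXT := hXc.le
  have har := image_T D.sc ha le_rfl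
  refine ⟨hXT, fun A φ hφ hφr => ?_⟩
  obtain ⟨f, hf, hfe⟩ := mapFn_of_hom hφ
  have hfA : f '' A = (X : Set Ω) := by rw [MapFn.image_eq_range hfe, hφr]
  have hAT := hf.le_S
  obtain ⟨g, hg, hgA⟩ := hreach A (hf.isConj hfA)
  have hAN : A ≤ normalizerIn T A := le_normalizerIn hAT
  obtain ⟨gi, hgi, hgir, hgi₁, -⟩ := (hg.mono hAN).exists_inv hgA
  have hγ : JMap D X (f ∘ gi) :=
    hA _ (hgi.comp hf fun y hy => mem_of_image hgir hy) (image_comp hgir hfA)
  -- transported to the fully normalized subgroup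
  obtain ⟨b, hb, hbr, hb₁, hb₂⟩ := ha.exists_inv har
  have hbX : b '' X₀ = (X : Set Ω) := by
    rw [← haX, Set.image_image]
    exact (Set.image_congr fun x hx => hb₁ x (hXT hx)).trans (Set.image_id' _)
  have hγ₀ : JMap D X₀ (a ∘ (f ∘ gi) ∘ b) := hγ.transport D (ha.mono hXT) haX fun x hx => by
    show a (f (gi (b (a x)))) = a (f (gi x))
    rw [hb₁ x (hXT hx)]
  set N := extender T A φ with hNdef
  have hNA : N ≤ normalizerIn T A := extender_le_normalizerIn
  have hAN' : A ≤ N := le_extender hAT (apply_mem_S hφ)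
  obtain ⟨N₁, hN₁T, hN₁⟩ := (hg.mono hNA).exists_image
  obtain ⟨N₀, hN₀S, hN₀⟩ := (ha.mono hN₁T).exists_image
  have hN₁N : N₁ ≤ normalizerIn T X := fun y hy => by
    obtain ⟨x, hx, rfl⟩ := exists_of_image hN₁ hy
    exact maps_normalizer hAN hg hgA le_rfl x (hNA hx)
  have hN₀N : N₀ ≤ normalizerIn T X₀ := fun y hy => by
    obtain ⟨x, hx, rfl⟩ := exists_of_image hN₀ hy
    exact ⟨mem_of_image har (hN₁T hx), (ha.mem_normalizerIn hXT haX (hN₁T hx) (hN₁N hx).2).2⟩
  obtain ⟨k₀, hk₀, hk₀e⟩ := extend_fn D hS hF hX₀c hn hγ₀ hN₀N fun t ht => by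
    obtain ⟨y, hy, rfl⟩ := exists_of_image hN₀ ht
    obtain ⟨u, hu, rfl⟩ := exists_of_image hN₁ hy
    obtain ⟨-, huN, s, hs, hse⟩ := mem_extender.mp hu
    refine ⟨a s, mem_of_image har hs, fun z hz => ?_⟩
    obtain ⟨v, hv, rfl⟩ := exists_of_image haX hz
    obtain ⟨w, hw, rfl⟩ := exists_of_image hgA hv
    have hm := conj_mem_of_normalizer huN hw
    have hgw := hXT (mem_of_image hgA hw)
    have hgc := hXT (mem_of_image hgA hm)
    rw [← ha.map_conj (hN₁T (mem_of_image hN₁ hu)) hgw, ← hg.map_conj (hNA hu) (hAN hw)]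
    show a (f (gi (b (a (g (u * w * u⁻¹)))))) = a s * a (f (gi (b (a (g w))))) * (a s)⁻¹
    rw [hb₁ _ hgc, hb₁ _ hgw, hgi₁ _ hm, hgi₁ w hw, ← ha.map_conj hs (hXT (mem_of_image hfA hw)),
      ← hfe ⟨_, hm⟩, ← hfe ⟨w, hw⟩, hse ⟨w, hw⟩ hm]
  have hbN : b '' N₀ = (N₁ : Set Ω) := by
    rw [← hN₀, Set.image_image]
    exact (Set.image_congr fun x hx => hb₁ x (hN₁T hx)).trans (Set.image_id' _)
  obtain ⟨k, hk, hke⟩ := jSys_transport D hb hk₀ hbN
  obtain ⟨ψ, hψ, hψe⟩ := (hg.mono hNA).comp hk fun x hx => mem_of_image hN₁ hx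
  refine ⟨ψ, hψ, fun x hx hxN => ?_⟩
  rw [hψe]
  show k (g x) = _
  have hgx := mem_of_image hgA hx
  have hagx : a (g x) ∈ N₀ := mem_of_image hN₀ (mem_of_image hN₁ hxN)
  have h1 := hke _ hagx
  rw [hb₁ _ (hXT hgx)] at h1
  rw [h1, hk₀e _ (mem_of_image haX hgx) hagx]
  show b (a (f (gi (b (a (g x)))))) = _
  rw [hb₁ _ (hXT hgx), hgi₁ x hx, hb₁ _ (hXT (mem_of_image hfA hx))]
  exact (hfe ⟨x, hx⟩).symm

/-- The generated system is saturated and its automorphisms are the `JMap`s. -/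
theorem jSys_main (hS : IsPGroup p S) (hF : F.IsSaturated p) :
    (jSys D).IsSaturated p ∧ ∀ R, TCentric F T R → Auto D R := by
  have := finite_of_le D.le_S'
  have hTp := jSys_hST hS D
  have hgen : ∀ E : FusionSystem T, (∀ P ∈ {P | TCentric F T P}, (jSys D).Hom P ⊆ E.Hom P) → jSys D ≤ E := by
    intro E hE P
    refine hom_subset_iff_mapFn.mpr fun f hf => ?_
    exact jSys_induction D (C := fun P f => MapFn E P f) (fun h e => h.congr e)
      (fun hP hg => mapFn_conj hP hg) (fun _ _ hf _ _ hg hm => hf.comp hg hm)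
      (fun _ _ hf hr hg hinv => by
        obtain ⟨k, hk, hkr, hk₁, -⟩ := hf.exists_inv hr
        refine hk.congr fun y hy => ?_
        obtain ⟨x, hx, rfl⟩ := exists_of_image hr hy
        rw [hk₁ x hx, hinv x hx])
      (fun R f hR h => hom_subset_iff_mapFn.mp (hE R hR) f (h.mapFn D hR)) hf
  have hTc : TCentric F T T := by
    refine ⟨le_rfl, fun V hV => ?_⟩
    obtain ⟨φ, hφ, rfl⟩ := hV
    have hle : φ.range ≤ T := by rintro _ ⟨x, rfl⟩; exact D.sc.2 T le_rfl φ hφ x
    rw [eq_of_le_of_card_le hle (card_range hφ).ge]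
    exact centralizerIn_le
  suffices H : ∀ (n : ℕ) (P : Subgroup Ω), P ≤ T → Nat.card T - Nat.card P < n →
      (∃ Q, (jSys D).IsConj P Q ∧ (jSys D).IsFullyAutomized p Q ∧ (jSys D).IsReceptive Q) ∧
        (TCentric F T P → Auto D P) from
    ⟨fun P hP => (H _ P hP (Nat.lt_succ_self _)).1, fun R hR => (H _ R hR.le (Nat.lt_succ_self _)).2 hR⟩
  intro n
  induction n with
  | zero => intro P _ h; omega
  | succ n ih =>
  intro P hP hlt
  by_cases hPc : TCentric F T P
  · obtain ⟨X, g, hX, hg, hgX⟩ := exists_good D hS hF hPc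
    have hPX : (jSys D).IsConj P X := (hg.mono (le_normalizerIn hP)).isConj hgX
    have hcard := IsConj.card_eq hPX
    have hbig : Big (jSys D) p X := fun R hR hc => (ih R hR (by
      have := card_le_card_S hR
      omega)).1
    have hauto : ∀ R, TCentric F T R → Nat.card X < Nat.card R → Auto D R := fun R hR hc =>
      (ih R hR.le (by
        have := card_le_card_S hR.le
        omega)).2 hR
    refine ⟨⟨X, hPX, fullyAutomized_good D hS hF hX (auto_good D hS hF hX hbig hauto),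
      receptive_good D hS hF hX (auto_good D hS hF hX hbig hauto)
        fun A hA => reach_good D hS hF hX hbig hA⟩, fun _ => auto_class D hS hF hX hbig hauto hPX⟩
  refine ⟨?_, fun h => absurd h hPc⟩
  have hPne : P ≠ T := fun h => hPc (h ▸ hTc)
  obtain ⟨Ps, hPPs, hn⟩ := exists_fullyNormalized (F := jSys D) hP
  have hcard := IsConj.card_eq hPPs
  have hne : Ps ≠ T := fun h => hPne (eq_of_le_of_card_le hP (by rw [← hcard, h]))
  have hbig : Big (jSys D) p Ps := fun R hR hc => (ih R hR (by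
    have := card_le_card_S hR
    omega)).1
  have hnot : ∀ A, (jSys D).IsConj A Ps → A ∉ {P | TCentric F T P} := fun A hA hAc => by
    obtain ⟨f, hf, hfP⟩ := isConj_iff.mp (isConj_trans hA (isConj_symm hPPs))
    exact hPc (tcentric_map hAc D.sc (jSys_sub D hf) hfP)
  have hreach : ∀ A, (jSys D).IsConj A Ps → Reach (jSys D) Ps A := fun A hA =>
    reach_all hTp hbig hn hne hnot hgen hA
  have hlt := lt_coreExt hTp hn hreach fun hc =>
    absurd (tcentric_of_centric (jSys_invariant_F D hS hF) hc) (hnot Ps (isConj_refl hn.1))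
  have hext := fun γ (h1 : MapFn (jSys D) Ps γ) (h2 : γ '' Ps = (Ps : Set Ω)) =>
    exists_ext_of_aut hTp hbig hn hne hnot hgen h1 h2
  have hfa := fullyAutomized_of_ext hTp hbig hn hlt hreach hext
  exact ⟨Ps, hPPs, hfa, receptive_of_ext hTp hbig hn hlt hreach hext hfa⟩

end CfsgLib.Meet
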