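import Cfsg.Agent.Lib.Fusion.MeetLift
import Cfsg.Agent.Lib.Fusion.PPrimeNormal
import Cfsg.Agent.Lib.Fusion.TransportNormal
import Cfsg.Agent.Lib.FusionNormal.Build

/-!
# The meet of invariant subsystems, V: the generated system and the Frattini property

`jSys D` is the system over `T` generated by the `JMap`s. It lies in each member and is invariant in the
whole system, and every map of the whole system (or of a member) between subgroups of `T` is an automorphism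
of `T` composed with one of its maps.
-/

set_option autoImplicit false

namespace CfsgLib.Meet

open Cfsg Cfsg.FusionSystem CfsgLib.Fusion CfsgLib.FusionNormal CfsgLib.Fusion.PPrimeRes

variable {Ω : Type*} [Group Ω] {S : Subgroup Ω} {F : FusionSystem S} {p : ℕ} {T : Subgroup Ω}
variable {P Q R K M A V H X : Subgroup Ω} [Finite S] (D : Datum F p T)

/-- A predicate containing all the `JMap`s. -/
def Gen (C : MapPred (subSystem D.sc)) : Prop :=
  ∀ (R : Subgroup Ω) (f : Ω → Ω), TCentric F T R → JMap D R f → C.pred R f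

/-- The maps generated by the `JMap`s. -/
def genPred : MapPred (subSystem D.sc) where
  pred P f := ∀ C : MapPred (subSystem D.sc), Gen D C → C.pred P f
  congr h e C hC := C.congr (h C hC) e
  conj hP hg C _ := C.conj hP hg
  comp hf hCf hg hCg hm C hC := C.comp hf (hCf C hC) hg (hCg C hC) hm
  inv hf hCf hr hg hinv C hC := C.inv hf (hCf C hC) hr hg hinv

/-- The system generated by the `JMap`s. -/
def jSys : FusionSystem T := (genPred D).sub

theorem mapFn_jSys {f : Ω → Ω} :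
    MapFn (jSys D) P f ↔ (MapFn F P f ∧ P ≤ T) ∧
      ∀ C : MapPred (subSystem D.sc), Gen D C → C.pred P f :=
  (genPred D).mapFn_sub.trans (and_congr_left' mapFn_subSystem)

theorem jSys_sub {f : Ω → Ω} (h : MapFn (jSys D) P f) : MapFn F P f := ((mapFn_jSys D).mp h).1.1

theorem jSys_isSubsystemOf : (jSys D).IsSubsystemOf F := fun _ _ h => h.1.1

theorem JMap.mapFn {g : Ω → Ω} (h : JMap D R g) (hR : TCentric F T R) : MapFn (jSys D) R g :=
  (mapFn_jSys D).mpr ⟨⟨h.1, hR.le⟩, fun _ hC => hC R g hR h⟩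

/-- Induction over the generated system. -/
theorem jSys_induction {C : Subgroup Ω → (Ω → Ω) → Prop}
    (congr : ∀ {P : Subgroup Ω} {f g : Ω → Ω}, C P f → (∀ x ∈ P, f x = g x) → C P g)
    (conj : ∀ {P : Subgroup Ω} {g : Ω}, P ≤ T → g ∈ T → C P fun x => g * x * g⁻¹)
    (comp : ∀ {P Q : Subgroup Ω} {f g : Ω → Ω}, P ≤ T → MapFn F P f → C P f → Q ≤ T → MapFn F Q g → C Q g →
      (∀ x ∈ P, f x ∈ Q) → C P (g ∘ f))
    (inv : ∀ {P Q : Subgroup Ω} {f g : Ω → Ω}, P ≤ T → MapFn F P f → C P f → f '' P = (Q : Set Ω) →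
      MapFn F Q g → (∀ x ∈ P, g (f x) = x) → C Q g)
    (gen : ∀ (R : Subgroup Ω) (f : Ω → Ω), TCentric F T R → JMap D R f → C R f)
    {f : Ω → Ω} (hf : MapFn (jSys D) P f) : C P f :=
  ((mapFn_jSys D).mp hf).2
    { pred := C
      congr := congr
      conj := conj
      comp := fun hf hCf hg hCg hm => comp (mapFn_subSystem.mp hf).2 (mapFn_subSystem.mp hf).1 hCf
        (mapFn_subSystem.mp hg).2 (mapFn_subSystem.mp hg).1 hCg hm
      inv := fun hf hCf hr hg hinv => inv (mapFn_subSystem.mp hf).2 (mapFn_subSystem.mp hf).1 hCf hr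
        (mapFn_subSystem.mp hg).1 hinv } gen

variable [Fact p.Prime]

include D in
theorem exists_tcentric_fn (hS : IsPGroup p S) (hF : F.IsSaturated p) (hR : TCentric F T R) :
    ∃ (R' : Subgroup Ω) (h : Ω → Ω), F.IsFullyNormalized R' ∧ TCentric F T R' ∧
      MapFn F (normalizerIn S R) h ∧ h '' R = (R' : Set Ω) ∧
      ∀ g ∈ normalizerIn S R, h g ∈ normalizerIn S R' := by
  obtain ⟨R', h, hn, hh, hhR, hhN⟩ := exists_fullyNormalized_mapFn hS hF (hR.le.trans D.le_S')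
  exact ⟨R', h, hn, tcentric_map hR D.sc (hh.mono (le_normalizerIn (hR.le.trans D.le_S'))) hhR, hh, hhR, hhN⟩

/-- The `JMap`s lie in every member. -/
theorem JMap.member (hS : IsPGroup p S) (hF : F.IsSaturated p) (hR : TCentric F T R) {g : Ω → Ω}
    (h : JMap D R g) (i : D.ι) : MapFn (D.E i) R g := by
  have hRS := hR.le.trans D.le_S'
  obtain ⟨R', u, hn, hR'c, hu, huR, -⟩ := exists_tcentric_fn D hS hF hR
  have hu' := hu.mono (le_normalizerIn hRS)
  obtain ⟨a, ha, hae⟩ := h.2.2 R' u hn hu' huR hR'c.le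
  obtain ⟨k, hk, hkr, hk₁, hk₂⟩ := hu'.exists_inv huR
  have haE := ((extFn_ev D (jW_le_extGrp D hR'c.le ha)).2.2.2 i).mono le_W
  refine (CfsgLib.Fusion.mapFn_transport (D.inv i) (hR'c.le.trans (D.le i)) haE
    (fun x hx => stabW_mem (jW_le_stabW D hR'c.le ha) hx) hk hkr hk₂).congr fun x hx => ?_
  show k (ev a (u x)) = g x
  rw [← hae x hx, hk₁ _ (mem_of_image h.2.1 hx)]

theorem jSys_member (hS : IsPGroup p S) (hF : F.IsSaturated p) (i : D.ι) : (jSys D).IsSubsystemOf (D.E i) := by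
  intro P
  refine hom_subset_iff_mapFn.mpr fun f hf => ?_
  exact jSys_induction D (C := fun P f => MapFn (D.E i) P f) (fun h e => h.congr e)
    (fun hP hg => mapFn_conj (hP.trans (D.le i)) (D.le i hg))
    (fun _ _ hf _ _ hg hm => hf.comp hg hm)
    (fun _ _ hf hr hg hinv => by
      obtain ⟨k, hk, hkr, hk₁, -⟩ := hf.exists_inv hr
      refine hk.congr fun y hy => ?_
      obtain ⟨x, hx, rfl⟩ := exists_of_image hr hy
      rw [hk₁ x hx, hinv x hx])
    (fun R f hR h => h.member D hS hF hR i) hf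

omit [Fact p.Prime] in
/-- The generated system is invariant under the automorphisms of `T`. -/
theorem jSys_transport {a : Ω → Ω} (ha : MapFn F T a) {f : Ω → Ω} (hf : MapFn (jSys D) P f)
    (hP' : a '' P = (Q : Set Ω)) : ∃ χ, MapFn (jSys D) Q χ ∧ ∀ x ∈ P, χ (a x) = a (f x) := by
  have hTS := D.le_S'
  have har : a '' T = (T : Set Ω) := image_T D.sc ha le_rfl
  have himg : ∀ {P : Subgroup Ω}, P ≤ T → ∀ {Q : Subgroup Ω}, a '' P = (Q : Set Ω) → Q ≤ T := fun hP _ hQ y hy => by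
    obtain ⟨x, hx, rfl⟩ := exists_of_image hQ hy
    exact mem_of_image har (hP hx)
  refine jSys_induction D (C := fun P f => P ≤ T ∧ (∀ x ∈ P, f x ∈ T) ∧ ∀ Q : Subgroup Ω, a '' P = (Q : Set Ω) →
    ∃ χ, MapFn (jSys D) Q χ ∧ ∀ x ∈ P, χ (a x) = a (f x)) ?_ ?_ ?_ ?_ ?_ hf |>.2.2 Q hP'
  · rintro P f g ⟨hP, hfT, h⟩ e
    refine ⟨hP, fun x hx => e x hx ▸ hfT x hx, fun Q hQ => ?_⟩
    obtain ⟨χ, hχ, hχe⟩ := h Q hQ
    exact ⟨χ, hχ, fun x hx => by rw [hχe x hx, e x hx]⟩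
  · refine fun {P g} hP hg => ⟨hP, fun x hx => T.mul_mem (T.mul_mem hg (hP hx)) (T.inv_mem hg), fun Q hQ => ?_⟩
    exact ⟨fun y => a g * y * (a g)⁻¹, mapFn_conj (himg hP hQ) (mem_of_image har hg),
      fun x hx => (ha.map_conj hg (hP hx)).symm⟩
  · rintro P Q f g hP hf ⟨-, hfT, h⟩ hQ hg ⟨-, hgT, h'⟩ hm
    refine ⟨hP, fun x hx => hgT _ (hm x hx), fun P' hP' => ?_⟩
    obtain ⟨Q', -, hQ'⟩ := (ha.mono hQ).exists_image
    obtain ⟨χ, hχ, hχe⟩ := h P' hP'
    obtain ⟨χ', hχ', hχ'e⟩ := h' Q' hQ'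
    refine ⟨χ' ∘ χ, hχ.comp hχ' fun y hy => ?_, fun x hx => ?_⟩
    · obtain ⟨x, hx, rfl⟩ := exists_of_image hP' hy
      rw [hχe x hx]; exact mem_of_image hQ' (hm x hx)
    · show χ' (χ (a x)) = a (g (f x))
      rw [hχe x hx, hχ'e _ (hm x hx)]
  · rintro P Q f g hP hf ⟨-, hfT, h⟩ hr hg hinv
    have hQT : Q ≤ T := fun y hy => by
      obtain ⟨x, hx, rfl⟩ := exists_of_image hr hy
      exact hfT x hx
    refine ⟨hQT, fun y hy => ?_, fun Q' hQ' => ?_⟩
    · obtain ⟨x, hx, rfl⟩ := exists_of_image hr hy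
      rw [hinv x hx]; exact hP hx
    obtain ⟨P', -, hP'⟩ := (ha.mono hP).exists_image
    obtain ⟨χ, hχ, hχe⟩ := h P' hP'
    have hχr : χ '' P' = (Q' : Set Ω) := by
      rw [← hP', Set.image_image, ← hQ', ← hr, Set.image_image]
      exact Set.image_congr hχe
    obtain ⟨k, hk, -, hk₁, -⟩ := hχ.exists_inv hχr
    refine ⟨k, hk, fun y hy => ?_⟩
    obtain ⟨x, hx, rfl⟩ := exists_of_image hr hy
    rw [← hχe x hx, hk₁ _ (mem_of_image hP' hx), hinv x hx]
  · intro R f hR h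
    refine ⟨hR.le, fun x hx => hR.le (mem_of_image h.2.1 hx), fun Q hQ => ?_⟩
    obtain ⟨k, hk, hkr, hk₁, -⟩ := (ha.mono hR.le).exists_inv hQ
    have h' := h.transport D (ha.mono hR.le) hQ (g' := fun y => a (f (k y))) fun x hx => by
      show a (f (k (a x))) = a (f x)
      rw [hk₁ x hx]
    exact ⟨_, h'.mapFn D (tcentric_map hR D.sc (ha.mono hR.le) hQ), fun x hx => by rw [hk₁ x hx]⟩

section frattini

variable {U : Subgroup Ω} (Y : FusionSystem U)

/-- On `P ∩ T`, `f` is an automorphism of `T` in `Y` composed with a map of the generated system. -/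
def Split (P : Subgroup Ω) (f : Ω → Ω) : Prop :=
  ∃ a j, MapFn Y T a ∧ a '' T = (T : Set Ω) ∧ MapFn (jSys D) (P ⊓ T) j ∧ ∀ x ∈ P ⊓ T, f x = a (j x)

/-- The Frattini property of the generated system. -/
theorem split_of_mapFn (hS : IsPGroup p S) (hF : F.IsSaturated p) (hYF : Y.IsSubsystemOf F) (hYs : Y.IsSaturated p)
    (hTU : T ≤ U) (hUS : U ≤ S) (hTC : ∀ W, TCentric Y T W → TCentric F T W)
    (hJY : ∀ {P : Subgroup Ω} {f : Ω → Ω}, MapFn (jSys D) P f → MapFn Y P f)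
    {f : Ω → Ω} (hf : MapFn Y P f) : Split D Y P f := by
  have := finite_of_le hUS
  have hUp := hS.to_le hUS
  have hTY : Y.StronglyClosed T := ⟨hTU, fun R hR φ hφ x => D.sc.2 R hR φ (hYF R hφ) x⟩
  have hid : MapFn Y T id := mapFn_id hTU
  have hcomp : ∀ {P R : Subgroup Ω} {f g : Ω → Ω}, (∀ x ∈ P, f x ∈ R) → (∀ x ∈ P ⊓ T, f x ∈ T) →
      Split D Y P f → Split D Y R g → Split D Y P (g ∘ f) := by
    rintro P R f g hm hmT ⟨a, j, ha, har, hj, he⟩ ⟨a', j', ha', ha'r, hj', he'⟩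
    obtain ⟨b, hb, hbr, hb₁, hb₂⟩ := ha.exists_inv har
    obtain ⟨R₁, -, hR₁⟩ := (hb.mono (inf_le_right : R ⊓ T ≤ T)).exists_image
    obtain ⟨χ, hχ, hχe⟩ := jSys_transport D (mapFn_of_sub hYF hb) hj' hR₁
    have hfR : ∀ x ∈ P ⊓ T, a (j x) ∈ R ⊓ T := fun x hx => by
      rw [← he x hx]; exact ⟨hm x hx.1, hmT x hx⟩
    have hjR₁ : ∀ x ∈ P ⊓ T, j x ∈ R₁ := fun x hx => by
      rw [← hb₁ _ (hj.mem_S hx)]; exact mem_of_image hR₁ (hfR x hx)
    refine ⟨a' ∘ a, χ ∘ j, ha.comp ha' fun x hx => mem_of_image har hx, image_comp har ha'r,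
      hj.comp hχ hjR₁, fun x hx => ?_⟩
    show g (f x) = a' (a (χ (j x)))
    have h1 := hχe _ (hfR x hx)
    rw [hb₁ _ (hj.mem_S hx)] at h1
    rw [he x hx, he' _ (hfR x hx), h1, hb₂ _ (hj'.mem_S (hfR x hx))]
  refine alperin_induction hUp hYs (fun P f => Split D Y P f)
    (fun {P f g} _ h e => by
      obtain ⟨a, j, ha, har, hj, he⟩ := h
      exact ⟨a, j, ha, har, hj, fun x hx => by rw [← e x hx.1, he x hx]⟩)
    (fun {P R f} _ h hR => by
      obtain ⟨a, j, ha, har, hj, he⟩ := h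
      exact ⟨a, j, ha, har, hj.mono (inf_le_inf_right _ hR), fun x hx => he x ⟨hR hx.1, hx.2⟩⟩)
    (fun {P R f g} hf h _ h' hm => hcomp hm (fun x hx => mapFn_mem hTY hf hx.1 hx.2) h h')
    ?_ ?_ P f hf
  · rintro P R f g hf ⟨a, j, ha, har, hj, he⟩ hr hg hinv
    obtain ⟨b, hb, hbr, hb₁, hb₂⟩ := ha.exists_inv har
    obtain ⟨J₀, -, hJ₀⟩ := hj.exists_image
    obtain ⟨k, hk, hkr, hk₁, -⟩ := hj.exists_inv hJ₀
    have hJ₀T : J₀ ≤ T := hk.le_S
    have haJ : a '' J₀ = ((R ⊓ T : Subgroup Ω) : Set Ω) := by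
      rw [← hJ₀, Set.image_image]
      ext y
      constructor
      · rintro ⟨x, hx, rfl⟩
        show a (j x) ∈ R ⊓ T
        rw [← he x hx]
        exact ⟨mem_of_image hr hx.1, mapFn_mem hTY hf hx.1 hx.2⟩
      · intro hy
        obtain ⟨x, hx, rfl⟩ := exists_of_image hr hy.1
        have hxT : x ∈ T := (mapFn_mem_iff hTY hf hx).mp hy.2
        exact ⟨x, ⟨hx, hxT⟩, (he x ⟨hx, hxT⟩).symm⟩
    obtain ⟨χ, hχ, hχe⟩ := jSys_transport D (mapFn_of_sub hYF ha) hk haJ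
    refine ⟨b, χ, hb, hbr, hχ, fun y hy => ?_⟩
    obtain ⟨z, hz, rfl⟩ := exists_of_image haJ hy
    obtain ⟨x, hx, rfl⟩ := exists_of_image hJ₀ hz
    rw [← he x hx, hinv x hx.1, he x hx, hχe _ hz, hk₁ x hx, hb₁ x hx.2]
  intro Q₁ hQn hQc hQr ih f hf hfr
  set W₀ := Q₁ ⊓ T with hW₀
  have hQU := hQn.1
  by_cases hTQ : T ≤ Q₁
  · refine ⟨f, id, hf.mono hTQ, image_T hTY hf hTQ, mapFn_id inf_le_right, fun x _ => rfl⟩
  have hW₀c : TCentric F T W₀ := hTC W₀ (tcentric_inf_of_radical hUp hYs hTY hQc hQr)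
  obtain ⟨β, hβ, hβe⟩ := hf.exists_aut hfr
  have := finite_mulAut hQU
  -- the normal closure of `Aut_T(Q₁)`
  let K : Subgroup (MulAut Q₁) := Subgroup.closure
    {y | ∃ b ∈ Y.autGroup Q₁, ∃ c ∈ autInducedBy T Q₁, y = b * c * b⁻¹}
  have hKY : K ≤ Y.autGroup Q₁ := (Subgroup.closure_le _).mpr (by
    rintro _ ⟨b, hb, c, hc, rfl⟩
    exact Subgroup.mul_mem _ (Subgroup.mul_mem _ hb
      (autInducedBy_le_autGroup hQU (autInducedBy_mono hTU _ hc))) (Subgroup.inv_mem _ hb))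
  have hKn : ∀ a ∈ Y.autGroup Q₁, ∀ n ∈ K, a * n * a⁻¹ ∈ K := fun a ha n hn => by
    refine (?_ : K ≤ K.comap (MulAut.conj a).toMonoidHom) hn
    refine (Subgroup.closure_le _).mpr ?_
    rintro _ ⟨b, hb, c, hc, rfl⟩
    exact Subgroup.subset_closure ⟨a * b, Subgroup.mul_mem _ ha hb, c, hc, by simp [mul_assoc]⟩
  have hWQ : W₀ ≤ Q₁ := inf_le_left
  let N : Subgroup (MulAut Q₁) :=
    { carrier := {a | JMap D W₀ (ev a)}
      one_mem' := (jMap_id D (hW₀c.le.trans D.le_S')).congr D fun x hx => (ev_one (hWQ hx)).symm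
      mul_mem' := fun {a b} ha hb => (hb.comp D ha).congr D fun x hx => (ev_mul a b (hWQ hx)).symm
      inv_mem' := fun {a} ha => ha.inv D fun x hx => ev_inv_ev a (hWQ hx) }
  have hKN : K ≤ N := by
    refine (Subgroup.closure_le _).mpr ?_
    rintro _ ⟨b, hb, c, hc, rfl⟩
    obtain ⟨t, ht, hte⟩ := mem_autInducedBy.mp hc
    have htW : t ∈ normalizerIn T W₀ := by
      have := finite_of_le (hW₀c.le.trans D.le_S')
      exact ⟨ht, mem_normalizer_of_forall fun x hx =>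
        ⟨conj_mem_of_normalizer (mem_normalizer_of_aut hte) hx.1, T.mul_mem (T.mul_mem ht hx.2) (T.inv_mem ht)⟩⟩
    have hbm := (mapFn_ev hQU hb).mono hWQ
    have hbW : ev b '' W₀ = (W₀ : Set Ω) := hbm.image_eq_of_maps (hWQ.trans hQU)
      (fun x hx => ⟨ev_mem b hx.1, mapFn_mem hTY hbm hx hx.2⟩) le_rfl
    refine (jMap_conj D hS hF hW₀c.le htW).transport D (mapFn_of_sub hYF hbm) hbW fun x hx => ?_
    rw [ev_mul _ _ (ev_mem b (hWQ hx)), ev_inv_ev b (hWQ hx), ev_mul _ _ (hWQ hx), ev_conj_of hte (hWQ hx)]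
  obtain ⟨n, hn, k, hk, hkK, hβk⟩ := exists_frattini_mul (sylIn_autS hUp hYs hQn) hKY hKn hβ
  -- `k` extends to a larger subgroup
  set M₀ := normalizerIn T Q₁ with hM₀
  have hM₀U : M₀ ≤ normalizerIn U Q₁ := inf_le_inf_right _ hTU
  obtain ⟨G, hG, hGe⟩ := exists_extension_sup (fullyNormalized_good hUp hYs hQn).2 (mapFn_ev hQU hk)
    (ev_image k) hM₀U fun t ht => by
      obtain ⟨c, hc, hce⟩ := exists_autInducedBy (K := T) ht.1 ht.2
      have h1 := hkK c ⟨autInducedBy_mono hTU _ hc,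
        Subgroup.subset_closure ⟨1, Subgroup.one_mem _, c, hc, by simp⟩⟩
      obtain ⟨s, hs, hse⟩ := mem_autInducedBy.mp h1.1
      refine ⟨s, hs, fun x hx => ?_⟩
      rw [← ev_conj_of hse (ev_mem k hx), ev_mul _ _ (ev_mem k hx), ev_inv_ev k hx, ev_mul _ _ hx,
        ev_conj_of hce hx]
  have hbig : Nat.card Q₁ < Nat.card (Q₁ ⊔ M₀ : Subgroup Ω) := by
    refine FusionNormal.card_lt_card hG.le_S (lt_of_le_of_ne le_sup_left fun h => ?_)
    have hM₀Q : M₀ ≤ Q₁ := le_sup_right.trans h.ge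
    have hnQ : Q₁ ≤ Subgroup.normalizer (T : Set Ω) := fun q hq =>
      StronglyClosed.le_normalizer hTY (hQU hq)
    obtain ⟨g, hg, hgQ⟩ := SetLike.exists_of_lt (Fusion.lt_normalizerIn hUp
      (sup_le hQU hTU) (lt_of_le_of_ne (le_sup_left : Q₁ ≤ Q₁ ⊔ T) fun h' => hTQ (le_sup_right.trans h'.ge)))
    have hg1 : g ∈ ((Q₁ ⊔ T : Subgroup Ω) : Set Ω) := hg.1
    rw [Subgroup.coe_mul_of_left_le_normalizer_right Q₁ T hnQ] at hg1
    obtain ⟨q, hq, t, ht, rfl⟩ := hg1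
    refine hgQ (Q₁.mul_mem hq (hM₀Q ⟨ht, ?_⟩))
    have := Subgroup.mul_mem _ (Subgroup.inv_mem _ (Subgroup.le_normalizer hq)) hg.2
    rwa [inv_mul_cancel_left] at this
  obtain ⟨a₁, j₁, ha₁, ha₁r, hj₁, hje⟩ := ih _ G hG hbig
  have hk' : Split D Y W₀ (ev k) := ⟨a₁, j₁, ha₁, ha₁r, hj₁.mono (inf_le_inf_right _ (hWQ.trans le_sup_left)),
    fun x hx => by rw [← hGe x (hWQ hx.1)]; exact hje x ⟨Subgroup.mem_sup_left (hWQ hx.1), hx.2⟩⟩
  have hn' : Split D Y W₀ (ev n) := ⟨id, ev n, hid, Set.image_id _,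
    ((JMap.mapFn D (hKN hn) hW₀c)).mono inf_le_left, fun x _ => rfl⟩
  have hkm := (mapFn_ev hQU hk).mono hWQ
  obtain ⟨a, j, ha, har, hj, he⟩ := hcomp (P := W₀) (R := W₀) (fun x hx => ⟨ev_mem k hx.1, mapFn_mem hTY hkm hx hx.2⟩)
    (fun x hx => mapFn_mem hTY hkm hx.1 hx.2) hk' hn'
  refine ⟨a, j, ha, har, hj.mono (le_inf le_rfl inf_le_right), fun x hx => ?_⟩
  rw [← hβe ⟨x, hx.1⟩, ← ev_val, hβk, ev_mul _ _ hx.1]
  exact he x ⟨hx, hx.2⟩

/-- Every map between subgroups of `T` of the whole system, or of a member, splits. -/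
theorem split_F (hS : IsPGroup p S) (hF : F.IsSaturated p) {f : Ω → Ω} (hf : MapFn F P f) :
    Split D F P f :=
  split_of_mapFn D F hS hF (fun _ => Set.Subset.rfl) hF D.le_S' le_rfl (fun _ h => h)
    (fun h => jSys_sub D h) hf

theorem split_member (hS : IsPGroup p S) (hF : F.IsSaturated p) (i : D.ι) {f : Ω → Ω}
    (hf : MapFn (D.E i) P f) : Split D (D.E i) P f := by
  refine split_of_mapFn D (D.E i) hS hF (D.inv i).1 (D.sat i) (D.le i) (D.leS i) (fun W hW => ?_)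
    (fun h => mapFn_of_sub (jSys_member D hS hF i) h) hf
  refine ⟨hW.le, fun V hV => ?_⟩
  obtain ⟨g, hg, hgV⟩ := isConj_iff.mp hV
  obtain ⟨a, j, ha, har, hj, he⟩ := split_F D hS hF hg
  rw [inf_eq_left.mpr hW.le] at hj he
  obtain ⟨V₀, -, hV₀⟩ := hj.exists_image
  have hc := hW.2 V₀ ((mapFn_of_sub (jSys_member D hS hF i) hj).isConj hV₀)
  intro c hc'
  obtain ⟨c₀, hc₀, rfl⟩ := exists_of_image har hc'.1
  have h1 : c₀ ∈ centralizerIn T V₀ := by
    refine mem_centralizerIn.mpr ⟨hc₀, fun y hy => ?_⟩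
    obtain ⟨x, hx, rfl⟩ := exists_of_image hV₀ hy
    have hjx := hj.mem_S hx
    refine ha.injOn (T.mul_mem hjx hc₀) (T.mul_mem hc₀ hjx) ?_
    rw [ha.map_mul hjx hc₀, ha.map_mul hc₀ hjx, ← he x hx]
    exact (mem_centralizerIn.mp hc').2 _ (mem_of_image hgV hx)
  obtain ⟨x, hx, hxe⟩ := exists_of_image hV₀ (hc h1)
  rw [← hxe, ← he x hx]
  exact mem_of_image hgV hx

end frattini

/-- The generated system is invariant in any system satisfying the Frattini property. -/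
theorem jSys_isInvariantIn {U : Subgroup Ω} {Y : FusionSystem U} (hYF : Y.IsSubsystemOf F) (hTU : T ≤ U)
    (hJY : (jSys D).IsSubsystemOf Y)
    (hsplit : ∀ {P : Subgroup Ω} {f : Ω → Ω}, MapFn Y P f → Split D Y P f) : (jSys D).IsInvariantIn Y := by
  refine FusionTransport.isInvariantIn_of_mapFn hJY ⟨hTU, fun R hR φ hφ x => D.sc.2 R hR φ (hYF R hφ) x⟩
    (fun P P' f a hf ha _ hP' => jSys_transport D (mapFn_of_sub hYF ha) hf hP') fun P f hP hf => ?_
  obtain ⟨a, j, ha, har, hj, he⟩ := hsplit hf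
  rw [inf_eq_left.mpr hP] at hj he
  exact ⟨a, j, ha, har, hj, he⟩

theorem jSys_invariant_F (hS : IsPGroup p S) (hF : F.IsSaturated p) : (jSys D).IsInvariantIn F :=
  jSys_isInvariantIn D (fun _ => Set.Subset.rfl) D.le_S' (jSys_isSubsystemOf D) fun h => split_F D hS hF h

theorem jSys_invariant_member (hS : IsPGroup p S) (hF : F.IsSaturated p) (i : D.ι) :
    (jSys D).IsInvariantIn (D.E i) :=
  jSys_isInvariantIn D (D.inv i).1 (D.le i) (jSys_member D hS hF i) fun h => split_member D hS hF i h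

end CfsgLib.Meet
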