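import Cfsg.Agent.Lib.Fusion.GoodLift

/-!
# The automorphisms of `Q B` over automorphisms of `Q` in a normal subsystem

For `E` normal in `F` over `T`, `Q` centric in `E` and `B ≤ C_S(T)`, `modGrp` is the group of automorphisms of
`Q B` in `F` that are trivial modulo `Q` and restrict to `Q` as members of `E`.
-/

namespace CfsgLib.Fusion

open Cfsg Cfsg.FusionSystem CfsgLib.FusionNormal

variable {Ω : Type*} [Group Ω] {S T : Subgroup Ω} {F : FusionSystem S} {E : FusionSystem T}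
variable {Q B : Subgroup Ω}

/-- The automorphisms of `Q B` in `F`, trivial modulo `Q`, restricting to members of `E`. -/
def modGrp (hE : E.IsSubsystemOf F) (hQ : Q ≤ T) (B : Subgroup Ω) : Subgroup (MulAut ↥(Q ⊔ B)) where
  carrier := {g | g ∈ F.autGroup (Q ⊔ B) ∧
    (∀ x : ↥(Q ⊔ B), (x : Ω)⁻¹ * ((g x : ↥(Q ⊔ B)) : Ω) ∈ Q) ∧
    ∃ f, MapFn E Q f ∧ ∀ x : ↥(Q ⊔ B), (x : Ω) ∈ Q → f x = ((g x : ↥(Q ⊔ B)) : Ω)}
  one_mem' := ⟨Subgroup.one_mem _, fun x => by simp, id, mapFn_id hQ, fun _ _ => rfl⟩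
  mul_mem' := by
    rintro g h ⟨hg, hgQ, f, hf, hfe⟩ ⟨hh, hhQ, k, hk, hke⟩
    have hpres : ∀ x : ↥(Q ⊔ B), (x : Ω) ∈ Q → ((h x : ↥(Q ⊔ B)) : Ω) ∈ Q := fun x hx => by
      simpa using Q.mul_mem hx (hhQ x)
    refine ⟨Subgroup.mul_mem _ hg hh, fun x => ?_, f ∘ k, hk.comp hf fun x hx => ?_, fun x hx => ?_⟩
    · simpa [mul_assoc] using Q.mul_mem (hhQ x) (hgQ (h x))
    · rw [hke ⟨x, Subgroup.mem_sup_left hx⟩ hx]; exact hpres _ hx
    · show f (k x) = _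
      rw [hke x hx, hfe _ (hpres x hx)]; rfl
  inv_mem' := by
    rintro g ⟨hg, hgQ, f, hf, hfe⟩
    have hinv : ∀ x : ↥(Q ⊔ B), (x : Ω)⁻¹ * ((g⁻¹ x : ↥(Q ⊔ B)) : Ω) ∈ Q := fun x => by
      have h := Q.inv_mem (hgQ (g⁻¹ x))
      rw [MulAut.apply_inv_self] at h
      simpa using h
    have hfr : f '' Q = (Q : Set Ω) := by
      ext z
      constructor
      · rintro ⟨x, hx, rfl⟩
        have h := hgQ ⟨x, Subgroup.mem_sup_left hx⟩
        rw [← hfe ⟨x, Subgroup.mem_sup_left hx⟩ hx] at h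
        simpa using Q.mul_mem hx h
      · intro hz
        obtain ⟨x, hx⟩ : ∃ x, x = g⁻¹ ⟨z, Subgroup.mem_sup_left hz⟩ := ⟨_, rfl⟩
        have hxQ : (x : Ω) ∈ Q := by
          rw [hx]; simpa using Q.mul_mem hz (hinv ⟨z, Subgroup.mem_sup_left hz⟩)
        exact ⟨x, hxQ, by rw [hfe x hxQ, hx, MulAut.apply_inv_self]⟩
    obtain ⟨k, hk, -, hk₁, -⟩ := hf.exists_inv hfr
    refine ⟨Subgroup.inv_mem _ hg, hinv, k, hk, fun x hx => ?_⟩
    have hxQ : ((g⁻¹ x : ↥(Q ⊔ B)) : Ω) ∈ Q := by simpa using Q.mul_mem hx (hinv x)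
    conv_lhs => rw [← MulAut.apply_inv_self (M := ↥(Q ⊔ B)) g x, ← hfe _ hxQ]
    exact hk₁ _ hxQ

variable {hE : E.IsSubsystemOf F} {hQ : Q ≤ T}

namespace modGrp

theorem apply_mem (g : modGrp hE hQ B) {x : ↥(Q ⊔ B)} (hx : (x : Ω) ∈ Q) :
    (((g : MulAut ↥(Q ⊔ B)) x : ↥(Q ⊔ B)) : Ω) ∈ Q := by
  simpa using Q.mul_mem hx (g.2.2.1 x)

theorem disp_mem (g : modGrp hE hQ B) (x : ↥(Q ⊔ B)) :
    (x : Ω)⁻¹ * (((g : MulAut ↥(Q ⊔ B)) x : ↥(Q ⊔ B)) : Ω) ∈ Q :=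
  g.2.2.1 x

/-- Restriction to `Q`. -/
def resFun (g : modGrp hE hQ B) : MulAut Q where
  toFun x := ⟨((g : MulAut ↥(Q ⊔ B)) ⟨x, Subgroup.mem_sup_left x.2⟩ : ↥(Q ⊔ B)), apply_mem g x.2⟩
  invFun x := ⟨((g⁻¹ : modGrp hE hQ B).1 ⟨x, Subgroup.mem_sup_left x.2⟩ : ↥(Q ⊔ B)), apply_mem g⁻¹ x.2⟩
  left_inv x := Subtype.ext (by simp)
  right_inv x := Subtype.ext (by simp)
  map_mul' x y := Subtype.ext (by
    show (((g : MulAut ↥(Q ⊔ B)) (⟨x, Subgroup.mem_sup_left x.2⟩ * ⟨y, Subgroup.mem_sup_left y.2⟩) : ↥(Q ⊔ B)) : Ω) = _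
    rw [map_mul]; rfl)

theorem resFun_mem (g : modGrp hE hQ B) : resFun g ∈ E.autGroup Q := by
  obtain ⟨f, hf, hfe⟩ := g.2.2.2
  exact (mem_autGroup_iff_mapFn hQ).mpr ⟨f, hf, fun x => hfe ⟨x, Subgroup.mem_sup_left x.2⟩ x.2⟩

/-- Restriction to `Q`, as a homomorphism. -/
def res : modGrp hE hQ B →* E.autGroup Q where
  toFun g := ⟨resFun g, resFun_mem g⟩
  map_one' := Subtype.ext (MulEquiv.ext fun _ => Subtype.ext rfl)
  map_mul' _ _ := Subtype.ext (MulEquiv.ext fun _ => Subtype.ext rfl)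

theorem res_apply (g : modGrp hE hQ B) (x : Q) :
    ((((res g : E.autGroup Q) : MulAut Q) x : Q) : Ω) =
      (((g : MulAut ↥(Q ⊔ B)) ⟨x, Subgroup.mem_sup_left x.2⟩ : ↥(Q ⊔ B)) : Ω) := rfl

theorem res_eq_one_iff (g : modGrp hE hQ B) :
    res g = 1 ↔ ∀ x : ↥(Q ⊔ B), (x : Ω) ∈ Q → (g : MulAut ↥(Q ⊔ B)) x = x := by
  constructor
  · intro h x hx
    refine Subtype.ext ?_
    have h1 := res_apply g ⟨x, hx⟩
    rw [h] at h1
    exact h1.symm
  · intro h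
    refine Subtype.ext (MulEquiv.ext fun x => Subtype.ext ?_)
    rw [res_apply, h _ x.2]; rfl

theorem apply_ker {g : modGrp hE hQ B} (hg : g ∈ (res : modGrp hE hQ B →* E.autGroup Q).ker)
    {x : ↥(Q ⊔ B)} (hx : (x : Ω) ∈ Q) : (g : MulAut ↥(Q ⊔ B)) x = x :=
  (res_eq_one_iff g).mp (MonoidHom.mem_ker.mp hg) x hx

theorem mem_normalizer (hB : B ≤ centralizerIn S T) {t : Ω} (ht : t ∈ normalizerIn T Q) :
    t ∈ Subgroup.normalizer ((Q ⊔ B : Subgroup Ω) : Set Ω) := by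
  have hb : ∀ b ∈ B, t * b * t⁻¹ = b := fun b hb => by
    rw [(mem_centralizerIn.mp (hB hb)).2 t ht.1, mul_inv_cancel_right]
  have hfwd : ∀ t' : Ω, t' ∈ normalizerIn T Q → (Q ⊔ B).map (MulAut.conj t').toMonoidHom ≤ Q ⊔ B := by
    intro t' ht'
    rw [Subgroup.map_sup]
    refine sup_le ?_ ?_
    · rintro _ ⟨q, hq, rfl⟩
      exact Subgroup.mem_sup_left ((Subgroup.mem_normalizer_iff.mp ht'.2 q).mp hq)
    · rintro _ ⟨b, hb', rfl⟩
      refine Subgroup.mem_sup_right ?_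
      show t' * b * t'⁻¹ ∈ B
      rwa [(mem_centralizerIn.mp (hB hb')).2 t' ht'.1, mul_inv_cancel_right]
  refine Subgroup.mem_normalizer_iff.mpr fun x => ⟨fun hx => hfwd t ht ⟨x, hx, rfl⟩, fun hx => ?_⟩
  have := hfwd t⁻¹ (Subgroup.inv_mem _ ht) ⟨_, hx, rfl⟩
  simpa [mul_assoc] using this

variable [Finite S] (hS : T ≤ S) (hB : B ≤ centralizerIn S T)

include hB in
omit [Finite S] in
/-- The displacement of an element of `B` lies in `C_T(Q)`. -/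
theorem disp_mem_centralizer (g : modGrp hE hQ B) {x : ↥(Q ⊔ B)} (hx : (x : Ω) ∈ B) :
    (x : Ω)⁻¹ * (((g : MulAut ↥(Q ⊔ B)) x : ↥(Q ⊔ B)) : Ω) ∈ centralizerIn T Q := by
  refine mem_centralizerIn.mpr ⟨hQ (disp_mem g x), fun q hq => ?_⟩
  obtain ⟨u, hu, hue⟩ : ∃ u : ↥(Q ⊔ B), (u : Ω) ∈ Q ∧ (g : MulAut ↥(Q ⊔ B)) u = ⟨q, Subgroup.mem_sup_left hq⟩ :=
    ⟨(g⁻¹ : modGrp hE hQ B).1 ⟨q, Subgroup.mem_sup_left hq⟩, apply_mem g⁻¹ hq, by simp⟩
  have hux : u * x = x * u := Subtype.ext ((mem_centralizerIn.mp (hB hx)).2 _ (hQ hu))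
  have h1 := congrArg (fun z => (((g : MulAut ↥(Q ⊔ B)) z : ↥(Q ⊔ B)) : Ω)) hux
  simp only [map_mul, hue, Subgroup.coe_mul] at h1
  have h2 : q * (x : Ω)⁻¹ = (x : Ω)⁻¹ * q := by
    have h := (mem_centralizerIn.mp ((centralizerIn S T).inv_mem (hB hx))).2 q (hQ hq)
    exact h
  rw [← mul_assoc, h2, mul_assoc, h1, mul_assoc]

include hS hB in
omit [Finite S] in
/-- Conjugations by `N_T(Q)`. -/
theorem exists_cnj {t : Ω} (ht : t ∈ normalizerIn T Q) :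
    ∃ g : modGrp hE hQ B, ∀ x : ↥(Q ⊔ B), (((g : MulAut ↥(Q ⊔ B)) x : ↥(Q ⊔ B)) : Ω) = t * x * t⁻¹ := by
  have hD : Q ⊔ B ≤ S := sup_le (hQ.trans hS) (hB.trans centralizerIn_le)
  have hN := mem_normalizer hB ht
  refine ⟨⟨(Q ⊔ B).normalizerMonoidHom ⟨t, hN⟩, ?_, ?_, fun x => t * x * t⁻¹, ?_, fun _ _ => rfl⟩, fun _ => rfl⟩
  · exact autInducedBy_le_autGroup hD (mem_autInducedBy.mpr ⟨t, hS ht.1, fun _ => rfl⟩)
  · intro x
    show (x : Ω)⁻¹ * (t * x * t⁻¹) ∈ Q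
    have hle : Q ⊔ B ≤ Subgroup.normalizer (Q : Set Ω) := sup_le Subgroup.le_normalizer fun b hb =>
      Subgroup.centralizer_le_normalizer _ (Subgroup.centralizer_le (SetLike.coe_subset_coe.mpr hQ) (hB hb).2)
    suffices h : ∀ z ∈ Q ⊔ B, z⁻¹ * (t * z * t⁻¹) ∈ Q from h x x.2
    intro z hx
    rw [Subgroup.sup_eq_closure] at hx
    induction hx using Subgroup.closure_induction with
    | mem z hz =>
      rcases hz with hz | hz
      · exact Q.mul_mem (Q.inv_mem hz) ((Subgroup.mem_normalizer_iff.mp ht.2 z).mp hz)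
      · rw [(mem_centralizerIn.mp (hB hz)).2 t ht.1, mul_inv_cancel_right, inv_mul_cancel]; exact Q.one_mem
    | one => simp
    | mul a b _ hb iha ihb =>
      rw [← Subgroup.sup_eq_closure] at hb
      have h1 := (Subgroup.mem_normalizer_iff''.mp (hle hb) _).mp iha
      simpa [mul_assoc] using Q.mul_mem h1 ihb
    | inv a ha iha =>
      rw [← Subgroup.sup_eq_closure] at ha
      have h1 := (Subgroup.mem_normalizer_iff.mp (hle ha) _).mp (Q.inv_mem iha)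
      simpa [mul_assoc] using h1
  · exact mapFn_conj hQ ht.1

include hS hB in
/-- A map of `F` on `Q B` over an automorphism of `Q` in `E`, trivial on `B` modulo `Q`. -/
theorem exists_of_map {f k : Ω → Ω} (hf : MapFn E Q f) (hfr : f '' Q = (Q : Set Ω))
    (hk : MapFn F (Q ⊔ B) k) (hkQ : ∀ x ∈ Q, k x = f x) (hkB : ∀ b ∈ B, b⁻¹ * k b ∈ Q) :
    ∃ g : modGrp hE hQ B, ∀ x : ↥(Q ⊔ B), (((g : MulAut ↥(Q ⊔ B)) x : ↥(Q ⊔ B)) : Ω) = k x := by
  have hD : Q ⊔ B ≤ S := sup_le (hQ.trans hS) (hB.trans centralizerIn_le)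
  have hle : Q ⊔ B ≤ Subgroup.normalizer (Q : Set Ω) := sup_le Subgroup.le_normalizer fun b hb =>
    Subgroup.centralizer_le_normalizer _ (Subgroup.centralizer_le (SetLike.coe_subset_coe.mpr hQ) (hB hb).2)
  have hmod : ∀ x ∈ Q ⊔ B, x⁻¹ * k x ∈ Q := by
    intro x hx
    rw [Subgroup.sup_eq_closure] at hx
    induction hx using Subgroup.closure_induction with
    | mem z hz =>
      rcases hz with hz | hz
      · exact Q.mul_mem (Q.inv_mem hz) (by rw [hkQ z hz]; exact mem_of_image hfr hz)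
      · exact hkB z hz
    | one => rw [hk.map_one]; simp
    | mul a b ha hb iha ihb =>
      rw [← Subgroup.sup_eq_closure] at ha hb
      rw [hk.map_mul ha hb]
      have h1 := (Subgroup.mem_normalizer_iff''.mp (hle hb) _).mp iha
      simpa [mul_assoc] using Q.mul_mem h1 ihb
    | inv a ha iha =>
      rw [← Subgroup.sup_eq_closure] at ha
      rw [hk.map_inv ha]
      have h1 := (Subgroup.mem_normalizer_iff.mp (hle ha) _).mp (Q.inv_mem iha)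
      simpa [mul_assoc] using h1
  obtain ⟨α, hα, hαe⟩ := hk.exists_aut (hk.image_eq_of_maps hD (fun x hx => by
    simpa using (Q ⊔ B).mul_mem hx (Subgroup.mem_sup_left (hmod x hx))) le_rfl)
  exact ⟨⟨α, hα, fun x => by rw [hαe]; exact hmod x x.2, f, hf, fun x hx => by rw [hαe, hkQ _ hx]⟩, hαe⟩

variable {p : ℕ} [Fact p.Prime]

include hS hB in
/-- Restriction to `Q` is surjective for a normal subsystem. -/
theorem res_surjective (hSp : IsPGroup p S) (hEn : E.IsNormalIn F p) (hQc : E.IsCentric Q) :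
    Function.Surjective (res : modGrp hE hQ B → E.autGroup Q) := by
  intro a
  obtain ⟨f, hf, hfr, hfe⟩ := exists_mapFn_of_aut hQ a.2
  obtain ⟨k, hk, hkQ, hkC⟩ := exists_ext_mod hSp hEn hf hQc
  obtain ⟨g, hg⟩ := exists_of_map (hE := hE) (hQ := hQ) hS hB hf hfr (hk.mono (sup_le_sup_left hB Q)) hkQ
    fun b hb => IsCentric.centralizerIn_le' hQc
      (displace_mem_centralizerIn hEn.1.2.2.2.1 le_rfl hk hkQ hQ hfr (hB hb) (hkC b (hB hb)))
  refine ⟨g, Subtype.ext (MulEquiv.ext fun x => Subtype.ext ?_)⟩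
  rw [res_apply, hg, hkQ _ x.2, hfe]

include hS in
/-- The kernel of the restriction is a `p`-group. -/
theorem isPGroup_ker (hSp : IsPGroup p S) :
    IsPGroup p (res : modGrp hE hQ B →* E.autGroup Q).ker := by
  haveI := finite_of_le (hQ.trans hS)
  obtain ⟨j, hj⟩ := IsPGroup.iff_card.mp (hSp.to_le (hQ.trans hS))
  intro g
  refine ⟨j, Subtype.ext (Subtype.ext (MulEquiv.ext fun x => ?_))⟩
  obtain ⟨u, hu⟩ : ∃ u, u = x⁻¹ * ((g : modGrp hE hQ B) : MulAut ↥(Q ⊔ B)) x := ⟨_, rfl⟩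
  have huQ : (u : Ω) ∈ Q := by rw [hu]; exact disp_mem _ x
  have hfix : ((g : modGrp hE hQ B) : MulAut ↥(Q ⊔ B)) u = u := apply_ker g.2 huQ
  have hpow : ∀ m : ℕ, (((g : modGrp hE hQ B) : MulAut ↥(Q ⊔ B)) ^ m) x = x * u ^ m := by
    intro m
    induction m with
    | zero => simp
    | succ m ih =>
      rw [pow_succ', MulAut.mul_apply, ih, map_mul, map_pow, hfix, pow_succ', ← mul_assoc]
      rw [hu, mul_inv_cancel_left]
  show (((g : modGrp hE hQ B) : MulAut ↥(Q ⊔ B)) ^ p ^ j) x = x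
  rw [hpow]
  refine mul_eq_left.mpr (Subtype.ext ?_)
  rw [Subgroup.coe_pow, Subgroup.coe_one, ← hj]
  exact congrArg Subtype.val (pow_card_eq_one' (G := Q) (x := ⟨(u : Ω), huQ⟩))

include hS hB in
/-- A Sylow subgroup: the automorphisms inducing conjugations of `N_T(Q)` on `Q`. -/
theorem exists_sylow (hSp : IsPGroup p S) (hEn : E.IsNormalIn F p) (hQn : E.IsFullyNormalized Q)
    (hQc : E.IsCentric Q) :
    ∃ M : Sylow p (modGrp hE hQ B), ∀ g : modGrp hE hQ B, g ∈ (M : Subgroup (modGrp hE hQ B)) ↔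
      ∃ t ∈ normalizerIn T Q, ∀ x : ↥(Q ⊔ B), (x : Ω) ∈ Q →
        (((g : MulAut ↥(Q ⊔ B)) x : ↥(Q ⊔ B)) : Ω) = t * x * t⁻¹ := by
  haveI := finite_of_le hS
  haveI := finite_mulAut hQ
  obtain ⟨-, P, hP⟩ := (fullyNormalized_good (hSp.to_le hS) hEn.1.1 hQn).1
  refine ⟨P.comapOfKerIsPGroup res (isPGroup_ker hS hSp)
    (by rw [MonoidHom.range_eq_top.mpr (res_surjective hS hB hSp hEn hQc)]; exact le_top), fun g => ?_⟩
  rw [Sylow.coe_comapOfKerIsPGroup, Subgroup.mem_comap, hP, Subgroup.mem_subgroupOf, mem_autInducedBy]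
  constructor
  · rintro ⟨t, ht, hte⟩
    exact ⟨t, ⟨ht, mem_normalizer_of_aut hte⟩, fun x hx => (res_apply g ⟨x, hx⟩).symm.trans (hte _)⟩
  · rintro ⟨t, ht, hte⟩
    exact ⟨t, ht.1, fun x => (res_apply g x).trans (hte _ x.2)⟩

end modGrp

end CfsgLib.Fusion
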