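import Cfsg.Agent.Lib.Fusion.Transfer
import Cfsg.Agent.Lib.Fusion.Normal
import Mathlib.GroupTheory.PGroup
import Mathlib.GroupTheory.QuotientGroup.Basic
import Mathlib.Data.Fintype.Quotient

/-!
# Existence of models

For a saturated system with a normal centric subgroup `Q`, let `N` be the group of permutations of a
stable biset commuting with the right action and normalizing the left action of `Q`, and `K` the
centralizer in `N` of that action. Multiplying the left shifts by which `K` permutes a coherent family of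
points of the `Q`-fixed right orbits gives an `N`-equivariant homomorphism `K →* Z(Q)`, and `N` modulo
its kernel is a model.
-/

namespace CfsgLib.Fusion.Model

open Cfsg Cfsg.FusionSystem CfsgLib.Fusion CfsgLib.Fusion.Twist MulAction
open scoped IsMulCommutative

universe u

variable {Ω : Type u} [Group Ω] {S : Subgroup Ω} {F : FusionSystem S} {p : ℕ} (B : StableBiset F p)
  (Q : Subgroup Ω)

/-! ### The groups -/

/-- Left multiplication. -/
def lmap : S →* Equiv.Perm B.X := (MulAction.toPermHom (↥S × ↥S) B.X).comp (MonoidHom.inl S S)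

/-- Right multiplication. -/
def rmap : S →* Equiv.Perm B.X := (MulAction.toPermHom (↥S × ↥S) B.X).comp (MonoidHom.inr S S)

@[simp] theorem lmap_apply (a : S) (x : B.X) : lmap B a x = ((a, 1) : ↥S × ↥S) • x := rfl

@[simp] theorem rmap_apply (b : S) (x : B.X) : rmap B b x = ((1, b) : ↥S × ↥S) • x := rfl

theorem lmap_rmap (a b : S) : lmap B a * rmap B b = rmap B b * lmap B a := by
  ext x
  simp [smul_smul]

theorem lmap_injective (hX : Nonempty B.X) : Function.Injective (lmap B) := by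
  intro a a' h
  obtain ⟨x⟩ := hX
  have h1 : ((a'⁻¹ * a, 1) : ↥S × ↥S) • x = x := by
    rw [← one_mul (1 : S), ← Prod.mk_mul_mk, mul_smul, ← lmap_apply B a, h, lmap_apply, smul_smul,
      Prod.mk_mul_mk, inv_mul_cancel, one_mul, Prod.mk_one_one, one_smul]
  obtain ⟨P, ψ, hψ, φ, hφ, he⟩ := B.isTw_stab x
  obtain ⟨y, hy₁, hy₂⟩ := he.le h1
  obtain rfl : y = 1 := F.injective_of_mem hφ (by rw [map_one]; exact hy₂.symm)
  exact (inv_mul_eq_one.mp (Subtype.ext (hy₁.trans (map_one ψ)))).symm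

/-- Left multiplications by elements of `Q`. -/
def lQ : Subgroup (Equiv.Perm B.X) := (Q.subgroupOf S).map (lmap B)

/-- The permutations commuting with the right action and normalizing `lQ`. -/
def ambient : Subgroup (Equiv.Perm B.X) :=
  Subgroup.centralizer ((rmap B).range : Set (Equiv.Perm B.X)) ⊓ Subgroup.normalizer (lQ B Q : Set (Equiv.Perm B.X))

/-- The permutations commuting with the right action and with the left action of `Q`. -/
def fixer : Subgroup (Equiv.Perm B.X) :=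
  Subgroup.centralizer ((rmap B).range : Set (Equiv.Perm B.X)) ⊓ Subgroup.centralizer (lQ B Q : Set (Equiv.Perm B.X))

theorem fixer_le : fixer B Q ≤ ambient B Q := inf_le_inf_left _ (Subgroup.centralizer_le_normalizer _)

variable {B Q}

theorem ambient_right {g : Equiv.Perm B.X} (hg : g ∈ ambient B Q) (b : S) (x : B.X) :
    g (((1, b) : ↥S × ↥S) • x) = ((1, b) : ↥S × ↥S) • g x :=
  (Equiv.Perm.congr_fun (Subgroup.mem_centralizer_iff.mp hg.1 _ ⟨b, rfl⟩) x).symm

theorem fixer_smul {k : Equiv.Perm B.X} (hk : k ∈ fixer B Q) {a : S} (ha : (a : Ω) ∈ Q) (b : S) (x : B.X) :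
    k (((a, b) : ↥S × ↥S) • x) = ((a, b) : ↥S × ↥S) • k x := by
  rw [B.smul_split, B.smul_split a b (k x), ambient_right (fixer_le B Q hk)]
  congr 1
  exact (Equiv.Perm.congr_fun (Subgroup.mem_centralizer_iff.mp hk.2 _ ⟨a, ha, rfl⟩) x).symm

theorem exists_conj_left {g : Equiv.Perm B.X} (hg : g ∈ ambient B Q) {a : S} (ha : (a : Ω) ∈ Q) :
    ∃ a' : S, (a' : Ω) ∈ Q ∧ g * lmap B a * g⁻¹ = lmap B a' := by
  obtain ⟨a', ha', he⟩ := (Subgroup.mem_normalizer_iff.mp hg.2 _).mp ⟨a, ha, rfl⟩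
  exact ⟨a', ha', he.symm⟩

theorem ambient_smul {g : Equiv.Perm B.X} (hg : g ∈ ambient B Q) {a a' : S}
    (h : g * lmap B a * g⁻¹ = lmap B a') (b : S) (x : B.X) :
    g (((a, b) : ↥S × ↥S) • x) = ((a', b) : ↥S × ↥S) • g x := by
  rw [B.smul_split, B.smul_split a' b, ambient_right hg]
  congr 1
  have := Equiv.Perm.congr_fun h (g x)
  simpa using this

/-! ### Fixed orbits and their stabilizers -/

variable (B Q)

/-- The stabilizer of `x` in `Q × S`. -/
def St (x : B.X) : Subgroup (↥S × ↥S) := stabilizer (↥S × ↥S) x ⊓ (Q.subgroupOf S).prod ⊤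

/-- The right orbit of `x` is fixed by `Q`. -/
def IsFix (x : B.X) : Prop := ∀ a : S, (a : Ω) ∈ Q → ∃ b : S, ((a, b) : ↥S × ↥S) • x = x

/-- The `Q`-fixed right orbits. -/
def FixOrb : Type u := {o : B.Orb // IsFix B Q (B.pt o)}

noncomputable instance : Fintype (FixOrb B Q) := by
  unfold FixOrb
  exact Fintype.ofFinite _

variable {B Q}

theorem mem_St {x : B.X} {a b : S} :
    ((a, b) : ↥S × ↥S) ∈ St B Q x ↔ ((a, b) : ↥S × ↥S) • x = x ∧ (a : Ω) ∈ Q := by
  simp [St, Subgroup.mem_prod, Subgroup.mem_subgroupOf]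

theorem St_right (x : B.X) (t a b : S) :
    ((a, b) : ↥S × ↥S) ∈ St B Q (((1, t) : ↥S × ↥S) • x) ↔ ((a, t⁻¹ * b * t) : ↥S × ↥S) ∈ St B Q x := by
  rw [mem_St, mem_St, smul_smul,
    show ((a, b) : ↥S × ↥S) * (1, t) = (1, t) * (a, t⁻¹ * b * t) from Prod.ext (by simp) (by simp [mul_assoc]),
    mul_smul, smul_left_cancel_iff]

theorem St_right_congr {x y : B.X} (h : St B Q x = St B Q y) (t : S) :
    St B Q (((1, t) : ↥S × ↥S) • x) = St B Q (((1, t) : ↥S × ↥S) • y) := by
  ext ⟨a, b⟩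
  rw [St_right, St_right, h]

theorem IsFix.right {x : B.X} (h : IsFix B Q x) (t : S) : IsFix B Q (((1, t) : ↥S × ↥S) • x) := by
  intro a ha
  obtain ⟨b, hb⟩ := h a ha
  refine ⟨t * b * t⁻¹, ?_⟩
  have := ((St_right (Q := Q) x t a (t * b * t⁻¹)).mpr (mem_St.mpr ⟨by simp [mul_assoc, hb], ha⟩))
  exact (mem_St.mp this).1

theorem isFix_of_orb {x y : B.X} (h : IsFix B Q x) (ho : B.orb x = B.orb y) : IsFix B Q y := by
  obtain ⟨b, rfl⟩ := Quotient.exact (s := B.orbSetoid) ho
  exact h.right b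

theorem fix_orb {x : B.X} (h : IsFix B Q x) : IsFix B Q (B.pt (B.orb x)) :=
  isFix_of_orb h (B.orb_pt _).symm

/-- The map attached to a fixed orbit. -/
theorem IsFix.exists_twist [Finite S] (hQ : F.IsNormal Q) {x : B.X} (h : IsFix B Q x) :
    ∃ c : Q →* Ω, ∃ hc : c ∈ F.Hom Q, c.range = Q ∧
      ∀ q : Q, ((⟨q, hQ.1 q.2⟩, ⟨c q, apply_mem_S hc q⟩) : ↥S × ↥S) • x = x := by
  obtain ⟨χ, hχ, he⟩ := (B.isTw_stab x).exists_graph
  have hle : Q ≤ left (stabilizer (↥S × ↥S) x) := fun a ha => by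
    obtain ⟨b, hb⟩ := h ⟨a, hQ.1 ha⟩ ha
    exact ⟨_, hb, rfl⟩
  have hc := restrict_mem hle hχ
  refine ⟨_, hc, range_eq_of_card_le hc hQ.1
    ((IsNormal.stronglyClosed hQ).2 Q le_rfl _ hc) le_rfl, fun q => ?_⟩
  exact he.ge ⟨⟨q, hle q.2⟩, rfl, rfl⟩

theorem right_unique {x : B.X} {a b b' : S} (h : ((a, b) : ↥S × ↥S) • x = x)
    (h' : ((a, b') : ↥S × ↥S) • x = x) : b = b' := by
  refine B.right_injective (x := ((a, 1) : ↥S × ↥S) • x) ?_
  rw [← B.smul_split, ← B.smul_split, h, h']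

variable (B Q)

/-- The centre of `Q`, inside `S`. -/
def Zs (S Q : Subgroup Ω) : Subgroup S := Q.subgroupOf S ⊓ Subgroup.centralizer (Q.subgroupOf S : Set S)

instance : IsMulCommutative (Zs S Q : Subgroup S) :=
  ⟨⟨fun a b => Subtype.ext (Subgroup.mem_centralizer_iff.mp b.2.2 _ a.2.1)⟩⟩

variable {B Q}

theorem left_unique {x : B.X} {z z' : S} (h : ((z, 1) : ↥S × ↥S) • x = ((z', 1) : ↥S × ↥S) • x) :
    z = z' := by
  have h1 : ((z'⁻¹ * z, 1) : ↥S × ↥S) • x = x := by
    rw [← one_mul (1 : S), ← Prod.mk_mul_mk, mul_smul, h, smul_smul,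
      Prod.mk_mul_mk, inv_mul_cancel, one_mul, Prod.mk_one_one, one_smul]
  obtain ⟨P, ψ, hψ, φ, hφ, he⟩ := B.isTw_stab x
  obtain ⟨y, hy₁, hy₂⟩ := he.le h1
  obtain rfl : y = 1 := F.injective_of_mem hφ (by rw [map_one]; exact hy₂.symm)
  exact (inv_mul_eq_one.mp (Subtype.ext (hy₁.trans (map_one ψ)))).symm

/-- Right translations fixing the stabilizer of a fixed orbit are left translations by `Z(Q)`. -/
theorem exists_central [Finite S] (hQ : F.IsNormal Q) (hQc : F.IsCentric Q) {x : B.X} (hx : IsFix B Q x) {t : S}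
    (h : St B Q (((1, t) : ↥S × ↥S) • x) = St B Q x) :
    ∃ z : Zs S Q, ((1, t) : ↥S × ↥S) • x = (((z : S), 1) : ↥S × ↥S) • x := by
  obtain ⟨c, hc, hcr, hce⟩ := hx.exists_twist hQ
  have hcomm : ∀ q : Q, c q * (t : Ω) = t * c q := by
    intro q
    have h1 := mem_St.mpr ⟨hce q, q.2⟩
    rw [← h, St_right, mem_St] at h1
    have := congrArg Subtype.val (right_unique h1.1 (hce q))
    calc c q * (t : Ω) = t * ((t : Ω)⁻¹ * c q * t) := by group
      _ = t * c q := by rw [show (t : Ω)⁻¹ * c q * t = c q from this]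
  have ht : (t : Ω) ∈ Q := IsCentric.centralizerIn_le' hQc (mem_centralizerIn.mpr ⟨t.2, fun w hw => by
    obtain ⟨q, rfl⟩ := hcr.ge hw
    exact hcomm q⟩)
  obtain ⟨q, hq⟩ := hcr.ge ht
  have hz : (⟨q, hQ.1 q.2⟩ : S) ∈ Zs S Q := by
    refine ⟨q.2, fun w hw => Subtype.ext ?_⟩
    refine congrArg Subtype.val (a₁ := (⟨w, hw⟩ : Q) * q) (a₂ := q * ⟨w, hw⟩) (F.injective_of_mem hc ?_)
    rw [map_mul, map_mul, hq]
    exact hcomm ⟨w, hw⟩
  refine ⟨(⟨_, hz⟩ : Zs S Q)⁻¹, ?_⟩
  conv_rhs => rw [← hce q, smul_smul]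
  congr 1
  refine Prod.ext ?_ (Subtype.ext ?_)
  · simp
  · simp [hq]

/-! ### Coherent families -/

/-- A choice of points in the fixed orbits whose stabilizers agree when they are conjugate. -/
structure Coherent (B : StableBiset F p) (Q : Subgroup Ω) where
  /-- The points. -/
  pts : FixOrb B Q → B.X
  orb_pts : ∀ o, B.orb (pts o) = o.1
  coh : ∀ o o' (t : S), St B Q (((1, t) : ↥S × ↥S) • pts o) = St B Q (pts o') → St B Q (pts o) = St B Q (pts o')

theorem Coherent.fix (R : Coherent B Q) (o : FixOrb B Q) : IsFix B Q (R.pts o) :=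
  isFix_of_orb o.2 (by rw [B.orb_pt, R.orb_pts])

/-- The representative of a class of stabilizers. -/
noncomputable def canon (B : StableBiset F p) (Q : Subgroup Ω) (x : B.X) : Subgroup (↥S × ↥S) :=
  Classical.epsilon fun K => ∃ t : S, St B Q (((1, t) : ↥S × ↥S) • x) = K

theorem canon_spec (x : B.X) : ∃ t : S, St B Q (((1, t) : ↥S × ↥S) • x) = canon B Q x :=
  Classical.epsilon_spec (p := fun K => ∃ t : S, St B Q (((1, t) : ↥S × ↥S) • x) = K) ⟨_, 1, rfl⟩

theorem canon_right (x : B.X) (s : S) : canon B Q (((1, s) : ↥S × ↥S) • x) = canon B Q x := by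
  unfold canon
  congr 1
  funext K
  refine propext ⟨fun ⟨t, ht⟩ => ⟨t * s, ?_⟩, fun ⟨t, ht⟩ => ⟨t * s⁻¹, ?_⟩⟩
  · rw [← ht, smul_smul, Prod.mk_mul_mk, one_mul]
  · rw [← ht, smul_smul, Prod.mk_mul_mk, one_mul, inv_mul_cancel_right]

theorem canon_congr {x y : B.X} (h : St B Q x = St B Q y) : canon B Q x = canon B Q y := by
  simp only [canon, St_right_congr h]

theorem exists_coherent (B : StableBiset F p) (Q : Subgroup Ω) : Nonempty (Coherent B Q) := by
  choose t ht using fun o : FixOrb B Q => canon_spec (Q := Q) (B.pt o.1)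
  refine ⟨⟨fun o => ((1, t o) : ↥S × ↥S) • B.pt o.1, fun o => by rw [B.orb_smul, B.orb_pt], ?_⟩⟩
  intro o o' s h
  rw [ht, ht]
  have h1 := canon_congr h
  rwa [canon_right, canon_right, canon_right] at h1

/-! ### The shift homomorphism -/

section shift

variable [Finite S] (hQ : F.IsNormal Q) (hQc : F.IsCentric Q)

include hQ hQc

theorem exists_step (R : Coherent B Q) {k : Equiv.Perm B.X} (hk : k ∈ fixer B Q) (o : FixOrb B Q) :
    ∃ (o' : FixOrb B Q) (z : Zs S Q), St B Q (R.pts o') = St B Q (R.pts o) ∧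
      k (R.pts o) = (((z : S), 1) : ↥S × ↥S) • R.pts o' := by
  have hSt : St B Q (k (R.pts o)) = St B Q (R.pts o) := by
    ext ⟨a, b⟩
    rw [mem_St, mem_St]
    refine ⟨fun ⟨h, ha⟩ => ⟨k.injective (by rw [fixer_smul hk ha, h]), ha⟩,
      fun ⟨h, ha⟩ => ⟨by rw [← fixer_smul hk ha, h], ha⟩⟩
  have hfix : IsFix B Q (k (R.pts o)) := fun a ha => by
    obtain ⟨b, hb⟩ := R.fix o a ha
    exact ⟨b, by rw [← fixer_smul hk ha, hb]⟩
  let o' : FixOrb B Q := ⟨B.orb (k (R.pts o)), fix_orb hfix⟩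
  obtain ⟨t, ht⟩ : ∃ t : S, ((1, t) : ↥S × ↥S) • R.pts o' = k (R.pts o) :=
    Quotient.exact (s := B.orbSetoid) (R.orb_pts o')
  have h1 : St B Q (((1, t) : ↥S × ↥S) • R.pts o') = St B Q (R.pts o) := by rw [ht, hSt]
  have h2 := R.coh o' o t h1
  obtain ⟨z, hz⟩ := exists_central hQ hQc (R.fix o') (h1.trans h2.symm)
  exact ⟨o', z, h2, ht.symm.trans hz⟩

/-- The permutation of the fixed orbits. -/
noncomputable def stepOrb (R : Coherent B Q) (k : fixer B Q) (o : FixOrb B Q) : FixOrb B Q :=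
  (exists_step hQ hQc R k.2 o).choose

/-- The left shift. -/
noncomputable def stepVal (R : Coherent B Q) (k : fixer B Q) (o : FixOrb B Q) : Zs S Q :=
  (exists_step hQ hQc R k.2 o).choose_spec.choose

theorem step_St (R : Coherent B Q) (k : fixer B Q) (o : FixOrb B Q) :
    St B Q (R.pts (stepOrb hQ hQc R k o)) = St B Q (R.pts o) :=
  (exists_step hQ hQc R k.2 o).choose_spec.choose_spec.1

theorem step_spec (R : Coherent B Q) (k : fixer B Q) (o : FixOrb B Q) :
    (k : Equiv.Perm B.X) (R.pts o) =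
      (((stepVal hQ hQc R k o : S), 1) : ↥S × ↥S) • R.pts (stepOrb hQ hQc R k o) :=
  (exists_step hQ hQc R k.2 o).choose_spec.choose_spec.2

theorem orb_left_of_fix {x : B.X} (hx : IsFix B Q x) {z : S} (hz : (z : Ω) ∈ Q) :
    B.orb (((z, 1) : ↥S × ↥S) • x) = B.orb x := by
  obtain ⟨b, hb⟩ := hx z hz
  conv_rhs => rw [← hb, B.smul_split, B.orb_smul]

theorem step_eq (R : Coherent B Q) (k : fixer B Q) {o o' : FixOrb B Q} {z : Zs S Q}
    (h : (k : Equiv.Perm B.X) (R.pts o) = (((z : S), 1) : ↥S × ↥S) • R.pts o') :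
    stepOrb hQ hQc R k o = o' ∧ stepVal hQ hQc R k o = z := by
  have h' := step_spec hQ hQc R k o
  rw [h] at h'
  have ho : stepOrb hQ hQc R k o = o' := by
    have := congrArg B.orb h'
    rw [orb_left_of_fix hQ hQc (R.fix _) z.2.1, orb_left_of_fix hQ hQc (R.fix _) (stepVal hQ hQc R k o).2.1,
      R.orb_pts, R.orb_pts] at this
    exact Subtype.ext this.symm
  rw [ho] at h'
  exact ⟨ho, Subtype.ext (left_unique h').symm⟩

/-- `stepOrb` as an equivalence. -/
noncomputable def stepEquiv (R : Coherent B Q) (k : fixer B Q) : FixOrb B Q ≃ FixOrb B Q :=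
  Equiv.ofBijective (stepOrb hQ hQc R k) <| Finite.injective_iff_bijective.mp fun o o' h => by
    have h1 := congrArg B.orb (step_spec hQ hQc R k o)
    have h2 := congrArg B.orb (step_spec hQ hQc R k o')
    rw [orb_left_of_fix hQ hQc (R.fix _) (stepVal hQ hQc R k o).2.1, R.orb_pts] at h1
    rw [orb_left_of_fix hQ hQc (R.fix _) (stepVal hQ hQc R k o').2.1, R.orb_pts] at h2
    obtain ⟨b, hb⟩ := Quotient.exact (s := B.orbSetoid) (h1.trans ((congrArg Subtype.val h).trans h2.symm))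
    have h3 := (ambient_right (fixer_le B Q k.2) b (R.pts o)).trans hb
    exact Subtype.ext (by rw [← R.orb_pts o, ← R.orb_pts o', ← (k : Equiv.Perm B.X).injective h3, B.orb_smul])

/-- The product of the shifts. -/
noncomputable def shift (R : Coherent B Q) : fixer B Q →* Zs S Q :=
  MonoidHom.mk' (fun k => ∏ o, stepVal hQ hQc R k o) fun k k' => by
    have key : ∀ o, stepVal hQ hQc R (k * k') o =
        stepVal hQ hQc R k' o * stepVal hQ hQc R k (stepOrb hQ hQc R k' o) := fun o => by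
      refine (step_eq hQ hQc R (k * k') (o' := stepOrb hQ hQc R k (stepOrb hQ hQc R k' o)) ?_).2
      rw [Subgroup.coe_mul, Equiv.Perm.mul_apply, step_spec hQ hQc R k' o,
        fixer_smul k.2 (Subtype.prop (stepVal hQ hQc R k' o)).1, step_spec hQ hQc R k, smul_smul]
      simp
    show ∏ o, _ = (∏ o, _) * ∏ o, _
    simp only [key, Finset.prod_mul_distrib]
    rw [mul_comm]
    congr 1
    exact Equiv.prod_comp (stepEquiv hQ hQc R k') (fun o => stepVal hQ hQc R k o)

theorem shift_apply (R : Coherent B Q) (k : fixer B Q) :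
    shift hQ hQc R k = ∏ o, stepVal hQ hQc R k o := rfl

/-- The shift does not depend on the family. -/
theorem shift_congr (R R' : Coherent B Q) : shift hQ hQc R = shift hQ hQc R' := by
  choose s hs using fun o : FixOrb B Q =>
    Quotient.exact (s := B.orbSetoid) ((R.orb_pts o).trans (R'.orb_pts o).symm)
  let T : Subgroup (↥S × ↥S) → S := fun K =>
    Classical.epsilon fun t => ∃ o, St B Q (R.pts o) = K ∧ s o = t
  have hu : ∀ o, ∃ u : Zs S Q,
      R'.pts o = (((u : S), 1) : ↥S × ↥S) • ((1, T (St B Q (R.pts o))) : ↥S × ↥S) • R.pts o := by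
    intro o
    obtain ⟨o₁, ho₁, hT⟩ := Classical.epsilon_spec (p := fun t => ∃ o₁, St B Q (R.pts o₁) = St B Q (R.pts o) ∧ s o₁ = t)
      ⟨_, o, rfl, rfl⟩
    replace hT : s o₁ = T (St B Q (R.pts o)) := hT
    rw [← hT]
    set y := ((1, s o₁) : ↥S × ↥S) • R.pts o with hy
    have h1 : St B Q y = St B Q (R'.pts o₁) := by rw [← hs o₁, hy]; exact (St_right_congr ho₁ _).symm
    have h2 : ((1, s o * (s o₁)⁻¹) : ↥S × ↥S) • y = R'.pts o := by
      rw [← hs o, hy, smul_smul, Prod.mk_mul_mk, one_mul, inv_mul_cancel_right]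
    have h3 : St B Q (((1, s o * (s o₁)⁻¹) : ↥S × ↥S) • R'.pts o₁) = St B Q (R'.pts o) := by
      rw [← St_right_congr h1, h2]
    have h4 : St B Q (((1, s o * (s o₁)⁻¹) : ↥S × ↥S) • y) = St B Q y := by
      rw [h2, h1]; exact (R'.coh o₁ o _ h3).symm
    obtain ⟨u, hu⟩ := exists_central hQ hQc ((R.fix o).right _) h4
    exact ⟨u, h2.symm.trans hu⟩
  choose u hu using hu
  refine MonoidHom.ext fun k => ?_
  have key : ∀ o, stepVal hQ hQc R' k o =
      u o * stepVal hQ hQc R k o * (u (stepOrb hQ hQc R k o))⁻¹ := fun o => by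
    refine (step_eq hQ hQc R' k (o' := stepOrb hQ hQc R k o) ?_).2
    rw [hu o, fixer_smul k.2 (u o).2.1, ambient_right (fixer_le B Q k.2), step_spec hQ hQc R k o, hu (stepOrb hQ hQc R k o),
      step_St hQ hQc R k o, smul_smul, smul_smul, smul_smul, smul_smul]
    simp [Prod.mk_mul_mk, mul_assoc]
  rw [shift_apply, shift_apply]
  simp only [key, Finset.prod_mul_distrib]
  rw [show (∏ o, (u (stepOrb hQ hQc R k o))⁻¹) = ∏ o, (u o)⁻¹ from
    Equiv.prod_comp (stepEquiv hQ hQc R k) (fun o => (u o)⁻¹), Finset.prod_inv_distrib,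
    mul_comm (∏ o, u o), mul_inv_cancel_right]

/-- The kernel of the shift is normalized by `ambient`. -/
theorem shift_conj (R : Coherent B Q) {g : Equiv.Perm B.X} (hg : g ∈ ambient B Q) (k k' : fixer B Q)
    (hk : (k' : Equiv.Perm B.X) = g * k * g⁻¹) (h1 : shift hQ hQc R k = 1) : shift hQ hQc R k' = 1 := by
  have hg' := (ambient B Q).inv_mem hg
  have hfix : ∀ {h : Equiv.Perm B.X}, h ∈ ambient B Q → ∀ {x}, IsFix B Q x → IsFix B Q (h x) := by
    intro h hh x hx a ha
    obtain ⟨a', ha', he⟩ := exists_conj_left ((ambient B Q).inv_mem hh) ha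
    obtain ⟨b, hb⟩ := hx a' ha'
    refine ⟨b, ?_⟩
    have he' : h * lmap B a' * h⁻¹ = lmap B a := by rw [← he]; group
    rw [← ambient_smul hh he', hb]
  have hSt : ∀ {h : Equiv.Perm B.X}, h ∈ ambient B Q → ∀ {x y}, St B Q x = St B Q y →
      St B Q (h x) = St B Q (h y) := by
    intro h hh x y hxy
    ext ⟨a, b⟩
    rw [mem_St, mem_St]
    refine and_congr_left fun ha => ?_
    obtain ⟨a', ha', he⟩ := exists_conj_left ((ambient B Q).inv_mem hh) ha
    have he' : h * lmap B a' * h⁻¹ = lmap B a := by rw [← he]; group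
    have hxy' : ((a', b) : ↥S × ↥S) • x = x ↔ ((a', b) : ↥S × ↥S) • y = y := by
      have := SetLike.ext_iff.mp hxy (a', b)
      rw [mem_St, mem_St] at this
      exact ⟨fun e => (this.mp ⟨e, ha'⟩).1, fun e => (this.mpr ⟨e, ha'⟩).1⟩
    rw [← ambient_smul hh he', ← ambient_smul hh he', h.injective.eq_iff, h.injective.eq_iff]
    exact hxy'
  let θ : FixOrb B Q → FixOrb B Q := fun o => ⟨B.orb (g (R.pts o)), fix_orb (hfix hg (R.fix o))⟩
  have hθ : Function.Bijective θ := Finite.injective_iff_bijective.mp fun o o' h => by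
    obtain ⟨b, hb⟩ := Quotient.exact (s := B.orbSetoid) (congrArg Subtype.val h)
    have h3 := (ambient_right hg b (R.pts o)).trans hb
    exact Subtype.ext (by rw [← R.orb_pts o, ← R.orb_pts o', ← g.injective h3, B.orb_smul])
  let e := Equiv.ofBijective θ hθ
  let R' : Coherent B Q :=
    { pts := fun o => g (R.pts (e.symm o))
      orb_pts := fun o => congrArg Subtype.val (e.apply_symm_apply o)
      coh := fun o o' t h => by
        refine hSt hg (R.coh (e.symm o) (e.symm o') t ?_)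
        rw [← ambient_right hg] at h
        have := hSt hg' h
        simpa using this }
  have hα : ∀ z : Zs S Q, ∃ z' : Zs S Q, g * lmap B z * g⁻¹ = lmap B z' := by
    intro z
    obtain ⟨a', ha', he⟩ := exists_conj_left hg z.2.1
    refine ⟨⟨a', ha', fun w hw => ?_⟩, he⟩
    obtain ⟨w', hw', hwe⟩ := exists_conj_left hg' hw
    rcases isEmpty_or_nonempty B.X with hX | hX
    · exact absurd (dvd_zero p) (fun h => B.degree (by simp [Nat.card_of_isEmpty]))
    refine lmap_injective B hX ?_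
    have hw2 : lmap B w = g * lmap B w' * g⁻¹ := by rw [← hwe]; group
    rw [map_mul, map_mul, ← he, hw2]
    have := congrArg (lmap B) (Subgroup.mem_centralizer_iff.mp z.2.2 w' hw')
    rw [map_mul, map_mul] at this
    calc g * lmap B w' * g⁻¹ * (g * lmap B z * g⁻¹) = g * (lmap B w' * lmap B z) * g⁻¹ := by group
      _ = g * (lmap B z * lmap B w') * g⁻¹ := by rw [this]
      _ = _ := by group
  choose α hα using hα
  have hX : Nonempty B.X := by
    rcases isEmpty_or_nonempty B.X with hX | hX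
    · exact absurd (by simp [Nat.card_of_isEmpty]) B.degree
    · exact hX
  let αh : Zs S Q →* Zs S Q := MonoidHom.mk' α fun a b => Subtype.ext (lmap_injective B hX (by
    rw [← hα, Subgroup.coe_mul, Subgroup.coe_mul, map_mul, map_mul, ← hα a, ← hα b]; group))
  have key : ∀ o, stepVal hQ hQc R' k' (e o) = αh (stepVal hQ hQc R k o) := fun o => by
    refine (step_eq hQ hQc R' k' (o' := e (stepOrb hQ hQc R k o)) ?_).2
    show (k' : Equiv.Perm B.X) (g (R.pts (e.symm (e o)))) =
      (((α (stepVal hQ hQc R k o) : S), 1) : ↥S × ↥S) • g (R.pts (e.symm (e (stepOrb hQ hQc R k o))))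
    rw [e.symm_apply_apply, e.symm_apply_apply, hk, ← ambient_smul hg (hα _), ← step_spec hQ hQc R k o]
    simp
  rw [shift_congr hQ hQc R R', shift_apply, ← Equiv.prod_comp e]
  simp only [key]
  rw [← map_prod, ← shift_apply, h1, map_one]

theorem shift_lmap (R : Coherent B Q) (z : Zs S Q) (k : fixer B Q) (hk : (k : Equiv.Perm B.X) = lmap B z) :
    shift hQ hQc R k = z ^ Fintype.card (FixOrb B Q) := by
  rw [shift_apply, ← Finset.card_univ, ← Finset.prod_const]
  exact Finset.prod_congr rfl fun o _ => (step_eq hQ hQc R k (o' := o) (by rw [hk]; rfl)).2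

end shift

/-! ### The number of fixed orbits -/

theorem not_dvd_card_fixOrb [Finite S] [Fact p.Prime] (hS : IsPGroup p S) :
    ¬ p ∣ Fintype.card (FixOrb B Q) := by
  intro hd
  let _ : MulAction (Q.subgroupOf S) B.Orb :=
    { smul := fun a o => B.perm a o
      one_smul := fun o => (B.perm_one o).1
      mul_smul := fun a b o => (B.perm_mul a b o).1 }
  have e : MulAction.fixedPoints (Q.subgroupOf S) B.Orb ≃ FixOrb B Q :=
    Equiv.subtypeEquivRight fun o => by
      refine ⟨fun h a ha => ?_, fun h a => ?_⟩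
      · have h1 : B.perm a o = o := h ⟨a, ha⟩
        exact ⟨B.coeff a o, by rw [B.coeff_spec, h1]⟩
      · obtain ⟨b, hb⟩ := h a a.2
        exact (B.coeff_eq hb).1
  have h := (hS.to_subgroup (Q.subgroupOf S)).card_modEq_card_fixedPoints (α := B.Orb)
  rw [Nat.card_congr e, Nat.card_eq_fintype_card (α := FixOrb B Q)] at h
  exact B.not_dvd_card_orb ((Nat.modEq_zero_iff_dvd).mp (h.trans (Nat.modEq_zero_iff_dvd.mpr hd)))

end CfsgLib.Fusion.Model
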