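import Cfsg.Agent.Lib.Fusion.Realized
import Mathlib.GroupTheory.Coset.Basic
import Mathlib.GroupTheory.Index
import Mathlib.GroupTheory.Subgroup.Centralizer

/-!
# Uniqueness and rigidity of models
-/

namespace CfsgLib.Fusion

open Cfsg Cfsg.FusionSystem
open scoped IsMulCommutative

section averaging

variable {G H : Type*} [Group G] [Group H] [Finite G] {p : ℕ} [Fact p.Prime] {T : Subgroup G}
  {A : Subgroup H} [A.Normal] [IsMulCommutative A] [Finite A]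

theorem exists_index_mul_eq_one (hA : IsPGroup p A) (hT : ¬ p ∣ T.index) :
    ∃ j, ∀ a : A, (a ^ T.index) ^ j = a := by
  obtain ⟨n, hn⟩ := IsPGroup.iff_card.mp hA
  obtain ⟨j, hj₁, hj₂⟩ := Nat.chineseRemainder
    ((((Fact.out : p.Prime).coprime_iff_not_dvd).mpr hT).pow_left n) 1 0
  obtain ⟨d, rfl⟩ := Nat.modEq_zero_iff_dvd.mp hj₂
  refine ⟨d, fun a => ?_⟩
  rw [← pow_mul]
  conv_rhs => rw [← pow_one a]
  exact pow_eq_pow_iff_modEq.mpr (hj₁.of_dvd (hn ▸ orderOf_dvd_natCard a))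

/-- A map which is multiplicative modulo an abelian normal `p`-subgroup, and exactly multiplicative
against a subgroup of index prime to `p` on both sides, can be corrected to a homomorphism agreeing
with it on that subgroup. -/
theorem exists_hom_of_factor (hA : IsPGroup p A) (hT : ¬ p ∣ T.index) (σ : G → H)
    (hf : ∀ g k, σ g * σ k * (σ (g * k))⁻¹ ∈ A) (hr : ∀ g, ∀ t ∈ T, σ (g * t) = σ g * σ t)
    (hl : ∀ t ∈ T, ∀ g, σ (t * g) = σ t * σ g) : ∃ τ : G →* H, ∀ t ∈ T, τ t = σ t := by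
  classical
  have : Fintype (G ⧸ T) := Fintype.ofFinite _
  let f : G → G → A := fun g k => ⟨_, hf g k⟩
  have hfs : ∀ g k, ∀ t ∈ T, f g (k * t) = f g k := fun g k t ht => Subtype.ext <| by
    show σ g * σ (k * t) * (σ (g * (k * t)))⁻¹ = σ g * σ k * (σ (g * k))⁻¹
    rw [← mul_assoc g, hr _ t ht, hr _ t ht]; group
  let fbar : G → G ⧸ T → A := fun g => Quotient.lift (f g) fun a b h => by
    have h' : a⁻¹ * b ∈ T := QuotientGroup.leftRel_apply.mp h
    have := hfs g a _ h'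
    rw [mul_inv_cancel_left] at this
    exact this.symm
  let c : G → A →* A := fun g => (MulAut.conjNormal (σ g) : MulAut A).toMonoidHom
  have hco : ∀ g k l, f g k * f (g * k) l = c g (f k l) * f g (k * l) := fun g k l => Subtype.ext <| by
    show σ g * σ k * (σ (g * k))⁻¹ * (σ (g * k) * σ l * (σ (g * k * l))⁻¹) =
      σ g * (σ k * σ l * (σ (k * l))⁻¹) * (σ g)⁻¹ * (σ g * σ (k * l) * (σ (g * (k * l)))⁻¹)
    rw [mul_assoc g k l]; group
  let b : G → A := fun g => ∏ x, fbar g x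
  have hb : ∀ g k, f g k ^ T.index * b (g * k) = c g (b k) * b g := by
    intro g k
    have h1 : ∀ x : G ⧸ T, f g k * fbar (g * k) x = c g (fbar k x) * fbar g (k • x) := fun x =>
      QuotientGroup.induction_on x fun l => hco g k l
    have h2 := Finset.prod_congr rfl (fun x (_ : x ∈ (Finset.univ : Finset (G ⧸ T))) => h1 x)
    rw [Finset.prod_mul_distrib, Finset.prod_mul_distrib, Finset.prod_const, Finset.card_univ,
      ← map_prod] at h2
    rw [show (Fintype.card (G ⧸ T)) = T.index from (Nat.card_eq_fintype_card).symm] at h2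
    rw [h2]
    congr 1
    exact Fintype.prod_equiv (MulAction.toPerm k) _ _ fun _ => rfl
  obtain ⟨j, hj⟩ := exists_index_mul_eq_one (T := T) hA hT
  let β : G → A := fun g => b g ^ j
  have hβ : ∀ g k, f g k * β (g * k) = c g (β k) * β g := fun g k => by
    have := congrArg (· ^ j) (hb g k)
    simp only [mul_pow, hj, ← map_pow] at this
    exact this
  have hbT : ∀ t ∈ T, b t = 1 := fun t ht => Finset.prod_eq_one fun x _ =>
    QuotientGroup.induction_on x fun l => Subtype.ext <| by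
      show σ t * σ l * (σ (t * l))⁻¹ = 1
      rw [hl t ht]; group
  refine ⟨MonoidHom.mk' (fun g => (β g : H)⁻¹ * σ g) fun g k => ?_, fun t ht => ?_⟩
  · have h := congrArg Subtype.val (hβ g k)
    have h1 : σ g * σ k * (σ (g * k))⁻¹ * (β (g * k) : H) =
        σ g * (β k : H) * (σ g)⁻¹ * (β g : H) := h
    have h2 : σ g * σ k * (σ (g * k))⁻¹ = σ g * (β k : H) * (σ g)⁻¹ * (β g : H) * (β (g * k) : H)⁻¹ := by
      rw [← h1]; group
    have h3 : (β g : H) * (σ g * (β k : H) * (σ g)⁻¹) = σ g * (β k : H) * (σ g)⁻¹ * (β g : H) :=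
      congrArg Subtype.val (mul_comm (β g) (c g (β k)))
    show (β (g * k) : H)⁻¹ * σ (g * k) = (β g : H)⁻¹ * σ g * ((β k : H)⁻¹ * σ k)
    have h4 : σ g * σ k = σ g * (β k : H) * (σ g)⁻¹ * (β g : H) * (β (g * k) : H)⁻¹ * σ (g * k) := by
      rw [← h2]; group
    calc (β (g * k) : H)⁻¹ * σ (g * k)
        = ((β g : H) * (σ g * (β k : H) * (σ g)⁻¹))⁻¹ *
          (σ g * (β k : H) * (σ g)⁻¹ * (β g : H) * (β (g * k) : H)⁻¹ * σ (g * k)) := by rw [h3]; group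
      _ = ((β g : H) * (σ g * (β k : H) * (σ g)⁻¹))⁻¹ * (σ g * σ k) := by rw [← h4]
      _ = (β g : H)⁻¹ * σ g * ((β k : H)⁻¹ * σ k) := by
        have h5 : ((β g : H) * (σ g * (β k : H) * (σ g)⁻¹))⁻¹ =
            (β g : H)⁻¹ * (σ g * (β k : H)⁻¹ * (σ g)⁻¹) := by
          have h6 := congrArg Subtype.val (mul_inv (β g) (c g (β k)))
          have h7 : ((c g (β k))⁻¹ : A) = c g ((β k)⁻¹) := (map_inv _ _).symm
          rw [h7] at h6
          exact h6
        rw [h5]; group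
  · show (β t : H)⁻¹ * σ t = σ t
    simp [β, hbT t ht]

/-- A cocycle vanishing on a subgroup of index prime to `p` is a coboundary. -/
theorem exists_coboundary (hA : IsPGroup p A) (hT : ¬ p ∣ T.index) (ρ : G →* MulAut A) (d : G → A)
    (hd : ∀ g k, d (g * k) = d g * ρ g (d k)) (hdT : ∀ t ∈ T, d t = 1) :
    ∃ z : A, ∀ g, d g = z * (ρ g z)⁻¹ := by
  classical
  have : Fintype (G ⧸ T) := Fintype.ofFinite _
  let dbar : G ⧸ T → A := Quotient.lift d fun a b h => by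
    have h' : a⁻¹ * b ∈ T := QuotientGroup.leftRel_apply.mp h
    have h'' := hd a (a⁻¹ * b)
    rw [mul_inv_cancel_left, hdT _ h', map_one, mul_one] at h''
    exact h''.symm
  let w : A := ∏ x, dbar x
  obtain ⟨j, hj⟩ := exists_index_mul_eq_one (T := T) hA hT
  refine ⟨w ^ j, fun g => ?_⟩
  have h1 : w = d g ^ T.index * ρ g w := by
    calc w = ∏ x, dbar (g • x) := (Fintype.prod_equiv (MulAction.toPerm g) _ _ fun _ => rfl).symm
      _ = ∏ x, d g * ρ g (dbar x) :=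
          Finset.prod_congr rfl fun x _ => QuotientGroup.induction_on x fun l => hd g l
      _ = _ := by
        rw [Finset.prod_mul_distrib, Finset.prod_const, Finset.card_univ, ← map_prod,
          show (Fintype.card (G ⧸ T)) = T.index from (Nat.card_eq_fintype_card).symm]
  rw [map_pow, ← inv_pow, ← mul_pow]
  conv_lhs => rw [← hj (d g)]
  congr 1
  exact eq_mul_inv_iff_mul_eq.mpr h1.symm

end averaging

variable {Ω : Type*} [Group Ω] {S : Subgroup Ω} {F : FusionSystem S} {p : ℕ} [Fact p.Prime]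

section model

variable {G : Type*} [Group G] {ι : S →* G}

theorem model_core_le (hG : F.IsModel p G ι) : pCore p G ≤ ι.range := by
  obtain ⟨-, -, ⟨T, hT⟩, -⟩ := hG
  rw [← hT]
  exact sSup_le fun N ⟨hn, hp⟩ => by have := hn; exact hp.le_sylow_of_normal T

theorem model_core_normal : (pCore p G).Normal := Subgroup.sSup_normal _ fun _ h => h.1

theorem model_index (hG : F.IsModel p G ι) : ¬ p ∣ ι.range.index := by
  obtain ⟨hfin, -, ⟨T, hT⟩, -⟩ := hG
  rw [← hT]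
  exact T.not_dvd_index

theorem model_range_isPGroup (hG : F.IsModel p G ι) : IsPGroup p ι.range := by
  obtain ⟨-, -, ⟨T, hT⟩, -⟩ := hG
  exact hT ▸ T.2

end model

variable {G₁ G₂ : Type*} [Group G₁] [Group G₂] {ι₁ : S →* G₁} {ι₂ : S →* G₂}

theorem normal_image_model (h₁ : F.IsModel p G₁ ι₁) (h₂ : F.IsModel p G₂ ι₂) :
    (((pCore p G₁).comap ι₁).map ι₂).Normal := by
  set N₁ := pCore p G₁
  set N₂ := pCore p G₂
  have := model_core_normal (p := p) (G := G₁)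
  have := model_core_normal (p := p) (G := G₂)
  have hn := isNormal_of_realized h₁.2.1 N₁ (model_core_le h₁)
  set Q₁ := (N₁.comap ι₁).map S.subtype with hQ₁
  set Q₂ := (N₂.comap ι₂).map S.subtype with hQ₂
  have hQ₂S : Q₂ ≤ S := Subgroup.map_subtype_le _
  constructor
  rintro _ ⟨q, hq, rfl⟩ g
  -- realize the action of `g` on `Q₂`, then extend it over `Q₁`
  have hmem : ∀ x : Q₂, g * ι₂ ⟨x, hQ₂S x.2⟩ * g⁻¹ ∈ ι₂.range := by
    rintro ⟨_, c, hc, rfl⟩
    exact model_core_le h₂ (Subgroup.Normal.conj_mem (inferInstance : N₂.Normal) (ι₂ c) hc g)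
  obtain ⟨φ, hφ, hφe⟩ := realized_exists_map h₂.2.1 hQ₂S g hmem
  obtain ⟨ψ, hψ, hψe, hψQ⟩ := hn.2 Q₂ φ hφ
  obtain ⟨g', hg'⟩ := realized_conj h₂.2.1 hψ
  have hC : g⁻¹ * g' ∈ N₂ := h₂.2.2.2 fun n hn' => by
    obtain ⟨c, rfl⟩ := model_core_le h₂ hn'
    have hcQ : (c : Ω) ∈ Q₂ := ⟨c, hn', rfl⟩
    have e1 := hg' ⟨c, Subgroup.mem_sup_left hcQ⟩
    have e3 : (⟨ψ ⟨c, Subgroup.mem_sup_left hcQ⟩, apply_mem_S hψ _⟩ : S) =
        ⟨φ ⟨c, hcQ⟩, apply_mem_S hφ _⟩ := Subtype.ext (hψe ⟨c, hcQ⟩)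
    rw [e3, hφe] at e1
    have e4 : g * ι₂ c * g⁻¹ = g' * ι₂ c * g'⁻¹ := e1
    calc ι₂ c * (g⁻¹ * g') = g⁻¹ * (g * ι₂ c * g⁻¹) * g' := by group
      _ = g⁻¹ * g' * ι₂ c := by rw [e4]; group
  have hm := Subgroup.Normal.conj_mem (inferInstance : N₂.Normal) _ hC g
  rw [mul_inv_cancel_left] at hm
  obtain ⟨c, hc⟩ := model_core_le h₂ hm
  -- `g = c⁻¹ g'` and both factors normalize the image of `Q₁`
  have hq1 : (q : Ω) ∈ Q₁ := ⟨q, hq, rfl⟩
  obtain ⟨r, hr, hre⟩ : ψ ⟨q, Subgroup.mem_sup_right hq1⟩ ∈ Q₁ :=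
    hψQ.le ⟨_, hq1, rfl⟩
  have hr' : ι₂ r = g' * ι₂ q * g'⁻¹ :=
    (congrArg ι₂ (Subtype.ext hre : r = ⟨_, apply_mem_S hψ _⟩)).trans (hg' ⟨q, Subgroup.mem_sup_right hq1⟩)
  refine ⟨c⁻¹ * r * c, ?_, ?_⟩
  · show ι₁ _ ∈ N₁
    have := Subgroup.Normal.conj_mem (inferInstance : N₁.Normal) (ι₁ r) hr (ι₁ c⁻¹)
    simpa [map_mul, map_inv] using this
  · rw [map_mul, map_mul, map_inv, hr', hc]; group

theorem core_comap_eq (h₁ : F.IsModel p G₁ ι₁) (h₂ : F.IsModel p G₂ ι₂) :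
    (pCore p G₁).comap ι₁ = (pCore p G₂).comap ι₂ := by
  have key : ∀ {H₁ H₂ : Type _} [Group H₁] [Group H₂] {j₁ : S →* H₁} {j₂ : S →* H₂},
      F.IsModel p H₁ j₁ → F.IsModel p H₂ j₂ → (((pCore p H₁).comap j₁).map j₂).Normal →
      (pCore p H₁).comap j₁ ≤ (pCore p H₂).comap j₂ := by
    intro H₁ H₂ _ _ j₁ j₂ _ hj₂ hn
    rw [← Subgroup.map_le_iff_le_comap]
    exact le_sSup ⟨hn, (model_range_isPGroup hj₂).to_le (Subgroup.map_le_range _ _)⟩
  refine le_antisymm (key h₁ h₂ (normal_image_model h₁ h₂)) ?_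
  rw [← Subgroup.map_le_iff_le_comap]
  exact le_sSup ⟨normal_image_model h₂ h₁, (model_range_isPGroup h₁).to_le (Subgroup.map_le_range _ _)⟩

/-- A compatible injection between models. -/
theorem exists_model_hom (h₁ : F.IsModel p G₁ ι₁) (h₂ : F.IsModel p G₂ ι₂) :
    ∃ τ : G₁ →* G₂, Function.Injective τ ∧ ∀ s, τ (ι₁ s) = ι₂ s := by
  classical
  have : Finite G₁ := h₁.1
  have : Finite G₂ := h₂.1
  set Q := (pCore p G₁).comap ι₁ with hQ
  have hQ' : Q = (pCore p G₂).comap ι₂ := core_comap_eq h₁ h₂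
  have := model_core_normal (p := p) (G := G₁)
  have := model_core_normal (p := p) (G := G₂)
  -- realize every conjugation of `G₁` inside `S` by `G₂`
  have hstep : ∀ t : G₁, ∃ h : G₂, (∀ a b : S, t * ι₁ a * t⁻¹ = ι₁ b → h * ι₂ a * h⁻¹ = ι₂ b) ∧
      ∀ s, t = ι₁ s → h = ι₂ s := by
    intro t
    by_cases ht : ∃ s, t = ι₁ s
    · obtain ⟨s, rfl⟩ := ht
      refine ⟨ι₂ s, fun a b h => ?_, fun s' hs' => congrArg ι₂ (h₁.2.1.1 hs')⟩
      rw [← map_inv, ← map_mul, ← map_mul] at h ⊢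
      rw [h₁.2.1.1 h]
    · let P : Subgroup S := (ι₁.range.comap (MulAut.conj t).toMonoidHom).comap ι₁
      have hP : P.map S.subtype ≤ S := Subgroup.map_subtype_le _
      obtain ⟨φ, hφ, hφe⟩ := realized_exists_map h₁.2.1 hP t (by
        rintro ⟨_, c, hc, rfl⟩
        exact hc)
      obtain ⟨h, hh⟩ := realized_conj h₂.2.1 hφ
      refine ⟨h, fun a b hab => ?_, fun s hs => absurd ⟨s, hs⟩ ht⟩
      have ha : (a : Ω) ∈ P.map S.subtype := ⟨a, ⟨b, hab.symm⟩, rfl⟩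
      have e2 : (⟨φ ⟨a, ha⟩, apply_mem_S hφ _⟩ : S) = b :=
        h₁.2.1.1 ((hφe ⟨a, ha⟩ (apply_mem_S hφ _)).trans hab)
      have := hh ⟨a, ha⟩
      rw [e2] at this
      exact this.symm
  choose h hh hhS using hstep
  -- double coset representatives
  let rep : G₁ → G₁ := fun g => (DoubleCoset.mk (ι₁.range : Subgroup G₁) (ι₁.range : Subgroup G₁) g).out
  have hrep : ∀ g, ∃ a b : S, g = ι₁ a * rep g * ι₁ b := by
    intro g
    obtain ⟨x, hx, y, hy, he⟩ :=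
      (DoubleCoset.eq ι₁.range ι₁.range (rep g) g).mp (Quotient.out_eq _)
    obtain ⟨a, rfl⟩ := hx
    obtain ⟨b, rfl⟩ := hy
    exact ⟨a, b, he⟩
  choose l r hlr using hrep
  let σ : G₁ → G₂ := fun g => ι₂ (l g) * h (rep g) * ι₂ (r g)
  have hwell : ∀ g a b, g = ι₁ a * rep g * ι₁ b → σ g = ι₂ a * h (rep g) * ι₂ b := by
    intro g a b hg
    have h1 : rep g * ι₁ (r g * b⁻¹) * (rep g)⁻¹ = ι₁ ((l g)⁻¹ * a) := by
      have h2 := (hlr g).symm.trans hg
      simp only [map_mul, map_inv]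
      calc rep g * (ι₁ (r g) * (ι₁ b)⁻¹) * (rep g)⁻¹
          = (ι₁ (l g))⁻¹ * (ι₁ (l g) * rep g * ι₁ (r g)) * (ι₁ b)⁻¹ * (rep g)⁻¹ := by group
        _ = _ := by rw [h2]; group
    have h3 := hh _ _ _ h1
    simp only [map_mul, map_inv] at h3
    calc σ g = ι₂ (l g) * (h (rep g) * (ι₂ (r g) * (ι₂ b)⁻¹) * (h (rep g))⁻¹) * h (rep g) * ι₂ b := by
          simp only [σ]; group
      _ = _ := by rw [h3]; group
  have hrep_eq : ∀ a b g, rep (ι₁ a * g * ι₁ b) = rep g := fun a b g =>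
    congrArg Quotient.out ((DoubleCoset.eq ι₁.range ι₁.range _ _).mpr
      ⟨(ι₁ a)⁻¹, inv_mem ⟨a, rfl⟩, (ι₁ b)⁻¹, inv_mem ⟨b, rfl⟩, by group⟩)
  have hbi : ∀ a b g, σ (ι₁ a * g * ι₁ b) = ι₂ a * σ g * ι₂ b := fun a b g => by
    rw [hwell _ (a * l g) (r g * b) (by rw [hrep_eq, map_mul, map_mul]; conv_lhs => rw [hlr g]
                                        group)]
    rw [hrep_eq]; simp only [σ, map_mul]; group
  have hσS : ∀ s, σ (ι₁ s) = ι₂ s := by
    intro s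
    have hs : rep (ι₁ s) = ι₁ ((l (ι₁ s))⁻¹ * s * (r (ι₁ s))⁻¹) := by
      simp only [map_mul, map_inv]
      conv_rhs => arg 1; arg 2; rw [hlr (ι₁ s)]
      group
    simp only [σ]
    rw [hhS _ _ hs, ← map_mul, ← map_mul]
    congr 1; group
  -- the action on `Q`
  have hact : ∀ g, ∀ a ∈ Q, ∀ b, g * ι₁ a * g⁻¹ = ι₁ b → σ g * ι₂ a * (σ g)⁻¹ = ι₂ b := by
    intro g a _ b hab
    have h1 : rep g * ι₁ (r g * a * (r g)⁻¹) * (rep g)⁻¹ = ι₁ ((l g)⁻¹ * b * l g) := by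
      simp only [map_mul, map_inv]
      calc rep g * (ι₁ (r g) * ι₁ a * (ι₁ (r g))⁻¹) * (rep g)⁻¹
          = (ι₁ (l g))⁻¹ * ((ι₁ (l g) * rep g * ι₁ (r g)) * ι₁ a * (ι₁ (l g) * rep g * ι₁ (r g))⁻¹) *
              ι₁ (l g) := by group
        _ = _ := by rw [← hlr g, hab]
    have h2 := hh _ _ _ h1
    simp only [map_mul, map_inv] at h2
    calc σ g * ι₂ a * (σ g)⁻¹
        = ι₂ (l g) * (h (rep g) * (ι₂ (r g) * ι₂ a * (ι₂ (r g))⁻¹) * (h (rep g))⁻¹) * (ι₂ (l g))⁻¹ := by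
          simp only [σ]; group
      _ = _ := by rw [h2]; group
  have hconjQ : ∀ g, ∀ a ∈ Q, ∃ b ∈ Q, g * ι₁ a * g⁻¹ = ι₁ b := by
    intro g a ha
    have hm := Subgroup.Normal.conj_mem (inferInstance : (pCore p G₁).Normal) (ι₁ a) ha g
    obtain ⟨b, hb⟩ := model_core_le h₁ hm
    exact ⟨b, show ι₁ b ∈ _ by rw [hb]; exact hm, hb.symm⟩
  set N₂ := pCore p G₂
  set A := N₂ ⊓ Subgroup.centralizer (N₂ : Set G₂) with hA
  haveI : A.Normal := inferInstance
  haveI : IsMulCommutative A :=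
    ⟨⟨fun x y => Subtype.ext (Subgroup.mem_centralizer_iff.mp y.2.2 x x.2.1)⟩⟩
  have hAp : IsPGroup p A :=
    (model_range_isPGroup h₂).to_le (inf_le_left.trans (model_core_le h₂))
  have hf : ∀ g k, σ g * σ k * (σ (g * k))⁻¹ ∈ A := by
    intro g k
    suffices hc : σ g * σ k * (σ (g * k))⁻¹ ∈ Subgroup.centralizer (N₂ : Set G₂) from ⟨h₂.2.2.2 hc, hc⟩
    intro n hn
    obtain ⟨d, rfl⟩ := model_core_le h₂ hn
    have hd : d ∈ Q := hQ'.symm ▸ (show d ∈ N₂.comap ι₂ from hn)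
    obtain ⟨e, he, hde⟩ := hconjQ (g * k)⁻¹ d hd
    obtain ⟨e', he', hee⟩ := hconjQ k e he
    have h1 : g * ι₁ e' * g⁻¹ = ι₁ d := by
      rw [← hee, ← hde]; group
    have hA1 := hact (g * k)⁻¹⁻¹ e he d (by rw [← hde]; group)
    rw [inv_inv] at hA1
    have hA2 := hact k e he e' hee
    have hA3 := hact g e' he' d h1
    calc ι₂ d * (σ g * σ k * (σ (g * k))⁻¹)
        = (σ g * (σ k * ι₂ e * (σ k)⁻¹) * (σ g)⁻¹) * (σ g * σ k * (σ (g * k))⁻¹) := by rw [hA2, hA3]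
      _ = σ g * σ k * (σ (g * k))⁻¹ * (σ (g * k) * ι₂ e * (σ (g * k))⁻¹) := by group
      _ = _ := by rw [hA1]
  obtain ⟨τ, hτ⟩ := exists_hom_of_factor (T := ι₁.range) hAp (model_index h₁) σ hf
    (by
      rintro g _ ⟨s, rfl⟩
      have := hbi 1 s g
      simp only [map_one, one_mul] at this
      rw [this, hσS])
    (by
      rintro _ ⟨s, rfl⟩ g
      have := hbi s 1 g
      simp only [map_one, mul_one] at this
      rw [this, hσS])
  have hτS : ∀ s, τ (ι₁ s) = ι₂ s := fun s => (hτ _ ⟨s, rfl⟩).trans (hσS s)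
  refine ⟨τ, ?_, hτS⟩
  rw [injective_iff_map_eq_one]
  intro x hx
  have hxC : x ∈ Subgroup.centralizer ((pCore p G₁ : Subgroup G₁) : Set G₁) := fun n hn => by
    obtain ⟨a, rfl⟩ := model_core_le h₁ hn
    obtain ⟨b, -, hb⟩ := hconjQ x a hn
    have h1 := congrArg τ hb
    simp only [map_mul, map_inv, hx, hτS, one_mul, inv_one, mul_one] at h1
    rw [← h₂.2.1.1 h1] at hb
    calc ι₁ a * x = x * ι₁ a * x⁻¹ * x := by rw [hb]
      _ = x * ι₁ a := by group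
  obtain ⟨s, rfl⟩ := model_core_le h₁ (h₁.2.2.2 hxC)
  rw [hτS] at hx
  rw [show s = 1 from h₂.2.1.1 (hx.trans (map_one ι₂).symm), map_one]

/-- Two models are isomorphic compatibly with the embeddings of `S`. -/
theorem model_unique (h₁ : F.IsModel p G₁ ι₁) (h₂ : F.IsModel p G₂ ι₂) :
    ∃ φ : G₁ ≃* G₂, ∀ s, φ (ι₁ s) = ι₂ s := by
  obtain ⟨τ, hinj, hτ⟩ := exists_model_hom h₁ h₂
  obtain ⟨τ', hinj', -⟩ := exists_model_hom h₂ h₁
  have : Finite G₁ := h₁.1
  have : Finite G₂ := h₂.1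
  refine ⟨MulEquiv.ofBijective τ ((Nat.bijective_iff_injective_and_card _).mpr ⟨hinj,
    le_antisymm (Nat.card_le_card_of_injective τ hinj) (Nat.card_le_card_of_injective τ' hinj')⟩), hτ⟩

/-- An automorphism of a model fixing the image of `S` is conjugation by an element of `Z(S)`. -/
theorem model_rigid {G : Type*} [Group G] {ι : S →* G} (hG : F.IsModel p G ι) (ψ : G ≃* G)
    (hψ : ∀ x : S, ψ (ι x) = ι x) :
    ∃ z : S, z ∈ Subgroup.center S ∧ ∀ g : G, ψ g = ι z * g * (ι z)⁻¹ := by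
  have : Finite G := hG.1
  have := model_core_normal (p := p) (G := G)
  set N := pCore p G
  set A := N ⊓ Subgroup.centralizer (N : Set G) with hA
  haveI : A.Normal := inferInstance
  haveI : IsMulCommutative A :=
    ⟨⟨fun x y => Subtype.ext (Subgroup.mem_centralizer_iff.mp y.2.2 x x.2.1)⟩⟩
  have hAp : IsPGroup p A := (model_range_isPGroup hG).to_le (inf_le_left.trans (model_core_le hG))
  have hfix : ∀ n ∈ N, ψ n = n := fun n hn => by
    obtain ⟨a, rfl⟩ := model_core_le hG hn; exact hψ a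
  have hd : ∀ g, ψ g * g⁻¹ ∈ A := by
    intro g
    suffices hc : ψ g * g⁻¹ ∈ Subgroup.centralizer (N : Set G) from ⟨hG.2.2.2 hc, hc⟩
    intro n hn
    have hm := Subgroup.Normal.conj_mem (inferInstance : N.Normal) n hn g⁻¹
    have h1 := hfix _ hm
    simp only [map_mul, map_inv, inv_inv, hfix n hn] at h1
    calc n * (ψ g * g⁻¹) = ψ g * ((ψ g)⁻¹ * n * ψ g) * g⁻¹ := by group
      _ = ψ g * g⁻¹ * n := by rw [h1]; group
  obtain ⟨z, hz⟩ := exists_coboundary (T := ι.range) hAp (model_index hG)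
    ((MulAut.conjNormal : G →* MulAut A)) (fun g => ⟨_, hd g⟩) (fun g k => Subtype.ext (by
      show ψ (g * k) * (g * k)⁻¹ = ψ g * g⁻¹ * (g * (ψ k * k⁻¹) * g⁻¹)
      rw [map_mul]; group))
    (by rintro _ ⟨s, rfl⟩; exact Subtype.ext (by show ψ (ι s) * (ι s)⁻¹ = 1; rw [hψ, mul_inv_cancel]))
  obtain ⟨z₀, hz₀⟩ := model_core_le hG z.2.1
  have key : ∀ g, ψ g = ι z₀ * g * (ι z₀)⁻¹ := by
    intro g
    have h1 : ψ g * g⁻¹ = (z : G) * (g * (z : G) * g⁻¹)⁻¹ := congrArg Subtype.val (hz g)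
    rw [hz₀]
    calc ψ g = ψ g * g⁻¹ * g := by group
      _ = _ := by rw [h1]; group
  refine ⟨z₀, Subgroup.mem_center_iff.mpr fun s => hG.2.1.1 ?_, key⟩
  have h2 := key (ι s)
  rw [hψ] at h2
  rw [map_mul, map_mul]
  calc ι s * ι z₀ = ι z₀ * ι s * (ι z₀)⁻¹ * ι z₀ := by rw [← h2]
    _ = ι z₀ * ι s := by group

end CfsgLib.Fusion
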