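import Cfsg.Agent.Lib.PGroup.Frattini
import Mathlib.GroupTheory.Sylow
import Mathlib.GroupTheory.GroupAction.Quotient
import Mathlib.Algebra.BigOperators.Intervals

/-!
The norm argument over the cosets of a Sylow subgroup `M` of a group acting on an abelian `p`-group,
`p` odd: an element fixed by `M` and by the normalizer of the subgroup generated by the quadratic
elements of `M` is fixed by the whole group, when it is fixed modulo the quadratic module.
-/

set_option autoImplicit false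

open Subgroup MulAction
open scoped Pointwise

namespace CfsgLib.Fusion.NormTrick

variable {G W : Type*} [Group G] [Finite G] [CommGroup W]

/-- A subgroup of index `p` of a `p`-group above a given proper subgroup, with representatives. -/
theorem exists_index_prime {p : ℕ} [Fact p.Prime] {P H : Subgroup G} (hP : IsPGroup p P)
    (hH : H ≤ P) (hne : H ≠ P) :
    ∃ R : Subgroup G, H ≤ R ∧ R < P ∧ (∀ a ∈ P, ∀ r ∈ R, a * r * a⁻¹ ∈ R) ∧
      ∀ a ∈ P, a ∉ R → (∀ i : ℕ, a ^ i ∈ R → p ∣ i) ∧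
        ∀ x ∈ P, ∃ i < p, ∃ r ∈ R, a ^ i * r = x := by
  have h1 : H.subgroupOf P ≠ ⊤ := fun e => hne (le_antisymm hH (subgroupOf_eq_top.1 e))
  obtain ⟨M, hM, hHM⟩ := (eq_top_or_exists_le_coatom (H.subgroupOf P)).resolve_left h1
  haveI := CfsgLib.PGroup.normal_of_isCoatom hP hM
  have hidx := CfsgLib.PGroup.index_of_isCoatom hP hM
  have hmem : ∀ {x : G} (hx : x ∈ P), x ∈ M.map P.subtype ↔ (⟨x, hx⟩ : ↥P) ∈ M := by
    intro x hx
    exact ⟨fun ⟨y, hy, e⟩ => by
      have : y = ⟨x, hx⟩ := Subtype.ext e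
      exact this ▸ hy, fun h => ⟨⟨x, hx⟩, h, rfl⟩⟩
  refine ⟨M.map P.subtype, fun h hh => (hmem (hH hh)).2 (hHM hh),
    lt_of_le_of_ne (map_subtype_le M) fun e => hM.1 ?_, ?_, ?_⟩
  · exact eq_top_iff.2 fun x _ => (hmem x.2).1 (by rw [e]; exact x.2)
  · intro a ha r hr
    have hrP := map_subtype_le M hr
    exact (hmem (P.mul_mem (P.mul_mem ha hrP) (P.inv_mem ha))).2
      (Normal.conj_mem (inferInstance : M.Normal) (⟨r, hrP⟩ : ↥P) ((hmem hrP).1 hr) (⟨a, ha⟩ : ↥P))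
  intro a ha haR
  set π := QuotientGroup.mk' M
  have hπ : ∀ x : ↥P, π x = 1 ↔ x ∈ M := fun x => QuotientGroup.eq_one_iff x
  have hcard : Nat.card (↥P ⧸ M) = p := by rw [← index_eq_card]; exact hidx
  have hne1 : π ⟨a, ha⟩ ≠ 1 := fun e => haR ((hmem ha).2 ((hπ _).1 e))
  have hord : orderOf (π ⟨a, ha⟩) = p :=
    orderOf_eq_prime (hcard ▸ pow_card_eq_one') hne1
  refine ⟨fun i hi => ?_, fun x hx => ?_⟩
  · rw [← hord, orderOf_dvd_iff_pow_eq_one, ← map_pow, hπ]
    exact (hmem (P.pow_mem ha i)).1 hi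
  · classical
    have h2 : π ⟨x, hx⟩ ∈ zpowers (π ⟨a, ha⟩) := by
      rw [zpowers_eq_top_of_prime_card hcard hne1]; exact mem_top _
    rw [mem_zpowers_iff_mem_range_orderOf, hord, Finset.mem_image] at h2
    obtain ⟨i, hi, he⟩ := h2
    refine ⟨i, Finset.mem_range.1 hi, (a ^ i)⁻¹ * x, ?_, mul_inv_cancel_left _ _⟩
    refine (hmem (P.mul_mem (P.inv_mem (P.pow_mem ha i)) hx)).2 ((hπ _).1 ?_)
    have e : (⟨(a ^ i)⁻¹ * x, P.mul_mem (P.inv_mem (P.pow_mem ha i)) hx⟩ : ↥P) =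
        (⟨a, ha⟩ ^ i)⁻¹ * ⟨x, hx⟩ := Subtype.ext (by simp)
    rw [e, map_mul, map_inv, map_pow, he, inv_mul_cancel]

variable (ρ : G →* MulAut W)

omit [Finite G] in
theorem act_mul (g h : G) (w : W) : ρ (g * h) w = ρ g (ρ h w) := by rw [map_mul]; rfl

/-- The image of `y` attached to a coset. -/
noncomputable abbrev val (M : Subgroup G) (y : W) (ω : G ⧸ M) : W := ρ ω.out y

omit [Finite G] in
theorem val_smul {M : Subgroup G} {y : W} (hy : ∀ s ∈ M, ρ s y = y) (g : G) (ω : G ⧸ M) :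
    val ρ M y (g • ω) = ρ g (val ρ M y ω) := by
  induction ω using QuotientGroup.induction_on with
  | H x =>
    obtain ⟨s, hs⟩ := QuotientGroup.mk_out_eq_mul M x
    obtain ⟨t, ht⟩ := QuotientGroup.mk_out_eq_mul M (g * x)
    show ρ ((g * x : G) : G ⧸ M).out y = ρ g (ρ (x : G ⧸ M).out y)
    rw [hs, ht, act_mul, act_mul, hy _ t.2, act_mul, hy _ s.2]

open Classical in
/-- The orbit of a coset under a subgroup. -/
noncomputable def orb {M : Subgroup G} (R : Subgroup G) (ω : G ⧸ M) : Finset (G ⧸ M) :=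
  haveI := Fintype.ofFinite (G ⧸ M)
  Finset.univ.filter fun ω' => ∃ r ∈ R, r • ω = ω'

theorem mem_orb {M R : Subgroup G} {ω ω' : G ⧸ M} : ω' ∈ orb R ω ↔ ∃ r ∈ R, r • ω = ω' := by
  simp [orb]

variable {p : ℕ} [Fact p.Prime] (M : Sylow p G)

/-- An element of a `p`-subgroup moves `y` by an element on which it acts quadratically. -/
theorem fixed_displacement {V : Subgroup W} {y : W} (hy : ∀ g, ρ g y * y⁻¹ ∈ V)
    (hM : ∀ t ∈ (M : Subgroup G), ρ t y = y) {B : Subgroup G} (hB : IsPGroup p B) {a : G} (ha : a ∈ B)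
    (hq : ∀ v ∈ V, ρ a (ρ a v * v⁻¹) = ρ a v * v⁻¹) : ρ a (ρ a y * y⁻¹) = ρ a y * y⁻¹ := by
  obtain ⟨Q, hBQ⟩ := hB.exists_le_sylow
  obtain ⟨g, hg⟩ := MulAction.exists_smul_eq G M Q
  have hmem : a ∈ MulAut.conj g • (M : Subgroup G) := by
    have h : a ∈ ((g • M : Sylow p G) : Subgroup G) := by rw [hg]; exact hBQ ha
    exact h
  have hf : ρ (g⁻¹ * a * g) y = y := hM _ (by
    have h := Subgroup.mem_pointwise_smul_iff_inv_smul_mem.mp hmem
    simpa using h)
  have hfix : ρ a (ρ g y) = ρ g y := by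
    rw [← act_mul, show a * g = g * (g⁻¹ * a * g) by group, act_mul, hf]
  have hu : y * (ρ g y)⁻¹ ∈ V := by simpa [mul_comm] using V.inv_mem (hy g)
  have e : ρ a y * y⁻¹ = ρ a (y * (ρ g y)⁻¹) * (y * (ρ g y)⁻¹)⁻¹ := by
    rw [map_mul, map_inv, hfix, mul_inv_rev, inv_inv]
    group
  rw [e]
  exact hq _ hu

variable (Sg : Set G)

/-- An orbit moved by a quadratic element has trivial norm modulo `y`. -/
theorem orb_prod {V : Subgroup W} {y : W} (hp2 : p ≠ 2) (hSg : ∀ g a : G, a ∈ Sg → g * a * g⁻¹ ∈ Sg)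
    (hq : ∀ a ∈ Sg, ∀ v ∈ V, ρ a (ρ a v * v⁻¹) = ρ a v * v⁻¹) (hy : ∀ g, ρ g y * y⁻¹ ∈ V)
    (hpow : ∀ g, (ρ g y * y⁻¹) ^ p = 1) (hM : ∀ t ∈ (M : Subgroup G), ρ t y = y) :
    ∀ (R' : Subgroup G), IsPGroup p R' → ∀ ω : G ⧸ (M : Subgroup G),
      (∃ a ∈ Sg, a ∈ R' ∧ a • ω ≠ ω) → ∏ ω' ∈ orb R' ω, val ρ M y ω' * y⁻¹ = 1 := by
  classical
  intro R'
  induction R' using WellFoundedLT.induction with
  | _ R' ih =>
  rintro hR' ω ⟨a₀, ha₀S, ha₀, hmove⟩
  obtain ⟨R, hstab, hRR', hRn, hrep⟩ := exists_index_prime (p := p) hR'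
    (inf_le_left : R' ⊓ stabilizer G ω ≤ R')
    (fun e => hmove (mem_stabilizer_iff.mp ((inf_eq_left.1 e) ha₀)))
  obtain ⟨a, haR', haR, hcase⟩ : ∃ a ∈ R', a ∉ R ∧ (a₀ ∈ R ∨ a = a₀) := by
    by_cases h : a₀ ∈ R
    · obtain ⟨a, ha, ha'⟩ := SetLike.exists_of_lt hRR'
      exact ⟨a, ha, ha', Or.inl h⟩
    · exact ⟨a₀, ha₀, h, Or.inr rfl⟩
  obtain ⟨hdiv, hcov⟩ := hrep a haR' haR
  have hpiece : ∀ i : ℕ, orb R (a ^ i • ω) = (orb R ω).image (a ^ i • ·) := by
    intro i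
    ext ω'
    rw [mem_orb, Finset.mem_image]
    constructor
    · rintro ⟨r, hr, rfl⟩
      refine ⟨((a ^ i)⁻¹ * r * a ^ i) • ω, mem_orb.2 ⟨_, ?_, rfl⟩, ?_⟩
      · simpa using hRn _ (R'.inv_mem (R'.pow_mem haR' i)) r hr
      · simp only [← mul_smul]; group
    · rintro ⟨x, hx, rfl⟩
      obtain ⟨r, hr, rfl⟩ := mem_orb.1 hx
      refine ⟨a ^ i * r * (a ^ i)⁻¹, hRn _ (R'.pow_mem haR' i) r hr, ?_⟩
      simp only [← mul_smul]; group
  have hunion : orb R' ω = (Finset.range p).biUnion fun i => orb R (a ^ i • ω) := by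
    ext ω'
    rw [mem_orb, Finset.mem_biUnion]
    constructor
    · rintro ⟨x, hx, rfl⟩
      obtain ⟨i, hi, r, hr, rfl⟩ := hcov x hx
      refine ⟨i, Finset.mem_range.2 hi, ?_⟩
      rw [hpiece, Finset.mem_image]
      exact ⟨r • ω, mem_orb.2 ⟨r, hr, rfl⟩, (mul_smul _ _ _).symm⟩
    · rintro ⟨i, -, hi⟩
      obtain ⟨r, hr, rfl⟩ := mem_orb.1 hi
      exact ⟨r * a ^ i, R'.mul_mem (hRR'.le hr) (R'.pow_mem haR' i), mul_smul _ _ _⟩
  have hkey : ∀ i < p, ∀ j < p, i ≤ j → (∃ ω', ω' ∈ orb R (a ^ i • ω) ∧ ω' ∈ orb R (a ^ j • ω)) →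
      i = j := by
    rintro i hi j hj hij ⟨ω', h1, h2⟩
    obtain ⟨r, hr, rfl⟩ := mem_orb.1 h1
    obtain ⟨s, hs, hse⟩ := mem_orb.1 h2
    have hx : (r * a ^ i)⁻¹ * (s * a ^ j) ∈ stabilizer G ω := by
      rw [mem_stabilizer_iff, mul_smul, inv_smul_eq_iff, mul_smul, mul_smul, hse]
    have hxR : (r * a ^ i)⁻¹ * (s * a ^ j) ∈ R :=
      hstab ⟨R'.mul_mem (R'.inv_mem (R'.mul_mem (hRR'.le hr) (R'.pow_mem haR' i)))
        (R'.mul_mem (hRR'.le hs) (R'.pow_mem haR' j)), hx⟩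
    have h3 : a ^ (j - i) ∈ R := by
      have h4 := hRn _ (R'.pow_mem haR' i) _ hxR
      have e : a ^ (j - i) =
          (r⁻¹ * s)⁻¹ * (a ^ i * ((r * a ^ i)⁻¹ * (s * a ^ j)) * (a ^ i)⁻¹) := by
        have : a ^ j = a ^ (j - i) * a ^ i := by rw [← pow_add]; congr 1; omega
        rw [this]; group
      rw [e]
      exact R.mul_mem (R.inv_mem (R.mul_mem (R.inv_mem hr) hs)) h4
    rcases hdiv _ h3 with ⟨c, hc⟩
    rcases Nat.eq_zero_or_pos c with rfl | hc0
    · omega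
    · have := Nat.le_mul_of_pos_right p hc0
      omega
  have hdisj : (↑(Finset.range p) : Set ℕ).PairwiseDisjoint fun i => orb R (a ^ i • ω) := by
    intro i hi j hj hij
    rw [Function.onFun, Finset.disjoint_left]
    intro ω' h1 h2
    simp only [Finset.coe_range, Set.mem_Iio] at hi hj
    rcases le_total i j with h | h
    · exact hij (hkey i hi j hj h ⟨ω', h1, h2⟩)
    · exact hij (hkey j hj i hi h ⟨ω', h2, h1⟩).symm
  rw [hunion, Finset.prod_biUnion hdisj]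
  rcases hcase with hR | rfl
  · refine Finset.prod_eq_one fun i _ => ih R hRR' (hR'.to_le hRR'.le) _
      ⟨a ^ i * a₀ * (a ^ i)⁻¹, hSg _ _ ha₀S, hRn _ (R'.pow_mem haR' i) _ hR, fun h => hmove ?_⟩
    rw [mul_smul, mul_smul, inv_smul_smul] at h
    exact smul_left_cancel _ h
  -- the quadratic element `a` permutes the pieces
  set n := (orb R ω).card
  set d := ρ a y * y⁻¹ with hd
  set v := ∏ ω' ∈ orb R ω, val ρ M y ω' * y⁻¹ with hv
  have hvV : v ∈ V := V.prod_mem fun ω' _ => hy _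
  set e := ρ a v * v⁻¹ with he
  have hde : ρ a (e * d ^ n) = e * d ^ n := by
    rw [map_mul, map_pow, he, hq a ha₀S v hvV, hd, fixed_displacement ρ M hy hM hR' haR' (hq a ha₀S)]
  have hpieces : ∀ i : ℕ, ∏ ω' ∈ orb R (a ^ i • ω), val ρ M y ω' * y⁻¹ = v * (e * d ^ n) ^ i := by
    intro i
    induction i with
    | zero => simp [hv]
    | succ i ihi =>
      have himg : orb R (a ^ (i + 1) • ω) = (orb R (a ^ i • ω)).image (a • ·) := by
        rw [hpiece, hpiece, Finset.image_image]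
        congr 1
        funext z
        show a ^ (i + 1) • z = a • a ^ i • z
        rw [pow_succ', mul_smul]
      have hcard : (orb R (a ^ i • ω)).card = n := by
        rw [hpiece, Finset.card_image_of_injective _ (MulAction.injective _)]
      rw [himg, Finset.prod_image fun x _ z _ h => smul_left_cancel _ h]
      have hterm : ∀ x, val ρ M y (a • x) * y⁻¹ = ρ a (val ρ M y x * y⁻¹) * d := fun x => by
        rw [val_smul ρ hM, map_mul, map_inv, hd]; group
      rw [Finset.prod_congr rfl fun x _ => hterm x, Finset.prod_mul_distrib, ← map_prod, ihi,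
        Finset.prod_const, hcard, map_mul, map_pow, hde, pow_succ',
        show ρ a v = v * e by rw [he, mul_comm, inv_mul_cancel_right]]
      ac_rfl
  have hdvd : p ∣ ∑ i ∈ Finset.range p, i := by
    have h2 : p ∣ (∑ i ∈ Finset.range p, i) * 2 := by
      rw [Finset.sum_range_id_mul_two]; exact dvd_mul_right _ _
    exact ((Nat.coprime_primes (Fact.out : p.Prime) Nat.prime_two).mpr hp2).dvd_of_dvd_mul_right h2
  obtain ⟨k, hk⟩ := hdvd
  have hvp : v ^ p = 1 := by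
    rw [hv, ← Finset.prod_pow]; exact Finset.prod_eq_one fun x _ => hpow _
  have hedp : (e * d ^ n) ^ p = 1 := by
    rw [mul_pow, he, mul_pow, ← map_pow, inv_pow, hvp, ← pow_mul, mul_comm n, pow_mul, hd, hpow]
    simp
  rw [Finset.prod_congr rfl fun i _ => hpieces i, Finset.prod_mul_distrib, Finset.prod_const,
    Finset.card_range, hvp, Finset.prod_pow_eq_pow_sum, hk, pow_mul, hedp, one_pow, one_mul]

/-- The norm argument: `y` is fixed by all of `G`. -/
theorem fixed_of_quadratic (hW : IsPGroup p W) (hp2 : p ≠ 2) {V : Subgroup W}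
    (hSg : ∀ g a : G, a ∈ Sg → g * a * g⁻¹ ∈ Sg)
    (hq : ∀ a ∈ Sg, ∀ v ∈ V, ρ a (ρ a v * v⁻¹) = ρ a v * v⁻¹) (y : W) (hy : ∀ g, ρ g y * y⁻¹ ∈ V)
    (hM : ∀ t ∈ (M : Subgroup G), ρ t y = y)
    (hN : ∀ g ∈ normalizer ((closure (Sg ∩ (M : Subgroup G))) : Set G), ρ g y = y) :
    ∀ g, ρ g y = y := by
  classical
  obtain ⟨n, hn⟩ : ∃ n, y ^ p ^ n = 1 := hW y
  induction n generalizing y with
  | zero => intro g; rw [show y = 1 by simpa using hn, map_one]
  | succ n ih =>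
    have hyp := ih (y ^ p) (fun g => by rw [map_pow, ← inv_pow, ← mul_pow]; exact V.pow_mem (hy g) p)
      (fun t ht => by rw [map_pow, hM t ht]) (fun g hg => by rw [map_pow, hN g hg])
      (by rw [← pow_mul, ← pow_succ']; exact hn)
    have hpow : ∀ g, (ρ g y * y⁻¹) ^ p = 1 := fun g => by
      rw [mul_pow, ← map_pow, hyp g, inv_pow, mul_inv_cancel]
    haveI := Fintype.ofFinite (G ⧸ (M : Subgroup G))
    -- the norm equals a power of `y`
    have hprod : ∏ ω : G ⧸ (M : Subgroup G), val ρ M y ω * y⁻¹ = 1 := by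
      have hmaps : ∀ ω ∈ (Finset.univ : Finset (G ⧸ (M : Subgroup G))),
          orb (M : Subgroup G) ω ∈ Finset.univ.image (orb (M : Subgroup G)) := fun ω h =>
        Finset.mem_image_of_mem _ h
      rw [← Finset.prod_fiberwise_of_maps_to hmaps]
      refine Finset.prod_eq_one fun O hO => ?_
      obtain ⟨ω, -, rfl⟩ := Finset.mem_image.mp hO
      have hfib : (Finset.univ.filter fun ω' : G ⧸ (M : Subgroup G) => orb (M : Subgroup G) ω' = orb (M : Subgroup G) ω) =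
          orb (M : Subgroup G) ω := by
        ext ω'
        rw [Finset.mem_filter]
        constructor
        · rintro ⟨-, h⟩
          rw [← h]
          exact mem_orb.2 ⟨1, one_mem _, one_smul _ _⟩
        · intro h
          obtain ⟨r, hr, rfl⟩ := mem_orb.1 h
          refine ⟨Finset.mem_univ _, ?_⟩
          ext z
          simp only [mem_orb]
          exact ⟨fun ⟨t, ht, e⟩ => ⟨t * r, mul_mem ht hr, by rw [mul_smul]; exact e⟩,
            fun ⟨t, ht, e⟩ => ⟨t * r⁻¹, mul_mem ht (inv_mem hr), by rw [mul_smul, inv_smul_smul]; exact e⟩⟩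
      rw [hfib]
      by_cases h : ∃ a ∈ Sg, a ∈ (M : Subgroup G) ∧ a • ω ≠ ω
      · exact orb_prod ρ M Sg hp2 hSg hq hy hpow hM M M.2 ω h
      push Not at h
      refine Finset.prod_eq_one fun ω' hω' => ?_
      obtain ⟨r, hr, rfl⟩ := mem_orb.1 hω'
      have hmem : ∀ a ∈ Sg ∩ (M : Subgroup G), ω.out⁻¹ * a * ω.out ∈ Sg ∩ (M : Subgroup G) := by
        rintro a ⟨haS, haM⟩
        refine ⟨by simpa using hSg ω.out⁻¹ a haS, ?_⟩
        have h1 := h a haS haM
        rw [← ω.out_eq'] at h1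
        have h2 := QuotientGroup.eq.mp (show ((a * ω.out : G) : G ⧸ (M : Subgroup G)) = (ω.out : G) from h1)
        have h3 := inv_mem h2
        show _ ∈ (M : Subgroup G)
        simpa [mul_assoc] using h3
      have hin : ω.out⁻¹ ∈ normalizer ((closure (Sg ∩ (M : Subgroup G))) : Set G) := by
        have heq : (closure (Sg ∩ (M : Subgroup G))).map (MulAut.conj ω.out⁻¹).toMonoidHom =
            closure (Sg ∩ (M : Subgroup G)) := by
          refine eq_of_le_of_card_ge ?_ (Nat.card_congr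
            ((closure (Sg ∩ (M : Subgroup G))).equivMapOfInjective _ (MulAut.conj ω.out⁻¹).injective).toEquiv).le
          rw [MonoidHom.map_closure, closure_le]
          rintro _ ⟨a, ha, rfl⟩
          refine subset_closure ?_
          simpa [mul_assoc] using hmem a ha
        refine mem_normalizer_iff.2 fun z => ⟨fun hz => ?_, fun hz => ?_⟩
        · rw [← heq]; exact ⟨z, hz, rfl⟩
        · rw [← heq] at hz
          obtain ⟨z', hz', e⟩ := hz
          rwa [← (MulAut.conj ω.out⁻¹).injective (e : _ = MulAut.conj ω.out⁻¹ z)]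
      have hfix : val ρ M y ω = y := hN _ (inv_inv ω.out ▸ inv_mem hin)
      rw [val_smul ρ hM, hfix, hM r hr, mul_inv_cancel]
    rw [Finset.prod_mul_distrib, Finset.prod_const, Finset.card_univ, inv_pow, mul_inv_eq_one] at hprod
    intro g
    have hfix : ρ g (y ^ Fintype.card (G ⧸ (M : Subgroup G))) = y ^ Fintype.card (G ⧸ (M : Subgroup G)) := by
      rw [← hprod, map_prod]
      simp only [← val_smul ρ hM]
      exact Equiv.prod_comp (MulAction.toPerm g) (val ρ M y)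
    have hcop : (p ^ (n + 1)).Coprime (Fintype.card (G ⧸ (M : Subgroup G))) := by
      rw [← Nat.card_eq_fintype_card, ← index_eq_card]
      exact Nat.Coprime.pow_left _ ((Fact.out : p.Prime).coprime_iff_not_dvd.mpr M.not_dvd_index)
    obtain ⟨k, hk⟩ := exists_pow_eq_self_of_coprime (x := y)
      (hcop.symm.of_dvd_right (orderOf_dvd_of_pow_eq_one hn))
    rw [← hk, map_pow, hfix]

section quotient

omit [Finite G]
variable {A : Type*} [CommGroup A]

/-- The action on the quotient by an invariant subgroup. -/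
noncomputable def quotAct (ρ : G →* MulAut A) (U : Subgroup A) (hU : ∀ g, ∀ u ∈ U, ρ g u ∈ U) :
    G →* MulAut (A ⧸ U) where
  toFun g := QuotientGroup.congr U U (ρ g) (by
    ext x
    constructor
    · rintro ⟨u, hu, rfl⟩; exact hU g u hu
    · intro hx
      refine ⟨ρ g⁻¹ x, hU _ x hx, ?_⟩
      show ρ g (ρ g⁻¹ x) = x
      rw [← act_mul, mul_inv_cancel, map_one]; rfl)
  map_one' := MulEquiv.ext fun x => QuotientGroup.induction_on x fun a => by
    show ((ρ 1 a : A) : A ⧸ U) = a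
    rw [map_one]; rfl
  map_mul' g h := MulEquiv.ext fun x => QuotientGroup.induction_on x fun a => by
    show ((ρ (g * h) a : A) : A ⧸ U) = ((ρ g (ρ h a) : A) : A ⧸ U)
    rw [act_mul]

theorem quotAct_mk (ρ : G →* MulAut A) (U : Subgroup A) (hU : ∀ g, ∀ u ∈ U, ρ g u ∈ U) (g : G) (a : A) :
    quotAct ρ U hU g a = ((ρ g a : A) : A ⧸ U) := rfl

theorem mk_eq_iff {U : Subgroup A} {a b : A} : (a : A ⧸ U) = b ↔ a * b⁻¹ ∈ U := by
  rw [QuotientGroup.eq, ← inv_mem_iff, mul_inv_rev, inv_inv, mul_comm]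

end quotient

/-- The norm argument modulo an invariant subgroup `U`. -/
theorem fixed_mod {A : Type*} [CommGroup A] (ρ : G →* MulAut A) (hA : IsPGroup p A) (hp2 : p ≠ 2)
    {U V : Subgroup A} (hU : ∀ g, ∀ u ∈ U, ρ g u ∈ U)
    (hSg : ∀ g a : G, a ∈ Sg → g * a * g⁻¹ ∈ Sg)
    (hq : ∀ a ∈ Sg, ∀ v ∈ V, ρ a (ρ a v * v⁻¹) = ρ a v * v⁻¹) (y : A) (hy : ∀ g, ρ g y * y⁻¹ ∈ V)
    (hM : ∀ t ∈ (M : Subgroup G), ρ t y * y⁻¹ ∈ U)
    (hN : ∀ g ∈ normalizer ((closure (Sg ∩ (M : Subgroup G))) : Set G), ρ g y * y⁻¹ ∈ U) :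
    ∀ g, ρ g y * y⁻¹ ∈ U := by
  intro g
  refine mk_eq_iff.mp (fixed_of_quadratic (quotAct ρ U hU) M Sg (hA.to_quotient U) hp2
    (V := V.map (QuotientGroup.mk' U)) hSg ?_ (y : A ⧸ U) ?_ ?_ ?_ g)
  · rintro a ha _ ⟨v, hv, rfl⟩
    simp only [QuotientGroup.mk'_apply, quotAct_mk, ← QuotientGroup.mk_inv, ← QuotientGroup.mk_mul, hq a ha v hv]
  · exact fun g => ⟨_, hy g, rfl⟩
  · exact fun t ht => mk_eq_iff.mpr (hM t ht)
  · exact fun t ht => mk_eq_iff.mpr (hN t ht)

end CfsgLib.Fusion.NormTrick
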