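import Cfsg.Agent.Lib.Fusion.PPrimeNormal
import Cfsg.Agent.Lib.Fusion.SubsystemCentralizer

/-!
# Maps of a normal subsystem extend to `C_S(T)` modulo `T`

For `E` normal in `F` over `T`, a map of `E` on an `E`-centric subgroup extends to a map of `F` moving the
elements of `C_S(T)` inside their cosets of `T`. Commutators of `C_S(T)` are then fixed by all maps of `E`.
-/

namespace CfsgLib.Fusion

open Cfsg Cfsg.FusionSystem CfsgLib.FusionNormal CfsgLib.Fusion.PPrimeRes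

variable {Ω : Type*} [Group Ω] {S T : Subgroup Ω} {F : FusionSystem S} {E : FusionSystem T}
variable {P Q R : Subgroup Ω} {p : ℕ} [Finite S] [Fact p.Prime]

omit [Fact p.Prime] in
/-- The displacement of an element of `C_S(T)` by a map from `P ≤ T` lies in `C_T(f P)`. -/
theorem displace_mem_centralizerIn (hT : F.StronglyClosed T) {C : Subgroup Ω} (hC : C ≤ centralizerIn S T)
    {g f : Ω → Ω} (hg : MapFn F (P ⊔ C) g) (he : ∀ x ∈ P, g x = f x) (hP : P ≤ T) (hr : f '' P = (R : Set Ω))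
    {c : Ω} (hc : c ∈ C) (hm : c⁻¹ * g c ∈ T) : c⁻¹ * g c ∈ centralizerIn T R := by
  refine mem_centralizerIn.mpr ⟨hm, fun y hy => ?_⟩
  obtain ⟨x, hx, rfl⟩ := exists_of_image hr hy
  have hxT : f x ∈ T := by rw [← he x hx]; exact mapFn_mem hT hg (Subgroup.mem_sup_left hx) (hP hx)
  have h1 : c⁻¹ * f x = f x * c⁻¹ := by
    have h := (mem_centralizerIn.mp (hC hc)).2 _ hxT
    calc c⁻¹ * f x = c⁻¹ * (f x * c) * c⁻¹ := by group
      _ = _ := by rw [h]; group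
  have h2 : f x * g c = g c * f x := by
    rw [← he x hx, ← hg.map_mul (Subgroup.mem_sup_left hx) (Subgroup.mem_sup_right hc),
      ← hg.map_mul (Subgroup.mem_sup_right hc) (Subgroup.mem_sup_left hx),
      (mem_centralizerIn.mp (hC hc)).2 _ (hP hx)]
  rw [← mul_assoc, ← h1, mul_assoc, h2, mul_assoc]

/-- A member of the family extends to `C_S(T)` modulo `T`. -/
theorem ext_of_strongTriv (hS : IsPGroup p S) (hE : E.IsWeaklyNormalIn F p) (hQc : E.IsCentric Q)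
    {a : MulAut Q} (ha : a ∈ strongTriv hE.2.2.2.1 Q) :
    ∃ g, MapFn F (Q ⊔ centralizerIn S T) g ∧ (∀ x : Q, g x = ((a x : Q) : Ω)) ∧
      ∀ c ∈ centralizerIn S T, c⁻¹ * g c ∈ T := by
  obtain ⟨hEs, hF, hEi⟩ := hE
  have hT := hEi.2.1
  have hQT := hQc.1
  have hQS := hQT.trans hT.1
  obtain ⟨R, θ, hRn, hθ, hθQ, -⟩ := exists_fullyNormalized_mapFn hS hF hQS
  have hQN : Q ≤ normalizerIn S Q := le_normalizerIn hQS
  have hCN : centralizerIn S T ≤ normalizerIn S Q := fun c hc =>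
    centralizerIn_le_normalizerIn ⟨hc.1, Subgroup.centralizer_le (SetLike.coe_subset_coe.mpr hQT) hc.2⟩
  have hD : Q ⊔ centralizerIn S T ≤ normalizerIn S Q := sup_le hQN hCN
  obtain ⟨φ, hφ, hφe⟩ := hθ.mono hQN
  have hRT : R ≤ T := fun y hy => by
    obtain ⟨x, hx, rfl⟩ := exists_of_image hθQ hy
    exact mapFn_mem hT hθ (hQN hx) (hQT hx)
  obtain ⟨e, he⟩ := exists_equiv hφ
    (SetLike.coe_injective (by rw [← MapFn.image_eq_range hφe, hθQ]) : φ.range = R)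
  obtain ⟨ψ, hψ, hψe, hψc⟩ := ha R hRT φ e hRn hφ he
  have hRc : E.IsCentric R := centric_of_F hEi hQc ((hθ.mono hQN).isConj hθQ) hRT
  have hθD := hθ.mono hD
  obtain ⟨D', -, hD'⟩ := hθD.exists_image
  obtain ⟨θi, hθi, -, hθi₁, hθi₂⟩ := hθD.exists_inv hD'
  have hθC : ∀ c ∈ centralizerIn S T, θ c ∈ centralizerIn S R := fun c hc =>
    hθ.mem_centralizerIn hQN hθQ (hCN hc) ⟨hc.1, Subgroup.centralizer_le (SetLike.coe_subset_coe.mpr hQT) hc.2⟩
  have hθm : ∀ x ∈ Q ⊔ centralizerIn S T, θ x ∈ R ⊔ centralizerIn S R := hθD.maps_sup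
    (fun x hx => Subgroup.mem_sup_left (mem_of_image hθQ hx)) fun x hx => Subgroup.mem_sup_right (hθC x hx)
  have hval : ∀ x : Q, θ x = ((e x : R) : Ω) := fun x => (hφe x).symm.trans (he x).symm
  have hψQ : ∀ x : Q, ψ (θ x) = θ ((a x : Q) : Ω) := fun x => by
    rw [hval, hψe, hval]
    show ((e (a (e.symm (e x))) : R) : Ω) = _
    rw [MulEquiv.symm_apply_apply]
  have hψR : ψ '' R = (R : Set Ω) := by
    refine (hψ.mono le_sup_left).image_eq_of_maps hRn.1 (fun x hx => ?_) le_rfl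
    rw [hψe ⟨x, hx⟩]; exact Subtype.mem _
  have hψC : ∀ c ∈ centralizerIn S T, (θ c)⁻¹ * ψ (θ c) ∈ R := fun c hc => by
    refine IsCentric.centralizerIn_le' hRc (mem_centralizerIn.mpr ⟨hψc _ (hθC c hc), fun q hq => ?_⟩)
    exact (mem_centralizerIn.mp (Subgroup.mul_mem _ (Subgroup.inv_mem _ (hθC c hc))
      (hψ.mem_centralizerIn le_sup_left hψR (Subgroup.mem_sup_right (hθC c hc)) (hθC c hc)))).2 q hq
  have hRD : R ≤ D' := fun y hy => by
    obtain ⟨x, hx, rfl⟩ := exists_of_image hθQ hy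
    exact mem_of_image hD' (Subgroup.mem_sup_left hx)
  have hm2 : ∀ x ∈ Q ⊔ centralizerIn S T, ψ (θ x) ∈ D' := (hθD.comp hψ hθm).maps_sup
    (fun x hx => hRD (mem_of_image hψR (mem_of_image hθQ hx)))
    fun x hx => by
      have h := D'.mul_mem (mem_of_image hD' (Subgroup.mem_sup_right hx)) (hRD (hψC x hx))
      rwa [mul_inv_cancel_left] at h
  refine ⟨θi ∘ (ψ ∘ θ), (hθD.comp hψ hθm).comp hθi hm2, fun x => ?_, fun c hc => ?_⟩
  · show θi (ψ (θ x)) = _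
    rw [hψQ, hθi₁ _ (Subgroup.mem_sup_left (Subtype.mem _))]
  · show c⁻¹ * θi (ψ (θ c)) ∈ T
    have hw := hψC c hc
    have hcD : θ c ∈ D' := mem_of_image hD' (Subgroup.mem_sup_right hc)
    rw [show ψ (θ c) = θ c * ((θ c)⁻¹ * ψ (θ c)) by group, hθi.map_mul hcD (hRD hw),
      hθi₁ c (Subgroup.mem_sup_right hc), inv_mul_cancel_left]
    exact mapFn_mem hT hθi (hRD hw) (hRT hw)

/-- Every map of `E` on an `E`-centric subgroup extends to `C_S(T)` modulo `T`. -/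
theorem exists_ext_mod (hS : IsPGroup p S) (hE : E.IsNormalIn F p) {f : Ω → Ω} (hf : MapFn E P f)
    (hPc : E.IsCentric P) :
    ∃ g, MapFn F (P ⊔ centralizerIn S T) g ∧ (∀ x ∈ P, g x = f x) ∧
      ∀ c ∈ centralizerIn S T, c⁻¹ * g c ∈ T := by
  obtain ⟨hEw, hext⟩ := hE
  have hEw' := hEw
  obtain ⟨hEs, hF, hEi⟩ := hEw
  have hT := hEi.2.1
  have hTS := hT.1
  have hST := hS.to_le hTS
  have := finite_of_le hTS
  set C := centralizerIn S T with hC
  have hCS : C ≤ S := centralizerIn_le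
  revert hPc
  refine alperin_induction hST hEs
    (fun P f => E.IsCentric P → ∃ g, MapFn F (P ⊔ C) g ∧ (∀ x ∈ P, g x = f x) ∧ ∀ c ∈ C, c⁻¹ * g c ∈ T)
    ?_ ?_ ?_ ?_ ?_ P f hf
  · intro P f g _ h e hc
    obtain ⟨g', hg', hP, hQ⟩ := h hc
    exact ⟨g', hg', fun x hx => (hP x hx).trans (e x hx), hQ⟩
  · intro P R f _ h hR hc
    obtain ⟨g', hg', hP, hQ⟩ := h (IsCentric.of_le hc hR (by assumption : MapFn E P f).le_S)
    exact ⟨g', hg'.mono (sup_le_sup_right hR C), fun x hx => hP x (hR hx), hQ⟩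
  · intro P R f g hf h hg h' hm hc
    obtain ⟨M, hMT, hM⟩ := hf.exists_image
    have hMR : M ≤ R := fun y hy => by obtain ⟨x, hx, rfl⟩ := exists_of_image hM hy; exact hm x hx
    have hMc : E.IsCentric M := IsCentric.of_conj hc (hf.isConj hM)
    obtain ⟨f', hf', hfP, hfC⟩ := h hc
    obtain ⟨g', hg', hgR, hgC⟩ := h' (IsCentric.of_le hMc hMR hg.le_S)
    have hz : ∀ c ∈ C, c⁻¹ * f' c ∈ R := fun c hc' => hMR (IsCentric.centralizerIn_le' hMc
      (displace_mem_centralizerIn hT le_rfl hf' hfP hf.le_S hM hc' (hfC c hc')))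
    refine ⟨g' ∘ f', hf'.comp hg' (hf'.maps_sup (fun x hx => ?_) fun x hx => ?_), fun x hx => ?_,
      fun c hc' => ?_⟩
    · rw [hfP x hx]; exact Subgroup.mem_sup_left (hm x hx)
    · have := (R ⊔ C).mul_mem (Subgroup.mem_sup_right hx) (Subgroup.mem_sup_left (hz x hx))
      rwa [mul_inv_cancel_left] at this
    · show g' (f' x) = g (f x)
      rw [hfP x hx, hgR _ (hm x hx)]
    · show c⁻¹ * g' (f' c) ∈ T
      rw [show f' c = c * (c⁻¹ * f' c) by group,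
        hg'.map_mul (Subgroup.mem_sup_right hc') (Subgroup.mem_sup_left (hz c hc')), ← mul_assoc]
      exact T.mul_mem (hgC c hc') (mapFn_mem hT hg' (Subgroup.mem_sup_left (hz c hc')) (hfC c hc'))
  · intro P R f g hf h hr hg hinv hRc
    have hPc : E.IsCentric P := IsCentric.of_conj hRc (isConj_symm (hf.isConj hr))
    obtain ⟨f', hf', hfP, hfC⟩ := h hPc
    obtain ⟨M, -, hM⟩ := hf'.exists_image
    obtain ⟨g', hg', -, hg'₁, -⟩ := hf'.exists_inv hM
    have hRM : R ≤ M := fun y hy => by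
      obtain ⟨x, hx, rfl⟩ := exists_of_image hr hy
      rw [← hfP x hx]; exact mem_of_image hM (Subgroup.mem_sup_left hx)
    have hz : ∀ c ∈ C, c⁻¹ * f' c ∈ R := fun c hc' => IsCentric.centralizerIn_le' hRc
      (displace_mem_centralizerIn hT le_rfl hf' hfP hf.le_S hr hc' (hfC c hc'))
    have hCM : C ≤ M := fun c hc' => by
      have := M.mul_mem (mem_of_image hM (Subgroup.mem_sup_right hc')) (M.inv_mem (hRM (hz c hc')))
      simpa using this
    refine ⟨g', hg'.mono (sup_le hRM hCM), fun y hy => ?_, fun c hc' => ?_⟩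
    · obtain ⟨x, hx, rfl⟩ := exists_of_image hr hy
      rw [hinv x hx, ← hfP x hx, hg'₁ x (Subgroup.mem_sup_left hx)]
    · have h1 := hg'₁ c (Subgroup.mem_sup_right hc')
      rw [show f' c = c * (c⁻¹ * f' c) by group, hg'.map_mul (hCM hc') (hRM (hz c hc'))] at h1
      have h2 : g' c = c * (g' (c⁻¹ * f' c))⁻¹ := eq_mul_inv_of_mul_eq h1
      rw [h2, inv_mul_cancel_left]
      exact T.inv_mem (mapFn_mem hT hg' (hRM (hz c hc')) (hfC c hc'))
  intro Q hQn hQc _ ih a ha har _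
  have hQT : Q ≤ T := hQn.1
  obtain ⟨α, hα, hαe⟩ := ha.exists_aut har
  rcases eq_or_ne Q T with rfl | hne
  · obtain ⟨β, hβ, hβT, hβC⟩ := hext α hα
    obtain ⟨g, hg, -, hge⟩ := exists_mapFn_of_aut (sup_le hTS centralizerIn_le) hβ
    refine ⟨g, hg, fun x hx => ?_, fun c hc => ?_⟩
    · exact (hge ⟨x, Subgroup.mem_sup_left hx⟩).trans ((hβT ⟨x, hx⟩).trans (hαe ⟨x, hx⟩))
    · exact (hge ⟨c, Subgroup.mem_sup_right hc⟩).symm ▸ (hβC ⟨c, Subgroup.mem_sup_right hc⟩ hc).1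
  have hlt : Q < T := lt_of_le_of_ne hQT hne
  have hNlt : Nat.card Q < Nat.card (normalizerIn T Q) :=
    card_lt_card normalizerIn_le (Fusion.lt_normalizerIn hST le_rfl hlt)
  have := finite_mulAut hQT
  have hQCS : Q ⊔ C ≤ S := sup_le (hQT.trans hTS) hCS
  have hz : ∀ {b : MulAut Q} {g : Ω → Ω}, MapFn F (Q ⊔ C) g → (∀ x : Q, g x = ((b x : Q) : Ω)) →
      (∀ c ∈ C, c⁻¹ * g c ∈ T) → (∀ c ∈ C, c⁻¹ * g c ∈ Q) ∧ ∀ x ∈ Q ⊔ C, g x ∈ Q ⊔ C := by
    intro b g hg hgQ hgC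
    have hgr : g '' Q = (Q : Set Ω) := by
      refine (hg.mono le_sup_left).image_eq_of_maps (hQT.trans hTS) (fun x hx => ?_) le_rfl
      rw [hgQ ⟨x, hx⟩]; exact Subtype.mem _
    have h : ∀ c ∈ C, c⁻¹ * g c ∈ Q := fun c hc => IsCentric.centralizerIn_le' hQc
      (displace_mem_centralizerIn hT le_rfl hg (fun x _ => rfl) hQT hgr hc (hgC c hc))
    refine ⟨h, hg.maps_sup (fun x hx => Subgroup.mem_sup_left (mem_of_image hgr hx)) fun c hc => ?_⟩
    have := (Q ⊔ C).mul_mem (Subgroup.mem_sup_right hc) (Subgroup.mem_sup_left (h c hc))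
    rwa [mul_inv_cancel_left] at this
  let K : Subgroup (E.autGroup Q) :=
    { carrier := {a | ∃ g, MapFn F (Q ⊔ C) g ∧ (∀ x : Q, g x = (((a : MulAut Q) x : Q) : Ω)) ∧
        ∀ c ∈ C, c⁻¹ * g c ∈ T}
      one_mem' := ⟨id, mapFn_id hQCS, fun _ => rfl, fun _ _ => by simp⟩
      mul_mem' := by
        rintro a b ⟨g, hg, hgT, hgC⟩ ⟨h, hh, hhT, hhC⟩
        obtain ⟨hw, hmaps⟩ := hz hh hhT hhC
        refine ⟨g ∘ h, hh.comp hg hmaps, fun t => ?_, fun c hc => ?_⟩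
        · show g (h t) = _
          rw [hhT, hgT]; rfl
        · show c⁻¹ * g (h c) ∈ T
          rw [show h c = c * (c⁻¹ * h c) by group,
            hg.map_mul (Subgroup.mem_sup_right hc) (Subgroup.mem_sup_left (hw c hc)), ← mul_assoc]
          exact T.mul_mem (hgC c hc) (mapFn_mem hT hg (Subgroup.mem_sup_left (hw c hc)) (hhC c hc))
      inv_mem' := by
        rintro a ⟨g, hg, hgT, hgC⟩
        obtain ⟨hw, hmaps⟩ := hz hg hgT hgC
        obtain ⟨gi, hgi, -, hgi₁, -⟩ := hg.exists_inv (hg.image_eq_of_maps hQCS hmaps le_rfl)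
        refine ⟨gi, hgi, fun t => ?_, fun c hc => ?_⟩
        · have h1 := hgT ((a : MulAut Q)⁻¹ t)
          rw [MulAut.apply_inv_self] at h1
          rw [← h1]
          exact hgi₁ _ (Subgroup.mem_sup_left (Subtype.mem _))
        · have h1 := hgi₁ c (Subgroup.mem_sup_right hc)
          rw [show g c = c * (c⁻¹ * g c) by group,
            hgi.map_mul (Subgroup.mem_sup_right hc) (Subgroup.mem_sup_left (hw c hc))] at h1
          rw [eq_mul_inv_of_mul_eq h1, inv_mul_cancel_left]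
          exact T.inv_mem (mapFn_mem hT hgi (Subgroup.mem_sup_left (hw c hc)) (hgC c hc)) }
  suffices h : K = ⊤ by
    obtain ⟨g, hg, hgQ, hgC⟩ := (h ▸ Subgroup.mem_top _ : (⟨α, hα⟩ : E.autGroup Q) ∈ K)
    exact ⟨g, hg, fun x hx => (hgQ ⟨x, hx⟩).trans (hαe _), hgC⟩
  obtain ⟨hQa, hQr⟩ := fullyNormalized_good hST hEs hQn
  obtain ⟨-, U, hU⟩ := hQa
  set Nn := Subgroup.normalClosure ((U : Subgroup (E.autGroup Q)) : Set (E.autGroup Q)) with hNn
  have hNK : Nn ≤ K := by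
    refine (Subgroup.closure_le _).mpr fun x hx => ?_
    obtain ⟨u, hu, hux⟩ := Group.mem_conjugatesOfSet_iff.mp hx
    obtain ⟨δ, rfl⟩ := _root_.isConj_iff.mp hux
    obtain ⟨k, hk⟩ := U.2 ⟨u, hu⟩
    have hpow : (δ * u * δ⁻¹) ^ p ^ k = 1 := by
      rw [conj_pow, show u ^ p ^ k = 1 from congrArg Subtype.val hk]; group
    obtain ⟨j, -, hj⟩ := (Nat.dvd_prime_pow (Fact.out : p.Prime)).mp (orderOf_dvd_of_pow_eq_one hpow)
    exact ext_of_strongTriv hS hEw' hQc (pPrimeAut_le_strongTriv hS hEw' hQT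
      (mem_pPrimeAut_of_pow (δ * u * δ⁻¹).2 (by rw [Subgroup.orderOf_coe]; exact hj)))
  have hnK : Subgroup.normalizer ((U : Subgroup (E.autGroup Q)) : Set (E.autGroup Q)) ≤ K := by
    intro k hk
    obtain ⟨κ, hκ, hκr, hκe⟩ := exists_map_of_mem_autGroup hQT k.2
    have hN : normalizerIn T Q ≤ extender T Q κ := by
      rintro g ⟨hgT, hgN⟩
      obtain ⟨c, hc, hce⟩ := exists_autInducedBy (K := T) hgT hgN
      have hm : (⟨c, autInducedBy_le_autGroup hQT hc⟩ : E.autGroup Q) ∈ (U : Subgroup (E.autGroup Q)) :=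
        hU.ge hc
      obtain ⟨s, hs, hse⟩ := mem_autInducedBy.mp (hU.le ((Subgroup.mem_normalizer_iff.mp hk _).mp hm))
      refine mem_extender.mpr ⟨hgT, hgN, s, hs, fun x hx => ?_⟩
      rw [hκe, hκe, ← hse]
      simp [← hce x]
    obtain ⟨ρ, hρ, hρe⟩ := Fusion.exists_extension hQr hκ hκr (le_normalizerIn hQT) hN
    obtain ⟨r, hr, hre⟩ := mapFn_of_hom hρ
    obtain ⟨g, hg, hgN, hgC⟩ := ih _ r hr hNlt (IsCentric.of_le hQc (le_normalizerIn hQT) normalizerIn_le)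
    refine ⟨g, hg.mono (sup_le_sup_right (le_normalizerIn hQT) C), fun x => ?_, hgC⟩
    rw [hgN _ (le_normalizerIn hQT x.2), ← hre ⟨x, le_normalizerIn hQT x.2⟩]
    exact (hρe x).trans (hκe x)
  rw [eq_top_iff, ← Sylow.normalizer_sup_eq_top' (N := Nn) U Subgroup.le_normalClosure]
  exact sup_le hnK hNK

/-- A commutator of elements of `C_S(T)` is fixed by the maps of a normal subsystem. -/
theorem fix_commutator (hS : IsPGroup p S) (hE : E.IsNormalIn F p) {c d : Ω} (hc : c ∈ centralizerIn S T)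
    (hd : d ∈ centralizerIn S T) : GoodElt F E (c * d * c⁻¹ * d⁻¹) := by
  have hT := hE.1.2.2.2.1
  have hTS := hT.1
  have hEs := hE.1.1
  have hST := hS.to_le hTS
  have := finite_of_le hTS
  obtain ⟨y, hy⟩ : ∃ y, y = c * d * c⁻¹ * d⁻¹ := ⟨_, rfl⟩
  have hyC : y ∈ centralizerIn S T := hy ▸ (Subgroup.mul_mem _ (Subgroup.mul_mem _ (Subgroup.mul_mem _ hc hd)
    (Subgroup.inv_mem _ hc)) (Subgroup.inv_mem _ hd))
  rw [← hy]
  refine ⟨hyC, fun P f hf => ?_⟩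
  have hZS : Subgroup.zpowers y ≤ S := Subgroup.zpowers_le.mpr hyC.1
  refine alperin_induction hST hEs
    (fun P f => ∃ g, MapFn F (P ⊔ Subgroup.zpowers y) g ∧ (∀ x ∈ P, g x = f x) ∧ g y = y)
    (fun _ ⟨g, hg, hP, hQ⟩ e => ⟨g, hg, fun x hx => (hP x hx).trans (e x hx), hQ⟩)
    (fun _ ⟨g, hg, hP, hQ⟩ hR => ⟨g, hg.mono (sup_le_sup_right hR _), fun x hx => hP x (hR hx), hQ⟩)
    ?_ ?_ ?_ P f hf
  · rintro P R f g - ⟨f', hf', hfP, hfC⟩ - ⟨g', hg', hgP, hgC⟩ hm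
    refine ⟨g' ∘ f', hf'.comp hg' (hf'.maps_sup (fun x hx => ?_) fun x hx => ?_), fun x hx => ?_, ?_⟩
    · rw [hfP x hx]; exact Subgroup.mem_sup_left (hm x hx)
    · rw [mapFn_fixed hf' (Subgroup.mem_sup_right (Subgroup.mem_zpowers y)) hfC x hx]
      exact Subgroup.mem_sup_right hx
    · show g' (f' x) = g (f x)
      rw [hfP x hx, hgP _ (hm x hx)]
    · show g' (f' y) = y
      rw [hfC, hgC]
  · rintro P R f g hf ⟨f', hf', hfP, hfC⟩ hr - hinv
    obtain ⟨M, -, hM⟩ := hf'.exists_image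
    obtain ⟨g', hg', -, hg'₁, -⟩ := hf'.exists_inv hM
    have hyM : y ∈ M := hfC ▸ mem_of_image hM (Subgroup.mem_sup_right (Subgroup.mem_zpowers y))
    have hRM : R ≤ M := fun z hz => by
      obtain ⟨x, hx, rfl⟩ := exists_of_image hr hz
      rw [← hfP x hx]; exact mem_of_image hM (Subgroup.mem_sup_left hx)
    refine ⟨g', hg'.mono (sup_le hRM (Subgroup.zpowers_le.mpr hyM)), fun z hz => ?_, ?_⟩
    · obtain ⟨x, hx, rfl⟩ := exists_of_image hr hz
      rw [hinv x hx, ← hfP x hx, hg'₁ x (Subgroup.mem_sup_left hx)]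
    · conv_lhs => rw [← hfC]
      exact hg'₁ y (Subgroup.mem_sup_right (Subgroup.mem_zpowers y))
  intro Q hQn hQc _ _ a ha har
  obtain ⟨g, hg, hgQ, hgC⟩ := exists_ext_mod hS hE ha hQc
  refine ⟨g, hg.mono (sup_le_sup_left (Subgroup.zpowers_le.mpr hyC) Q), hgQ, ?_⟩
  have hQT := hQn.1
  obtain ⟨z, hz⟩ : ∃ z, z = c⁻¹ * g c := ⟨_, rfl⟩
  obtain ⟨w, hw⟩ : ∃ w, w = d⁻¹ * g d := ⟨_, rfl⟩
  have hz' := displace_mem_centralizerIn hT le_rfl hg hgQ hQT har hc (hgC c hc)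
  have hw' := displace_mem_centralizerIn hT le_rfl hg hgQ hQT har hd (hgC d hd)
  rw [← hz] at hz'; rw [← hw] at hw'
  have hzQ := IsCentric.centralizerIn_le' hQc hz'
  have e1 : z * w = w * z := ((mem_centralizerIn.mp hw').2 z hzQ)
  have e2 : z * d = d * z := (mem_centralizerIn.mp hd).2 z hz'.1
  have e3 : w * c = c * w := (mem_centralizerIn.mp hc).2 w hw'.1
  have hgc : g c = c * z := by rw [hz]; group
  have hgd : g d = d * w := by rw [hw]; group
  rw [hy, hg.map_mul (Subgroup.mem_sup_right (Subgroup.mul_mem _ (Subgroup.mul_mem _ hc hd) (Subgroup.inv_mem _ hc)))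
    (Subgroup.mem_sup_right (Subgroup.inv_mem _ hd)),
    hg.map_mul (Subgroup.mem_sup_right (Subgroup.mul_mem _ hc hd)) (Subgroup.mem_sup_right (Subgroup.inv_mem _ hc)),
    hg.map_mul (Subgroup.mem_sup_right hc) (Subgroup.mem_sup_right hd), hg.map_inv (Subgroup.mem_sup_right hc),
    hg.map_inv (Subgroup.mem_sup_right hd), hgc, hgd]
  calc c * z * (d * w) * (c * z)⁻¹ * (d * w)⁻¹
      = c * (z * d) * w * z⁻¹ * c⁻¹ * w⁻¹ * d⁻¹ := by group
    _ = c * d * (z * w) * z⁻¹ * c⁻¹ * w⁻¹ * d⁻¹ := by rw [e2]; group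
    _ = c * d * w * c⁻¹ * w⁻¹ * d⁻¹ := by rw [e1]; group
    _ = c * d * c⁻¹ * (c * w) * c⁻¹ * w⁻¹ * d⁻¹ := by group
    _ = c * d * c⁻¹ * d⁻¹ := by rw [← e3]; group

/-- If the centralizer of `E` lies in `T`, so do the good elements. -/
theorem mem_of_goodElt (hE : E.IsNormalIn F p) (hCE : ∀ Y : Subgroup Ω, Y ≤ centralizerIn S T →
    (∀ C : FusionSystem (centralizerIn S Y), F.IsCentralizerSystem Y C → E.IsSubsystemOf C) → Y ≤ T)
    {c : Ω} (hc : GoodElt F E c) : c ∈ T := by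
  refine hCE _ (Subgroup.zpowers_le.mpr hc.1) (fun C hC P φ hφ => ?_) (Subgroup.mem_zpowers c)
  have hTS := hE.1.2.2.2.1.1
  obtain ⟨f, hf, hfe⟩ := mapFn_of_hom hφ
  obtain ⟨g, ⟨ψ, hψ, hψe⟩, hgP, hgc⟩ := hc.2 P f hf
  have hcen : ∀ z ∈ T, z ∈ centralizerIn S (Subgroup.zpowers c) := fun z hz =>
    mem_centralizerIn.mpr ⟨hTS hz, fun y hy => by
      obtain ⟨n, rfl⟩ := Subgroup.mem_zpowers_iff.mp hy
      exact ((mem_centralizerIn.mp ((centralizerIn S T).zpow_mem hc.1 n)).2 z hz).symm⟩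
  rw [hC P]
  refine ⟨(hE.1.2.2.1) P hφ, fun z hz => hcen z (hf.le_S hz), fun x => hcen _ (apply_mem_S hφ x),
    ψ, hψ, fun x => ?_, fun x => ?_⟩
  · rw [hψe]; exact (hgP _ x.2).trans (hfe x).symm
  · rw [hψe]
    exact mapFn_fixed ⟨ψ, hψ, hψe⟩ (Subgroup.mem_sup_right (Subgroup.mem_zpowers c)) hgc _ x.2

end CfsgLib.Fusion
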