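import Mathlib

/-!
Two shapes of groups of order `p⁵` without abelian subgroup of index `p`, and the action of their
automorphisms on a distinguished section.
-/

set_option autoImplicit false

namespace CfsgLib.FusionFifth

open scoped commutatorElement

variable {G : Type*} [Group G] {p : ℕ} [hp : Fact p.Prime]

omit hp in
theorem comm_mul_left_commute {a u b : G} (h : Commute u b) : ⁅a * u, b⁆ = ⁅a, b⁆ := by
  rw [commutatorElement_def, commutatorElement_def, mul_inv_rev, mul_assoc a u b, h.eq]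
  group

omit hp in
theorem comm_mul_right_commute {a b v : G} (h : Commute a v) : ⁅a, b * v⁆ = ⁅a, b⁆ := by
  rw [commutatorElement_def, commutatorElement_def, mul_inv_rev]
  calc a * (b * v) * a⁻¹ * (v⁻¹ * b⁻¹) = a * b * (v * a⁻¹) * (v⁻¹ * b⁻¹) := by group
    _ = a * b * (a⁻¹ * v) * (v⁻¹ * b⁻¹) := by rw [h.inv_left.eq]
    _ = _ := by group

omit hp in
theorem comm_zpow_right {a b : G} (hb : Commute b ⁅a, b⁆) (j : ℤ) : ⁅a, b ^ j⁆ = ⁅a, b⁆ ^ j := by
  have h : a * b * a⁻¹ = ⁅a, b⁆ * b := by rw [commutatorElement_def]; group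
  rw [commutatorElement_def, ← conj_zpow, h, hb.symm.mul_zpow, mul_inv_cancel_right]

omit hp in
theorem comm_zpow_zpow {a b : G} (ha : Commute a ⁅a, b⁆) (hb : Commute b ⁅a, b⁆) (i j : ℤ) :
    ⁅a ^ i, b ^ j⁆ = ⁅a, b⁆ ^ (i * j) := by
  have h1 := comm_zpow_right hb j
  have h2 : ⁅b ^ j, a⁆ = (⁅a, b⁆ ^ j)⁻¹ := by rw [← h1, commutatorElement_inv]
  have h3 : ⁅b ^ j, a ^ i⁆ = ((⁅a, b⁆ ^ j)⁻¹) ^ i := by
    rw [comm_zpow_right (by rw [h2]; exact (ha.zpow_right j).inv_right) i, h2]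
  rw [← commutatorElement_inv, h3, inv_zpow, inv_inv, ← zpow_mul, mul_comm j i]

/-- Exponents of an element of order `p`. -/
theorem zmod_of_zpow_eq {c : G} (hcp : c ^ p = 1) (hc : c ≠ 1) {i j : ℤ} (h : c ^ i = c ^ j) :
    (i : ZMod p) = j := by
  rw [ZMod.intCast_eq_intCast_iff_dvd_sub]
  have ho := orderOf_eq_prime hcp hc
  rw [← ho, orderOf_dvd_iff_zpow_eq_one, zpow_sub, h, mul_inv_cancel]

theorem zpow_eq_of_zmod {c : G} (hcp : c ^ p = 1) {i j : ℤ} (h : (i : ZMod p) = j) : c ^ i = c ^ j := by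
  rw [ZMod.intCast_eq_intCast_iff_dvd_sub] at h
  obtain ⟨k, hk⟩ := h
  rw [show j = i + (p : ℤ) * k by omega, zpow_add, zpow_mul, zpow_natCast, hcp, one_zpow, mul_one]

theorem zpow_eq_one_of_zmod {c : G} (hcp : c ^ p = 1) {i : ℤ} (h : (i : ZMod p) = 0) : c ^ i = 1 := by
  rw [← zpow_zero c]
  exact zpow_eq_of_zmod hcp (by rw [h, Int.cast_zero])

/-- The shape with an elementary abelian subgroup of order `p³` of index `p` in its normalizer. -/
structure Cube (p : ℕ) (y b g w c : G) : Prop where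
  hby : ⁅b, y⁆ = g
  hgy : ⁅g, y⁆ = c
  hbg : Commute b g
  hyw : Commute y w
  hgw : Commute g w
  cent : c ∈ Subgroup.center G
  c1 : c ≠ 1
  cp : c ^ p = 1
  yp : y ^ p = 1
  wp : w ^ p = 1
  bp : ∃ k l m : ℤ, b ^ p = g ^ k * w ^ l * c ^ m
  hbw : ∃ f : ℤ, ⁅b, w⁆ = c ^ f
  hbwne : ¬ Commute b w
  decomp : ∀ s : G, ∃ i j k l m : ℤ, s = y ^ i * b ^ j * (g ^ k * w ^ l * c ^ m)

namespace Cube

variable {y b g w c : G}

omit hp in
theorem ccom (h : Cube p y b g w c) (s : G) : Commute c s := (Subgroup.mem_center_iff.mp h.cent s).symm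

omit hp in
theorem rest (h : Cube p y b g w c) (k l m : ℤ) {s : G} (hg : Commute g s) (hw : Commute w s) :
    Commute (g ^ k * w ^ l * c ^ m) s :=
  ((hg.zpow_left k).mul_left (hw.zpow_left l)).mul_left ((h.ccom s).zpow_left m)

omit hp in
theorem g_comm (h : Cube p y b g w c) (j k l m : ℤ) : Commute g (b ^ j * (g ^ k * w ^ l * c ^ m)) :=
  (h.hbg.symm.zpow_right j).mul_right (h.rest k l m (Commute.refl g) h.hgw.symm).symm

omit hp in
theorem g_decomp (h : Cube p y b g w c) (a i j k l m : ℤ) :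
    ⁅g ^ a, y ^ i * b ^ j * (g ^ k * w ^ l * c ^ m)⁆ = c ^ (a * i) := by
  rw [mul_assoc, comm_mul_right_commute ((h.g_comm j k l m).zpow_left a),
    comm_zpow_zpow (h.hgy ▸ (h.ccom g).symm) (h.hgy ▸ (h.ccom y).symm), h.hgy]

/-- The subgroup generated by `g` and `c`. -/
def D (h : Cube p y b g w c) : Subgroup G where
  carrier := {s | ∃ k m : ℤ, s = g ^ k * c ^ m}
  one_mem' := ⟨0, 0, by simp⟩
  mul_mem' := by
    rintro _ _ ⟨k, m, rfl⟩ ⟨k', m', rfl⟩
    refine ⟨k + k', m + m', ?_⟩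
    rw [zpow_add, zpow_add, mul_assoc, ← mul_assoc (c ^ m), ((h.ccom (g ^ k')).zpow_left m).eq]
    group
  inv_mem' := by
    rintro _ ⟨k, m, rfl⟩
    exact ⟨-k, -m, by rw [mul_inv_rev, zpow_neg, zpow_neg, ((h.ccom _).zpow_left m).inv_left.eq]⟩

omit hp in
theorem g_mem (h : Cube p y b g w c) : g ∈ h.D := ⟨1, 0, by simp⟩

omit hp in
theorem c_mem (h : Cube p y b g w c) : c ∈ h.D := ⟨0, 1, by simp⟩

omit hp in
theorem d_comm (h : Cube p y b g w c) {d : G} (hd : d ∈ h.D) : Commute b d := by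
  obtain ⟨k, m, rfl⟩ := hd
  exact (h.hbg.zpow_right k).mul_right ((h.ccom b).symm.zpow_right m)

theorem normal (h : Cube p y b g w c) : h.D.Normal := by
  refine ⟨fun d hd s => ?_⟩
  obtain ⟨a, n, rfl⟩ := hd
  obtain ⟨i, j, k, l, m, rfl⟩ := h.decomp s
  refine ⟨a, n + (-(a * i)), ?_⟩
  have e := h.g_decomp a i j k l m
  set r := y ^ i * b ^ j * (g ^ k * w ^ l * c ^ m)
  have e2 : r * g ^ a * r⁻¹ = g ^ a * (c ^ (a * i))⁻¹ := by
    rw [← e, commutatorElement_def]
    have := (h.ccom (g ^ a)).zpow_left (a * i)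
    rw [← e, commutatorElement_def] at this
    calc r * g ^ a * r⁻¹ = (g ^ a * r * (g ^ a)⁻¹ * r⁻¹)⁻¹ * g ^ a := by group
      _ = g ^ a * (g ^ a * r * (g ^ a)⁻¹ * r⁻¹)⁻¹ := this.inv_left.eq
  calc r * (g ^ a * c ^ n) * r⁻¹ = (r * g ^ a * r⁻¹) * (r * c ^ n * r⁻¹) := by group
    _ = g ^ a * (c ^ (a * i))⁻¹ * c ^ n := by
      rw [e2, ← ((h.ccom r).zpow_left n).eq, mul_inv_cancel_right]
    _ = _ := by rw [zpow_add, zpow_neg, mul_assoc, ((h.ccom _).zpow_left n).eq]

theorem commutator_mem (h : Cube p y b g w c) (s t : G) : ⁅s, t⁆ ∈ h.D := by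
  have := h.normal
  let π := QuotientGroup.mk' h.D
  have hg : π g = 1 := (QuotientGroup.eq_one_iff _).mpr h.g_mem
  have hc : π c = 1 := (QuotientGroup.eq_one_iff _).mpr h.c_mem
  have hbyc : Commute (π b) (π y) := by
    rw [← commutatorElement_eq_one_iff_commute, ← map_commutatorElement, h.hby, hg]
  have hbwc : Commute (π b) (π w) := by
    obtain ⟨f, hf⟩ := h.hbw
    rw [← commutatorElement_eq_one_iff_commute, ← map_commutatorElement, hf, map_zpow, hc, one_zpow]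
  have hywc : Commute (π y) (π w) := h.hyw.map π
  rw [← QuotientGroup.eq_one_iff]
  show π ⁅s, t⁆ = 1
  rw [map_commutatorElement, commutatorElement_eq_one_iff_commute]
  obtain ⟨i, j, k, l, m, rfl⟩ := h.decomp s
  obtain ⟨i', j', k', l', m', rfl⟩ := h.decomp t
  simp only [map_mul, map_zpow, hg, hc, one_zpow, one_mul, mul_one]
  have hy : Commute (π y) (π y ^ i' * π b ^ j' * π w ^ l') :=
    ((Commute.self_zpow _ i').mul_right (hbyc.symm.zpow_right j')).mul_right (hywc.zpow_right l')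
  have hb : Commute (π b) (π y ^ i' * π b ^ j' * π w ^ l') :=
    ((hbyc.zpow_right i').mul_right (Commute.self_zpow _ j')).mul_right (hbwc.zpow_right l')
  have hw : Commute (π w) (π y ^ i' * π b ^ j' * π w ^ l') :=
    ((hywc.symm.zpow_right i').mul_right (hbwc.symm.zpow_right j')).mul_right (Commute.self_zpow _ l')
  exact ((hy.zpow_left i).mul_left (hb.zpow_left j)).mul_left (hw.zpow_left l)

theorem w_notMem (h : Cube p y b g w c) : w ∉ h.D := fun hw => h.hbwne (h.d_comm hw)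

theorem eta (h : Cube p y b g w c) (η : MulAut G) :
    ∃ α : ℤ, (α : ZMod p) ≠ 0 ∧ (∀ t : ℤ, η y = y ^ t → (α : ZMod p) = t) ∧
      ∃ d ∈ h.D, η w = w ^ (α ^ 2) * d := by
  have : (Subgroup.zpowers c).Normal := ⟨fun n hn s => by
    obtain ⟨i, rfl⟩ := hn
    rw [← ((h.ccom s).zpow_left i).eq, mul_inv_cancel_right]
    exact Subgroup.zpow_mem _ (Subgroup.mem_zpowers c) i⟩
  let π := QuotientGroup.mk' (Subgroup.zpowers c)
  have hc : π c = 1 := (QuotientGroup.eq_one_iff _).mpr (Subgroup.mem_zpowers c)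
  have hgy' : Commute (π g) (π y) := by
    rw [← commutatorElement_eq_one_iff_commute, ← map_commutatorElement, h.hgy, hc]
  have hgb' : Commute (π g) (π b) := h.hbg.symm.map π
  have hwb' : Commute (π w) (π b) := by
    obtain ⟨f, hf⟩ := h.hbw
    refine (show Commute (π b) (π w) from ?_).symm
    rw [← commutatorElement_eq_one_iff_commute, ← map_commutatorElement, hf, map_zpow, hc, one_zpow]
  have hbyq : ∀ i j : ℤ, ⁅π b ^ i, π y ^ j⁆ = π g ^ (i * j) := fun i j => by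
    rw [comm_zpow_zpow, ← map_commutatorElement, h.hby] <;>
      rw [← map_commutatorElement, h.hby]
    · exact hgb'.symm
    · exact hgy'.symm
  have hr : ∀ (k l m : ℤ) (s : G ⧸ Subgroup.zpowers c), Commute (π g) s → Commute (π w) s →
      Commute (π (g ^ k * w ^ l * c ^ m)) s := fun k l m s h1 h2 => by
    simp only [map_mul, map_zpow, hc, one_zpow, mul_one]
    exact (h1.zpow_left k).mul_left (h2.zpow_left l)
  have hgq : ∀ (i j k l m : ℤ), Commute (π g) (π (y ^ i * b ^ j * (g ^ k * w ^ l * c ^ m))) := fun i j k l m => by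
    simp only [map_mul, map_zpow, hc, one_zpow, mul_one]
    exact ((hgy'.zpow_right i).mul_right (hgb'.zpow_right j)).mul_right
      (((Commute.refl _).zpow_right k).mul_right ((h.hgw.map π).zpow_right l))
  have hwq : ∀ (i j k l m : ℤ), Commute (π w) (π (y ^ i * b ^ j * (g ^ k * w ^ l * c ^ m))) := fun i j k l m => by
    simp only [map_mul, map_zpow, hc, one_zpow, mul_one]
    exact (((h.hyw.symm.map π).zpow_right i).mul_right (hwb'.zpow_right j)).mul_right
      (((h.hgw.symm.map π).zpow_right k).mul_right ((Commute.refl _).zpow_right l))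
  -- exponents are read off by commutation with `y`
  have hread : ∀ a a' : ℤ, π g ^ a = π g ^ a' → (a : ZMod p) = a' := by
    intro a a' e
    rw [← map_zpow, ← map_zpow] at e
    obtain ⟨n, hn⟩ := (QuotientGroup.eq (s := Subgroup.zpowers c)).mp e
    have hn' : g ^ a' = g ^ a * c ^ n := by rw [show c ^ n = (g ^ a)⁻¹ * g ^ a' from hn, mul_inv_cancel_left]
    have h1 : ⁅g ^ a', y ^ (1 : ℤ)⁆ = ⁅g ^ a, y ^ (1 : ℤ)⁆ := by
      rw [hn', comm_mul_left_commute ((h.ccom _).zpow_left n)]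
    rw [comm_zpow_zpow (h.hgy ▸ (h.ccom g).symm) (h.hgy ▸ (h.ccom y).symm),
      comm_zpow_zpow (h.hgy ▸ (h.ccom g).symm) (h.hgy ▸ (h.ccom y).symm), h.hgy, mul_one, mul_one] at h1
    exact (zmod_of_zpow_eq h.cp h.c1 h1).symm
  have hreadb : ∀ i j k l m : ℤ, ⁅π (y ^ i * b ^ j * (g ^ k * w ^ l * c ^ m)), π b⁆ = π g ^ (-i) := by
    intro i j k l m
    rw [map_mul, comm_mul_left_commute (hr k l m _ hgb' hwb'), map_mul, map_zpow, map_zpow,
      comm_mul_left_commute ((Commute.refl (π b)).zpow_left j), ← commutatorElement_inv]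
    conv_lhs => rw [← zpow_one (π b), hbyq 1 i, one_mul]
    rw [zpow_neg]
  obtain ⟨α, j, k, l, m, hy⟩ := h.decomp (η y)
  obtain ⟨i₁, β, k₁, l₁, m₁, hb⟩ := h.decomp (η b)
  obtain ⟨σ, τ, hg⟩ : ∃ σ τ : ℤ, η g = g ^ σ * c ^ τ := by
    have := h.commutator_mem (η b) (η y)
    rwa [← map_commutatorElement, h.hby] at this
  have hηc : η c = c ^ (σ * α) := by
    rw [← h.hgy, map_commutatorElement, hg, comm_mul_left_commute ((h.ccom _).zpow_left τ), hy, h.g_decomp, h.hgy]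
  have hηc1 : η c ≠ 1 := fun e => h.c1 ((MulEquiv.map_eq_one_iff η).mp e)
  have hσα : ((σ * α : ℤ) : ZMod p) ≠ 0 := fun e => hηc1 (by rw [hηc]; exact zpow_eq_one_of_zmod h.cp e)
  have hi₁ : y ^ i₁ = 1 := by
    refine zpow_eq_one_of_zmod h.yp ?_
    have h1 : Commute (η g) (η b) := h.hbg.symm.map (η : G ≃* G)
    rw [hg] at h1
    have h2 : Commute (g ^ σ) (η b) := by
      have := h1.mul_left (((h.ccom (η b)).zpow_left τ).inv_left)
      rwa [mul_inv_cancel_right] at this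
    rw [← commutatorElement_eq_one_iff_commute, hb, h.g_decomp, ← zpow_zero c] at h2
    have h3 := zmod_of_zpow_eq h.cp h.c1 h2
    push_cast at h3 hσα
    rcases mul_eq_zero.mp h3 with h4 | h4
    · exact absurd (by rw [h4, zero_mul]) hσα
    · exact h4
  rw [hi₁, one_mul] at hb
  have hσ : (σ : ZMod p) = ((β * α : ℤ) : ZMod p) := by
    refine hread σ (β * α) ?_
    calc π g ^ σ = π (η g) := by rw [hg, map_mul, map_zpow, map_zpow, hc, one_zpow, mul_one]
      _ = ⁅π (η b), π (η y)⁆ := by rw [← h.hby, map_commutatorElement, map_commutatorElement]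
      _ = π g ^ (β * α) := by
        rw [hb, map_mul, comm_mul_left_commute (hr k₁ l₁ m₁ _ (by rw [hy]; exact hgq α j k l m)
            (by rw [hy]; exact hwq α j k l m)), hy, map_mul,
          comm_mul_right_commute (hr k l m _ (by simpa using hgb'.zpow_right β) (by simpa using hwb'.zpow_right β)).symm,
          map_mul, map_zpow, map_zpow, map_zpow,
          comm_mul_right_commute ((Commute.refl (π b)).zpow_zpow β j), hbyq]
  refine ⟨α, ?_, fun t ht => ?_, ?_⟩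
  · intro e
    push_cast at hσα
    exact hσα (by rw [e, mul_zero])
  · have e1 : ⁅π (η y), π b⁆ = π g ^ (-α) := by rw [hy, hreadb]
    have e2 : ⁅π (η y), π b⁆ = π g ^ (-t) := by
      rw [ht, map_zpow, ← commutatorElement_inv]
      conv_lhs => rw [← zpow_one (π b), hbyq 1 t, one_mul]
      rw [zpow_neg]
    have := hread _ _ (e1.symm.trans e2)
    push_cast at this
    exact neg_inj.mp this
  obtain ⟨f, hf⟩ := h.hbw
  obtain ⟨i₂, j₂, k₂, l₂, m₂, hw⟩ := h.decomp (η w)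
  have hwc : ∀ s : G, Commute (π (η w)) (π (η s)) := by
    intro s
    obtain ⟨i, j, k, l, m, rfl⟩ := h.decomp s
    rw [← commutatorElement_eq_one_iff_commute, ← map_commutatorElement, ← map_commutatorElement]
    have h1 := commutatorElement_eq_one_iff_commute.mpr (hwq i j k l m)
    rw [← map_commutatorElement] at h1
    obtain ⟨n, hn⟩ := (QuotientGroup.eq_one_iff _).mp h1
    refine (QuotientGroup.eq_one_iff _).mpr ?_
    rw [← hn, map_zpow, hηc]
    exact Subgroup.zpow_mem _ (Subgroup.zpow_mem _ (Subgroup.mem_zpowers c) _) _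
  have hi₂ : y ^ i₂ = 1 := by
    refine zpow_eq_one_of_zmod h.yp ?_
    have h1 := commutatorElement_eq_one_iff_commute.mpr (hwc (η⁻¹ b))
    rw [MulAut.apply_inv_self, hw, hreadb, ← zpow_zero (π g)] at h1
    have := hread _ _ h1
    push_cast at this
    exact neg_eq_zero.mp this
  have hj₂ : ∃ k l m : ℤ, b ^ j₂ = g ^ k * w ^ l * c ^ m := by
    have h1 := commutatorElement_eq_one_iff_commute.mpr (hwc (η⁻¹ y))
    rw [MulAut.apply_inv_self, hw, hi₂, one_mul, map_mul,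
      comm_mul_left_commute (hr k₂ l₂ m₂ _ hgy' (h.hyw.symm.map π)), map_zpow] at h1
    conv_lhs at h1 => rw [← zpow_one (π y), hbyq, mul_one]
    rw [← zpow_zero (π g)] at h1
    have := hread _ _ h1
    rw [Int.cast_zero, ZMod.intCast_zmod_eq_zero_iff_dvd] at this
    obtain ⟨n, rfl⟩ := this
    obtain ⟨k', l', m', hbp⟩ := h.bp
    refine ⟨k' * n, l' * n, m' * n, ?_⟩
    rw [zpow_mul, zpow_natCast, hbp, ((h.ccom _).zpow_left m').symm.mul_zpow,
      (h.hgw.zpow_zpow k' l').mul_zpow, zpow_mul, zpow_mul, zpow_mul]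
  obtain ⟨k₃, l₃, m₃, hb₃⟩ := hj₂
  rw [hi₂, one_mul, hb₃] at hw
  have hww : η w = w ^ (l₃ + l₂) * (g ^ (k₃ + k₂) * c ^ (m₃ + m₂)) := by
    have hgwc : Commute (g ^ k₂) (w ^ l₃) := h.hgw.zpow_zpow k₂ l₃
    have hgwc' : Commute (g ^ (k₃ + k₂)) (w ^ (l₃ + l₂)) := h.hgw.zpow_zpow _ _
    calc η w = g ^ k₃ * (w ^ l₃ * c ^ m₃ * g ^ k₂) * w ^ l₂ * c ^ m₂ := by rw [hw]; group
      _ = g ^ k₃ * (g ^ k₂ * w ^ l₃ * c ^ m₃) * w ^ l₂ * c ^ m₂ := by
        rw [mul_assoc (w ^ l₃), ((h.ccom _).zpow_left m₃).eq, ← mul_assoc (w ^ l₃), hgwc.symm.eq]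
      _ = g ^ k₃ * g ^ k₂ * (w ^ l₃ * (c ^ m₃ * w ^ l₂)) * c ^ m₂ := by group
      _ = g ^ (k₃ + k₂) * w ^ (l₃ + l₂) * c ^ (m₃ + m₂) := by
        rw [((h.ccom _).zpow_left m₃).eq, zpow_add, zpow_add, zpow_add]; group
      _ = _ := by rw [hgwc'.eq, mul_assoc]
  set l' := l₃ + l₂
  have hkey : ((f * (σ * α) : ℤ) : ZMod p) = ((f * (β * l') : ℤ) : ZMod p) := by
    refine zmod_of_zpow_eq h.cp h.c1 ?_
    have h1 : η (c ^ f) = ⁅η b, η w⁆ := by rw [← hf, map_commutatorElement]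
    rw [map_zpow, hηc, ← zpow_mul, mul_comm (σ * α) f] at h1
    rw [h1, hb, hww]
    have hrw : Commute (g ^ k₁ * w ^ l₁ * c ^ m₁) (w ^ l' * (g ^ (k₃ + k₂) * c ^ (m₃ + m₂))) :=
      h.rest k₁ l₁ m₁
        ((h.hgw.zpow_right l').mul_right (((Commute.refl g).zpow_right _).mul_right ((h.ccom g).symm.zpow_right _)))
        (((Commute.refl w).zpow_right l').mul_right
          ((h.hgw.symm.zpow_right _).mul_right ((h.ccom w).symm.zpow_right _)))
    rw [comm_mul_left_commute hrw, comm_mul_right_commute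
      ((h.hbg.zpow_zpow β _).mul_right ((h.ccom b).symm.zpow_zpow β _)),
      comm_zpow_zpow (hf ▸ (h.ccom b).symm.zpow_right f) (hf ▸ (h.ccom w).symm.zpow_right f), hf, ← zpow_mul]
  have hf0 : (f : ZMod p) ≠ 0 := fun e => h.hbwne (commutatorElement_eq_one_iff_commute.mp
    (by rw [hf]; exact zpow_eq_one_of_zmod h.cp e))
  have hl : (l' : ZMod p) = ((α ^ 2 : ℤ) : ZMod p) := by
    push_cast at hkey hσα hσ ⊢
    rw [hσ] at hkey hσα
    have h1 : (β : ZMod p) * l' = β * α ^ 2 := by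
      refine mul_left_cancel₀ hf0 ?_
      rw [← hkey]; ring
    exact mul_left_cancel₀ (fun e => hσα (by rw [e]; ring)) h1
  exact ⟨g ^ (k₃ + k₂) * c ^ (m₃ + m₂), ⟨_, _, rfl⟩, by rw [hww, zpow_eq_of_zmod h.wp hl]⟩

end Cube

/-- The shape of maximal class. -/
structure MaxShape (p : ℕ) (x b s g c : G) : Prop where
  hbx : ⁅b, x⁆ = s
  hsx : ⁅s, x⁆ = g
  hgx : ⁅g, x⁆ = c
  hbg : Commute b g
  hsg : Commute s g
  cent : c ∈ Subgroup.center G
  c1 : c ≠ 1
  cp : c ^ p = 1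
  xp : x ^ p = 1
  hbs : ∃ f : ℤ, ⁅b, s⁆ = c ^ f
  hbsne : ¬ Commute b s
  decomp : ∀ u : G, ∃ i j k l m : ℤ, u = x ^ i * b ^ j * (s ^ k * g ^ l * c ^ m)

namespace MaxShape

variable {x b s g c : G}

omit hp in
theorem ccom (h : MaxShape p x b s g c) (u : G) : Commute c u := (Subgroup.mem_center_iff.mp h.cent u).symm

omit hp in
theorem rest (h : MaxShape p x b s g c) (k l m : ℤ) {u : G} (hs : Commute s u) (hg : Commute g u) :
    Commute (s ^ k * g ^ l * c ^ m) u :=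
  ((hs.zpow_left k).mul_left (hg.zpow_left l)).mul_left ((h.ccom u).zpow_left m)

/-- The subgroup generated by `s`, `g` and `c`. -/
def D (h : MaxShape p x b s g c) : Subgroup G := Subgroup.closure {s, g, c}

omit hp in
theorem mem_D_iff (h : MaxShape p x b s g c) {u : G} :
    u ∈ h.D ↔ ∃ k l m : ℤ, u = s ^ k * g ^ l * c ^ m := by
  constructor
  · intro hu
    induction hu using Subgroup.closure_induction with
    | mem v hv =>
      rcases hv with rfl | rfl | rfl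
      · exact ⟨1, 0, 0, by simp⟩
      · exact ⟨0, 1, 0, by simp⟩
      · exact ⟨0, 0, 1, by simp⟩
    | one => exact ⟨0, 0, 0, by simp⟩
    | mul v v' _ _ hv hv' =>
      obtain ⟨k, l, m, rfl⟩ := hv
      obtain ⟨k', l', m', rfl⟩ := hv'
      refine ⟨k + k', l + l', m + m', ?_⟩
      calc s ^ k * g ^ l * c ^ m * (s ^ k' * g ^ l' * c ^ m')
          = s ^ k * (g ^ l * c ^ m * s ^ k') * g ^ l' * c ^ m' := by group
        _ = s ^ k * (s ^ k' * (g ^ l * c ^ m)) * g ^ l' * c ^ m' := by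
          rw [((h.hsg.zpow_zpow k' l).mul_right ((h.ccom (s ^ k')).zpow_left m).symm).eq]
        _ = s ^ (k + k') * g ^ l * (c ^ m * g ^ l') * c ^ m' := by rw [zpow_add]; group
        _ = _ := by rw [((h.ccom _).zpow_left m).eq, zpow_add, zpow_add, zpow_add]; group
    | inv v _ hv =>
      obtain ⟨k, l, m, rfl⟩ := hv
      refine ⟨-k, -l, -m, ?_⟩
      rw [mul_inv_rev, mul_inv_rev, ((h.ccom _).zpow_left m).inv_left.eq,
        (h.hsg.zpow_zpow k l).symm.inv_inv.eq, ← zpow_neg, ← zpow_neg, ← zpow_neg]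
  · rintro ⟨k, l, m, rfl⟩
    refine mul_mem (mul_mem (zpow_mem ?_ k) (zpow_mem ?_ l)) (zpow_mem ?_ m) <;>
      exact Subgroup.subset_closure (by simp)

theorem normal (h : MaxShape p x b s g c) : h.D.Normal := by
  have hx : ∀ u ∈ h.D, ∀ i : ℤ, x ^ i * u * (x ^ i)⁻¹ ∈ h.D := by
    have hgen : ∀ u ∈ ({s, g, c} : Set G), x * u * x⁻¹ ∈ h.D ∧ x⁻¹ * u * x ∈ h.D := by
      have hs : s ∈ h.D := Subgroup.subset_closure (by simp)
      have hg : g ∈ h.D := Subgroup.subset_closure (by simp)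
      have hc : c ∈ h.D := Subgroup.subset_closure (by simp)
      intro u hu
      rcases hu with rfl | rfl | rfl
      · have e : x * u * x⁻¹ = g⁻¹ * u := by rw [← h.hsx, commutatorElement_def]; group
        have eg : x * g * x⁻¹ = c⁻¹ * g := by rw [← h.hgx, commutatorElement_def]; group
        have e2 : x * (c * g * u) * x⁻¹ = u := by
          calc x * (c * g * u) * x⁻¹ = x * c * x⁻¹ * (x * g * x⁻¹) * (x * u * x⁻¹) := by group
            _ = u := by rw [← (h.ccom x).eq, e, eg]; group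
        refine ⟨by rw [e]; exact mul_mem (inv_mem hg) hs, ?_⟩
        conv => arg 2; rw [← e2]
        rw [show x⁻¹ * (x * (c * g * u) * x⁻¹) * x = c * g * u by group]
        exact mul_mem (mul_mem hc hg) hs
      · have e : x * u * x⁻¹ = c⁻¹ * u := by rw [← h.hgx, commutatorElement_def]; group
        have e2 : x * (c * u) * x⁻¹ = u := by
          calc x * (c * u) * x⁻¹ = x * c * x⁻¹ * (x * u * x⁻¹) := by group
            _ = u := by rw [← (h.ccom x).eq, e]; group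
        refine ⟨by rw [e]; exact mul_mem (inv_mem hc) hg, ?_⟩
        conv => arg 2; rw [← e2]
        rw [show x⁻¹ * (x * (c * u) * x⁻¹) * x = c * u by group]
        exact mul_mem hc hg
      · exact ⟨by rw [← (h.ccom x).eq, mul_inv_cancel_right]; exact hc,
          by rw [mul_assoc, (h.ccom x).eq, inv_mul_cancel_left]; exact hc⟩
    let St : Subgroup G := Subgroup.normalizer (h.D : Set G)
    have hxN : x ∈ St := by
      refine Subgroup.mem_normalizer_iff.mpr fun u => ⟨fun hu => ?_, fun hu => ?_⟩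
      · have : h.D ≤ h.D.comap (MulAut.conj x).toMonoidHom := (Subgroup.closure_le _).mpr fun v hv => (hgen v hv).1
        exact this hu
      · have : h.D ≤ h.D.comap (MulAut.conj x⁻¹).toMonoidHom := (Subgroup.closure_le _).mpr fun v hv => by
          show x⁻¹ * v * x⁻¹⁻¹ ∈ h.D
          rw [inv_inv]; exact (hgen v hv).2
        have h2 : x⁻¹ * (x * u * x⁻¹) * x⁻¹⁻¹ ∈ h.D := this hu
        simpa [mul_assoc] using h2
    intro u hu i
    exact (Subgroup.mem_normalizer_iff.mp (St.zpow_mem hxN i) u).mp hu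
  refine ⟨fun d hd u => ?_⟩
  obtain ⟨i, j, k, l, m, rfl⟩ := h.decomp u
  have h1 : b ^ j * d * (b ^ j)⁻¹ ∈ h.D := by
    obtain ⟨k', l', m', rfl⟩ := (h.mem_D_iff).mp hd
    obtain ⟨f, hf⟩ := h.hbs
    have e : b ^ j * s ^ k' * (b ^ j)⁻¹ = c ^ (f * (j * k')) * s ^ k' := by
      have h3 := comm_zpow_zpow (a := b) (b := s) (hf ▸ (h.ccom b).symm.zpow_right f)
        (hf ▸ (h.ccom s).symm.zpow_right f) j k'
      rw [hf, ← zpow_mul, commutatorElement_def] at h3
      rw [← h3]; group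
    have e2 : Commute (b ^ j) (g ^ l' * c ^ m') :=
      (h.hbg.zpow_zpow j l').mul_right (((h.ccom b).symm).zpow_zpow j m')
    rw [show b ^ j * (s ^ k' * g ^ l' * c ^ m') * (b ^ j)⁻¹ =
        b ^ j * s ^ k' * (b ^ j)⁻¹ * (b ^ j * (g ^ l' * c ^ m') * (b ^ j)⁻¹) by group,
      e, e2.eq, mul_inv_cancel_right]
    exact mul_mem (mul_mem (zpow_mem (Subgroup.subset_closure (by simp)) _)
      (zpow_mem (Subgroup.subset_closure (by simp)) _))
      (mul_mem (zpow_mem (Subgroup.subset_closure (by simp)) _) (zpow_mem (Subgroup.subset_closure (by simp)) _))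
  have hr : s ^ k * g ^ l * c ^ m ∈ h.D := (h.mem_D_iff).mpr ⟨k, l, m, rfl⟩
  rw [show x ^ i * b ^ j * (s ^ k * g ^ l * c ^ m) * d * (x ^ i * b ^ j * (s ^ k * g ^ l * c ^ m))⁻¹ =
    x ^ i * ((b ^ j * (s ^ k * g ^ l * c ^ m) * (b ^ j)⁻¹) * (b ^ j * d * (b ^ j)⁻¹) *
      (b ^ j * (s ^ k * g ^ l * c ^ m) * (b ^ j)⁻¹)⁻¹) * (x ^ i)⁻¹ by group]
  refine hx _ (mul_mem (mul_mem ?_ h1) (inv_mem ?_)) i <;>
  · rw [show b ^ j * (s ^ k * g ^ l * c ^ m) * (b ^ j)⁻¹ = ⁅b ^ j, s ^ k * g ^ l * c ^ m⁆ * (s ^ k * g ^ l * c ^ m) by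
      rw [commutatorElement_def]; group]
    obtain ⟨f, hf⟩ := h.hbs
    rw [mul_assoc (s ^ k), comm_mul_right_commute ((h.hbg.zpow_zpow j l).mul_right ((h.ccom b).symm.zpow_zpow j m)),
      comm_zpow_zpow (hf ▸ (h.ccom b).symm.zpow_right f) (hf ▸ (h.ccom s).symm.zpow_right f), hf]
    exact mul_mem (zpow_mem (zpow_mem (Subgroup.subset_closure (by simp)) _) _) (by rw [← mul_assoc]; exact hr)

theorem commutator_mem (h : MaxShape p x b s g c) (u v : G) : ⁅u, v⁆ ∈ h.D := by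
  have := h.normal
  let π := QuotientGroup.mk' h.D
  have hs : π s = 1 := (QuotientGroup.eq_one_iff _).mpr (Subgroup.subset_closure (by simp))
  have hg : π g = 1 := (QuotientGroup.eq_one_iff _).mpr (Subgroup.subset_closure (by simp))
  have hc : π c = 1 := (QuotientGroup.eq_one_iff _).mpr (Subgroup.subset_closure (by simp))
  have hbx : Commute (π b) (π x) := by
    rw [← commutatorElement_eq_one_iff_commute, ← map_commutatorElement, h.hbx, hs]
  rw [← QuotientGroup.eq_one_iff]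
  show π ⁅u, v⁆ = 1
  rw [map_commutatorElement, commutatorElement_eq_one_iff_commute]
  obtain ⟨i, j, k, l, m, rfl⟩ := h.decomp u
  obtain ⟨i', j', k', l', m', rfl⟩ := h.decomp v
  simp only [map_mul, map_zpow, hs, hg, hc, one_zpow, mul_one]
  exact (((Commute.refl _).zpow_zpow i i').mul_right (hbx.symm.zpow_zpow i j')).mul_left
    ((hbx.zpow_zpow j i').mul_right ((Commute.refl _).zpow_zpow j j'))

theorem eta (h : MaxShape p x b s g c) (η : MulAut G) :
    ∃ α β : ℤ, (α : ZMod p) ≠ 0 ∧ (β : ZMod p) = (α : ZMod p) ^ 2 ∧ (∀ t : ℤ, η x = x ^ t → (α : ZMod p) = t) ∧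
      η c = c ^ (α ^ 5) ∧ ∃ d ∈ h.D, η b = b ^ β * d := by
  have : (Subgroup.zpowers c).Normal := ⟨fun n hn u => by
    obtain ⟨i, rfl⟩ := hn
    rw [← ((h.ccom u).zpow_left i).eq, mul_inv_cancel_right]
    exact Subgroup.zpow_mem _ (Subgroup.mem_zpowers c) i⟩
  let π := QuotientGroup.mk' (Subgroup.zpowers c)
  have hc : π c = 1 := (QuotientGroup.eq_one_iff _).mpr (Subgroup.mem_zpowers c)
  have hgx' : Commute (π g) (π x) := by
    rw [← commutatorElement_eq_one_iff_commute, ← map_commutatorElement, h.hgx, hc]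
  have hgb' : Commute (π g) (π b) := h.hbg.symm.map π
  have hsb' : Commute (π b) (π s) := by
    obtain ⟨f, hf⟩ := h.hbs
    rw [← commutatorElement_eq_one_iff_commute, ← map_commutatorElement, hf, map_zpow, hc, one_zpow]
  have hsg' : Commute (π s) (π g) := h.hsg.map π
  have hsxq : ∀ i j : ℤ, ⁅π s ^ i, π x ^ j⁆ = π g ^ (i * j) := fun i j => by
    rw [comm_zpow_zpow, ← map_commutatorElement, h.hsx] <;> rw [← map_commutatorElement, h.hsx]
    · exact hsg'
    · exact hgx'.symm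
  have hgxz : ∀ i j : ℤ, ⁅g ^ i, x ^ j⁆ = c ^ (i * j) := fun i j => by
    rw [comm_zpow_zpow (h.hgx ▸ (h.ccom g).symm) (h.hgx ▸ (h.ccom x).symm), h.hgx]
  -- exponents modulo `⟨c⟩`
  have hread : ∀ a a' : ℤ, π g ^ a = π g ^ a' → (a : ZMod p) = a' := by
    intro a a' e
    rw [← map_zpow, ← map_zpow] at e
    obtain ⟨n, hn⟩ := (QuotientGroup.eq (s := Subgroup.zpowers c)).mp e
    have hn' : g ^ a' = g ^ a * c ^ n := by rw [show c ^ n = (g ^ a)⁻¹ * g ^ a' from hn, mul_inv_cancel_left]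
    have h1 : ⁅g ^ a', x ^ (1 : ℤ)⁆ = ⁅g ^ a, x ^ (1 : ℤ)⁆ := by
      rw [hn', comm_mul_left_commute ((h.ccom _).zpow_left n)]
    rw [hgxz, hgxz, mul_one, mul_one] at h1
    exact (zmod_of_zpow_eq h.cp h.c1 h1).symm
  obtain ⟨α, j, k, l, m, hx⟩ := h.decomp (η x)
  obtain ⟨i₁, β, k₁, l₁, m₁, hb⟩ := h.decomp (η b)
  obtain ⟨σ, τ, υ, hs⟩ := (h.mem_D_iff).mp (h.commutator_mem (η b) (η x))
  rw [← map_commutatorElement, h.hbx] at hs
  have hgη : π (η g) = π g ^ (σ * α) := by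
    rw [← h.hsx, map_commutatorElement, map_commutatorElement, hs, hx]
    simp only [map_mul, map_zpow, hc, one_zpow, mul_one]
    have e1 : Commute (π g ^ τ) (π x ^ α * π b ^ j * (π s ^ k * π g ^ l)) :=
      ((hgx'.zpow_zpow τ α).mul_right (hgb'.zpow_zpow τ j)).mul_right
        ((hsg'.symm.zpow_zpow τ k).mul_right ((Commute.refl _).zpow_zpow τ l))
    rw [comm_mul_left_commute e1, mul_assoc, comm_mul_right_commute ((hsb'.symm.zpow_zpow σ j).mul_right
      (((Commute.refl _).zpow_zpow σ k).mul_right (hsg'.zpow_zpow σ l))), hsxq, h.hsx]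
  obtain ⟨n, hn⟩ : ∃ n : ℤ, η g = g ^ (σ * α) * c ^ n := by
    rw [← map_zpow] at hgη
    obtain ⟨n, hn⟩ := (QuotientGroup.eq (s := Subgroup.zpowers c)).mp hgη.symm
    exact ⟨n, by rw [show c ^ n = (g ^ (σ * α))⁻¹ * η g from hn, mul_inv_cancel_left]⟩
  have hηc : η c = c ^ (σ * α * α) := by
    rw [← h.hgx, map_commutatorElement, hn, comm_mul_left_commute ((h.ccom _).zpow_left n), hx, mul_assoc,
      comm_mul_right_commute ((h.hbg.symm.zpow_zpow (σ * α) j).mul_right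
        ((h.rest k l m h.hsg (Commute.refl g)).zpow_right (σ * α)).symm), hgxz, h.hgx]
  have hηc1 : η c ≠ 1 := fun e => h.c1 ((MulEquiv.map_eq_one_iff η).mp e)
  have h0 : (σ : ZMod p) * α * α ≠ 0 := fun e => hηc1 (by
    rw [hηc]; exact zpow_eq_one_of_zmod h.cp (by push_cast; exact e))
  obtain ⟨f, hf⟩ := h.hbs
  have hi₁ : x ^ i₁ = 1 := by
    refine zpow_eq_one_of_zmod h.xp ?_
    have h1 : ⁅π (η b), π (η s)⁆ = 1 := by
      rw [← map_commutatorElement, ← map_commutatorElement, hf]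
      refine (QuotientGroup.eq_one_iff _).mpr ?_
      rw [map_zpow, hηc]
      exact Subgroup.zpow_mem _ (Subgroup.zpow_mem _ (Subgroup.mem_zpowers c) _) _
    rw [hb, hs] at h1
    simp only [map_mul, map_zpow, hc, one_zpow, mul_one] at h1
    have e1 : Commute (π b ^ β * (π s ^ k₁ * π g ^ l₁)) (π s ^ σ * π g ^ τ) :=
      ((hsb'.zpow_zpow β σ).mul_right (hgb'.symm.zpow_zpow β τ)).mul_left
        ((((Commute.refl _).zpow_zpow k₁ σ).mul_right (hsg'.zpow_zpow k₁ τ)).mul_left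
          ((hsg'.symm.zpow_zpow l₁ σ).mul_right ((Commute.refl _).zpow_zpow l₁ τ)))
    rw [mul_assoc, comm_mul_left_commute e1, comm_mul_right_commute (hgx'.symm.zpow_zpow i₁ τ),
      ← commutatorElement_inv, hsxq, ← zpow_neg, ← zpow_zero (π g)] at h1
    have h2 := hread _ _ h1
    push_cast at h2
    rcases mul_eq_zero.mp (neg_eq_zero.mp h2) with h3 | h3
    · exact absurd (by rw [h3, zero_mul, zero_mul]) h0
    · exact h3
  rw [hi₁, one_mul] at hb
  -- the action on `γ₂ / γ₃`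
  have hD3 : (Subgroup.zpowers c ⊔ Subgroup.zpowers g).Normal := by
    rw [sup_comm]
    refine ⟨fun d hd u => ?_⟩
    rw [Subgroup.mem_sup_of_normal_right] at hd
    obtain ⟨_, ⟨a, rfl⟩, _, ⟨a', rfl⟩, rfl⟩ := hd
    obtain ⟨i, j, k, l, m, rfl⟩ := h.decomp u
    set r := x ^ i * b ^ j * (s ^ k * g ^ l * c ^ m) with hr
    have e1 : ⁅g ^ a, r⁆ = c ^ (a * i) := by
      rw [hr, mul_assoc, comm_mul_right_commute ((h.hbg.symm.zpow_zpow a j).mul_right
        ((h.rest k l m h.hsg (Commute.refl g)).zpow_right a).symm), hgxz]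
    have e : r * (g ^ a * c ^ a') * r⁻¹ = ⁅g ^ a, r⁆⁻¹ * g ^ a * (r * c ^ a' * r⁻¹) := by
      rw [commutatorElement_def]; group
    rw [e, e1, ← ((h.ccom r).zpow_left a').eq, mul_inv_cancel_right]
    exact mul_mem (mul_mem (inv_mem (Subgroup.mem_sup_right (zpow_mem (Subgroup.mem_zpowers c) _)))
      (Subgroup.mem_sup_left (zpow_mem (Subgroup.mem_zpowers g) _)))
      (Subgroup.mem_sup_right (zpow_mem (Subgroup.mem_zpowers c) _))
  let ρ := QuotientGroup.mk' (Subgroup.zpowers c ⊔ Subgroup.zpowers g)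
  have hc3 : ρ c = 1 := (QuotientGroup.eq_one_iff _).mpr (Subgroup.mem_sup_left (Subgroup.mem_zpowers c))
  have hg3 : ρ g = 1 := (QuotientGroup.eq_one_iff _).mpr (Subgroup.mem_sup_right (Subgroup.mem_zpowers g))
  have hsx3 : Commute (ρ s) (ρ x) := by
    rw [← commutatorElement_eq_one_iff_commute, ← map_commutatorElement, h.hsx, hg3]
  have hbs3 : Commute (ρ b) (ρ s) := by
    rw [← commutatorElement_eq_one_iff_commute, ← map_commutatorElement, hf, map_zpow, hc3, one_zpow]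
  have hbxq : ∀ i j : ℤ, ⁅ρ b ^ i, ρ x ^ j⁆ = ρ s ^ (i * j) := fun i j => by
    rw [comm_zpow_zpow, ← map_commutatorElement, h.hbx] <;> rw [← map_commutatorElement, h.hbx]
    · exact hbs3
    · exact hsx3.symm
  have hread3 : ∀ a a' : ℤ, ρ s ^ a = ρ s ^ a' → (a : ZMod p) = a' := by
    intro a a' e
    rw [← map_zpow, ← map_zpow] at e
    have e' := (QuotientGroup.eq (s := Subgroup.zpowers c ⊔ Subgroup.zpowers g)).mp e
    rw [Subgroup.mem_sup_of_normal_left] at e'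
    obtain ⟨_, ⟨n₁, rfl⟩, _, ⟨n₂, rfl⟩, hnn⟩ := e'
    have hn' : s ^ a' = s ^ a * (c ^ n₁ * g ^ n₂) := by
      rw [show c ^ n₁ * g ^ n₂ = (s ^ a)⁻¹ * s ^ a' from hnn, mul_inv_cancel_left]
    have h1 : ⁅π (s ^ a'), π x ^ (1 : ℤ)⁆ = ⁅π (s ^ a), π x ^ (1 : ℤ)⁆ := by
      rw [hn', map_mul, map_mul, map_zpow π c, hc, one_zpow, one_mul, map_zpow π g,
        comm_mul_left_commute (hgx'.zpow_zpow n₂ 1)]
    rw [map_zpow, map_zpow, hsxq, hsxq, mul_one, mul_one] at h1
    exact (hread _ _ h1).symm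
  have hσ : (σ : ZMod p) = ((β * α : ℤ) : ZMod p) := by
    refine hread3 σ (β * α) ?_
    calc ρ s ^ σ = ρ (η s) := by
          rw [hs, map_mul, map_mul, map_zpow ρ g, hg3, map_zpow ρ c, hc3, one_zpow, one_zpow, mul_one, mul_one,
            map_zpow]
      _ = ⁅ρ (η b), ρ (η x)⁆ := by rw [← h.hbx, map_commutatorElement, map_commutatorElement]
      _ = _ := by
        rw [hb, hx]
        simp only [map_mul, map_zpow, hg3, hc3, one_zpow, mul_one]
        rw [comm_mul_left_commute (((hsx3.zpow_zpow k₁ α).mul_right (hbs3.symm.zpow_zpow k₁ j)).mul_right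
            ((Commute.refl _).zpow_zpow k₁ k)), mul_assoc,
          comm_mul_right_commute (((Commute.refl _).zpow_zpow β j).mul_right (hbs3.zpow_zpow β k)), hbxq]
  have hβ : (β : ZMod p) = (α : ZMod p) ^ 2 := by
    have h1 : η (c ^ f) = ⁅η b, η s⁆ := by rw [← hf, map_commutatorElement]
    have e1 : Commute (s ^ k₁ * g ^ l₁ * c ^ m₁) (s ^ σ * g ^ τ * c ^ υ) :=
      h.rest k₁ l₁ m₁ (h.rest σ τ υ (Commute.refl s) h.hsg.symm).symm (h.rest σ τ υ h.hsg (Commute.refl g)).symm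
    rw [map_zpow, hηc, ← zpow_mul, hb, hs, comm_mul_left_commute e1, mul_assoc (s ^ σ),
      comm_mul_right_commute ((h.hbg.zpow_zpow β τ).mul_right ((h.ccom b).symm.zpow_zpow β υ)),
      comm_zpow_zpow (hf ▸ (h.ccom b).symm.zpow_right f) (hf ▸ (h.ccom s).symm.zpow_right f), hf, ← zpow_mul] at h1
    have h2 := zmod_of_zpow_eq h.cp h.c1 h1
    have hf0 : (f : ZMod p) ≠ 0 := fun e => h.hbsne (commutatorElement_eq_one_iff_commute.mp
      (by rw [hf]; exact zpow_eq_one_of_zmod h.cp e))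
    push_cast at h2 hσ
    have h3 : (f : ZMod p) * σ * (α * α - β) = 0 := by linear_combination h2
    rcases mul_eq_zero.mp h3 with h4 | h4
    · rcases mul_eq_zero.mp h4 with h5 | h5
      · exact absurd h5 hf0
      · exact absurd (by rw [h5, zero_mul, zero_mul]) h0
    · rw [pow_two]; exact (sub_eq_zero.mp h4).symm
  refine ⟨α, β, fun e => h0 (by rw [e, mul_zero]), hβ, fun t ht => ?_, ?_, _, (h.mem_D_iff).mpr ⟨k₁, l₁, m₁, rfl⟩, hb⟩
  · have e1 : ⁅ρ b ^ (1 : ℤ), ρ (η x)⁆ = ρ s ^ α := by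
      rw [hx]
      simp only [map_mul, map_zpow, hg3, hc3, one_zpow, mul_one]
      rw [mul_assoc, comm_mul_right_commute (((Commute.refl _).zpow_zpow 1 j).mul_right (hbs3.zpow_zpow 1 k)),
        hbxq, one_mul]
    have e2 : ⁅ρ b ^ (1 : ℤ), ρ (η x)⁆ = ρ s ^ t := by rw [ht, map_zpow, hbxq, one_mul]
    exact hread3 _ _ (e1.symm.trans e2)
  · rw [hηc]
    refine zpow_eq_of_zmod h.cp ?_
    push_cast
    rw [hσ]
    push_cast
    rw [hβ]; ring

end MaxShape

end CfsgLib.FusionFifth
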