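import Cfsg.Prelude.Def_Transfer
import Cfsg.Agent.Lib.PGroup.IndexP
import Cfsg.Agent.Lib.PGroup.SoftSubgroup
import Cfsg.Agent.Lib.PGroup.Class2

/-!
Groups of order `p⁵` with an elementary abelian self-centralizing subgroup of order `p³` whose normalizer
has order `p⁴`, without an abelian subgroup of order `p⁴`.
-/

set_option autoImplicit false

namespace CfsgLib.FusionFifth

open Subgroup
open scoped commutatorElement

variable {G : Type*} [Group G] {p : ℕ} [hp : Fact p.Prime]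

omit hp in
/-- Commutators of a subgroup are controlled by those of generators. -/
theorem comm_mem_of_gens {N : Subgroup G} [N.Normal] {s : Set G} {M : Subgroup G} (hM : M ≤ closure s)
    (h : ∀ a ∈ s, ∀ b ∈ s, ⁅a, b⁆ ∈ N) : ∀ a ∈ M, ∀ b ∈ M, ⁅a, b⁆ ∈ N := by
  intro a ha b hb
  let π := QuotientGroup.mk' N
  have hc : ∀ x ∈ π '' s, ∀ y ∈ π '' s, x * y = y * x := by
    rintro _ ⟨x, hx, rfl⟩ _ ⟨y, hy, rfl⟩
    rw [← commutatorElement_eq_one_iff_mul_comm, ← map_commutatorElement]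
    exact (QuotientGroup.eq_one_iff _).mpr (h x hx y hy)
  have := isMulCommutative_closure hc
  have hm : ∀ x ∈ M, π x ∈ closure (π '' s) := fun x hx => by
    rw [← MonoidHom.map_closure]; exact mem_map_of_mem π (hM hx)
  rw [← QuotientGroup.eq_one_iff]
  show π ⁅a, b⁆ = 1
  rw [map_commutatorElement, commutatorElement_eq_one_iff_mul_comm]
  exact setLike_mul_comm (hm a ha) (hm b hb)

omit hp in
/-- An element commuting with a set commutes with the subgroup it generates. -/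
theorem commute_of_mem_closure {s : Set G} {x : G} (h : ∀ a ∈ s, Commute a x) :
    ∀ a ∈ closure s, Commute a x := by
  intro a ha
  have hle : closure s ≤ centralizer ({x} : Set G) := (closure_le _).mpr fun b hb =>
    mem_centralizer_singleton_iff.mpr (h b hb)
  exact mem_centralizer_singleton_iff.mp (hle ha)

theorem mem_of_zpow_mem {H : Subgroup G} {w : G} (hwp : w ^ p ∈ H) {k : ℤ} (hk : (k : ZMod p) ≠ 0)
    (h : w ^ k ∈ H) : w ∈ H := by
  rw [Ne, ZMod.intCast_zmod_eq_zero_iff_dvd] at hk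
  obtain ⟨a, b, hab⟩ := Int.isCoprime_iff_gcd_eq_one.mpr (show Int.gcd k p = 1 by
    rw [Int.gcd_comm]
    exact (Nat.prime_iff_prime_int.mp hp.out).coprime_iff_not_dvd.mpr hk |> Int.isCoprime_iff_gcd_eq_one.mp)
  have e : w = (w ^ k) ^ a * (w ^ p) ^ b := by
    rw [← zpow_natCast w p, ← zpow_mul, ← zpow_mul, ← zpow_add, mul_comm k, mul_comm (p : ℤ), hab, zpow_one]
  rw [e]
  exact mul_mem (zpow_mem h a) (zpow_mem hwp b)

/-- A subgroup generated by a normal subgroup of index `p` in it and one more element. -/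
theorem exists_zpow_mul [Finite G] {H K : Subgroup G} [H.Normal] (hHK : H ≤ K)
    (hc : Nat.card K = p * Nat.card H) {a : G} (ha : a ∈ K) (haH : a ∉ H) {x : G} (hx : x ∈ K) :
    ∃ i : ℤ, ∃ h ∈ H, x = a ^ i * h := by
  set L := zpowers a ⊔ H
  have hLK : L ≤ K := sup_le (zpowers_le.mpr ha) hHK
  have hlt : Nat.card H < Nat.card L := lt_of_not_ge fun hge =>
    haH ((eq_of_le_of_card_ge (le_sup_right : H ≤ L) hge).ge (mem_sup_left (mem_zpowers a)))
  obtain ⟨q, hq⟩ := card_dvd_of_le (le_sup_right : H ≤ L)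
  have hqp : q ∣ p := by
    have h1 := card_dvd_of_le hLK
    rw [hc, hq, mul_comm p] at h1
    exact Nat.dvd_of_mul_dvd_mul_left Nat.card_pos h1
  have hLK' : L = K := by
    refine eq_of_le_of_card_ge hLK ?_
    rcases hp.out.eq_one_or_self_of_dvd _ hqp with h1 | h1
    · rw [hq, h1, mul_one] at hlt; exact absurd hlt (lt_irrefl _)
    · rw [hc, hq, h1, mul_comm p]
  rw [← hLK'] at hx
  obtain ⟨y, hy, h, hh, rfl⟩ := mem_sup_of_normal_right.mp hx
  obtain ⟨i, rfl⟩ := mem_zpowers_iff.mp hy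
  exact ⟨i, h, hh, rfl⟩

/-- A normal subgroup of order `p` times that of a smaller one is central modulo it. -/
theorem comm_mem_of_step [Finite G] (hG : IsPGroup p G) {R B : Subgroup G} [R.Normal] (hB : B.Normal)
    (hRB : R ≤ B) (hc : Nat.card B = p * Nat.card R) (s : G) {x : G} (hx : x ∈ B) : ⁅s, x⁆ ∈ R := by
  let π := QuotientGroup.mk' R
  have : (B.map π).Normal := hB.map π (QuotientGroup.mk'_surjective R)
  have h1 : Nat.card (B.map π) = p := by
    have h2 := relIndex_ker (K := B) π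
    rw [QuotientGroup.ker_mk'] at h2
    rw [← h2, Subgroup.relIndex]
    have h3 := (R.subgroupOf B).card_mul_index
    rw [Nat.card_congr (subgroupOfEquivOfLe hRB).toEquiv, hc, mul_comm p] at h3
    exact Nat.eq_of_mul_eq_mul_left Nat.card_pos h3
  have h4 := CfsgLib.SoftSubgroup.le_center_of_card_eq (hG.to_quotient R) (B.map π) h1 (mem_map_of_mem π hx)
  rw [← QuotientGroup.eq_one_iff]
  show π ⁅s, x⁆ = 1
  rw [map_commutatorElement, commutatorElement_eq_one_iff_mul_comm]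
  exact mem_center_iff.mp h4 (π s)

/-- In a group of order `p³` commutators are central. -/
theorem commute_comm_of_card_cube {Q : Type*} [Group Q] [Finite Q] (hQ : Nat.card Q = p ^ 3) (a b x : Q) :
    Commute ⁅a, b⁆ x := by
  have hP : IsPGroup p Q := IsPGroup.of_card hQ
  set Z := center Q
  obtain ⟨i, hi, hi'⟩ := (Nat.dvd_prime_pow hp.out).mp (hQ ▸ card_subgroup_dvd_card Z)
  have hidx := Z.card_mul_index
  rw [hQ, hi'] at hidx
  have h4 : Z.index = p ^ (3 - i) := by
    refine Nat.eq_of_mul_eq_mul_left (pow_pos hp.out.pos i) (hidx.trans ?_)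
    rw [← pow_add]; congr 1; omega
  have : Nontrivial Q := Finite.one_lt_card_iff_nontrivial.mp (hQ ▸ Nat.one_lt_pow (by norm_num) hp.out.one_lt)
  have hi1 : i ≠ 0 := by
    rintro rfl
    rw [pow_zero] at hi'
    exact (nontrivial_iff_ne_bot _).mp hP.center_nontrivial (card_eq_one.mp hi')
  have hcomm : ∀ u v : Q ⧸ Z, u * v = v * u := by
    by_cases h1 : i = 1
    · exact IsPGroup.commutative_of_card_eq_prime_sq (p := p) (by rw [← index_eq_card, h4, h1])
    · have : IsCyclic (Q ⧸ Z) := isCyclic_of_card_dvd_prime (p := p) (by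
        rw [← index_eq_card, h4]; exact (pow_dvd_pow p (show 3 - i ≤ 1 by omega)).trans (pow_one p).dvd)
      let _ := IsCyclic.commGroup (α := Q ⧸ Z)
      exact mul_comm
  have hmem : ⁅a, b⁆ ∈ Z := by
    rw [← QuotientGroup.eq_one_iff]
    show QuotientGroup.mk' Z _ = 1
    rw [map_commutatorElement, commutatorElement_eq_one_iff_mul_comm]
    exact hcomm _ _
  exact (mem_center_iff.mp hmem x).symm

/-- A group whose central quotient has order `p²` has a derived subgroup of order `p`. -/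
theorem card_commutator_of_index_sq [Finite G] (hQ : Nat.card (G ⧸ center G) = p ^ 2)
    (hna : ¬ IsMulCommutative G) : Nat.card (commutator G) = p ∧ commutator G ≤ center G := by
  set Z := center G
  have hQc := IsPGroup.commutative_of_card_eq_prime_sq hQ
  have hc : ∀ a b : G, ⁅a, b⁆ ∈ Z := fun a b => by
    rw [← QuotientGroup.eq_one_iff]
    show QuotientGroup.mk' Z _ = 1
    rw [map_commutatorElement, commutatorElement_eq_one_iff_mul_comm]
    exact hQc _ _
  obtain ⟨a, b, hab⟩ : ∃ a b : G, ¬ Commute a b := by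
    by_contra! h
    exact hna ⟨⟨fun a b => h a b⟩⟩
  set L := closure ((Z : Set G) ∪ {a, b})
  have hZL : Z ≤ L := fun z hz => subset_closure (Or.inl hz)
  have haL : a ∈ L := subset_closure (Or.inr (by simp))
  have hbL : b ∈ L := subset_closure (Or.inr (by simp))
  have htop : L = ⊤ := by
    have : (L.map (QuotientGroup.mk' Z)) = ⊤ := by
      by_contra hne
      obtain ⟨i, hi, hi'⟩ := (Nat.dvd_prime_pow hp.out).mp (hQ ▸ card_subgroup_dvd_card (L.map (QuotientGroup.mk' Z)))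
      have hi1 : i ≤ 1 := by
        by_contra h2
        exact hne (eq_top_of_card_eq _ (by rw [hi', hQ, show i = 2 by omega]))
      have : IsCyclic (L.map (QuotientGroup.mk' Z)) := isCyclic_of_card_dvd_prime (p := p)
        (hi' ▸ (pow_dvd_pow p hi1).trans (pow_one p).dvd)
      refine hab ?_
      have hker : ((QuotientGroup.mk' Z).subgroupMap L).ker ≤ center L := fun x hx => by
        refine mem_center_iff.mpr fun y => Subtype.ext ?_
        have hx' : (x : G) ∈ Z := (QuotientGroup.eq_one_iff _).mp (congrArg Subtype.val hx)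
        exact mem_center_iff.mp hx' y
      exact congrArg Subtype.val (commutative_of_cyclic_center_quotient _ hker (⟨a, haL⟩ : L) ⟨b, hbL⟩)
    have h := congrArg (Subgroup.comap (QuotientGroup.mk' Z)) this
    rwa [comap_map_eq, QuotientGroup.ker_mk', sup_eq_left.mpr hZL, comap_top] at h
  set c := ⁅a, b⁆
  have : (zpowers c).Normal := ⟨fun x hx g => by
    have hxZ : x ∈ Z := zpowers_le.mpr (hc a b) hx
    rw [mem_center_iff.mp hxZ g, mul_inv_cancel_right]; exact hx⟩
  have hcd : ∀ z ∈ Z, ∀ x : G, ⁅z, x⁆ = 1 := fun z hz x =>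
    commutatorElement_eq_one_iff_mul_comm.mpr (mem_center_iff.mp hz x).symm
  have hle : commutator G ≤ zpowers c := by
    rw [_root_.commutator_def, commutator_le]
    refine comm_mem_of_gens (s := (Z : Set G) ∪ {a, b}) htop.ge fun u hu v hv => ?_
    rcases hu with hu | hu
    · rw [hcd u hu]; exact one_mem _
    rcases hv with hv | hv
    · rw [← commutatorElement_inv, hcd v hv]; exact inv_mem (one_mem _)
    rcases hu with rfl | rfl <;> rcases hv with rfl | rfl
    · simp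
    · exact mem_zpowers c
    · rw [← commutatorElement_inv]; exact inv_mem (mem_zpowers c)
    · simp
  have hc1 : c ≠ 1 := fun e => hab (commutatorElement_eq_one_iff_commute.mp e)
  have hap : a ^ p ∈ Z := by
    rw [← QuotientGroup.eq_one_iff]
    show QuotientGroup.mk' Z (a ^ p) = 1
    rw [map_pow]
    by_contra hne
    have : IsCyclic (G ⧸ Z) := isCyclic_of_orderOf_eq_card (QuotientGroup.mk' Z a) (by
      rw [hQ]; exact orderOf_eq_prime_pow (n := 1) (by rw [pow_one]; exact hne) (by rw [← hQ]; exact pow_card_eq_one'))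
    exact hna ⟨⟨commutative_of_cyclic_center_quotient (QuotientGroup.mk' Z) (by rw [QuotientGroup.ker_mk'])⟩⟩
  have hcp : c ^ p = 1 := by
    let φ : G →* G :=
      { toFun := fun h => ⁅h, b⁆
        map_one' := by simp
        map_mul' := fun u v => CfsgLib.PGroup.commutatorElement_mul_left_of_central u v b (hc v b) }
    exact (map_pow φ a p).symm.trans (hcd (a ^ p) hap b)
  refine ⟨?_, hle.trans (zpowers_le.mpr (hc a b))⟩
  rw [le_antisymm hle (zpowers_le.mpr (commutator_mem_commutator (mem_top a) (mem_top b))), Nat.card_zpowers,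
    orderOf_eq_prime hcp hc1]

/-- The structure of `M = N(A)` for an elementary abelian subgroup `A` of order `p³`. -/
structure CubeData (p : ℕ) (A M R B : Subgroup G) : Prop where
  AM : A ≤ M
  cardA : Nat.card A = p ^ 3
  cardM : Nat.card M = p ^ 4
  Mn : M.Normal
  expA : ∀ a ∈ A, a ^ p = 1
  commA : ∀ a ∈ A, ∀ b ∈ A, Commute a b
  cardR : Nat.card R = p
  RZ : R ≤ center G
  cardB : Nat.card B = p ^ 2
  Bn : B.Normal
  RB : R ≤ B
  BA : B ≤ A
  commM : ∀ m ∈ M, ∀ m' ∈ M, ⁅m, m'⁆ ∈ R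
  BM : ∀ x ∈ B, ∀ m ∈ M, Commute m x
  memB : ∀ a ∈ A, ∀ g ∈ M, g ∉ A → Commute g a → a ∈ B

variable [Finite G]

theorem exists_cubeData (hG : Nat.card G = p ^ 5)
    {A M : Subgroup G} (hAM : A ≤ M) (hA : Nat.card A = p ^ 3) (hM : Nat.card M = p ^ 4)
    (hexp : ∀ a ∈ A, a ^ p = 1) (hcomm : ∀ a ∈ A, ∀ b ∈ A, Commute a b)
    (hC : ∀ g : G, (∀ a ∈ A, Commute g a) → g ∈ A)
    (hnorm : ∀ s : G, (∀ a ∈ A, s * a * s⁻¹ ∈ A) → s ∈ M)
    (hMA : ∀ m ∈ M, ∀ a ∈ A, m * a * m⁻¹ ∈ A) : ∃ R B : Subgroup G, CubeData p A M R B := by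
  have hp' := hp.out
  have hP : IsPGroup p G := IsPGroup.of_card hG
  have hMn : M.Normal := CfsgLib.PGroup.normal_of_index_eq hP (by
    have h := M.card_mul_index
    rw [hM, hG, pow_succ p 4] at h
    exact Nat.eq_of_mul_eq_mul_left (pow_pos hp'.pos 4) h)
  have hAn : (A.subgroupOf M).Normal := ⟨fun a ha m => hMA m m.2 a ha⟩
  have hdec : ∀ g ∈ M, g ∉ A → ∀ m ∈ M, ∃ i : ℤ, ∃ a ∈ A, m = g ^ i * a := by
    intro g hg hgA m hm
    obtain ⟨i, a, ha, e⟩ := exists_zpow_mul (p := p) (H := A.subgroupOf M) (K := ⊤) le_top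
      (by rw [card_top, Nat.card_congr (subgroupOfEquivOfLe hAM).toEquiv, hA, hM]; ring)
      (mem_top (⟨g, hg⟩ : M)) (fun h => hgA h) (mem_top (⟨m, hm⟩ : M))
    exact ⟨i, a, ha, by simpa using congrArg Subtype.val e⟩
  have hpow : ∀ g ∈ M, g ^ p ∈ A := by
    intro g hg
    have h1 : ((⟨g, hg⟩ : M) : M ⧸ A.subgroupOf M) ^ p = 1 := by
      have h2 : Nat.card (M ⧸ A.subgroupOf M) = p := by
        have h3 := (A.subgroupOf M).card_mul_index
        rw [Nat.card_congr (subgroupOfEquivOfLe hAM).toEquiv, hA, hM, pow_succ p 3] at h3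
        rw [← index_eq_card]
        exact Nat.eq_of_mul_eq_mul_left (pow_pos hp'.pos 3) h3
      conv_lhs => rw [← h2]
      exact pow_card_eq_one'
    rw [← QuotientGroup.mk_pow, QuotientGroup.eq_one_iff] at h1
    exact h1
  -- a generator centralising all commutators
  have hA' : ∀ m ∈ M, ∀ m' ∈ M, ⁅m, m'⁆ ∈ A := by
    intro m hm m' hm'
    obtain ⟨g, hg, hgA⟩ : ∃ g ∈ M, g ∉ A := SetLike.exists_of_lt (lt_of_le_of_ne hAM fun e => by
      have := congrArg (fun H : Subgroup G => Nat.card H) e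
      simp only [hA, hM] at this
      have := Nat.pow_right_injective hp'.two_le this
      omega)
    have hs : (⊤ : Subgroup M) ≤ closure ({⟨g, hg⟩} ∪ (A.subgroupOf M : Set M)) := by
      intro x _
      obtain ⟨i, a, ha, e⟩ := hdec g hg hgA x x.2
      rw [show x = (⟨g, hg⟩ : M) ^ i * ⟨a, hAM ha⟩ from Subtype.ext (by simpa using e)]
      exact Subgroup.mul_mem _ (Subgroup.zpow_mem _ (Subgroup.subset_closure (Set.mem_union_left _ (Set.mem_singleton _))) i)
        (Subgroup.subset_closure (Set.mem_union_right _ ha))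
    refine comm_mem_of_gens (G := M) (N := A.subgroupOf M) hs ?_ ⟨m, hm⟩ (mem_top _) ⟨m', hm'⟩ (mem_top _)
    have h1 : ∀ a ∈ A, ⁅g, a⁆ ∈ A := fun a ha => mul_mem (hMA g hg a ha) (inv_mem ha)
    rintro u (rfl | hu) v (rfl | hv)
    · simp
    · exact h1 v hv
    · rw [← commutatorElement_inv]; exact inv_mem (h1 u hu)
    · show ⁅(u : G), (v : G)⁆ ∈ A
      rw [commutatorElement_eq_one_iff_commute.mpr (hcomm u hu v hv)]; exact one_mem _
  obtain ⟨g, hg, hgA, hgc⟩ : ∃ g ∈ M, g ∉ A ∧ ∀ m ∈ M, ∀ m' ∈ M, Commute g ⁅m, m'⁆ := by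
    by_contra! h
    let C : Subgroup G := M ⊓ centralizer {x | ∃ m ∈ M, ∃ m' ∈ M, ⁅m, m'⁆ = x}
    have hCA : C = A := by
      refine le_antisymm (fun x hx => ?_) fun a ha => ⟨hAM ha, mem_centralizer_iff.mpr ?_⟩
      · by_contra hxA
        obtain ⟨m, hm, m', hm', hne⟩ := h x hx.1 hxA
        exact hne (mem_centralizer_iff.mp hx.2 _ ⟨m, hm, m', hm', rfl⟩).symm
      · rintro _ ⟨m, hm, m', hm', rfl⟩
        exact (hcomm _ ha _ (hA' m hm m' hm')).eq.symm
    have htop : ∀ s : G, s ∈ M := fun s => hnorm s fun a ha => by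
      rw [← hCA] at ha ⊢
      refine ⟨hMn.conj_mem a ha.1 s, mem_centralizer_iff.mpr ?_⟩
      rintro _ ⟨m, hm, m', hm', rfl⟩
      have h1 := mem_centralizer_iff.mp ha.2 ⁅s⁻¹ * m * s, s⁻¹ * m' * s⁆
        ⟨_, by simpa using hMn.conj_mem m hm s⁻¹, _, by simpa using hMn.conj_mem m' hm' s⁻¹, rfl⟩
      have h2 := congrArg (fun x => s * x * s⁻¹) h1
      calc ⁅m, m'⁆ * (s * a * s⁻¹) = s * (⁅s⁻¹ * m * s, s⁻¹ * m' * s⁆ * a) * s⁻¹ := by
            simp only [commutatorElement_def]; group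
        _ = s * (a * ⁅s⁻¹ * m * s, s⁻¹ * m' * s⁆) * s⁻¹ := h2
        _ = s * a * s⁻¹ * ⁅m, m'⁆ := by simp only [commutatorElement_def]; group
    have := card_le_of_le (show (⊤ : Subgroup G) ≤ M from fun s _ => htop s)
    rw [card_top, hG, hM, Nat.pow_le_pow_iff_right hp'.one_lt] at this
    omega
  let δ : A →* A :=
    { toFun := fun a => ⟨⁅g, (a : G)⁆, hA' g hg a (hAM a.2)⟩
      map_one' := Subtype.ext (by simp)
      map_mul' := fun a b => Subtype.ext (by
        show ⁅g, (a : G) * b⁆ = ⁅g, (a : G)⁆ * ⁅g, (b : G)⁆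
        have h1 := hcomm a a.2 _ (hA' g hg b (hAM b.2))
        rw [commutatorElement_mul_right_eq_mul_conj]
        show _ * a * _ * (a : G)⁻¹ = _
        rw [mul_assoc ⁅g, (a : G)⁆, h1.eq]; group) }
  have hker : ∀ a : A, a ∈ δ.ker ↔ Commute g a := fun a => by
    rw [MonoidHom.mem_ker, Subtype.ext_iff]
    exact commutatorElement_eq_one_iff_commute
  have hrk : δ.range ≤ δ.ker := by
    rintro _ ⟨a, rfl⟩
    exact (hker _).mpr (hgc g hg a (hAM a.2))
  have hAne : ¬ ∀ a ∈ A, Commute g a := fun h => hgA (hC g h)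
  have hcards : Nat.card δ.range = p ∧ Nat.card δ.ker = p ^ 2 := by
    have h := card_mul_index δ.ker
    rw [index_ker, hA] at h
    have hle := card_le_of_le hrk
    obtain ⟨i, -, hi⟩ := (Nat.dvd_prime_pow hp').mp (hA ▸ card_subgroup_dvd_card δ.range)
    obtain ⟨j, -, hj⟩ := (Nat.dvd_prime_pow hp').mp (hA ▸ card_subgroup_dvd_card δ.ker)
    rw [hi, hj, Nat.pow_le_pow_iff_right hp'.one_lt] at hle
    rw [hi, hj, ← pow_add] at h
    have hji := Nat.pow_right_injective hp'.two_le h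
    have hi0 : i ≠ 0 := fun h0 => hAne fun a ha => (hker ⟨a, ha⟩).mp (by
      have htop : δ.ker = ⊤ := eq_top_of_le_card _ (by
        rw [hA, hj]; exact Nat.pow_le_pow_right hp'.pos (by omega))
      rw [htop]; exact mem_top _)
    rw [hi, hj, show i = 1 by omega, show j = 2 by omega, pow_one]
    exact ⟨rfl, rfl⟩
  set R := δ.range.map A.subtype with hR
  set B := δ.ker.map A.subtype with hB
  have hcR : Nat.card R = p := by rw [hR, card_map_of_injective A.subtype_injective, hcards.1]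
  have hcB : Nat.card B = p ^ 2 := by rw [hB, card_map_of_injective A.subtype_injective, hcards.2]
  have hmemB : ∀ x, x ∈ B ↔ x ∈ A ∧ Commute g x := fun x => by
    constructor
    · rintro ⟨a, ha, rfl⟩
      exact ⟨a.2, (hker a).mp ha⟩
    · exact fun h => ⟨⟨x, h.1⟩, (hker _).mpr h.2, rfl⟩
  have hBA : B ≤ A := fun x hx => ((hmemB x).mp hx).1
  have hMgen : ∀ x : G, Commute g x → (∀ a ∈ A, Commute a x) → ∀ m ∈ M, Commute m x := by
    intro x h1 h2 m hm
    obtain ⟨i, a, ha, rfl⟩ := hdec g hg hgA m hm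
    exact (h1.zpow_left i).mul_left (h2 a ha)
  have hBM : ∀ x ∈ B, ∀ m ∈ M, Commute m x := fun x hx =>
    hMgen x ((hmemB x).mp hx).2 fun a ha => hcomm a ha x (hBA hx)
  have hRB : R ≤ B := map_mono hrk
  have hMR : ∀ m ∈ M, ∀ m' ∈ M, ⁅m, m'⁆ ∈ R := by
    have : (R.subgroupOf M).Normal := ⟨fun r hr m => by
      rw [mem_subgroupOf]
      have := hBM _ (hRB hr) m m.2
      show (m : G) * r * (m : G)⁻¹ ∈ R
      rw [show (m : G) * r = r * m from this.eq, mul_inv_cancel_right]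
      exact hr⟩
    intro m hm m' hm'
    have hs : (⊤ : Subgroup M) ≤ closure ({⟨g, hg⟩} ∪ (A.subgroupOf M : Set M)) := by
      intro x _
      obtain ⟨i, a, ha, e⟩ := hdec g hg hgA x x.2
      rw [show x = (⟨g, hg⟩ : M) ^ i * ⟨a, hAM ha⟩ from Subtype.ext (by simpa using e)]
      exact Subgroup.mul_mem _ (Subgroup.zpow_mem _ (Subgroup.subset_closure (Set.mem_union_left _ (Set.mem_singleton _))) i)
        (Subgroup.subset_closure (Set.mem_union_right _ ha))
    refine comm_mem_of_gens (G := M) (N := R.subgroupOf M) hs ?_ ⟨m, hm⟩ (mem_top _) ⟨m', hm'⟩ (mem_top _)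
    have h1 : ∀ a ∈ A, ⁅g, a⁆ ∈ R := fun a ha => ⟨δ ⟨a, ha⟩, ⟨_, rfl⟩, rfl⟩
    rintro u (rfl | hu) v (rfl | hv)
    · simp
    · exact h1 v hv
    · rw [← commutatorElement_inv]; exact inv_mem (h1 u hu)
    · show ⁅(u : G), (v : G)⁆ ∈ R
      rw [commutatorElement_eq_one_iff_commute.mpr (hcomm u hu v hv)]; exact one_mem _
  have : R.Normal := ⟨by
    rintro _ ⟨_, ⟨a, rfl⟩, rfl⟩ s
    show s * ⁅g, (a : G)⁆ * s⁻¹ ∈ R
    rw [show s * ⁅g, (a : G)⁆ * s⁻¹ = ⁅s * g * s⁻¹, s * a * s⁻¹⁆ by simp only [commutatorElement_def]; group]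
    exact hMR _ (hMn.conj_mem g hg s) _ (hMn.conj_mem a (hAM a.2) s)⟩
  refine ⟨R, B, hAM, hA, hM, hMn, hexp, hcomm, hcR, CfsgLib.SoftSubgroup.le_center_of_card_eq hP R hcR, hcB,
    ⟨fun x hx s => ?_⟩, hRB, hBA, hMR, hBM, fun a ha u hu huA hua => ?_⟩
  · have h1 : ∀ m ∈ M, Commute m (s * x * s⁻¹) := fun m hm => by
      have h2 := hBM x hx (s⁻¹ * m * s) (by simpa using hMn.conj_mem m hm s⁻¹)
      have := h2.map (MulAut.conj s).toMonoidHom
      simpa [mul_assoc] using this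
    exact (hmemB _).mpr ⟨hC _ fun a ha => (h1 a (hAM ha)).symm, h1 g hg⟩
  · obtain ⟨i, a', ha', rfl⟩ := hdec g hg hgA u hu
    have h1 : Commute (g ^ i) a := by
      have := hua.mul_left (hcomm a' ha' a ha).inv_left
      rwa [mul_inv_cancel_right] at this
    refine (hmemB a).mpr ⟨ha, mem_centralizer_singleton_iff.mp
      (mem_of_zpow_mem (p := p) (H := centralizer ({a} : Set G)) (k := i) ?_ ?_ (mem_centralizer_singleton_iff.mpr h1.eq))⟩
    · exact mem_centralizer_singleton_iff.mpr (hcomm _ (hpow g hg) a ha).eq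
    · intro hi
      rw [ZMod.intCast_zmod_eq_zero_iff_dvd] at hi
      obtain ⟨k, rfl⟩ := hi
      refine huA (mul_mem ?_ ha')
      rw [zpow_mul, zpow_natCast]
      exact zpow_mem (hpow g hg) k

variable {A M R B : Subgroup G}

omit hp [Finite G] in
theorem CubeData.Rn (h : CubeData p A M R B) : R.Normal :=
  ⟨fun x hx s => by rw [mem_center_iff.mp (h.RZ hx) s, mul_inv_cancel_right]; exact hx⟩

theorem CubeData.commB (hG : IsPGroup p G) (h : CubeData p A M R B) (s : G) {x : G} (hx : x ∈ B) :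
    ⁅s, x⁆ ∈ R := by
  have := h.Rn
  exact comm_mem_of_step hG h.Bn h.RB (by rw [h.cardB, h.cardR, pow_two]) s hx

/-- The elements produced by an element outside `M`. -/
theorem CubeData.step (h : CubeData p A M R B) (hG : Nat.card G = p ^ 5)
    (hnorm : ∀ s : G, (∀ a ∈ A, s * a * s⁻¹ ∈ A) → s ∈ M) {y b : G} (hy : y ∈ A) (hyB : y ∉ B) (hb : b ∉ M) :
    ⁅b, y⁆ ∈ M ∧ ⁅b, y⁆ ∉ A ∧ ⁅⁅b, y⁆, y⁆ ≠ 1 ∧ ⁅b, ⁅b, y⁆⁆ ∈ B ∧ ⁅b, y⁆ ^ p ∈ B ∧
      (B ⊔ zpowers ⁅b, y⁆).Normal ∧ Nat.card (B ⊔ zpowers ⁅b, y⁆ : Subgroup G) = p ^ 3 ∧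
      y ∉ B ⊔ zpowers ⁅b, y⁆ ∧ ∀ m ∈ M, ∃ i j : ℤ, ∃ x ∈ B, m = y ^ i * ⁅b, y⁆ ^ j * x := by
  have hp' := hp.out
  have hP : IsPGroup p G := IsPGroup.of_card hG
  have hBn := h.Bn
  set g := ⁅b, y⁆ with hg
  have hgM : g ∈ M := by
    rw [hg, commutatorElement_def]
    exact mul_mem (h.Mn.conj_mem y (h.AM hy) b) (inv_mem (h.AM hy))
  have hgA : g ∉ A := by
    intro hgA
    refine hb (hnorm b fun a ha => ?_)
    obtain ⟨i, x, hx, rfl⟩ := exists_zpow_mul (p := p) h.BA (by rw [h.cardA, h.cardB]; ring) hy hyB ha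
    rw [show b * (y ^ i * x) * b⁻¹ = (b * y * b⁻¹) ^ i * (b * x * b⁻¹) by rw [conj_zpow]; group]
    refine mul_mem (zpow_mem ?_ i) (h.BA (hBn.conj_mem x hx b))
    rw [show b * y * b⁻¹ = g * y by rw [hg, commutatorElement_def]; group]
    exact mul_mem hgA hy
  have hgy : ⁅g, y⁆ ≠ 1 := fun e => hyB (h.memB y hy g hgM hgA (commutatorElement_eq_one_iff_commute.mp e))
  let π := QuotientGroup.mk' B
  have hQ : Nat.card (G ⧸ B) = p ^ 3 := by
    have h3 := B.card_mul_index
    rw [h.cardB, hG, show p ^ 5 = p ^ 2 * p ^ 3 by ring] at h3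
    rw [← index_eq_card]
    exact Nat.eq_of_mul_eq_mul_left (pow_pos hp'.pos 2) h3
  have hcent : ∀ s : G, Commute (π g) (π s) := fun s => by
    rw [hg, map_commutatorElement]
    exact commute_comm_of_card_cube hQ _ _ _
  have hgs : ∀ s : G, ⁅s, g⁆ ∈ B := fun s => by
    rw [← QuotientGroup.eq_one_iff]
    show π _ = 1
    rw [map_commutatorElement, commutatorElement_eq_one_iff_commute]
    exact (hcent s).symm
  have hgp : g ^ p ∈ B := by
    rw [← QuotientGroup.eq_one_iff]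
    show π _ = 1
    have hyp : y ^ p = 1 := h.expA y hy
    have key : ∀ n : ℕ, ⁅π b, π y ^ n⁆ = π g ^ n := by
      intro n
      induction n with
      | zero => simp
      | succ n ih =>
        rw [pow_succ, commutatorElement_mul_right_eq_mul_conj, ih, ← map_commutatorElement, ← hg, pow_succ]
        show π g ^ n * π y ^ n * π g * (π y ^ n)⁻¹ = _
        rw [mul_assoc (π g ^ n), ((hcent y).pow_right n).symm.eq, ← mul_assoc, mul_inv_cancel_right]
    rw [map_pow, ← key p, ← map_pow, hyp, map_one, commutatorElement_one_right]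
  have hWM : B ⊔ zpowers g ≤ M := sup_le (h.BA.trans h.AM) (zpowers_le.mpr hgM)
  have hyW : y ∉ B ⊔ zpowers g := by
    intro hyW
    obtain ⟨x, hx, u, hu, e⟩ := mem_sup_of_normal_left.mp hyW
    obtain ⟨k, rfl⟩ := mem_zpowers_iff.mp hu
    have hk : g ^ k ∈ A := by
      rw [show g ^ k = x⁻¹ * y by rw [← e, inv_mul_cancel_left]]
      exact mul_mem (inv_mem (h.BA hx)) hy
    by_cases hk0 : (k : ZMod p) = 0
    · rw [ZMod.intCast_zmod_eq_zero_iff_dvd] at hk0
      obtain ⟨n, rfl⟩ := hk0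
      refine hyB (e ▸ mul_mem hx ?_)
      rw [zpow_mul, zpow_natCast]
      exact zpow_mem hgp n
    · exact hgA (mem_of_zpow_mem (h.BA hgp) hk0 hk)
  have hWn : (B ⊔ zpowers g).Normal := by
    refine ⟨fun x hx s => ?_⟩
    obtain ⟨v, hv, u, hu, rfl⟩ := mem_sup_of_normal_left.mp hx
    obtain ⟨k, rfl⟩ := mem_zpowers_iff.mp hu
    rw [show s * (v * g ^ k) * s⁻¹ = (s * v * s⁻¹) * (⁅s, g⁆ * g) ^ k by
      rw [commutatorElement_def, inv_mul_cancel_right, conj_zpow]; group]
    exact mul_mem (mem_sup_left (hBn.conj_mem v hv s))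
      (zpow_mem (mul_mem (mem_sup_left (hgs s)) (mem_sup_right (mem_zpowers g))) k)
  have hWc : Nat.card (B ⊔ zpowers g : Subgroup G) = p ^ 3 := by
    obtain ⟨e, -, he⟩ := (Nat.dvd_prime_pow hp').mp (h.cardM ▸ card_dvd_of_le hWM)
    have c1 : Nat.card B < Nat.card (B ⊔ zpowers g : Subgroup G) := lt_of_not_ge fun hge =>
      hgA (h.BA ((eq_of_le_of_card_ge le_sup_left hge).ge (mem_sup_right (mem_zpowers g))))
    have c2 : Nat.card (B ⊔ zpowers g : Subgroup G) < Nat.card M := lt_of_not_ge fun hge =>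
      hyW ((eq_of_le_of_card_ge hWM hge).ge (h.AM hy))
    rw [h.cardB, he, Nat.pow_lt_pow_iff_right hp'.one_lt] at c1
    rw [h.cardM, he, Nat.pow_lt_pow_iff_right hp'.one_lt] at c2
    rw [he, show e = 3 by omega]
  refine ⟨hgM, hgA, hgy, hgs b, hgp, hWn, hWc, hyW, fun m hm => ?_⟩
  obtain ⟨i, w, hw, rfl⟩ := exists_zpow_mul (p := p) hWM (by rw [hWc, h.cardM]; ring) (h.AM hy) hyW hm
  obtain ⟨v, hv, u, hu, rfl⟩ := mem_sup_of_normal_left.mp hw
  obtain ⟨j, rfl⟩ := mem_zpowers_iff.mp hu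
  refine ⟨i, j, (g ^ j)⁻¹ * v * g ^ j, ?_, by group⟩
  simpa using hBn.conj_mem v hv (g ^ j)⁻¹

end CfsgLib.FusionFifth
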