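import Cfsg.Agent.S5185
import Cfsg.Agent.S5186
import Cfsg.Agent.Lib.Fusion.AbelianIndexP
import Cfsg.Agent.Lib.Fusion.EssentialFourth
import Cfsg.Agent.Lib.Fusion.EssentialTorus
import Cfsg.Agent.Lib.Fusion.OrderFifthFrames
import Cfsg.Agent.Lib.Fusion.OrderFifthGroup

/-!
Saturated fusion systems over groups of order `p⁵` without abelian subgroup of index `p`: the shapes of
the essential subgroups, homomorphisms kept by automizers, and lines moved by automorphisms of a normalizer.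
-/

set_option autoImplicit false

namespace CfsgLib.FusionFifth

open Cfsg Cfsg.FusionSystem CfsgLib.Fusion
open Cfsg.Agent.S5265Aux (zS mem_zS zS_le)
open scoped commutatorElement

variable {Ω : Type*} [Group Ω] {S : Subgroup Ω} [Finite S] {p : ℕ} [hp : Fact p.Prime] {F : FusionSystem S}

/-- No abelian subgroup of index `p`. -/
def NoAbel (S : Subgroup Ω) (p : ℕ) : Prop :=
  ∀ A : Subgroup Ω, A ≤ S → IsMulCommutative A → (A.subgroupOf S).index ≠ p

theorem false_of_comm (hcard : Nat.card S = p ^ 5) (hna : NoAbel S p) (K : Subgroup S)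
    (hc : ∀ a ∈ K, ∀ b ∈ K, Commute a b) (hK : p ^ 4 ≤ Nat.card K) : False := by
  have hp' := hp.out
  have hP : IsPGroup p K := (IsPGroup.of_card hcard).to_subgroup K
  obtain ⟨H, hH⟩ : ∃ H : Subgroup K, Nat.card H = p ^ 4 :=
    Sylow.exists_subgroup_card_pow_prime p (by
      obtain ⟨i, hi⟩ := hP.exists_card_eq
      rw [hi, Nat.pow_le_pow_iff_right hp'.one_lt] at hK
      exact hi ▸ pow_dvd_pow p hK)
  set A := (H.map K.subtype).map S.subtype
  have hA : A ≤ S := Subgroup.map_subtype_le _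
  refine hna A hA ⟨⟨?_⟩⟩ ?_
  · rintro ⟨_, _, ⟨a, ha, rfl⟩, rfl⟩ ⟨_, _, ⟨b, hb, rfl⟩, rfl⟩
    exact Subtype.ext (congrArg (Subtype.val : S → Ω) (hc a a.2 b b.2).eq)
  · have hA' : A.subgroupOf S = H.map K.subtype :=
      Subgroup.comap_map_eq_self_of_injective S.subtype_injective _
    have h := (A.subgroupOf S).card_mul_index
    rw [hA', Subgroup.card_map_of_injective K.subtype_injective, hH, hcard, pow_succ p 4] at h
    rw [hA']
    exact Nat.eq_of_mul_eq_mul_left (pow_pos hp'.pos 4) h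

theorem card_lt_normalizerIn (hS : IsPGroup p S) {P : Subgroup Ω} (hP : P < S) :
    Nat.card P < Nat.card (normalizerIn S P) := by
  have : Finite (normalizerIn S P) := finite_of_le normalizerIn_le
  have h := lt_normalizerIn hS le_rfl hP
  exact lt_of_not_ge fun hge => h.ne (eq_of_le_of_card_le h.le hge)

theorem exists_pow_card (hcard : Nat.card S = p ^ 5) {P : Subgroup Ω} (hP : P ≤ S) :
    ∃ i ≤ 5, Nat.card P = p ^ i :=
  (Nat.dvd_prime_pow hp.out).mp (hcard ▸ Subgroup.card_dvd_of_le hP)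

theorem lt_of_card (hcard : Nat.card S = p ^ 5) {P : Subgroup Ω} (hP : P ≤ S) {k : ℕ} (hk : Nat.card P = p ^ k)
    (h5 : k < 5) : P < S := by
  refine lt_of_le_of_ne hP fun e => ?_
  rw [e, hcard] at hk
  have := Nat.pow_right_injective hp.out.two_le hk
  omega

theorem normalizerIn_eq (hS : IsPGroup p S) (hcard : Nat.card S = p ^ 5) {P : Subgroup Ω} (hP : P ≤ S)
    (hk : Nat.card P = p ^ 4) : normalizerIn S P = S := by
  have : Finite (normalizerIn S P) := finite_of_le normalizerIn_le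
  refine eq_of_le_of_card_le normalizerIn_le ?_
  have h := card_lt_normalizerIn hS (lt_of_card hcard hP hk (by omega))
  obtain ⟨i, -, hi⟩ := exists_pow_card hcard (normalizerIn_le (S := S) (P := P))
  rw [hk, hi, Nat.pow_lt_pow_iff_right hp.out.one_lt] at h
  rw [hi, hcard]
  exact Nat.pow_le_pow_right hp.out.pos h

omit hp in
theorem fullyNormalized_of_normal {P : Subgroup Ω} (hP : P ≤ S) (hN : normalizerIn S P = S) :
    F.IsFullyNormalized P :=
  ⟨hP, fun Q _ => by rw [hN]; exact Nat.card_le_card_of_injective _ (Subgroup.inclusion_injective normalizerIn_le)⟩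

omit hp [Finite S] in
/-- An automorphism of a subgroup equal to `S`, as one of `S`. -/
theorem exists_aut_top {N : Subgroup Ω} (e : N = S) {β : MulAut N} (hβ : β ∈ F.autGroup N) :
    ∃ ψ ∈ F.autGroup S, ∀ (x : N) (u : S), (u : Ω) = x → ((ψ u : S) : Ω) = ((β x : N) : Ω) := by
  subst e
  exact ⟨β, hβ, fun x u h => by rw [Subtype.ext h]⟩

/-- The possible shapes of an essential subgroup. -/
def Shape (p : ℕ) (E : Subgroup Ω) : Prop :=
  ((Nat.card E = p ^ 2 ∨ Nat.card E = p ^ 3) ∧ IsElementaryAbelian p E) ∨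
  (Nat.card E = p ^ 3 ∧ ¬ IsMulCommutative E ∧ Nat.card (Subgroup.center E) = p ∧
    Nat.card (commutator E) = p ∧ commutator E ≤ Subgroup.center E) ∨
  (Nat.card E = p ^ 4 ∧ ¬ IsMulCommutative E ∧ Nat.card (Subgroup.center E) = p ^ 2 ∧
    Nat.card (commutator E) = p ∧ commutator E ≤ Subgroup.center E)

theorem shape_of_essential (hS : IsPGroup p S) (hF : F.IsSaturated p) (hp2 : p ≠ 2)
    (hcard : Nat.card S = p ^ 5) (hna : NoAbel S p) {E : Subgroup Ω} (hE : F.IsEssential p E) : Shape p E := by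
  have hp' := hp.out
  have hES := hE.1.1
  have hlt := AbelianIndexP.lt_of_essential hS hF hE
  have : Finite E := finite_of_le hES
  have hC := IsCentric.centralizerIn_le' hE.1
  obtain ⟨k, hk, hk'⟩ := exists_pow_card hcard hES
  have hk5 : k ≠ 5 := by
    rintro rfl
    exact hlt.ne (eq_of_le_of_card_le hES (by rw [hk', hcard]))
  have hsub : ∀ a ∈ E, a ∈ zS S → E ≤ Subgroup.closure {a} → False := by
    intro a _ haZ hcl
    refine hlt.not_ge fun g hg => hC (mem_centralizerIn.mpr ⟨hg, fun x hx => ?_⟩)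
    obtain ⟨i, rfl⟩ := Subgroup.mem_closure_singleton.mp (hcl hx)
    exact (Commute.zpow_right ((mem_zS.mp haZ).2 g hg) i).eq.symm
  have hk2 : 2 ≤ k := by
    by_contra h2
    have hcyc : IsCyclic E := isCyclic_of_card_dvd_prime (p := p) (hk' ▸ (pow_dvd_pow p (show k ≤ 1 by omega)).trans (pow_one p).dvd)
    have : Nontrivial S := Finite.one_lt_card_iff_nontrivial.mp (hcard ▸ Nat.one_lt_pow (by norm_num) hp'.one_lt)
    obtain ⟨z, hz, hz1⟩ := (Subgroup.ne_bot_iff_exists_ne_one (H := Subgroup.center S)).mp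
      ((Subgroup.nontrivial_iff_ne_bot _).mp hS.center_nontrivial) |> fun ⟨⟨z, hz⟩, h⟩ => (⟨z, hz, fun e => h (Subtype.ext e)⟩ : ∃ z : S, z ∈ Subgroup.center S ∧ z ≠ 1)
    have hzZ : (z : Ω) ∈ zS S := ⟨z, hz, rfl⟩
    have hzE : (z : Ω) ∈ E := hC (mem_centralizerIn.mpr ⟨z.2, fun x hx => (mem_zS.mp hzZ).2 x (hES hx)⟩)
    refine hsub z hzE hzZ ?_
    rw [← Subgroup.zpowers_eq_closure]
    refine (eq_of_le_of_card_le (Subgroup.zpowers_le.mpr hzE) ?_).ge
    rw [Nat.card_zpowers, hk']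
    have h1 : orderOf (z : Ω) ≠ 1 := fun e => hz1 (Subtype.ext (orderOf_eq_one_iff.mp e))
    have h2 : orderOf (⟨z, hzE⟩ : E) ∣ p ^ k := hk' ▸ orderOf_dvd_natCard _
    rw [← Subgroup.orderOf_coe] at h2
    obtain ⟨j, hj, hj'⟩ := (Nat.dvd_prime_pow hp').mp h2
    rw [hj'] at h1 ⊢
    exact Nat.pow_le_pow_right hp'.pos (by
      rcases j with _ | j
      · exact absurd (pow_zero p) h1
      · omega)
  rcases (show k = 2 ∨ k = 3 ∨ k = 4 by omega) with rfl | rfl | rfl
  · exact Or.inl ⟨Or.inl hk', (Cfsg.Agent.S5185.result p hS F hF E hE hk').1⟩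
  · rcases Cfsg.Agent.S5186.result p hS F hF E hE hk' with h | ⟨-, h, -⟩ | ⟨h, -⟩
    · exact Or.inl ⟨Or.inr hk', h⟩
    · obtain ⟨⟨-, -, hDZ⟩, hZ⟩ := h
      refine Or.inr (Or.inl ⟨hk', fun hc => ?_, hZ, by rw [hDZ, hZ], hDZ.le⟩)
      have : Nat.card (Subgroup.center E) = p ^ 3 := by
        rw [Subgroup.center_eq_top_iff.mpr hc, Subgroup.card_top, hk']
      rw [hZ] at this
      have := Nat.pow_right_injective hp'.two_le ((pow_one p).trans this)
      omega
    · exact absurd h hp2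
  · have hnc : ¬ IsMulCommutative E := by
      intro hc
      refine false_of_comm hcard hna (E.subgroupOf S) (fun a ha b hb => ?_) ?_
      · exact Subtype.ext (show (a : Ω) * b = b * a from congrArg Subtype.val (hc.is_comm.comm (⟨a, ha⟩ : E) ⟨b, hb⟩))
      · rw [Nat.card_congr (Subgroup.subgroupOfEquivOfLe hES).toEquiv, hk']
    have hZ := CfsgLib.FusionFourth.card_center hk' hnc (CfsgLib.FusionFourth.noFlag_of_essential hS hE hk')
    have hQ : Nat.card (E ⧸ Subgroup.center E) = p ^ 2 := by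
      have := (Subgroup.center E).card_mul_index
      rw [hZ, hk', show p ^ 4 = p ^ 2 * p ^ 2 by ring] at this
      rw [← Subgroup.index_eq_card]
      exact Nat.eq_of_mul_eq_mul_left (pow_pos hp'.pos 2) this
    exact Or.inr (Or.inr ⟨hk', hnc, hZ, card_commutator_of_index_sq hQ hnc⟩)

/-- Some essential subgroup is elementary abelian of order `p²` or `p³`. -/
theorem exists_elementary (hS : IsPGroup p S) (hF : F.IsSaturated p) (hp2 : p ≠ 2)
    (hcard : Nat.card S = p ^ 5) (hna : NoAbel S p) (hcore : F.core = ⊥) :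
    ∃ E, F.IsEssential p E ∧ (Nat.card E = p ^ 2 ∨ Nat.card E = p ^ 3) ∧ IsElementaryAbelian p E := by
  by_contra! hno
  have hp' := hp.out
  have : Nontrivial S := Finite.one_lt_card_iff_nontrivial.mp (hcard ▸ Nat.one_lt_pow (by norm_num) hp'.one_lt)
  have hne : zS S ≠ ⊥ := fun e => (Subgroup.nontrivial_iff_ne_bot _).mp hS.center_nontrivial
    ((Subgroup.map_eq_bot_iff_of_injective _ S.subtype_injective).mp e)
  refine hne (Cfsg.Agent.S5265Aux.eq_bot_of_invariant hS hF hcore zS_le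
    (fun ψ _ x hx => Cfsg.Agent.S5265Aux.aut_zS ψ hx) fun E hE hlt => ?_)
  have hzE : zS S ≤ E := (Cfsg.Agent.S5265Aux.zS_lt hE hlt).le
  refine ⟨hzE, fun α hα x hx => ?_⟩
  have : Finite E := finite_of_le hE.1.1
  set Z := (zS S).subgroupOf E
  have hZc : Z ≤ Subgroup.center E := fun z hz => Subgroup.mem_center_iff.mpr fun g =>
    Subtype.ext ((mem_zS.mp hz).2 g (hE.1.1 g.2))
  have hZne : Z ≠ ⊥ := fun e => hne (by
    have := congrArg (Subgroup.map E.subtype) e
    rwa [Subgroup.map_subgroupOf_eq_of_le hzE, Subgroup.map_bot] at this)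
  suffices Z = Subgroup.center E ∨ Z = commutator E by
    rcases this with e | e
    · exact e.ge (CfsgLib.FusionFourth.inv_center α x (e.le hx))
    · exact e.ge (CfsgLib.FusionFourth.inv_commutator α x (e.le hx))
  rcases shape_of_essential hS hF hp2 hcard hna hE with ⟨h1, h2⟩ | ⟨-, -, hZ, -, -⟩ | ⟨hk, -, hZ, hD, -⟩
  · exact absurd h2 (hno E hE h1)
  · refine Or.inl (Subgroup.eq_of_le_of_card_ge hZc ?_)
    rcases hp'.eq_one_or_self_of_dvd _ (hZ ▸ Subgroup.card_dvd_of_le hZc) with h | h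
    · exact absurd (Subgroup.card_eq_one.mp h) hZne
    · rw [h, hZ]
  · obtain ⟨i, hi, hi'⟩ := (Nat.dvd_prime_pow hp').mp (hZ ▸ Subgroup.card_dvd_of_le hZc)
    rcases (show i = 0 ∨ i = 1 ∨ i = 2 by omega) with rfl | rfl | rfl
    · exact absurd (Subgroup.card_eq_one.mp (hi'.trans (pow_zero p))) hZne
    · refine Or.inr (Subgroup.eq_of_le_of_card_ge ?_ (by rw [hi', hD, pow_one])).symm
      set D := ((commutator E).map E.subtype).subgroupOf S
      have hDn : D.Normal := by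
        refine ⟨fun d hd s => ?_⟩
        obtain ⟨e, he, hed⟩ := hd
        have hsN := (normalizerIn_eq hS hcard hE.1.1 hk).ge s.2
        obtain ⟨a, -, ha⟩ := exists_autInducedBy (K := S) hsN.1 hsN.2
        exact ⟨a e, CfsgLib.FusionFourth.inv_commutator a e he, (ha e).trans (by
          rw [show (e : Ω) = (d : Ω) from hed]; rfl)⟩
      have hDc : Nat.card D = p := by
        rw [Nat.card_congr (Subgroup.subgroupOfEquivOfLe ((Subgroup.map_subtype_le _).trans hE.1.1)).toEquiv,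
          Subgroup.card_map_of_injective E.subtype_injective, hD]
      intro e he
      exact ⟨⟨e, hE.1.1 e.2⟩, CfsgLib.SoftSubgroup.le_center_of_card_eq hS D hDc ⟨e, he, rfl⟩, rfl⟩
    · exact Or.inl (Subgroup.eq_of_le_of_card_ge hZc (by rw [hi', hZ]))

/-- `f` is kept by `Aut_F(P)`. -/
def Kept (F : FusionSystem S) {M : Type*} [CommGroup M] (f : S →* M) (P : Subgroup Ω) : Prop :=
  ∀ α ∈ F.autGroup P, ∀ (x : P) (u v : S), (u : Ω) = x → (v : Ω) = ((α x : P) : Ω) → f v = f u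

variable {M : Type*} [CommGroup M] {f : S →* M}

omit hp [Finite S] in
theorem kept_top (h : ∀ ψ ∈ F.autGroup S, ∀ x, f (ψ x) = f x) : Kept F f S := by
  intro α hα x u v hu hv
  rw [Subtype.ext hu, Subtype.ext hv]
  exact h α hα x

/-- Maps of a subgroup which is not essential are controlled by its normalizer. -/
theorem kept_step (hS : IsPGroup p S) (hF : F.IsSaturated p) {P : Subgroup Ω} (hP : F.IsFullyNormalized P)
    (hlt : P < S) (hne : ¬ F.IsEssential p P) (hidx : Nat.card (normalizerIn S P) = p * Nat.card P)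
    (hN : Kept F f (normalizerIn S P)) : Kept F f P := by
  intro α hα x u v hu hv
  obtain ⟨β, hβ, hβe⟩ := CfsgLib.FusionTorus.exists_extend_step hS hF hP hlt hne hidx hα
  exact hN β hβ ⟨x, le_normalizerIn hP.1 x.2⟩ u v hu (hv.trans (hβe x).symm)

/-- An essential subgroup whose commutators with its normalizer lie in a small subgroup killed by `f`. -/
theorem kept_ess (hS : IsPGroup p S) (hF : F.IsSaturated p) (hp2 : p ≠ 2) {E : Subgroup Ω}
    (hE : F.IsEssential p E) (hidx : Nat.card (normalizerIn S E) = p * Nat.card E)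
    (hcls : commutator E ≤ Subgroup.center E) (J : Subgroup S) (hJf : ∀ u ∈ J, f u = 1)
    (hJ : ∀ n ∈ normalizerIn S E, ∀ x ∈ E, ∀ u : S, (u : Ω) = ⁅n, x⁆ → u ∈ J)
    (hJc : Nat.card J ≤ p * Nat.card (commutator E))
    (hN : Kept F f (normalizerIn S E)) : Kept F f E := by
  have hp' := hp.out
  have hES := hE.1.1
  have : Finite E := finite_of_le hES
  have : Finite (normalizerIn S E) := finite_of_le normalizerIn_le
  let ι : E →* S := Subgroup.inclusion hES
  set J' := J.comap ι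
  have hD : commutator E ≤ J' := by
    rw [commutator_def, Subgroup.commutator_le]
    intro a _ b _
    exact hJ a (le_normalizerIn hES a.2) b b.2 _ rfl
  obtain ⟨g, hg, hgE⟩ : ∃ g ∈ normalizerIn S E, g ∉ E := SetLike.exists_of_lt (lt_of_le_of_ne
    (le_normalizerIn hES) fun e => by
      rw [← e] at hidx
      nlinarith [hp'.two_le, Nat.card_pos (α := E)])
  set T := J'.map (Abelianization.of : E →* Abelianization E)
  have : Finite (Abelianization E) := Finite.of_surjective _ (CfsgLib.FusionTorus.of_surjective E)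
  have hT : Nat.card T ≤ p := by
    have h1 := AbelianIndexP.card_split (Abelianization.of : E →* Abelianization E) J'
    rw [Abelianization.ker_of, inf_eq_right.mpr hD] at h1
    have h2 : Nat.card J' ≤ Nat.card J := Nat.card_le_card_of_injective
      (fun x : J' => (⟨ι x, x.2⟩ : J)) fun a b h => Subtype.ext (Subgroup.inclusion_injective hES
        (congrArg Subtype.val h))
    rw [h1] at h2
    exact Nat.le_of_mul_le_mul_left ((h2.trans hJc).trans (le_of_eq (mul_comm _ _))) Nat.card_pos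
  obtain ⟨i, hi⟩ := (((hS.to_le hES).of_surjective _ (CfsgLib.FusionTorus.of_surjective E)).to_subgroup T).exists_card_eq
  have hi1 : i ≤ 1 := by
    rw [hi] at hT
    exact (Nat.pow_le_pow_iff_right hp'.one_lt).mp (hT.trans (pow_one p).ge)
  have hdvd : Nat.card T ∣ p := hi ▸ (pow_dvd_pow p hi1).trans (pow_one p).dvd
  obtain ⟨⟨q, hq⟩, hgen⟩ := (isCyclic_of_card_dvd_prime (p := p) hdvd).exists_generator
  obtain ⟨c, hc, hcq⟩ := hq
  have hEss : CfsgLib.FusionTorus.EssTrans F p E g c := by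
    refine ⟨hE, hidx, hg, hgE, hcls, ?_, fun x y hy => ?_⟩
    · rw [hcq]
      have := congrArg Subtype.val (orderOf_dvd_iff_pow_eq_one.mp
        ((orderOf_dvd_natCard (⟨q, c, hc, hcq⟩ : T)).trans hdvd))
      exact this
    · have hmem : x⁻¹ * y ∈ J' := by
        have h1 : ⁅g, ((x⁻¹ : E) : Ω)⁆⁻¹ = ((x⁻¹ * y : E) : Ω) := by
          rw [Subgroup.coe_inv, Subgroup.coe_mul, Subgroup.coe_inv, hy, commutatorElement_def]; group
        have h2 := hJ g hg _ (x⁻¹).2 ((ι (x⁻¹ * y))⁻¹) (by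
          rw [Subgroup.coe_inv]; show ((x⁻¹ * y : E) : Ω)⁻¹ = _; rw [← h1, inv_inv])
        exact J.inv_mem_iff.mp h2
      obtain ⟨k, hk⟩ := Subgroup.mem_zpowers_iff.mp (hgen ⟨_, Subgroup.mem_map_of_mem _ hmem⟩)
      exact Subgroup.mem_zpowers_iff.mpr ⟨k, by rw [hcq]; exact congrArg Subtype.val hk⟩
  intro α hα x u v hu hv
  have key := hEss.invariant hS hF hp2 (f.comp ι) (hJf _ hc) (fun β hβ hn y => by
    obtain ⟨γ, hγ, hγe⟩ := CfsgLib.FusionTorus.exists_extend_normalizing hS hF hE.2.1 hβ hn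
    exact hN γ hγ ⟨y, le_normalizerIn hES y.2⟩ (ι y) (ι (β y)) rfl (hγe y).symm) α hα x
  rw [show v = ι (α x) from Subtype.ext hv, show u = ι x from Subtype.ext hu]
  exact key

/-- An automorphism of `N_S(A)` keeps the subgroup `W` normal in `S` on the line missing `A`. -/
theorem line_inv {A : Subgroup Ω} (hA : F.IsFullyNormalized A)
    (hlt : Nat.card (normalizerIn S A) < Nat.card S) {B W : Subgroup S} [B.Normal] (hWn : W.Normal)
    {y n g : S} (hW : W = B ⊔ Subgroup.zpowers g) (hWc : Nat.card W = Nat.card A)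
    (hBA : ∀ x ∈ B, (x : Ω) ∈ A) (hy : (y : Ω) ∈ A) (hyp : y ^ p = 1) (hn : ⁅n, y⁆ = g)
    (hgy : ⁅g, y⁆ ∈ B) (hgn : ⁅n, g⁆ ∈ B) (hgp : g ^ p ∈ B) (hgN : (g : Ω) ∈ normalizerIn S A)
    (hdec : ∀ m : S, (m : Ω) ∈ normalizerIn S A → ∃ i j : ℤ, ∃ x ∈ B, m = y ^ i * g ^ j * x)
    {α : MulAut (normalizerIn S A)} (hα : α ∈ F.autGroup (normalizerIn S A))
    (hαB : ∀ u, Subgroup.inclusion (normalizerIn_le (S := S) (P := A)) u ∈ B →
      Subgroup.inclusion normalizerIn_le (α u) ∈ B) :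
    ∀ u, Subgroup.inclusion (normalizerIn_le (S := S) (P := A)) u ∈ W →
      Subgroup.inclusion normalizerIn_le (α u) ∈ W := by
  let N := normalizerIn S A
  have hNS : N ≤ S := normalizerIn_le
  let ι : N →* S := Subgroup.inclusion hNS
  let a : N →* S := ι.comp α.toMonoidHom
  have hAN : A ≤ N := le_normalizerIn hA.1
  have hBW : B ≤ W := hW ▸ le_sup_left
  let gN : N := ⟨g, hgN⟩
  have hdecW : ∀ u : N, ι u ∈ W → ∃ (x : N) (k : ℤ), ι x ∈ B ∧ u = x * gN ^ k := by
    intro u hu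
    rw [hW] at hu
    obtain ⟨x, hx, v, hv, e⟩ := Subgroup.mem_sup_of_normal_left.mp hu
    obtain ⟨k, rfl⟩ := Subgroup.mem_zpowers_iff.mp hv
    exact ⟨⟨x, hAN (hBA x hx)⟩, k, hx, Subtype.ext (congrArg (Subtype.val : S → Ω) e.symm)⟩
  suffices hg : a gN ∈ W by
    intro u hu
    obtain ⟨x, k, hx, rfl⟩ := hdecW u hu
    show a (x * gN ^ k) ∈ W
    rw [map_mul, map_zpow]
    exact mul_mem (hBW (hαB x hx)) (zpow_mem hg k)
  obtain ⟨i, j, x, hx, e⟩ := hdec (a gN) (α gN).2
  by_cases hi : (i : ZMod p) = 0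
  · rw [e, zpow_eq_one_of_zmod hyp hi, one_mul]
    exact mul_mem (zpow_mem (hW.ge (Subgroup.mem_sup_right (Subgroup.mem_zpowers g))) j) (hBW hx)
  exfalso
  set d : ℤ := (((i : ZMod p)⁻¹).val : ℤ)
  have hdi : ((d * i : ℤ) : ZMod p) = 1 := by
    push_cast [d]
    rw [ZMod.natCast_zmod_val, inv_mul_cancel₀ hi]
  set k : ℤ := j * d
  let π := QuotientGroup.mk' B
  have hxπ : π x = 1 := (QuotientGroup.eq_one_iff _).mpr hx
  have hgy' : Commute (π g) (π y) := by
    rw [← commutatorElement_eq_one_iff_commute, ← map_commutatorElement]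
    exact (QuotientGroup.eq_one_iff _).mpr hgy
  have hgn' : Commute (π g) (π n) := by
    refine (show Commute (π n) (π g) from ?_).symm
    rw [← commutatorElement_eq_one_iff_commute, ← map_commutatorElement]
    exact (QuotientGroup.eq_one_iff _).mpr hgn
  have hyd : π y ^ (i * d) = π y := by
    rw [← map_zpow, zpow_eq_of_zmod hyp (j := 1) (by rw [mul_comm, hdi, Int.cast_one]), zpow_one]
  have hconj : π (n ^ k * y * (n ^ k)⁻¹) = π g ^ k * π y := by
    have h1 : ⁅π n, π y⁆ = π g := by rw [← map_commutatorElement, hn]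
    have h2 : ⁅π n ^ k, π y ^ (1 : ℤ)⁆ = π g ^ (k * 1) := by
      rw [comm_zpow_zpow (h1 ▸ hgn'.symm) (h1 ▸ hgy'.symm), h1]
    rw [zpow_one, mul_one, commutatorElement_def] at h2
    rw [map_mul, map_mul, map_inv, map_zpow, ← h2, inv_mul_cancel_right]
  have hval : π (a (gN ^ d)) = π (n ^ k * y * (n ^ k)⁻¹) := by
    rw [hconj, map_zpow, map_zpow, show a gN = y ^ i * g ^ j * x from e, map_mul, map_mul, map_zpow, map_zpow,
      hxπ, mul_one, (hgy'.symm.zpow_zpow i j).mul_zpow, ← zpow_mul, ← zpow_mul, hyd,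
      (hgy'.zpow_left _).eq]
  set W₀ := W.map S.subtype
  have hW0N : W₀ ≤ N := by
    rintro _ ⟨w, hw, rfl⟩
    rw [SetLike.mem_coe, hW] at hw
    obtain ⟨x, hx, v, hv, rfl⟩ := Subgroup.mem_sup_of_normal_left.mp hw
    obtain ⟨k, rfl⟩ := Subgroup.mem_zpowers_iff.mp hv
    exact N.mul_mem (hAN (hBA x hx)) (N.zpow_mem hgN k)
  obtain ⟨φ₀, hφ₀, -, hφ₀e⟩ := exists_map_of_mem_autGroup hNS hα
  obtain ⟨φ, hφ, hφe⟩ := exists_conj_comp (restrict_mem hW0N hφ₀) (S.inv_mem (n ^ k).2)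
  let cj : N →* S := (MulAut.conj (n ^ k)⁻¹).toMonoidHom.comp a
  have hφcj : ∀ w : W₀, φ w = (cj (Subgroup.inclusion hW0N w) : Ω) := fun w => by
    rw [hφe, MonoidHom.comp_apply, hφ₀e]; rfl
  let A' := A.subgroupOf S
  have hBA' : B ≤ A' := hBA
  have hcg : cj (gN ^ d) ∈ A' := by
    have h1 : π ((n ^ k * y * (n ^ k)⁻¹)⁻¹ * a (gN ^ d)) = 1 := by
      rw [map_mul, map_inv, hval, inv_mul_cancel]
    have h2 := (inferInstance : B.Normal).conj_mem _ ((QuotientGroup.eq_one_iff _).mp h1) (n ^ k)⁻¹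
    have h3 : cj (gN ^ d) = y * ((n ^ k)⁻¹ * ((n ^ k * y * (n ^ k)⁻¹)⁻¹ * a (gN ^ d)) * (n ^ k)⁻¹⁻¹) := by
      show (n ^ k)⁻¹ * a (gN ^ d) * (n ^ k)⁻¹⁻¹ = _
      group
    rw [h3]
    exact mul_mem hy (hBA' h2)
  have hrA : φ.range ≤ A := by
    rintro _ ⟨w, rfl⟩
    rw [hφcj]
    have hwW : ι (Subgroup.inclusion hW0N w) ∈ W := by
      obtain ⟨v, hv, hvw⟩ := w.2
      rwa [show ι (Subgroup.inclusion hW0N w) = v from Subtype.ext hvw.symm]
    obtain ⟨x', k', hx', e'⟩ := hdecW _ hwW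
    obtain ⟨t, ht⟩ : ∃ t : ℤ, k' = d * i * k' + (p : ℤ) * t := by
      have h4 : ((k' - d * i * k' : ℤ) : ZMod p) = 0 := by push_cast at hdi ⊢; rw [hdi]; ring
      obtain ⟨t, ht⟩ := (ZMod.intCast_zmod_eq_zero_iff_dvd _ p).mp h4
      exact ⟨t, by linarith⟩
    have h5 : cj (Subgroup.inclusion hW0N w) = cj x' * (cj (gN ^ d) ^ (i * k') * cj (gN ^ p) ^ t) := by
      rw [← map_zpow, ← map_zpow, ← map_mul, ← map_mul, e', ← zpow_natCast gN p, ← zpow_mul, ← zpow_mul,
        ← zpow_add]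
      congr 3
      rw [← mul_assoc]; exact ht
    have h6 : ∀ z : N, ι z ∈ B → cj z ∈ A' := fun z hz =>
      hBA' ((inferInstance : B.Normal).conj_mem _ (hαB z hz) _)
    show cj _ ∈ A'
    rw [h5]
    exact mul_mem (h6 x' hx') (mul_mem (zpow_mem hcg _) (zpow_mem (h6 _ (by rw [map_pow]; exact hgp)) t))
  have : Finite A := finite_of_le hA.1
  have hr : φ.range = A := eq_of_le_of_card_le hrA (by
    rw [card_range hφ, Subgroup.card_map_of_injective S.subtype_injective, hWc])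
  have hle := hA.2 W₀ (isConj_symm ⟨φ, hφ, hr⟩)
  have htop : normalizerIn S W₀ = S := by
    have : Finite W₀ := finite_of_le (Subgroup.map_subtype_le _)
    refine le_antisymm normalizerIn_le fun s hs => ⟨hs, mem_normalizer_of_forall ?_⟩
    rintro _ ⟨w, hw, rfl⟩
    exact ⟨_, hWn.conj_mem w hw ⟨s, hs⟩, rfl⟩
  rw [htop] at hle
  exact absurd hle (not_le.mpr hlt)

end CfsgLib.FusionFifth
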