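import Cfsg.Agent.Lib.Fusion.CubeEmbedded
import Cfsg.Agent.Lib.Fusion.Pearl
import Cfsg.Agent.Lib.Fusion.OrderFifthInvariant

/-!
An elementary abelian essential subgroup of order `p³` in a group of order `p⁵` without abelian subgroup of
index `p` forbids `O^p(F) = F`.
-/

set_option autoImplicit false

namespace CfsgLib.FusionFifth

theorem sq_eq_one_of_three : ∀ a : ZMod 3, a ≠ 0 → a ^ 2 = 1 := by decide

open Cfsg Cfsg.FusionSystem CfsgLib.Fusion
open scoped commutatorElement

variable {Ω : Type*} [Group Ω] {S : Subgroup Ω} [Finite S] {p : ℕ} [hp : Fact p.Prime] {F : FusionSystem S}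

omit hp [Finite S] in
theorem card_comap_eq {X Y : Type*} [Group X] [Group Y] {f : X →* Y} (hf : Function.Injective f) {L : Subgroup Y}
    (hL : L ≤ f.range) : Nat.card (L.comap f) = Nat.card L := by
  rw [← Subgroup.card_map_of_injective (K := L.comap f) hf, Subgroup.map_comap_eq_self hL]

/-- The normalizer of such a subgroup has order `p⁴`. -/
theorem cube_setup (hS : IsPGroup p S) (hF : F.IsSaturated p) (hcard : Nat.card S = p ^ 5) {A : Subgroup Ω}
    (hA : F.IsEssential p A) (hcA : Nat.card A = p ^ 3) (hel : IsElementaryAbelian p A) :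
    Nat.card (normalizerIn S A) = p ^ 4 ∧
      (∀ s : S, (∀ a ∈ A.subgroupOf S, s * a * s⁻¹ ∈ A.subgroupOf S) → (s : Ω) ∈ normalizerIn S A) ∧
      (∀ g : S, (∀ a ∈ A.subgroupOf S, Commute g a) → (g : Ω) ∈ A) ∧
      ∃ R B : Subgroup S, CubeData p (A.subgroupOf S) ((normalizerIn S A).subgroupOf S) R B := by
  have hp' := hp.out
  have hAS := hA.1.1
  have : Finite A := finite_of_le hAS
  have : Finite (normalizerIn S A) := finite_of_le normalizerIn_le
  have hC := IsCentric.centralizerIn_le' hA.1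
  have hcomm : ∀ a ∈ A, ∀ b ∈ A, a * b = b * a := fun a ha b hb =>
    congrArg Subtype.val (hel.1.is_comm.comm (⟨a, ha⟩ : A) ⟨b, hb⟩)
  have hlt := card_lt_normalizerIn hS (lt_of_card hcard hAS hcA (by omega))
  obtain ⟨i, hi, hi'⟩ := exists_pow_card hcard (normalizerIn_le (S := S) (P := A))
  have hN : Nat.card (normalizerIn S A) = p ^ 4 := by
    rw [hcA, hi', Nat.pow_lt_pow_iff_right hp'.one_lt] at hlt
    rcases (show i = 4 ∨ i = 5 by omega) with rfl | rfl
    · exact hi'
    exfalso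
    have hCS : centralizerIn S A = A := le_antisymm hC fun a ha =>
      mem_centralizerIn.mpr ⟨hAS ha, fun x hx => hcomm x hx a ha⟩
    have hQ : Nat.card (autInducedBy S A) = p ^ 2 := by
      have h := card_normalizerIn S A
      rw [hCS, hcA, hi', show p ^ 5 = p ^ 3 * p ^ 2 by ring] at h
      exact (Nat.eq_of_mul_eq_mul_left (pow_pos hp'.pos 3) h).symm
    let cg : CommGroup A := { (inferInstance : Group A) with mul_comm := fun a b => Subtype.ext (hcomm a a.2 b b.2) }
    obtain ⟨-, hn, hN', E₀, hE₀⟩ := hA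
    have : Finite (MulAut A) := finite_mulAut hAS
    set I := (Inn A).subgroupOf (F.autGroup A)
    have hI : I = ⊥ := by
      rw [eq_bot_iff]
      intro a ha
      obtain ⟨z, hz⟩ := mem_inn.mp (Subgroup.mem_subgroupOf.mp ha)
      refine Subgroup.mem_bot.mpr (Subtype.ext (MulEquiv.ext fun x => Subtype.ext ?_))
      rw [hz]
      show (z : Ω) * x * (z : Ω)⁻¹ = x
      rw [hcomm z z.2 x x.2, mul_inv_cancel_right]
    obtain ⟨T, hT⟩ := sylow_out (p := p) (fullyNormalized_good hS hF hn).1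
    have hTc : Nat.card T.toSubgroup = p ^ 2 := by
      rw [hT, Subgroup.card_map_of_injective (by
        rw [← MonoidHom.ker_eq_bot_iff, QuotientGroup.ker_mk']; exact hI),
        Nat.card_congr (Subgroup.subgroupOfEquivOfLe (autInducedBy_le_autGroup hAS)).toEquiv, hQ]
    refine CfsgLib.FusionCube.false_of_sq hcA
      (QuotientGroup.lift I (F.autGroup A).subtype (hI.le.trans bot_le)) ?_ hE₀ T.toSubgroup hTc
      fun R hR hTR => T.is_maximal' hR hTR
    rw [injective_iff_map_eq_one]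
    intro q hq
    obtain ⟨a, rfl⟩ := QuotientGroup.mk'_surjective I q
    rw [show a = 1 from Subtype.ext hq, map_one]
  refine ⟨hN, fun s hs => ⟨s.2, mem_normalizer_of_forall fun a ha => hs ⟨a, hAS ha⟩ ha⟩,
    fun g hg => hC (mem_centralizerIn.mpr ⟨g.2, fun x hx =>
      (congrArg Subtype.val (hg ⟨x, hAS hx⟩ hx).eq).symm⟩), ?_⟩
  refine exists_cubeData hcard (fun a ha => le_normalizerIn hAS ha) ?_ ?_
    (fun a ha => Subtype.ext (hel.2 a ha)) (fun a ha b hb => Subtype.ext (hcomm a ha b hb))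
    (fun g hg => hC (mem_centralizerIn.mpr ⟨g.2, fun x hx =>
      (congrArg Subtype.val (hg ⟨x, hAS hx⟩ hx).eq).symm⟩))
    (fun s hs => ⟨s.2, mem_normalizer_of_forall fun a ha => hs ⟨a, hAS ha⟩ ha⟩)
    fun m hm a ha => (Subgroup.mem_normalizer_iff.mp hm.2 a).mp ha
  · rw [Nat.card_congr (Subgroup.subgroupOfEquivOfLe hAS).toEquiv, hcA]
  · rw [Nat.card_congr (Subgroup.subgroupOfEquivOfLe normalizerIn_le).toEquiv, hN]

variable {M : Type*} [CommGroup M] {f : S →* M}

theorem kept_four (hS : IsPGroup p S) (hF : F.IsSaturated p) (hp2 : p ≠ 2) (hcard : Nat.card S = p ^ 5)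
    (hna : NoAbel S p) (hD : Nat.card (commutator S) ≤ p ^ 2) (hf : Kept F f S) {E : Subgroup Ω} (hES : E ≤ S)
    (hE : Nat.card E = p ^ 4) : Kept F f E := by
  have hN := normalizerIn_eq hS hcard hES hE
  have hidx : Nat.card (normalizerIn S E) = p * Nat.card E := by rw [hN, hcard, hE, pow_succ']
  by_cases hess : F.IsEssential p E
  · rcases shape_of_essential hS hF hp2 hcard hna hess with ⟨h | h, -⟩ | ⟨h, -⟩ | ⟨-, -, -, hc, hcl⟩
    · rw [hE] at h; exact absurd (Nat.pow_right_injective hp.out.two_le h) (by omega)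
    · rw [hE] at h; exact absurd (Nat.pow_right_injective hp.out.two_le h) (by omega)
    · rw [hE] at h; exact absurd (Nat.pow_right_injective hp.out.two_le h) (by omega)
    refine kept_ess hS hF hp2 hess hidx hcl (commutator S)
      (fun u hu => MonoidHom.mem_ker.mp (Abelianization.commutator_subset_ker f hu)) (fun n hn x hx u hu => ?_)
      (by rw [hc, ← pow_two]; exact hD) (by rw [hN]; exact hf)
    rw [show u = ⁅(⟨n, hn.1⟩ : S), ⟨x, hES hx⟩⁆ from Subtype.ext hu]
    exact Subgroup.commutator_mem_commutator (Subgroup.mem_top _) (Subgroup.mem_top _)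
  · exact kept_step hS hF (fullyNormalized_of_normal hES hN) (lt_of_card hcard hES hE (by omega)) hess hidx
      (by rw [hN]; exact hf)

theorem false_of_cube (hS : IsPGroup p S) (hF : F.IsSaturated p) (hp2 : p ≠ 2) (hcard : Nat.card S = p ^ 5)
    (hna : NoAbel S p) (hhyp : F.hyperfocalSubgroup p = S) {A : Subgroup Ω} (hA : F.IsEssential p A)
    (hcA : Nat.card A = p ^ 3) (hel : IsElementaryAbelian p A) : False := by
  have hp' := hp.out
  have hAS := hA.1.1
  have : Finite A := finite_of_le hAS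
  have : Finite (normalizerIn S A) := finite_of_le normalizerIn_le
  obtain ⟨hN, hnorm, hCA, R, B, h⟩ := cube_setup hS hF hcard hA hcA hel
  have hNS : normalizerIn S A ≤ S := normalizerIn_le
  have hBn := h.Bn
  have hRn := h.Rn
  obtain ⟨g₀, hg₀, hg₀A⟩ : ∃ g ∈ normalizerIn S A, g ∉ A := SetLike.exists_of_lt (lt_of_le_of_ne
    (le_normalizerIn hAS) fun e => by
      rw [← e, hcA] at hN
      have := Nat.pow_right_injective hp'.two_le hN
      omega)
  obtain ⟨c₀, hc₀, hc₀1⟩ : ∃ c₀ ∈ R, c₀ ≠ 1 := by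
    by_contra! hall
    exact hp'.ne_one (h.cardR.symm.trans (Subgroup.card_eq_one.mpr ((Subgroup.eq_bot_iff_forall _).mpr hall)))
  have hRp : ∀ r ∈ R, r ^ p = 1 := fun r hr => h.expA r (h.BA (h.RB hr))
  have hRgen : ∀ c ∈ R, c ≠ 1 → R = Subgroup.zpowers c := fun c hc hc1 =>
    (Subgroup.eq_of_le_of_card_ge (Subgroup.zpowers_le.mpr hc) (by
      rw [h.cardR, Nat.card_zpowers, orderOf_eq_prime (hRp c hc) hc1])).symm
  let c₀A : A := ⟨c₀, h.BA (h.RB hc₀)⟩
  have hidx : Nat.card (normalizerIn S A) = p * Nat.card A := by rw [hN, hcA, pow_succ']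
  have hEss : CfsgLib.FusionTorus.EssTrans F p A g₀ c₀A := by
    refine ⟨hA, hidx, hg₀, hg₀A, ?_, ?_, fun x y hy => ?_⟩
    · rw [commutator_def, Subgroup.commutator_le]
      intro a _ b _
      rw [commutatorElement_eq_one_iff_mul_comm.mpr (hel.1.is_comm.comm a b)]
      exact one_mem _
    · rw [← map_pow, show c₀A ^ p = 1 from Subtype.ext (hel.2 _ c₀A.2), map_one]
    · have hr : (⁅(⟨g₀, hg₀.1⟩ : S), (⟨x, hAS x.2⟩ : S)⁻¹⁆)⁻¹ ∈ R :=
        inv_mem (h.commM _ hg₀ _ (inv_mem (h.AM x.2)))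
      rw [hRgen c₀ hc₀ hc₀1] at hr
      obtain ⟨k, hk⟩ := Subgroup.mem_zpowers_iff.mp hr
      refine Subgroup.mem_zpowers_iff.mpr ⟨k, ?_⟩
      rw [← map_zpow]
      refine congrArg _ (Subtype.ext ?_)
      have hk' := congrArg (Subtype.val : S → Ω) hk
      simp only [Subgroup.coe_zpow, Subgroup.coe_inv, commutatorElement_def, Subgroup.coe_mul] at hk'
      rw [Subgroup.coe_zpow, Subgroup.coe_mul, Subgroup.coe_inv, hy]
      show (c₀ : Ω) ^ k = _
      rw [hk']
      group
  obtain ⟨yA, hyne, hyp', -, -, htor⟩ := hEss.exists_torus hS hF fun a b => hel.1.is_comm.comm a b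
  let y : S := ⟨yA, hAS yA.2⟩
  have hyA : y ∈ A.subgroupOf S := yA.2
  have hyp : y ^ p = 1 := Subtype.ext (hel.2 _ yA.2)
  have hyB : y ∉ B := fun hy => hyne (by
    have := congrArg (Subtype.val : S → Ω) (h.BM y hy ⟨g₀, hg₀.1⟩ hg₀).eq
    simp only [Subgroup.coe_mul] at this
    rw [show g₀ * (yA : Ω) = yA * g₀ from this, mul_inv_cancel_right])
  obtain ⟨b₀, hb₀⟩ : ∃ b : S, b ∉ (normalizerIn S A).subgroupOf S := by
    by_contra! hall
    have := Subgroup.card_le_of_le (show (⊤ : Subgroup S) ≤ _ from fun s _ => hall s)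
    rw [Subgroup.card_top, h.cardM, hcard, Nat.pow_le_pow_iff_right hp'.one_lt] at this
    omega
  set M' := (normalizerIn S A).subgroupOf S with hM'
  have hMn := h.Mn
  obtain ⟨hgM, hgA, hgy1, hdB, hgpB, hWn, hWc, hyW, hdec⟩ := h.step hcard hnorm (y := y) yA.2 hyB hb₀
  set g := ⁅b₀, y⁆ with hgdef
  set W := B ⊔ Subgroup.zpowers g with hW
  have hgB : g ∉ B := fun e => hgA (h.BA e)
  set c := ⁅g, y⁆ with hcdef
  have hcR : c ∈ R := h.commM g hgM y (h.AM hyA)
  have hcp : c ^ p = 1 := hRp c hcR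
  have hRc : R = Subgroup.zpowers c := hRgen c hcR hgy1
  -- `N_S(A)` is not essential
  let ι : normalizerIn S A →* S := Subgroup.inclusion hNS
  have hιr : M' ≤ ι.range := fun u hu => ⟨⟨u, hu⟩, rfl⟩
  have hι : Function.Injective ι := Subgroup.inclusion_injective _
  have hMne : ¬ F.IsEssential p (normalizerIn S A) := by
    intro hess
    let L : ℕ → Subgroup (normalizerIn S A) := fun i =>
      match i with
      | 0 => ⊥
      | 1 => R.comap ι
      | 2 => B.comap ι
      | 3 => W.comap ι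
      | _ => ⊤
    have hRi : ∀ α ∈ F.autGroup (normalizerIn S A), ∀ u, ι u ∈ R → ι (α u) ∈ R := by
      intro α _ u hu
      rw [hRc] at hu
      obtain ⟨k, hk⟩ := Subgroup.mem_zpowers_iff.mp hu
      have hu' : u = ⁅(⟨g, hgM⟩ : normalizerIn S A), ⟨(y : Ω), le_normalizerIn hAS yA.2⟩⁆ ^ k :=
        hι (by rw [map_zpow, map_commutatorElement]; exact hk.symm)
      rw [hu', map_zpow, map_commutatorElement, map_zpow, map_commutatorElement]
      exact zpow_mem (h.commM _ (α _).2 _ (α _).2) k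
    have hBi : ∀ α ∈ F.autGroup (normalizerIn S A), ∀ u, ι u ∈ B → ι (α u) ∈ B := by
      intro α _ u hu
      have hcen : ∀ v, Commute (ι v) (ι (α u)) := fun v => by
        obtain ⟨v, rfl⟩ := α.surjective v
        have := h.BM _ hu (ι v) v.2
        have h2 : Commute v u := hι (by rw [map_mul, map_mul]; exact this.eq)
        exact (h2.map α.toMonoidHom).map ι
      refine h.memB _ (hCA _ fun a ha => ?_) g hgM hgA (hcen ⟨g, hgM⟩)
      exact (hcen ⟨a, h.AM ha⟩).symm
    have hRB' : R ≤ M' := h.RB.trans (h.BA.trans h.AM)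
    have hBM' : B ≤ M' := h.BA.trans h.AM
    have hWM' : W ≤ M' := sup_le hBM' (Subgroup.zpowers_le.mpr hgM)
    refine CfsgLib.FusionTorus.not_flag' hS hess 4 L rfl rfl ?_ ?_ ?_
    · intro i hi α hα u hu
      interval_cases i
      · exact (Subgroup.mem_bot.mpr (by rw [Subgroup.mem_bot.mp hu, map_one]) : α u ∈ (⊥ : Subgroup _))
      · exact hRi α hα u hu
      · exact hBi α hα u hu
      · refine line_inv hA.2.1 ?_ hWn (y := y) (n := b₀) (g := g) hW ?_ (fun x hx => h.BA hx) yA.2 hyp rfl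
          (h.RB hcR) hdB hgpB hgM (fun m hm => hdec m hm) hα (hBi α hα) u hu
        · rw [hN, hcard]; exact Nat.pow_lt_pow_right hp'.one_lt (by norm_num)
        · rw [hWc, hcA]
      · exact Subgroup.mem_top _
    · intro i hi
      interval_cases i
      · exact bot_le
      · exact Subgroup.comap_mono h.RB
      · exact Subgroup.comap_mono le_sup_left
      · exact le_top
    · intro i hi
      interval_cases i
      · show Nat.card (R.comap ι) = p * Nat.card (⊥ : Subgroup _)
        rw [card_comap_eq hι (hRB'.trans hιr), Subgroup.card_bot, mul_one, h.cardR]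
      · show Nat.card (B.comap ι) = p * Nat.card (R.comap ι)
        rw [card_comap_eq hι (hRB'.trans hιr), card_comap_eq hι (hBM'.trans hιr), h.cardR, h.cardB, pow_two]
      · show Nat.card (W.comap ι) = p * Nat.card (B.comap ι)
        rw [card_comap_eq hι (hWM'.trans hιr), card_comap_eq hι (hBM'.trans hιr), hWc, h.cardB, pow_succ']
      · show Nat.card (⊤ : Subgroup (normalizerIn S A)) = p * Nat.card (W.comap ι)
        rw [card_comap_eq hι (hWM'.trans hιr), Subgroup.card_top, hN, hWc, pow_succ']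
  -- the torus on `S`
  have hNN : normalizerIn S (normalizerIn S A) = S := normalizerIn_eq hS hcard hNS hN
  have hidxN : Nat.card (normalizerIn S (normalizerIn S A)) = p * Nat.card (normalizerIn S A) := by
    rw [hNN, hN, hcard, pow_succ']
  have hψ : ∀ t t' : ℕ, ((t * t' : ℕ) : ZMod p) = 1 → ∃ ψ ∈ F.autGroup S, ψ y = y ^ t' ∧ ψ c = c ^ t ∧
      (∀ u ∈ M', ψ u ∈ M') ∧ ∀ x ∈ B, x⁻¹ * ψ x ∈ R := by
    intro t t' htt
    obtain ⟨α, hα, hnα, hαc, hαy, hαfix⟩ := htor t t' htt
    obtain ⟨β, hβ, hβe⟩ := CfsgLib.FusionTorus.exists_extend_normalizing hS hF hA.2.1 hα hnα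
    obtain ⟨γ, hγ, hγe⟩ := CfsgLib.FusionTorus.exists_extend_step hS hF (fullyNormalized_of_normal hNS hNN)
      (lt_of_card hcard hNS hN (by omega)) hMne hidxN hβ
    obtain ⟨ψ, hψ, hψe⟩ := exists_aut_top hNN hγ
    have hval : ∀ (u : S) (hu : (u : Ω) ∈ normalizerIn S A), ((ψ u : S) : Ω) = (β ⟨u, hu⟩ : normalizerIn S A) :=
      fun u hu => (hψe ⟨u, le_normalizerIn hNS hu⟩ u rfl).trans (hγe ⟨u, hu⟩)
    have hvalA : ∀ x : A, ψ ⟨x, hAS x.2⟩ = ⟨α x, hAS (α x).2⟩ := fun x =>
      Subtype.ext ((hval _ (le_normalizerIn hAS x.2)).trans (hβe x))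
    have hψc₀ : ψ c₀ = c₀ ^ t := by
      rw [show c₀ = ⟨c₀A, hAS c₀A.2⟩ from rfl, hvalA]
      exact Subtype.ext (congrArg (Subtype.val : A → Ω) hαc)
    refine ⟨ψ, hψ, ?_, ?_, fun u hu => ?_, fun x hx => ?_⟩
    · rw [show y = ⟨yA, hAS yA.2⟩ from rfl, hvalA]
      exact Subtype.ext (congrArg (Subtype.val : A → Ω) hαy)
    · rw [hRgen c₀ hc₀ hc₀1] at hcR
      obtain ⟨k, hk⟩ := Subgroup.mem_zpowers_iff.mp hcR
      rw [← hk, map_zpow, hψc₀, ← zpow_natCast, ← zpow_natCast, ← zpow_mul, ← zpow_mul, mul_comm]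
    · show ((ψ u : S) : Ω) ∈ normalizerIn S A
      rw [hval u hu]
      exact (β _).2
    · have hfix : g₀ * ((x : S) : Ω) * g₀⁻¹ = x := by
        have := congrArg (Subtype.val : S → Ω) (h.BM x hx ⟨g₀, hg₀.1⟩ hg₀).eq
        simp only [Subgroup.coe_mul] at this
        rw [show g₀ * (x : Ω) = x * g₀ from this, mul_inv_cancel_right]
      obtain ⟨w, i, hw, -, e⟩ := hαfix ⟨x, h.BA hx⟩ hfix
      have ex : x = (⟨w, hAS w.2⟩ : S) * c₀ ^ i := Subtype.ext (congrArg (Subtype.val : A → Ω) e)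
      rw [ex, map_mul, map_zpow, hψc₀, hvalA, hw, mul_inv_rev, mul_assoc, inv_mul_cancel_left]
      exact mul_mem (inv_mem (zpow_mem hc₀ i)) (zpow_mem (pow_mem hc₀ t) i)
  have hMidx : Nat.card (⊤ : Subgroup S) = p * Nat.card M' := by rw [Subgroup.card_top, hcard, h.cardM, pow_succ']
  let π := QuotientGroup.mk' B
  have hπ : ∀ {s}, s ∈ B → π s = 1 := fun hs => (QuotientGroup.eq_one_iff _).mpr hs
  have hgy' : Commute (π g) (π y) := by
    rw [← commutatorElement_eq_one_iff_commute, ← map_commutatorElement, hπ (h.RB hcR)]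
  have hgb' : Commute (π g) (π b₀) := by
    refine (show Commute (π b₀) (π g) from ?_).symm
    rw [← commutatorElement_eq_one_iff_commute, ← map_commutatorElement, hπ hdB]
  have hbyq : ∀ i j : ℤ, ⁅π b₀ ^ i, π y ^ j⁆ = π g ^ (i * j) := fun i j => by
    rw [comm_zpow_zpow, ← map_commutatorElement, ← hgdef] <;> rw [← map_commutatorElement, ← hgdef]
    · exact hgb'.symm
    · exact hgy'.symm
  have hgyq : ∀ i j : ℤ, ⁅g ^ i, y ^ j⁆ = c ^ (i * j) := fun i j => by
    have hcc : ∀ s, Commute s c := fun s => (Subgroup.mem_center_iff.mp (h.RZ hcR) s)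
    rw [comm_zpow_zpow, ← hcdef] <;> rw [← hcdef]
    · exact hcc g
    · exact hcc y
  -- `⁅b₀, g⁆` lies in `R`
  have hdR : ⁅b₀, g⁆ ∈ R := by
    obtain ⟨ψ, -, hψy, hψc, hψM, hψB⟩ := hψ (p - 1) (p - 1) (CfsgLib.FusionTorus.pred_sq p)
    have hy' : ψ y = y⁻¹ := by rw [hψy, eq_comm, inv_eq_iff_mul_eq_one, ← pow_succ',
      Nat.sub_add_cancel hp'.one_le, hyp]
    have hc' : ψ c = c⁻¹ := by rw [hψc, eq_comm, inv_eq_iff_mul_eq_one, ← pow_succ',
      Nat.sub_add_cancel hp'.one_le, hcp]
    obtain ⟨j, m, hm, hb'⟩ := exists_zpow_mul (p := p) le_top hMidx (Subgroup.mem_top b₀) hb₀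
      (Subgroup.mem_top (ψ b₀))
    have hmM : ∀ v ∈ M', Commute (π m) (π v) := fun v hv => by
      rw [← commutatorElement_eq_one_iff_commute, ← map_commutatorElement, hπ (h.RB (h.commM m hm v hv))]
    have hg1 : π (ψ g) = π g ^ (-j) := by
      rw [hgdef, map_commutatorElement, map_commutatorElement, hb', hy', map_mul,
        comm_mul_left_commute (hmM _ (inv_mem (h.AM hyA))), map_zpow, map_inv, ← zpow_neg_one (π y), hbyq,
        mul_neg_one, ← hgdef]
    obtain ⟨x, hx, hgx⟩ : ∃ x ∈ B, ψ g = g ^ (-j) * x := by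
      refine ⟨(g ^ (-j))⁻¹ * ψ g, QuotientGroup.eq.mp ?_, by group⟩
      exact ((map_zpow π g _).trans hg1.symm)
    have hj : (j : ZMod p) = -1 := by
      have h1 : c ^ (-1 : ℤ) = c ^ j := by
        rw [zpow_neg_one, ← hc', hcdef, map_commutatorElement, hgx, hy',
          comm_mul_left_commute ((h.BM x hx _ (inv_mem (h.AM hyA))).symm), ← zpow_neg_one y, hgyq, ← hcdef,
          mul_neg_one, neg_neg]
      have := zmod_of_zpow_eq hcp hgy1 h1
      push_cast at this
      exact this.symm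
    set d := ⁅b₀, g⁆ with hd
    let ρ := QuotientGroup.mk' R
    have hρ : ∀ {s}, s ∈ R → ρ s = 1 := fun hs => (QuotientGroup.eq_one_iff _).mpr hs
    have hρB : ∀ v ∈ B, ∀ s, Commute (ρ s) (ρ v) := fun v hv s => by
      rw [← commutatorElement_eq_one_iff_commute, ← map_commutatorElement, hρ (h.commB hS s hv)]
    have e1 : ρ (ψ d) = ρ d ^ (j * -j) := by
      rw [hd, map_commutatorElement, map_commutatorElement, hb', hgx, map_mul, map_mul,
        comm_mul_right_commute (show Commute (ρ (b₀ ^ j) * ρ m) (ρ x) by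
          rw [← map_mul]; exact hρB x hx _),
        comm_mul_left_commute (by
          rw [← commutatorElement_eq_one_iff_commute, ← map_commutatorElement,
            hρ (h.commM m hm _ (zpow_mem hgM _))]),
        map_zpow, map_zpow, comm_zpow_zpow, ← map_commutatorElement, ← hd] <;> rw [← map_commutatorElement, ← hd]
      · exact hρB d hdB b₀
      · exact hρB d hdB g
    have e2 : ρ (ψ d) = ρ d := by
      refine ((QuotientGroup.eq (s := R)).mpr ?_).symm
      exact hψB d hdB
    have hdp : d ^ p = 1 := h.expA d (h.BA hdB)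
    have e3 : ρ d ^ (j * -j) = ρ d ^ (-1 : ℤ) := by
      refine zpow_eq_of_zmod (by rw [← map_pow, hdp, map_one]) ?_
      push_cast
      rw [hj]; ring
    have e4 : ρ (d ^ (2 : ℤ)) = 1 := by
      have := e2.symm.trans (e1.trans e3)
      rw [zpow_neg_one] at this
      rw [map_zpow, zpow_two]
      conv_lhs => arg 2; rw [this]
      exact mul_inv_cancel _
    refine mem_of_zpow_mem (p := p) (k := 2) ?_ ?_ ((QuotientGroup.eq_one_iff _).mp e4)
    · rw [hdp]; exact one_mem _
    · intro e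
      rw [show ((2 : ℤ) : ZMod p) = ((2 : ℕ) : ZMod p) by norm_num, ZMod.natCast_eq_zero_iff] at e
      exact hp2 ((Nat.prime_dvd_prime_iff_eq hp' Nat.prime_two).mp e)
  rw [hRc] at hdR
  obtain ⟨i₀, hi₀⟩ := Subgroup.mem_zpowers_iff.mp hdR
  set b := b₀ * y ^ i₀ with hbdef
  have hby : ⁅b, y⁆ = g := by rw [hbdef, comm_mul_left_commute ((Commute.refl y).zpow_left i₀)]
  have hccen : ∀ s, Commute s c := fun s => Subgroup.mem_center_iff.mp (h.RZ hcR) s
  have hbg : Commute b g := by
    rw [← commutatorElement_eq_one_iff_commute, hbdef, commutatorElement_mul_left_eq_conj_mul]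
    have h1 : ⁅y ^ i₀, g⁆ = c ^ (-i₀) := by
      have := hgyq 1 i₀
      rw [zpow_one, one_mul] at this
      rw [← commutatorElement_inv, this, zpow_neg]
    rw [h1, ((hccen b₀).zpow_right (-i₀)).eq, mul_inv_cancel_right, ← hi₀, ← zpow_add, neg_add_cancel, zpow_zero]
  have hbM : b ∉ M' := fun hb => hb₀ (by
    have := mul_mem hb (inv_mem (zpow_mem (h.AM hyA) i₀))
    rwa [hbdef, mul_inv_cancel_right] at this)
  clear_value b
  obtain ⟨w, hwB, hwR⟩ : ∃ w ∈ B, w ∉ R := SetLike.exists_of_lt (lt_of_le_of_ne h.RB fun e => by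
    have := h.cardB
    rw [← e, h.cardR] at this
    have := Nat.pow_right_injective hp'.two_le ((pow_one p).trans this)
    omega)
  have hBdec : ∀ x ∈ B, ∃ l m : ℤ, x = w ^ l * c ^ m := by
    intro x hx
    obtain ⟨l, r, hr, e⟩ := exists_zpow_mul (p := p) h.RB (by rw [h.cardB, h.cardR, pow_two]) hwB hwR hx
    rw [hRc] at hr
    obtain ⟨m, rfl⟩ := Subgroup.mem_zpowers_iff.mp hr
    exact ⟨l, m, e⟩
  have hWdec : ∀ u ∈ W, ∃ k l m : ℤ, u = g ^ k * w ^ l * c ^ m := by
    intro u hu
    obtain ⟨x, hx, v, hv, rfl⟩ := Subgroup.mem_sup_of_normal_left.mp (hW ▸ hu)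
    obtain ⟨k, rfl⟩ := Subgroup.mem_zpowers_iff.mp hv
    obtain ⟨l, m, e⟩ := hBdec x hx
    exact ⟨k, l, m, by rw [mul_assoc, ← e, ((h.BM x hx g hgM).zpow_left k).eq]⟩
  have hbw : ¬ Commute b w := by
    intro hbw
    refine false_of_comm hcard hna (Subgroup.closure (insert b (W : Set S))) ?_ ?_
    · have hgenW : ∀ u ∈ W, Commute b u := fun u hu => by
        obtain ⟨k, l, m, rfl⟩ := hWdec u hu
        exact ((hbg.zpow_right k).mul_right (hbw.zpow_right l)).mul_right ((hccen b).zpow_right m)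
      have hWW : ∀ u ∈ W, ∀ v ∈ W, Commute u v := fun u hu v hv => by
        obtain ⟨k, l, m, rfl⟩ := hWdec u hu
        obtain ⟨k', l', m', rfl⟩ := hWdec v hv
        have hgw := h.BM w hwB g hgM
        have hg' : Commute g (g ^ k' * w ^ l' * c ^ m') :=
          (((Commute.refl g).zpow_right k').mul_right (hgw.zpow_right l')).mul_right ((hccen g).zpow_right m')
        have hw' : Commute w (g ^ k' * w ^ l' * c ^ m') :=
          ((hgw.symm.zpow_right k').mul_right ((Commute.refl w).zpow_right l')).mul_right ((hccen w).zpow_right m')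
        exact ((hg'.zpow_left k).mul_left (hw'.zpow_left l)).mul_left ((hccen _).symm.zpow_left m)
      have := Subgroup.isMulCommutative_closure (k := insert b (W : Set S)) fun u hu v hv => by
        rcases hu with rfl | hu <;> rcases hv with rfl | hv
        · rfl
        · exact hgenW v hv
        · exact (hgenW u hu).symm
        · exact hWW u hu v hv
      exact fun u hu v hv => setLike_mul_comm hu hv
    · set K := Subgroup.closure (insert b (W : Set S))
      have hlt : W < K := lt_of_le_of_ne (fun u hu => Subgroup.subset_closure (Or.inr hu)) fun e =>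
        hbM ((sup_le (h.BA.trans h.AM) (Subgroup.zpowers_le.mpr hgM) : W ≤ M')
          (e.ge (Subgroup.subset_closure (Set.mem_insert b _))))
      have := CfsgLib.FusionFourth.card_lt_mul hcard hlt
      rwa [hWc, ← pow_succ] at this
  have hfr : Cube p y b g w c := by
    refine ⟨hby, rfl, hbg, h.BM w hwB y (h.AM hyA), h.BM w hwB g hgM, h.RZ hcR, hgy1, hcp, hyp,
      h.expA w (h.BA hwB), ?_, ?_, hbw, fun s => ?_⟩
    · have hbp : b ^ p ∈ M' := by
        have h1 : ((b : S) : S ⧸ M') ^ p = 1 := by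
          have h3 := M'.card_mul_index
          rw [h.cardM, hcard, pow_succ p 4] at h3
          have h2 : Nat.card (S ⧸ M') = p := by
            rw [← Subgroup.index_eq_card]
            exact Nat.eq_of_mul_eq_mul_left (pow_pos hp'.pos 4) h3
          conv_lhs => rw [← h2]
          exact pow_card_eq_one'
        rw [← QuotientGroup.mk_pow, QuotientGroup.eq_one_iff] at h1
        exact h1
      obtain ⟨i, j, x, hx, e⟩ := hdec _ hbp
      have hgb'' : Commute (π b) (π g) := hbg.map π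
      have h1 : π g ^ i = 1 := by
        have h2 : ⁅π b, π (b ^ p)⁆ = 1 := by
          rw [map_pow, commutatorElement_eq_one_iff_commute]; exact (Commute.refl _).pow_right p
        rw [e, map_mul, hπ hx, mul_one, map_mul, map_zpow, map_zpow,
          comm_mul_right_commute (hgb''.zpow_right j), ← zpow_one (π b), comm_zpow_zpow, ← map_commutatorElement,
          hby, one_mul] at h2
        · exact h2
        · rw [← map_commutatorElement, hby]; exact hgb''
        · rw [← map_commutatorElement, hby]; exact hgy'.symm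
      have hi : (i : ZMod p) = 0 := by
        by_contra hi
        rw [← map_zpow] at h1
        exact hgB (mem_of_zpow_mem hgpB hi ((QuotientGroup.eq_one_iff _).mp h1))
      obtain ⟨l, m, rfl⟩ := hBdec x hx
      exact ⟨j, l, m, by rw [e, zpow_eq_one_of_zmod hyp hi, one_mul, mul_assoc]⟩
    · have hr := h.commB hS b hwB
      rw [hRc] at hr
      obtain ⟨f', hf⟩ := Subgroup.mem_zpowers_iff.mp hr
      exact ⟨f', hf.symm⟩
    · obtain ⟨j, m, hm, e⟩ := exists_zpow_mul (p := p) le_top hMidx (Subgroup.mem_top b) hbM (Subgroup.mem_top s⁻¹)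
      obtain ⟨i, k, x, hx, hm'⟩ := hdec m⁻¹ (inv_mem hm)
      have hu : b ^ j * (g ^ k * x) * (b ^ j)⁻¹ ∈ W := hWn.conj_mem _ (mul_mem
        (zpow_mem (hW.ge (Subgroup.mem_sup_right (Subgroup.mem_zpowers g))) k)
        (hW.ge (Subgroup.mem_sup_left hx))) _
      obtain ⟨k', l', m', hu'⟩ := hWdec _ hu
      refine ⟨i, -j, k', l', m', ?_⟩
      rw [← hu', ← inv_inv s, e, mul_inv_rev, hm']
      group
  have hgc : g ∈ commutator S := by
    rw [← hby]; exact Subgroup.commutator_mem_commutator (Subgroup.mem_top _) (Subgroup.mem_top _)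
  have hcc : c ∈ commutator S := Subgroup.commutator_mem_commutator (Subgroup.mem_top _) (Subgroup.mem_top _)
  have hcD : commutator S ≤ hfr.D := by
    rw [commutator_def, Subgroup.commutator_le]; exact fun u _ v _ => hfr.commutator_mem u v
  have hwD := hfr.w_notMem
  have hD2 : Nat.card (commutator S) ≤ p ^ 2 := by
    have hDW : hfr.D ≤ W := by
      rintro _ ⟨k, m, rfl⟩
      exact mul_mem (zpow_mem (hW.ge (Subgroup.mem_sup_right (Subgroup.mem_zpowers g))) k)
        (zpow_mem (hW.ge (Subgroup.mem_sup_left (h.RB hcR))) m)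
    have hne : hfr.D < W := lt_of_le_of_ne hDW fun e => hwD (e ▸ hW.ge (Subgroup.mem_sup_left hwB))
    have h1 := CfsgLib.FusionFourth.card_lt_mul hcard hne
    rw [hWc, pow_succ] at h1
    exact (Subgroup.card_le_of_le hcD).trans (Nat.le_of_mul_le_mul_right h1 hp'.pos)
  obtain rfl : p = 3 := by
    obtain ⟨ψ, -, hψy, -, -, hψB⟩ := hψ 2 ((p + 1) / 2) (by
      rw [Nat.mul_div_cancel' (hp'.eq_two_or_odd'.resolve_left hp2).add_one.two_dvd]
      simp)
    obtain ⟨α, hα0, hαy, d, hd, hw⟩ := hfr.eta ψ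
    have hαt := hαy ((p + 1) / 2 : ℕ) (by rw [zpow_natCast]; exact hψy)
    have h1 : w ^ (α ^ 2 - 1) ∈ hfr.D := by
      have h2 := hψB w hwB
      rw [hw, hRc] at h2
      obtain ⟨k, hk⟩ := Subgroup.mem_zpowers_iff.mp h2
      have : w ^ (α ^ 2 - 1) = c ^ k * d⁻¹ := by rw [hk]; group
      rw [this]
      exact mul_mem (zpow_mem hfr.c_mem k) (inv_mem hd)
    have h2 : ((α ^ 2 - 1 : ℤ) : ZMod p) = 0 := by
      by_contra hne
      exact hwD (mem_of_zpow_mem (by rw [h.expA w (h.BA hwB)]; exact one_mem _) hne h1)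
    have h3 : (2 : ZMod p) * (α : ZMod p) = 1 := by
      rw [hαt, Int.cast_natCast]
      have h4 : ((2 * ((p + 1) / 2) : ℕ) : ZMod p) = 1 := by
        rw [Nat.mul_div_cancel' (hp'.eq_two_or_odd'.resolve_left hp2).add_one.two_dvd]; simp
      exact_mod_cast h4
    push_cast at h2
    have h5 : ((3 : ℕ) : ZMod p) = 0 := by
      push_cast
      linear_combination -(4 : ZMod p) * h2 + ((2 : ZMod p) * (α : ZMod p) + 1) * h3
    exact (Nat.prime_dvd_prime_iff_eq hp' Nat.prime_three).mp ((ZMod.natCast_eq_zero_iff 3 p).mp h5)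
  -- `p = 3`
  have hwne : Abelianization.of w ≠ 1 := fun e => hwD (hcD ((Abelianization.ker_of (G := S)).le e))
  obtain ⟨f, hfw, hf⟩ := CfsgLib.FusionTorus.exists_invariant_hom hS hF hwne
    (by rw [← map_pow, h.expA w (h.BA hwB), map_one]) fun η _ => by
      obtain ⟨α, hα0, -, d, hd, e⟩ := hfr.eta η
      have h2 : ((α ^ 2 : ℤ) : ZMod 3) = 1 := by
        push_cast
        exact sq_eq_one_of_three _ hα0
      have hd1 : d ∈ commutator S := by
        obtain ⟨k, m, rfl⟩ := hd
        exact mul_mem (zpow_mem hgc k) (zpow_mem hcc m)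
      rw [e, map_mul, (Abelianization.ker_of (G := S)).ge hd1, mul_one,
        zpow_eq_of_zmod hfr.wp (j := 1) (by rw [h2, Int.cast_one]), zpow_one]
  refine CfsgLib.FusionTorus.false_of_invariant_hom hS hF hhyp f hfw fun P hP hPc α hα x => ?_
  suffices Kept F f P from this α hα x _ _ rfl rfl
  rcases hPc with rfl | hPe
  · exact kept_top hf
  rcases shape_of_essential hS hF hp2 hcard hna hPe with ⟨h2 | h3, hPel⟩ | ⟨h3, hnc, -⟩ | ⟨h4, -⟩
  · exfalso
    obtain ⟨n, hd, -⟩ := CfsgLib.Pearl.data_of_pearl hS hF hp2 hPe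
      (Or.inl ⟨h2, fun e he => ⟨hPel.2 e he, hPel.1⟩⟩)
    obtain ⟨x', -, hx'⟩ := hd.setting
    obtain rfl : n = 5 := Nat.pow_right_injective hp'.two_le (hd.card.symm.trans hcard)
    have := hx'.card_L (i := 2) le_rfl (by omega)
    rw [show CfsgLib.MaxClassSplit.L S 2 = commutator S from rfl] at this
    rw [this] at hD2
    norm_num at hD2
  · obtain ⟨hN', -, -, R', B', h'⟩ := cube_setup hS hF hcard hPe h3 hPel
    refine kept_ess hS hF hp2 hPe (by rw [hN', h3, pow_succ']) ?_ (R' ⊓ commutator S)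
      (fun u hu => MonoidHom.mem_ker.mp (Abelianization.commutator_subset_ker f hu.2)) (fun n hn x hx u hu => ?_)
      ?_ (kept_four hS hF hp2 hcard hna hD2 (kept_top hf) normalizerIn_le hN')
    · rw [commutator_def, Subgroup.commutator_le]
      intro a _ b _
      rw [commutatorElement_eq_one_iff_mul_comm.mpr (hPel.1.is_comm.comm a b)]
      exact one_mem _
    · rw [show u = ⁅(⟨n, hn.1⟩ : S), ⟨x, hP hx⟩⁆ from Subtype.ext hu]
      exact ⟨h'.commM _ hn _ (le_normalizerIn hP hx),
        Subgroup.commutator_mem_commutator (Subgroup.mem_top _) (Subgroup.mem_top _)⟩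
    · have : Finite P := finite_of_le hP
      calc Nat.card (R' ⊓ commutator S : Subgroup S) ≤ Nat.card R' := Subgroup.card_le_of_le inf_le_left
        _ = 3 * 1 := by rw [h'.cardR]
        _ ≤ 3 * Nat.card (commutator P) := Nat.mul_le_mul_left _ Nat.card_pos
  · exfalso
    obtain ⟨n, hd, -⟩ := CfsgLib.Pearl.data_of_pearl hS hF hp2 hPe (Or.inr ⟨h3, hnc⟩)
    obtain ⟨x', -, hx'⟩ := hd.setting
    obtain rfl : n = 5 := Nat.pow_right_injective hp'.two_le (hd.card.symm.trans hcard)
    have := hx'.card_L (i := 2) le_rfl (by omega)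
    rw [show CfsgLib.MaxClassSplit.L S 2 = commutator S from rfl] at this
    rw [this] at hD2
    norm_num at hD2
  · exact kept_four hS hF hp2 hcard hna hD2 (kept_top hf) hP h4

end CfsgLib.FusionFifth
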