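import Cfsg.Agent.S5239
import Cfsg.Agent.Lib.Fusion.Pearl
import Cfsg.Agent.Lib.Fusion.OrderFifthInvariant

/-!
An elementary abelian essential subgroup of order `p²` in a group of order `p⁵` without abelian subgroup of
index `p`, `p ≠ 7`, forbids `O^p(F) = F` when there is no elementary abelian essential subgroup of order `p³`.
-/

set_option autoImplicit false

namespace CfsgLib.FusionFifth

open Cfsg Cfsg.FusionSystem CfsgLib.Fusion
open CfsgLib.MaxClassSplit (L L_anti L_one comm_mem_L)
open scoped commutatorElement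

theorem sq_eq_one_three : ∀ a : ZMod 3, a ≠ 0 → a ^ 2 = 1 := by decide

/-- A subgroup of index `p` contains the derived subgroup. -/
theorem commutator_le_of_index {G : Type*} [Group G] [Finite G] {p : ℕ} [hp : Fact p.Prime]
    (hG : IsPGroup p G) {H : Subgroup G} (hH : H.index = p) : commutator G ≤ H := by
  have := CfsgLib.PGroup.normal_of_index_eq hG hH
  have : IsCyclic (G ⧸ H) := isCyclic_of_prime_card (p := p) (by rw [← Subgroup.index_eq_card, hH])
  let _ := IsCyclic.commGroup (α := G ⧸ H)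
  exact fun x hx => (QuotientGroup.eq_one_iff x).mp
    (MonoidHom.mem_ker.mp (Abelianization.commutator_subset_ker (QuotientGroup.mk' H) hx))

/-- An abelian group of exponent `p` generated by two elements has order at most `p²`. -/
theorem card_le_sq_of_pair {K : Type*} [CommGroup K] {p : ℕ} [hp : Fact p.Prime] {a b : K}
    (hgen : Subgroup.closure ({a, b} : Set K) = ⊤) (hexp : ∀ x : K, x ^ p = 1) : Nat.card K ≤ p ^ 2 := by
  have hs : Function.Surjective (fun ij : ZMod p × ZMod p => a ^ (ij.1.val : ℤ) * b ^ (ij.2.val : ℤ)) := by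
    intro x
    obtain ⟨i, j, hij⟩ := Subgroup.mem_closure_pair.mp (hgen.ge (Subgroup.mem_top x))
    refine ⟨((i : ZMod p), (j : ZMod p)), ?_⟩
    rw [← hij]
    exact congrArg₂ (· * ·) (zpow_eq_of_zmod (p := p) (hexp a) (by simp))
      (zpow_eq_of_zmod (p := p) (hexp b) (by simp))
  refine (Nat.card_le_card_of_surjective _ hs).trans (le_of_eq ?_)
  rw [Nat.card_prod, Nat.card_zmod, pow_two]

variable {Ω : Type*} [Group Ω] {S : Subgroup Ω} [Finite S] {p : ℕ} [hp : Fact p.Prime] {F : FusionSystem S}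
  {M : Type*} [CommGroup M] {f : S →* M} {x : S}

open CfsgLib.MaxClassSplit in
theorem L2_comm (hx : Setting p 5 x) {a b : S} (ha : a ∈ L S 2) (hb : b ∈ L S 2) : Commute a b := by
  have hp' := hp.out
  obtain ⟨t, ht, ht'⟩ : ∃ t ∈ L S 2, t ∉ L S 3 := SetLike.exists_of_lt (lt_of_le_of_ne (L_anti (by omega)) fun e => by
    have h1 := hx.card_L (i := 3) (by omega) (by omega)
    have h2 := hx.card_L (i := 2) le_rfl (by omega)
    rw [e, h2] at h1
    exact absurd (Nat.pow_right_injective hp'.two_le h1) (by norm_num))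
  have h23 : ∀ u ∈ L S 2, ∀ v ∈ L S 3, Commute u v := fun u hu v hv => by
    have := comm_mem_L (i := 2) (j := 3) (by omega) (by omega) hu hv
    rw [hx.L_eq_bot le_rfl, Subgroup.mem_bot] at this
    exact commutatorElement_eq_one_iff_commute.mp this
  obtain ⟨i, hi⟩ := hx.split le_rfl ht ht' ha
  obtain ⟨j, hj⟩ := hx.split le_rfl ht ht' hb
  rw [← mul_inv_cancel_left (t ^ i) a, ← mul_inv_cancel_left (t ^ j) b]
  exact (((Commute.refl t).zpow_zpow i j).mul_right (h23 _ (zpow_mem ht i) _ hj)).mul_left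
    ((h23 _ (zpow_mem ht j) _ hi).symm.mul_right (h23 _ (L_anti (by omega) hi) _ hj))

open CfsgLib.MaxClassSplit in
theorem L4_central (hx : Setting p 5 x) {z : S} (hz : z ∈ L S 4) : z ∈ Subgroup.center S := by
  refine Subgroup.mem_center_iff.mpr fun g => commutatorElement_eq_one_iff_mul_comm.mp ?_
  have := comm_left_mem (j := 4) (by omega) g hz
  rwa [hx.L_eq_bot le_rfl, Subgroup.mem_bot] at this

omit [Finite S] hp in
theorem comm_mem_two (a b : S) : ⁅a, b⁆ ∈ L S 2 :=
  comm_mem_L (i := 1) (j := 1) le_rfl le_rfl (by rw [L_one]; exact Subgroup.mem_top a)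
    (by rw [L_one]; exact Subgroup.mem_top b)

open CfsgLib.MaxClassSplit in
/-- Nonabelian subgroups of order `p³` are fully normalised with normalizer of order `p⁴`. -/
theorem cube_normalizer (hx : Setting p 5 x) (hS : IsPGroup p S) (hcard : Nat.card S = p ^ 5) {P : Subgroup Ω}
    (hPS : P ≤ S) (hP : Nat.card P = p ^ 3) (hna : ¬ IsMulCommutative P) :
    F.IsFullyNormalized P ∧ Nat.card (normalizerIn S P) = p ^ 4 := by
  have hp' := hp.out
  have key : ∀ Q : Subgroup Ω, Q ≤ S → Nat.card Q = p ^ 3 → ¬ IsMulCommutative Q →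
      Nat.card (normalizerIn S Q) = p ^ 4 := by
    intro Q hQS hQ hQna
    have hlt := card_lt_normalizerIn hS (lt_of_card hcard hQS hQ (by omega))
    obtain ⟨i, hi, hi'⟩ := exists_pow_card hcard (normalizerIn_le (S := S) (P := Q))
    rw [hQ, hi', Nat.pow_lt_pow_iff_right hp'.one_lt] at hlt
    rcases (show i = 4 ∨ i = 5 by omega) with rfl | rfl
    · exact hi'
    exfalso
    have htop : normalizerIn S Q = S := eq_of_le_of_card_le normalizerIn_le (by rw [hi', hcard])
    set Q' := Q.subgroupOf S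
    have hQn : Q'.Normal := ⟨fun a ha s => (Subgroup.mem_normalizer_iff.mp (htop.ge s.2).2 a).mp ha⟩
    have hQ' : Nat.card Q' = p ^ 3 := by rw [Nat.card_congr (Subgroup.subgroupOfEquivOfLe hQS).toEquiv, hQ]
    have hquot : Nat.card (S ⧸ Q') = p ^ 2 := by
      have h3 := Q'.card_mul_index
      rw [hQ', hcard, show p ^ 5 = p ^ 3 * p ^ 2 by ring] at h3
      rw [← Subgroup.index_eq_card]
      exact Nat.eq_of_mul_eq_mul_left (pow_pos hp'.pos 3) h3
    have hle : L S 2 ≤ Q' := by
      rw [show L S 2 = commutator S from rfl, commutator_def, Subgroup.commutator_le]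
      intro a _ b _
      rw [← QuotientGroup.eq_one_iff]
      show QuotientGroup.mk' Q' _ = 1
      rw [map_commutatorElement, commutatorElement_eq_one_iff_mul_comm]
      exact IsPGroup.commutative_of_card_eq_prime_sq hquot _ _
    have heq : L S 2 = Q' := Subgroup.eq_of_le_of_card_ge hle (by rw [hQ', hx.card_L le_rfl (by omega)])
    refine hQna ⟨⟨fun a b => Subtype.ext ?_⟩⟩
    have := L2_comm hx (a := ⟨a, hQS a.2⟩) (b := ⟨b, hQS b.2⟩) (heq.ge a.2) (heq.ge b.2)
    exact congrArg (Subtype.val : S → Ω) this.eq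
  refine ⟨⟨hPS, fun Q hQ => ?_⟩, key P hPS hP hna⟩
  obtain ⟨φ, hφ, hr⟩ := hQ
  obtain ⟨e, -⟩ := exists_equiv hφ hr
  rw [key P hPS hP hna, key Q (hr ▸ range_le_S hφ) (by rw [← hr, card_range hφ, hP])
    fun hc => hna ⟨⟨fun a b => e.injective (by rw [map_mul, map_mul]; exact hc.is_comm.comm _ _)⟩⟩]

open CfsgLib.MaxClassSplit in
/-- The normalizer of an elementary abelian essential subgroup of order `p²`. -/
theorem square_normalizer (hx : Setting p 5 x) (hS : IsPGroup p S) (hcard : Nat.card S = p ^ 5) {A : Subgroup Ω}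
    (hA : F.IsEssential p A) (hcA : Nat.card A = p ^ 2) :
    Nat.card (normalizerIn S A) = p ^ 3 ∧ ¬ IsMulCommutative (normalizerIn S A) ∧ L S 4 ≤ A.subgroupOf S ∧
      A.subgroupOf S ⊓ L S 2 = L S 4 ∧ (∀ g : S, (∀ a ∈ A.subgroupOf S, Commute g a) → (g : Ω) ∈ A) ∧
      ∀ a ∈ A.subgroupOf S, a ∉ L S 4 → ∀ g : S, Commute g a → (g : Ω) ∈ A := by
  have hp' := hp.out
  have hAS := hA.1.1
  have : Finite A := finite_of_le hAS
  have hC := IsCentric.centralizerIn_le' hA.1
  have hCA : ∀ g : S, (∀ a ∈ A.subgroupOf S, Commute g a) → (g : Ω) ∈ A := fun g hg =>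
    hC (mem_centralizerIn.mpr ⟨g.2, fun z hz => (congrArg Subtype.val (hg ⟨z, hAS hz⟩ hz).eq).symm⟩)
  set A' := A.subgroupOf S
  have hA' : Nat.card A' = p ^ 2 := by rw [Nat.card_congr (Subgroup.subgroupOfEquivOfLe hAS).toEquiv, hcA]
  have h4A : L S 4 ≤ A' := fun z hz => hCA z fun a _ => ((Subgroup.mem_center_iff.mp (L4_central hx hz)) a).symm
  have hinf : A' ⊓ L S 2 = L S 4 := by
    have hlt : A' ⊓ L S 2 < A' := lt_of_le_of_ne inf_le_left fun e => by
      have hle : L S 2 ≤ A' := fun u hu => hCA u fun a ha => L2_comm hx hu (e.ge ha).2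
      have := Subgroup.card_le_of_le hle
      rw [hx.card_L le_rfl (by omega), hA', Nat.pow_le_pow_iff_right hp'.one_lt] at this
      omega
    refine (Subgroup.eq_of_le_of_card_ge (le_inf h4A (L_anti (by omega))) ?_).symm
    have h1 := CfsgLib.FusionFourth.card_lt_mul hcard hlt
    rw [hA', pow_two] at h1
    rw [hx.card_L (by omega) (by omega), pow_one]
    exact Nat.le_of_mul_le_mul_right h1 hp'.pos
  have := hx.nilpotent
  have hAcomm := IsPGroup.commutative_of_card_eq_prime_sq hA'
  have hCa : ∀ a ∈ A', a ∉ L S 4 → ∀ g : S, Commute g a → (g : Ω) ∈ A := by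
    intro a ha ha4 g hg
    refine hCA g fun u hu => ?_
    obtain ⟨i, l, hl, rfl⟩ := exists_zpow_mul (p := p) h4A (by rw [hA', hx.card_L (by omega) (by omega), pow_one, pow_two])
      ha ha4 hu
    exact (hg.zpow_right i).mul_right (Subgroup.mem_center_iff.mp (L4_central hx hl) g)
  obtain ⟨a, ha, ha4⟩ : ∃ a ∈ A', a ∉ L S 4 := SetLike.exists_of_lt (lt_of_le_of_ne h4A fun e => by
    rw [← e, hx.card_L (by omega) (by omega)] at hA'
    exact absurd (Nat.pow_right_injective hp'.two_le hA') (by norm_num))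
  set N' := (normalizerIn S A).subgroupOf S
  have hN' : Nat.card N' = Nat.card (normalizerIn S A) :=
    Nat.card_congr (Subgroup.subgroupOfEquivOfLe normalizerIn_le).toEquiv
  have hle := (card_le_of_comm a (K := N') (M := L S 4) fun g hg => by
    rw [← hinf]
    refine ⟨?_, comm_mem_two a g⟩
    rw [commutatorElement_def, mul_assoc, mul_assoc, ← mul_assoc g]
    exact mul_mem ha ((Subgroup.mem_normalizer_iff.mp hg.2 _).mp (show ((a⁻¹ : S) : Ω) ∈ A from inv_mem ha))).1
  have hcen : Nat.card (Subgroup.centralizer ({a} : Set S) ⊓ N' : Subgroup S) ≤ p ^ 2 := by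
    rw [← hA']
    exact Subgroup.card_le_of_le fun u hu => hCa a ha ha4 u (Subgroup.mem_centralizer_singleton_iff.mp hu.1)
  rw [hN', hx.card_L (by omega) (by omega), pow_one] at hle
  have hle' : Nat.card (normalizerIn S A) ≤ p ^ 3 :=
    hle.trans (by rw [pow_succ p 2]; exact Nat.mul_le_mul_right _ hcen)
  have hlt := card_lt_normalizerIn hS (lt_of_card hcard hAS hcA (by omega))
  obtain ⟨i, hi, hi'⟩ := exists_pow_card hcard (normalizerIn_le (S := S) (P := A))
  have hN : Nat.card (normalizerIn S A) = p ^ 3 := by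
    rw [hcA, hi', Nat.pow_lt_pow_iff_right hp'.one_lt] at hlt
    rw [hi', Nat.pow_le_pow_iff_right hp'.one_lt] at hle'
    rw [hi', show i = 3 by omega]
  refine ⟨hN, fun hc => ?_, h4A, hinf, hCA, hCa⟩
  have hle2 : normalizerIn S A ≤ A := fun u hu => hC (mem_centralizerIn.mpr ⟨hu.1, fun z hz =>
    congrArg Subtype.val (hc.is_comm.comm (⟨z, le_normalizerIn hAS hz⟩ : normalizerIn S A) ⟨u, hu⟩)⟩)
  have := Subgroup.card_le_of_le hle2
  rw [hN, hcA, Nat.pow_le_pow_iff_right hp'.one_lt] at this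
  omega

theorem kept_inf (hS : IsPGroup p S) (hF : F.IsSaturated p) (hp2 : p ≠ 2) {E : Subgroup Ω}
    (hE : F.IsEssential p E) (hidx : Nat.card (normalizerIn S E) = p * Nat.card E)
    (hcls : commutator E ≤ Subgroup.center E)
    (hJc : Nat.card (E.subgroupOf S ⊓ L S 2 : Subgroup S) ≤ p * Nat.card (commutator E))
    (hN : Kept F f (normalizerIn S E)) : Kept F f E := by
  refine kept_ess hS hF hp2 hE hidx hcls (E.subgroupOf S ⊓ L S 2)
    (fun u hu => MonoidHom.mem_ker.mp (Abelianization.commutator_subset_ker f hu.2)) (fun n hn z hz u hu => ?_)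
    hJc hN
  refine ⟨?_, ?_⟩
  · show (u : Ω) ∈ E
    rw [hu, commutatorElement_def]
    exact mul_mem ((Subgroup.mem_normalizer_iff.mp hn.2 z).mp hz) (inv_mem hz)
  · rw [show u = ⁅(⟨n, hn.1⟩ : S), ⟨z, hE.1.1 hz⟩⁆ from Subtype.ext hu]
    exact comm_mem_two _ _

/-- A homomorphism kept by `Aut_F(S)` is kept by the subgroups of order `p³` and by the elementary squares. -/
theorem kept_small (hx : CfsgLib.MaxClassSplit.Setting p 5 x) (hS : IsPGroup p S) (hF : F.IsSaturated p)
    (hp2 : p ≠ 2) (hcard : Nat.card S = p ^ 5) (hna : NoAbel S p)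
    (hno4 : ∀ E, F.IsEssential p E → Nat.card E ≠ p ^ 4) (hf : Kept F f S) :
    (∀ E : Subgroup Ω, E ≤ S → Nat.card E = p ^ 3 → ¬ IsMulCommutative E → Kept F f E) ∧
      ∀ E : Subgroup Ω, F.IsEssential p E → Nat.card E = p ^ 2 → Kept F f E := by
  have hp' := hp.out
  have k4 : ∀ E : Subgroup Ω, E ≤ S → Nat.card E = p ^ 4 → Kept F f E := fun E hES hE => by
    have hN := normalizerIn_eq hS hcard hES hE
    exact kept_step hS hF (fullyNormalized_of_normal hES hN) (lt_of_card hcard hES hE (by omega))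
      (fun h => hno4 E h hE) (by rw [hN, hcard, hE, pow_succ']) (by rw [hN]; exact hf)
  have k3 : ∀ E : Subgroup Ω, E ≤ S → Nat.card E = p ^ 3 → ¬ IsMulCommutative E → Kept F f E := by
    intro E hES hE hnc
    have : Finite E := finite_of_le hES
    obtain ⟨hfn, hN⟩ := cube_normalizer (F := F) hx hS hcard hES hE hnc
    have hidx : Nat.card (normalizerIn S E) = p * Nat.card E := by rw [hN, hE, pow_succ']
    by_cases hess : F.IsEssential p E
    · rcases shape_of_essential hS hF hp2 hcard hna hess with ⟨-, h⟩ | ⟨-, -, -, hD, hcl⟩ | ⟨h, -⟩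
      · exact absurd h.1 hnc
      · refine kept_inf hS hF hp2 hess hidx hcl ?_ (k4 _ normalizerIn_le hN)
        have hlt : E.subgroupOf S ⊓ L S 2 < E.subgroupOf S := lt_of_le_of_ne inf_le_left fun e =>
          hnc ⟨⟨fun a b => Subtype.ext (congrArg (Subtype.val : S → Ω)
            (L2_comm hx (e.ge (show (⟨a, hES a.2⟩ : S) ∈ E.subgroupOf S from a.2)).2
              (e.ge (show (⟨b, hES b.2⟩ : S) ∈ E.subgroupOf S from b.2)).2).eq)⟩⟩
        have h1 := CfsgLib.FusionFourth.card_lt_mul hcard hlt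
        rw [Nat.card_congr (Subgroup.subgroupOfEquivOfLe hES).toEquiv, hE, pow_succ] at h1
        rw [hD, ← pow_two]
        exact Nat.le_of_mul_le_mul_right h1 hp'.pos
      · exact absurd h (hno4 E hess)
    · exact kept_step hS hF hfn (lt_of_card hcard hES hE (by omega)) hess hidx (k4 _ normalizerIn_le hN)
  refine ⟨k3, fun E hess hE => ?_⟩
  have : Finite E := finite_of_le hess.1.1
  obtain ⟨hN, hNna, -, hinf, -, -⟩ := square_normalizer hx hS hcard hess hE
  have hab : commutator E = ⊥ := by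
    rw [commutator_def, eq_bot_iff, Subgroup.commutator_le]
    intro a _ b _
    exact Subgroup.mem_bot.mpr (commutatorElement_eq_one_iff_mul_comm.mpr
      (IsPGroup.commutative_of_card_eq_prime_sq hE a b))
  refine kept_inf hS hF hp2 hess (by rw [hN, hE, pow_succ']) (hab ▸ bot_le) ?_ (k3 _ normalizerIn_le hN hNna)
  rw [hinf, hx.card_L (by omega) (by omega), hab, Subgroup.card_bot, pow_one, mul_one]

/-- For `p = 3` no subgroup of order `3⁴` is essential. -/
theorem no_four_three (hS : IsPGroup 3 S) [Fact (Nat.Prime 3)] (hF : F.IsSaturated 3)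
    (hcard : Nat.card S = 3 ^ 5) (hna : NoAbel S 3) {A : Subgroup Ω} (hA : F.IsEssential 3 A)
    (hcA : Nat.card A = 3 ^ 2) (hel : IsElementaryAbelian 3 A) {E : Subgroup Ω} (hE : F.IsEssential 3 E) :
    Nat.card E ≠ 3 ^ 4 := by
  classical
  intro hcE
  have hES := hE.1.1
  have : Finite E := finite_of_le hES
  obtain ⟨hnc, hD⟩ : ¬ IsMulCommutative E ∧ Nat.card (commutator E) = 3 := by
    rcases shape_of_essential hS hF (by norm_num) hcard hna hE with ⟨h | h, -⟩ | ⟨h, -⟩ | ⟨-, h1, -, h2, -⟩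
    · rw [hcE] at h; norm_num at h
    · rw [hcE] at h; norm_num at h
    · rw [hcE] at h; norm_num at h
    · exact ⟨h1, h2⟩
  rcases Cfsg.Agent.S5239.result hS F hF A hA (Or.inl ⟨by rw [hcA]; norm_num, fun z hz => ⟨hel.2 z hz, hel.1⟩⟩)
    with ⟨-, h, -⟩ | ⟨-, h⟩ | ⟨W, ⟨e⟩⟩
  · rw [hcard] at h; norm_num at h
  · obtain ⟨T, hT, hTE⟩ := h E hES
    obtain ⟨u, v, huv⟩ : ∃ u v : E, Subgroup.closure ({u, v} : Set E) = ⊤ := by
      obtain ⟨u, v, hu, hv, hsub⟩ : ∃ u v, u ∈ E ∧ v ∈ E ∧ (T : Set Ω) ⊆ {u, v} := by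
        have hTsub : ∀ z ∈ T, z ∈ E := fun z hz => hTE.le (Subgroup.subset_closure hz)
        rcases Nat.lt_or_ge T.card 2 with h2 | h2
        · rcases Finset.card_le_one_iff_subset_singleton.mp (Nat.le_of_lt_succ h2) with ⟨z, hz⟩
          by_cases hzE : z ∈ E
          · exact ⟨z, 1, hzE, E.one_mem, fun w hw => Or.inl (Finset.mem_singleton.mp (hz hw))⟩
          · exact ⟨1, 1, E.one_mem, E.one_mem, fun w hw =>
              absurd (Finset.mem_singleton.mp (hz hw) ▸ hTsub w hw) hzE⟩
        · obtain ⟨u, v, -, rfl⟩ := Finset.card_eq_two.mp (le_antisymm hT h2)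
          exact ⟨u, v, hTsub u (by simp), hTsub v (by simp), by simp⟩
      refine ⟨⟨u, hu⟩, ⟨v, hv⟩, Subgroup.map_injective E.subtype_injective ?_⟩
      rw [MonoidHom.map_closure, ← MonoidHom.range_eq_map, Subgroup.range_subtype]
      refine le_antisymm ((Subgroup.closure_le _).mpr ?_) (hTE.ge.trans (Subgroup.closure_mono ?_))
      · rintro _ ⟨w, -, rfl⟩; exact w.2
      · intro w hw
        rcases hsub hw with rfl | rfl
        · exact ⟨⟨_, hu⟩, Or.inl rfl, rfl⟩
        · exact ⟨⟨_, hv⟩, Or.inr rfl, rfl⟩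
    have : Finite (Abelianization E) := Finite.of_surjective _ (CfsgLib.FusionTorus.of_surjective E)
    have hK : Nat.card (Abelianization E) = 3 ^ 3 := by
      have h3 := (commutator E).card_mul_index
      rw [hD, hcE, show 3 ^ 4 = 3 * 3 ^ 3 by norm_num] at h3
      exact Nat.eq_of_mul_eq_mul_left (by norm_num) ((congrArg (3 * ·) (Subgroup.index_eq_card _).symm).trans h3)
    have hgen : Subgroup.closure ({Abelianization.of u, Abelianization.of v} : Set (Abelianization E)) = ⊤ := by
      rw [← Set.image_pair, ← MonoidHom.map_closure, huv, ← MonoidHom.range_eq_map]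
      exact MonoidHom.range_eq_top.mpr (CfsgLib.FusionTorus.of_surjective E)
    have hexp : ¬ ∀ z : Abelianization E, z ^ 3 = 1 := fun hexp => by
      have := card_le_sq_of_pair (p := 3) hgen hexp
      rw [hK] at this
      norm_num at this
    have hflag : ∀ L₁ L₂ : Subgroup (Abelianization E), (∀ a : MulAut (Abelianization E), ∀ z ∈ L₁, a z ∈ L₁) →
        (∀ a : MulAut (Abelianization E), ∀ z ∈ L₂, a z ∈ L₂) → L₁ ≤ L₂ → Nat.card L₁ = 3 →
        Nat.card L₂ = 3 ^ 2 → False := by
      intro L₁ L₂ i1 i2 h12 c1 c2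
      have hc : ∀ X : Subgroup (Abelianization E),
          Nat.card (X.comap (Abelianization.of : E →* Abelianization E)) = 3 * Nat.card X := fun X => by
        have h1 := AbelianIndexP.card_split (Abelianization.of : E →* Abelianization E) (X.comap Abelianization.of)
        rw [Subgroup.map_comap_eq_self_of_surjective (CfsgLib.FusionTorus.of_surjective E),
          inf_eq_right.mpr (Subgroup.ker_le_comap _ _)] at h1
        rw [h1, Abelianization.ker_of, hD]
      let Ls : ℕ → Subgroup E := fun i =>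
        match i with
        | 0 => ⊥
        | 1 => commutator E
        | 2 => L₁.comap Abelianization.of
        | 3 => L₂.comap Abelianization.of
        | _ => ⊤
      refine CfsgLib.FusionFlag.not_flag hS hE 4 Ls rfl rfl ?_ ?_ ?_
      · intro i hi a w hw
        interval_cases i
        · exact (Subgroup.mem_bot.mpr (by rw [Subgroup.mem_bot.mp hw, map_one]) : a w ∈ (⊥ : Subgroup E))
        · exact CfsgLib.FusionFourth.inv_commutator a w hw
        · show Abelianization.of (a w) ∈ L₁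
          rw [← CfsgLib.FusionTorus.act_of]; exact i1 _ _ hw
        · show Abelianization.of (a w) ∈ L₂
          rw [← CfsgLib.FusionTorus.act_of]; exact i2 _ _ hw
        · exact Subgroup.mem_top _
      · intro i hi
        interval_cases i
        · exact bot_le
        · show commutator E ≤ L₁.comap Abelianization.of
          rw [← Abelianization.ker_of]; exact Subgroup.ker_le_comap _ _
        · exact Subgroup.comap_mono h12
        · exact le_top
      · intro i hi
        interval_cases i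
        · show Nat.card (commutator E) = 3 * Nat.card (⊥ : Subgroup E)
          rw [hD, Subgroup.card_bot]
        · show Nat.card (L₁.comap Abelianization.of) = 3 * Nat.card (commutator E)
          rw [hc, c1, hD]
        · show Nat.card (L₂.comap Abelianization.of) = 3 * Nat.card (L₁.comap Abelianization.of)
          rw [hc, hc, c1, c2]; norm_num
        · show Nat.card (⊤ : Subgroup E) = 3 * Nat.card (L₂.comap Abelianization.of)
          rw [hc, c2, Subgroup.card_top, hcE]; norm_num
    rcases CfsgLib.FusionFlag.classify_cube (p := 3) hK hflag with ⟨-, h⟩ | ⟨-, -, h⟩ | ⟨h, -⟩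
    · exact hexp h
    · exact hexp h
    · norm_num at h
  · have h1 : Nat.card (W : Subgroup (Equiv.Perm (Fin 9))) ∣ Nat.card (Equiv.Perm (Fin 9)) :=
      Subgroup.card_subgroup_dvd_card _
    rw [← Nat.card_congr e.toEquiv, hcard, Nat.card_perm, Nat.card_eq_fintype_card, Fintype.card_fin] at h1
    norm_num [Nat.factorial] at h1

open CfsgLib.MaxClassSplit (Setting) in
theorem false_of_pearl (hS : IsPGroup p S) (hF : F.IsSaturated p) (hp2 : p ≠ 2) (hp7 : p ≠ 7)
    (hcard : Nat.card S = p ^ 5) (hna : NoAbel S p) (hhyp : F.hyperfocalSubgroup p = S)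
    (hnoCube : ∀ E, F.IsEssential p E → Nat.card E = p ^ 3 → ¬ IsElementaryAbelian p E)
    {A : Subgroup Ω} (hA : F.IsEssential p A) (hcA : Nat.card A = p ^ 2) (hel : IsElementaryAbelian p A) :
    False := by
  have hp' := hp.out
  have hAS := hA.1.1
  have : Finite A := finite_of_le hAS
  have : Finite (normalizerIn S A) := finite_of_le normalizerIn_le
  obtain ⟨n, hd, -⟩ := CfsgLib.Pearl.data_of_pearl hS hF hp2 hA
    (Or.inl ⟨hcA, fun e he => ⟨hel.2 e he, hel.1⟩⟩)
  obtain ⟨x₀, -, hx₀⟩ := hd.setting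
  obtain rfl : n = 5 := Nat.pow_right_injective hp'.two_le (hd.card.symm.trans hcard)
  obtain ⟨hM, hMna, h4A, hinf, hCA, hCa⟩ := square_normalizer hx₀ hS hcard hA hcA
  have hA' : Nat.card (A.subgroupOf S) = p ^ 2 := by
    rw [Nat.card_congr (Subgroup.subgroupOfEquivOfLe hAS).toEquiv, hcA]
  have h4c : Nat.card (L S 4) = p := by rw [hx₀.card_L (by omega) (by omega), pow_one]
  have : Group.IsNilpotent S := hx₀.nilpotent
  obtain ⟨g₀, hg₀, hg₀A⟩ : ∃ g ∈ normalizerIn S A, g ∉ A := SetLike.exists_of_lt (lt_of_le_of_ne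
    (le_normalizerIn hAS) fun e => by
      rw [← e, hcA] at hM
      exact absurd (Nat.pow_right_injective hp'.two_le hM) (by norm_num))
  obtain ⟨c₀, hc₀, hc₀1⟩ : ∃ c₀ ∈ L S 4, c₀ ≠ 1 := by
    by_contra! hall
    exact hp'.ne_one (h4c.symm.trans (Subgroup.card_eq_one.mpr ((Subgroup.eq_bot_iff_forall _).mpr hall)))
  have h4p : ∀ r ∈ L S 4, r ^ p = 1 := fun r hr => Subtype.ext (hel.2 _ (h4A hr))
  have h4gen : ∀ c ∈ L S 4, c ≠ 1 → L S 4 = Subgroup.zpowers c := fun c hc hc1 =>
    (Subgroup.eq_of_le_of_card_ge (Subgroup.zpowers_le.mpr hc) (by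
      rw [h4c, Nat.card_zpowers, orderOf_eq_prime (h4p c hc) hc1])).symm
  let c₀A : A := ⟨c₀, h4A hc₀⟩
  have hidx : Nat.card (normalizerIn S A) = p * Nat.card A := by rw [hM, hcA, pow_succ']
  have hEss : CfsgLib.FusionTorus.EssTrans F p A g₀ c₀A := by
    refine ⟨hA, hidx, hg₀, hg₀A, ?_, ?_, fun u v hv => ?_⟩
    · rw [commutator_def, Subgroup.commutator_le]
      intro a _ b _
      rw [commutatorElement_eq_one_iff_mul_comm.mpr (hel.1.is_comm.comm a b)]
      exact one_mem _
    · rw [← map_pow, show c₀A ^ p = 1 from Subtype.ext (hel.2 _ c₀A.2), map_one]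
    · have hr : (⁅(⟨g₀, hg₀.1⟩ : S), (⟨u, hAS u.2⟩ : S)⁻¹⁆)⁻¹ ∈ L S 4 := by
        refine inv_mem (hinf.le ⟨?_, comm_mem_two _ _⟩)
        show g₀ * (u : Ω)⁻¹ * g₀⁻¹ * ((u : Ω)⁻¹)⁻¹ ∈ A
        exact mul_mem ((Subgroup.mem_normalizer_iff.mp hg₀.2 _).mp (inv_mem u.2)) (inv_mem (inv_mem u.2))
      rw [h4gen c₀ hc₀ hc₀1] at hr
      obtain ⟨k, hk⟩ := Subgroup.mem_zpowers_iff.mp hr
      refine Subgroup.mem_zpowers_iff.mpr ⟨k, ?_⟩
      rw [← map_zpow]
      refine congrArg _ (Subtype.ext ?_)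
      have hk' := congrArg (Subtype.val : S → Ω) hk
      simp only [Subgroup.coe_zpow, Subgroup.coe_inv, commutatorElement_def, Subgroup.coe_mul] at hk'
      rw [Subgroup.coe_zpow, Subgroup.coe_mul, Subgroup.coe_inv, hv]
      show (c₀ : Ω) ^ k = _
      rw [hk']
      group
  obtain ⟨xA, hxne, -, -, -, htor⟩ := hEss.exists_torus hS hF fun a b => hel.1.is_comm.comm a b
  let x : S := ⟨xA, hAS xA.2⟩
  have hxA : x ∈ A.subgroupOf S := xA.2
  have hxp : x ^ p = 1 := Subtype.ext (hel.2 _ xA.2)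
  have hx4 : x ∉ L S 4 := fun hx => hxne (by
    have := congrArg (Subtype.val : S → Ω) (Subgroup.mem_center_iff.mp (L4_central hx₀ hx) ⟨g₀, hg₀.1⟩)
    simp only [Subgroup.coe_mul] at this
    rw [show g₀ * (xA : Ω) = xA * g₀ from this, mul_inv_cancel_right])
  have hX : Setting p 5 x := by
    refine ⟨hx₀.card, hx₀.cls, hx₀.three, hxp, ?_⟩
    rw [← hA']
    refine congrArg (fun H : Subgroup S => Nat.card H) (le_antisymm (fun u hu => ?_) fun u hu => ?_)
    · exact hCa x hxA hx4 u (Subgroup.mem_centralizer_singleton_iff.mp hu)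
    · exact Subgroup.mem_centralizer_singleton_iff.mpr (IsPGroup.commutative_of_card_eq_prime_sq hA'
        (⟨u, hu⟩ : A.subgroupOf S) ⟨x, hxA⟩ |> congrArg Subtype.val)
  set M' := (normalizerIn S A).subgroupOf S with hM'
  have hM'c : Nat.card M' = p ^ 3 := by
    rw [hM', Nat.card_congr (Subgroup.subgroupOfEquivOfLe normalizerIn_le).toEquiv, hM]
  have h3M : L S 3 ≤ M' := fun u hu => ⟨u.2, mem_normalizer_of_forall fun a ha => by
    have h1 : ⁅u, (⟨a, hAS ha⟩ : S)⁆ ∈ L S 4 :=
      comm_mem_L (i := 3) (j := 1) (by omega) le_rfl hu (by rw [L_one]; exact Subgroup.mem_top _)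
    have h2 : (u * ⟨a, hAS ha⟩ * u⁻¹ : S) ∈ A.subgroupOf S := by
      rw [show u * (⟨a, hAS ha⟩ : S) * u⁻¹ = ⁅u, (⟨a, hAS ha⟩ : S)⁆ * ⟨a, hAS ha⟩ by
        rw [commutatorElement_def]; group]
      exact mul_mem (h4A h1) ha
    exact h2⟩
  have hxM : x ∈ M' := le_normalizerIn hAS xA.2
  have hx3 : x ∉ L S 3 := fun h => hX.notMem_two (L_anti (by omega) h)
  have hdecM : ∀ m ∈ M', ∃ i : ℤ, ∃ l ∈ L S 3, m = x ^ i * l := fun m hm =>
    exists_zpow_mul (p := p) h3M (by rw [hM'c, hX.card_L (by omega) (by omega), ← pow_succ']) hxM hx3 hm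
  have hNS : normalizerIn S A ≤ S := normalizerIn_le
  obtain ⟨hMfn, hN⟩ := cube_normalizer (F := F) hX hS hcard hNS hM hMna
  set N' := (normalizerIn S (normalizerIn S A)).subgroupOf S with hN'
  have hN'c : Nat.card N' = p ^ 4 := by
    rw [hN', Nat.card_congr (Subgroup.subgroupOfEquivOfLe normalizerIn_le).toEquiv, hN]
  have hN'i : N'.index = p := by
    have h3 := N'.card_mul_index
    rw [hN'c, hcard, pow_succ p 4] at h3
    exact Nat.eq_of_mul_eq_mul_left (pow_pos hp'.pos 4) h3
  have hN'n : N'.Normal := CfsgLib.PGroup.normal_of_index_eq hS hN'i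
  have h2N : L S 2 ≤ N' := commutator_le_of_index hS hN'i
  have hxN : x ∈ N' := le_normalizerIn hNS hxM
  obtain ⟨b₀, hb₀⟩ : ∃ b : S, b ∉ N' := by
    by_contra! hall
    have := Subgroup.card_le_of_le (show (⊤ : Subgroup S) ≤ _ from fun u _ => hall u)
    rw [Subgroup.card_top, hN'c, hcard, Nat.pow_le_pow_iff_right hp'.one_lt] at this
    omega
  set s := ⁅b₀, x⁆ with hsdef
  have hs : s ∈ L S 2 := comm_mem_two _ _
  have hs3 : s ∉ L S 3 := by
    intro hs3
    refine hb₀ ⟨b₀.2, mem_normalizer_of_forall fun m hm => ?_⟩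
    obtain ⟨i, l, hl, e⟩ := hdecM ⟨m, hNS hm⟩ hm
    show (b₀ * ⟨m, hNS hm⟩ * b₀⁻¹ : S) ∈ M'
    rw [e, show b₀ * (x ^ i * l) * b₀⁻¹ = (s * x) ^ i * (b₀ * l * b₀⁻¹) by
      rw [hsdef, commutatorElement_def, inv_mul_cancel_right, conj_zpow]; group]
    exact mul_mem (zpow_mem (mul_mem (h3M hs3) hxM) i) (h3M ((inferInstance : (L S 3).Normal).conj_mem l hl b₀))
  set g := ⁅s, x⁆ with hgdef
  have hg : g ∈ L S 3 := comm_mem_L (i := 2) (j := 1) (by omega) le_rfl hs (by rw [L_one]; exact Subgroup.mem_top _)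
  have hg4 : g ∉ L S 4 := fun h => hX.shift (j := 2) le_rfl (by omega) hs hs3 (by
    rw [← commutatorElement_inv]; exact inv_mem h)
  set c := ⁅g, x⁆ with hcdef
  have hc : c ∈ L S 4 := comm_mem_L (i := 3) (j := 1) (by omega) le_rfl hg (by rw [L_one]; exact Subgroup.mem_top _)
  have hc1 : c ≠ 1 := fun h => hX.shift (j := 3) (by omega) (by omega) hg hg4 (by
    rw [← commutatorElement_inv, ← hcdef, h, inv_one]; exact one_mem _)
  have hcp : c ^ p = 1 := h4p c hc
  have h4c' : L S 4 = Subgroup.zpowers c := h4gen c hc hc1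
  let π := QuotientGroup.mk' (L S 4)
  have hπ : ∀ {u}, u ∈ L S 4 → π u = 1 := fun hu => (QuotientGroup.eq_one_iff _).mpr hu
  have hgπ : ∀ u, Commute (π g) (π u) := fun u => by
    rw [← commutatorElement_eq_one_iff_commute, ← map_commutatorElement,
      hπ (comm_mem_L (i := 3) (j := 1) (by omega) le_rfl hg (by rw [L_one]; exact Subgroup.mem_top _))]
  have hdec3 : ∀ u ∈ L S 3, ∃ a : ℤ, ∃ r ∈ L S 4, u = g ^ a * r := fun u hu =>
    exists_zpow_mul (p := p) (L_anti (by omega)) (by rw [h4c, hX.card_L (by omega) (by omega), pow_two]) hg hg4 hu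
  obtain ⟨a, r, hr, hbs₀⟩ := hdec3 ⁅b₀, s⁆
    (comm_mem_L (i := 1) (j := 2) le_rfl (by omega) (by rw [L_one]; exact Subgroup.mem_top _) hs)
  set b := b₀ * x ^ a with hbdef
  have hbx : ⁅b, x⁆ = s := by rw [hbdef, comm_mul_left_commute ((Commute.refl x).zpow_left a)]
  have hbs : ⁅b, s⁆ ∈ L S 4 := by
    rw [← QuotientGroup.eq_one_iff]
    show π _ = 1
    rw [hbdef, commutatorElement_mul_left_eq_conj_mul, map_mul, map_mul, map_mul, map_inv, hbs₀, map_mul, hπ hr,
      mul_one, map_zpow, map_commutatorElement, map_zpow]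
    have h1 : ⁅π x ^ a, π s⁆ = π g ^ (-a) := by
      have h2 : ⁅π s, π x⁆ = π g := by rw [← map_commutatorElement]
      rw [← commutatorElement_inv]
      conv_lhs => rw [← zpow_one (π s)]
      rw [comm_zpow_zpow (h2 ▸ (hgπ s).symm) (h2 ▸ (hgπ x).symm), h2, one_mul, zpow_neg]
    rw [h1, ((hgπ b₀).zpow_left (-a)).symm.eq, mul_inv_cancel_right, ← zpow_add, neg_add_cancel, zpow_zero]
  have hbg : Commute b g := by
    have hcs : Commute ⁅b, s⁆ (s * x) := (Subgroup.mem_center_iff.mp (L4_central hX hbs) _).symm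
    have hcs' : ∀ u, Commute ⁅b, s⁆ u := fun u => (Subgroup.mem_center_iff.mp (L4_central hX hbs) u).symm
    have h1 : b * g * b⁻¹ = g := by
      calc b * g * b⁻¹ = ⁅⁅b, s⁆ * s, s * x⁆ := by
            rw [hgdef, show b * ⁅s, x⁆ * b⁻¹ = ⁅b * s * b⁻¹, b * x * b⁻¹⁆ by
              simp only [commutatorElement_def]; group]
            rw [show b * s * b⁻¹ = ⁅b, s⁆ * s by rw [commutatorElement_def, inv_mul_cancel_right],
              show b * x * b⁻¹ = ⁅b, x⁆ * x by rw [commutatorElement_def, inv_mul_cancel_right], hbx]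
        _ = ⁅s * ⁅b, s⁆, s * x⁆ := by rw [(hcs' s).eq]
        _ = ⁅s, s * x⁆ := comm_mul_left_commute hcs
        _ = s * g * s⁻¹ := by rw [hgdef, commutatorElement_def, commutatorElement_def]; group
        _ = g := by rw [(L2_comm hX hs (L_anti (by omega) hg)).eq, mul_inv_cancel_right]
    exact mul_inv_eq_iff_eq_mul.mp h1
  have hbN : b ∉ N' := fun hb => hb₀ (by
    have := mul_mem hb (inv_mem (zpow_mem hxN a))
    rwa [hbdef, mul_inv_cancel_right] at this)
  clear_value b
  have hdec2 : ∀ u ∈ L S 2, ∃ k l m : ℤ, u = s ^ k * g ^ l * c ^ m := by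
    intro u hu
    obtain ⟨k, hk⟩ := hX.split le_rfl hs hs3 hu
    obtain ⟨l, r, hr, e⟩ := hdec3 _ hk
    rw [h4c'] at hr
    obtain ⟨m, rfl⟩ := Subgroup.mem_zpowers_iff.mp hr
    exact ⟨k, l, m, by rw [mul_assoc, ← e, mul_inv_cancel_left]⟩
  have hccen : ∀ u, Commute u c := fun u => Subgroup.mem_center_iff.mp (L4_central hX hc) u
  have hbsne : ¬ Commute b s := by
    intro h
    set K := Subgroup.closure (insert b (L S 2 : Set S))
    refine false_of_comm hcard hna K ?_ ?_
    · have hb2 : ∀ u ∈ L S 2, Commute b u := fun u hu => by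
        obtain ⟨k, l, m, rfl⟩ := hdec2 u hu
        exact ((h.zpow_right k).mul_right (hbg.zpow_right l)).mul_right ((hccen b).zpow_right m)
      have := Subgroup.isMulCommutative_closure (k := insert b (L S 2 : Set S)) fun u hu v hv => by
        rcases hu with rfl | hu <;> rcases hv with rfl | hv
        · rfl
        · exact hb2 v hv
        · exact (hb2 u hu).symm
        · exact L2_comm hX hu hv
      exact fun u hu v hv => setLike_mul_comm hu hv
    · have hlt : L S 2 < K := lt_of_le_of_ne (fun u hu => Subgroup.subset_closure (Or.inr hu)) fun e =>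
        hbN (h2N (e.ge (Subgroup.subset_closure (Set.mem_insert b _))))
      have := CfsgLib.FusionFourth.card_lt_mul hcard hlt
      rwa [hX.card_L le_rfl (by omega), ← pow_succ] at this
  have hNdec : ∀ u ∈ N', ∃ i : ℤ, ∃ l ∈ L S 2, u = x ^ i * l := fun u hu =>
    exists_zpow_mul (p := p) h2N (by rw [hN'c, hX.card_L le_rfl (by omega), ← pow_succ']) hxN hX.notMem_two hu
  have hfr : MaxShape p x b s g c := by
    refine ⟨hbx, rfl, rfl, hbg, L2_comm hX hs (L_anti (by omega) hg), L4_central hX hc, hc1, hcp, hxp, ?_, hbsne,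
      fun u => ?_⟩
    · rw [h4c'] at hbs
      obtain ⟨f', hf⟩ := Subgroup.mem_zpowers_iff.mp hbs
      exact ⟨f', hf.symm⟩
    · obtain ⟨j, m, hm, e⟩ := exists_zpow_mul (p := p) le_top
        (by rw [Subgroup.card_top, hcard, hN'c, ← pow_succ']) (Subgroup.mem_top b) hbN (Subgroup.mem_top u⁻¹)
      obtain ⟨i, l, hl, hm'⟩ := hNdec m⁻¹ (inv_mem hm)
      obtain ⟨k', l', m', hu'⟩ := hdec2 (b ^ j * l * (b ^ j)⁻¹) ((inferInstance : (L S 2).Normal).conj_mem l hl _)
      refine ⟨i, -j, k', l', m', ?_⟩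
      rw [← hu', ← inv_inv u, e, mul_inv_rev, hm']
      group
  -- `N_S(A)` and its normalizer are not essential
  let ι : normalizerIn S A →* S := Subgroup.inclusion hNS
  have hι : Function.Injective ι := Subgroup.inclusion_injective _
  have hιr : M' ≤ ι.range := fun u hu => ⟨⟨u, hu⟩, rfl⟩
  have hgM : g ∈ M' := h3M hg
  have hMne : ¬ F.IsEssential p (normalizerIn S A) := by
    intro hess
    let Ls : ℕ → Subgroup (normalizerIn S A) := fun i =>
      match i with
      | 0 => ⊥
      | 1 => (L S 4).comap ι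
      | 2 => (L S 3).comap ι
      | _ => ⊤
    have hBi : ∀ α ∈ F.autGroup (normalizerIn S A), ∀ u, ι u ∈ L S 4 → ι (α u) ∈ L S 4 := by
      intro α _ u hu
      rw [h4c'] at hu
      obtain ⟨k, hk⟩ := Subgroup.mem_zpowers_iff.mp hu
      have hu' : u = ⁅(⟨g, hgM⟩ : normalizerIn S A), ⟨(x : Ω), le_normalizerIn hAS xA.2⟩⁆ ^ k :=
        hι (by rw [map_zpow, map_commutatorElement]; exact hk.symm)
      rw [hu', map_zpow, map_commutatorElement, map_zpow, map_commutatorElement]
      refine zpow_mem ?_ k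
      refine comm_mem_of_gens (N := L S 4) (M := M') (s := insert x (L S 3 : Set S)) (fun m hm => ?_) ?_ _
        (α _).2 _ (α _).2
      · obtain ⟨i, l, hl, rfl⟩ := hdecM m hm
        exact mul_mem (zpow_mem (Subgroup.subset_closure (Set.mem_insert _ _)) i)
          (Subgroup.subset_closure (Set.mem_insert_of_mem _ hl))
      · rintro v (rfl | hv) w (rfl | hw)
        · rw [commutatorElement_self]; exact one_mem _
        · exact comm_mem_L (i := 1) (j := 3) le_rfl (by omega) (by rw [L_one]; exact Subgroup.mem_top _) hw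
        · exact comm_mem_L (i := 3) (j := 1) (by omega) le_rfl hv (by rw [L_one]; exact Subgroup.mem_top _)
        · exact L_anti (by omega) (comm_mem_L (i := 3) (j := 3) (by omega) (by omega) hv hw)
    have h3r : L S 3 ≤ ι.range := h3M.trans hιr
    have h4r : L S 4 ≤ ι.range := (L_anti (by omega)).trans h3r
    refine CfsgLib.FusionTorus.not_flag' hS hess 3 Ls rfl rfl ?_ ?_ ?_
    · intro i hi α hα u hu
      interval_cases i
      · exact (Subgroup.mem_bot.mpr (by rw [Subgroup.mem_bot.mp hu, map_one]) : α u ∈ (⊥ : Subgroup _))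
      · exact hBi α hα u hu
      · have hW : L S 3 = L S 4 ⊔ Subgroup.zpowers g := by
          refine le_antisymm (fun v hv => ?_) (sup_le (L_anti (by omega)) (Subgroup.zpowers_le.mpr hg))
          obtain ⟨a', r', hr', rfl⟩ := hdec3 v hv
          exact mul_mem (Subgroup.mem_sup_right (zpow_mem (Subgroup.mem_zpowers g) a')) (Subgroup.mem_sup_left hr')
        refine line_inv hA.2.1 ?_ (inferInstance : (L S 3).Normal) (y := x) (n := s) (g := g) hW ?_
          (fun z hz => h4A hz) xA.2 hxp rfl hc ?_ ?_ hgM (fun m hm => ?_) hα (hBi α hα) u hu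
        · rw [hM, hcard]; exact Nat.pow_lt_pow_right hp'.one_lt (by norm_num)
        · rw [hX.card_L (by omega) (by omega), hcA]
        · rw [commutatorElement_eq_one_iff_commute.mpr (L2_comm hX hs (L_anti (by omega) hg))]; exact one_mem _
        · rw [← QuotientGroup.eq_one_iff]
          show π _ = 1
          have key : ∀ n : ℕ, ⁅π s, π x ^ n⁆ = π g ^ n := by
            intro n
            induction n with
            | zero => rw [pow_zero, pow_zero, commutatorElement_one_right]
            | succ n ih =>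
              rw [pow_succ, commutatorElement_mul_right_eq_mul_conj, ih, ← map_commutatorElement, ← hgdef, pow_succ]
              show π g ^ n * π x ^ n * π g * (π x ^ n)⁻¹ = _
              rw [mul_assoc (π g ^ n), ((hgπ x).pow_right n).symm.eq, ← mul_assoc, mul_inv_cancel_right]
          rw [map_pow, ← key p, ← map_pow, hxp, map_one, commutatorElement_one_right]
        · obtain ⟨i', l, hl, rfl⟩ := hdecM m hm
          obtain ⟨a', r', hr', rfl⟩ := hdec3 l hl
          exact ⟨i', a', r', hr', by rw [mul_assoc]⟩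
      · exact Subgroup.mem_top _
    · intro i hi
      interval_cases i
      · exact bot_le
      · exact Subgroup.comap_mono (L_anti (by omega))
      · exact le_top
    · intro i hi
      interval_cases i
      · show Nat.card ((L S 4).comap ι) = p * Nat.card (⊥ : Subgroup _)
        rw [← Subgroup.card_map_of_injective (K := (L S 4).comap ι) hι, Subgroup.map_comap_eq_self h4r, h4c,
          Subgroup.card_bot, mul_one]
      · show Nat.card ((L S 3).comap ι) = p * Nat.card ((L S 4).comap ι)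
        rw [← Subgroup.card_map_of_injective (K := (L S 4).comap ι) hι, Subgroup.map_comap_eq_self h4r, h4c,
          ← Subgroup.card_map_of_injective (K := (L S 3).comap ι) hι, Subgroup.map_comap_eq_self h3r,
          hX.card_L (by omega) (by omega), pow_two]
      · show Nat.card (⊤ : Subgroup (normalizerIn S A)) = p * Nat.card ((L S 3).comap ι)
        rw [← Subgroup.card_map_of_injective (K := (L S 3).comap ι) hι, Subgroup.map_comap_eq_self h3r,
          Subgroup.card_top, hM, hX.card_L (by omega) (by omega), pow_succ']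
  have hNN : normalizerIn S (normalizerIn S (normalizerIn S A)) = S := normalizerIn_eq hS hcard normalizerIn_le hN
  have hNne : ¬ F.IsEssential p (normalizerIn S (normalizerIn S A)) := by
    intro hess
    have : Finite (normalizerIn S (normalizerIn S A)) := finite_of_le normalizerIn_le
    rcases shape_of_essential hS hF hp2 hcard hna hess with ⟨h | h, -⟩ | ⟨h, -⟩ | ⟨-, -, hZ, -, -⟩
    · rw [hN] at h; exact absurd (Nat.pow_right_injective hp'.two_le h) (by norm_num)
    · rw [hN] at h; exact absurd (Nat.pow_right_injective hp'.two_le h) (by norm_num)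
    · rw [hN] at h; exact absurd (Nat.pow_right_injective hp'.two_le h) (by norm_num)
    let κ : normalizerIn S (normalizerIn S A) →* S := Subgroup.inclusion normalizerIn_le
    have hκ : Function.Injective κ := Subgroup.inclusion_injective _
    have hle : (Subgroup.center (normalizerIn S (normalizerIn S A))).map κ ≤ L S 4 := by
      rintro _ ⟨z, hz, rfl⟩
      have hcom : ∀ u : S, u ∈ N' → Commute (κ z) u := fun u hu =>
        ((congrArg κ (Subgroup.mem_center_iff.mp hz ⟨u, hu⟩)).symm)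
      have hzA : κ z ∈ A.subgroupOf S := hCa x hxA hx4 _ (hcom x hxN)
      obtain ⟨i, l, hl, e⟩ := exists_zpow_mul (p := p) h4A (by rw [hA', h4c, pow_two]) hxA hx4 hzA
      by_cases hi : (i : ZMod p) = 0
      · rw [e, zpow_eq_one_of_zmod hxp hi, one_mul]; exact hl
      exfalso
      have hxs : Commute (x ^ i) s := by
        have h1 := (hcom s (h2N hs))
        rw [e] at h1
        have hls : Commute l s := (Subgroup.mem_center_iff.mp (L4_central hX hl) s).symm
        have := h1.mul_left hls.inv_left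
        rwa [mul_inv_cancel_right] at this
      have hxs' : Commute x s := Subgroup.mem_centralizer_singleton_iff.mp
        (mem_of_zpow_mem (p := p) (H := Subgroup.centralizer ({s} : Set S)) (by rw [hxp]; exact one_mem _) hi
          (Subgroup.mem_centralizer_singleton_iff.mpr hxs.eq))
      exact hg4 (by rw [hgdef, commutatorElement_eq_one_iff_commute.mpr hxs'.symm]; exact one_mem _)
    have := Subgroup.card_le_of_le hle
    rw [Subgroup.card_map_of_injective hκ, hZ, h4c] at this
    nlinarith [hp'.two_le]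
  -- the torus on `S`
  obtain rfl : p = 3 := by
    have htt : ((2 * ((p + 1) / 2) : ℕ) : ZMod p) = 1 := by
      rw [Nat.mul_div_cancel' (hp'.eq_two_or_odd'.resolve_left hp2).add_one.two_dvd]; simp
    obtain ⟨α, hα, hnα, hαc, hαx, -⟩ := htor 2 ((p + 1) / 2) htt
    obtain ⟨β, hβ, hβe⟩ := CfsgLib.FusionTorus.exists_extend_normalizing hS hF hA.2.1 hα hnα
    obtain ⟨γ, hγ, hγe⟩ := CfsgLib.FusionTorus.exists_extend_step hS hF hMfn
      (lt_of_card hcard hNS hM (by omega)) hMne (by rw [hN, hM, pow_succ']) hβ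
    obtain ⟨δ, hδ, hδe⟩ := CfsgLib.FusionTorus.exists_extend_step hS hF
      (fullyNormalized_of_normal normalizerIn_le hNN) (lt_of_card hcard normalizerIn_le hN (by omega)) hNne
      (by rw [hNN, hN, hcard, pow_succ']) hγ
    obtain ⟨ψ, -, hψe⟩ := exists_aut_top hNN hδ
    have hval : ∀ z : A, ψ ⟨z, hAS z.2⟩ = ⟨α z, hAS (α z).2⟩ := fun z =>
      Subtype.ext ((hψe ⟨z, le_normalizerIn normalizerIn_le (le_normalizerIn hNS (le_normalizerIn hAS z.2))⟩ _ rfl).trans
        ((hδe ⟨z, le_normalizerIn hNS (le_normalizerIn hAS z.2)⟩).trans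
          ((hγe ⟨z, le_normalizerIn hAS z.2⟩).trans (hβe z))))
    have hψx : ψ x = x ^ ((((p + 1) / 2 : ℕ)) : ℤ) := by
      rw [zpow_natCast, show x = ⟨xA, hAS xA.2⟩ from rfl, hval]
      exact Subtype.ext (congrArg (Subtype.val : A → Ω) hαx)
    have hψc₀ : ψ c₀ = c₀ ^ 2 := by
      rw [show c₀ = ⟨c₀A, hAS c₀A.2⟩ from rfl, hval]
      exact Subtype.ext (congrArg (Subtype.val : A → Ω) hαc)
    have hψc : ψ c = c ^ (2 : ℤ) := by
      have hc' : c ∈ Subgroup.zpowers c₀ := h4gen c₀ hc₀ hc₀1 ▸ hc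
      obtain ⟨k, hk⟩ := Subgroup.mem_zpowers_iff.mp hc'
      rw [← hk, map_zpow, hψc₀, ← zpow_natCast, ← zpow_mul, ← zpow_mul, mul_comm]; norm_num
    obtain ⟨a', b', -, -, hat, hac, -⟩ := hfr.eta ψ
    have h1 : (2 : ZMod p) * a' = 1 := by
      rw [hat _ hψx, Int.cast_natCast]
      exact_mod_cast htt
    have h2 : ((a' : ℤ) : ZMod p) ^ 5 = 2 := by
      have := zmod_of_zpow_eq hcp hc1 (hac.symm.trans hψc)
      push_cast at this
      exact this
    have h63 : ((63 : ℕ) : ZMod p) = 0 := by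
      have h4 : (2 : ZMod p) ^ 6 = 1 := by
        calc (2 : ZMod p) ^ 6 = 2 ^ 5 * (a' : ZMod p) ^ 5 := by rw [h2]; ring
          _ = ((2 : ZMod p) * a') ^ 5 := by ring
          _ = 1 := by rw [h1, one_pow]
      push_cast
      linear_combination h4
    have h5 := (ZMod.natCast_eq_zero_iff 63 p).mp h63
    rw [show 63 = 3 ^ 2 * 7 by norm_num] at h5
    rcases hp'.dvd_mul.mp h5 with h6 | h6
    · exact (Nat.prime_dvd_prime_iff_eq hp' Nat.prime_three).mp (hp'.dvd_of_dvd_pow h6)
    · exact absurd ((Nat.prime_dvd_prime_iff_eq hp' (by norm_num)).mp h6) hp7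
  -- `p = 3`
  have hno4 : ∀ E, F.IsEssential 3 E → Nat.card E ≠ 3 ^ 4 := fun E hE =>
    no_four_three hS hF hcard hna hA hcA hel hE
  have hgen : ∀ u ∈ ({s, g, c} : Set S), u ∈ L S 2 := by
    rintro u (rfl | rfl | rfl)
    exacts [hs, L_anti (by omega) hg, L_anti (by omega) hc]
  have hDL : hfr.D ≤ L S 2 := (Subgroup.closure_le _).mpr hgen
  have hbne : Abelianization.of b ≠ 1 := fun e => hbN (h2N ((Abelianization.ker_of (G := S)).le e))
  obtain ⟨f, hfw, hf⟩ := CfsgLib.FusionTorus.exists_invariant_hom hS hF hbne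
    (by rw [← map_pow]; exact (Abelianization.ker_of (G := S)).ge (hX.pow_mem_two b)) fun η _ => by
      obtain ⟨a', b', ha0, hb', -, -, d, hd, e⟩ := hfr.eta η
      have h2 : ((b' : ℤ) : ZMod 3) = 1 := by
        rw [hb']
        exact sq_eq_one_three _ ha0
      obtain ⟨k, hk⟩ := (ZMod.intCast_eq_intCast_iff_dvd_sub 1 b' 3).mp (by rw [h2, Int.cast_one])
      have h3 : Abelianization.of b ^ 3 = 1 := by
        rw [← map_pow]; exact (Abelianization.ker_of (G := S)).ge (hX.pow_mem_two b)
      rw [e, map_mul, (Abelianization.ker_of (G := S)).ge (show d ∈ commutator S from hDL hd), mul_one, map_zpow,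
        show b' = 1 + (3 : ℕ) * k by omega, zpow_add, zpow_one, zpow_mul, zpow_natCast, h3, one_zpow, mul_one]
  refine CfsgLib.FusionTorus.false_of_invariant_hom hS hF hhyp f hfw fun P hP hPc α hα z => ?_
  suffices Kept F f P from this α hα z _ _ rfl rfl
  rcases hPc with rfl | hPe
  · exact kept_top hf
  obtain ⟨k3, k2⟩ := kept_small hX hS hF hp2 hcard hna hno4 (kept_top hf)
  rcases shape_of_essential hS hF hp2 hcard hna hPe with ⟨h2 | h3, hPel⟩ | ⟨h3, hnc, -⟩ | ⟨h4, -⟩
  · exact k2 P hPe h2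
  · exact absurd hPel (hnoCube P hPe h3)
  · exact k3 P hP h3 hnc
  · exact absurd h4 (hno4 P hPe)

end CfsgLib.FusionFifth
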