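import Cfsg.Agent.Lib.Fusion.PPrimeNormal

/-!
# Values of maps between subgroups of a strongly closed subgroup under a character

Let `E` be weakly normal in `F` over `T` and `χ` a homomorphism from `Aut_F(T)` to a `p'`-group
killing `Aut_E(T)`. A map of `F` below `T` has value `χ α` when it is `α` after a map of `E`; the
value is unique on `E`-centric subgroups.
-/

namespace CfsgLib.Fusion.PPrimeChar

open Cfsg Cfsg.FusionSystem CfsgLib.Fusion CfsgLib.FusionNormal CfsgLib.Fusion.PPrimeRes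

variable {Ω : Type*} [Group Ω] {S T : Subgroup Ω} {F : FusionSystem S} {E : FusionSystem T}
variable {Δ : Type*} [Group Δ] {χ : ↥(F.autGroup T) →* Δ} {P Q X Y W : Subgroup Ω} {p : ℕ}
variable {f g : Ω → Ω} {d e : Δ}

/-! ### Automorphisms read as functions -/

theorem mapFn_ev {a : MulAut P} (hP : P ≤ S) (ha : a ∈ F.autGroup P) : MapFn F P (ev a) := by
  obtain ⟨f, hf, -, hfe⟩ := exists_mapFn_of_aut hP ha
  exact hf.congr fun x hx => by rw [ev_coe a hx]; exact hfe ⟨x, hx⟩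

theorem mem_autGroup_of_ev {a : MulAut P} (h : MapFn F P (ev a)) : a ∈ F.autGroup P :=
  (mem_autGroup_iff_mapFn h.le_S).mpr ⟨_, h, fun x => ev_coe a x.2⟩

theorem image_ev (a : MulAut P) : ev a '' (P : Set Ω) = P := by
  ext y
  constructor
  · rintro ⟨x, hx, rfl⟩; exact ev_mem a hx
  · exact fun hy => ⟨ev a⁻¹ y, ev_mem _ hy, ev_ev_inv a hy⟩

theorem exists_ev (hf : MapFn F P f) (hr : f '' P = (P : Set Ω)) :
    ∃ a ∈ F.autGroup P, ∀ x ∈ P, ev a x = f x := by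
  obtain ⟨a, ha, hae⟩ := hf.exists_aut hr
  exact ⟨a, ha, fun x hx => by rw [ev_coe a hx]; exact hae ⟨x, hx⟩⟩

theorem ev_ext {a b : MulAut P} (h : ∀ x ∈ P, ev a x = ev b x) : a = b :=
  MulEquiv.ext fun x => Subtype.ext (by
    have := h x x.2
    rwa [ev_coe a x.2, ev_coe b x.2] at this)

/-! ### Values -/

/-- `f` is an element with value `d` after a map of `E`. -/
def V (E : FusionSystem T) (χ : ↥(F.autGroup T) →* Δ) (X : Subgroup Ω) (f : Ω → Ω) (d : Δ) : Prop :=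
  ∃ α : F.autGroup T, χ α = d ∧ ∃ f₀, MapFn E X f₀ ∧ ∀ x ∈ X, f x = ev (α : MulAut T) (f₀ x)

theorem V.congr (h : V E χ X f d) (e' : ∀ x ∈ X, f x = g x) : V E χ X g d := by
  obtain ⟨α, hα, f₀, hf₀, he⟩ := h
  exact ⟨α, hα, f₀, hf₀, fun x hx => (e' x hx).symm.trans (he x hx)⟩

theorem V.mono (h : V E χ X f d) (hY : Y ≤ X) : V E χ Y f d := by
  obtain ⟨α, hα, f₀, hf₀, he⟩ := h
  exact ⟨α, hα, f₀, hf₀.mono hY, fun x hx => he x (hY hx)⟩

theorem v_of_E (hf : MapFn E X f) : V E χ X f 1 :=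
  ⟨1, map_one χ, f, hf, fun _ hx => (ev_one (hf.mem_S hx)).symm⟩

theorem v_ev (α : F.autGroup T) : V E χ T (ev (α : MulAut T)) (χ α) :=
  ⟨α, rfl, id, mapFn_id le_rfl, fun _ _ => rfl⟩

theorem exists_v (hE : E.IsInvariantIn F) (hX : X ≤ T) (hf : MapFn F X f) : ∃ d, V E χ X f d := by
  obtain ⟨a, f₀, ha, har, hf₀, he⟩ := mapFn_frattini hE hX hf
  obtain ⟨α, hα, hαe⟩ := exists_ev ha har
  exact ⟨χ ⟨α, hα⟩, ⟨α, hα⟩, rfl, f₀, hf₀, fun x hx => by
    rw [he x hx, hαe _ (hf₀.mem_S hx)]⟩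

theorem V.comp (hE : E.IsInvariantIn F) (hf : V E χ X f d) (hg : V E χ Y g e)
    (h : ∀ x ∈ X, f x ∈ Y) : V E χ X (g ∘ f) (e * d) := by
  obtain ⟨α, rfl, f₀, hf₀, hfe⟩ := hf
  obtain ⟨β, rfl, g₀, hg₀, hge⟩ := hg
  have hb : MapFn F T (ev (α : MulAut T)⁻¹) :=
    mapFn_ev hE.2.1.1 (Subgroup.inv_mem _ α.2)
  obtain ⟨R, -, hR⟩ := (hb.mono hg₀.le_S).exists_image
  obtain ⟨k, hk, hke⟩ := mapFn_transport hE hg₀ hb (image_ev _) hR
  have hval : ∀ x ∈ X, f₀ x = ev (α : MulAut T)⁻¹ (f x) := fun x hx => by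
    rw [hfe x hx, ev_inv_ev _ (hf₀.mem_S hx)]
  refine ⟨β * α, map_mul χ β α, k ∘ f₀, hf₀.comp hk fun x hx => ?_, fun x hx => ?_⟩
  · rw [hval x hx]; exact mem_of_image hR (h x hx)
  · show g (f x) = ev ((β * α : F.autGroup T) : MulAut T) (k (f₀ x))
    have hT : g₀ (f x) ∈ T := hg₀.mem_S (h x hx)
    rw [hval x hx, hke _ (h x hx), hge _ (h x hx), Subgroup.coe_mul,
      ev_mul _ _ (ev_mem _ hT), ev_ev_inv _ hT]

/-- The hypotheses shared by the construction. -/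
structure Setup (p : ℕ) (F : FusionSystem S) (E : FusionSystem T)
    (χ : ↥(F.autGroup T) →* Δ) : Prop where
  hS : IsPGroup p S
  hF : F.IsSaturated p
  hE : E.IsWeaklyNormalIn F p
  cop : (Nat.card Δ).Coprime p
  hker : ∀ γ : F.autGroup T, (γ : MulAut T) ∈ E.autGroup T → χ γ = 1

theorem Setup.inv' (h : Setup p F E χ) : E.IsInvariantIn F := h.hE.2.2

theorem Setup.sc (h : Setup p F E χ) : F.StronglyClosed T := h.hE.2.2.2.1

theorem Setup.hTS (h : Setup p F E χ) : T ≤ S := h.sc.1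

variable [Finite S]

omit [Finite S] in
theorem eq_one_of_pow (h : Setup p F E χ) {k : ℕ} (hd : d ^ p ^ k = 1) : d = 1 :=
  orderOf_eq_one_iff.mp (Nat.eq_one_of_dvd_coprimes (h.cop.pow_right k) (orderOf_dvd_natCard d)
    (orderOf_dvd_of_pow_eq_one hd))

omit [Finite S] in
theorem one_of_id (hone : ∀ γ : F.autGroup T, MapFn E X (ev (γ : MulAut T)) → χ γ = 1)
    (hd : V E χ X id d) : d = 1 := by
  obtain ⟨α, rfl, f₀, hf₀, he⟩ := hd
  have : MapFn E X (ev ((α⁻¹ : F.autGroup T) : MulAut T)) := hf₀.congr fun x hx => by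
    have h1 : x = ev (α : MulAut T) (f₀ x) := he x hx
    conv_rhs => rw [h1]
    rw [Subgroup.coe_inv, ev_inv_ev _ (hf₀.mem_S hx)]
  have h1 := hone _ this
  rwa [map_inv, inv_eq_one] at h1

omit [Finite S] in
theorem v_pow (hE : E.IsInvariantIn F) {a : MulAut P} (hXP : X ≤ P) (hX : X ≤ T)
    (hm : ∀ x ∈ X, ev a x ∈ X) (hd : V E χ X (ev a) d) :
    ∀ n, V E χ X (ev (a ^ n)) (d ^ n) ∧ ∀ x ∈ X, ev (a ^ n) x ∈ X := by
  intro n
  induction n with
  | zero =>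
    refine ⟨?_, fun x hx => by rw [pow_zero, ev_one (hXP hx)]; exact hx⟩
    rw [pow_zero, pow_zero]
    exact (v_of_E (mapFn_id hX)).congr fun x hx => (ev_one (hXP hx)).symm
  | succ n ih =>
    have e1 : ∀ x ∈ X, ev (a ^ (n + 1)) x = ev a (ev (a ^ n) x) := fun x hx => by
      rw [pow_succ', ev_mul _ _ (hXP hx)]
    refine ⟨?_, fun x hx => by rw [e1 x hx]; exact hm _ (ih.2 x hx)⟩
    rw [pow_succ' d]
    exact (ih.1.comp hE hd ih.2).congr fun x hx => (e1 x hx).symm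

/-- An element of `p`-power order has value one, given uniqueness for the identity. -/
theorem v_one_of_pow (h : Setup p F E χ) {a : MulAut P} (ha : MapFn F X (ev a)) (hXP : X ≤ P)
    (hX : X ≤ T) (hm : ∀ x ∈ X, ev a x ∈ X) {k : ℕ} (hk : a ^ p ^ k = 1)
    (hone : ∀ γ : F.autGroup T, MapFn E X (ev (γ : MulAut T)) → χ γ = 1) :
    V E χ X (ev a) 1 := by
  obtain ⟨d, hd⟩ := exists_v (χ := χ) h.inv' hX ha
  have h1 := (v_pow h.inv' hXP hX hm hd (p ^ k)).1
  rw [hk] at h1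
  have h2 : d = 1 := eq_one_of_pow h (one_of_id hone (h1.congr fun x hx => ev_one (hXP hx)))
  rwa [h2] at hd

variable [Fact p.Prime]

theorem unique_one (h : Setup p F E χ) (hX : E.IsCentric X) {γ : F.autGroup T}
    (hγ : MapFn E X (ev (γ : MulAut T))) : χ γ = 1 := by
  suffices H : ∀ (n : ℕ) (X : Subgroup Ω), Nat.card T - Nat.card X < n → E.IsCentric X →
      ∀ γ : F.autGroup T, MapFn E X (ev (γ : MulAut T)) → χ γ = 1 from
    H _ X (Nat.lt_succ_self _) hX γ hγ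
  intro n
  induction n with
  | zero => intro X hn; omega
  | succ n ih =>
  intro X hn hX γ hγ
  have hTS := h.hTS
  have := finite_of_le hTS
  have hTp : IsPGroup p T := h.hS.to_le hTS
  by_cases hXT : X = T
  · subst hXT
    exact h.hker γ (mem_autGroup_of_ev hγ)
  have hXN : X < normalizerIn T X := lt_normalizerIn' hTp hX.1 hXT
  set N := normalizerIn T X with hN
  have hNT : N ≤ T := normalizerIn_le
  have hγT : MapFn F T (ev (γ : MulAut T)) := mapFn_ev hTS γ.2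
  obtain ⟨X', hX'T, hX'⟩ := hγ.exists_image
  have hX'c : E.IsCentric X' := IsCentric.of_conj hX (hγ.isConj hX')
  obtain ⟨e', he', he'e⟩ := hγ.exists_extension
    (receptive_of_fullyCentralized hTp h.hE.1 (isFullyCentralized_of_centric hX'c)) hX' hXN.le le_rfl
    fun g hg => ⟨ev (γ : MulAut T) g, ev_mem _ (hNT hg),
      fun x hx => hγT.map_conj (hNT hg) (hX.1 hx)⟩
  obtain ⟨M, -, hM⟩ := he'.exists_image
  obtain ⟨e'', he'', he''r, he''₁, he''₂⟩ := he'.exists_inv hM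
  have hkey : ∀ g ∈ N, ∃ x ∈ X, ev (γ : MulAut T) g = e' g * e' x := by
    intro g hg
    have h1 : (e' g)⁻¹ * ev (γ : MulAut T) g ∈ centralizerIn T X' := by
      refine mem_centralizerIn'.mpr
        ⟨T.mul_mem (T.inv_mem (he'.mem_S hg)) (ev_mem _ (hNT hg)), fun y => ?_⟩
      obtain ⟨x, hx, hxy⟩ := exists_of_image hX' y.2
      have e1 := he'.map_conj hg (hXN.le hx)
      rw [he'e x hx, he'e _ (conj_mem_of_normalizer hg.2 hx),
        hγT.map_conj (hNT hg) (hX.1 hx)] at e1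
      rw [← hxy]
      calc (e' g)⁻¹ * ev (γ : MulAut T) g * ev (γ : MulAut T) x *
            ((e' g)⁻¹ * ev (γ : MulAut T) g)⁻¹
          = (e' g)⁻¹ * (ev (γ : MulAut T) g * ev (γ : MulAut T) x * (ev (γ : MulAut T) g)⁻¹) * e' g := by
            group
        _ = ev (γ : MulAut T) x := by rw [e1]; group
    obtain ⟨x, hx, hxe⟩ := exists_of_image hX' (IsCentric.centralizerIn_le' hX'c h1)
    exact ⟨x, hx, by rw [he'e x hx, hxe, mul_inv_cancel_left]⟩
  have hm : ∀ g ∈ N, ev (γ : MulAut T) g ∈ M := fun g hg => by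
    obtain ⟨x, hx, hxe⟩ := hkey g hg
    rw [hxe]; exact M.mul_mem (mem_of_image hM hg) (mem_of_image hM (hXN.le hx))
  have hw : MapFn F N (e'' ∘ ev (γ : MulAut T)) :=
    (hγT.mono hNT).comp (mapFn_of_sub h.inv'.1 he'') hm
  obtain ⟨a, ha, hae⟩ := exists_ev hw (hw.image_eq_of_maps (hNT.trans hTS)
    (fun g hg => mem_of_image he''r (hm g hg)) le_rfl)
  have hdiff : ∀ g ∈ N, g⁻¹ * ev a g ∈ X := fun g hg => by
    obtain ⟨x, hx, hxe⟩ := hkey g hg
    rw [hae g hg]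
    show g⁻¹ * e'' (ev (γ : MulAut T) g) ∈ X
    rw [hxe, he''.map_mul (mem_of_image hM hg) (mem_of_image hM (hXN.le hx)), he''₁ g hg,
      he''₁ x (hXN.le hx), inv_mul_cancel_left]
    exact hx
  have := finite_of_le (hNT.trans hTS)
  obtain ⟨k, hk⟩ : ∃ k, a ^ p ^ k = 1 := by
    refine exists_pow_eq_one_of_stabilizes (h.hS.to_le (hNT.trans hTS)) (n := 1)
      (fun i => if i = 0 then X.subgroupOf N else ⊤) (fun i hi => ?_) rfl ⟨0, fun x hx => ?_⟩
      fun i hi x _ => ?_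
    · obtain rfl : i = 0 := by omega
      simp
    · rw [if_pos rfl, Subgroup.mem_subgroupOf] at hx
      refine Subtype.ext ?_
      rw [pow_zero, pow_one, ← ev_coe a x.2, hae _ x.2]
      show e'' (ev (γ : MulAut T) x) = x
      rw [← he'e x hx, he''₁ _ x.2]
    · obtain rfl : i = 0 := by omega
      rw [if_pos rfl, Subgroup.mem_subgroupOf, Subgroup.coe_mul, Subgroup.coe_inv, ← ev_coe a x.2]
      exact hdiff _ x.2
  have hNc : E.IsCentric N := IsCentric.of_le hX hXN.le hNT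
  have hcard : Nat.card T - Nat.card N < n := by
    have h1 := card_lt_card (hNT.trans hTS) hXN
    have h2 := card_le_card_S (R := N) hNT
    omega
  have hone := ih N hcard hNc
  have hwa : V E χ N (ev a) 1 :=
    v_one_of_pow h (mapFn_ev (hNT.trans hTS) ha) le_rfl hNT (fun x hx => ev_mem a hx) hk hone
  have h2 := hwa.comp h.inv' (v_of_E he') fun x hx => ev_mem a hx
  rw [mul_one] at h2
  obtain ⟨α, hα, f₀, hf₀, he⟩ := h2.congr (g := ev (γ : MulAut T)) fun x hx => by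
    show e' (ev a x) = _
    rw [hae x hx]
    exact he''₂ _ (hm x hx)
  have h3 : MapFn E N (ev ((α⁻¹ * γ : F.autGroup T) : MulAut T)) := hf₀.congr fun x hx => by
    rw [Subgroup.coe_mul, Subgroup.coe_inv, ev_mul _ _ (hNT hx), he x hx,
      ev_inv_ev _ (hf₀.mem_S hx)]
  have h4 := hone _ h3
  rw [map_mul, map_inv, hα, inv_one, one_mul] at h4
  exact h4

theorem V.unique (h : Setup p F E χ) (hX : E.IsCentric X) (h₁ : V E χ X f d) (h₂ : V E χ X f e) :
    d = e := by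
  obtain ⟨α, rfl, f₀, hf₀, hfe⟩ := h₁
  obtain ⟨β, rfl, f₁, hf₁, hge⟩ := h₂
  obtain ⟨R₀, -, hR₀⟩ := hf₀.exists_image
  obtain ⟨g₀, hg₀, hg₀r, hg₀e, -⟩ := hf₀.exists_inv hR₀
  have hγ : MapFn E R₀ (ev ((β⁻¹ * α : F.autGroup T) : MulAut T)) :=
    (hg₀.comp hf₁ fun y hy => mem_of_image hg₀r hy).congr fun y hy => by
      obtain ⟨x, hx, rfl⟩ := exists_of_image hR₀ hy
      show f₁ (g₀ (f₀ x)) = _
      rw [hg₀e x hx, Subgroup.coe_mul, Subgroup.coe_inv, ev_mul _ _ (hf₀.mem_S hx), ← hfe x hx,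
        hge x hx, ev_inv_ev _ (hf₁.mem_S hx)]
  have h1 := unique_one h (IsCentric.of_conj hX (hf₀.isConj hR₀)) hγ
  rw [map_mul, map_inv, inv_mul_eq_one] at h1
  exact h1.symm

theorem v_one_of_pow_centric (h : Setup p F E χ) {a : MulAut P} (ha : MapFn F X (ev a))
    (hXP : X ≤ P) (hX : E.IsCentric X) (hm : ∀ x ∈ X, ev a x ∈ X) {k : ℕ} (hk : a ^ p ^ k = 1) :
    V E χ X (ev a) 1 :=
  v_one_of_pow h ha hXP hX.1 hm hk fun _ hγ => unique_one h hX hγ

end CfsgLib.Fusion.PPrimeChar
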