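import Cfsg.Agent.Lib.Fusion.PPrimeNormal

/-!
# The subsystems containing the `p'`-residual

A normal subgroup `H` of `Aut_F(S)` containing the automorphisms of `res p F` gives the normal
subsystem of the maps with value in `H`; its automorphisms of `S` form `H`.
-/

namespace CfsgLib.Fusion.PPrimeRes

open Cfsg Cfsg.FusionSystem CfsgLib.Fusion CfsgLib.FusionNormal

variable {Ω : Type*} [Group Ω] {S : Subgroup Ω} {F : FusionSystem S} {P Q : Subgroup Ω} {p : ℕ}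
variable [Finite S] {H : Subgroup (MulAut S)} {f : Ω → Ω}

/-- The maps with value in `H`. -/
def valSub (p : ℕ) (F : FusionSystem S) (H : Subgroup (MulAut S)) : FusionSystem S where
  Hom P := {φ | ∃ f : Ω → Ω, (∀ x : P, φ x = f x) ∧ ∃ α ∈ H, Val p F P f α}
  le_of_mem := by
    rintro P φ ⟨f, he, α, -, hv⟩
    exact F.le_of_mem ((Val.mapFn hv).mem he)
  injective_of_mem := by
    rintro P φ ⟨f, he, α, -, hv⟩
    exact F.injective_of_mem ((Val.mapFn hv).mem he)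
  conj_mem := by
    intro P g hP hg
    exact ⟨fun x => g * x * g⁻¹, fun _ => rfl, 1, Subgroup.one_mem _,
      val_of_res (mapFn_conj hP hg)⟩
  comp_mem := by
    rintro P Q φ ψ ⟨f, he, α, hα, hv⟩ ⟨k, hke, β, hβ, hw⟩ hm
    refine ⟨k ∘ f, fun x => ?_, β * α, Subgroup.mul_mem _ hβ hα,
      hv.comp hw fun x hx => by rw [← he ⟨x, hx⟩]; exact hm _⟩
    show ψ ⟨φ x, _⟩ = k (f x)
    rw [hke]
    exact congrArg k (he x)
  inv_mem := by
    rintro P φ ⟨f, he, α, hα, hv⟩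
    obtain ⟨ψ, hψ, hψe⟩ := F.inv_mem ((Val.mapFn hv).mem he)
    obtain ⟨k, hk, hke⟩ := mapFn_of_hom hψ
    refine ⟨ψ, ⟨k, hke, α⁻¹, Subgroup.inv_mem _ hα,
      hv.inv (MapFn.image_eq_range he) fun x hx => ?_⟩, hψe⟩
    rw [← he ⟨x, hx⟩]
    exact (hke _).symm.trans (hψe ⟨x, hx⟩)

theorem mapFn_valSub : MapFn (valSub p F H) P f ↔ ∃ α ∈ H, Val p F P f α := by
  constructor
  · rintro ⟨φ, ⟨k, hke, α, hα, hv⟩, he⟩
    exact ⟨α, hα, hv.congr fun x hx => (hke ⟨x, hx⟩).symm.trans (he ⟨x, hx⟩)⟩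
  · rintro ⟨α, hα, hv⟩
    obtain ⟨φ, hφ, he⟩ := hv.mapFn
    exact ⟨φ, ⟨f, he, α, hα, hv⟩, he⟩

theorem valSub_le : valSub p F H ≤ F := fun P =>
  hom_subset_iff_mapFn.mpr fun _ hf => by
    obtain ⟨α, -, hv⟩ := mapFn_valSub.mp hf
    exact hv.mapFn

theorem res_le_valSub : res p F ≤ valSub p F H := fun P =>
  hom_subset_iff_mapFn.mpr fun _ hf => mapFn_valSub.mpr ⟨1, Subgroup.one_mem _, val_of_res hf⟩

theorem mem_autGroup_valSub (hr : (res p F).autGroup S ≤ H) {a : MulAut S} :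
    a ∈ (valSub p F H).autGroup S ↔ a ∈ H ∧ a ∈ F.autGroup S := by
  rw [mem_autGroup_iff_ev, mapFn_valSub]
  constructor
  · rintro ⟨α, hα, hv⟩
    have haF := mem_autGroup_iff_ev.mpr hv.mapFn
    have h1 := hr (Val.unique PPrimeGen.isCentric_self (val_ev le_rfl haF) hv)
    have h2 := Subgroup.mul_mem _ hα h1
    rw [mul_inv_cancel_left] at h2
    exact ⟨h2, haF⟩
  · exact fun ha => ⟨a, ha.1, val_ev le_rfl ha.2⟩

variable [Fact p.Prime]

theorem valSub_saturated (hS : IsPGroup p S) (hF : F.IsSaturated p) :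
    (valSub p F H).IsSaturated p := by
  have hA : (valSub p F H).IsFullyAutomized p S := by
    have hTop : F.IsFullyNormalized S := ⟨le_rfl, fun Q hQ => by
      rw [eq_of_le_of_card_le (IsConj.le_right hQ) (IsConj.card_eq hQ).ge]⟩
    have h := (fullyAutomized_iff.mp (fullyNormalized_good hS hF hTop).1).2
    refine fullyAutomized_iff.mpr ⟨le_rfl, h.trans ?_⟩
    have := finite_mulAut (le_refl S)
    have hp : p.Prime := Fact.out
    have hle : (valSub p F H).autGroup S ≤ F.autGroup S := fun α hα =>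
      mem_autGroup_iff_ev.mpr (hom_subset_iff_mapFn.mp (valSub_le S) _ (mem_autGroup_iff_ev.mp hα))
    congr 1
    apply le_antisymm
    · rw [← hp.pow_dvd_iff_le_factorization Nat.card_pos.ne', ← h]
      exact Subgroup.card_dvd_of_le (autInducedBy_le_autGroup le_rfl)
    · rw [← hp.pow_dvd_iff_le_factorization Nat.card_pos.ne']
      exact (Nat.ordProj_dvd _ p).trans (Subgroup.card_dvd_of_le hle)
  refine saturated_of_top_and_receptive hS hA fun P hP => ?_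
  have hPn : F.IsFullyNormalized P := by
    refine ⟨hP.1, fun W hW => ?_⟩
    obtain ⟨f, hf, hr⟩ := isConj_iff.mp hW
    obtain ⟨α, hα, f₀, hf₀, he⟩ := exists_val hS hF hf
    obtain ⟨W', hW'S, hW'⟩ := hf₀.exists_image
    refine le_trans ?_
      (hP.2 W' ((hom_subset_iff_mapFn.mp (res_le_valSub P) f₀ hf₀).isConj hW'))
    have hr' : ev α⁻¹ '' W = (W' : Set Ω) := by
      rw [← hr, ← hW', Set.image_image]
      exact Set.image_congr fun x hx => by rw [he x hx, ev_inv_ev _ (hf₀.mem_S hx)]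
    have ha := mem_autGroup_iff_ev.mp (Subgroup.inv_mem _ hα)
    obtain ⟨φ, hφ, hφe⟩ := ha.mono (normalizerIn_le (P := W))
    exact card_le_of_map hφ normalizerIn_le fun x => by
      rw [hφe]
      exact ha.mem_normalizerIn (IsConj.le_right hW) hr' (normalizerIn_le x.2) x.2.2
  obtain ⟨-, hPr⟩ := fullyNormalized_good hS hF hPn
  refine ⟨hP.1, fun R φ hφ hr => ?_⟩
  obtain ⟨f, hfe, α, hαH, hv⟩ := hφ
  obtain ⟨ψ, hψ, hψe⟩ := hPr.2 R φ ((Val.mapFn hv).mem hfe) hr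
  obtain ⟨k, hk, hke⟩ := mapFn_of_hom hψ
  obtain ⟨γ, hγ⟩ := exists_val hS hF hk
  have hRS : R ≤ S := hv.mapFn.le_S
  have hRN : R ≤ extender S R φ :=
    le_extender hRS fun x => by rw [hfe]; exact hv.mapFn.mem_S x.2
  have hkR : ∀ x ∈ R, k x = f x := fun x hx => by
    rw [← hke ⟨x, hRN hx⟩, hψe x hx (hRN hx), hfe]
  have hfr : f '' R = (P : Set Ω) := by rw [MapFn.image_eq_range hfe, hr]
  obtain ⟨f', hf', hf'r, -, hf'₂⟩ := hv.exists_inv hfr
  have hid : Val p F P id (γ * α⁻¹) :=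
    (hf'.comp (hγ.mono hRN) fun x hx => mem_of_image hf'r hx).congr
      fun x hx => (hkR _ (mem_of_image hf'r hx)).trans (hf'₂ x hx)
  obtain ⟨a, ha, hae⟩ := (inA_of_fixed hS hF hPn hid).inv hP.1
  have hkN : ∀ x ∈ extender S R φ, k x ∈ normalizerIn S P := fun x hx =>
    hk.mem_normalizerIn hRN ((Set.image_congr hkR).trans hfr) hx (extender_le_normalizerIn hx).2
  have h1 := hγ.comp ha hkN
  rw [mul_inv_rev, inv_inv, inv_mul_cancel_right] at h1
  obtain ⟨θ, hθ, hθe⟩ := mapFn_valSub.mpr ⟨α, hαH, h1⟩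
  exact ⟨θ, hθ, fun x hxR hxN => by
    rw [hθe]
    show a (k x) = _
    rw [hkR x hxR, hae _ (mem_of_image hfr hxR), hfe ⟨x, hxR⟩]⟩

theorem valSub_isWeaklyNormalIn (hS : IsPGroup p S) (hF : F.IsSaturated p)
    (hn : ∀ a ∈ F.autGroup S, ∀ b ∈ H, a * b * a⁻¹ ∈ H) :
    (valSub p F H).IsWeaklyNormalIn F p := by
  refine ⟨valSub_saturated hS hF, hF, valSub_le, FusionExtend.sc_self, ?_, ?_⟩
  · intro P hPS φ hφ a ha
    obtain ⟨f, hfe, α, hα, hv⟩ := hφ
    set R := (P.subgroupOf S).map (S.subtype.comp a.toMonoidHom) with hRdef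
    have hae : ev a '' P = (R : Set Ω) := by
      ext y
      constructor
      · rintro ⟨x, hx, rfl⟩
        exact ⟨⟨x, hPS hx⟩, hx, (ev_coe a (hPS hx)).symm⟩
      · rintro ⟨x, hx, rfl⟩
        exact ⟨x, hx, ev_coe a x.2⟩
    have hRS : R ≤ S := fun y hy => by
      obtain ⟨x, hx, rfl⟩ := exists_of_image hae hy
      exact ev_mem a (hPS hx)
    have hm : ∀ y ∈ R, ev a⁻¹ y ∈ P := fun y hy => by
      obtain ⟨x, hx, rfl⟩ := exists_of_image hae hy
      rw [ev_inv_ev a (hPS hx)]; exact hx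
    have hw : Val p F R (ev a ∘ (f ∘ ev a⁻¹)) (a * α * a⁻¹) := by
      rw [mul_assoc]
      exact ((val_ev hRS (Subgroup.inv_mem _ ha)).comp hv hm).comp (val_ev le_rfl ha)
        fun y hy => hv.mapFn.mem_S (hm y hy)
    obtain ⟨θ, hθ, hθe⟩ := mapFn_valSub.mpr ⟨_, hn a ha α hα, hw⟩
    refine ⟨θ, hθ, fun x hφx hax => ?_⟩
    rw [hθe]
    show ev a (f (ev a⁻¹ ((a ⟨x, hPS x.2⟩ : S) : Ω))) = _
    rw [← ev_coe a (hPS x.2), ev_inv_ev a (hPS x.2), ← hfe x, ev_coe a hφx]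
  · intro P _ φ hφ
    obtain ⟨f, hf, hfe⟩ := mapFn_of_hom hφ
    obtain ⟨α, hα, f₀, hf₀, he⟩ := exists_val hS hF hf
    obtain ⟨φ₀, hφ₀, hφ₀e⟩ := hf₀
    refine ⟨α, hα, φ₀, res_le_valSub P hφ₀, fun x hx => ?_⟩
    rw [← ev_coe α hx, hfe x, he x x.2, ← hφ₀e x]

theorem valSub_isNormalIn (hS : IsPGroup p S) (hF : F.IsSaturated p)
    (hr : (res p F).autGroup S ≤ H) (hn : ∀ a ∈ F.autGroup S, ∀ b ∈ H, a * b * a⁻¹ ∈ H) :
    (valSub p F H).IsNormalIn F p := by
  refine ⟨valSub_isWeaklyNormalIn hS hF hn, fun α hα => ?_⟩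
  have hSC : S ⊔ centralizerIn S S = S := sup_eq_left.mpr centralizerIn_le
  have hev : MapFn F (S ⊔ centralizerIn S S) (ev α) := by
    rw [hSC]
    exact mem_autGroup_iff_ev.mp ((mem_autGroup_valSub hr).mp hα).2
  obtain ⟨β, hβ, hβe⟩ := hev.exists_aut (hev.image_eq_of_maps hev.le_S
    (fun x hx => Subgroup.mem_sup_left (hev.mem_S hx)) le_rfl)
  have hαS : ev α '' (S : Set Ω) = S := mapFn_image_S (hev.mono le_sup_left)
  refine ⟨β, hβ, fun x => ?_, fun c hc => ?_⟩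
  · rw [hβe, ← ev_coe α x.2]; rfl
  · rw [hβe]
    have h1 := hev.mem_centralizerIn le_sup_left hαS c.2 hc
    have h2 := Subgroup.mul_mem _ (Subgroup.inv_mem _ hc) h1
    exact ⟨h2.1, h2.2⟩

theorem residual_le_valSub (hS : IsPGroup p S) (hF : F.IsSaturated p) {R : FusionSystem S}
    (hR : F.IsPPrimeResidual p R) : R.IsSubsystemOf (valSub p F H) := by
  refine hR.2.2 _ (valSub_saturated hS hF) ⟨valSub_le, fun P hP => ?_⟩
  intro a ha
  exact (mem_autGroup hP).mpr (res_le_valSub P ((mem_autGroup hP).mp ((res_primeToP hS hF).2 P hP ha)))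

end CfsgLib.Fusion.PPrimeRes
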