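import Cfsg.Agent.Lib.Fusion.PPrimeCharFamily
import Cfsg.Agent.Lib.Fusion.PPrimeSubsystem

/-!
# The normal subsystem cut out by a character of `Aut_F(T)`

For `E` weakly normal in `F` over `T` and a character of `Aut_F(T)` to a `p'`-group killing
`Aut_E(T)`, the automorphisms of `S` of value one contain those of the `p'`-residual; the subsystem
they define contains `E`.
-/

namespace CfsgLib.Fusion.PPrimeChar

open Cfsg Cfsg.FusionSystem CfsgLib.Fusion CfsgLib.FusionNormal CfsgLib.Fusion.PPrimeRes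

variable {Ω : Type*} [Group Ω] {S T : Subgroup Ω} {F : FusionSystem S} {E : FusionSystem T}
variable {Δ : Type*} [Group Δ] {χ : ↥(F.autGroup T) →* Δ} {P : Subgroup Ω} {p : ℕ}
variable [Finite S] [Fact p.Prime]

theorem good_top (h : Setup p F E χ) : Good E S := by
  have := finite_of_le h.hTS
  show E.IsCentric (S ⊓ T)
  rw [inf_eq_right.mpr h.hTS]
  exact PPrimeGen.isCentric_self

theorem mem_G_top (h : Setup p F E χ) {a : MulAut S} :
    a ∈ G h S ↔ a ∈ F.autGroup S ∧ V E χ T (ev a) 1 := by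
  rw [mem_G_good h (good_top h) le_rfl, inf_eq_right.mpr h.hTS]

theorem res_le_G (h : Setup p F E χ) : (res p F).autGroup S ≤ G h S :=
  PPrimeGen.res_autGroup_le h.hS h.hF (isFamily_G h)

theorem G_conj (h : Setup p F E χ) {a b : MulAut S} (ha : a ∈ F.autGroup S) (hb : b ∈ G h S) :
    a * b * a⁻¹ ∈ G h S := by
  have hu := mem_autGroup_iff_ev.mp ha
  refine G_congr h hu (mapFn_image_S hu) hb fun x hx => ?_
  rw [ev_mul _ _ (ev_mem a hx), ev_mul _ _ (ev_mem a⁻¹ (ev_mem a hx)), ev_inv_ev a hx]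

/-- The subsystem cut out by the character. -/
noncomputable def charSub (h : Setup p F E χ) : FusionSystem S := valSub p F (G h S)

theorem charSub_isNormalIn (h : Setup p F E χ) : (charSub h).IsNormalIn F p :=
  valSub_isNormalIn h.hS h.hF (res_le_G h) fun _ ha _ hb => G_conj h ha hb

theorem mem_autGroup_charSub (h : Setup p F E χ) {a : MulAut S} :
    a ∈ (charSub h).autGroup S ↔ a ∈ F.autGroup S ∧ ∃ β : F.autGroup T, χ β = 1 ∧
      ∀ t : T, (((β : MulAut T) t : T) : Ω) = ((a ⟨t, h.hTS t.2⟩ : S) : Ω) := by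
  rw [charSub, mem_autGroup_valSub (res_le_G h), mem_G_top h]
  refine ⟨fun ha => ⟨ha.2, ?_⟩, fun ⟨ha, β, hβ, he⟩ => ⟨⟨ha, ?_⟩, ha⟩⟩
  · have := finite_of_le h.hTS
    have hm := (mapFn_ev le_rfl ha.2).mono h.hTS
    obtain ⟨β, hβ, hβe⟩ := exists_ev hm (hm.image_eq_of_maps h.hTS
      (fun x hx => map_mem_of_sc h.sc (mapFn_ev le_rfl ha.2) (h.hTS hx) hx) le_rfl)
    refine ⟨⟨β, hβ⟩, V.unique h PPrimeGen.isCentric_self
      ((v_ev ⟨β, hβ⟩).congr fun x hx => hβe x hx) ha.1.2, fun t => ?_⟩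
    rw [← ev_coe β t.2, hβe _ t.2, ev_coe a (h.hTS t.2)]
  · refine hβ ▸ (v_ev β).congr fun x hx => ?_
    rw [ev_coe _ hx, ev_coe a (h.hTS hx)]
    exact he ⟨x, hx⟩

/-- A saturated subsystem whose automorphisms of `S` have value one has automorphisms of `T` in
the kernel. -/
theorem one_of_top (h : Setup p F E χ) {D : FusionSystem S} (hD : D.IsSaturated p) (hle : D ≤ F)
    (htop : D.autGroup S ≤ G h S) {γ : F.autGroup T} (hγ : (γ : MulAut T) ∈ D.autGroup T) :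
    χ γ = 1 := by
  have hT := h.sc
  have hTS := h.hTS
  have := finite_of_le hTS
  have hleA : D.autGroup T ≤ F.autGroup T := fun x hx =>
    (mem_autGroup hTS).mpr (hle T ((mem_autGroup hTS).mp hx))
  have hTn : D.IsFullyNormalized T := by
    refine ⟨hTS, fun X hX => ?_⟩
    obtain ⟨φ, hφ, hr⟩ := hX
    have hXT : X ≤ T := fun y hy => by
      obtain ⟨x, rfl⟩ := hr.ge hy
      exact hT.2 T le_rfl φ (hle T hφ) x
    rw [eq_of_le_of_card_le hXT (IsConj.card_eq ⟨φ, hφ, hr⟩).ge]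
  obtain ⟨a, k, han, hk, he⟩ := PPrimeGen.exists_frattini h.hS hD hTn hγ
  let a' : F.autGroup T := ⟨a, hleA a.2⟩
  let k' : F.autGroup T := ⟨k, hleA (PPrimeGen.pPrimeAut_le_autGroup hk)⟩
  have hk1 : χ k' = 1 := by
    have hle' : pPrimeAut p D T ≤ (χ.ker).map (F.autGroup T).subtype :=
      pPrimeAut_le fun α hα l hl => ⟨⟨α, hleA hα⟩, MonoidHom.mem_ker.mpr (eq_one_of_pow h (k := l) (by
        rw [← map_pow, show (⟨α, hleA hα⟩ : F.autGroup T) ^ p ^ l = 1 from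
          Subtype.ext (by rw [SubmonoidClass.coe_pow, ← hl, pow_orderOf_eq_one]; rfl), map_one])), rfl⟩
    obtain ⟨x, hx, hxe⟩ := hle' hk
    have hxk : x = k' := Subtype.ext hxe
    exact hxk ▸ hx
  have hNT : normalizerIn S T = S := le_antisymm normalizerIn_le fun g hg =>
    ⟨hg, FusionExtend.sc_normalizer hT hg⟩
  obtain ⟨fN, hfN, -, hfNe⟩ := PPrimeGen.exists_ext_of_normalizing h.hS hD hTn a.2 han
  rw [hNT] at hfN
  obtain ⟨β, hβ, hβe⟩ := exists_ev hfN (mapFn_image_S hfN)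
  have hβG := ((mem_G_top h).mp (htop hβ)).2
  have ha1 : χ a' = 1 := V.unique h PPrimeGen.isCentric_self ((v_ev a').congr fun x hx => by
    rw [hβe x (hTS hx), hfNe ⟨x, hx⟩, ev_coe _ hx]) hβG
  rw [show γ = a' * k' from Subtype.ext he, map_mul, ha1, hk1, one_mul]

theorem mapFn_charSub_of_aut (h : Setup p F E χ) {β : MulAut T} (hβ : β ∈ E.autGroup T) :
    MapFn (charSub h) T (ev β) := by
  have hTS := h.hTS
  have := finite_of_le hTS
  have hβF : β ∈ F.autGroup T := autGroup_le_of_sub hTS h.inv'.1 le_rfl hβ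
  obtain ⟨α, hα, f₀, hf₀, he⟩ := exists_val h.hS h.hF (mapFn_ev hTS hβF)
  refine mapFn_valSub.mpr ⟨α, ?_, hα, f₀, hf₀, he⟩
  have hf₀F := res_mapFn hf₀
  have hf₀T : f₀ '' T = (T : Set Ω) :=
    hf₀F.image_eq_of_maps hTS (fun x hx => map_mem_of_sc h.sc hf₀F hx hx) le_rfl
  obtain ⟨c, hc, hce⟩ := exists_ev hf₀ hf₀T
  have hcF : c ∈ F.autGroup T :=
    mem_autGroup_of_ev (hf₀F.congr fun x hx => (hce x hx).symm)
  have hc1 : χ ⟨c, hcF⟩ = 1 :=
    one_of_top h (res_isSaturated h.hS h.hF) (res_le p F) (res_le_G h) (γ := ⟨c, hcF⟩) hc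
  have hαm := (mapFn_ev le_rfl hα).mono hTS
  obtain ⟨α', hα', hα'e⟩ := exists_ev hαm (hαm.image_eq_of_maps hTS
    (fun x hx => map_mem_of_sc h.sc (mapFn_ev le_rfl hα) (hTS hx) hx) le_rfl)
  have hprod : β = α' * c := ev_ext fun x hx => by
    rw [he x hx, ev_mul _ _ hx, hce x hx, hα'e _ (mem_of_image hf₀T hx)]
  have h1 := h.hker ⟨β, hβF⟩ hβ
  rw [show (⟨β, hβF⟩ : F.autGroup T) = ⟨α', hα'⟩ * ⟨c, hcF⟩ from Subtype.ext hprod, map_mul, hc1,
    mul_one] at h1
  exact (mem_G_top h).mpr ⟨hα, h1 ▸ (v_ev (E := E) ⟨α', hα'⟩).congr fun x hx => hα'e x hx⟩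

/-- The maps of `E` lying in `charSub`. -/
theorem sub_charSub (h : Setup p F E χ) : E.IsSubsystemOf (charSub h) := by
  have hTS := h.hTS
  have := finite_of_le hTS
  have hTp : IsPGroup p T := h.hS.to_le hTS
  let D : FusionSystem T := PPrimeGen.interSystem (charSub h) E hTS
  have hD : Adm p E D := by
    refine ⟨fun P hP => pPrimeAut_le fun α hα k hk => (mem_autGroup hP.1).mpr
      ⟨?_, (mem_autGroup hP.1).mp hα⟩, fun a P _ ha _ => ?_⟩
    · have hαF := autGroup_le_of_sub hTS h.inv'.1 hP.1 hα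
      exact res_le_valSub P ((mem_autGroup (hP.1.trans hTS)).mp
        ((res_primeToP h.hS h.hF).2 P (hP.1.trans hTS) (mem_pPrimeAut_of_pow hαF hk)))
    · obtain ⟨β, hβ, hβe⟩ := exists_ev ha (mapFn_image_S ha)
      obtain ⟨φ, hφ, hφe⟩ := ha
      obtain ⟨ψ, hψ, hψe⟩ := mapFn_charSub_of_aut h hβ
      refine ⟨φ, ⟨?_, hφ⟩, hφe⟩
      rwa [show φ = ψ from MonoidHom.ext fun x => by rw [hψe, hφe, hβe x x.2]]
  refine fun P => hom_subset_iff_mapFn.mpr fun f hf => ?_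
  obtain ⟨β, hβ, f₀, hf₀, he⟩ := exists_val hTp h.hE.1 hf
  obtain ⟨φ, hφ, hφe⟩ := hf₀
  have hf₀C : MapFn (charSub h) P f₀ := ⟨φ, (res_le_of hD P hφ).1, hφe⟩
  refine (hf₀C.comp (mapFn_charSub_of_aut h hβ) fun x hx => ?_).congr fun x hx => (he x hx).symm
  exact MapFn.mem_S (⟨φ, hφ, hφe⟩ : MapFn (res p E) P f₀) hx

theorem charSub_ne (h : Setup p F E χ) (hχ : Function.Surjective χ) [Nontrivial Δ] :
    ¬ ∀ P : Subgroup Ω, (charSub h).Hom P = F.Hom P := by
  intro heq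
  obtain ⟨δ, hδ⟩ := exists_ne (1 : Δ)
  obtain ⟨γ, rfl⟩ := hχ δ
  refine hδ (one_of_top h h.hF (fun _ => subset_rfl) (fun a ha => ?_) γ.2)
  have h1 : a ∈ (charSub h).autGroup S := by
    rw [mem_autGroup le_rfl] at ha ⊢
    rwa [heq S]
  exact ((mem_autGroup_valSub (res_le_G h)).mp h1).1

theorem residual_le_charSub (h : Setup p F E χ) {R : FusionSystem S}
    (hR : F.IsPPrimeResidual p R) : R.IsSubsystemOf (charSub h) :=
  residual_le_valSub h.hS h.hF hR

end CfsgLib.Fusion.PPrimeChar
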