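import Cfsg.Agent.Lib.Fusion.PPrimeResidual

/-!
# Families of automorphism groups and the `p'`-residual

Let `G` assign to each centric `P` a subgroup of `Aut_F(P)` that contains the `p`-elements, is
compatible with isomorphisms of `F`, and contains an automorphism of `N_S(Q)`, `Q` fully normalized
centric, as soon as it contains its restriction to `Q`. Then every map of the `p'`-residual is an
element of `G(S)` after a map of the system generated by the `p`-automorphisms of centric subgroups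
(`res_le_prod`). Hence a system containing these and `G(S)` contains the residual (`res_le_of_family`)
and `Aut_res(S) ≤ G(S)` (`res_autGroup_le`).
-/

namespace CfsgLib.Fusion.PPrimeGen

open Cfsg Cfsg.FusionSystem CfsgLib.Fusion CfsgLib.FusionNormal CfsgLib.Fusion.PPrimeRes

variable {Ω : Type*} [Group Ω] {S : Subgroup Ω} {F : FusionSystem S} {P Q R B W : Subgroup Ω}
variable {p : ℕ}

/-- `f` restricts to an element of `O^{p'}(Aut_F(Q))`. -/
def InK (p : ℕ) (F : FusionSystem S) (Q : Subgroup Ω) (f : Ω → Ω) : Prop :=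
  ∃ k ∈ pPrimeAut p F Q, ∀ x : Q, f x = ((k x : Q) : Ω)

theorem InK.image {f : Ω → Ω} (h : InK p F Q f) : f '' Q = (Q : Set Ω) := by
  obtain ⟨k, -, hk⟩ := h
  ext y
  constructor
  · rintro ⟨x, hx, rfl⟩; rw [hk ⟨x, hx⟩]; exact Subtype.mem _
  · exact fun hy => ⟨((k.symm ⟨y, hy⟩ : Q) : Ω), Subtype.mem _, by rw [hk]; simp⟩

theorem InK.mem {f : Ω → Ω} (h : InK p F Q f) {x : Ω} (hx : x ∈ Q) : f x ∈ Q :=
  mem_of_image h.image hx

theorem InK.congr {f g : Ω → Ω} (h : InK p F Q f) (e : ∀ x ∈ Q, f x = g x) : InK p F Q g := by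
  obtain ⟨k, hk, hke⟩ := h
  exact ⟨k, hk, fun x => (e x x.2).symm.trans (hke x)⟩

theorem InK.comp {f g : Ω → Ω} (hf : InK p F Q f) (hg : InK p F Q g) : InK p F Q (g ∘ f) := by
  obtain ⟨k, hk, hke⟩ := hf
  obtain ⟨l, hl, hle⟩ := hg
  exact ⟨l * k, Subgroup.mul_mem _ hl hk, fun x => by
    show g (f x) = _
    rw [hke x, hle]; rfl⟩

theorem inK_id : InK p F Q id := ⟨1, Subgroup.one_mem _, fun _ => rfl⟩

theorem pPrimeAut_le_autGroup : pPrimeAut p F Q ≤ F.autGroup Q :=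
  pPrimeAut_le fun _ h _ _ => h

theorem InK.mapFn {f : Ω → Ω} (hQ : Q ≤ S) (h : InK p F Q f) : MapFn F Q f := by
  obtain ⟨k, hk, hke⟩ := h
  obtain ⟨g, hg, -, hge⟩ := exists_mapFn_of_aut hQ (pPrimeAut_le_autGroup hk)
  exact hg.congr fun x hx => (hge ⟨x, hx⟩).trans (hke ⟨x, hx⟩).symm

theorem InK.mapFn_of_pAuts {D : FusionSystem S} {f : Ω → Ω} (hQ : F.IsCentric Q)
    (hD : HasPAutsOnCentrics p F D) (h : InK p F Q f) : MapFn D Q f := by
  obtain ⟨k, hk, hke⟩ := h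
  obtain ⟨g, hg, -, hge⟩ := exists_mapFn_of_aut hQ.1 (hD Q hQ hk)
  exact hg.congr fun x hx => (hge ⟨x, hx⟩).trans (hke ⟨x, hx⟩).symm

/-- Transport along a map. -/
theorem InK.transport {f h : Ω → Ω} (hf : InK p F Q f) (hh : MapFn F Q h)
    (hr : h '' Q = (R : Set Ω)) : ∃ g, InK p F R g ∧ ∀ x ∈ Q, g (h x) = h (f x) := by
  classical
  obtain ⟨k, hk, hke⟩ := hf
  obtain ⟨φ, hφ, hφe⟩ := hh
  have hφr : φ.range = R := SetLike.coe_injective (by rw [← MapFn.image_eq_range hφe, hr])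
  obtain ⟨e, he⟩ := exists_equiv hφ hφr
  have hle : pPrimeAut p F Q ≤ (pPrimeAut p F R).comap (MulAut.congr e).toMonoidHom :=
    pPrimeAut_le fun α hα l hl => mem_pPrimeAut_of_pow (autGroup_congr_mem hφ he hα)
      (by show orderOf (MulAut.congr e α) = _; rw [MulEquiv.orderOf_eq]; exact hl)
  refine ⟨fun y => if hy : y ∈ R then ((MulAut.congr e k ⟨y, hy⟩ : R) : Ω) else y,
    ⟨_, hle hk, fun y => dif_pos y.2⟩, fun x hx => ?_⟩
  have h1 : h x = ((e ⟨x, hx⟩ : R) : Ω) := (hφe ⟨x, hx⟩).symm.trans (he _).symm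
  have h2 : h (f x) = ((e (k ⟨x, hx⟩) : R) : Ω) := by
    rw [hke ⟨x, hx⟩, ← hφe, ← he]
  dsimp only
  rw [h1, dif_pos (e ⟨x, hx⟩).2, h2]
  show ((e (k (e.symm (e ⟨x, hx⟩))) : R) : Ω) = _
  rw [MulEquiv.symm_apply_apply]

theorem InK.exists_inv {f : Ω → Ω} (h : InK p F Q f) :
    ∃ g, InK p F Q g ∧ ∀ x ∈ Q, g (f x) = x := by
  classical
  obtain ⟨k, hk, hke⟩ := h
  refine ⟨fun y => if hy : y ∈ Q then ((k⁻¹ ⟨y, hy⟩ : Q) : Ω) else y,
    ⟨_, Subgroup.inv_mem _ hk, fun y => dif_pos y.2⟩, fun x hx => ?_⟩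
  dsimp only
  rw [hke ⟨x, hx⟩, dif_pos (k ⟨x, hx⟩).2]
  simp

/-- A family of automorphism groups closed under passing from `Q` to `N_S(Q)`. -/
structure IsFamily (p : ℕ) (F : FusionSystem S) (G : ∀ P : Subgroup Ω, Subgroup (MulAut P)) : Prop where
  le : ∀ P : Subgroup Ω, F.IsCentric P → G P ≤ F.autGroup P
  pAuts : ∀ P : Subgroup Ω, F.IsCentric P → pPrimeAut p F P ≤ G P
  congr : ∀ (P R : Subgroup Ω) (φ : P →* Ω), F.IsCentric P → φ ∈ F.Hom P → ∀ e : P ≃* R,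
    (∀ x : P, ((e x : R) : Ω) = φ x) → ∀ a ∈ G P, MulAut.congr e a ∈ G R
  ascend : ∀ Q : Subgroup Ω, F.IsFullyNormalized Q → F.IsCentric Q →
    ∀ a ∈ F.autGroup (normalizerIn S Q), ∀ b ∈ G Q,
      (∀ (x : Q) (hx : (x : Ω) ∈ normalizerIn S Q),
        ((a ⟨x, hx⟩ : normalizerIn S Q) : Ω) = ((b x : Q) : Ω)) →
      a ∈ G (normalizerIn S Q)

variable [Finite S] {G : ∀ P : Subgroup Ω, Subgroup (MulAut P)} {f g : Ω → Ω} {α β : MulAut S}

omit [Finite S] in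
theorem isCentric_self [Finite S] : F.IsCentric S := ⟨le_rfl, fun X hX => by
  rw [eq_of_le_of_card_le (IsConj.le_right hX) (IsConj.card_eq hX).ge]
  exact centralizerIn_le⟩

/-- `f` is `α` after a map of `leastPAuts`. -/
def LVal (p : ℕ) (F : FusionSystem S) (P : Subgroup Ω) (f : Ω → Ω) (α : MulAut S) : Prop :=
  α ∈ F.autGroup S ∧ ∃ f₀, MapFn (leastPAuts p F) P f₀ ∧ ∀ x ∈ P, f x = ev α (f₀ x)

theorem LVal.congr (h : LVal p F P f α) (e : ∀ x ∈ P, f x = g x) : LVal p F P g α := by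
  obtain ⟨hα, f₀, hf₀, he⟩ := h
  exact ⟨hα, f₀, hf₀, fun x hx => (e x hx).symm.trans (he x hx)⟩

theorem LVal.mono (h : LVal p F P f α) (hR : R ≤ P) : LVal p F R f α := by
  obtain ⟨hα, f₀, hf₀, he⟩ := h
  exact ⟨hα, f₀, hf₀.mono hR, fun x hx => he x (hR hx)⟩

theorem lval_of_L (hf : MapFn (leastPAuts p F) P f) : LVal p F P f 1 :=
  ⟨Subgroup.one_mem _, f, hf, fun _ hx => (ev_one (hf.mem_S hx)).symm⟩

theorem lval_ev (hP : P ≤ S) (hα : α ∈ F.autGroup S) : LVal p F P (ev α) α :=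
  ⟨hα, id, mapFn_id hP, fun _ _ => rfl⟩

theorem LVal.comp (hf : LVal p F P f α) (hg : LVal p F Q g β) (h : ∀ x ∈ P, f x ∈ Q) :
    LVal p F P (g ∘ f) (β * α) := by
  obtain ⟨hα, f₀, hf₀, hfe⟩ := hf
  obtain ⟨hβ, g₀, hg₀, hge⟩ := hg
  have ha := mem_autGroup_iff_ev.mp (Subgroup.inv_mem _ hα)
  obtain ⟨R, -, hR⟩ := (ha.mono hg₀.le_S).exists_image
  obtain ⟨χ, hχ, hχe⟩ := leastPAuts_transport hg₀ ha hR
  have hval : ∀ x ∈ P, f₀ x = ev α⁻¹ (f x) := fun x hx => by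
    rw [hfe x hx, ev_inv_ev _ (hf₀.mem_S hx)]
  refine ⟨Subgroup.mul_mem _ hβ hα, χ ∘ f₀, hf₀.comp hχ fun x hx => ?_, fun x hx => ?_⟩
  · rw [hval x hx]; exact mem_of_image hR (h x hx)
  · show g (f x) = ev (β * α) (χ (f₀ x))
    rw [hval x hx, hχe _ (h x hx), hge _ (h x hx), ev_mul β α (ev_mem _ (hg₀.mem_S (h x hx))),
      ev_ev_inv _ (hg₀.mem_S (h x hx))]

theorem LVal.inv (hf : LVal p F P f α) (hfr : f '' P = (R : Set Ω))
    (hgf : ∀ x ∈ P, g (f x) = x) : LVal p F R g α⁻¹ := by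
  obtain ⟨hα, f₀, hf₀, hfe⟩ := hf
  obtain ⟨R₀, -, hR₀⟩ := hf₀.exists_image
  obtain ⟨g₀, hg₀, -, hg₀e, -⟩ := hf₀.exists_inv hR₀
  have hR : ev α '' R₀ = (R : Set Ω) := by
    rw [← hR₀, ← hfr, Set.image_image]
    exact Set.image_congr fun x hx => (hfe x hx).symm
  obtain ⟨χ, hχ, hχe⟩ := leastPAuts_transport hg₀ (mem_autGroup_iff_ev.mp hα) hR
  refine ⟨Subgroup.inv_mem _ hα, χ, hχ, fun y hy => ?_⟩
  obtain ⟨x, hx, rfl⟩ := exists_of_image hfr hy
  rw [hgf x hx, hfe x hx, hχe _ (mem_of_image hR₀ hx), hg₀e x hx, ev_inv_ev _ (hf₀.le_S hx)]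

theorem LVal.mapFn (h : LVal p F P f α) : MapFn F P f := by
  obtain ⟨hα, f₀, hf₀, he⟩ := h
  exact ((hom_subset_iff_mapFn.mp (leastPAuts_le p F P) f₀ hf₀).comp (mem_autGroup_iff_ev.mp hα)
    fun x hx => hf₀.mem_S hx).congr fun x hx => (he x hx).symm

theorem exists_lval [Fact p.Prime] (hS : IsPGroup p S) (hF : F.IsSaturated p)
    (hf : MapFn F P f) : ∃ α, LVal p F P f α := by
  obtain ⟨a, f₀, ha, hf₀, he⟩ := factors_of_map hS hF P f hf
  obtain ⟨α, hα, hαe⟩ := ha.exists_aut (mapFn_image_S ha)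
  exact ⟨α, hα, f₀, hf₀, fun x hx => by rw [he x hx, ev_coe α (hf₀.mem_S hx), hαe]⟩

/-- `G(S)` times the least system. -/
def prod (hG : IsFamily p F G) : FusionSystem S where
  Hom P := {φ | ∃ f, (∀ x : P, φ x = f x) ∧ ∃ γ ∈ G S, LVal p F P f γ}
  le_of_mem := by
    rintro P φ ⟨f, he, γ, -, hv⟩
    obtain ⟨χ, hχ, hχe⟩ := hv.mapFn
    exact F.le_of_mem ((LVal.mapFn hv).mem he)
  injective_of_mem := by
    rintro P φ ⟨f, he, γ, -, hv⟩
    exact F.injective_of_mem ((LVal.mapFn hv).mem he)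
  conj_mem := by
    intro P g hP hg
    exact ⟨fun x => g * x * g⁻¹, fun _ => rfl, 1, Subgroup.one_mem _,
      lval_of_L (mapFn_conj hP hg)⟩
  comp_mem := by
    rintro P Q φ ψ ⟨f, he, γ, hγ, hv⟩ ⟨k, hke, δ, hδ, hw⟩ hm
    refine ⟨k ∘ f, fun x => ?_, δ * γ, Subgroup.mul_mem _ hδ hγ,
      hv.comp hw fun x hx => by rw [← he ⟨x, hx⟩]; exact hm _⟩
    show ψ ⟨φ x, _⟩ = k (f x)
    rw [hke]
    exact congrArg k (he x)
  inv_mem := by
    rintro P φ ⟨f, he, γ, hγ, hv⟩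
    obtain ⟨ψ, hψ, hψe⟩ := F.inv_mem ((LVal.mapFn hv).mem he)
    obtain ⟨k, hk, hke⟩ := mapFn_of_hom hψ
    refine ⟨ψ, ⟨k, hke, γ⁻¹, Subgroup.inv_mem _ hγ,
      hv.inv (MapFn.image_eq_range he) fun x hx => ?_⟩, hψe⟩
    rw [← he ⟨x, hx⟩]
    exact (hke _).symm.trans (hψe ⟨x, hx⟩)

theorem mapFn_prod_iff {hG : IsFamily p F G} :
    MapFn (prod hG) P f ↔ ∃ γ ∈ G S, LVal p F P f γ := by
  constructor
  · rintro ⟨φ, ⟨k, hke, γ, hγ, hv⟩, he⟩
    exact ⟨γ, hγ, hv.congr fun x hx => (hke ⟨x, hx⟩).symm.trans (he ⟨x, hx⟩)⟩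
  · rintro ⟨γ, hγ, hv⟩
    obtain ⟨φ, hφ, he⟩ := hv.mapFn
    exact ⟨φ, ⟨f, he, γ, hγ, hv⟩, he⟩

theorem prod_mapFn {hG : IsFamily p F G} (hf : MapFn (prod hG) P f) : MapFn F P f := by
  obtain ⟨γ, -, hv⟩ := mapFn_prod_iff.mp hf
  exact hv.mapFn

theorem mapFn_prod_of_L {hG : IsFamily p F G} (hf : MapFn (leastPAuts p F) P f) :
    MapFn (prod hG) P f := mapFn_prod_iff.mpr ⟨1, Subgroup.one_mem _, lval_of_L hf⟩

theorem prod_pAuts (hG : IsFamily p F G) : HasPAutsOnCentrics p F (prod hG) := by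
  intro P hP a ha
  obtain ⟨f, hf, -, hfe⟩ := exists_mapFn_of_aut hP.1 (hasPAuts_leastPAuts P hP ha)
  exact (mem_autGroup_iff_mapFn hP.1).mpr ⟨f, mapFn_prod_of_L hf, hfe⟩

section saturated

variable [Fact p.Prime]

/-- The maps of `X` lying in `M`. -/
def interSystem {T : Subgroup Ω} (X : FusionSystem S) (M : FusionSystem T) (hT : T ≤ S) :
    FusionSystem T where
  Hom P := {φ | φ ∈ X.Hom P ∧ φ ∈ M.Hom P}
  le_of_mem h := M.le_of_mem h.2
  injective_of_mem h := M.injective_of_mem h.2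
  conj_mem hP hg := ⟨X.conj_mem (hP.trans hT) (hT hg), M.conj_mem hP hg⟩
  comp_mem hφ hψ h := ⟨X.comp_mem hφ.1 hψ.1 h, M.comp_mem hφ.2 hψ.2 h⟩
  inv_mem := by
    rintro P φ ⟨h₁, h₂⟩
    obtain ⟨ψ, hψ, hψe⟩ := X.inv_mem h₁
    obtain ⟨χ, hχ, hχe⟩ := M.inv_mem h₂
    have : ψ = χ := MonoidHom.ext fun ⟨_, x, rfl⟩ => (hψe x).trans (hχe x).symm
    exact ⟨ψ, ⟨hψ, this ▸ hχ⟩, hψe⟩

theorem autInducedBy_le_pPrimeAut (hS : IsPGroup p S) (hQ : Q ≤ S) :
    autInducedBy S Q ≤ pPrimeAut p F Q := fun α hα => by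
  obtain ⟨k, hk⟩ := IsPGroup.iff_orderOf.mp (isPGroup_autInducedBy hS Q) ⟨α, hα⟩
  exact mem_pPrimeAut_of_pow (autInducedBy_le_autGroup hQ hα)
    ((Subgroup.orderOf_coe (⟨α, hα⟩ : autInducedBy S Q)).trans hk)

/-- The automorphisms of `S` in the least system lie in `G(S)`. -/
theorem leastPAuts_top_le (hG : IsFamily p F G) (hS : IsPGroup p S) :
    (leastPAuts p F).autGroup S ≤ G S := by
  let X : FusionSystem S :=
    { Hom := fun P => {φ | φ ∈ F.Hom P ∧ (P = S → ∀ f : Ω → Ω, (∀ x : P, φ x = f x) →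
        ∃ a ∈ G S, ∀ x ∈ S, f x = ev a x)}
      le_of_mem := fun h => F.le_of_mem h.1
      injective_of_mem := fun h => F.injective_of_mem h.1
      conj_mem := fun {P g} hP hg => ⟨F.conj_mem hP hg, fun hPS f hf => by
        obtain ⟨a, ha, hae⟩ := exists_autInducedBy (K := S) hg (Subgroup.le_normalizer hg)
        exact ⟨a, hG.pAuts S isCentric_self (autInducedBy_le_pPrimeAut hS le_rfl ha), fun x hx => by
          rw [ev_coe a hx, hae]; exact (hf ⟨x, hPS.ge hx⟩).symm⟩⟩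
      comp_mem := fun {P Q φ ψ} hφ hψ hm => ⟨F.comp_mem hφ.1 hψ.1 hm, fun hPS f hf => by
        obtain ⟨f₁, hf₁, hf₁e⟩ := mapFn_of_hom hφ.1
        obtain ⟨f₂, hf₂, hf₂e⟩ := mapFn_of_hom hψ.1
        obtain ⟨a, ha, hae⟩ := hφ.2 hPS f₁ hf₁e
        have hQS : Q = S := le_antisymm hf₂.le_S fun y hy => by
          have h2 : f₁ '' S = (S : Set Ω) := mapFn_image_S (hf₁.mono hPS.ge)
          obtain ⟨x, hx, rfl⟩ := exists_of_image h2 hy
          rw [← hf₁e ⟨x, hPS.ge hx⟩]; exact hm _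
        obtain ⟨b, hb, hbe⟩ := hψ.2 hQS f₂ hf₂e
        refine ⟨b * a, Subgroup.mul_mem _ hb ha, fun x hx => ?_⟩
        rw [ev_mul b a hx, ← hae x hx, ← hbe _ (by rw [hae x hx]; exact ev_mem a hx),
          ← hf ⟨x, hPS.ge hx⟩, ← hf₁e ⟨x, hPS.ge hx⟩, ← hf₂e ⟨φ ⟨x, hPS.ge hx⟩, hm _⟩]
        rfl⟩
      inv_mem := fun {P φ} hφ => by
        obtain ⟨ψ, hψ, hψe⟩ := F.inv_mem hφ.1
        refine ⟨ψ, ⟨hψ, fun hrS f hf => ?_⟩, hψe⟩
        obtain ⟨f₁, hf₁, hf₁e⟩ := mapFn_of_hom hφ.1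
        have hPS : P = S := eq_of_le_of_card_le hf₁.le_S
          ((congrArg (fun X : Subgroup Ω => Nat.card X) hrS).symm.le.trans (card_range hφ.1).le)
        obtain ⟨a, ha, hae⟩ := hφ.2 hPS f₁ hf₁e
        refine ⟨a⁻¹, Subgroup.inv_mem _ ha, fun y hy => ?_⟩
        obtain ⟨⟨x, hx⟩, rfl⟩ := hrS.ge hy
        rw [show f (φ ⟨x, hx⟩) = x from (hf ⟨φ ⟨x, hx⟩, _, rfl⟩).symm.trans (hψe ⟨x, hx⟩),
          hf₁e ⟨x, hx⟩, hae x (hPS.le hx), ev_inv_ev a (hPS.le hx)] }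
  have hX : HasPAutsOnCentrics p F X := fun P hP a ha =>
    (mem_autGroup hP.1).mpr ⟨(mem_autGroup hP.1).mp (pPrimeAut_le_autGroup ha), fun hPS f hf => by
      subst hPS
      exact ⟨a, hG.pAuts _ hP ha, fun x hx => by rw [ev_coe a hx]; exact (hf ⟨x, hx⟩).symm⟩⟩
  intro a ha
  obtain ⟨φ, hφ, hφe⟩ := hom_subset_iff_mapFn.mp (leastPAuts_le_of hX S) _ (mem_autGroup_iff_ev.mp ha)
  obtain ⟨b, hb, hbe⟩ := hφ.2 rfl _ hφe
  have : a = b := MulEquiv.ext fun x => Subtype.ext (by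
    rw [← ev_coe a x.2, ← ev_coe b x.2]; exact hbe x x.2)
  exact this ▸ hb

theorem prod_top_le (hG : IsFamily p F G) (hS : IsPGroup p S) :
    (prod hG).autGroup S ≤ G S := by
  intro a ha
  obtain ⟨γ, hγ, hγF, f₀, hf₀, he⟩ := mapFn_prod_iff.mp (mem_autGroup_iff_ev.mp ha)
  have h2 : γ⁻¹ * a ∈ (leastPAuts p F).autGroup S := mem_autGroup_iff_ev.mpr
    (hf₀.congr fun x hx => by rw [ev_mul γ⁻¹ a hx, he x hx, ev_inv_ev γ (hf₀.mem_S hx)])
  simpa using Subgroup.mul_mem _ hγ (leastPAuts_top_le hG hS h2)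

/-- Frattini argument in `Aut_F(Q)`. -/
theorem exists_frattini (hS : IsPGroup p S) (hF : F.IsSaturated p) (hQn : F.IsFullyNormalized Q)
    {γ : MulAut Q} (hγ : γ ∈ F.autGroup Q) : ∃ (a : F.autGroup Q) (k : MulAut Q),
      (∀ s ∈ autInducedBy S Q, (a : MulAut Q) * s * (a : MulAut Q)⁻¹ ∈ autInducedBy S Q) ∧
      k ∈ pPrimeAut p F Q ∧ γ = (a : MulAut Q) * k := by
  haveI := finite_mulAut hQn.1
  obtain ⟨-, T, hT⟩ := (fullyNormalized_good hS hF hQn).1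
  set K : Subgroup (F.autGroup Q) := (pPrimeAut p F Q).subgroupOf (F.autGroup Q)
  haveI : K.Normal := ⟨fun a ha b => by
    rw [Subgroup.mem_subgroupOf] at ha ⊢
    have hle : pPrimeAut p F Q ≤
        (pPrimeAut p F Q).comap (MulAut.conj (b : MulAut Q)).toMonoidHom :=
      pPrimeAut_le fun x hx l hl => mem_pPrimeAut_of_pow
        (Subgroup.mul_mem _ (Subgroup.mul_mem _ b.2 hx) (Subgroup.inv_mem _ b.2))
        (by show orderOf (MulAut.conj (b : MulAut Q) x) = _; rw [MulEquiv.orderOf_eq]; exact hl)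
    exact hle ha⟩
  have hTK : (T : Subgroup (F.autGroup Q)) ≤ K := fun t ht => by
    rw [hT] at ht
    exact autInducedBy_le_pPrimeAut hS hQn.1 ht
  obtain ⟨a, ha, k, hk, hγk⟩ := exists_mul_of_normal T K ⟨γ, hγ⟩
  rw [inf_eq_left.mpr hTK] at ha
  refine ⟨a, k, fun s hs => ?_, hk, congrArg Subtype.val hγk⟩
  have hm : (⟨s, autInducedBy_le_autGroup hQn.1 hs⟩ : F.autGroup Q) ∈
      (T : Subgroup (F.autGroup Q)) := hT.ge hs
  exact hT.le ((Subgroup.mem_normalizer_iff.mp ha _).mp hm)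

/-- An automorphism normalizing `Aut_S(Q)` extends to `N_S(Q)`. -/
theorem exists_ext_of_normalizing (hS : IsPGroup p S) (hF : F.IsSaturated p)
    (hQn : F.IsFullyNormalized Q) {a : MulAut Q} (ha : a ∈ F.autGroup Q)
    (hn : ∀ s ∈ autInducedBy S Q, a * s * a⁻¹ ∈ autInducedBy S Q) :
    ∃ f, MapFn F (normalizerIn S Q) f ∧ f '' Q = (Q : Set Ω) ∧
      ∀ x : Q, f x = ((a x : Q) : Ω) := by
  obtain ⟨fa, hfa, hfar, hfae⟩ := exists_mapFn_of_aut hQn.1 ha
  obtain ⟨fN, hfN, hfNe⟩ := hfa.exists_extension (fullyNormalized_good hS hF hQn).2 hfar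
    (le_normalizerIn hQn.1) le_rfl fun z hz => by
      obtain ⟨c, hc', hce⟩ := exists_autInducedBy (K := S) hz.1 hz.2
      obtain ⟨s, hs, hse⟩ := mem_autInducedBy.mp (hn c hc')
      refine ⟨s, hs, fun x hx => ?_⟩
      rw [hfae ⟨x, hx⟩, hfae ⟨z * x * z⁻¹, conj_mem_of_normalizer hz.2 hx⟩, ← hse]
      have h2 : (⟨z * x * z⁻¹, conj_mem_of_normalizer hz.2 hx⟩ : Q) = c ⟨x, hx⟩ :=
        Subtype.ext (hce ⟨x, hx⟩).symm
      rw [h2]
      simp
  exact ⟨fN, hfN, (Set.image_congr hfNe).trans hfar,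
    fun x => (hfNe x x.2).trans (hfae x)⟩

theorem exists_prod_good (hS : IsPGroup p S) (hF : F.IsSaturated p) (hP : P ≤ S) :
    ∃ (Q : Subgroup Ω) (g : Ω → Ω), F.IsFullyNormalized Q ∧
      MapFn (leastPAuts p F) (normalizerIn S P) g ∧ g '' P = (Q : Set Ω) := by
  obtain ⟨Q₀, h, hQ₀, hh, hhr, -⟩ := exists_fullyNormalized_mapFn hS hF hP
  obtain ⟨η, hη, h₀, hh₀, he⟩ := exists_lval hS hF hh
  obtain ⟨Q, -, hQ⟩ := (hh₀.mono (le_normalizerIn hP)).exists_image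
  refine ⟨Q, h₀, isFullyNormalized_ev (Subgroup.inv_mem _ hη) hQ₀ ?_, hh₀, hQ⟩
  rw [← hhr, ← hQ, Set.image_image]
  refine Set.image_congr fun x hx => ?_
  rw [he x (le_normalizerIn hP hx), ev_inv_ev _ (hh₀.mem_S (le_normalizerIn hP hx))]

/-- Automorphisms in `G` of centric subgroups are in `G(S)` times the least system. -/
theorem mapFn_prod_of_mem (hS : IsPGroup p S) (hF : F.IsSaturated p) (hG : IsFamily p F G)
    (hP : F.IsCentric P) {a : MulAut P} (ha : a ∈ G P) (hf : ∀ x : P, f x = ((a x : P) : Ω)) :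
    MapFn (prod hG) P f := by
  suffices h : ∀ (m : ℕ) (P : Subgroup Ω), Nat.card S - Nat.card P < m → F.IsCentric P →
      ∀ a ∈ G P, ∀ f : Ω → Ω, (∀ x : P, f x = ((a x : P) : Ω)) → MapFn (prod hG) P f from
    h _ P (Nat.lt_succ_self _) hP a ha f hf
  intro m
  induction m with
  | zero => intro P h; omega
  | succ m ih =>
  intro P hm hP a ha f hf
  obtain ⟨h, hh, -, hhe⟩ := exists_mapFn_of_aut hP.1 (hG.le P hP ha)
  have hfF : MapFn F P f := hh.congr fun x hx => (hhe ⟨x, hx⟩).trans (hf ⟨x, hx⟩).symm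
  by_cases hPS : P = S
  · subst hPS
    exact mapFn_prod_iff.mpr ⟨a, ha,
      (lval_ev le_rfl (hG.le _ hP ha)).congr fun x hx => by rw [ev_coe a hx, hf ⟨x, hx⟩]⟩
  have hfr : f '' P = (P : Set Ω) := hfF.image_eq_of_maps hP.1
    (fun x hx => by rw [hf ⟨x, hx⟩]; exact Subtype.mem _) le_rfl
  obtain ⟨Q, g, hQn, hg, hgQ⟩ := exists_prod_good hS hF hP.1
  have hgP := hg.mono (le_normalizerIn hP.1)
  obtain ⟨φ, hφ, hφe⟩ := hgP
  have hgP : MapFn (leastPAuts p F) P g := ⟨φ, hφ, hφe⟩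
  have hφF := leastPAuts_le p F P hφ
  have hφr : φ.range = Q := SetLike.coe_injective (by rw [← MapFn.image_eq_range hφe, hgQ])
  obtain ⟨e, he⟩ := exists_equiv hφF hφr
  have hQc : F.IsCentric Q := IsCentric.of_conj hP ⟨φ, hφF, hφr⟩
  set γ := MulAut.congr e a
  have hγG : γ ∈ G Q := hG.congr P Q φ hP hφF e he a ha
  obtain ⟨b, k, hbN, hk, hγk⟩ := exists_frattini hS hF hQn (hG.le Q hQc hγG)
  have hbG : (b : MulAut Q) ∈ G Q := by
    have := Subgroup.mul_mem _ hγG (Subgroup.inv_mem _ (hG.pAuts Q hQc hk))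
    rwa [hγk, mul_inv_cancel_right] at this
  obtain ⟨fN, hfN, hfNr, hfNe⟩ := exists_ext_of_normalizing hS hF hQn b.2 hbN
  have hQN := le_normalizerIn hQn.1
  obtain ⟨c, hc, hce⟩ := hfN.exists_aut (hfN.image_eq_of_maps normalizerIn_le
    (fun x hx => hfN.mem_normalizerIn hQN hfNr hx hx.2) le_rfl)
  have hcG := hG.ascend Q hQn hQc c hc b hbG fun x hx => by rw [hce, hfNe]
  have hlt : Nat.card P < Nat.card (normalizerIn S Q) := by
    have hQS : Q ≠ S := fun e' => hPS (eq_of_le_of_card_le hP.1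
      ((congrArg (fun X : Subgroup Ω => Nat.card X) e').symm.le.trans
        (IsConj.card_eq ⟨φ, hφF, hφr⟩).le))
    rw [← IsConj.card_eq ⟨φ, hφF, hφr⟩]
    exact card_lt_card normalizerIn_le (lt_normalizerIn' hS hQn.1 hQS)
  have hfNW : MapFn (prod hG) (normalizerIn S Q) fN :=
    ih _ (by have := card_le_card_S (R := normalizerIn S Q) normalizerIn_le; omega)
      (IsCentric.of_le hQc hQN normalizerIn_le) c hcG fN fun x => (hce x).symm
  obtain ⟨fk, hfk, hfkr, hfke⟩ := exists_mapFn_of_aut hQn.1 (hasPAuts_leastPAuts Q hQc hk)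
  obtain ⟨g₁, hg₁, -, hg₁₁, -⟩ := hgP.exists_inv hgQ
  refine ((((mapFn_prod_of_L hgP).comp (mapFn_prod_of_L hfk) fun x hx => mem_of_image hgQ hx).comp
    (hfNW.mono hQN) fun x hx => mem_of_image hfkr (mem_of_image hgQ hx)).comp
    (mapFn_prod_of_L hg₁) fun x hx => mem_of_image hfNr (mem_of_image hfkr (mem_of_image hgQ hx))).congr
    fun x hx => ?_
  show g₁ (fN (fk (g x))) = f x
  have h1 : ((γ (e ⟨x, hx⟩) : Q) : Ω) = g (f x) := by
    show ((e (a (e.symm (e ⟨x, hx⟩))) : Q) : Ω) = _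
    rw [MulEquiv.symm_apply_apply, he, hφe, ← hf ⟨x, hx⟩]
  have h2 : fN (fk (g x)) = g (f x) := by
    rw [← h1, hγk, show g x = ((e ⟨x, hx⟩ : Q) : Ω) from ((he ⟨x, hx⟩).trans (hφe ⟨x, hx⟩)).symm, hfke, hfNe]
    rfl
  rw [h2, hg₁₁ _ (mem_of_image hfr hx)]

/-- Maps inside `N_S(Q)` restricting to `O^{p'}(Aut_F(Q))` on a fully normalized centric `Q`. -/
theorem mapFn_prod_of_inK (hS : IsPGroup p S) (hF : F.IsSaturated p) (hG : IsFamily p F G) (hQn : F.IsFullyNormalized Q)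
    (hQc : F.IsCentric Q) (hQW : Q ≤ W) (hW : W ≤ normalizerIn S Q) (hf : MapFn F W f)
    (hK : InK p F Q f) : MapFn (prod hG) W f := by
  have hQS := hQn.1
  obtain ⟨hQa, hQr⟩ := fullyNormalized_good hS hF hQn
  haveI := finite_of_le (normalizerIn_le (S := S) (P := Q))
  haveI := finite_mulAut hQS
  set K := pPrimeAut p F Q with hKdef
  have hAK : autInducedBy S Q ≤ K := autInducedBy_le_pPrimeAut hS hQS
  have hT : IsKNormalizer S Q K (normalizerIn S Q) := fun g =>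
    and_congr_right fun hg => ⟨fun hn => by
      obtain ⟨a, ha, hae⟩ := exists_autInducedBy (K := S) hg hn
      exact ⟨a, hAK ha, hae⟩, fun ⟨a, _, h⟩ => mem_normalizer_of_aut h⟩
  have hKc : Nat.card ↥(K ⊓ autInducedBy S Q) =
      p ^ (Nat.card ↥(K ⊓ F.autGroup Q)).factorization p := by
    rw [inf_eq_right.mpr hAK, inf_eq_left.mpr (pPrimeAut_le_autGroup (F := F) : K ≤ _)]
    have h := (fullyAutomized_iff.mp hQa).2
    have hp : p.Prime := Fact.out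
    refine h.trans ?_
    congr 1
    apply le_antisymm
    · rw [← hp.pow_dvd_iff_le_factorization Nat.card_pos.ne', ← h]
      exact Subgroup.card_dvd_of_le hAK
    · rw [← hp.pow_dvd_iff_le_factorization Nat.card_pos.ne']
      exact (Nat.ordProj_dvd _ p).trans (Subgroup.card_dvd_of_le pPrimeAut_le_autGroup)
  have hMs := extSystem_saturated hS hF hQr hKc hT
  have hTp : IsPGroup p (normalizerIn S Q) := hS.to_le normalizerIn_le
  set M := extSystem F hQr.1 K (normalizerIn S Q) hT with hMdef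
  have hpa : HasPAutsOnCentrics p M (interSystem (prod hG) M normalizerIn_le) := by
    intro P hP
    refine pPrimeAut_le fun α hα k hk => ?_
    obtain ⟨a, ha, har, hae⟩ := exists_mapFn_of_aut hP.1 hα
    obtain ⟨-, g, hg, hge, κ, -, hκe⟩ := exists_of_mapFn_ext ha
    have hWc : F.IsCentric (P ⊔ Q) :=
      IsCentric.of_le hQc le_sup_right (sup_le (hP.1.trans normalizerIn_le) hQS)
    have hgm : ∀ x ∈ P ⊔ Q, g x ∈ P ⊔ Q := hg.maps_sup
      (fun x hx => by rw [hge x hx]; exact Subgroup.mem_sup_left (mem_of_image har hx))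
      (fun x hx => by rw [hκe ⟨x, hx⟩]; exact Subgroup.mem_sup_right (Subtype.mem _))
    obtain ⟨b, hb, hbe⟩ := hg.exists_aut (hg.image_eq_of_maps hWc.1 hgm le_rfl)
    have hbP : ∀ x : P, ((b ⟨x, Subgroup.mem_sup_left x.2⟩ : ↥(P ⊔ Q)) : Ω) = ((α x : P) : Ω) :=
      fun x => ((hbe _).trans (hge x x.2)).trans (hae x)
    have hp : p.Prime := Fact.out
    haveI := finite_mulAut hWc.1
    have hN : orderOf b ≠ 0 := (orderOf_pos b).ne'
    set m := orderOf b / p ^ (orderOf b).factorization p with hm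
    have hbord : orderOf (b ^ m) = p ^ (orderOf b).factorization p := by
      rw [hm, orderOf_pow_orderOf_div hN (Nat.ordProj_dvd _ p)]
    have hcop : Nat.Coprime m (orderOf α) := by
      rw [hk]
      exact (Nat.Coprime.pow_left k (Nat.coprime_ordCompl hp hN)).symm
    obtain ⟨j, hj⟩ := exists_pow_eq_self_of_coprime hcop
    obtain ⟨c, hc, -, hce⟩ := exists_mapFn_of_aut hWc.1
      ((prod_pAuts hG) _ hWc (mem_pPrimeAut_of_pow (Subgroup.pow_mem _ hb m) hbord))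
    have hαm : α ^ m ∈ (interSystem (prod hG) M normalizerIn_le).autGroup P :=
      (mem_autGroup hP.1).mpr ⟨(hc.mono le_sup_left).mem fun x =>
        ((hce ⟨x, Subgroup.mem_sup_left x.2⟩).trans (coe_pow_restrict le_sup_left hbP m x)).symm,
        (mem_autGroup hP.1).mp (Subgroup.pow_mem _ hα m)⟩
    rw [← hj]
    exact Subgroup.pow_mem _ hαm j
  have hfT : ∀ x ∈ W, f x ∈ normalizerIn S Q := fun x hx =>
    hf.mem_normalizerIn hQW hK.image hx (hW hx).2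
  obtain ⟨k, hk, hke⟩ := hK
  have hfM : MapFn M W f := mapFn_ext hW (hf.mono (sup_le le_rfl hQW)) hfT hk hke
  obtain ⟨a, f₀, ha, hf₀, he⟩ := factors_of_map hTp hMs W f hfM
  obtain ⟨φ, hφ, hφe⟩ := hom_subset_iff_mapFn.mp (leastPAuts_le_of hpa W) f₀ hf₀
  obtain ⟨haF, g, hg, hge, κ, hκ, hκe⟩ := exists_of_mapFn_ext ha
  have hQN := le_normalizerIn hQS
  have haK : InK p F Q a := ⟨κ, hκ, fun x => (hge x (hQN x.2)).symm.trans (hκe x)⟩
  obtain ⟨c, hc, hce⟩ := haF.exists_aut (haF.image_eq_of_maps normalizerIn_le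
    (fun x hx => haF.mem_normalizerIn hQN haK.image hx hx.2) le_rfl)
  have haY : MapFn (prod hG) (normalizerIn S Q) a :=
    mapFn_prod_of_mem hS hF hG (IsCentric.of_le hQc hQN normalizerIn_le)
      (hG.ascend Q hQn hQc c hc κ (hG.pAuts Q hQc hκ) fun x hx => by
        rw [hce]; exact (hge _ hx).symm.trans (hκe x)) fun x => (hce x).symm
  exact (MapFn.comp (⟨φ, hφ.1, hφe⟩ : MapFn (prod hG) W f₀) haY fun x hx => hf₀.mem_S hx).congr
    fun x hx => (he x hx).symm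

/-- Uniqueness of values modulo `G(S)` on centric subgroups of order greater than `n`. -/
def UniqueAbove (hG : IsFamily p F G) (n : ℕ) : Prop :=
  ∀ P : Subgroup Ω, F.IsCentric P → n < Nat.card P → ∀ α ∈ F.autGroup S,
    MapFn (prod hG) P (ev α) → α ∈ G S

theorem LVal.mem_of_prod {hG : IsFamily p F G} {n : ℕ} (hu : UniqueAbove hG n) (hP : F.IsCentric P)
    (hn : n < Nat.card P) (h : LVal p F P f α) (hf : MapFn (prod hG) P f) : α ∈ G S := by
  obtain ⟨hα, f₀, hf₀, hfe⟩ := h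
  obtain ⟨R₀, -, hR₀⟩ := hf₀.exists_image
  obtain ⟨g₀, hg₀, hg₀r, hg₀e, -⟩ := hf₀.exists_inv hR₀
  have hc := (hom_subset_iff_mapFn.mp (leastPAuts_le p F P) f₀ hf₀).isConj hR₀
  refine hu R₀ (IsCentric.of_conj hP hc) (by rw [IsConj.card_eq hc]; exact hn) α hα ?_
  refine ((mapFn_prod_of_L hg₀).comp hf fun y hy => mem_of_image hg₀r hy).congr fun y hy => ?_
  obtain ⟨x, hx, rfl⟩ := exists_of_image hR₀ hy
  show f (g₀ (f₀ x)) = _
  rw [hg₀e x hx, hfe x hx]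

/-- Read between fully normalized conjugates, `f` is in `O^{p'}(Aut_F(Q))` followed by a map of `gen`
on the normalizer. -/
def Good (hG : IsFamily p F G) (P : Subgroup Ω) (f : Ω → Ω) : Prop :=
  ∀ (P' Q Q' : Subgroup Ω) (g g' : Ω → Ω), f '' P = (P' : Set Ω) → F.IsFullyNormalized Q →
    F.IsFullyNormalized Q' → MapFn (prod hG) (normalizerIn S P) g → g '' P = (Q : Set Ω) →
    MapFn (prod hG) (normalizerIn S P') g' → g' '' P' = (Q' : Set Ω) →
    ∃ e c, MapFn (prod hG) (normalizerIn S Q) e ∧ e '' Q = (Q' : Set Ω) ∧ InK p F Q c ∧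
      ∀ x ∈ P, g' (f x) = e (c (g x))

theorem Good.congr {hG : IsFamily p F G} (h : Good hG P f) (e : ∀ x ∈ P, f x = g x) : Good hG P g := by
  intro P' Q Q' k k' hfP' hQ hQ' hk hkQ hk' hk'Q
  obtain ⟨d, c, hd, hdr, hc, hce⟩ :=
    h P' Q Q' k k' ((Set.image_congr e).trans hfP') hQ hQ' hk hkQ hk' hk'Q
  exact ⟨d, c, hd, hdr, hc, fun x hx => by rw [← e x hx]; exact hce x hx⟩

theorem good_top {hG : IsFamily p F G} (hf : MapFn (prod hG) S f) : Good hG S f := by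
  intro P' Q Q' g g' hfP' hQn _ hg hgQ hg' hg'Q
  have hN : normalizerIn S S = S := le_antisymm normalizerIn_le (le_normalizerIn le_rfl)
  rw [hN] at hg
  obtain rfl : P' = S := SetLike.coe_injective (hfP'.symm.trans (mapFn_image_S hf))
  rw [hN] at hg'
  obtain rfl : Q = P' := SetLike.coe_injective (hgQ.symm.trans (mapFn_image_S hg))
  obtain rfl : Q' = Q := SetLike.coe_injective (hg'Q.symm.trans (mapFn_image_S hg'))
  rw [hN]
  obtain ⟨g₁, hg₁, -, hg₁₁, -⟩ := hg.exists_inv hgQ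
  have he : MapFn (prod hG) Q' (g' ∘ f ∘ g₁) :=
    (hg₁.comp hf fun x hx => hg₁.mem_S hx).comp hg' fun x hx => hf.mem_S (hg₁.mem_S hx)
  exact ⟨g' ∘ f ∘ g₁, id, he, mapFn_image_S he, inK_id, fun x hx => by
    show g' (f x) = g' (f (g₁ (g x)))
    rw [hg₁₁ x hx]⟩

theorem good_of_larger {hG : IsFamily p F G} (hS : IsPGroup p S) (hF : F.IsSaturated p) {n : ℕ}
    (hu : UniqueAbove hG n) (hn : Nat.card P = n) (hPc : F.IsCentric P) (hPB : P < B)
    (hf : MapFn (prod hG) B f) : Good hG P f := by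
  intro P' Q Q' g g' hfP' hQn hQ'n hg hgQ hg' hg'Q
  have hBS := hf.le_S
  have hPS : P ≤ S := hPB.le.trans hBS
  have hPN : P < normalizerIn B P := Fusion.lt_normalizerIn hS hBS hPB
  have hNN : normalizerIn B P ≤ normalizerIn S P := inf_le_inf_right _ hBS
  have hcQ : F.IsConj P Q := ((prod_mapFn hg).mono (le_normalizerIn hPS)).isConj hgQ
  have hQc : F.IsCentric Q := IsCentric.of_conj hPc hcQ
  obtain ⟨M, hMS, hM⟩ := (hg.mono hNN).exists_image
  obtain ⟨g₁, hg₁, hg₁r, hg₁₁, -⟩ := (hg.mono hNN).exists_inv hM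
  have hQM : Q ≤ M := fun y hy => by
    obtain ⟨x, hx, rfl⟩ := exists_of_image hgQ hy
    exact mem_of_image hM (hPN.le hx)
  have hcM : n < Nat.card M := by
    rw [(hg.mono hNN).card_image hM, ← hn]
    exact card_lt_card (hNN.trans normalizerIn_le) hPN
  have hMN : M ≤ normalizerIn S Q := fun y hy => by
    obtain ⟨x, hx, rfl⟩ := exists_of_image hM hy
    exact hg.mem_normalizerIn (le_normalizerIn hPS) hgQ (hNN hx) (hNN hx).2
  have hfm : ∀ x ∈ normalizerIn B P, f x ∈ normalizerIn S P' := fun x hx =>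
    hf.mem_normalizerIn hPB.le hfP' hx.1 hx.2
  have hv : MapFn (prod hG) M (g' ∘ f ∘ g₁) :=
    (hg₁.comp hf fun x hx => (mem_of_image hg₁r hx).1).comp hg' fun x hx =>
      hfm _ (mem_of_image hg₁r hx)
  have hve : ∀ x ∈ P, (g' ∘ f ∘ g₁) (g x) = g' (f x) := fun x hx => by
    show g' (f (g₁ (g x))) = _
    rw [hg₁₁ x (hPN.le hx)]
  have hvr : (g' ∘ f ∘ g₁) '' Q = (Q' : Set Ω) := by
    rw [← hgQ, ← hg'Q, ← hfP', Set.image_image, Set.image_image]
    exact Set.image_congr hve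
  set v := g' ∘ f ∘ g₁ with hvdef
  have hvF := prod_mapFn hv
  have hc : F.IsConj Q Q' := (hvF.mono hQM).isConj hvr
  obtain ⟨h, hh, hhr, hhm⟩ := exists_normalizer_mapFn hS hF hQ'n hc
  have hhN : h '' (normalizerIn S Q) = (normalizerIn S Q' : Set Ω) :=
    hh.image_eq_of_maps normalizerIn_le hhm (hQn.2 Q' hc)
  obtain ⟨h', hh', hh'r, hh'₁, hh'₂⟩ := hh.exists_inv hhN
  have hvN : ∀ x ∈ M, v x ∈ normalizerIn S Q' := fun x hx =>
    hvF.mem_normalizerIn hQM hvr hx (hMN hx).2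
  have hh'Q : ∀ x ∈ Q, h' (v x) ∈ Q := fun x hx => by
    obtain ⟨y, hy, hye⟩ := exists_of_image hhr (mem_of_image hvr hx)
    rw [← hye, hh'₁ y (le_normalizerIn hQn.1 hy)]
    exact hy
  have hw : MapFn F Q (h' ∘ v) :=
    (hvF.mono hQM).comp hh' fun x hx => hvN x (hQM hx)
  obtain ⟨γ, hγ, hγe⟩ := hw.exists_aut (hw.image_eq_of_maps hQn.1 hh'Q le_rfl)
  obtain ⟨a, k, haN, hk, hγk⟩ := exists_frattini hS hF hQn hγ
  obtain ⟨fN, hfN, hfNr, hfNe⟩ := exists_ext_of_normalizing hS hF hQn a.2 haN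
  have hfNN : ∀ x ∈ normalizerIn S Q, fN x ∈ normalizerIn S Q := fun x hx =>
    hfN.mem_normalizerIn (le_normalizerIn hQn.1) hfNr hx hx.2
  set e := h ∘ fN with hedef
  have he : MapFn F (normalizerIn S Q) e := hfN.comp hh hfNN
  have heN : e '' (normalizerIn S Q) = (normalizerIn S Q' : Set Ω) :=
    he.image_eq_of_maps normalizerIn_le (fun x hx => hhm _ (hfNN x hx)) (hQn.2 Q' hc)
  obtain ⟨e', he', he'r, he'₁, he'₂⟩ := he.exists_inv heN
  obtain ⟨c, hcK, hce⟩ : ∃ c, InK p F Q c ∧ ∀ x ∈ Q, v x = e (c x) := by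
    obtain ⟨c, -, -, hce⟩ := exists_mapFn_of_aut hQn.1 (pPrimeAut_le_autGroup hk)
    refine ⟨c, ⟨k, hk, hce⟩, fun x hx => ?_⟩
    have h1 : h' (v x) = fN (c x) := by
      rw [hce ⟨x, hx⟩, hfNe, show h' (v x) = _ from (hγe ⟨x, hx⟩).symm, hγk]
      rfl
    show v x = h (fN (c x))
    rw [← h1, hh'₂ _ (hvN x (hQM hx))]
  have hδ : MapFn F M (e' ∘ v) := hvF.comp he' hvN
  have hδK : InK p F Q (e' ∘ v) := hcK.congr fun x hx => by
    show c x = e' (v x)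
    rw [hce x hx, he'₁ _ (le_normalizerIn hQn.1 (hcK.mem hx))]
  have hδY : MapFn (prod hG) M (e' ∘ v) := mapFn_prod_of_inK hS hF hG hQn hQc hQM hMN hδ hδK
  obtain ⟨M', -, hM'⟩ := hδ.exists_image
  obtain ⟨d, hd, hdr, hd₁, -⟩ := hδY.exists_inv hM'
  have heY : MapFn (prod hG) M' e := (hd.comp hv fun y hy => mem_of_image hdr hy).congr fun y hy => by
    obtain ⟨x, hx, rfl⟩ := exists_of_image hM' hy
    show v (d ((e' ∘ v) x)) = e (e' (v x))
    rw [hd₁ x hx, he'₂ _ (hvN x hx)]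
  obtain ⟨ν, hν⟩ := exists_lval hS hF he
  have hM'N : M' ≤ normalizerIn S Q := fun y hy => by
    obtain ⟨x, hx, rfl⟩ := exists_of_image hM' hy
    exact mem_of_image he'r (hvN x hx)
  have hνY := (hν.mono hM'N).mem_of_prod hu
    (IsCentric.of_conj (IsCentric.of_le hQc hQM hMS) (hδ.isConj hM'))
    (by rw [hδ.card_image hM']; exact hcM) heY
  refine ⟨e, c, mapFn_prod_iff.mpr ⟨ν, hνY, hν⟩, ?_, hcK, fun x hx => ?_⟩
  · show (h ∘ fN) '' Q = _
    rw [Set.image_comp, hfNr, hhr]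
  · rw [← hve x hx, hce _ (mem_of_image hgQ hx)]

theorem good_of_le {hG : IsFamily p F G} (hS : IsPGroup p S) (hF : F.IsSaturated p) {n : ℕ}
    (hu : UniqueAbove hG n) (hn : Nat.card P = n) (hPc : F.IsCentric P) (hPB : P ≤ B)
    (hf : MapFn (prod hG) B f) (hB : Nat.card B = n → Good hG B f) : Good hG P f := by
  rcases eq_or_lt_of_le hPB with rfl | h
  · exact hB hn
  · exact good_of_larger hS hF hu hn hPc h hf

theorem good_id {hG : IsFamily p F G} (hS : IsPGroup p S) (hF : F.IsSaturated p) {n : ℕ} (hu : UniqueAbove hG n)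
    (hn : Nat.card P = n) (hPc : F.IsCentric P) : Good hG P id := by
  refine good_of_le hS hF hu hn hPc hPc.1 (mapFn_id le_rfl) fun _ => good_top (mapFn_id le_rfl)

theorem good_of_inK {hG : IsFamily p F G} (hS : IsPGroup p S) (hF : F.IsSaturated p) {n : ℕ}
    (hu : UniqueAbove hG n) (hn : Nat.card P = n) (hPc : F.IsCentric P) (hf : InK p F P f) :
    Good hG P f := by
  intro P' Q Q' g g' hfP' hQ hQ' hg hgQ hg' hg'Q
  obtain rfl : P' = P := SetLike.coe_injective (hfP'.symm.trans hf.image)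
  obtain ⟨e, c, he, her, hc, hce⟩ :=
    good_id hS hF hu hn hPc P' Q Q' g g' (Set.image_id _) hQ hQ' hg hgQ hg' hg'Q
  obtain ⟨c₀, hc₀, hc₀e⟩ := hf.transport ((prod_mapFn hg).mono (le_normalizerIn hPc.1)) hgQ
  refine ⟨e, c ∘ c₀, he, her, hc₀.comp hc, fun x hx => ?_⟩
  show g' (f x) = e (c (c₀ (g x)))
  rw [hc₀e x hx]
  exact hce (f x) (hf.mem hx)

theorem Good.comp {hG : IsFamily p F G} (hS : IsPGroup p S) (hF : F.IsSaturated p) (hf : MapFn F P f)
    (hfP : f '' P = (R : Set Ω)) (h₁ : Good hG P f) (h₂ : Good hG R g) :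
    Good hG P (g ∘ f) := by
  intro P' Q Q' k k' hgfP hQ hQ' hk hkQ hk' hk'Q
  have hRS : R ≤ S := IsConj.le_right (hf.isConj hfP)
  obtain ⟨Q₁, k₁, hQ₁, hk₁L, hk₁Q⟩ := exists_prod_good hS hF hRS
  have hk₁ := mapFn_prod_of_L (hG := hG) hk₁L
  obtain ⟨e₁, c₁, he₁, he₁r, hc₁, hce₁⟩ := h₁ R Q Q₁ k k₁ hfP hQ hQ₁ hk hkQ hk₁ hk₁Q
  have hgR : g '' R = (P' : Set Ω) := by rw [← hfP, ← Set.image_comp]; exact hgfP
  obtain ⟨e₂, c₂, he₂, he₂r, hc₂, hce₂⟩ := h₂ P' Q₁ Q' k₁ k' hgR hQ₁ hQ' hk₁ hk₁Q hk' hk'Q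
  have he₁Q := (prod_mapFn he₁).mono (le_normalizerIn hQ.1)
  obtain ⟨i, hi, hir, -, hi₂⟩ := he₁Q.exists_inv he₁r
  obtain ⟨c₃, hc₃, hc₃e⟩ := hc₂.transport hi hir
  refine ⟨e₂ ∘ e₁, c₃ ∘ c₁, he₁.comp he₂ fun x hx =>
      (prod_mapFn he₁).mem_normalizerIn (le_normalizerIn hQ.1) he₁r hx hx.2,
    image_comp he₁r he₂r, hc₁.comp hc₃, fun x hx => ?_⟩
  have hz : c₁ (k x) ∈ Q := hc₁.mem (mem_of_image hkQ hx)
  have hy : e₁ (c₁ (k x)) ∈ Q₁ := mem_of_image he₁r hz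
  show k' (g (f x)) = e₂ (e₁ (c₃ (c₁ (k x))))
  rw [hce₂ _ (mem_of_image hfP hx), hce₁ x hx]
  congr 1
  have h3 : i (e₁ (c₁ (k x))) = c₁ (k x) :=
    he₁Q.injOn (mem_of_image hir hy) hz (hi₂ _ hy)
  have h4 : c₃ (c₁ (k x)) = i (c₂ (e₁ (c₁ (k x)))) := by
    have h5 := hc₃e _ hy
    rwa [h3] at h5
  rw [h4, hi₂ _ (hc₂.mem hy)]

theorem Good.inv {hG : IsFamily p F G} (hfP : f '' P = (R : Set Ω)) (hgf : ∀ x ∈ P, g (f x) = x) (h : Good hG P f) :
    Good hG R g := by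
  intro P' Q Q' k k' hgR hQ hQ' hk hkQ hk' hk'Q
  obtain rfl : P' = P := SetLike.coe_injective (by
    rw [← hgR, ← hfP, Set.image_image]
    exact (Set.image_congr hgf).trans (Set.image_id' _))
  obtain ⟨e, c, he, her, hc, hce⟩ := h R Q' Q k' k hfP hQ' hQ hk' hk'Q hk hkQ
  have heN : e '' (normalizerIn S Q') = (normalizerIn S Q : Set Ω) :=
    (prod_mapFn he).image_eq_of_maps normalizerIn_le
      (fun x hx => (prod_mapFn he).mem_normalizerIn (le_normalizerIn hQ'.1) her hx hx.2)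
      (hQ'.2 Q (((prod_mapFn he).mono (le_normalizerIn hQ'.1)).isConj her))
  obtain ⟨e', he', he'r, he'₁, -⟩ := he.exists_inv heN
  obtain ⟨c', hc', hc'e⟩ := hc.exists_inv
  obtain ⟨c'', hc'', hc''e⟩ := hc'.transport ((prod_mapFn he).mono (le_normalizerIn hQ'.1)) her
  refine ⟨e', c'', he', ?_, hc'', fun y hy => ?_⟩
  · rw [← her, Set.image_image]
    exact (Set.image_congr fun x hx => he'₁ x (le_normalizerIn hQ'.1 hx)).trans (Set.image_id' _)
  obtain ⟨x, hx, rfl⟩ := exists_of_image hfP hy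
  have hkx : k' x ∈ Q' := mem_of_image hk'Q hx
  rw [hgf x hx, hce x hx, hc''e _ (hc.mem hkx), hc'e _ hkx,
    he'₁ _ (le_normalizerIn hQ'.1 hkx)]

/-- The maps of the product that are good on centric subgroups of order `n`. -/
def stepSystem {hG : IsFamily p F G} (hS : IsPGroup p S) (hF : F.IsSaturated p) {n : ℕ} (hu : UniqueAbove hG n) :
    FusionSystem S where
  Hom P := {φ | φ ∈ (prod hG).Hom P ∧ (F.IsCentric P → Nat.card P = n →
    ∀ f : Ω → Ω, (∀ x : P, φ x = f x) → Good hG P f)}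
  le_of_mem h := (prod hG).le_of_mem h.1
  injective_of_mem h := (prod hG).injective_of_mem h.1
  conj_mem := by
    intro P g hP hg
    refine ⟨(prod hG).conj_mem hP hg, fun hPc hn f hf => ?_⟩
    exact (good_of_le hS hF hu hn hPc hP (mapFn_conj le_rfl hg)
      fun _ => good_top (mapFn_conj le_rfl hg)).congr fun x hx => hf ⟨x, hx⟩
  comp_mem := by
    rintro P R φ ψ ⟨hφ, hφg⟩ ⟨hψ, hψg⟩ hm
    refine ⟨(prod hG).comp_mem hφ hψ hm, fun hPc hn f hf => ?_⟩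
    obtain ⟨f₁, hf₁, hf₁e⟩ := mapFn_of_hom hφ
    obtain ⟨f₂, hf₂, hf₂e⟩ := mapFn_of_hom hψ
    obtain ⟨P', -, hP'⟩ := hf₁.exists_image
    have hP'R : P' ≤ R := fun y hy => by
      obtain ⟨x, hx, rfl⟩ := exists_of_image hP' hy
      rw [← hf₁e ⟨x, hx⟩]; exact hm _
    have hnP' : Nat.card P' = n := by rw [hf₁.card_image hP', hn]
    have hP'c : F.IsCentric P' := IsCentric.of_conj hPc ((prod_mapFn hf₁).isConj hP')
    refine (Good.comp hS hF (prod_mapFn hf₁) hP' (hφg hPc hn f₁ hf₁e)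
      (good_of_le hS hF hu hnP' hP'c hP'R hf₂ fun hR =>
        hψg (IsCentric.of_le hP'c hP'R hf₂.le_S) hR f₂ hf₂e)).congr fun x hx => ?_
    show f₂ (f₁ x) = f x
    rw [← hf ⟨x, hx⟩, ← hf₁e ⟨x, hx⟩, ← hf₂e ⟨φ ⟨x, hx⟩, hm _⟩]
    rfl
  inv_mem := by
    rintro P φ ⟨hφ, hφg⟩
    obtain ⟨ψ, hψ, hψe⟩ := (prod hG).inv_mem hφ
    refine ⟨ψ, ⟨hψ, fun hc hn f hf => ?_⟩, hψe⟩
    obtain ⟨f₁, hf₁, hf₁e⟩ := mapFn_of_hom hφ
    refine Good.inv (MapFn.image_eq_range hf₁e) (fun x hx => ?_)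
      (hφg (IsCentric.of_conj hc (isConj_symm
        ((prod_mapFn hf₁).isConj (MapFn.image_eq_range hf₁e)))) ((card_range hφ).symm.trans hn) f₁ hf₁e)
    rw [← hf₁e ⟨x, hx⟩]
    exact (hf _).symm.trans (hψe ⟨x, hx⟩)

theorem good_of_prod {hG : IsFamily p F G} (hS : IsPGroup p S) (hF : F.IsSaturated p) {n : ℕ}
    (hu : UniqueAbove hG n) (hn : Nat.card P = n) (hPc : F.IsCentric P)
    (hf : MapFn (prod hG) P f) : Good hG P f := by
  have hA : HasPAutsOnCentrics p F (stepSystem hS hF hu) := fun P hP α hα => by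
    have h1 := (mem_autGroup hP.1).mp (prod_pAuts hG P hP hα)
    exact (mem_autGroup hP.1).mpr ⟨h1, fun _ hn f hf =>
      good_of_inK hS hF hu hn hP ⟨α, hα, fun x => (hf x).symm⟩⟩
  obtain ⟨γ, hγ, hγF, f₀, hf₀, hfe⟩ := mapFn_prod_iff.mp hf
  obtain ⟨φ, hφ, hφe⟩ := hom_subset_iff_mapFn.mp (leastPAuts_le_of hA P) f₀ hf₀
  obtain ⟨R₀, hR₀S, hR₀⟩ := hf₀.exists_image
  have hf₀F := hom_subset_iff_mapFn.mp (leastPAuts_le p F P) f₀ hf₀
  have hγW : MapFn (prod hG) S (ev γ) := mapFn_prod_iff.mpr ⟨γ, hγ, lval_ev le_rfl hγF⟩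
  refine (Good.comp hS hF hf₀F hR₀ (hφ.2 hPc hn f₀ hφe)
    (good_of_le hS hF hu ((hf₀.card_image hR₀).trans hn)
      (IsCentric.of_conj hPc (hf₀F.isConj hR₀)) hR₀S hγW fun _ => good_top hγW)).congr
    fun x hx => (hfe x hx).symm

theorem uniqueAbove (hG : IsFamily p F G) (hS : IsPGroup p S) (hF : F.IsSaturated p) (n : ℕ) : UniqueAbove hG n := by
  suffices h : ∀ m n, Nat.card S - n < m → UniqueAbove hG n from h _ n (Nat.lt_succ_self _)
  intro m
  induction m with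
  | zero => intro n h; omega
  | succ m ih =>
    intro n hn P hPc hnP α hα hαY
    have hu : UniqueAbove hG (Nat.card P) := ih _ (by
      have := card_le_card_S (R := P) hPc.1
      omega)
    by_cases hPS : P = S
    · rw [hPS] at hαY; exact prod_top_le hG hS (mem_autGroup_iff_ev.mpr hαY)
    have ha := mem_autGroup_iff_ev.mp hα
    have hgood : Good hG P (ev α) := good_of_prod hS hF hu rfl hPc hαY
    obtain ⟨P', hP'S, hP'⟩ := (ha.mono hPc.1).exists_image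
    obtain ⟨Q, g, hQn, hgL, hgQ⟩ := exists_prod_good hS hF hPc.1
    obtain ⟨Q', g', hQ'n, hg'L, hg'Q⟩ := exists_prod_good hS hF hP'S
    have hg := mapFn_prod_of_L (hG := hG) hgL
    have hg' := mapFn_prod_of_L (hG := hG) hg'L
    obtain ⟨e, c, he, her, hc, hce⟩ := hgood P' Q Q' g g' hP' hQn hQ'n hg hgQ hg' hg'Q
    have hQc : F.IsCentric Q :=
      IsCentric.of_conj hPc (((prod_mapFn hg).mono (le_normalizerIn hPc.1)).isConj hgQ)
    obtain ⟨M, hMS, hM⟩ := hg.exists_image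
    obtain ⟨g₁, hg₁L, hg₁r, hg₁₁, -⟩ := hgL.exists_inv hM
    have hg₁ := mapFn_prod_of_L (hG := hG) hg₁L
    have hQM : Q ≤ M := fun y hy => by
      obtain ⟨x, hx, rfl⟩ := exists_of_image hgQ hy
      exact mem_of_image hM (le_normalizerIn hPc.1 hx)
    have hcM : Nat.card P < Nat.card M := by
      rw [hg.card_image hM]
      exact card_lt_card normalizerIn_le (lt_normalizerIn' hS hPc.1 hPS)
    have hMN : M ≤ normalizerIn S Q := fun y hy => by
      obtain ⟨x, hx, rfl⟩ := exists_of_image hM hy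
      exact hg.mem_normalizerIn (le_normalizerIn hPc.1) hgQ hx hx.2
    have hm : ∀ x ∈ M, ev α (g₁ x) ∈ normalizerIn S P' := fun x hx =>
      ha.mem_normalizerIn hPc.1 hP' (normalizerIn_le (mem_of_image hg₁r hx))
        (mem_of_image hg₁r hx).2
    have hval : LVal p F M (g' ∘ (ev α ∘ g₁)) α := by
      have := ((lval_of_L hg₁L).comp (lval_ev (P := S) le_rfl hα) fun x hx => hg₁.mem_S hx).comp
        (lval_of_L hg'L) hm
      rwa [one_mul, mul_one] at this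
    have hvF : MapFn F M (g' ∘ (ev α ∘ g₁)) :=
      ((prod_mapFn hg₁).comp ha fun x hx => hg₁.mem_S hx).comp (prod_mapFn hg') hm
    have hvQ : ∀ y ∈ Q, (g' ∘ (ev α ∘ g₁)) y = e (c y) := fun y hy => by
      obtain ⟨x, hx, rfl⟩ := exists_of_image hgQ hy
      show g' (ev α (g₁ (g x))) = _
      rw [hg₁₁ x (le_normalizerIn hPc.1 hx), hce x hx]
    have hvr : (g' ∘ (ev α ∘ g₁)) '' Q = (Q' : Set Ω) := by
      rw [← her]
      refine (Set.image_congr hvQ).trans ?_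
      rw [← Set.image_image e c, hc.image]
    have heN : e '' (normalizerIn S Q) = (normalizerIn S Q' : Set Ω) :=
      (prod_mapFn he).image_eq_of_maps normalizerIn_le
        (fun x hx => (prod_mapFn he).mem_normalizerIn (le_normalizerIn hQn.1) her hx hx.2)
        (hQn.2 Q' (((prod_mapFn he).mono (le_normalizerIn hQn.1)).isConj her))
    obtain ⟨e', he', he'r, he'₁, he'₂⟩ := he.exists_inv heN
    have hvN : ∀ x ∈ M, (g' ∘ (ev α ∘ g₁)) x ∈ normalizerIn S Q' := fun x hx =>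
      hvF.mem_normalizerIn hQM hvr hx (hMN hx).2
    have hδ : MapFn F M (e' ∘ (g' ∘ (ev α ∘ g₁))) := hvF.comp (prod_mapFn he') hvN
    have hδY := mapFn_prod_of_inK hS hF hG hQn hQc hQM hMN hδ (hc.congr fun y hy => by
      show c y = e' ((g' ∘ (ev α ∘ g₁)) y)
      rw [hvQ y hy, he'₁ _ (le_normalizerIn hQn.1 (hc.mem hy))])
    have hvY : MapFn (prod hG) M (g' ∘ (ev α ∘ g₁)) :=
      (hδY.comp he fun x hx => mem_of_image he'r (hvN x hx)).congr fun x hx => he'₂ _ (hvN x hx)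
    exact hval.mem_of_prod hu (IsCentric.of_le hQc hQM hMS) hcM hvY

/-- The residual lies in `G(S)` times the least system. -/
theorem res_le_prod (hS : IsPGroup p S) (hF : F.IsSaturated p) (hG : IsFamily p F G) :
    res p F ≤ prod hG := by
  refine res_le_of ⟨prod_pAuts hG, fun a P hP ha haP => ?_⟩
  obtain ⟨α, hα, hαe⟩ := ha.exists_aut (mapFn_image_S ha)
  have e : ∀ x ∈ S, a x = ev α x := fun x hx => by rw [ev_coe α hx, hαe]
  have hαY := uniqueAbove hG hS hF 0 P hP (by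
    haveI := finite_of_le hP.1
    exact Nat.card_pos) α hα (haP.congr fun x hx => e x (hP.1 hx))
  exact mapFn_prod_iff.mpr ⟨α, hαY, (lval_ev le_rfl hα).congr fun x hx => (e x hx).symm⟩

theorem res_autGroup_le (hS : IsPGroup p S) (hF : F.IsSaturated p) (hG : IsFamily p F G) :
    (res p F).autGroup S ≤ G S := fun α hα =>
  prod_top_le hG hS ((mem_autGroup le_rfl).mpr
    (res_le_prod hS hF hG S ((mem_autGroup le_rfl).mp hα)))

theorem res_le_of_family (hS : IsPGroup p S) (hF : F.IsSaturated p) (hG : IsFamily p F G)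
    {D : FusionSystem S} (hD : HasPAutsOnCentrics p F D) (htop : G S ≤ D.autGroup S) :
    res p F ≤ D := fun P φ hφ => by
  obtain ⟨f, he, γ, hγ, -, f₀, hf₀, hfe⟩ := res_le_prod hS hF hG P hφ
  exact ((hom_subset_iff_mapFn.mp (leastPAuts_le_of hD P) f₀ hf₀).comp
    (mem_autGroup_iff_ev.mp (htop hγ)) fun x hx => hf₀.mem_S hx).mem
      fun x => (he x).trans (hfe x x.2)

end saturated

end CfsgLib.Fusion.PPrimeGen
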