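import Cfsg.Agent.Lib.Fusion.Pearl
import Cfsg.Agent.Lib.Fusion.Inversion
import Cfsg.Agent.Lib.Fusion.PPrimeFamily
import Cfsg.Agent.Lib.PGroup.Frattini

/-!
# A `p`-group of order `p ^ 3` with a pearl has exponent `p`
-/

set_option autoImplicit false

namespace CfsgLib.Pearl

open Cfsg Cfsg.FusionSystem CfsgLib.Fusion CfsgLib.MaxClassSplit CfsgLib.FusionNormal
open scoped commutatorElement

variable {Ω : Type*} [Group Ω] {S : Subgroup Ω} [Finite S] {p : ℕ} [Fact p.Prime] {F : FusionSystem S}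

/-- A second automorphism of `E` moving the centre of `S`. -/
theorem exists_moving (hS : IsPGroup p S) {E : Subgroup Ω} (hE : F.IsEssential p E) {y : Ω}
    (hy : y ∈ S) (hyE : y ∉ E) (Z : Subgroup E) {a : MulAut E} (ha : a ∈ F.autGroup E)
    (hae : ∀ e : E, ((a e : E) : Ω) = y * (e : Ω) * y⁻¹) (haZ : ∀ z ∈ Z, a z = z)
    (hastep : ∀ e, e⁻¹ * a e ∈ Z) : ∃ α ∈ F.autGroup E, ∃ z ∈ Z, α z ∉ Z := by
  by_contra! hno
  have hES : E ≤ S := hE.1.1
  have : Finite E := finite_of_le hES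
  let L : ℕ → Subgroup E := fun i =>
    match i with
    | 0 => ⊥
    | 1 => Z
    | _ => ⊤
  have hinv : ∀ i ≤ 2, ∀ b ∈ F.autGroup E, ∀ x ∈ L i, b x ∈ L i := by
    intro i hi b hb x hx
    interval_cases i
    · simp only [L, Subgroup.mem_bot] at hx ⊢; simp [hx]
    · exact hno b hb x hx
    · exact Subgroup.mem_top _
  have hmem : a ∈ seriesStabilizer F E 2 L hinv := by
    refine mem_seriesStabilizer.mpr ⟨ha, fun i hi x hx => ?_⟩
    interval_cases i
    · show x⁻¹ * a x ∈ (⊥ : Subgroup E)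
      rw [Subgroup.mem_bot, haZ x hx, inv_mul_cancel]
    · exact hastep x
  have hp : IsPGroup p (seriesStabilizer F E 2 L hinv) := by
    rintro ⟨b, hb⟩
    obtain ⟨l, hl⟩ := exists_pow_eq_one_of_stabilizes (hS.to_le hES) L
      (n := 2) (fun i hi => by interval_cases i; exacts [bot_le, le_top]) rfl (α := b)
      ⟨0, fun x hx => by simp only [L, Subgroup.mem_bot] at hx; simp [hx]⟩
      (mem_seriesStabilizer.mp hb).2
    exact ⟨l, Subtype.ext hl⟩
  have h1 := le_inn_of_radical (radical_of_essential hE hS) (fun b hb => (mem_seriesStabilizer.mp hb).1)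
    hp (fun b hb c hc => seriesStabilizer_conj_mem hb hc) hmem
  exact hyE ((mem_inn_iff_mem hES (IsCentric.centralizerIn_le' hE.1) hy hae).mp h1)

theorem extraspecial_of_cube (hS : IsPGroup p S) (hF : F.IsSaturated p) (hp : p ≠ 2) {E : Subgroup Ω}
    (hE : F.IsEssential p E) (hEc : Nat.card E = p ^ 2) (hd : Data p 3 S E) :
    IsExtraspecial p S ∧ Nat.card S = p ^ 3 ∧ Monoid.exponent S = p := by
  classical
  have hp' : p.Prime := Fact.out
  have hodd : Odd p := hp'.odd_of_ne_two hp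
  have hES : E ≤ S := hd.le
  obtain ⟨x, hxE, hset⟩ := hd.setting
  set A := E.subgroupOf S with hAdef
  have hAc : Nat.card A = p ^ 2 := by
    rw [hAdef, Nat.card_congr (Subgroup.subgroupOfEquivOfLe hES).toEquiv, hEc]
  have hL2c : Nat.card (L S 2) = p := by
    rw [hset.card_L le_rfl (by norm_num), show 3 - 2 = 1 by norm_num, pow_one]
  have hcls := hset.cls
  obtain ⟨hZ, -, -⟩ := CfsgLib.MaxClass.center_of_class hd.card le_rfl hcls
  have hL2cen : L S 2 = Subgroup.center S := by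
    refine Subgroup.eq_of_le_of_card_ge (fun c hc => Subgroup.mem_center_iff.mpr fun g => ?_)
      (by rw [hZ, hL2c])
    have := comm_left_mem (j := 2) (by norm_num) g hc
    rw [hset.L_eq_bot le_rfl, Subgroup.mem_bot, commutatorElement_eq_one_iff_mul_comm] at this
    exact this
  have hcommA : ∀ u ∈ A, ∀ v ∈ A, u * v = v * u := fun u hu v hv => by
    have := IsPGroup.commutative_of_card_eq_prime_sq hAc ⟨u, hu⟩ ⟨v, hv⟩
    exact congrArg Subtype.val this
  have hL2A : L S 2 ≤ A := by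
    rw [hL2cen]
    exact (Subgroup.center_le_centralizer _).trans (centralizer_subgroupOf_le hd.cent hES)
  have hcom : ∀ u v : S, ⁅u, v⁆ ∈ L S 2 := fun u v =>
    comm_left_mem (j := 1) le_rfl u (by rw [L_one]; exact Subgroup.mem_top v)
  have hAn : A.Normal := ⟨fun e he g => by
    have := A.mul_mem (hL2A (hcom g e)) he
    rwa [commutatorElement_def, inv_mul_cancel_right] at this⟩
  have hcard : Nat.card S = p ^ 3 := hd.card
  have hexpA : ∀ u ∈ A, u ^ p = 1 := fun u hu => Subtype.ext (hd.exp _ hu)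
  suffices hexp : ∀ y : S, y ^ p = 1 by
    refine ⟨⟨⟨hS, ?_, ?_⟩, hZ⟩, hcard, ?_⟩
    · have hcom' : commutator S = L S 2 := by
        show _ = (⊤ : Subgroup S).lowerCentralSeries 1
        rw [Subgroup.lowerCentralSeries_succ, Subgroup.lowerCentralSeries_zero, commutator_def]
      refine le_antisymm ?_ ?_
      · exact CfsgLib.PGroup.frattini_le_of _ (hcom'.le.trans hL2cen.le)
          fun y => by rw [hexp y]; exact one_mem _
      · exact hL2cen.ge.trans (hcom'.ge.trans (CfsgLib.PGroup.commutator_le_frattini hS))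
    · rw [← hL2cen]
      show commutator S = (⊤ : Subgroup S).lowerCentralSeries 1
      rw [Subgroup.lowerCentralSeries_succ, Subgroup.lowerCentralSeries_zero, commutator_def]
    · have : Nontrivial S :=
        Finite.one_lt_card_iff_nontrivial.mp (hcard ▸ Nat.one_lt_pow (by norm_num) hp'.one_lt)
      refine (Monoid.exponent_eq_prime_iff hp').mpr fun y hy => orderOf_eq_prime (hexp y) hy
  by_contra! hne
  obtain ⟨y, hyp⟩ := hne
  have hyA : y ∉ A := fun h => hyp (hexpA y h)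
  have hyE : (y : Ω) ∉ E := hyA
  -- `z = y ^ p` generates `L 2`
  set z := y ^ p with hzdef
  have hzL : z ∈ L S 2 := hset.pow_mem_two y
  have hzp : z ^ p = 1 := hexpA z (hL2A hzL)
  have hzord : orderOf z = p := orderOf_eq_prime hzp hyp
  have hzgen : Subgroup.zpowers z = L S 2 :=
    Subgroup.eq_of_le_of_card_ge (Subgroup.zpowers_le.mpr hzL)
      (by rw [hL2c, Nat.card_zpowers, hzord])
  -- `E` as a commutative group
  have : Finite E := finite_of_le hES
  letI : CommGroup E := { (inferInstance : Group E) with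
    mul_comm := fun u v => Subtype.ext (congrArg Subtype.val
      (hcommA ⟨u, hES u.2⟩ u.2 ⟨v, hES v.2⟩ v.2) :) }
  set zE : E := ⟨z, hL2A hzL⟩ with hzEdef
  have hzE1 : zE ≠ 1 := fun e => hyp (Subtype.ext (by simpa [hzEdef] using congrArg Subtype.val e))
  have hexpE : ∀ e : E, e ^ p = 1 := fun e => Subtype.ext (hd.exp _ e.2)
  have hordE : ∀ e : E, e ≠ 1 → Nat.card (Subgroup.zpowers e) = p := fun e he => by
    rw [Nat.card_zpowers, orderOf_eq_prime (hexpE e) he]
  have hzEmem : ∀ u : S, ∀ hu : u ∈ L S 2, (⟨u, hL2A hu⟩ : E) ∈ Subgroup.zpowers zE := by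
    intro u hu
    obtain ⟨i, hi⟩ := Subgroup.mem_zpowers_iff.mp (hzgen.ge hu)
    exact ⟨i, Subtype.ext (by simpa [hzEdef] using congrArg Subtype.val hi)⟩
  have hyN : (y : Ω) ∈ Subgroup.normalizer (E : Set Ω) := by
    rw [Subgroup.mem_normalizer_iff]
    refine fun e => ⟨fun he => hAn.conj_mem ⟨e, hES he⟩ he y, fun he => ?_⟩
    have := hAn.conj_mem ⟨_, hES he⟩ he y⁻¹
    simpa [hAdef, Subgroup.mem_subgroupOf, mul_assoc] using this
  obtain ⟨a, ha, hae⟩ := exists_autInducedBy (K := S) y.2 hyN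
  have haF : a ∈ F.autGroup E := autInducedBy_le_autGroup hES ha
  have hcen : ∀ u ∈ L S 2, ∀ v : S, v * u = u * v := fun u hu v =>
    Subgroup.mem_center_iff.mp (hL2cen.le hu) v
  have haz : a zE = zE := Subtype.ext (by
    rw [hae]
    have := congrArg Subtype.val (hcen z hzL y)
    rw [mul_inv_eq_iff_eq_mul]
    exact this)
  have hastep : ∀ e : E, e⁻¹ * a e ∈ Subgroup.zpowers zE := fun e => by
    have hmem := hzEmem _ (hcom (⟨e, hES e.2⟩ : S)⁻¹ y)
    convert hmem using 1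
    refine Subtype.ext ?_
    show ((e : E) : Ω)⁻¹ * ((a e : E) : Ω) = _
    rw [hae]
    simp [commutatorElement_def, mul_assoc]
  have ha1 : a ≠ 1 := fun e => hyA (centralizer_subgroupOf_le hd.cent hES
    (Subgroup.mem_centralizer_iff.mpr fun u hu => Subtype.ext (by
      have := hae ⟨u, hu⟩
      rw [e, MulAut.one_apply, eq_mul_inv_iff_mul_eq] at this
      exact this)))
  have hZfix : ∀ w ∈ Subgroup.zpowers zE, a w = w := by
    rintro _ ⟨i, rfl⟩
    show a (zE ^ i) = zE ^ i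
    rw [map_zpow, haz]
  obtain ⟨α, hα, w, hw, hαw⟩ := exists_moving hS hE y.2 hyE (Subgroup.zpowers zE) haF hae hZfix hastep
  have hαz : α zE ∉ Subgroup.zpowers zE := by
    intro h
    obtain ⟨i, rfl⟩ := hw
    exact hαw (by show α (zE ^ i) ∈ _; rw [map_zpow]; exact Subgroup.zpow_mem _ h i)
  have hgenE : Subgroup.zpowers zE ⊔ Subgroup.zpowers (α zE) = ⊤ := by
    refine Subgroup.eq_top_of_card_eq _ ?_
    obtain ⟨j, hj2, hj⟩ := (Nat.dvd_prime_pow hp').mp
      (hEc ▸ (Subgroup.zpowers zE ⊔ Subgroup.zpowers (α zE)).card_subgroup_dvd_card)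
    have hlt : Subgroup.zpowers zE < Subgroup.zpowers zE ⊔ Subgroup.zpowers (α zE) :=
      lt_of_le_of_ne le_sup_left fun e =>
        hαz (e.ge (Subgroup.mem_sup_right (Subgroup.mem_zpowers _)))
    have hc : Nat.card (Subgroup.zpowers zE) < Nat.card (Subgroup.zpowers zE ⊔ Subgroup.zpowers (α zE) : Subgroup E) :=
      lt_of_not_ge fun hge => hlt.ne (Subgroup.eq_of_le_of_card_ge hlt.le hge)
    rw [hordE zE hzE1, hj] at hc
    rw [hj, hEc]
    have h2 : 2 ≤ j := by
      by_contra h2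
      have := Nat.pow_le_pow_right hp'.pos (show j ≤ 1 by omega)
      rw [pow_one] at this
      omega
    congr 1
    omega
  obtain ⟨γ, hγ, hγe⟩ := CfsgLib.Fusion.Inversion.exists_inversion (F.autGroup E) haF
    (Subgroup.inv_mem _ hα) hgenE haz ha1 hastep (MulAut.inv_apply_self _ α zE)
    (fun u hu hu1 => Subgroup.eq_of_le_of_card_ge (Subgroup.zpowers_le.mpr hu)
      (by rw [hordE zE hzE1, hordE u hu1]))
  obtain ⟨f, hf, -, hfe⟩ := CfsgLib.Fusion.PPrimeGen.exists_ext_of_normalizing hS hF hE.2.1 hγ fun s hs => by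
    convert hs using 1
    refine MulEquiv.ext fun e => ?_
    show γ (s (γ⁻¹ e)) = s e
    rw [hγe, ← map_inv, ← hγe, MulAut.apply_inv_self]
  -- `E` is normal in `S`
  have hN : normalizerIn S E = S := by
    refine le_antisymm normalizerIn_le fun u hu => Subgroup.mem_inf.mpr ⟨hu, ?_⟩
    rw [Subgroup.mem_normalizer_iff]
    refine fun e => ⟨fun he => hAn.conj_mem ⟨e, hES he⟩ he ⟨u, hu⟩, fun he => ?_⟩
    have := hAn.conj_mem ⟨_, hES he⟩ he (⟨u, hu⟩ : S)⁻¹
    simpa [hAdef, Subgroup.mem_subgroupOf, mul_assoc] using this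
  rw [hN] at hf
  let φ : S →* S := MonoidHom.mk' (fun u => ⟨f u, hf.mem_S u.2⟩)
    fun u v => Subtype.ext (hf.map_mul u.2 v.2)
  have hφA : ∀ u ∈ A, φ u = u⁻¹ := fun u hu => Subtype.ext (by
    show f u = ((u⁻¹ : S) : Ω)
    rw [hfe ⟨u, hu⟩, hγe]
    rfl)
  have hgen : A ⊔ Subgroup.zpowers y = ⊤ := by
    refine Subgroup.eq_top_of_card_eq _ ?_
    obtain ⟨j, hj3, hj⟩ := (Nat.dvd_prime_pow hp').mp
      (hcard ▸ (A ⊔ Subgroup.zpowers y).card_subgroup_dvd_card)
    have hlt : A < A ⊔ Subgroup.zpowers y :=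
      lt_of_le_of_ne le_sup_left fun e => hyA (e.ge (Subgroup.mem_sup_right (Subgroup.mem_zpowers _)))
    have hc : Nat.card A < Nat.card (A ⊔ Subgroup.zpowers y : Subgroup S) :=
      lt_of_not_ge fun hge => hlt.ne (Subgroup.eq_of_le_of_card_ge hlt.le hge)
    rw [hAc, hj, Nat.pow_lt_pow_iff_right hp'.one_lt] at hc
    rw [hj, hcard, show j = 3 by omega]
  obtain ⟨e, he, v, hv, hev⟩ := Subgroup.mem_sup_of_normal_left.mp (hgen.ge (Subgroup.mem_top (φ y)))
  obtain ⟨i, rfl⟩ := mem_powers_iff_mem_zpowers.mpr hv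
  have hcz : ∀ u v : S, ⁅u, v⁆ ∈ Subgroup.center S := fun u v => hL2cen.le (hcom u v)
  have hev' : φ y = e * y ^ i := hev.symm
  -- comparing `p`-th powers
  have h1 : z ^ i = z⁻¹ := by
    have h := congrArg (· ^ p) hev'

    rw [← map_pow, ← hzdef, hφA z (hL2A hzL),
      CfsgLib.PGroup.mul_pow_odd_of_central hodd (hcz _ _) (hexpA _ (hL2A (hcom _ _))), hexpA e he,
      one_mul, ← pow_mul, mul_comm, pow_mul, ← hzdef] at h
    exact h.symm
  -- comparing commutators with `x`
  set c := ⁅y, x⁆ with hcdef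
  have hc1 : c ≠ 1 := by
    intro hc
    have hCA : Subgroup.centralizer ({x} : Set S) = A :=
      (Subgroup.eq_of_le_of_card_ge (fun u hu => Subgroup.mem_centralizer_singleton_iff.mpr
        (hcommA u hu x hxE)) (by rw [hset.cent, hAc])).symm
    exact hyA (hCA.le (Subgroup.mem_centralizer_singleton_iff.mpr
      (commutatorElement_eq_one_iff_mul_comm.mp hc)))
  have hcinv : ⁅y, x⁻¹⁆ = c⁻¹ := by
    have h := Subgroup.mem_center_iff.mp ((Subgroup.center S).inv_mem (hcz y x)) x⁻¹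
    calc ⁅y, x⁻¹⁆ = x⁻¹ * ⁅y, x⁆⁻¹ * x := by simp [commutatorElement_def, mul_assoc]
      _ = c⁻¹ := by rw [h, inv_mul_cancel_right]
  have h2 : c⁻¹ ^ i = c⁻¹ := by
    have h : φ c = c⁻¹ := hφA c (hL2A (hcom y x))
    rw [hcdef, map_commutatorElement, hφA x hxE, hev',
      CfsgLib.PGroup.commutatorElement_mul_left_of_central _ _ _ (hcz _ _),
      commutatorElement_eq_one_iff_mul_comm.mpr (hcommA e he x⁻¹ (A.inv_mem hxE)), one_mul,
      CfsgLib.PGroup.commutatorElement_pow_left_of_central (hcz _ _), hcinv] at h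
    exact h
  have hcord : orderOf c⁻¹ = p := by
    rw [orderOf_inv, orderOf_eq_prime (hexpA c (hL2A (hcom y x))) hc1]
  -- contradiction
  have h1' : p ∣ i + 1 := by
    rw [← hzord]
    refine orderOf_dvd_of_pow_eq_one ?_
    rw [pow_succ, h1, inv_mul_cancel]
  obtain ⟨q, hq⟩ : ∃ q, i = q + 1 := by
    refine ⟨i - 1, ?_⟩
    rcases i with - | i
    · exact absurd (Nat.dvd_one.mp h1') hp'.ne_one
    · omega
  have h2' : p ∣ q := by
    rw [← hcord]
    refine orderOf_dvd_of_pow_eq_one ?_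
    rwa [hq, pow_succ, mul_eq_right] at h2
  rw [hq, show q + 1 + 1 = q + 2 by ring] at h1'
  exact hp ((Nat.prime_dvd_prime_iff_eq hp' Nat.prime_two).mp ((Nat.dvd_add_iff_right h2').mpr h1'))

end CfsgLib.Pearl
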