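import Cfsg.Prelude.Def_PLocal
import Cfsg.Agent.Lib.FusionNormal.Alperin
import Cfsg.Agent.Lib.Fusion.UnipotentPower
import Mathlib.GroupTheory.Nilpotent

/-!
# Powers of the centre for a Sylow group of small class

If `S` has class at most `n(p-1)+1`, the subgroup generated by the `p^n`-th powers of `Z(S)` is
normal in every saturated system over `S`; with trivial core the exponent of `S` is bounded.
-/

namespace CfsgLib.Fusion

open Cfsg Cfsg.FusionSystem CfsgLib.FusionNormal
open scoped commutatorElement IsMulCommutative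

universe u

variable {Ω : Type u} [Group Ω] {S : Subgroup Ω} {F : FusionSystem S} {P R : Subgroup Ω}

/-- The action of automorphisms on the centre. -/
def centerAut {G : Type*} [Group G] : MulAut G →* MulAut (Subgroup.center G) where
  toFun a :=
    { toFun := fun x => ⟨a x, Subgroup.mem_center_iff.mpr fun y => by
        obtain ⟨y, rfl⟩ := a.surjective y
        rw [← map_mul, ← map_mul, Subgroup.mem_center_iff.mp x.2 y]⟩
      invFun := fun x => ⟨a.symm x, Subgroup.mem_center_iff.mpr fun y => by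
        obtain ⟨y, rfl⟩ := a.symm.surjective y
        rw [← map_mul, ← map_mul, Subgroup.mem_center_iff.mp x.2 y]⟩
      left_inv := fun x => Subtype.ext (a.symm_apply_apply x)
      right_inv := fun x => Subtype.ext (a.apply_symm_apply x)
      map_mul' := fun x y => Subtype.ext (map_mul a (x : G) (y : G)) }
  map_one' := MulEquiv.ext fun x => rfl
  map_mul' a b := MulEquiv.ext fun x => rfl

theorem coe_centerAut {G : Type*} [Group G] (a : MulAut G) (x : Subgroup.center G) :
    ((centerAut a x : Subgroup.center G) : G) = a x := rfl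

variable [Finite S] {p : ℕ} [Fact p.Prime] {n : ℕ}

theorem delta_iterate_eq_one (hR : R ≤ S) (hS : IsPGroup p S) (ha : F.IsFullyAutomized p R)
    (hcl : Subgroup.lowerCentralSeries S (n * (p - 1) + 1) = ⊥) (g : F.autGroup R)
    (hg : ∃ j, g ^ p ^ j = 1) (w : Subgroup.center R) :
    (UnipotentPower.delta (centerAut (g : MulAut R)))^[n * (p - 1) + 1] w = 1 := by
  obtain ⟨j, hj⟩ := hg
  have hgp : IsPGroup p (Subgroup.zpowers (g : MulAut R)) := by
    have hj' : (g : MulAut R) ^ p ^ j = 1 := congrArg Subtype.val hj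
    rintro ⟨y, hy⟩
    obtain ⟨i, rfl⟩ := Subgroup.mem_zpowers_iff.mp hy
    refine ⟨j, Subtype.ext ?_⟩
    show ((g : MulAut R) ^ i) ^ p ^ j = 1
    rw [← zpow_natCast, ← zpow_mul, mul_comm, zpow_mul, zpow_natCast, hj', one_zpow]
  obtain ⟨α, -, hα⟩ := FullyAutomized.exists_conj ha (A := Subgroup.zpowers (g : MulAut R))
    (Subgroup.zpowers_le.mpr g.2) hgp
  obtain ⟨s, hs, hse⟩ := mem_autInducedBy.mp (hα _ (Subgroup.mem_zpowers _))
  set c := α * (g : MulAut R) * α⁻¹ with hc
  have hcomm : ∀ u, UnipotentPower.delta (centerAut c) (centerAut α u) =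
      centerAut α (UnipotentPower.delta (centerAut (g : MulAut R)) u) := fun u => by
    rw [UnipotentPower.delta, UnipotentPower.delta, hc, map_mul, map_mul, map_inv, MulAut.mul_apply,
      MulAut.mul_apply, MulAut.inv_apply_self, map_mul, map_inv]
  have hmem : ∀ (i : ℕ) (u : Subgroup.center R),
      (((UnipotentPower.delta (centerAut c))^[i] u : Subgroup.center R) : R) ∈
        (Subgroup.lowerCentralSeries S i).subgroupOf R := by
    intro i
    induction i with
    | zero => intro u; exact hR (u : R).2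
    | succ i ih =>
      intro u
      rw [Function.iterate_succ_apply']
      set v := (UnipotentPower.delta (centerAut c))^[i] u with hv
      show (((centerAut c v * v⁻¹ : Subgroup.center R) : R) : Ω) ∈ Subgroup.lowerCentralSeries S (i + 1)
      simp only [Subgroup.coe_mul, Subgroup.coe_inv, coe_centerAut, hse]
      have h1 : ⁅(((v : Subgroup.center R) : R) : Ω), s⁆ ∈ Subgroup.lowerCentralSeries S (i + 1) :=
        Subgroup.commutator_mem_commutator (ih u) hs
      have h2 := Subgroup.inv_mem _ h1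
      rwa [commutatorElement_inv, commutatorElement_def] at h2
  have hiter : ∀ (i : ℕ), centerAut α ((UnipotentPower.delta (centerAut (g : MulAut R)))^[i] w) =
      (UnipotentPower.delta (centerAut c))^[i] (centerAut α w) := by
    intro i
    induction i with
    | zero => rfl
    | succ i ih => rw [Function.iterate_succ_apply', Function.iterate_succ_apply', ← ih, hcomm]
  have h := hmem (n * (p - 1) + 1) (centerAut α w)
  rw [hcl, ← hiter, Subgroup.mem_subgroupOf, Subgroup.mem_bot] at h
  refine (centerAut α).injective ?_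
  rw [map_one]
  exact Subtype.ext (Subtype.ext h)

/-- The powers of the centre are normal. -/
theorem isNormal_powerClosure_centre (hS : IsPGroup p S) (hF : F.IsSaturated p)
    (hcl : Subgroup.lowerCentralSeries S (n * (p - 1) + 1) = ⊥) :
    F.IsNormal (powerClosure p n (S ⊓ Subgroup.centralizer (S : Set Ω))) := by
  set ZS := S ⊓ Subgroup.centralizer (S : Set Ω) with hZS
  set V := powerClosure p n ZS with hV
  have hVZ : V ≤ ZS := (Subgroup.closure_le _).mpr fun y ⟨x, hx, hy⟩ => hy ▸ ZS.pow_mem hx _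
  have hVS : V ≤ S := hVZ.trans inf_le_left
  have hmain : ∀ (P : Subgroup Ω) (f : Ω → Ω), MapFn F P f →
      ∃ g, MapFn F (P ⊔ V) g ∧ (∀ x ∈ P, g x = f x) ∧ g '' V = (V : Set Ω) := by
    refine alperin_induction hS hF
      (fun P f => ∃ g, MapFn F (P ⊔ V) g ∧ (∀ x ∈ P, g x = f x) ∧ g '' V = (V : Set Ω))
      (fun _ ⟨g, hg, hP, hQ⟩ e => ⟨g, hg, fun x hx => (hP x hx).trans (e x hx), hQ⟩)
      (fun _ ⟨g, hg, hP, hQ⟩ hR => ⟨g, hg.mono (sup_le_sup_right hR V), fun x hx => hP x (hR hx), hQ⟩)
      ?_ ?_ ?_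
    · rintro P R f g - ⟨f', hf', hfP, hfQ⟩ - ⟨g', hg', hgP, hgQ⟩ hm
      refine ⟨g' ∘ f', hf'.comp hg' (hf'.maps_sup (fun x hx => ?_) fun x hx => ?_), fun x hx => ?_,
        image_comp hfQ hgQ⟩
      · rw [hfP x hx]; exact Subgroup.mem_sup_left (hm x hx)
      · exact Subgroup.mem_sup_right (mem_of_image hfQ hx)
      · show g' (f' x) = g (f x)
        rw [hfP x hx, hgP _ (hm x hx)]
    · rintro P R f g hf ⟨f', hf', hfP, hfQ⟩ hr - hinv
      obtain ⟨M, -, hM⟩ := hf'.exists_image
      obtain ⟨g', hg', -, hg'₁, -⟩ := hf'.exists_inv hM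
      have hle : R ⊔ V ≤ M := by
        refine sup_le (fun y hy => ?_) fun y hy => ?_
        · obtain ⟨x, hx, rfl⟩ := exists_of_image hr hy
          rw [← hfP x hx]; exact mem_of_image hM (Subgroup.mem_sup_left hx)
        · obtain ⟨x, hx, rfl⟩ := exists_of_image hfQ hy
          exact mem_of_image hM (Subgroup.mem_sup_right hx)
      refine ⟨g', hg'.mono hle, fun y hy => ?_, ?_⟩
      · obtain ⟨x, hx, rfl⟩ := exists_of_image hr hy
        rw [hinv x hx, ← hfP x hx, hg'₁ x (Subgroup.mem_sup_left hx)]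
      · conv_lhs => rw [← hfQ, Set.image_image]
        exact (Set.image_congr fun x hx => hg'₁ x (Subgroup.mem_sup_right hx)).trans (Set.image_id _)
    intro R hRn hRc hRr ih a ha har
    have hRS := hRn.1
    have hZR : ZS ≤ R := fun z hz => hRc.2 R (isConj_refl hRS) (mem_centralizerIn.mpr
      ⟨hz.1, fun x hx => Subgroup.mem_centralizer_iff.mp hz.2 x (hRS hx)⟩)
    have hVR : V ≤ R := hVZ.trans hZR
    have := finite_mulAut hRS
    obtain ⟨α, hα, hαe⟩ := ha.exists_aut har
    let K : Subgroup (F.autGroup R) :=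
      { carrier := {b | ∀ x : R, (((b : MulAut R) x : R) : Ω) ∈ V ↔ (x : Ω) ∈ V}
        one_mem' := fun x => Iff.rfl
        mul_mem' := fun {b c} hb hc x => (hb ((c : MulAut R) x)).trans (hc x)
        inv_mem' := fun {b} hb x => by
          refine Iff.symm ?_
          have := hb ((b : MulAut R)⁻¹ x)
          rwa [MulAut.apply_inv_self] at this }
    suffices h : K = ⊤ by
      have hK : (⟨α, hα⟩ : F.autGroup R) ∈ K := h ▸ Subgroup.mem_top _
      refine ⟨a, ha.mono (sup_le le_rfl hVR), fun _ _ => rfl,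
        (ha.mono hVR).image_eq_of_maps hVS (fun x hx => ?_) le_rfl⟩
      rw [← hαe ⟨x, hVR hx⟩]
      exact (hK ⟨x, hVR hx⟩).mpr hx
    rcases eq_or_ne R S with hRS' | hRS'
    · subst hRS'
      refine eq_top_iff.mpr fun b _ x => ?_
      have key : ∀ (b : MulAut R) (x : R), (x : Ω) ∈ V → ((b x : R) : Ω) ∈ V := by
        intro b x hx
        have hle : V ≤ (V.comap (R.subtype.comp b.toMonoidHom)).map R.subtype := by
          refine (Subgroup.closure_le _).mpr ?_
          rintro _ ⟨z, hz, rfl⟩
          refine ⟨⟨z, hz.1⟩ ^ p ^ n, Subgroup.subset_closure ⟨((b ⟨z, hz.1⟩ : R) : Ω), ⟨Subtype.mem _, ?_⟩, ?_⟩, by simp⟩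
          · refine Subgroup.mem_centralizer_iff.mpr fun y hy => ?_
            obtain ⟨w, hw⟩ := b.surjective ⟨y, hy⟩
            have h1 : w * ⟨z, hz.1⟩ = ⟨z, hz.1⟩ * w := Subtype.ext (Subgroup.mem_centralizer_iff.mp hz.2 w w.2)
            have h2 := congrArg (fun t => ((b t : R) : Ω)) h1
            simpa [hw] using h2
          · show ((b (⟨z, hz.1⟩ ^ p ^ n) : R) : Ω) = _
            rw [map_pow, SubgroupClass.coe_pow]
        obtain ⟨y, hy, hye⟩ := hle hx
        rwa [← show y = x from Subtype.ext hye]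
      refine ⟨fun hx => ?_, key _ x⟩
      simpa using key ((b : MulAut R)⁻¹) _ hx
    obtain ⟨hRa, hRrec⟩ := fullyNormalized_good hS hF hRn
    have hRa' := hRa
    obtain ⟨-, U, hU⟩ := hRa
    set Nn := Subgroup.normalClosure ((U : Subgroup (F.autGroup R)) : Set (F.autGroup R)) with hNn
    have hNK : Nn ≤ K := by
      refine (Subgroup.closure_le _).mpr fun x hx => ?_
      obtain ⟨t, ht, htx⟩ := Group.mem_conjugatesOfSet_iff.mp hx
      obtain ⟨δ, rfl⟩ := isConj_iff.mp htx
      -- it fixes the generators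
      have hgen : ∀ z (hz : z ∈ ZS),
          (((δ * t * δ⁻¹ : F.autGroup R) : MulAut R) (⟨z, hZR hz⟩ ^ p ^ n)) = ⟨z, hZR hz⟩ ^ p ^ n := by
        intro z hz
        let w : Subgroup.center R := ⟨⟨z, hZR hz⟩, Subgroup.mem_center_iff.mpr fun y =>
          Subtype.ext (Subgroup.mem_centralizer_iff.mp hz.2 y (hRS y.2))⟩
        have h := UnipotentPower.fixed_of_sylow (p := p) (n := n) _ (F.autGroup R)
          (centerAut.comp (F.autGroup R).subtype) U ⊥ (Nat.lt_succ_self _) bot_le
          (fun g hg u => delta_iterate_eq_one hRS hS hRa' hcl g hg u) w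
          (fun s hs => by
            obtain ⟨g, hg, hge⟩ := mem_autInducedBy.mp (Subgroup.mem_subgroupOf.mp (hU.le hs))
            refine Subtype.ext (Subtype.ext ((hge _).trans ?_))
            rw [Subgroup.mem_centralizer_iff.mp hz.2 g hg, mul_inv_cancel_right])
          δ t ht
        exact congrArg Subtype.val h
      intro x
      have hfix : V ≤ ((((δ * t * δ⁻¹ : F.autGroup R) : MulAut R).toMonoidHom).eqLocus (MonoidHom.id R)).map R.subtype := by
        refine (Subgroup.closure_le _).mpr ?_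
        rintro _ ⟨z, hz, rfl⟩
        exact ⟨_, hgen z hz, by simp⟩
      refine ⟨fun hx' => ?_, fun hx' => ?_⟩
      · obtain ⟨y, hy, hye⟩ := hfix hx'
        have h1 := ((δ * t * δ⁻¹ : F.autGroup R) : MulAut R).injective
          (show ((δ * t * δ⁻¹ : F.autGroup R) : MulAut R) y = _ from (hy.trans (Subtype.ext hye)))
        rw [← h1]
        have h2 : (y : Ω) = (((δ * t * δ⁻¹ : F.autGroup R) : MulAut R) x : R) := hye
        rw [h2]
        exact hx'
      · obtain ⟨y, hy, hye⟩ := hfix hx'
        obtain rfl : y = x := Subtype.ext hye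
        have h2 : ((δ * t * δ⁻¹ : F.autGroup R) : MulAut R) y = y := hy
        rw [h2]
        exact hx'
    have hnK : Subgroup.normalizer ((U : Subgroup (F.autGroup R)) : Set (F.autGroup R)) ≤ K := by
      intro k hk
      obtain ⟨κ, hκ, hκr, hκe⟩ := exists_map_of_mem_autGroup hRS k.2
      have hN : normalizerIn S R ≤ extender S R κ := by
        rintro g ⟨hgT, hgN⟩
        obtain ⟨c, hc, hce⟩ := exists_autInducedBy (K := S) hgT hgN
        have hm : (⟨c, autInducedBy_le_autGroup hRS hc⟩ : F.autGroup R) ∈ (U : Subgroup (F.autGroup R)) :=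
          hU.ge hc
        obtain ⟨s, hs, hse⟩ := mem_autInducedBy.mp (hU.le ((Subgroup.mem_normalizer_iff.mp hk _).mp hm))
        refine mem_extender.mpr ⟨hgT, hgN, s, hs, fun x hx => ?_⟩
        rw [hκe, hκe, ← hse]
        simp [← hce x]
      obtain ⟨ρ, hρ, hρe⟩ := Fusion.exists_extension hRrec hκ hκr (le_normalizerIn hRS) hN
      obtain ⟨r, hr, hre⟩ := mapFn_of_hom hρ
      obtain ⟨g, hg, hgN, hgV⟩ := ih _ r hr (FusionNormal.card_lt_card normalizerIn_le (lt_normalizerIn' hS hRS hRS'))
      have hval : ∀ x : R, g x = (((k : MulAut R) x : R) : Ω) := fun x => by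
        rw [hgN _ (le_normalizerIn hRS x.2), ← hre ⟨x, le_normalizerIn hRS x.2⟩]
        exact (hρe x).trans (hκe x)
      intro x
      rw [← hval x]
      refine ⟨fun h => ?_, fun h => mem_of_image hgV h⟩
      obtain ⟨y, hy, hye⟩ := exists_of_image hgV h
      rwa [← hg.injOn (Subgroup.mem_sup_right hy) (Subgroup.mem_sup_left (le_normalizerIn hRS x.2)) hye]
    rw [eq_top_iff, ← Sylow.normalizer_sup_eq_top' (N := Nn) U Subgroup.le_normalClosure]
    exact sup_le hnK hNK
  refine ⟨hVS, fun P φ hφ => ?_⟩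
  obtain ⟨f, hf, he⟩ := mapFn_of_hom hφ
  obtain ⟨g, hg, hgP, hgV⟩ := hmain P f hf
  obtain ⟨ψ, hψ, hψe⟩ := hg
  refine ⟨ψ, hψ, fun x => (hψe _).trans ((hgP x x.2).trans (he x).symm), SetLike.coe_injective ?_⟩
  rw [← hgV]
  ext y
  constructor
  · rintro ⟨x, hx, rfl⟩; exact ⟨x, hx, (hψe x).symm⟩
  · rintro ⟨x, hx, rfl⟩; exact ⟨⟨x, Subgroup.mem_sup_right hx⟩, hx, hψe _⟩

/-! ### The exponent -/

theorem map_lowerCentralSeries_top (S : Subgroup Ω) (k : ℕ) :
    ((⊤ : Subgroup S).lowerCentralSeries k).map S.subtype = S.lowerCentralSeries k := by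
  induction k with
  | zero => simp [← MonoidHom.range_eq_map]
  | succ k ih =>
    rw [Subgroup.lowerCentralSeries_succ, Subgroup.lowerCentralSeries_succ, Subgroup.map_commutator, ih,
      ← MonoidHom.range_eq_map, Subgroup.range_subtype]

omit [Fact p.Prime] [Finite S] in
/-- Upper central factors have exponent dividing that of the centre. -/
theorem pow_mem_upperCentralSeries {G : Type*} [Group G] {m : ℕ}
    (hm : ∀ z ∈ Subgroup.center G, z ^ m = 1) (i : ℕ) :
    ∀ x ∈ Subgroup.upperCentralSeries G (i + 1), x ^ m ∈ Subgroup.upperCentralSeries G i := by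
  induction i with
  | zero =>
    intro x hx
    rw [Subgroup.upperCentralSeries_zero, Subgroup.mem_bot]
    rw [zero_add, Subgroup.upperCentralSeries_one] at hx
    exact hm x hx
  | succ i ih =>
    intro x hx
    rw [Subgroup.mem_upperCentralSeries_succ_iff] at hx ⊢
    intro g
    set π := QuotientGroup.mk' (Subgroup.upperCentralSeries G i) with hπ
    have hc : ∀ a, a ∈ Subgroup.upperCentralSeries G (i + 1) → ∀ b, π a * π b = π b * π a := by
      intro a ha b
      rw [Subgroup.mem_upperCentralSeries_succ_iff] at ha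
      have h1 : π ⁅a, b⁆ = 1 := (QuotientGroup.eq_one_iff _).mpr (ha b)
      rw [map_commutatorElement, commutatorElement_eq_one_iff_mul_comm] at h1
      exact h1
    have hcm : ∀ k : ℕ, π ⁅x ^ k, g⁆ = π ⁅x, g⁆ ^ k := by
      intro k
      induction k with
      | zero => simp
      | succ k ihk =>
        have e : ⁅x ^ (k + 1), g⁆ = x * ⁅x ^ k, g⁆ * x⁻¹ * ⁅x, g⁆ := by
          rw [pow_succ']; simp [commutatorElement_def, mul_assoc]
        rw [e, map_mul, map_mul, map_mul, ihk]
        have h1 : Commute (π x) (π ⁅x, g⁆) := (hc _ (hx g) x).symm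
        rw [(h1.pow_right k).eq, map_inv, mul_inv_cancel_right, pow_succ]
    refine (QuotientGroup.eq_one_iff _).mp ?_
    show π ⁅x ^ m, g⁆ = 1
    rw [hcm, ← map_pow]
    exact (QuotientGroup.eq_one_iff _).mpr (ih _ (hx g))

/-- The exponent bound for trivial core. -/
theorem exponent_dvd_of_core (hS : IsPGroup p S) (hF : F.IsSaturated p)
    (hcl : Subgroup.lowerCentralSeries S (n * (p - 1) + 1) = ⊥) (hcore : F.core = ⊥) :
    Monoid.exponent ↥S ∣ p ^ (n ^ 2 * (p - 1) + n) := by
  have hZ : ∀ z ∈ Subgroup.center ↥S, z ^ p ^ n = 1 := by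
    intro z hz
    have hmem : ((z ^ p ^ n : S) : Ω) ∈ powerClosure p n (S ⊓ Subgroup.centralizer (S : Set Ω)) :=
      Subgroup.subset_closure ⟨(z : Ω), ⟨z.2, Subgroup.mem_centralizer_iff.mpr fun y hy =>
        congrArg Subtype.val (Subgroup.mem_center_iff.mp hz ⟨y, hy⟩)⟩, by simp⟩
    have h : ((z ^ p ^ n : S) : Ω) ∈ F.core :=
      Subgroup.mem_sSup_of_mem (S := {Q : Subgroup Ω | F.IsNormal Q})
        (isNormal_powerClosure_centre hS hF hcl) hmem
    rw [hcore, Subgroup.mem_bot] at h
    exact Subtype.ext h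
  have htop : Subgroup.upperCentralSeries ↥S (n * (p - 1) + 1) = ⊤ := by
    have : Group.IsNilpotent S := hS.isNilpotent
    refine Subgroup.lowerCentralSeries_eq_bot_iff_upperCentralSeries_eq_top.mp ?_
    refine (Subgroup.map_eq_bot_iff_of_injective _ S.subtype_injective).mp ?_
    rw [map_lowerCentralSeries_top, hcl]
  have key : ∀ i ≤ n * (p - 1) + 1, ∀ x ∈ Subgroup.upperCentralSeries ↥S i, x ^ p ^ (n * i) = 1 := by
    intro i
    induction i with
    | zero => intro _ x hx; simpa using hx
    | succ i ih =>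
      intro hi x hx
      rw [Nat.mul_succ, add_comm, pow_add, pow_mul]
      exact ih (by omega) _ (pow_mem_upperCentralSeries hZ i x hx)
  refine Monoid.exponent_dvd_of_forall_pow_eq_one fun x => ?_
  rw [show n ^ 2 * (p - 1) + n = n * (n * (p - 1) + 1) by ring]
  exact key _ le_rfl x (htop ▸ Subgroup.mem_top x)

end CfsgLib.Fusion
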