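import Cfsg.Agent.Lib.Fusion.Invariant
import Cfsg.Agent.Lib.FusionNormal.Alperin

/-!
# Subsystems of index prime to `p`

If `E` contains the `p`-elements of `Aut_F(P)` for every centric `P`, then it does so for every `P`,
and every map of `F` is an automorphism of `S` after a map of `E`. We work with the least such
system, which is invariant.
-/

namespace CfsgLib.Fusion

open Cfsg Cfsg.FusionSystem CfsgLib.FusionNormal

variable {Ω : Type*} [Group Ω] {S : Subgroup Ω} {F : FusionSystem S} {P Q R : Subgroup Ω}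
variable {p : ℕ}

/-- The automorphisms of `P` generated by those of `p`-power order. -/
def pPrimeAut (p : ℕ) (F : FusionSystem S) (P : Subgroup Ω) : Subgroup (MulAut P) :=
  (Subgroup.closure {α : F.autGroup P | ∃ k : ℕ, orderOf α = p ^ k}).map (F.autGroup P).subtype

theorem mem_pPrimeAut_of_pow {α : MulAut P} (hα : α ∈ F.autGroup P) {k : ℕ}
    (h : orderOf α = p ^ k) : α ∈ pPrimeAut p F P :=
  ⟨⟨α, hα⟩, Subgroup.subset_closure ⟨k, by rw [← Subgroup.orderOf_coe]; exact h⟩, rfl⟩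

theorem pPrimeAut_le {K : Subgroup (MulAut P)}
    (h : ∀ α ∈ F.autGroup P, ∀ k : ℕ, orderOf α = p ^ k → α ∈ K) : pPrimeAut p F P ≤ K := by
  rw [pPrimeAut, MonoidHom.map_closure, Subgroup.closure_le]
  rintro _ ⟨α, ⟨k, hk⟩, rfl⟩
  exact h α α.2 k (by rw [Subgroup.orderOf_coe]; exact hk)

/-- `E` contains the automorphisms of `p`-power order of all centric subgroups. -/
def HasPAutsOnCentrics (p : ℕ) (F E : FusionSystem S) : Prop :=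
  ∀ P : Subgroup Ω, F.IsCentric P → pPrimeAut p F P ≤ E.autGroup P

theorem IsCentric.of_conj (hP : F.IsCentric P) (h : F.IsConj P Q) : F.IsCentric Q :=
  ⟨IsConj.le_right h, fun _ hR => hP.2 _ (isConj_trans h hR)⟩

section least

variable [Finite S]

/-- The least system with this property, cut out so that it is visibly invariant under `Aut_F(S)`. -/
def leastPAuts (p : ℕ) (F : FusionSystem S) : FusionSystem S where
  Hom P := {φ | φ ∈ F.Hom P ∧ ∀ E : FusionSystem S, HasPAutsOnCentrics p F E → ∀ β : Ω → Ω,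
    MapFn F S β → ∀ R : Subgroup Ω, β '' P = (R : Set Ω) →
      ∃ χ, MapFn E R χ ∧ ∀ x : P, χ (β x) = β (φ x)}
  le_of_mem h := F.le_of_mem h.1
  injective_of_mem h := F.injective_of_mem h.1
  conj_mem := by
    intro P g hP hg
    refine ⟨F.conj_mem hP hg, fun E _ β hβ R hR => ?_⟩
    have hRS : R ≤ S := fun y hy => by
      obtain ⟨x, hx, rfl⟩ := exists_of_image hR hy
      exact hβ.mem_S (hP hx)
    exact ⟨_, mapFn_conj hRS (hβ.mem_S hg), fun x => (hβ.map_conj hg (hP x.2)).symm⟩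
  comp_mem := by
    rintro P Q φ ψ ⟨hφ, hφE⟩ ⟨hψ, hψE⟩ hm
    refine ⟨F.comp_mem hφ hψ hm, fun E hE β hβ R hR => ?_⟩
    obtain ⟨R', -, hR'⟩ := (hβ.mono (le_S hψ)).exists_image
    obtain ⟨χ₁, hχ₁, hχ₁e⟩ := hφE E hE β hβ R hR
    obtain ⟨χ₂, hχ₂, hχ₂e⟩ := hψE E hE β hβ R' hR'
    refine ⟨χ₂ ∘ χ₁, hχ₁.comp hχ₂ fun y hy => ?_, fun x => ?_⟩
    · obtain ⟨x, hx, rfl⟩ := exists_of_image hR hy
      rw [hχ₁e ⟨x, hx⟩]
      exact mem_of_image hR' (hm _)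
    · show χ₂ (χ₁ _) = _
      rw [hχ₁e, hχ₂e ⟨φ x, hm x⟩]
      rfl
  inv_mem := by
    rintro P φ ⟨hφ, hφE⟩
    obtain ⟨ψ, hψ, hψe⟩ := F.inv_mem hφ
    refine ⟨ψ, ⟨hψ, fun E hE β hβ R hR => ?_⟩, hψe⟩
    obtain ⟨R', -, hR'⟩ := (hβ.mono (le_S hφ)).exists_image
    obtain ⟨χ, hχ, hχe⟩ := hφE E hE β hβ R' hR'
    have him : χ '' R' = (R : Set Ω) := by
      rw [← hR', ← hR, Set.image_image]
      ext y
      constructor
      · rintro ⟨x, hx, rfl⟩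
        exact ⟨φ ⟨x, hx⟩, ⟨_, rfl⟩, (hχe ⟨x, hx⟩).symm⟩
      · rintro ⟨_, ⟨x, rfl⟩, rfl⟩
        exact ⟨x, x.2, hχe x⟩
    obtain ⟨ξ, hξ, -, hξe, -⟩ := hχ.exists_inv him
    refine ⟨ξ, hξ, ?_⟩
    rintro ⟨_, x, rfl⟩
    rw [hψe]
    show ξ (β (φ x)) = _
    rw [← hχe]
    exact hξe _ (mem_of_image hR' x.2)

theorem leastPAuts_le (p : ℕ) (F : FusionSystem S) : leastPAuts p F ≤ F := fun _ _ h => h.1

theorem leastPAuts_le_of {E : FusionSystem S} (hE : HasPAutsOnCentrics p F E) :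
    leastPAuts p F ≤ E := by
  rintro P φ ⟨hφ, h⟩
  obtain ⟨χ, hχ, hχe⟩ := h E hE id (mapFn_id le_rfl) P (Set.image_id _)
  exact hχ.mem fun x => (hχe x).symm

theorem hasPAuts_leastPAuts : HasPAutsOnCentrics p F (leastPAuts p F) := by
  intro P hP
  refine pPrimeAut_le fun α hα k hk => (mem_autGroup hP.1).mpr
    ⟨(mem_autGroup hP.1).mp hα, fun E hE β hβ R hR => ?_⟩
  obtain ⟨θ, hθ, hθe⟩ := hβ.mono hP.1
  have hθr : θ.range = R := SetLike.coe_injective (by rw [← MapFn.image_eq_range hθe, hR])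
  obtain ⟨e, he⟩ := exists_equiv hθ hθr
  have h1 : orderOf (MulAut.congr e α) = p ^ k := by rw [MulEquiv.orderOf_eq]; exact hk
  have h2 := hE R (IsCentric.of_conj hP ⟨θ, hθ, hθr⟩)
    (mem_pPrimeAut_of_pow (autGroup_congr_mem hθ he hα) h1)
  obtain ⟨χ, hχ, -, hχe⟩ := exists_mapFn_of_aut (hθr ▸ range_le_S hθ) h2
  refine ⟨χ, hχ, fun x => ?_⟩
  show χ (β x) = β ((α x : P) : Ω)
  rw [← hθe, ← hθe, ← he, ← he, hχe]
  show ((e (α (e.symm (e x))) : R) : Ω) = _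
  rw [MulEquiv.symm_apply_apply]

/-- Transport by a map of `F` defined on `S`. -/
theorem leastPAuts_transport {f b : Ω → Ω} (hf : MapFn (leastPAuts p F) P f) (hb : MapFn F S b)
    (hR : b '' P = (R : Set Ω)) :
    ∃ g, MapFn (leastPAuts p F) R g ∧ ∀ x ∈ P, g (b x) = b (f x) := by
  obtain ⟨φ, ⟨hφ, hφE⟩, he⟩ := hf
  have hP := le_S hφ
  obtain ⟨b', hb', hb'r, hb'₁, -⟩ := (hb.mono hP).exists_inv hR
  have hf' : MapFn F P f := ⟨φ, hφ, he⟩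
  have hg : MapFn F R (b ∘ f ∘ b') :=
    (hb'.comp hf' fun y hy => mem_of_image hb'r hy).comp hb fun y hy =>
      hf'.mem_S (mem_of_image hb'r hy)
  obtain ⟨χ, hχ, hχe⟩ := hg
  have hval : ∀ x : P, b (f (b' (b x))) = b (φ x) := fun x => by rw [hb'₁ x x.2, he]
  refine ⟨_, ⟨χ, ⟨hχ, fun E hE β hβ R' hR' => ?_⟩, hχe⟩, fun x hx => (hval ⟨x, hx⟩).trans (by rw [he])⟩
  have himg : (β ∘ b) '' P = (R' : Set Ω) := by rw [Set.image_comp, hR, hR']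
  obtain ⟨ξ, hξ, hξe⟩ := hφE E hE (β ∘ b) (hb.comp hβ fun y hy => hb.mem_S hy) R' himg
  refine ⟨ξ, hξ, fun y => ?_⟩
  obtain ⟨x, hx, hxy⟩ := exists_of_image hR y.2
  rw [hχe, ← hxy]
  show ξ (β (b x)) = β (b (f (b' (b x))))
  rw [hval ⟨x, hx⟩]
  exact hξe ⟨x, hx⟩

end least

/-- An automorphism of `S` after a map of the least system. -/
def Factors [Finite S] (p : ℕ) (F : FusionSystem S) (P : Subgroup Ω) (f : Ω → Ω) : Prop :=
  ∃ a f₀ : Ω → Ω, MapFn F S a ∧ MapFn (leastPAuts p F) P f₀ ∧ ∀ x ∈ P, f x = a (f₀ x)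

section factors

variable [Finite S]

theorem mapFn_image_S {a : Ω → Ω} (ha : MapFn F S a) : a '' S = (S : Set Ω) :=
  ha.image_eq_of_maps le_rfl (fun _ hx => ha.mem_S hx) le_rfl

theorem Factors.comp {f g : Ω → Ω} (hf : Factors p F P f) (hg : Factors p F R g)
    (h : ∀ x ∈ P, f x ∈ R) : Factors p F P (g ∘ f) := by
  obtain ⟨a, f₀, ha, hf₀, hfe⟩ := hf
  obtain ⟨b, g₀, hb, hg₀, hge⟩ := hg
  obtain ⟨a', ha', -, ha'₁, ha'₂⟩ := ha.exists_inv (mapFn_image_S ha)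
  obtain ⟨R', -, hR'⟩ := (ha'.mono hg₀.le_S).exists_image
  obtain ⟨χ, hχ, hχe⟩ := leastPAuts_transport hg₀ ha' hR'
  have hval : ∀ x ∈ P, f₀ x = a' (f x) := fun x hx => by
    rw [hfe x hx, ha'₁ _ (hf₀.mem_S hx)]
  refine ⟨b ∘ a, χ ∘ f₀, ha.comp hb fun y hy => ha.mem_S hy, hf₀.comp hχ fun x hx => ?_,
    fun x hx => ?_⟩
  · rw [hval x hx]; exact mem_of_image hR' (h x hx)
  · show g (f x) = b (a (χ (f₀ x)))
    rw [hge _ (h x hx), hval x hx, hχe _ (h x hx), ha'₂ _ (hg₀.mem_S (h x hx))]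

theorem Factors.inv {f g : Ω → Ω} (hf : Factors p F P f) (hfr : f '' P = (R : Set Ω))
    (hgf : ∀ x ∈ P, g (f x) = x) : Factors p F R g := by
  obtain ⟨a, f₀, ha, hf₀, hfe⟩ := hf
  obtain ⟨a', ha', -, ha'₁, -⟩ := ha.exists_inv (mapFn_image_S ha)
  obtain ⟨R₀, -, hR₀⟩ := hf₀.exists_image
  obtain ⟨g₀, hg₀, -, hg₀e, -⟩ := hf₀.exists_inv hR₀
  have hR : a '' R₀ = (R : Set Ω) := by
    rw [← hR₀, ← hfr, Set.image_image]
    exact Set.image_congr fun x hx => (hfe x hx).symm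
  obtain ⟨χ, hχ, hχe⟩ := leastPAuts_transport hg₀ ha hR
  refine ⟨a', χ, ha', hχ, fun y hy => ?_⟩
  obtain ⟨x, hx, rfl⟩ := exists_of_image hfr hy
  rw [hgf x hx, hfe x hx, hχe _ (mem_of_image hR₀ hx), hg₀e x hx, ha'₁ _ (hf₀.le_S hx)]

variable [Fact p.Prime]

theorem factors_of_map (hS : IsPGroup p S) (hF : F.IsSaturated p) :
    ∀ (P : Subgroup Ω) (f : Ω → Ω), MapFn F P f → Factors p F P f := by
  refine alperin_induction hS hF (Factors p F)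
    (fun {P f g} _ hf e => ?_) (fun {P R f} _ hf hR => ?_)
    (fun {P R f g} _ hf _ hg h => hf.comp hg h) (fun {P R f g} _ hf hr _ h => hf.inv hr h)
    fun Q hQn hQc _ ih f hf hfr => ?_
  · obtain ⟨a, f₀, ha, hf₀, he⟩ := hf
    exact ⟨a, f₀, ha, hf₀, fun x hx => (e x hx).symm.trans (he x hx)⟩
  · obtain ⟨a, f₀, ha, hf₀, he⟩ := hf
    exact ⟨a, f₀, ha, hf₀.mono hR, fun x hx => he x (hR hx)⟩
  by_cases hQS : Q = S
  · subst hQS
    exact ⟨f, id, hf, mapFn_id le_rfl, fun x _ => rfl⟩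
  obtain ⟨hQa, hQr⟩ := fullyNormalized_good hS hF hQn
  have := finite_mulAut hQn.1
  obtain ⟨-, T, hT⟩ := hQa
  set K : Subgroup (F.autGroup Q) := Subgroup.closure {α | ∃ k : ℕ, orderOf α = p ^ k}
  have : K.Normal := by
    refine ⟨fun n hn g => ?_⟩
    have hle : K.map (MulAut.conj g).toMonoidHom ≤ K := by
      rw [MonoidHom.map_closure, Subgroup.closure_le]
      rintro _ ⟨α, ⟨k, hk⟩, rfl⟩
      exact Subgroup.subset_closure ⟨k, by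
        show orderOf (MulAut.conj g α) = _
        rw [MulEquiv.orderOf_eq]; exact hk⟩
    exact hle ⟨n, hn, rfl⟩
  have hTK : (T : Subgroup (F.autGroup Q)) ≤ K := fun t ht => by
    obtain ⟨k, hk⟩ := IsPGroup.iff_orderOf.mp T.2 ⟨t, ht⟩
    exact Subgroup.subset_closure ⟨k, (Subgroup.orderOf_coe (⟨t, ht⟩ : (T : Subgroup (F.autGroup Q)))).trans hk⟩
  obtain ⟨α, hα, hαe⟩ := hf.exists_aut hfr
  obtain ⟨k, hk, e, he, hke⟩ := exists_mul_of_normal T K ⟨α, hα⟩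
  rw [inf_eq_left.mpr hTK] at hk
  obtain ⟨fe, hfe, hfer, hfee⟩ := exists_mapFn_of_aut (F := leastPAuts p F) hQn.1
    (hasPAuts_leastPAuts Q hQc ⟨e, he, rfl⟩ : (e : MulAut Q) ∈ (leastPAuts p F).autGroup Q)
  obtain ⟨fk, hfk, hfkr, hfke⟩ := exists_mapFn_of_aut hQn.1 k.2
  obtain ⟨fN, hfN, hfNe⟩ := hfk.exists_extension hQr hfkr (le_normalizerIn hQn.1) le_rfl fun g hg => by
    obtain ⟨c, hc, hce⟩ := exists_autInducedBy (K := S) hg.1 hg.2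
    have hm : (⟨c, autInducedBy_le_autGroup hQn.1 hc⟩ : F.autGroup Q) ∈ (T : Subgroup (F.autGroup Q)) :=
      hT.ge hc
    obtain ⟨s, hs, hse⟩ := mem_autInducedBy.mp (hT.le ((Subgroup.mem_normalizer_iff.mp hk _).mp hm))
    refine ⟨s, hs, fun x hx => ?_⟩
    rw [hfke ⟨x, hx⟩, hfke ⟨g * x * g⁻¹, conj_mem_of_normalizer hg.2 hx⟩, ← hse]
    have h2 : (⟨g * x * g⁻¹, conj_mem_of_normalizer hg.2 hx⟩ : Q) = c ⟨x, hx⟩ :=
      Subtype.ext (hce ⟨x, hx⟩).symm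
    rw [h2]
    simp
  obtain ⟨a, f₁, ha, hf₁, hfN₁⟩ := ih _ fN hfN
    (card_lt_card normalizerIn_le (lt_normalizerIn' hS hQn.1 hQS))
  refine ⟨a, f₁ ∘ fe, ha, hfe.comp (hf₁.mono (le_normalizerIn hQn.1))
    (fun x hx => mem_of_image hfer hx), fun x hx => ?_⟩
  have hxQ : fe x ∈ Q := mem_of_image hfer hx
  show f x = a (f₁ (fe x))
  rw [← hfN₁ _ (le_normalizerIn hQn.1 hxQ), hfNe _ hxQ, hfke ⟨fe x, hxQ⟩, ← hαe ⟨x, hx⟩]
  have h1 : (⟨fe x, hxQ⟩ : Q) = (e : MulAut Q) ⟨x, hx⟩ := Subtype.ext (hfee ⟨x, hx⟩)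
  rw [h1]
  exact congrArg (fun t : F.autGroup Q => (((t : MulAut Q) ⟨x, hx⟩ : Q) : Ω)) hke

theorem leastPAuts_invariant (hS : IsPGroup p S) (hF : F.IsSaturated p) :
    (leastPAuts p F).IsInvariantIn F := by
  refine ⟨leastPAuts_le p F, ⟨le_rfl, fun _ _ _ hφ x => apply_mem_S hφ x⟩, ?_, ?_⟩
  · intro P hP φ hφ α hα
    obtain ⟨b, hb, -, hbe⟩ := exists_mapFn_of_aut (le_refl S) hα
    obtain ⟨f, hf, hfe⟩ := mapFn_of_hom hφ
    have hR : b '' P = (((P.subgroupOf S).map (S.subtype.comp α.toMonoidHom) : Subgroup Ω) : Set Ω) := by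
      ext y
      constructor
      · rintro ⟨x, hx, rfl⟩
        exact ⟨⟨x, hP hx⟩, hx, (hbe ⟨x, hP hx⟩).symm⟩
      · rintro ⟨x, hx, rfl⟩
        exact ⟨x, hx, hbe x⟩
    obtain ⟨g, ⟨χ, hχ, hχe⟩, hge⟩ := leastPAuts_transport hf hb hR
    refine ⟨χ, hχ, fun x hφx hαx => ?_⟩
    rw [hχe, ← hbe ⟨φ x, hφx⟩, ← hbe ⟨x, hP x.2⟩, hge x x.2]
    exact congrArg b (hfe x).symm
  · intro P _ φ hφ
    obtain ⟨f, hf, hfe⟩ := mapFn_of_hom hφ
    obtain ⟨a, f₀, ha, ⟨φ₀, hφ₀, hφ₀e⟩, he⟩ := factors_of_map hS hF P f hf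
    obtain ⟨α, hα, hαe⟩ := ha.exists_aut (mapFn_image_S ha)
    exact ⟨α, hα, φ₀, hφ₀, fun x hx => by rw [hαe, hfe, he x x.2, ← hφ₀e]⟩

/-- A strongly invariant system contains all `p`-elements of every automorphism group once it
contains the inner system. -/
theorem pPrimeAut_le_of_strong {E : FusionSystem S} (hS : IsPGroup p S) (hF : F.IsSaturated p)
    (hE : IsStronglyInvariant F E) (P : Subgroup Ω) : pPrimeAut p F P ≤ E.autGroup P := by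
  refine pPrimeAut_le fun α hα k hk => ?_
  by_cases hPS : ¬ P ≤ S
  · rw [autGroup_eq_bot_of_not_le hPS, Subgroup.mem_bot] at hα
    rw [hα]; exact Subgroup.one_mem _
  push_neg at hPS
  obtain ⟨Q, hQc, hQn⟩ := exists_fullyNormalized (F := F) hPS
  obtain ⟨hQa, -⟩ := fullyNormalized_good hS hF hQn
  have hQS := hQn.1
  obtain ⟨θ, hθ, hθr⟩ := hQc
  obtain ⟨e, he⟩ := exists_equiv hθ hθr
  set α' : F.autGroup Q := ⟨MulAut.congr e α, autGroup_congr_mem hθ he hα⟩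
  have hord : orderOf α' = p ^ k := by
    rw [← Subgroup.orderOf_coe]; show orderOf (MulAut.congr e α) = _
    rw [MulEquiv.orderOf_eq]; exact hk
  have := finite_mulAut hQS
  obtain ⟨-, T, hT⟩ := hQa
  obtain ⟨T', hT'⟩ := IsPGroup.exists_le_sylow (p := p)
    (IsPGroup.of_card (n := k) (G := Subgroup.zpowers α') (by rw [Nat.card_zpowers, hord]))
  obtain ⟨γ, hγ⟩ := MulAction.exists_smul_eq (F.autGroup Q) T' T
  have hc : γ * α' * γ⁻¹ ∈ (T : Subgroup (F.autGroup Q)) := by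
    rw [← hγ, Sylow.coe_subgroup_smul]
    exact ⟨α', hT' (Subgroup.mem_zpowers α'), rfl⟩
  have hcE : ((γ * α' * γ⁻¹ : F.autGroup Q) : MulAut Q) ∈ E.autGroup Q :=
    autInducedBy_le_autGroup hQS (hT.le hc)
  -- undo the conjugation and the transport
  obtain ⟨ψ, hψ, hψr, hψ₁, hψ₂⟩ := exists_inv hθ hθr
  have hγi : ∀ y : Q, (γ : MulAut Q)⁻¹ y ∈ Q.subgroupOf Q := fun y => Subtype.mem _
  obtain ⟨μ, hμ, hμr, hμe⟩ := exists_map_of_mem_autGroup hQS (F.autGroup Q |>.inv_mem γ.2)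
  obtain ⟨ν, hν, hνe⟩ := exists_comp hμ hψ (fun y => hμr.le ⟨y, rfl⟩)
  obtain ⟨χ, hχ, hχe⟩ := hE Q Q le_rfl hQS _ ((mem_autGroup hQS).mp hcE) (fun _ => Subtype.mem _) ν hν
  have hle : P ≤ (Q.subgroupOf Q).map ν := fun x hx => by
    refine ⟨(γ : MulAut Q) (e ⟨x, hx⟩), Subtype.mem _, ?_⟩
    rw [hνe]
    refine Eq.trans (apply_eq_of_coe_eq ?_) (hψ₁ ⟨x, hx⟩ (hθr.le ⟨_, rfl⟩))
    show μ _ = θ ⟨x, hx⟩
    rw [hμe, MulAut.inv_apply_self, he]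
  refine (mem_autGroup hPS).mpr (restrict_of hle hχ fun x => ?_)
  have hx : ν ((γ : MulAut Q) (e x)) = (x : Ω) := by
    rw [hνe]
    refine Eq.trans (apply_eq_of_coe_eq ?_) (hψ₁ x (hθr.le ⟨_, rfl⟩))
    show μ _ = θ x
    rw [hμe, MulAut.inv_apply_self, he]
  have h3 := hχe ((γ : MulAut Q) (e x)) ⟨(γ : MulAut Q) (e x), Subtype.mem _, rfl⟩
  refine Eq.trans ?_ (Eq.trans h3.symm (apply_eq_of_coe_eq hx))
  show ((α x : P) : Ω) = ν ⟨_, _⟩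
  rw [hνe]
  refine Eq.trans (hψ₁ (α x) (hθr.le ⟨_, rfl⟩)).symm (apply_eq_of_coe_eq ?_)
  show θ (α x) = μ _
  rw [hμe, ← he]
  congr 1
  show e (α x) = (γ : MulAut Q)⁻¹ ((γ : MulAut Q) ((MulAut.congr e α) ((γ : MulAut Q)⁻¹ ((γ : MulAut Q) (e x)))))
  rw [MulAut.inv_apply_self, MulAut.inv_apply_self]
  simp

/-- Automorphisms of `p`-power order on centric subgroups determine index prime to `p`. -/
theorem primeToP_of_centrics (hS : IsPGroup p S) (hF : F.IsSaturated p) {E : FusionSystem S}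
    (hEF : E.IsSubsystemOf F) (h : HasPAutsOnCentrics p F E) :
    E.HasPrimeToPIndexIn F p ∧
      (∀ (P : Subgroup Ω) (φ : P →* Ω), φ ∈ F.Hom P → ∃ α ∈ F.autGroup S, ∃ φ₀ ∈ E.Hom P,
        ∀ (x : P) (hx : φ₀ x ∈ S), φ x = ((α ⟨φ₀ x, hx⟩ : S) : Ω)) ∧
      ∀ P : Subgroup Ω, E.IsCentric P ↔ F.IsCentric P := by
  have hinv := leastPAuts_invariant hS hF (p := p)
  have hle := leastPAuts_le_of h
  have hfac : ∀ (P : Subgroup Ω) (φ : P →* Ω), φ ∈ F.Hom P → ∃ α ∈ F.autGroup S, ∃ φ₀ ∈ E.Hom P,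
      ∀ (x : P) (hx : φ₀ x ∈ S), φ x = ((α ⟨φ₀ x, hx⟩ : S) : Ω) := fun P φ hφ => by
    obtain ⟨α, hα, φ₀, hφ₀, he⟩ := hinv.2.2.2 P (le_S hφ) φ hφ
    exact ⟨α, hα, φ₀, hle P hφ₀, he⟩
  refine ⟨⟨hEF, fun P hP => (pPrimeAut_le_of_strong hS hF (stronglyInvariant_of_invariant hinv) P).trans
      fun α hα => (mem_autGroup hP).mpr (hle P ((mem_autGroup hP).mp hα))⟩, hfac, fun P => ⟨fun hP => ?_,
    fun hP => ⟨hP.1, fun Q ⟨φ, hφ, hr⟩ => hP.2 Q ⟨φ, hEF P hφ, hr⟩⟩⟩⟩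
  refine ⟨hP.1, fun Q hQ c hc => ?_⟩
  obtain ⟨φ, hφ, rfl⟩ := hQ
  obtain ⟨α, -, φ₀, hφ₀, he⟩ := hfac P φ hφ
  have hc' : ((α⁻¹ ⟨c, hc.1⟩ : S) : Ω) ∈ centralizerIn S φ₀.range := by
    refine ⟨Subtype.mem _, ?_⟩
    rintro _ ⟨x, rfl⟩
    have h1 : (⟨φ x, apply_mem_S hφ x⟩ : S) * ⟨c, hc.1⟩ = ⟨c, hc.1⟩ * ⟨φ x, apply_mem_S hφ x⟩ :=
      Subtype.ext (hc.2 _ ⟨x, rfl⟩)
    have h2 : (⟨φ x, apply_mem_S hφ x⟩ : S) = α ⟨φ₀ x, apply_mem_S hφ₀ x⟩ := Subtype.ext (he x _)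
    have h3 := congrArg (⇑α⁻¹) h1
    rw [map_mul, map_mul, h2, MulAut.inv_apply_self] at h3
    exact congrArg Subtype.val h3
  obtain ⟨x, hx⟩ := hP.2 _ ⟨φ₀, hφ₀, rfl⟩ hc'
  refine ⟨x, ?_⟩
  rw [he x (apply_mem_S hφ₀ x)]
  have h4 : (⟨φ₀ x, apply_mem_S hφ₀ x⟩ : S) = α⁻¹ ⟨c, hc.1⟩ := Subtype.ext hx
  rw [h4, MulAut.apply_inv_self]

end factors

end CfsgLib.Fusion
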