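import Cfsg.Agent.Lib.Fusion.ProductSystem
import Cfsg.Agent.Lib.Fusion.Saturated

/-!
A direct product of saturated fusion systems is saturated.
-/

set_option autoImplicit false

namespace CfsgLib.FusionProduct

open Cfsg Cfsg.FusionSystem CfsgLib.Fusion

variable {Ω₁ Ω₂ : Type*} [Group Ω₁] [Group Ω₂] {S₁ : Subgroup Ω₁} {S₂ : Subgroup Ω₂}
variable {F₁ : FusionSystem S₁} {F₂ : FusionSystem S₂}

local notation "fstP" => Subgroup.map (MonoidHom.fst Ω₁ Ω₂)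
local notation "sndP" => Subgroup.map (MonoidHom.snd Ω₁ Ω₂)

/-- A pair of maps gives a map of the product system on any subgroup of the product of the sources. -/
theorem pair_mem {A₁ : Subgroup Ω₁} {A₂ : Subgroup Ω₂} {f₁ : A₁ →* Ω₁} {f₂ : A₂ →* Ω₂}
    (h₁ : f₁ ∈ F₁.Hom A₁) (h₂ : f₂ ∈ F₂.Hom A₂) {P : Subgroup (Ω₁ × Ω₂)} (hP : P ≤ A₁.prod A₂) :
    ∃ φ ∈ (prodSystem F₁ F₂).Hom P,
      ∀ x : P, φ x = (f₁ ⟨(x : Ω₁ × Ω₂).1, (hP x.2).1⟩, f₂ ⟨(x : Ω₁ × Ω₂).2, (hP x.2).2⟩) := by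
  have hA : fstP P ≤ A₁ := by rintro _ ⟨x, hx, rfl⟩; exact (hP hx).1
  have hB : sndP P ≤ A₂ := by rintro _ ⟨x, hx, rfl⟩; exact (hP hx).2
  let f : P →* Ω₁ × Ω₂ :=
    { toFun := fun x => (f₁ ⟨(x : Ω₁ × Ω₂).1, (hP x.2).1⟩, f₂ ⟨(x : Ω₁ × Ω₂).2, (hP x.2).2⟩)
      map_one' := Prod.ext (map_one f₁) (map_one f₂)
      map_mul' := fun x y => Prod.ext
        (map_mul f₁ ⟨(x : Ω₁ × Ω₂).1, (hP x.2).1⟩ ⟨(y : Ω₁ × Ω₂).1, (hP y.2).1⟩)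
        (map_mul f₂ ⟨(x : Ω₁ × Ω₂).2, (hP x.2).2⟩ ⟨(y : Ω₁ × Ω₂).2, (hP y.2).2⟩) }
  refine ⟨f, ⟨fun x hx => ⟨le_S h₁ (hP hx).1, le_S h₂ (hP hx).2⟩, _, restrict_mem hA h₁, _,
    restrict_mem hB h₂, fun x k₁ k₂ => rfl⟩, fun _ => rfl⟩

theorem range_fst_map {P : Subgroup (Ω₁ × Ω₂)} {φ : P →* Ω₁ × Ω₂} {f₁ : fstP P →* Ω₁}
    (h : ∀ x : P, (φ x).1 = f₁ ⟨(x : Ω₁ × Ω₂).1, ⟨x, x.2, rfl⟩⟩) :
    f₁.range = fstP φ.range :=
  range_map_fst fun x _ => h x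

/-- The centralizer in a product is the product of the centralizers of the projections. -/
theorem centralizerIn_prod (P : Subgroup (Ω₁ × Ω₂)) :
    centralizerIn (S₁.prod S₂) P = (centralizerIn S₁ (fstP P)).prod (centralizerIn S₂ (sndP P)) := by
  ext g
  simp only [Subgroup.mem_prod, mem_centralizerIn]
  constructor
  · rintro ⟨⟨h1, h2⟩, h⟩
    refine ⟨⟨h1, ?_⟩, h2, ?_⟩
    · rintro _ ⟨x, hx, rfl⟩; exact congrArg Prod.fst (h x hx)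
    · rintro _ ⟨x, hx, rfl⟩; exact congrArg Prod.snd (h x hx)
  · rintro ⟨⟨h1, k1⟩, h2, k2⟩
    exact ⟨⟨h1, h2⟩, fun x hx => Prod.ext (k1 _ ⟨x, hx, rfl⟩) (k2 _ ⟨x, hx, rfl⟩)⟩

theorem normalizerIn_prod_le (P : Subgroup (Ω₁ × Ω₂)) :
    normalizerIn (S₁.prod S₂) P ≤ (normalizerIn S₁ (fstP P)).prod (normalizerIn S₂ (sndP P)) := by
  rintro g ⟨⟨h1, h2⟩, h⟩
  exact ⟨⟨h1, Subgroup.le_normalizer_map (f := MonoidHom.fst Ω₁ Ω₂) ⟨g, h, rfl⟩⟩,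
    ⟨h2, Subgroup.le_normalizer_map (f := MonoidHom.snd Ω₁ Ω₂) ⟨g, h, rfl⟩⟩⟩

variable [Finite S₁] [Finite S₂] {p : ℕ} [Fact p.Prime]

instance finite_prod : Finite (S₁.prod S₂) := Finite.of_equiv _ (Subgroup.prodEquiv S₁ S₂).symm.toEquiv

omit [Finite S₁] [Finite S₂] [Fact p.Prime] in
theorem isPGroup_prod (h₁ : IsPGroup p S₁) (h₂ : IsPGroup p S₂) : IsPGroup p (S₁.prod S₂) := by
  intro g
  obtain ⟨j, hj⟩ := h₁ ⟨_, g.2.1⟩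
  obtain ⟨k, hk⟩ := h₂ ⟨_, g.2.2⟩
  refine ⟨j + k, Subtype.ext (Prod.ext ?_ ?_)⟩
  · have := congrArg Subtype.val hj
    show (g : Ω₁ × Ω₂).1 ^ p ^ (j + k) = 1
    rw [pow_add, pow_mul, show (g : Ω₁ × Ω₂).1 ^ p ^ j = 1 from this, one_pow]
  · have := congrArg Subtype.val hk
    show (g : Ω₁ × Ω₂).2 ^ p ^ (j + k) = 1
    rw [pow_add, mul_comm, pow_mul, show (g : Ω₁ × Ω₂).2 ^ p ^ k = 1 from this, one_pow]

/-- In a saturated system a `p`-element of `Aut_F(S)` is inner. -/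
theorem inner_of_pElement {Ω : Type*} [Group Ω] {S : Subgroup Ω} [Finite S] {F : FusionSystem S}
    (hS : IsPGroup p S) (hF : F.IsSaturated p) {α : MulAut S} (hα : α ∈ F.autGroup S)
    {k : ℕ} (hk : α ^ p ^ k = 1) : α ∈ Inn S := by
  have hA : IsPGroup p (Subgroup.zpowers α) := by
    rintro ⟨_, n, rfl⟩
    refine ⟨k, Subtype.ext ?_⟩
    show (α ^ n) ^ (p ^ k) = 1
    rw [← zpow_natCast, ← zpow_mul, mul_comm, zpow_mul, zpow_natCast, hk, one_zpow]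
  obtain ⟨γ, -, hγ⟩ := FullyAutomized.exists_conj ((saturated_iff_top_and_receptive hS).mp hF).1
    (Subgroup.zpowers_le.mpr hα) hA
  have h1 := hγ α (Subgroup.mem_zpowers α)
  rw [autInducedBy_self, mem_inn] at h1
  obtain ⟨z, hz⟩ := h1
  refine mem_inn.mpr ⟨γ⁻¹ z, fun x => γ.injective ?_⟩
  have := hz (γ x)
  simp only [MulAut.mul_apply, MulAut.inv_apply_self] at this
  rw [this, map_mul, map_mul, map_inv, MulAut.apply_inv_self]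

omit [Finite S₁] [Finite S₂] in
theorem fst_top : fstP (S₁.prod S₂) = S₁ := by
  ext x
  exact ⟨fun ⟨y, hy, e⟩ => e ▸ hy.1, fun hx => ⟨(x, 1), ⟨hx, S₂.one_mem⟩, rfl⟩⟩

omit [Finite S₁] [Finite S₂] in
theorem snd_top : sndP (S₁.prod S₂) = S₂ := by
  ext x
  exact ⟨fun ⟨y, hy, e⟩ => e ▸ hy.2, fun hx => ⟨(1, x), ⟨S₁.one_mem, hx⟩, rfl⟩⟩

theorem prod_fullyAutomized_top (h₁ : IsPGroup p S₁) (h₂ : IsPGroup p S₂)
    (hF₁ : F₁.IsSaturated p) (hF₂ : F₂.IsSaturated p) :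
    (prodSystem F₁ F₂).IsFullyAutomized p (S₁.prod S₂) := by
  have hS := isPGroup_prod (S₁ := S₁) (S₂ := S₂) h₁ h₂
  set S := S₁.prod S₂ with hSdef
  set E := prodSystem F₁ F₂
  have hp : IsPGroup p ((autInducedBy S S).subgroupOf (E.autGroup S)) :=
    (isPGroup_autInducedBy hS S).comap_subtype
  refine ⟨le_rfl, ⟨(autInducedBy S S).subgroupOf (E.autGroup S), hp, fun {Q} hQ hle =>
    le_antisymm (fun a ha => ?_) hle⟩, rfl⟩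
  obtain ⟨k, hk⟩ := hQ ⟨a, ha⟩
  have hk' : (a : MulAut S) ^ p ^ k = 1 := congrArg (fun t : Q => ((t : E.autGroup S) : MulAut S)) hk
  obtain ⟨-, φ₁, hφ₁, φ₂, hφ₂, h⟩ := (mem_autGroup le_rfl).mp a.2
  have hr₁ : φ₁.range = fstP (S.subtype.comp (a : MulAut S).toMonoidHom).range :=
    range_map_fst fun x _ => congrArg Prod.fst (h x _ ⟨x, x.2, rfl⟩)
  have hr₂ : φ₂.range = sndP (S.subtype.comp (a : MulAut S).toMonoidHom).range :=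
    range_map_snd fun x _ => congrArg Prod.snd (h x ⟨x, x.2, rfl⟩ _)
  replace hr₁ : φ₁.range = S₁ := hr₁.trans (by rw [autMap_range]; exact fst_top)
  replace hr₂ : φ₂.range = S₂ := hr₂.trans (by rw [autMap_range]; exact snd_top)
  obtain ⟨ψ₁, hψ₁, e₁⟩ := hom_transport_source F₁ (fst_top (S₁ := S₁) (S₂ := S₂)) hφ₁
  obtain ⟨ψ₂, hψ₂, e₂⟩ := hom_transport_source F₂ (snd_top (S₁ := S₁) (S₂ := S₂)) hφ₂
  have r₁ : ψ₁.range = S₁ := by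
    refine le_antisymm (range_le_S hψ₁) fun y hy => ?_
    obtain ⟨⟨x, hx⟩, rfl⟩ := hr₁.ge hy
    exact ⟨⟨x, fst_top.le hx⟩, e₁ x hx _⟩
  have r₂ : ψ₂.range = S₂ := by
    refine le_antisymm (range_le_S hψ₂) fun y hy => ?_
    obtain ⟨⟨x, hx⟩, rfl⟩ := hr₂.ge hy
    exact ⟨⟨x, snd_top.le hx⟩, e₂ x hx _⟩
  obtain ⟨α₁, hα₁, f₁⟩ := exists_aut hψ₁ r₁
  obtain ⟨α₂, hα₂, f₂⟩ := exists_aut hψ₂ r₂
  have hpow : ∀ (n : ℕ) (x : S),
      ((((a : MulAut S) ^ n) x : S) : Ω₁ × Ω₂) =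
        (((α₁ ^ n) ⟨(x : Ω₁ × Ω₂).1, x.2.1⟩ : S₁).1, ((α₂ ^ n) ⟨(x : Ω₁ × Ω₂).2, x.2.2⟩ : S₂).1) := by
    intro n
    induction n with
    | zero => intro x; rfl
    | succ n ih =>
      intro x
      rw [pow_succ', MulAut.mul_apply, pow_succ', pow_succ', MulAut.mul_apply, MulAut.mul_apply, f₁, f₂]
      set y : S := ((a : MulAut S) ^ n) x with hy
      have hh := h y ⟨y, y.2, rfl⟩ ⟨y, y.2, rfl⟩
      refine hh.trans (Prod.ext ?_ ?_)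
      · refine ((e₁ _ _ y.2.1).symm.trans (congrArg ψ₁ (Subtype.ext ?_)))
        exact congrArg Prod.fst (ih x)
      · refine ((e₂ _ _ y.2.2).symm.trans (congrArg ψ₂ (Subtype.ext ?_)))
        exact congrArg Prod.snd (ih x)
  have k₁ : α₁ ^ p ^ k = 1 := MulEquiv.ext fun x => by
    have := congrArg Prod.fst (hpow (p ^ k) ⟨((x : Ω₁), 1), x.2, S₂.one_mem⟩)
    rw [hk'] at this
    exact Subtype.ext this.symm
  have k₂ : α₂ ^ p ^ k = 1 := MulEquiv.ext fun x => by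
    have := congrArg Prod.snd (hpow (p ^ k) ⟨(1, (x : Ω₂)), S₁.one_mem, x.2⟩)
    rw [hk'] at this
    exact Subtype.ext this.symm
  obtain ⟨z₁, hz₁⟩ := mem_inn.mp (inner_of_pElement h₁ hF₁ hα₁ k₁)
  obtain ⟨z₂, hz₂⟩ := mem_inn.mp (inner_of_pElement h₂ hF₂ hα₂ k₂)
  refine mem_autInducedBy.mpr ⟨((z₁ : Ω₁), (z₂ : Ω₂)), ⟨z₁.2, z₂.2⟩, fun x => ?_⟩
  have := hpow 1 x
  rw [pow_one, pow_one, pow_one] at this
  refine this.trans ?_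
  rw [hz₁, hz₂]
  rfl

/-- Projections of a fully normalized subgroup are fully centralized. -/
theorem fullyCentralized_proj (h₁ : IsPGroup p S₁) (h₂ : IsPGroup p S₂)
    (hF₁ : F₁.IsSaturated p) (hF₂ : F₂.IsSaturated p) {P : Subgroup (Ω₁ × Ω₂)}
    (hP : (prodSystem F₁ F₂).IsFullyNormalized P) :
    F₁.IsFullyCentralized (fstP P) ∧ F₂.IsFullyCentralized (sndP P) := by
  have hP₁ : fstP P ≤ S₁ := (Subgroup.map_mono hP.1).trans fst_top.le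
  have hP₂ : sndP P ≤ S₂ := (Subgroup.map_mono hP.1).trans snd_top.le
  obtain ⟨Q₁, -, hr₁, hc₁, χ₁, hχ₁, -, hm₁⟩ := exists_good_conj h₁ hF₁ hP₁
  obtain ⟨Q₂, -, hr₂, hc₂, χ₂, hχ₂, -, hm₂⟩ := exists_good_conj h₂ hF₂ hP₂
  obtain ⟨χ, hχ, hχe⟩ := pair_mem hχ₁ hχ₂ (normalizerIn_prod_le (S₁ := S₁) (S₂ := S₂) P)
  obtain ⟨χ₀, hχ₀, hr₀, he₀⟩ := exists_restrict hχ (le_normalizerIn hP.1)
    (rfl : (P.subgroupOf (normalizerIn (S₁.prod S₂) P)).map χ = _)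
  set Q := (P.subgroupOf (normalizerIn (S₁.prod S₂) P)).map χ with hQ
  have hQ₁ : fstP Q = Q₁ := by
    ext y
    constructor
    · rintro ⟨_, ⟨x, hx, rfl⟩, rfl⟩
      refine hm₁.le ⟨⟨(x : Ω₁ × Ω₂).1, (normalizerIn_prod_le P x.2).1⟩, ⟨x, hx, rfl⟩, ?_⟩
      exact (congrArg Prod.fst (hχe x)).symm
    · intro hy
      obtain ⟨⟨x, hx⟩, ⟨w, hw, rfl⟩, rfl⟩ := hm₁.ge hy
      exact ⟨_, ⟨⟨w, le_normalizerIn hP.1 hw⟩, hw, rfl⟩, congrArg Prod.fst (hχe _)⟩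
  have hQ₂ : sndP Q = Q₂ := by
    ext y
    constructor
    · rintro ⟨_, ⟨x, hx, rfl⟩, rfl⟩
      refine hm₂.le ⟨⟨(x : Ω₁ × Ω₂).2, (normalizerIn_prod_le P x.2).2⟩, ⟨x, hx, rfl⟩, ?_⟩
      exact (congrArg Prod.snd (hχe x)).symm
    · intro hy
      obtain ⟨⟨x, hx⟩, ⟨w, hw, rfl⟩, rfl⟩ := hm₂.ge hy
      exact ⟨_, ⟨⟨w, le_normalizerIn hP.1 hw⟩, hw, rfl⟩, congrArg Prod.snd (hχe _)⟩
  have hconj : (prodSystem F₁ F₂).IsConj P Q := ⟨χ₀, hχ₀, hr₀⟩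
  have hN : ∀ g, χ g ∈ normalizerIn (S₁.prod S₂) Q := fun g =>
    extension_mem_normalizerIn hχ₀ hχ hr₀ (le_normalizerIn hP.1) (fun x => (he₀ x).symm) g g.2.2
  have hfin := finite_of_le (normalizerIn_le (S := S₁.prod S₂) (P := Q))
  have hsurj := range_eq_of_card_le hχ normalizerIn_le hN (hP.2 Q hconj)
  have hCle : Nat.card (centralizerIn (S₁.prod S₂) Q) ≤ Nat.card (centralizerIn (S₁.prod S₂) P) := by
    obtain ⟨χi, hχi, -, hi, -⟩ := exists_inv hχ hsurj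
    have hfin' := finite_of_le (centralizerIn_le (S := S₁.prod S₂) (P := P))
    refine card_le_of_map (restrict_mem (R := centralizerIn (S₁.prod S₂) Q)
      centralizerIn_le_normalizerIn hχi) centralizerIn_le fun g => ?_
    show χi ⟨g, _⟩ ∈ _
    obtain ⟨w, hw⟩ := hsurj.ge (centralizerIn_le_normalizerIn g.2)
    have hgw : χi ⟨(g : Ω₁ × Ω₂), centralizerIn_le_normalizerIn g.2⟩ = (w : Ω₁ × Ω₂) :=
      (apply_eq_of_coe_eq (y := ⟨χ w, hN w⟩) hw.symm).trans (hi w (hN w))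
    rw [hgw]
    refine mem_centralizerIn'.mpr ⟨w.2.1, fun x => ?_⟩
    have hx := le_normalizerIn hP.1 x.2
    have e := (mem_centralizerIn'.mp g.2).2 ⟨_, (⟨⟨x, hx⟩, x.2, rfl⟩ : χ ⟨x, hx⟩ ∈ Q)⟩
    simp only at e
    rw [← hw, ← map_inv χ, ← map_mul χ, ← map_mul χ] at e
    exact congrArg Subtype.val ((prodSystem F₁ F₂).injective_of_mem hχ e)
  rw [centralizerIn_prod, centralizerIn_prod, hQ₁, hQ₂,
    Nat.card_congr (Subgroup.prodEquiv _ _).toEquiv, Nat.card_congr (Subgroup.prodEquiv _ _).toEquiv,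
    Nat.card_prod, Nat.card_prod] at hCle
  have hQc₁ := fullyCentralized_of_receptive hr₁
  have hQc₂ := fullyCentralized_of_receptive hr₂
  have l₁ := hQc₁.2 _ (isConj_symm hc₁)
  have l₂ := hQc₂.2 _ (isConj_symm hc₂)
  have p₁ : 0 < Nat.card (centralizerIn S₁ (fstP P)) := by
    have := finite_of_le (centralizerIn_le (S := S₁) (P := fstP P)); exact Nat.card_pos
  have p₂ : 0 < Nat.card (centralizerIn S₂ (sndP P)) := by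
    have := finite_of_le (centralizerIn_le (S := S₂) (P := sndP P)); exact Nat.card_pos
  refine ⟨⟨hP₁, fun R hR => ?_⟩, ⟨hP₂, fun R hR => ?_⟩⟩
  · refine (hQc₁.2 R (isConj_trans (isConj_symm hc₁) hR)).trans ?_
    refine Nat.le_of_mul_le_mul_right (hCle.trans' (Nat.mul_le_mul_left _ l₂)) p₂
  · refine (hQc₂.2 R (isConj_trans (isConj_symm hc₂) hR)).trans ?_
    refine Nat.le_of_mul_le_mul_left (hCle.trans' (Nat.mul_le_mul_right _ l₁)) p₁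

theorem prod_saturated (h₁ : IsPGroup p S₁) (h₂ : IsPGroup p S₂)
    (hF₁ : F₁.IsSaturated p) (hF₂ : F₂.IsSaturated p) : (prodSystem F₁ F₂).IsSaturated p := by
  refine saturated_of_top_and_receptive (isPGroup_prod h₁ h₂) (prod_fullyAutomized_top h₁ h₂ hF₁ hF₂) ?_
  intro P hP
  obtain ⟨hc₁, hc₂⟩ := fullyCentralized_proj h₁ h₂ hF₁ hF₂ hP
  refine ⟨hP.1, fun R φ hφ hr => ?_⟩
  obtain ⟨hRS, φ₁, hφ₁, φ₂, hφ₂, h⟩ := hφ
  have r₁ : φ₁.range = fstP P := hr ▸ range_map_fst fun x _ => congrArg Prod.fst (h x _ ⟨x, x.2, rfl⟩)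
  have r₂ : φ₂.range = sndP P := hr ▸ range_map_snd fun x _ => congrArg Prod.snd (h x ⟨x, x.2, rfl⟩ _)
  have hle : extender (S₁.prod S₂) R φ ≤
      (extender S₁ (fstP R) φ₁).prod (extender S₂ (sndP R) φ₂) := by
    intro g hg
    obtain ⟨hgS, hgN, t, ht, hte⟩ := mem_extender.mp hg
    obtain ⟨n₁, n₂⟩ := normalizerIn_prod_le (S₁ := S₁) (S₂ := S₂) R ⟨hgS, hgN⟩
    constructor
    · refine mem_extender.mpr ⟨hgS.1, n₁.2, t.1, ht.1, ?_⟩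
      rintro ⟨_, x, hx, rfl⟩ hx'
      have hm : g * x * g⁻¹ ∈ R := (Subgroup.mem_normalizer_iff.mp hgN x).mp hx
      have e := congrArg Prod.fst (hte ⟨x, hx⟩ hm)
      have d := congrArg Prod.fst (h ⟨x, hx⟩ ⟨x, hx, rfl⟩ ⟨x, hx, rfl⟩)
      have d' := congrArg Prod.fst (h ⟨g * x * g⁻¹, hm⟩ ⟨_, hm, rfl⟩ ⟨_, hm, rfl⟩)
      exact d'.symm.trans (e.trans (congrArg (fun z => t.1 * z * t.1⁻¹) d))
    · refine mem_extender.mpr ⟨hgS.2, n₂.2, t.2, ht.2, ?_⟩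
      rintro ⟨_, x, hx, rfl⟩ hx'
      have hm : g * x * g⁻¹ ∈ R := (Subgroup.mem_normalizer_iff.mp hgN x).mp hx
      have e := congrArg Prod.snd (hte ⟨x, hx⟩ hm)
      have d := congrArg Prod.snd (h ⟨x, hx⟩ ⟨x, hx, rfl⟩ ⟨x, hx, rfl⟩)
      have d' := congrArg Prod.snd (h ⟨g * x * g⁻¹, hm⟩ ⟨_, hm, rfl⟩ ⟨_, hm, rfl⟩)
      exact d'.symm.trans (e.trans (congrArg (fun z => t.2 * z * t.2⁻¹) d))
  obtain ⟨ψ₁, hψ₁, e₁⟩ := (receptive_of_fullyCentralized h₁ hF₁ hc₁).2 _ φ₁ hφ₁ r₁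
  obtain ⟨ψ₂, hψ₂, e₂⟩ := (receptive_of_fullyCentralized h₂ hF₂ hc₂).2 _ φ₂ hφ₂ r₂
  obtain ⟨ψ, hψ, he⟩ := pair_mem hψ₁ hψ₂ hle
  refine ⟨ψ, hψ, fun x hx hN => ?_⟩
  rw [he, h ⟨x, hx⟩ ⟨x, hx, rfl⟩ ⟨x, hx, rfl⟩]
  exact Prod.ext (e₁ _ _ _) (e₂ _ _ _)

theorem isSaturated_of_isProductSystem (h₁ : IsPGroup p S₁) (h₂ : IsPGroup p S₂)
    (hF₁ : F₁.IsSaturated p) (hF₂ : F₂.IsSaturated p) {E : FusionSystem (S₁.prod S₂)}
    (hE : IsProductSystem F₁ F₂ E) : E.IsSaturated p := by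
  have : E = prodSystem F₁ F₂ := ext_hom fun P => Set.ext fun φ => hE P φ
  exact this ▸ prod_saturated h₁ h₂ hF₁ hF₂

end CfsgLib.FusionProduct
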