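import Cfsg.Agent.Lib.Fusion.ClosedFix
import Cfsg.Agent.Lib.Fusion.CentralProductSwap
import Cfsg.Agent.Lib.Fusion.ProductSaturated
import Cfsg.Agent.S5128

/-!
# Commuting normal subsystems with central intersection

The maps of one factor extend to maps of `F` fixing the other base elementwise, and the central
product exists inside `F` as a saturated subsystem over a strongly closed subgroup.
-/

set_option autoImplicit false
set_option linter.unusedSectionVars false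

namespace CfsgLib.FusionProductNormal

open Cfsg Cfsg.FusionSystem CfsgLib.Fusion CfsgLib.FusionNormal CfsgLib.FusionTransport CfsgLib.FusionLayer

variable {Ω : Type*} [Group Ω] {S T₁ T₂ R : Subgroup Ω} {F : FusionSystem S}
variable [Finite S] {p : ℕ} [Fact p.Prime]

/-- Maps of a normal subsystem meeting `R` in its centre extend to maps fixing `R` elementwise. -/
theorem exists_fix (hS : IsPGroup p S) {E₁ : FusionSystem T₁} (hE : E₁.IsNormalIn F p)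
    (hR : F.StronglyClosed R) (hc : ∀ u ∈ T₁, ∀ r ∈ R, u * r = r * u) (hA : T₁ ⊓ R ≤ E₁.center) :
    ∀ P f, MapFn E₁ P f → ∃ g, MapFn F (P ⊔ R) g ∧ (∀ x ∈ P, g x = f x) ∧ ∀ r ∈ R, g r = r := by
  have hT := hE.1.2.2.2.1
  have := finite_of_le hT.1
  have hT₁ : IsPGroup p T₁ := hS.to_le hT.1
  have hcen : ∀ P f, MapFn E₁ P f → ∃ g, MapFn E₁ (P ⊔ (T₁ ⊓ R)) g ∧ (∀ x ∈ P, g x = f x) ∧
      ∀ z ∈ T₁ ⊓ R, g z = z := fun P f hf => by
    obtain ⟨g, hg, hgP, hgZ⟩ := mapFn_central (CfsgLib.FusionExt.isCentral_center E₁) hf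
    exact ⟨g, hg.mono (sup_le_sup_left hA P), hgP, fun z hz => hgZ z (hA hz)⟩
  have h0 := extFix_of_normal_closed hS hE hR fun P f hf => by
    obtain ⟨g, hg, hgP, hgZ⟩ := hcen P f hf
    exact ⟨g, mapFn_of_sub hE.1.2.2.1 hg, hgP, hgZ⟩
  refine alperin_induction hT₁ hE.1.1
    (fun P f => ∃ g, MapFn F (P ⊔ R) g ∧ (∀ x ∈ P, g x = f x) ∧ ∀ r ∈ R, g r = r)
    (fun _ ⟨g, hg, hP, hQ⟩ e => ⟨g, hg, fun x hx => (hP x hx).trans (e x hx), hQ⟩)
    (fun _ ⟨g, hg, hP, hQ⟩ hle => ⟨g, hg.mono (sup_le_sup_right hle R), fun x hx => hP x (hle hx), hQ⟩)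
    ?_ ?_ ?_
  · rintro P Q f g - ⟨f', hf', hfP, hfR⟩ - ⟨g', hg', hgQ, hgR⟩ hm
    refine ⟨g' ∘ f', hf'.comp hg' (hf'.maps_sup
      (fun x hx => by rw [hfP x hx]; exact Subgroup.mem_sup_left (hm x hx))
      fun x hx => by rw [hfR x hx]; exact Subgroup.mem_sup_right hx), fun x hx => ?_, fun r hr => ?_⟩
    · show g' (f' x) = g (f x)
      rw [hfP x hx, hgQ _ (hm x hx)]
    · show g' (f' r) = r
      rw [hfR r hr, hgR r hr]
  · rintro P Q f g - ⟨f', hf', hfP, hfR⟩ hr - hinv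
    obtain ⟨M, -, hM⟩ := hf'.exists_image
    obtain ⟨g', hg', -, hg'₁, -⟩ := hf'.exists_inv hM
    have hle : Q ⊔ R ≤ M := by
      refine sup_le (fun y hy => ?_) fun y hy => ?_
      · obtain ⟨x, hx, rfl⟩ := exists_of_image hr hy
        rw [← hfP x hx]; exact mem_of_image hM (Subgroup.mem_sup_left hx)
      · rw [← hfR y hy]; exact mem_of_image hM (Subgroup.mem_sup_right hy)
    refine ⟨g', hg'.mono hle, fun y hy => ?_, fun z hz => ?_⟩
    · obtain ⟨x, hx, rfl⟩ := exists_of_image hr hy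
      rw [hinv x hx, ← hfP x hx, hg'₁ x (Subgroup.mem_sup_left hx)]
    · conv_lhs => rw [← hfR z hz]
      exact hg'₁ z (Subgroup.mem_sup_right hz)
  intro Q hQn _ _ _ f hf hfr
  have hQT : Q ≤ T₁ := hQn.1
  have hQS : Q ≤ S := hQT.trans hT.1
  have := finite_mulAut hQT
  -- the automorphisms with a fixing extension
  let G : Subgroup (MulAut Q) :=
    { carrier := {α | ∃ g, MapFn F (Q ⊔ R) g ∧ (∀ x : Q, g x = ((α x : Q) : Ω)) ∧ ∀ r ∈ R, g r = r}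
      one_mem' := ⟨id, mapFn_id (sup_le hQS hR.1), fun _ => rfl, fun _ _ => rfl⟩
      mul_mem' := by
        rintro α β ⟨a, ha, haQ, haR⟩ ⟨b, hb, hbQ, hbR⟩
        refine ⟨a ∘ b, hb.comp ha (hb.maps_sup
          (fun x hx => by rw [hbQ ⟨x, hx⟩]; exact Subgroup.mem_sup_left (Subtype.mem _))
          fun x hx => by rw [hbR x hx]; exact Subgroup.mem_sup_right hx), fun x => ?_, fun r hr => ?_⟩
        · show a (b x) = _
          rw [hbQ x, haQ]; rfl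
        · show a (b r) = r
          rw [hbR r hr, haR r hr]
      inv_mem' := by
        rintro α ⟨a, ha, haQ, haR⟩
        obtain ⟨M, -, hM⟩ := ha.exists_image
        obtain ⟨b, hb, -, hb₁, -⟩ := ha.exists_inv hM
        have hQM : ∀ x : Q, (x : Ω) = a ((α⁻¹ x : Q) : Ω) := fun x => by
          rw [haQ, MulAut.apply_inv_self]
        have hle : Q ⊔ R ≤ M := sup_le
          (fun x hx => by rw [show x = _ from hQM ⟨x, hx⟩]; exact mem_of_image hM (Subgroup.mem_sup_left (Subtype.mem _)))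
          fun r hr => by rw [← haR r hr]; exact mem_of_image hM (Subgroup.mem_sup_right hr)
        refine ⟨b, hb.mono hle, fun x => ?_, fun r hr => ?_⟩
        · conv_lhs => rw [hQM x]
          exact hb₁ _ (Subgroup.mem_sup_left (Subtype.mem _))
        · conv_lhs => rw [← haR r hr]
          exact hb₁ _ (Subgroup.mem_sup_right hr) }
  have key : E₁.autGroup Q ≤ G := by
    intro α hα
    obtain ⟨a, ha, u, hu, b, rfl, hb⟩ := FullyAutomized.exists_mul (fullyNormalized_good hT₁ hE.1.1 hQn).1 hα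
    refine Subgroup.mul_mem _ ((CfsgLib.Transfer.pResidual_le_iff.mpr fun β hβ => ?_ :
      pResidual p (E₁.autGroup Q) ≤ G.subgroupOf (E₁.autGroup Q)) ha) ?_
    swap
    · exact ⟨fun x => u * x * u⁻¹, mapFn_conj (sup_le hQS hR.1) (hT.1 hu), fun x => (hb x).symm,
        fun r hr => show u * r * u⁻¹ = r by rw [hc u hu r hr, mul_inv_cancel_right]⟩
    -- an automorphism of order prime to `p`
    rw [Subgroup.mem_subgroupOf]
    obtain ⟨k, hk, hkr, hke⟩ := exists_mapFn_of_aut hQT β.2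
    obtain ⟨k₀, hk₀, hk₀Q, hk₀A⟩ := hcen Q k hk
    obtain ⟨g, hg, hgQ, hgR⟩ := h0 _ k₀ hk₀
    set W := Q ⊔ R with hW
    have hWS : W ≤ S := sup_le hQS hR.1
    have hle : W ≤ Q ⊔ (T₁ ⊓ R) ⊔ R := sup_le_sup_right le_sup_left R
    have hgk : ∀ x ∈ Q, g x = k x := fun x hx =>
      (hgQ x (Subgroup.mem_sup_left hx)).trans (hk₀Q x hx)
    have hgW : g '' W = (W : Set Ω) := (hg.mono hle).image_eq_of_maps hWS
      ((hg.mono hle).maps_sup (fun x hx => Subgroup.mem_sup_left (by rw [hgk x hx]; exact mem_of_image hkr hx))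
        fun x hx => Subgroup.mem_sup_right (hgR x hx).1) le_rfl
    obtain ⟨γ, hγ, hγe⟩ := (hg.mono hle).exists_aut hgW
    have hRW : R ≤ W := le_sup_right
    have hQW : Q ≤ W := le_sup_left
    have hγQ : ∀ x : Q, ((γ ⟨x, hQW x.2⟩ : W) : Ω) = (((β : MulAut Q) x : Q) : Ω) := fun x => by
      rw [hγe]; exact (hgk x x.2).trans (hke x)
    have hβn : (orderOf (β : MulAut Q)).Coprime p := by rwa [Subgroup.orderOf_coe]
    obtain ⟨j, n, hn, hjn, hjQ⟩ := exists_coprime_extension hWS hQW hβn hγQ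
    have hγA : ∀ w : W, (w : Ω) ∈ T₁ ⊓ R → ((γ w : W) : Ω) = w := fun w hw => by
      rw [hγe]
      exact (hgQ w (Subgroup.mem_sup_right hw)).trans (hk₀A w hw)
    have hγN : ∀ w : W, (w : Ω) ∈ T₁ ⊓ R → ((γ w : W) : Ω) ∈ T₁ ⊓ R := fun w hw => by
      rw [hγA w hw]; exact hw
    have hγR : ∀ w : W, (w : Ω) ∈ R → ((γ w : W) : Ω) ∈ R ∧ (w : Ω)⁻¹ * ((γ w : W) : Ω) ∈ T₁ ⊓ R :=
      fun w hw => by
        have h1 := hgR w hw
        rw [← hγe] at h1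
        exact ⟨h1.1, h1.2, R.mul_mem (R.inv_mem hw) h1.1⟩
    obtain ⟨-, hδA⟩ := pow_stable (N := (⊥ : Subgroup Ω)) (K := T₁ ⊓ R)
      (fun w hw => by
        rw [Subgroup.mem_bot] at hw ⊢
        rw [show w = (1 : W) from Subtype.ext hw, map_one]; rfl)
      (fun w hw => ⟨hγN w hw, by rw [hγA w hw, inv_mul_cancel]; exact Subgroup.one_mem _⟩) j
    obtain ⟨-, hδR⟩ := pow_stable hγN hγR j
    set δ := γ ^ j with hδ
    obtain ⟨D, hD, hDe⟩ := (mem_autGroup_iff_mapFn hWS).mp (Subgroup.pow_mem (F.autGroup W) hγ j)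
    refine ⟨D, hD, fun x => (hDe ⟨x, hQW x.2⟩).trans (hjQ x), fun r hr => ?_⟩
    rw [hDe ⟨r, hRW hr⟩]
    set y := (⟨r, hRW hr⟩ : W)⁻¹ * δ ⟨r, hRW hr⟩ with hydef
    have hyA : (y : Ω) ∈ T₁ ⊓ R := (hδR ⟨r, hRW hr⟩ hr).2
    have h1 := mem_of_coprime_stabilize (N := (⊥ : Subgroup Ω)) hS hWS
      (fun s _ u hu => by rw [Subgroup.mem_bot] at hu ⊢; rw [hu, mul_one, mul_inv_cancel]) hn hjn
      (fun w hw => by
        rw [Subgroup.mem_bot] at hw ⊢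
        rw [show w = (1 : W) from Subtype.ext hw, map_one]; rfl)
      ⟨r, hRW hr⟩ (by
        rw [← hydef, Subgroup.mem_subgroupOf]
        exact (hδA y hyA).2)
    rw [← hydef, Subgroup.mem_bot] at h1
    exact (inv_mul_eq_one.mp h1).symm
  obtain ⟨α, hα, hαe⟩ := hf.exists_aut hfr
  obtain ⟨g, hg, hgQ, hgR⟩ := key hα
  exact ⟨g, hg, fun x hx => (hgQ ⟨x, hx⟩).trans (hαe _), hgR⟩

theorem commute_of_bot (hc : ⁅T₁, T₂⁆ = ⊥) : ∀ a ∈ T₁, ∀ b ∈ T₂, a * b = b * a := fun a ha b hb =>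
  (Subgroup.mem_centralizer_iff.mp ((Subgroup.commutator_eq_bot_iff_le_centralizer.mp hc) ha) b hb).symm

/-- The central product of commuting normal subsystems, inside `F`. -/
theorem exists_product (hS : IsPGroup p S) (hF : F.IsSaturated p) {E₁ : FusionSystem T₁} {E₂ : FusionSystem T₂}
    (hE₁ : E₁.IsNormalIn F p) (hE₂ : E₂.IsNormalIn F p) (hc : ∀ a ∈ T₁, ∀ b ∈ T₂, a * b = b * a)
    (hA₁ : T₁ ⊓ T₂ ≤ E₁.center) (hA₂ : T₁ ⊓ T₂ ≤ E₂.center) :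
    ∃ D : FusionSystem (T₁ ⊔ T₂), IsCentralProductOf E₁ E₂ D ∧ D.IsSaturated p ∧ D.IsSubsystemOf F ∧
      F.StronglyClosed (T₁ ⊔ T₂) := by
  have h₁ := hE₁.1.2.2.2.1
  have h₂ := hE₂.1.2.2.2.1
  have := finite_of_le h₁.1
  have := finite_of_le h₂.1
  have : Finite (T₁.prod T₂) := Finite.of_equiv _ (Subgroup.prodEquiv T₁ T₂).symm.toEquiv
  let θ : ↥(T₁.prod T₂) →* Ω := MonoidHom.mk' (fun s => (s : Ω × Ω).1 * (s : Ω × Ω).2) fun s t => by
    show (s : Ω × Ω).1 * (t : Ω × Ω).1 * ((s : Ω × Ω).2 * (t : Ω × Ω).2) = _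
    rw [mul_assoc (s : Ω × Ω).1, ← mul_assoc (t : Ω × Ω).1, hc _ t.2.1 _ s.2.2]
    simp only [mul_assoc]
  let Z : Subgroup (Ω × Ω) := θ.ker.map (T₁.prod T₂).subtype
  have hk : ∀ s : ↥(T₁.prod T₂), θ s = 1 ↔ (s : Ω × Ω) ∈ Z := fun s => by
    rw [← MonoidHom.mem_ker]
    exact (Subgroup.mem_map_iff_mem (T₁.prod T₂).subtype_injective).symm
  have hZS : Z ≤ T₁.prod T₂ := Subgroup.map_subtype_le _
  have hZA : ∀ z ∈ Z, z.1 ∈ T₁ ⊓ T₂ ∧ z.2 ∈ T₁ ⊓ T₂ := by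
    rintro _ ⟨⟨⟨a, b⟩, ha, hb⟩, h, rfl⟩
    have e : a * b = 1 := h
    have e1 : a = b⁻¹ := eq_inv_of_mul_eq_one_left e
    have e2 : b = a⁻¹ := eq_inv_of_mul_eq_one_right e
    exact ⟨⟨ha, e1 ▸ T₂.inv_mem hb⟩, ⟨e2 ▸ T₁.inv_mem ha, hb⟩⟩
  let D₀ := FusionProduct.prodSystem E₁ E₂
  have hD₀ : IsProductSystem E₁ E₂ D₀ := FusionProduct.prodSystem_isProductSystem E₁ E₂
  have hZc : D₀.IsCentral Z := isCentral_of_mapFn hZS fun P f hf => by
    obtain ⟨hP, f₁, f₂, hf₁, hf₂, he⟩ := (FusionGF.mapFn_product hD₀).mp hf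
    obtain ⟨g₁, hg₁, hg₁P, hg₁Z⟩ := mapFn_central (CfsgLib.FusionExt.isCentral_center E₁) hf₁
    obtain ⟨g₂, hg₂, hg₂P, hg₂Z⟩ := mapFn_central (CfsgLib.FusionExt.isCentral_center E₂) hf₂
    refine ⟨fun x => (g₁ x.1, g₂ x.2), (FusionGF.mapFn_product hD₀).mpr ⟨sup_le hP hZS, g₁, g₂,
      hg₁.mono ?_, hg₂.mono ?_, fun _ _ => rfl⟩, fun x hx => ?_, fun z hz => ?_⟩
    · rw [Subgroup.map_sup]
      exact sup_le_sup_left (by rintro _ ⟨z, hz, rfl⟩; exact hA₁ (hZA z hz).1) _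
    · rw [Subgroup.map_sup]
      exact sup_le_sup_left (by rintro _ ⟨z, hz, rfl⟩; exact hA₂ (hZA z hz).2) _
    · rw [he x hx]; exact Prod.ext (hg₁P _ ⟨x, hx, rfl⟩) (hg₂P _ ⟨x, hx, rfl⟩)
    · exact Prod.ext (hg₁Z _ (hA₁ (hZA z hz).1)) (hg₂Z _ (hA₂ (hZA z hz).2))
  have hsc := stronglyClosed_of_central hZc
  have hrange : θ.range = T₁ ⊔ T₂ := by
    refine le_antisymm ?_ (sup_le (fun x hx => ⟨⟨(x, 1), hx, T₂.one_mem⟩, mul_one x⟩)
      fun y hy => ⟨⟨(1, y), T₁.one_mem, hy⟩, one_mul y⟩)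
    rintro _ ⟨s, rfl⟩
    exact Subgroup.mul_mem _ (Subgroup.mem_sup_left s.2.1) (Subgroup.mem_sup_right s.2.2)
  obtain ⟨D, hD⟩ : ∃ D : FusionSystem (T₁ ⊔ T₂), D₀.IsFactorSystem Z θ D := by
    rw [← hrange]
    exact ⟨_, FusionFactor.factorSystem_isFactorSystem hk hsc⟩
  have hcp : IsCentralProductOf E₁ E₂ D := by
    refine ⟨D₀, hD₀, Z, θ, le_sSup hZc, ?_, ?_, fun x _ => mul_one x, fun y _ => one_mul y, hD⟩
    · refine eq_bot_iff.mpr ?_
      rintro ⟨a, b⟩ ⟨hz, -, hb⟩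
      obtain rfl : b = 1 := hb
      have e : θ ⟨(a, 1), hZS hz⟩ = 1 := (hk _).mpr hz
      exact Subgroup.mem_bot.mpr (Prod.ext ((mul_one a).symm.trans e) rfl)
    · refine eq_bot_iff.mpr ?_
      rintro ⟨a, b⟩ ⟨hz, ha, -⟩
      obtain rfl : a = 1 := ha
      have e : θ ⟨(1, b), hZS hz⟩ = 1 := (hk _).mpr hz
      exact Subgroup.mem_bot.mpr (Prod.ext rfl ((one_mul b).symm.trans e))
  have hU : F.StronglyClosed (T₁ ⊔ T₂) := Cfsg.Agent.S5128.result p hS F hF T₁ T₂ h₁ h₂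
  refine ⟨D, hcp, FusionFactor.isSaturated_factor
    (FusionProduct.isPGroup_prod (hS.to_le h₁.1) (hS.to_le h₂.1))
    (FusionProduct.prod_saturated (hS.to_le h₁.1) (hS.to_le h₂.1) hE₁.1.1 hE₂.1.1) hsc hD,
    fun P => hom_subset_iff_mapFn.mpr fun f hf => ?_, hU⟩
  obtain ⟨A, B, f₁, f₂, hf₁, hf₂, hA, hB, -, hsplit, hfe⟩ := FusionGF.cp_split hcp hf
  obtain ⟨g₁, hg₁, hg₁A, hg₁T⟩ := exists_fix hS hE₁ h₂ hc hA₁ A f₁ hf₁
  obtain ⟨g₂, hg₂, hg₂B, hg₂T⟩ := exists_fix hS hE₂ h₁ (fun b hb a ha => (hc a ha b hb).symm)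
    (inf_comm T₁ T₂ ▸ hA₂) B f₂ hf₂
  have hPle : P ≤ B ⊔ T₁ := fun x hx => by
    obtain ⟨a, ha, b, hb, rfl⟩ := hsplit x hx
    exact Subgroup.mul_mem _ (Subgroup.mem_sup_right (hA ha)) (Subgroup.mem_sup_left hb)
  have hm : ∀ x ∈ P, g₂ x ∈ A ⊔ T₂ := fun x hx => by
    obtain ⟨a, ha, b, hb, rfl⟩ := hsplit x hx
    rw [hg₂.map_mul (Subgroup.mem_sup_right (hA ha)) (Subgroup.mem_sup_left hb), hg₂T a (hA ha), hg₂B b hb]
    exact Subgroup.mul_mem _ (Subgroup.mem_sup_left ha) (Subgroup.mem_sup_right (hf₂.mem_S hb))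
  refine ((hg₂.mono hPle).comp hg₁ hm).congr fun x hx => ?_
  obtain ⟨a, ha, b, hb, rfl⟩ := hsplit x hx
  show g₁ (g₂ (a * b)) = f (a * b)
  rw [hg₂.map_mul (Subgroup.mem_sup_right (hA ha)) (Subgroup.mem_sup_left hb), hg₂T a (hA ha), hg₂B b hb,
    hg₁.map_mul (Subgroup.mem_sup_left ha) (Subgroup.mem_sup_right (hf₂.mem_S hb)), hg₁A a ha,
    hg₁T _ (hf₂.mem_S hb), (hfe a (hA ha) b (hB hb) hx).2.2]

end CfsgLib.FusionProductNormal
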