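import Cfsg.Agent.Lib.Fusion.ProductFix
import Cfsg.Agent.Lib.Fusion.Invariant
import Cfsg.Agent.Lib.Fusion.CentralizerNormal

/-!
# The central product of commuting normal subsystems is invariant

Invariance is componentwise. The Frattini condition follows by descending induction: on a fully
normalized `R` containing `A = T₁ ∩ T₂` the automorphisms of the product, together with those
trivial on `A` and on `R / A`, form a normal subgroup of `Aut_F(R)`.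
-/

set_option autoImplicit false
set_option linter.unusedSectionVars false

namespace CfsgLib.FusionProductNormal

open Cfsg Cfsg.FusionSystem CfsgLib.Fusion CfsgLib.FusionNormal CfsgLib.FusionTransport

variable {Ω : Type*} [Group Ω] {S T₁ T₂ U T : Subgroup Ω} {F : FusionSystem S} {E : FusionSystem T}
  {E₁ : FusionSystem T₁} {E₂ : FusionSystem T₂} {D : FusionSystem U} {P Q R : Subgroup Ω}
variable [Finite S] {p : ℕ} [Fact p.Prime]

omit [Finite S] in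
theorem stronglyClosed_inf {X Y : Subgroup Ω} (hX : F.StronglyClosed X) (hY : F.StronglyClosed Y) :
    F.StronglyClosed (X ⊓ Y) :=
  ⟨inf_le_left.trans hX.1, fun W hW φ hφ x =>
    ⟨hX.2 W (hW.trans inf_le_left) φ hφ x, hY.2 W (hW.trans inf_le_right) φ hφ x⟩⟩

/-- Maps of a system fix the elements of its centre. -/
theorem fix_center [Finite T] {f : Ω → Ω} (hf : MapFn E P f) {z : Ω} (hz : z ∈ E.center) (hzP : z ∈ P) : f z = z := by
  obtain ⟨g, -, hgP, hgZ⟩ := mapFn_central (CfsgLib.FusionExt.isCentral_center E) hf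
  rw [← hgP z hzP, hgZ z hz]

/-- An automorphism of `R` in an invariant subsystem transports along an automorphism of `R` in `F`. -/
theorem transport_auto (hE : E.IsInvariantIn F) (hR : R ≤ T) {c f : Ω → Ω} (hc : MapFn F R c)
    (hcr : c '' R = (R : Set Ω)) (hf : MapFn E R f) (hfr : f '' R = (R : Set Ω)) :
    ∃ g, MapFn E R g ∧ ∀ x ∈ R, g (c x) = c (f x) := by
  obtain ⟨a, e, ha, har, he, hce⟩ := mapFn_frattini hE hR hc
  obtain ⟨Q, hQT, hQ⟩ := he.exists_image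
  obtain ⟨ei, hei, heir, hei₁, -⟩ := he.exists_inv hQ
  have hh : MapFn E Q (e ∘ f ∘ ei) :=
    (hei.comp hf fun y hy => mem_of_image heir hy).comp he fun y hy => mem_of_image hfr (mem_of_image heir hy)
  have haQ : a '' Q = (R : Set Ω) := by
    rw [← hcr, ← hQ, Set.image_image]
    exact Set.image_congr fun x hx => (hce x hx).symm
  obtain ⟨g, hg, hge⟩ := mapFn_transport hE hh ha har haQ
  refine ⟨g, hg, fun x hx => ?_⟩
  rw [hce x hx, hge _ (mem_of_image hQ hx), hce _ (mem_of_image hfr hx)]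
  show a (e (f (ei (e x)))) = _
  rw [hei₁ x hx]

/-- Invariance of a central product under the automorphisms of its base. -/
theorem cp_transport (hE₁ : E₁.IsInvariantIn F) (hE₂ : E₂.IsInvariantIn F) (hU : F.StronglyClosed U)
    (h : IsCentralProductOf E₁ E₂ D) {P P' : Subgroup Ω} {f a : Ω → Ω} (hf : MapFn D P f) (ha : MapFn F U a)
    (har : a '' U = (U : Set Ω)) (hP' : a '' P = (P' : Set Ω)) :
    ∃ χ, MapFn D P' χ ∧ ∀ x ∈ P, χ (a x) = a (f x) := by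
  have h₁ := hE₁.2.1
  have h₂ := hE₂.2.1
  have := finite_of_le h₁.1
  have := finite_of_le h₂.1
  have hsup := FusionGF.cp_sup h
  have hT₁U : T₁ ≤ U := hsup ▸ le_sup_left
  have hT₂U : T₂ ≤ U := hsup ▸ le_sup_right
  obtain ⟨A, B, f₁, f₂, hf₁, hf₂, hA, hB, hiA, hsplit, hfe⟩ := FusionGF.cp_split h hf
  have hiB : T₁ ⊓ T₂ ≤ B := fun x hx => by
    have h1 := hfe x⁻¹ (T₁.inv_mem hx.1) x hx.2 (by rw [inv_mul_cancel]; exact P.one_mem)
    exact h1.2.1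
  have ha₁ : a '' T₁ = (T₁ : Set Ω) := (ha.mono hT₁U).image_eq_of_maps h₁.1
    (fun x hx => mapFn_mem h₁ (ha.mono hT₁U) hx hx) le_rfl
  have ha₂ : a '' T₂ = (T₂ : Set Ω) := (ha.mono hT₂U).image_eq_of_maps h₂.1
    (fun x hx => mapFn_mem h₂ (ha.mono hT₂U) hx hx) le_rfl
  obtain ⟨A', -, hA'⟩ := (ha.mono (hA.trans hT₁U)).exists_image
  obtain ⟨B', -, hB'⟩ := (ha.mono (hB.trans hT₂U)).exists_image
  obtain ⟨g₁, hg₁, hg₁e⟩ := mapFn_transport hE₁ hf₁ (ha.mono hT₁U) ha₁ hA'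
  obtain ⟨g₂, hg₂, hg₂e⟩ := mapFn_transport hE₂ hf₂ (ha.mono hT₂U) ha₂ hB'
  have hAA : ∀ z ∈ T₁ ⊓ T₂, ∃ y ∈ T₁ ⊓ T₂, a y = z := fun z hz => by
    obtain ⟨y, hy, rfl⟩ := exists_of_image har (hT₁U hz.1)
    exact ⟨y, ⟨(mapFn_mem_iff h₁ ha hy).mp hz.1, (mapFn_mem_iff h₂ ha hy).mp hz.2⟩, rfl⟩
  have hPU : P ≤ U := hf.le_S
  obtain ⟨g, hg, hge⟩ := FusionGF.cp_pair (P := P') h hg₁ hg₂
    (fun z hz => by obtain ⟨y, hy, rfl⟩ := hAA z hz; exact mem_of_image hA' (hiA hy))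
    (fun z hz => by obtain ⟨y, hy, rfl⟩ := hAA z hz; exact mem_of_image hB' (hiB hy))
    (fun y hy => by
      obtain ⟨x, hx, rfl⟩ := exists_of_image hP' hy
      obtain ⟨u, hu, v, hv, rfl⟩ := hsplit x hx
      exact ⟨a u, mem_of_image hA' hu, a v, mem_of_image hB' hv,
        ha.map_mul (hT₁U (hA hu)) (hT₂U (hB hv))⟩)
  refine ⟨g, hg, fun x hx => ?_⟩
  obtain ⟨u, hu, v, hv, rfl⟩ := hsplit x hx
  have hm := mem_of_image hP' hx
  rw [ha.map_mul (hT₁U (hA hu)) (hT₂U (hB hv))] at hm ⊢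
  rw [hge _ (mem_of_image hA' hu) _ (mem_of_image hB' hv) hm, hg₁e u hu, hg₂e v hv,
    (hfe u (hA hu) v (hB hv) hx).2.2, ha.map_mul (hT₁U (hf₁.mem_S hu)) (hT₂U (hf₂.mem_S hv))]

/-- A map that is an automorphism of the base followed by a map of `D`. -/
def Good (F : FusionSystem S) (D : FusionSystem U) (P : Subgroup Ω) (f : Ω → Ω) : Prop :=
  ∃ a f₀, MapFn F U a ∧ a '' U = (U : Set Ω) ∧ MapFn D P f₀ ∧ ∀ x ∈ P, f x = a (f₀ x)

omit [Finite S] in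
theorem Good.mono {f : Ω → Ω} (h : Good F D P f) (hR : R ≤ P) : Good F D R f := by
  obtain ⟨a, f₀, ha, har, hf₀, he⟩ := h
  exact ⟨a, f₀, ha, har, hf₀.mono hR, fun x hx => he x (hR hx)⟩

omit [Finite S] in
theorem Good.congr {f g : Ω → Ω} (h : Good F D P f) (e : ∀ x ∈ P, f x = g x) : Good F D P g := by
  obtain ⟨a, f₀, ha, har, hf₀, he⟩ := h
  exact ⟨a, f₀, ha, har, hf₀, fun x hx => (e x hx).symm.trans (he x hx)⟩

theorem good_comp (hE₁ : E₁.IsInvariantIn F) (hE₂ : E₂.IsInvariantIn F) (hU : F.StronglyClosed U)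
    (h : IsCentralProductOf E₁ E₂ D) {f g : Ω → Ω} (hf : Good F D P f) (hg : Good F D Q g)
    (hm : ∀ x ∈ P, f x ∈ Q) : Good F D P (g ∘ f) := by
  obtain ⟨a, f₀, ha, har, hf₀, he⟩ := hf
  obtain ⟨b, g₀, hb, hbr, hg₀, hge⟩ := hg
  obtain ⟨ai, hai, hair, hai₁, hai₂⟩ := ha.exists_inv har
  have hQU : Q ≤ U := hg₀.le_S
  obtain ⟨Q', -, hQ'⟩ := (hai.mono hQU).exists_image
  obtain ⟨χ, hχ, hχe⟩ := cp_transport hE₁ hE₂ hU h hg₀ hai hair hQ'
  have hval : ∀ x ∈ P, f₀ x = ai (f x) := fun x hx => by rw [he x hx, hai₁ _ (hf₀.mem_S hx)]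
  refine ⟨b ∘ a, χ ∘ f₀, ha.comp hb fun x hx => mem_of_image har hx, image_comp har hbr,
    hf₀.comp hχ fun x hx => by rw [hval x hx]; exact mem_of_image hQ' (hm x hx), fun x hx => ?_⟩
  show g (f x) = b (a (χ (f₀ x)))
  rw [hval x hx, hχe _ (hm x hx), hge _ (hm x hx), hai₂ _ (hg₀.mem_S (hm x hx))]

theorem good_inv (hE₁ : E₁.IsInvariantIn F) (hE₂ : E₂.IsInvariantIn F) (hU : F.StronglyClosed U)
    (h : IsCentralProductOf E₁ E₂ D) {f g : Ω → Ω} (hf : Good F D P f) (hfr : f '' P = (R : Set Ω))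
    (hg : ∀ x ∈ P, g (f x) = x) : Good F D R g := by
  obtain ⟨a, f₀, ha, har, hf₀, he⟩ := hf
  obtain ⟨R₀, -, hR₀⟩ := hf₀.exists_image
  obtain ⟨h₀, hh₀, -, hh₀₁, -⟩ := hf₀.exists_inv hR₀
  obtain ⟨ai, hai, hair, hai₁, -⟩ := ha.exists_inv har
  have haR : a '' R₀ = (R : Set Ω) := by
    rw [← hfr, ← hR₀, Set.image_image]
    exact Set.image_congr fun x hx => (he x hx).symm
  obtain ⟨χ, hχ, hχe⟩ := cp_transport hE₁ hE₂ hU h hh₀ ha har haR
  refine ⟨ai, χ, hai, hair, hχ, fun y hy => ?_⟩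
  obtain ⟨x, hx, rfl⟩ := exists_of_image hfr hy
  rw [hg x hx, he x hx, hχe _ (mem_of_image hR₀ hx), hh₀₁ x hx, hai₁ x (hf₀.le_S hx)]

/-- The automorphisms of the product are normalised by `Aut_F(R)` modulo those trivial on `A` and `R / A`. -/
theorem conj_congr (hS : IsPGroup p S) (hF : F.IsSaturated p) (hE₁ : E₁.IsInvariantIn F)
    (hE₂ : E₂.IsInvariantIn F) (h : IsCentralProductOf E₁ E₂ D) (hc : ∀ a ∈ T₁, ∀ b ∈ T₂, a * b = b * a)
    (hA₁ : T₁ ⊓ T₂ ≤ E₁.center) (hA₂ : T₁ ⊓ T₂ ≤ E₂.center) (hUS : U ≤ S) (hRU : R ≤ U)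
    (hAR : T₁ ⊓ T₂ ≤ R) {c d : Ω → Ω} (hc' : MapFn F R c) (hcr : c '' R = (R : Set Ω)) (hd : MapFn D R d)
    (hdr : d '' R = (R : Set Ω)) :
    ∃ d', MapFn D R d' ∧ d' '' R = (R : Set Ω) ∧ (∀ z ∈ T₁ ⊓ T₂, d' z = z ∧ d z = z) ∧
      ∀ x ∈ R, (d' (c x))⁻¹ * c (d x) ∈ T₁ ⊓ T₂ := by
  have h₁ := hE₁.2.1
  have h₂ := hE₂.2.1
  have := finite_of_le h₁.1
  have := finite_of_le h₂.1
  have hsup := FusionGF.cp_sup h
  have hRS : R ≤ S := hRU.trans hUS
  have hdec : ∀ x ∈ U, ∃ a ∈ T₁, ∃ b ∈ T₂, x = a * b := fun x hx => by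
    rw [hsup, ← SetLike.mem_coe, Subgroup.coe_mul_of_right_le_normalizer_left T₁ T₂
      (h₂.1.trans (StronglyClosed.le_normalizer h₁))] at hx
    obtain ⟨a, ha, b, hb, e⟩ := hx
    exact ⟨a, ha, b, hb, e.symm⟩
  -- the congruence extensions
  obtain ⟨φ, hφ, hφe⟩ := hc'
  obtain ⟨ψ₁, hψ₁, he₁⟩ := FusionExtend.exists_congr_extension hS hF h₂ hφ
  obtain ⟨ψ₂, hψ₂, he₂⟩ := FusionExtend.exists_congr_extension hS hF h₁ hφ
  have hc' : MapFn F R c := ⟨φ, hφ, hφe⟩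
  obtain ⟨c₁, hc₁, hc₁e⟩ := mapFn_of_hom hψ₁
  obtain ⟨c₂, hc₂, hc₂e⟩ := mapFn_of_hom hψ₂
  have hk₁ : ∀ x ∈ R, (c x)⁻¹ * c₁ x ∈ T₂ := fun x hx => by
    have h1 := he₁ ⟨x, hx⟩; rwa [hφe, hc₁e] at h1
  have hk₂ : ∀ x ∈ R, (c x)⁻¹ * c₂ x ∈ T₁ := fun x hx => by
    have h1 := he₂ ⟨x, hx⟩; rwa [hφe, hc₂e] at h1
  set R₁ := (R ⊔ T₂) ⊓ T₁ with hR₁
  set R₂ := (R ⊔ T₁) ⊓ T₂ with hR₂
  have hR₁S : R₁ ≤ S := inf_le_right.trans h₁.1
  have hR₂S : R₂ ≤ S := inf_le_right.trans h₂.1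
  have hc₁R : c₁ '' R₁ = (R₁ : Set Ω) := (hc₁.mono inf_le_left).image_eq_of_maps hR₁S
    (fun x hx => ⟨hc₁.maps_sup (fun y hy => by
      have h1 := Subgroup.mul_mem (R ⊔ T₂) (Subgroup.mem_sup_left (mem_of_image hcr hy))
        (Subgroup.mem_sup_right (hk₁ y hy))
      rwa [mul_inv_cancel_left] at h1)
      (fun y hy => Subgroup.mem_sup_right (mapFn_mem h₂ hc₁ (Subgroup.mem_sup_right hy) hy)) x hx.1,
      mapFn_mem h₁ hc₁ hx.1 hx.2⟩) le_rfl
  have hc₂R : c₂ '' R₂ = (R₂ : Set Ω) := (hc₂.mono inf_le_left).image_eq_of_maps hR₂S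
    (fun x hx => ⟨hc₂.maps_sup (fun y hy => by
      have h1 := Subgroup.mul_mem (R ⊔ T₁) (Subgroup.mem_sup_left (mem_of_image hcr hy))
        (Subgroup.mem_sup_right (hk₂ y hy))
      rwa [mul_inv_cancel_left] at h1)
      (fun y hy => Subgroup.mem_sup_right (mapFn_mem h₁ hc₂ (Subgroup.mem_sup_right hy) hy)) x hx.1,
      mapFn_mem h₂ hc₂ hx.1 hx.2⟩) le_rfl
  -- splitting elements of `R`
  have hsplitR : ∀ x ∈ R, ∀ a ∈ T₁, ∀ b ∈ T₂, x = a * b → a ∈ R₁ ∧ b ∈ R₂ := by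
    intro x hx a ha b hb e
    refine ⟨⟨?_, ha⟩, ?_, hb⟩
    · rw [show a = x * b⁻¹ by rw [e, mul_inv_cancel_right]]
      exact Subgroup.mul_mem _ (Subgroup.mem_sup_left hx) (Subgroup.mem_sup_right (T₂.inv_mem hb))
    · rw [show b = a⁻¹ * x by rw [e, inv_mul_cancel_left]]
      exact Subgroup.mul_mem _ (Subgroup.mem_sup_right (T₁.inv_mem ha)) (Subgroup.mem_sup_left hx)
  have hdecomp : ∀ x ∈ R, ∀ a ∈ T₁, ∀ b ∈ T₂, x = a * b → ∃ z ∈ T₁ ⊓ T₂, c x = c₁ a * (c₂ b * z) := by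
    intro x hx a ha b hb e
    obtain ⟨ha', hb'⟩ := hsplitR x hx a ha b hb e
    have hA1 := mem_of_image hc₁R ha'
    have hB2 := mem_of_image hc₂R hb'
    have e₁ : c₁ x = c₁ a * c₁ b := by rw [e, hc₁.map_mul ha'.1 (Subgroup.mem_sup_right hb)]
    have e₂ : c₂ x = c₂ b * c₂ a := by
      rw [e, hc a ha b hb, hc₂.map_mul hb'.1 (Subgroup.mem_sup_right ha)]
    refine ⟨(c₂ b)⁻¹ * ((c₁ a)⁻¹ * c x), ⟨?_, ?_⟩, by group⟩
    · have h1 : (c₁ a) * (c₂ b) = c₂ b * c₁ a := hc _ hA1.2 _ hB2.2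
      have h2 : (c₂ b)⁻¹ * ((c₁ a)⁻¹ * c x) = (c₁ a)⁻¹ * (c₂ a * ((c x)⁻¹ * c₂ x)⁻¹) := by
        rw [← mul_assoc, ← mul_inv_rev, h1, mul_inv_rev, e₂]; group
      rw [h2]
      exact T₁.mul_mem (T₁.inv_mem hA1.2) (T₁.mul_mem (mapFn_mem h₁ hc₂ (Subgroup.mem_sup_right ha) ha)
        (T₁.inv_mem (hk₂ x hx)))
    · have h2 : (c₁ a)⁻¹ * c x = c₁ b * ((c x)⁻¹ * c₁ x)⁻¹ := by rw [e₁]; group
      rw [h2]
      exact T₂.mul_mem (T₂.inv_mem hB2.2) (T₂.mul_mem (mapFn_mem h₂ hc₁ (Subgroup.mem_sup_right hb) hb)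
        (T₂.inv_mem (hk₁ x hx)))
  -- the components of `d`
  obtain ⟨A, B, f₁, f₂, hf₁, hf₂, hA, hB, hiA, -, hfe⟩ := FusionGF.cp_split h hd
  have hR₁A : ∀ r ∈ R₁, r ∈ A ∧ f₁ r ∈ R₁ := by
    intro r hr
    have hr' : r ∈ R ⊔ T₂ := hr.1
    rw [← SetLike.mem_coe, Subgroup.coe_mul_of_left_le_normalizer_right R T₂
      (hRS.trans (StronglyClosed.le_normalizer h₂))] at hr'
    obtain ⟨x, hx, t, ht, e⟩ := hr'
    change x * t = r at e
    have hxe : r * t⁻¹ = x := by rw [← e, mul_inv_cancel_right]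
    obtain ⟨hrA, htB, hde⟩ := hfe r hr.2 t⁻¹ (T₂.inv_mem ht) (hxe ▸ hx)
    refine ⟨hrA, ?_, hf₁.mem_S hrA⟩
    have h1 := Subgroup.mul_mem (R ⊔ T₂) (Subgroup.mem_sup_left (mem_of_image hdr (hxe ▸ hx)))
      (Subgroup.mem_sup_right (T₂.inv_mem (hf₂.mem_S htB)))
    rwa [hde, mul_inv_cancel_right] at h1
  have hR₂B : ∀ r ∈ R₂, r ∈ B ∧ f₂ r ∈ R₂ := by
    intro r hr
    have hr' : r ∈ R ⊔ T₁ := hr.1
    rw [sup_comm, ← SetLike.mem_coe, Subgroup.coe_mul_of_right_le_normalizer_left T₁ R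
      (hRS.trans (StronglyClosed.le_normalizer h₁))] at hr'
    obtain ⟨t, ht, x, hx, e⟩ := hr'
    change t * x = r at e
    have hxe : t⁻¹ * r = x := by rw [← e, inv_mul_cancel_left]
    obtain ⟨htA, hrB, hde⟩ := hfe t⁻¹ (T₁.inv_mem ht) r hr.2 (hxe ▸ hx)
    refine ⟨hrB, ?_, hf₂.mem_S hrB⟩
    have h1 := Subgroup.mul_mem (R ⊔ T₁) (Subgroup.mem_sup_right (T₁.inv_mem (hf₁.mem_S htA)))
      (Subgroup.mem_sup_left (mem_of_image hdr (hxe ▸ hx)))
    rwa [hde, inv_mul_cancel_left] at h1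
  have hf₁' := hf₁.mono fun r hr => (hR₁A r hr).1
  have hf₂' := hf₂.mono fun r hr => (hR₂B r hr).1
  obtain ⟨g₁, hg₁, hg₁e⟩ := transport_auto hE₁ inf_le_right (hc₁.mono inf_le_left) hc₁R hf₁'
    (hf₁'.image_eq_of_maps inf_le_right (fun r hr => (hR₁A r hr).2) le_rfl)
  obtain ⟨g₂, hg₂, hg₂e⟩ := transport_auto hE₂ inf_le_right (hc₂.mono inf_le_left) hc₂R hf₂'
    (hf₂'.image_eq_of_maps inf_le_right (fun r hr => (hR₂B r hr).2) le_rfl)
  have hAR₁ : T₁ ⊓ T₂ ≤ R₁ := fun z hz => ⟨Subgroup.mem_sup_left (hAR hz), hz.1⟩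
  have hAR₂ : T₁ ⊓ T₂ ≤ R₂ := fun z hz => ⟨Subgroup.mem_sup_left (hAR hz), hz.2⟩
  obtain ⟨d', hd', hd'e⟩ := FusionGF.cp_pair (P := R) h hg₁ hg₂ hAR₁ hAR₂ fun x hx => by
    obtain ⟨a, ha, b, hb, e⟩ := hdec x (hRU hx)
    obtain ⟨ha', hb'⟩ := hsplitR x hx a ha b hb e
    exact ⟨a, ha', b, hb', e⟩
  have hfixd : ∀ z ∈ T₁ ⊓ T₂, d' z = z ∧ d z = z := by
    intro z hz
    constructor
    · have h1 := hd'e z (hAR₁ hz) 1 (one_mem _) (by rw [mul_one]; exact hAR hz)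
      rw [mul_one] at h1
      rw [h1, fix_center hg₁ (hA₁ hz) (hAR₁ hz), hg₂.map_one, mul_one]
    · have h1 := hfe z hz.1 1 (one_mem _) (by rw [mul_one]; exact hAR hz)
      rw [mul_one] at h1
      rw [h1.2.2, fix_center hf₁ (hA₁ hz) h1.1, hf₂.map_one, mul_one]
  have hkey : ∀ x ∈ R, (d' (c x))⁻¹ * c (d x) ∈ T₁ ⊓ T₂ := by
    intro x hx
    obtain ⟨a, ha, b, hb, e⟩ := hdec x (hRU hx)
    obtain ⟨ha', hb'⟩ := hsplitR x hx a ha b hb e
    obtain ⟨z, hz, hce⟩ := hdecomp x hx a ha b hb e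
    have hde : d x = f₁ a * f₂ b := by rw [e]; exact (hfe a ha b hb (e ▸ hx)).2.2
    obtain ⟨w, hw, hcde⟩ := hdecomp (d x) (mem_of_image hdr hx) _ (hR₁A a ha').2.2 _ (hR₂B b hb').2.2 hde
    have hm₂ : c₂ b * z ∈ R₂ := R₂.mul_mem (mem_of_image hc₂R hb') (hAR₂ hz)
    rw [hce, hd'e _ (mem_of_image hc₁R ha') _ hm₂ (hce ▸ mem_of_image hcr hx), hg₁e a ha',
      hg₂.map_mul (mem_of_image hc₂R hb') (hAR₂ hz), hg₂e b hb', fix_center hg₂ (hA₂ hz) (hAR₂ hz), hcde]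
    have h1 := (T₁ ⊓ T₂).mul_mem ((T₁ ⊓ T₂).inv_mem hz) hw
    convert h1 using 1
    group
  have : Finite U := finite_of_le hUS
  refine ⟨d', hd', hd'.image_eq_of_maps hRU (fun y hy => ?_) le_rfl, hfixd, hkey⟩
  obtain ⟨x, hx, rfl⟩ := exists_of_image hcr hy
  have h1 := R.mul_mem (mem_of_image hcr (mem_of_image hdr hx)) (R.inv_mem (hAR (hkey x hx)))
  rw [mul_inv_rev, inv_inv, mul_inv_cancel_left] at h1
  exact h1

/-- Every automorphism of a fully normalized subgroup is good, when larger ones are. -/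
theorem good_auto (hS : IsPGroup p S) (hF : F.IsSaturated p) (hE₁ : E₁.IsInvariantIn F)
    (hE₂ : E₂.IsInvariantIn F) (h : IsCentralProductOf E₁ E₂ D) (hDF : D.IsSubsystemOf F)
    (hU : F.StronglyClosed U) (hc : ∀ a ∈ T₁, ∀ b ∈ T₂, a * b = b * a)
    (hA₁ : T₁ ⊓ T₂ ≤ E₁.center) (hA₂ : T₁ ⊓ T₂ ≤ E₂.center) (hRU : R ≤ U) (hAR : T₁ ⊓ T₂ ≤ R) (hne : R ≠ U)
    (hRn : F.IsFullyNormalized R)
    (IH : ∀ X, T₁ ⊓ T₂ ≤ X → X ≤ U → Nat.card R < Nat.card X → ∀ f, MapFn F X f → Good F D X f)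
    {a : Ω → Ω} (ha : MapFn F R a) (har : a '' R = (R : Set Ω)) : Good F D R a := by
  have hRS := hRn.1
  have := finite_mulAut hRS
  have hUS := hU.1
  have : Finite U := finite_of_le hUS
  obtain ⟨hRa, hRr⟩ := fullyNormalized_good hS hF hRn
  obtain ⟨-, Sy, hSy⟩ := hRa
  have hA : F.StronglyClosed (T₁ ⊓ T₂) := stronglyClosed_inf hE₁.2.1 hE₂.2.1
  -- good automorphisms
  let G : Subgroup (MulAut R) :=
    { carrier := {α | ∃ f, Good F D R f ∧ f '' R = (R : Set Ω) ∧ ∀ x : R, f x = ((α x : R) : Ω)}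
      one_mem' := ⟨id, ⟨id, id, mapFn_id hUS, Set.image_id _, mapFn_id hRU, fun _ _ => rfl⟩,
        Set.image_id _, fun _ => rfl⟩
      mul_mem' := by
        rintro α β ⟨f, hf, hfr, hfe⟩ ⟨g, hg, hgr, hge⟩
        refine ⟨f ∘ g, good_comp hE₁ hE₂ hU h hg hf fun x hx => mem_of_image hgr hx, image_comp hgr hfr,
          fun x => ?_⟩
        show f (g x) = _
        rw [hge, hfe]; rfl
      inv_mem' := by
        rintro α ⟨f, hf, hfr, hfe⟩
        obtain ⟨g, -, hgr, hgf, -⟩ := (show MapFn F R f by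
          obtain ⟨b, f₀, hb, -, hf₀, he⟩ := hf
          exact ((mapFn_of_sub hDF hf₀).comp hb fun x hx => hf₀.mem_S hx).congr
            fun x hx => (he x hx).symm).exists_inv hfr
        refine ⟨g, good_inv hE₁ hE₂ hU h hf hfr hgf, hgr, fun x => ?_⟩
        conv_lhs => rw [show (x : Ω) = f ((α⁻¹ x : R) : Ω) by rw [hfe, MulAut.apply_inv_self]]
        exact hgf _ (Subtype.mem _) }
  have hDG : D.autGroup R ≤ G := fun α hα => by
    obtain ⟨f, hf, hfr, hfe⟩ := exists_mapFn_of_aut hRU hα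
    exact ⟨f, ⟨id, f, mapFn_id hUS, Set.image_id _, hf, fun _ _ => rfl⟩, hfr, hfe⟩
  have hTG : autInducedBy S R ≤ G := fun α hα => by
    obtain ⟨s, hs, hse⟩ := mem_autInducedBy.mp hα
    refine ⟨fun x => s * x * s⁻¹, ⟨fun x => s * x * s⁻¹, id, mapFn_conj hUS hs,
      (mapFn_conj (F := F) hUS hs).image_eq_of_maps hUS (fun x hx => mapFn_mem hU (mapFn_conj hUS hs) hx hx) le_rfl,
      mapFn_id hRU, fun _ _ => rfl⟩, ?_, fun x => (hse x).symm⟩
    exact (mapFn_conj (F := F) hRS hs).image_eq_of_maps hRS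
      (fun x hx => by rw [← hse ⟨x, hx⟩]; exact Subtype.mem _) le_rfl
  -- automorphisms trivial on `A` and on `R / A`
  set AR := (T₁ ⊓ T₂).subgroupOf R with hARdef
  let L : ℕ → Subgroup R := fun i => if i = 0 then ⊥ else if i = 1 then AR else ⊤
  have hL0 : L 0 = ⊥ := rfl
  have hL1 : L (0 + 1) = AR := rfl
  have hL2 : ∀ i, L (i + 1 + 1) = ⊤ := fun i => rfl
  have hinv : ∀ i ≤ 2, ∀ α ∈ F.autGroup R, ∀ x ∈ L i, α x ∈ L i := by
    intro i _ α hα x hx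
    obtain ⟨f, hf, -, hfe⟩ := exists_mapFn_of_aut hRS hα
    rcases i with _ | _ | i
    · rw [hL0, Subgroup.mem_bot] at hx ⊢
      rw [hx, map_one]
    · rw [hL1, hARdef, Subgroup.mem_subgroupOf] at hx ⊢
      rw [← hfe]
      exact mapFn_mem hA hf x.2 hx
    · rw [hL2]; exact Subgroup.mem_top _
  set K := seriesStabilizer F R 2 L hinv with hK
  have hKH : K ≤ F.autGroup R := fun α hα => (mem_seriesStabilizer.mp hα).1
  have := finite_of_le hRS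
  have hKp : IsPGroup p K := by
    intro α
    obtain ⟨k, hk⟩ := exists_pow_eq_one_of_stabilizes (hS.to_le hRS) L (n := 2)
      (fun i hi => by
        rcases i with _ | i
        · rw [hL0]; exact bot_le
        · rw [hL2]; exact le_top) (hL2 0) (α := (α : MulAut R))
      ⟨0, fun x hx => by rw [hL0, Subgroup.mem_bot] at hx; rw [hx, map_one]⟩
      (mem_seriesStabilizer.mp α.2).2
    exact ⟨k, Subtype.ext hk⟩
  have hKG : K ≤ G := by
    intro α hα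
    have hAn : (K.subgroupOf (F.autGroup R)).Normal :=
      ⟨fun x hx g => Subgroup.mem_subgroupOf.mpr (seriesStabilizer_conj_mem hx g.2)⟩
    have hle := (PCore.le_pCore hAn (hKp.comap_of_injective _ (F.autGroup R).subtype_injective)).trans
      (PCore.pCore_le_sylow Sy)
    exact hTG (hSy.le (hle (Subgroup.mem_subgroupOf.mpr hα : (⟨α, hKH hα⟩ : F.autGroup R) ∈ _)))
  -- `K Aut_D(R)` is normal
  have hDH : D.autGroup R ≤ F.autGroup R := fun α hα => by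
    obtain ⟨f, hf, -, hfe⟩ := exists_mapFn_of_aut hRU hα
    exact (mem_autGroup_iff_mapFn hRS).mpr ⟨f, mapFn_of_sub hDF hf, hfe⟩
  set N := (K ⊔ D.autGroup R).subgroupOf (F.autGroup R) with hN
  have hNn : N.Normal := by
    refine ⟨fun x hx g => ?_⟩
    rw [hN, Subgroup.mem_subgroupOf] at hx ⊢
    have hle : (K ⊔ D.autGroup R).map (MulAut.conj (g : MulAut R)).toMonoidHom ≤ K ⊔ D.autGroup R := by
      rw [Subgroup.map_sup]
      refine sup_le ?_ ?_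
      · rintro _ ⟨k, hk, rfl⟩
        exact Subgroup.mem_sup_left (seriesStabilizer_conj_mem hk g.2)
      rintro _ ⟨δ, hδ, rfl⟩
      obtain ⟨c, hc', hcr, hce⟩ := exists_mapFn_of_aut hRS g.2
      obtain ⟨d, hd, hdr, hde⟩ := exists_mapFn_of_aut hRU hδ
      obtain ⟨d', hd', hd'r, hfix, hkey⟩ :=
        conj_congr hS hF hE₁ hE₂ h hc hA₁ hA₂ hUS hRU hAR hc' hcr hd hdr
      obtain ⟨δ', hδ', hδ'e⟩ := hd'.exists_aut hd'r
      set μ := (δ'⁻¹ : MulAut R) * ((g : MulAut R) * δ * (g : MulAut R)⁻¹) with hμ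
      have hμK : μ ∈ K := by
        refine mem_seriesStabilizer.mpr ⟨Subgroup.mul_mem _ (Subgroup.inv_mem _ (hDH hδ'))
          (Subgroup.mul_mem _ (Subgroup.mul_mem _ g.2 (hDH hδ)) (Subgroup.inv_mem _ g.2)), fun i hi y hy => ?_⟩
        obtain ⟨x, rfl⟩ := (g : MulAut R).surjective y
        have hyx : (((g : MulAut R) x : R) : Ω) = c x := (hce x).symm
        have e1 : ((δ' (μ ((g : MulAut R) x)) : R) : Ω) = c (d x) := by
          rw [hμ, MulAut.mul_apply, MulAut.apply_inv_self, MulAut.mul_apply, MulAut.mul_apply,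
            MulAut.inv_apply_self, ← hce, ← hde]
        have e2 : ((δ' ((g : MulAut R) x) : R) : Ω) = d' (c x) := by rw [hδ'e, hyx]
        rcases i with _ | _ | i
        · rw [hL1, hARdef, Subgroup.mem_subgroupOf] at hy
          rw [hL0, Subgroup.mem_bot]
          rw [inv_mul_eq_one]
          refine δ'.injective (Subtype.ext ?_)
          rw [hyx] at hy
          have hxA : (x : Ω) ∈ T₁ ⊓ T₂ := (mapFn_mem_iff hA hc' x.2).mp hy
          rw [e1, e2, (hfix _ hy).1, (hfix _ hxA).2]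
        · rw [hL1, hARdef, Subgroup.mem_subgroupOf]
          set z := ((g : MulAut R) x)⁻¹ * μ ((g : MulAut R) x)
          have hz : ((δ' z : R) : Ω) ∈ T₁ ⊓ T₂ := by
            rw [map_mul, map_inv, Subgroup.coe_mul, Subgroup.coe_inv, e1, e2]
            exact hkey x x.2
          have hfixz : δ' (δ' z) = δ' z := by
            refine Subtype.ext ?_
            rw [hδ'e]
            exact (hfix _ hz).1
          rwa [δ'.injective hfixz] at hz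
        · omega
      rw [show (MulAut.conj (g : MulAut R)).toMonoidHom δ = δ' * μ by rw [hμ, mul_inv_cancel_left]; rfl]
      exact Subgroup.mul_mem _ (Subgroup.mem_sup_right hδ') (Subgroup.mem_sup_left hμK)
    exact hle ⟨_, hx, rfl⟩
  have hNG : ∀ e ∈ N, (e : MulAut R) ∈ G := fun e he => sup_le hKG hDG he
  obtain ⟨α, hα, hαe⟩ := ha.exists_aut har
  obtain ⟨k, hk, e, he, hke⟩ := exists_mul_of_normal Sy N (⟨α, hα⟩ : F.autGroup R)
  have hkG : (k : MulAut R) ∈ G := by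
    obtain ⟨κ, hκ, hκr, hκe⟩ := exists_mapFn_of_aut hRS k.2
    obtain ⟨φ, hφ, hφe⟩ := hκ
    have hκ' : MapFn F R κ := ⟨φ, hφ, hφe⟩
    have hφr : φ.range = R := SetLike.coe_injective ((MapFn.image_eq_range hφe).symm.trans hκr)
    have hle : normalizerIn U R ≤ extender S R φ := by
      rintro g ⟨hgU, hgN⟩
      obtain ⟨c, hc, hce⟩ := exists_autInducedBy (K := U) hgU hgN
      have hcS : c ∈ autInducedBy S R := autInducedBy_mono hUS R hc
      have hm : (⟨c, autInducedBy_le_autGroup hRS hcS⟩ : F.autGroup R) ∈ Sy.toSubgroup ⊓ N :=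
        ⟨hSy.ge hcS, Subgroup.mem_subgroupOf.mpr (Subgroup.mem_sup_right (autInducedBy_le_autGroup hRU hc))⟩
      obtain ⟨s, hs, hse⟩ := mem_autInducedBy.mp (hSy.le ((Subgroup.mem_normalizer_iff.mp hk _).mp hm).1)
      refine mem_extender.mpr ⟨hUS hgU, hgN, s, hs, fun x hx => ?_⟩
      rw [hφe, hφe, hκe ⟨_, hx⟩, hκe x, ← hse]
      simp [← hce x]
    obtain ⟨ρ, hρ, hρe⟩ := exists_extension hRr hφ hφr (le_normalizerIn hRU) hle
    obtain ⟨r, hr, hre⟩ := mapFn_of_hom hρ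
    have hlt : R < normalizerIn U R :=
      lt_normalizerIn (hS.to_le hUS) le_rfl (lt_of_le_of_ne hRU hne)
    have := finite_of_le (normalizerIn_le.trans hUS : normalizerIn U R ≤ S)
    have hcard : Nat.card R < Nat.card (normalizerIn U R) :=
      lt_of_not_ge fun hge => hlt.ne (eq_of_le_of_card_le hlt.le hge)
    refine ⟨κ, ((IH _ (hAR.trans hlt.le) normalizerIn_le hcard r hr).mono hlt.le).congr fun x hx => ?_,
      hκr, hκe⟩
    rw [← hre ⟨x, hlt.le hx⟩, ← hφe ⟨x, hx⟩]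
    exact hρe ⟨x, hx⟩
  have hαG : α ∈ G := by
    rw [show α = (k : MulAut R) * (e : MulAut R) from congrArg Subtype.val hke]
    exact G.mul_mem hkG (hNG e he)
  obtain ⟨f, hf, -, hfe⟩ := hαG
  exact hf.congr fun x hx => (hfe ⟨x, hx⟩).trans (hαe _)

/-- The Frattini condition for the central product. -/
theorem frattini (hS : IsPGroup p S) (hF : F.IsSaturated p) (hE₁ : E₁.IsInvariantIn F)
    (hE₂ : E₂.IsInvariantIn F) (h : IsCentralProductOf E₁ E₂ D) (hDF : D.IsSubsystemOf F)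
    (hU : F.StronglyClosed U) (hc : ∀ a ∈ T₁, ∀ b ∈ T₂, a * b = b * a)
    (hA₁ : T₁ ⊓ T₂ ≤ E₁.center) (hA₂ : T₁ ⊓ T₂ ≤ E₂.center) {P : Subgroup Ω} {f : Ω → Ω} (hP : P ≤ U)
    (hf : MapFn F P f) : Good F D P f := by
  have hUS := hU.1
  have : Finite U := finite_of_le hUS
  have hA : F.StronglyClosed (T₁ ⊓ T₂) := stronglyClosed_inf hE₁.2.1 hE₂.2.1
  have hAU : T₁ ⊓ T₂ ≤ U := FusionGF.cp_sup h ▸ (inf_le_left.trans le_sup_left)
  have hAn : F.IsNormal (T₁ ⊓ T₂) := FusionExtend.isNormal_of_abelian hS hF hA (by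
    rw [Subgroup.commutator_eq_bot_iff_le_centralizer]
    exact fun x hx => Subgroup.mem_centralizer_iff.mpr fun y hy => hc y hy.1 x hx.2)
  suffices H : ∀ (n : ℕ) (X : Subgroup Ω), Nat.card U - Nat.card X < n → T₁ ⊓ T₂ ≤ X → X ≤ U →
      ∀ f, MapFn F X f → Good F D X f by
    obtain ⟨g, hg, hgP, -⟩ := isNormal_mapFn hAn hf
    exact ((H _ _ (Nat.lt_succ_self _) le_sup_right (sup_le hP hAU) g hg).mono le_sup_left).congr hgP
  intro n
  induction n with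
  | zero => intro X hn; omega
  | succ n ih =>
  intro X hn hAX hXU f hf
  have hfX : ∀ x ∈ X, f x ∈ U := fun x hx => mapFn_mem hU hf hx (hXU hx)
  by_cases hXe : X = U
  · subst hXe
    exact ⟨f, id, hf, hf.image_eq_of_maps hUS hfX le_rfl, mapFn_id le_rfl, fun _ _ => rfl⟩
  obtain ⟨X', -, hX'⟩ := hf.exists_image
  obtain ⟨R, hXR, hRn⟩ := exists_fullyNormalized (F := F) (hXU.trans hUS)
  have hcard : ∀ Y : Subgroup Ω, F.IsConj X Y → Nat.card Y = Nat.card X := fun Y hY => IsConj.card_eq hY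
  -- maps to `R` that are good
  have hstep : ∀ Y : Subgroup Ω, F.IsConj X Y → Y ≤ U → T₁ ⊓ T₂ ≤ Y →
      ∃ h, MapFn F Y h ∧ h '' Y = (R : Set Ω) ∧ Good F D Y h := by
    intro Y hY hYU hAY
    obtain ⟨h, hh, hhr, -⟩ := exists_normalizer_mapFn hS hF hRn (isConj_trans (isConj_symm hY) hXR)
    have hYne : Y ≠ U := fun he => hXe (eq_of_le_of_card_le hXU (by rw [← hcard Y hY, he]))
    have hlt : Y < normalizerIn U Y := lt_normalizerIn (hS.to_le hUS) le_rfl (lt_of_le_of_ne hYU hYne)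
    have := finite_of_le (normalizerIn_le.trans hUS : normalizerIn U Y ≤ S)
    have h1 : Nat.card Y < Nat.card (normalizerIn U Y) :=
      lt_of_not_ge fun hge => hlt.ne (eq_of_le_of_card_le hlt.le hge)
    have h2 : Nat.card (normalizerIn U Y) ≤ Nat.card U := Subgroup.card_le_of_le normalizerIn_le
    have h3 := hcard Y hY
    have hle : normalizerIn U Y ≤ normalizerIn S Y := inf_le_inf_right _ hUS
    refine ⟨h, hh.mono (hlt.le.trans hle), hhr, (ih _ ?_ (hAY.trans hlt.le) normalizerIn_le h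
      (hh.mono hle)).mono hlt.le⟩
    omega
  have hAi : ∀ {Y Z : Subgroup Ω} {g : Ω → Ω}, MapFn F Y g → T₁ ⊓ T₂ ≤ Y → g '' Y = (Z : Set Ω) →
      T₁ ⊓ T₂ ≤ Z := by
    intro Y Z g hg hAY hr z hz
    obtain ⟨y, hy, rfl⟩ := exists_of_image (FusionLayer.image_normal hAn hg hAY) hz
    exact mem_of_image hr (hAY hy)
  have hX'U : X' ≤ U := fun y hy => by
    obtain ⟨x, hx, rfl⟩ := exists_of_image hX' hy; exact hfX x hx
  obtain ⟨h₁, hh₁, hh₁r, hg₁⟩ := hstep X (isConj_refl (hXU.trans hUS)) hXU hAX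
  obtain ⟨h₂, hh₂, hh₂r, hg₂⟩ := hstep X' (hf.isConj hX') hX'U (hAi hf hAX hX')
  obtain ⟨i₁, hi₁, hi₁r, hi₁₁, hi₁₂⟩ := hh₁.exists_inv hh₁r
  obtain ⟨i₂, hi₂, hi₂r, hi₂₁, -⟩ := hh₂.exists_inv hh₂r
  have hRU : R ≤ U := fun y hy => by
    obtain ⟨x, hx, rfl⟩ := exists_of_image hh₁r hy; exact mapFn_mem hU hh₁ hx (hXU hx)
  have hRne : R ≠ U := fun he => hXe (eq_of_le_of_card_le hXU (by rw [← hcard R hXR, he]))
  have ha : MapFn F R (h₂ ∘ f ∘ i₁) :=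
    (hi₁.comp hf fun y hy => mem_of_image hi₁r hy).comp hh₂ fun y hy => mem_of_image hX' (mem_of_image hi₁r hy)
  have har : (h₂ ∘ f ∘ i₁) '' R = (R : Set Ω) := image_comp (image_comp hi₁r hX') hh₂r
  have hga := good_auto hS hF hE₁ hE₂ h hDF hU hc hA₁ hA₂ hRU (hAi hh₁ hAX hh₁r) hRne hRn
    (fun Y hAY hYU hlt g hg => ih Y (by
      have h1 := hcard R hXR
      have h2 : Nat.card Y ≤ Nat.card U := Subgroup.card_le_of_le hYU
      omega) hAY hYU g hg) ha har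
  have hgi₂ : Good F D R i₂ := good_inv hE₁ hE₂ hU h hg₂ hh₂r hi₂₁
  refine (good_comp hE₁ hE₂ hU h (good_comp hE₁ hE₂ hU h hg₁ hga fun x hx => mem_of_image hh₁r hx) hgi₂
    fun x hx => mem_of_image har (mem_of_image hh₁r hx)).congr fun x hx => ?_
  show i₂ (h₂ (f (i₁ (h₁ x)))) = f x
  rw [hi₁₁ x hx, hi₂₁ _ (mem_of_image hX' hx)]

end CfsgLib.FusionProductNormal
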