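import Cfsg.Agent.Lib.Fusion.FunctorSolvable
import Cfsg.Agent.Lib.Fusion.AutomizerSFour
import Cfsg.Agent.S2761

/-!
# `Qd(p)`-free systems, given a functor for the `S₄`-free groups

For odd `p` the functor is `Z(J(-))`; for `p = 2` it is taken as a hypothesis `TwoFunctor`.
-/

set_option autoImplicit false
set_option linter.style.haveILetI false

namespace CfsgLib.Fusion

open Cfsg Cfsg.FusionSystem CfsgLib.LocalEven

universe u

/-- A functor on 2-groups normal in the constrained `S₄`-free groups. -/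
def TwoFunctor : Prop :=
  ∃ W : ∀ (Q : Type u) [Group Q], Subgroup Q,
    (∀ (Q : Type u) [Group Q] [Finite Q], IsPGroup 2 Q → Nontrivial Q → W Q ≠ ⊥) ∧
    (∀ (Q R : Type u) [Group Q] [Group R] [Finite Q], IsPGroup 2 Q → ∀ φ : Q ≃* R,
      (W Q).map φ.toMonoidHom = W R) ∧
    (∀ (L : Type u) [Group L] [Finite L] (T : Sylow 2 L),
      Subgroup.centralizer ((pCore 2 L : Subgroup L) : Set L) ≤ pCore 2 L →
      ¬ Involves (Equiv.Perm (Fin 4)) L → (charSub W (T : Subgroup L)).Normal)

theorem involves_congr {L : Type*} [Group L] {A B : Type*} [Group A] [Group B] (e : A ≃* B)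
    (h : Involves A L) : Involves B L :=
  let ⟨K, f, hf⟩ := Involved.exists_hom_of_involves h
  Involved.involves_of_hom K (e.toMonoidHom.comp f) (e.surjective.comp hf)

variable {p : ℕ} [Fact p.Prime]

/-- The functor for the `Qd(p)`-free groups. -/
theorem exists_qdFree_functor (h2 : TwoFunctor.{u}) :
    ∃ W : ∀ (Q : Type u) [Group Q], Subgroup Q,
      (∀ (Q : Type u) [Group Q] [Finite Q], IsPGroup p Q → Nontrivial Q → W Q ≠ ⊥) ∧
      (∀ (Q R : Type u) [Group Q] [Group R] [Finite Q], IsPGroup p Q → ∀ φ : Q ≃* R,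
        (W Q).map φ.toMonoidHom = W R) ∧
      (∀ (L : Type u) [Group L] [Finite L] (T : Sylow p L),
        Subgroup.centralizer ((pCore p L : Subgroup L) : Set L) ≤ pCore p L →
        ¬ Involves ↥(qd p) L → (charSub W (T : Subgroup L)).Normal) := by
  by_cases hp : p = 2
  · subst hp
    obtain ⟨W, h1, h2', h3⟩ := h2
    obtain ⟨e⟩ := Cfsg.Agent.S2761.result
    exact ⟨W, h1, h2', fun L _ _ T hc hf => h3 L T hc fun h => hf (involves_congr e.symm h)⟩
  · exact ⟨zjW, fun Q _ _ => zjW_ne_bot Q, fun Q R _ _ _ _ => zjW_equiv Q R, zjW_normal_of_qdFree hp⟩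

variable {Ω : Type u} [Group Ω] {S : Subgroup Ω} [Finite S]

/-- A nontrivial characteristic subgroup normal in the system. -/
theorem exists_normal_of_qdFree (h2 : TwoFunctor.{u}) (hS : IsPGroup p S) (hS1 : S ≠ ⊥)
    (F : FusionSystem S) (hF : F.IsSaturated p)
    (hfree : CentricFree F p (fun (L : Type u) [Group L] => ¬ Involves ↥(qd p) L)) :
    ∃ W : Subgroup Ω, W ≤ S ∧ W ≠ ⊥ ∧ (W.subgroupOf S).Characteristic ∧ F.IsNormal W := by
  obtain ⟨W, hW1, hW2, hW3⟩ := exists_qdFree_functor (p := p) h2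
  refine ⟨charSub W S, charSub_le S, charSub_ne_bot hW1 hS hS1, ?_,
    isNormal_charSub sectionClosed_not_involves hW1 hW2 hW3 hS hF hfree⟩
  rw [charSub_subgroupOf, Subgroup.characteristic_iff_map_eq]
  exact fun φ => hW2 _ _ hS φ

/-- A `Qd(p)`-free system is realizable and solvable. -/
theorem realizable_solvable_of_qdFree (h2 : TwoFunctor.{u}) (hS : IsPGroup p S)
    (F : FusionSystem S) (hF : F.IsSaturated p)
    (hfree : CentricFree F p (fun (L : Type u) [Group L] => ¬ Involves ↥(qd p) L)) :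
    F.IsRealizable p ∧ F.IsSolvableSystem := by
  obtain ⟨W, hW1, hW2, hW3⟩ := exists_qdFree_functor (p := p) h2
  exact realizable_solvable_of_functor sectionClosed_not_involves hW1 hW2 hW3 hS F hF hfree

omit p [Fact p.Prime] in
/-- A system whose automizers have no section `S₃` is constrained. -/
theorem isConstrained_of_sThreeFree (h2 : TwoFunctor.{u}) (hS : IsPGroup 2 S) (F : FusionSystem S)
    (hF : F.IsSaturated 2)
    (h3 : ∀ U : Subgroup Ω, U ≤ S → ¬ Involves (Equiv.Perm (Fin 3)) ↥(F.autGroup U)) :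
    F.IsConstrained 2 := by
  haveI : Fact (Nat.Prime 2) := ⟨Nat.prime_two⟩
  obtain ⟨W, hW1, hW2, hW3⟩ := h2
  exact CfsgLib.FusionSolvable.isConstrained_of_isSolvable hS hF
    (CfsgLib.FusionSolvable.isSolvable_of_hasSeries hS hF
      (hasSeries_of_functor sectionClosed_not_involves hW1 hW2 hW3 hS F hF
        (centricFree_of_autGroup_sThreeFree h3)))

omit p [Fact p.Prime] in
/-- One characteristic subgroup normal in all `S₄`-free systems on a 2-group. -/
theorem exists_char_normal_systems (h2 : TwoFunctor.{u}) (hS : IsPGroup 2 S) (hS1 : S ≠ ⊥) :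
    ∃ W : Subgroup Ω, W ≤ S ∧ W ≠ ⊥ ∧ (W.subgroupOf S).Characteristic ∧
      ∀ F : FusionSystem S, F.IsSaturated 2 → F.IsSectionFree 2 (Equiv.Perm (Fin 4)) → F.IsNormal W := by
  haveI : Fact (Nat.Prime 2) := ⟨Nat.prime_two⟩
  obtain ⟨W, hW1, hW2, hW3⟩ := h2
  refine ⟨charSub W S, charSub_le S, charSub_ne_bot hW1 hS hS1, ?_,
    fun F hF hfree => isNormal_charSub sectionClosed_not_involves hW1 hW2 hW3 hS hF hfree⟩
  rw [charSub_subgroupOf, Subgroup.characteristic_iff_map_eq]
  exact fun φ => hW2 _ _ hS φ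

omit p [Fact p.Prime] in
/-- One characteristic subgroup normal in all constrained `S₄`-free groups over a 2-group. -/
theorem exists_char_normal_groups (h2 : TwoFunctor.{u}) {T : Type u} [Group T] [Finite T] [Nontrivial T]
    (hT : IsPGroup 2 T) :
    ∃ W : Subgroup T, W ≠ ⊥ ∧ W.Characteristic ∧ ∀ (G : Type u) [Group G] [Finite G] (τ : T →* G),
      Function.Injective τ → (∃ P : Sylow 2 G, (P : Subgroup G) = τ.range) →
      (¬ ∃ (K R : Subgroup G) (_ : (R.subgroupOf K).Normal),
        Nonempty ((K ⧸ R.subgroupOf K) ≃* Equiv.Perm (Fin 4))) →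
      Subgroup.centralizer (pCore 2 G : Set G) ≤ pCore 2 G → (W.map τ).Normal := by
  obtain ⟨W, hW1, hW2, hW3⟩ := h2
  refine ⟨W T, hW1 T hT inferInstance, ?_, fun G _ _ τ hτ hP hfree hc => ?_⟩
  · rw [Subgroup.characteristic_iff_map_eq]
    exact fun φ => hW2 _ _ hT φ
  obtain ⟨P, hP⟩ := hP
  have h := hW3 G P hc hfree
  rw [hP] at h
  convert h using 1
  have e := hW2 T τ.range hT (MonoidHom.ofInjective hτ)
  show (W T).map τ = (W τ.range).map τ.range.subtype
  rw [← e, Subgroup.map_map]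
  exact congrArg (Subgroup.map · (W T)) (MonoidHom.ext fun _ => rfl)

end CfsgLib.Fusion
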