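import Cfsg.Agent.Lib.Fusion.LocalQuotient
import Cfsg.Agent.Lib.FusionNormal.PSolvableModel
import Cfsg.Agent.Lib.PLocal.QdSection
import Cfsg.Agent.Lib.LocalEven.Qd
import Cfsg.Agent.Lib.LocalEven.InvolvesFour
import Cfsg.Prelude.Def_FusionReduction

/-!
# `Qd(p)`-free fusion systems of groups

Models of normalizer systems of centric subgroups in a group system, and the descent of a section
`Qd(p)` of a group to the normalizer of a centric subgroup.
-/

set_option autoImplicit false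
set_option linter.style.haveILetI false
set_option linter.unusedSectionVars false

open scoped MatrixGroups

namespace CfsgLib.Fusion.QdFree

open Cfsg Cfsg.FusionSystem Subgroup CfsgLib.LocalEven Matrix

universe u

variable {p : ℕ} [hp : Fact p.Prime]

/-- Conjugation acts on the translations through the block. -/
theorem shift_conj {t : ↥(Cfsg.qdOver (ZMod p))} (ht : t ∈ (MonoidHom.ker (Qd.block (F := ZMod p)))) (z : ↥(Cfsg.qdOver (ZMod p))) :
    Qd.shift (z * t * z⁻¹) = ((Qd.block (F := ZMod p)) z).1 *ᵥ Qd.shift t := by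
  have hm : z * t * z⁻¹ ∈ (MonoidHom.ker (Qd.block (F := ZMod p))) := (inferInstance : ((MonoidHom.ker (Qd.block (F := ZMod p)))).Normal).conj_mem t ht z
  have h1 : z * t * z⁻¹ * z = z * t := by group
  have h2 := congrArg Qd.shift h1
  rw [Qd.shift_mul_ker hm, Qd.shift_mul z t, add_comm] at h2
  exact add_right_cancel h2

/-- The translations are their own centralizer. -/
theorem mem_ker_of_commute {z : ↥(Cfsg.qdOver (ZMod p))} (h : ∀ t ∈ (MonoidHom.ker (Qd.block (F := ZMod p))), z * t * z⁻¹ = t) : z ∈ (MonoidHom.ker (Qd.block (F := ZMod p))) := by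
  rw [MonoidHom.mem_ker]
  apply Subtype.ext
  apply Matrix.ext_of_mulVec_single
  intro i
  have ht : Qd.mkQd (1 : SL(2, ZMod p)) (Pi.single i 1) ∈ (MonoidHom.ker (Qd.block (F := ZMod p))) := by
    rw [MonoidHom.mem_ker, Qd.block_mkQd]
  have h1 := shift_conj ht z
  rw [h _ ht, Qd.shift_mkQd] at h1
  rw [Matrix.SpecialLinearGroup.coe_one, Matrix.one_mulVec]
  exact h1.symm

/-- `Qd(p)` has no normal subgroup of order prime to `p` other than the trivial one. -/
theorem eq_bot_of_normal_coprime {N : Subgroup ↥(Cfsg.qdOver (ZMod p))} [N.Normal] (hN : (Nat.card N).Coprime p) :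
    N = ⊥ := by
  have hinf : (MonoidHom.ker (Qd.block (F := ZMod p))) ⊓ N = ⊥ :=
    CfsgLib.PCore.inf_eq_bot_of_isPGroup_coprime (Qd.isPGroup_ker_block (p := p)) hN
  rw [eq_bot_iff]
  intro z hz
  rw [← hinf]
  refine ⟨mem_ker_of_commute fun t ht => ?_, hz⟩
  have h1 : z * t * z⁻¹ * t⁻¹ ∈ (MonoidHom.ker (Qd.block (F := ZMod p))) ⊓ N := by
    refine mem_inf.2 ⟨mul_mem ((inferInstance : ((MonoidHom.ker (Qd.block (F := ZMod p)))).Normal).conj_mem t ht z) (Subgroup.inv_mem _ ht), ?_⟩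
    rw [show z * t * z⁻¹ * t⁻¹ = z * (t * z⁻¹ * t⁻¹) by group]
    exact mul_mem hz ((inferInstance : N.Normal).conj_mem z⁻¹ (Subgroup.inv_mem _ hz) t)
  rw [hinf, mem_bot] at h1
  exact mul_inv_eq_one.1 h1

variable {G : Type u} [Group G] [Finite G]

/-- A section `Qd(p)` survives the quotient by a normal subgroup of order prime to `p`. -/
theorem involves_quotient_of_coprime (K : Subgroup G) [K.Normal] (hK : (Nat.card K).Coprime p)
    (h : Involves ↥(Cfsg.qd p) G) : Involves ↥(Cfsg.qd p) (G ⧸ K) := by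
  obtain ⟨H, f, hf⟩ := Involved.exists_hom_of_involves h
  let f' : ↥H →* ↥(Cfsg.qdOver (ZMod p)) := f
  refine Involved.involves_of_factor ((QuotientGroup.mk' K).comp H.subtype) f hf ?_
  set k := ((QuotientGroup.mk' K).comp H.subtype).ker with hk
  have hke : k = K.subgroupOf H := by
    rw [hk, ← MonoidHom.comap_ker, QuotientGroup.ker_mk']
    rfl
  haveI : k.Normal := hke ▸ (inferInstance : (K.subgroupOf H).Normal)
  haveI : (k.map f').Normal := (inferInstance : k.Normal).map f' hf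
  have hcop : (Nat.card (k.map f' : Subgroup ↥(Cfsg.qdOver (ZMod p)))).Coprime p := by
    refine Nat.Coprime.coprime_dvd_left (card_map_dvd k f') ?_
    rw [hke]
    exact Nat.Coprime.coprime_dvd_left (card_comap_dvd_of_injective K H.subtype H.subtype_injective) hK
  have hbot := eq_bot_of_normal_coprime hcop
  intro x hx
  have h1 : f' x ∈ k.map f' := mem_map_of_mem f' hx
  rw [hbot, mem_bot] at h1
  exact h1

/-- A group with a section `Qd(p)` has a subgroup `H` mapping onto `Qd(p)` with a normal `p`-subgroup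
`R` mapping onto the translations. -/
theorem exists_minimal_cover (h : Involves ↥(Cfsg.qd p) G) :
    ∃ (H : Subgroup G) (f : ↥H →* ↥(Cfsg.qdOver (ZMod p))) (R : Subgroup ↥H), Function.Surjective f ∧ R.Normal ∧
      IsPGroup p R ∧ R.map f = (MonoidHom.ker (Qd.block (F := ZMod p))) := by
  classical
  have hex : ∃ n, ∃ (H : Subgroup G) (f : ↥H →* ↥(Cfsg.qdOver (ZMod p))), Function.Surjective f ∧ Nat.card H = n := by
    obtain ⟨H, f, hf⟩ := Involved.exists_hom_of_involves h
    exact ⟨_, H, f, hf, rfl⟩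
  obtain ⟨H, f, hf, hcard⟩ := Nat.find_spec hex
  set W := ((MonoidHom.ker (Qd.block (F := ZMod p)))).comap f with hW
  haveI : W.Normal := (inferInstance : ((MonoidHom.ker (Qd.block (F := ZMod p)))).Normal).comap f
  obtain ⟨R1⟩ : Nonempty (Sylow p W) := Sylow.nonempty
  set R := (R1 : Subgroup W).map W.subtype with hR
  have hRf : R.map f = (MonoidHom.ker (Qd.block (F := ZMod p))) := by
    set q := f.subgroupComap (MonoidHom.ker (Qd.block (F := ZMod p))) with hq
    have hqs : Function.Surjective q := f.subgroupComap_surjective_of_surjective _ hf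
    have htop : ((R1.mapSurjective hqs : Sylow p _) : Subgroup ↥(MonoidHom.ker (Qd.block (F := ZMod p)))) = ⊤ :=
      ((R1.mapSurjective hqs).3 (by
        intro x
        obtain ⟨k, hk⟩ := Qd.isPGroup_ker_block (p := p) (x : ↥(MonoidHom.ker (Qd.block (F := ZMod p))))
        exact ⟨k, Subtype.ext hk⟩) le_top).symm
    refine le_antisymm ?_ fun t ht => ?_
    · rintro _ ⟨_, ⟨w, -, rfl⟩, rfl⟩
      exact w.2
    · have : (⟨t, ht⟩ : ↥(MonoidHom.ker (Qd.block (F := ZMod p)))) ∈
          ((R1.mapSurjective hqs : Sylow p _) : Subgroup ↥(MonoidHom.ker (Qd.block (F := ZMod p)))) := by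
        rw [htop]; trivial
      obtain ⟨w, hw, hwe⟩ := this
      exact ⟨w, ⟨w, hw, rfl⟩, congrArg Subtype.val hwe⟩
  refine ⟨H, f, R, hf, ?_, R1.2.map _, hRf⟩
  · rw [← normalizer_eq_top_iff]
    have hsup : normalizer (R : Set H) ⊔ W = ⊤ := Sylow.normalizer_sup_eq_top R1
    set N := normalizer (R : Set H) with hN
    have hmap : N.map f = ⊤ := by
      have h1 := congrArg (Subgroup.map f) hsup
      rw [Subgroup.map_sup, map_top_of_surjective f hf] at h1
      rwa [sup_eq_left.2 ((map_comap_le f _).trans (hRf ▸ Subgroup.map_mono le_normalizer))] at h1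
    by_contra hne
    have hlt : Nat.card N < Nat.card H := lt_of_le_of_ne (card_le_card_group N) fun he =>
      hne (N.eq_top_of_card_eq he)
    have hfN : Function.Surjective (f.comp N.subtype) := fun y => by
      obtain ⟨x, hx, rfl⟩ := (hmap.ge (mem_top y) : y ∈ N.map f)
      exact ⟨⟨x, hx⟩, rfl⟩
    let e := N.equivMapOfInjective H.subtype H.subtype_injective
    exact Nat.find_min hex (hcard ▸ hlt) ⟨N.map H.subtype, (f.comp N.subtype).comp e.symm.toMonoidHom,
      hfN.comp e.symm.surjective, card_map_of_injective H.subtype_injective⟩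

/-- The section `Qd(p)` moves to the normalizer of `R T`, `T` a Sylow subgroup of `C_G(R)`. -/
theorem involves_normalizer_sup (hp2 : p ≠ 2) {H : Subgroup G} {f : ↥H →* ↥(Cfsg.qdOver (ZMod p))}
    (hf : Function.Surjective f) {R : Subgroup ↥H} (hRn : R.Normal) (hRf : R.map f = (MonoidHom.ker (Qd.block (F := ZMod p))))
    {T : Subgroup G} (hTC : T ≤ centralizer ((R.map H.subtype : Subgroup G) : Set G))
    (hTp : IsPGroup p T)
    (hTcard : Nat.card T =
      p ^ (Nat.card (centralizer ((R.map H.subtype : Subgroup G) : Set G))).factorization p) :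
    Involves ↥(Cfsg.qd p) ↥(normalizer ((R.map H.subtype ⊔ T : Subgroup G) : Set G)) := by
  classical
  set R₀ := R.map H.subtype with hR₀
  set C := centralizer (R₀ : Set G) with hC
  have hhR : ∀ (h : ↥H) (r : G), r ∈ R₀ → (h : G) * r * (h : G)⁻¹ ∈ R₀ := by
    rintro h _ ⟨r, hr, rfl⟩
    exact ⟨h * r * h⁻¹, hRn.conj_mem r hr h, rfl⟩
  have huniq : ∀ h h' : ↥H, (∀ r ∈ R₀, (h : G) * r * (h : G)⁻¹ = h' * r * (h' : G)⁻¹) →
      (Qd.block (F := ZMod p)) (f h) = (Qd.block (F := ZMod p)) (f h') := by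
    intro h h' he
    have hk : f (h⁻¹ * h') ∈ (MonoidHom.ker (Qd.block (F := ZMod p))) := by
      refine mem_ker_of_commute fun t ht => ?_
      rw [← hRf] at ht
      obtain ⟨r, hr, rfl⟩ := ht
      rw [← map_inv, ← map_mul, ← map_mul]
      refine congrArg f (Subtype.ext ?_)
      show (h : G)⁻¹ * h' * r * ((h : G)⁻¹ * h')⁻¹ = r
      calc (h : G)⁻¹ * h' * r * ((h : G)⁻¹ * h')⁻¹ = (h : G)⁻¹ * (h' * r * (h' : G)⁻¹) * h := by group
        _ = (h : G)⁻¹ * (h * r * (h : G)⁻¹) * h := by rw [he (r : G) ⟨r, hr, rfl⟩]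
        _ = r := by group
    rw [MonoidHom.mem_ker, map_mul, map_mul, map_inv, map_inv, inv_mul_eq_one] at hk
    exact hk
  let L : Subgroup G :=
    { carrier := {m | m ∈ normalizer (T : Set G) ∧
        ∃ h : ↥H, ∀ r ∈ R₀, m * r * m⁻¹ = (h : G) * r * (h : G)⁻¹}
      one_mem' := ⟨one_mem _, 1, fun r _ => by simp⟩
      mul_mem' := by
        rintro a b ⟨haT, h, ha⟩ ⟨hbT, k, hb⟩
        refine ⟨mul_mem haT hbT, h * k, fun r hr => ?_⟩
        calc a * b * r * (a * b)⁻¹ = a * (b * r * b⁻¹) * a⁻¹ := by group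
          _ = (h : G) * ((k : G) * r * (k : G)⁻¹) * (h : G)⁻¹ := by
            rw [hb r hr, ha _ (hhR k r hr)]
          _ = ((h * k : ↥H) : G) * r * ((h * k : ↥H) : G)⁻¹ := by rw [Subgroup.coe_mul]; group
      inv_mem' := by
        rintro a ⟨haT, h, ha⟩
        refine ⟨Subgroup.inv_mem _ haT, h⁻¹, fun r hr => ?_⟩
        have h1 := ha _ (hhR h⁻¹ r hr)
        rw [Subgroup.coe_inv, inv_inv] at h1
        rw [Subgroup.coe_inv]
        calc a⁻¹ * r * a⁻¹⁻¹ = a⁻¹ * ((h : G) * ((h : G)⁻¹ * r * h) * (h : G)⁻¹) * a := by group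
          _ = a⁻¹ * (a * ((h : G)⁻¹ * r * h) * a⁻¹) * a := by rw [h1]
          _ = (h : G)⁻¹ * r * (h : G)⁻¹⁻¹ := by group }
  have hLN : L ≤ normalizer ((R₀ ⊔ T : Subgroup G) : Set G) := by
    rintro m ⟨hmT, h, hm⟩
    have hmR : m ∈ normalizer (R₀ : Set G) := mem_normalizer_fintype fun r hr => by
      rw [SetLike.mem_coe, hm r hr]; exact hhR h r hr
    rw [mem_normalizer_iff_map_conj_eq] at hmT hmR ⊢
    rw [Subgroup.map_sup]
    erw [hmT, hmR]
  have hRL : R₀ ≤ L := by
    rintro _ ⟨r, hr, rfl⟩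
    refine ⟨mem_normalizer_fintype fun t ht => ?_, r, fun _ _ => rfl⟩
    rw [SetLike.mem_coe] at ht ⊢
    rw [mem_centralizer_iff.1 (hTC ht) (H.subtype r) ⟨r, hr, rfl⟩, mul_inv_cancel_right]
    exact ht
  -- every element of `H` is induced by an element of `L`
  have hlift : ∀ h : ↥H, ∃ m ∈ L, ∀ r ∈ R₀, m * r * m⁻¹ = (h : G) * r * (h : G)⁻¹ := by
    intro h
    obtain ⟨c, hc, hcT⟩ := exists_conj_into
      (X := T.map (MulAut.conj (h : G)).toMonoidHom) (Y := T) (K := C) (by
        rintro _ ⟨t, ht, rfl⟩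
        refine mem_centralizer_iff.2 fun r hr => ?_
        have h1 := mem_centralizer_iff.1 (hTC ht) _ (hhR h⁻¹ r hr)
        show r * ((h : G) * t * (h : G)⁻¹) = (h : G) * t * (h : G)⁻¹ * r
        calc r * ((h : G) * t * (h : G)⁻¹)
            = (h : G) * (((h⁻¹ : ↥H) : G) * r * ((h⁻¹ : ↥H) : G)⁻¹ * t) * (h : G)⁻¹ := by
              rw [Subgroup.coe_inv]; group
          _ = (h : G) * t * (h : G)⁻¹ * r := by rw [h1, Subgroup.coe_inv]; group)
      (hTp.map _) hTC hTcard
    have hmr : ∀ r ∈ R₀, c * h * r * (c * (h : G))⁻¹ = (h : G) * r * (h : G)⁻¹ := by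
      intro r hr
      have h1 := mem_centralizer_iff.1 hc _ (hhR h r hr)
      calc c * h * r * (c * (h : G))⁻¹ = c * ((h : G) * r * (h : G)⁻¹) * c⁻¹ := by group
        _ = _ := by rw [← h1, mul_inv_cancel_right]
    refine ⟨c * h, ⟨mem_normalizer_fintype fun t ht => ?_, h, hmr⟩, hmr⟩
    rw [SetLike.mem_coe] at ht ⊢
    have h1 := hcT _ (mem_map_of_mem (MulAut.conj (h : G)).toMonoidHom ht)
    have e : c * (h : G) * t * (c * (h : G))⁻¹ = c * ((h : G) * t * (h : G)⁻¹) * c⁻¹ := by group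
    rw [e]; exact h1
  choose σ hσ using fun m : L => m.2.2
  let θ₀ : L →* SL(2, ZMod p) := MonoidHom.mk' (fun m => (Qd.block (F := ZMod p)) (f (σ m))) fun m n => by
    rw [← map_mul, ← map_mul]
    refine huniq _ _ fun r hr => ?_
    rw [← hσ (m * n) r hr, Subgroup.coe_mul, Subgroup.coe_mul]
    calc (m : G) * n * r * ((m : G) * n)⁻¹ = (m : G) * ((n : G) * r * (n : G)⁻¹) * (m : G)⁻¹ := by group
      _ = (σ m : G) * ((σ n : G) * r * (σ n : G)⁻¹) * (σ m : G)⁻¹ := by
        rw [hσ n r hr, hσ m _ (hhR (σ n) r hr)]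
      _ = _ := by group
  have hθR : ∀ (r : ↥H) (hr : r ∈ R), θ₀ ⟨r, hRL ⟨r, hr, rfl⟩⟩ = (Qd.block (F := ZMod p)) (f r) := fun r hr =>
    huniq _ _ fun s hs => (hσ _ s hs).symm
  have hθs : Function.Surjective θ₀ := by
    intro A
    obtain ⟨y, rfl⟩ := Qd.block_surjective (F := ZMod p) A
    obtain ⟨h, rfl⟩ := hf y
    obtain ⟨m, hm, hme⟩ := hlift h
    exact ⟨⟨m, hm⟩, huniq _ _ fun s hs => ((hσ _ s hs).symm.trans (hme s hs))⟩
  set U := ((R ⊓ f.ker).map H.subtype).subgroupOf L with hU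
  haveI hUn : U.Normal := by
    refine ⟨fun u hu m => ?_⟩
    rw [hU, mem_subgroupOf] at hu ⊢
    obtain ⟨r, hr, hre⟩ := hu
    refine ⟨σ m * r * (σ m)⁻¹,
      ⟨hRn.conj_mem r hr.1 _, (MonoidHom.normal_ker f).conj_mem r hr.2 _⟩, ?_⟩
    show (σ m : G) * (r : G) * (σ m : G)⁻¹ = (m : G) * (u : G) * (m : G)⁻¹
    rw [← hre]
    exact (hσ m _ ⟨r, hr.1, rfl⟩).symm
  have hUk : U ≤ θ₀.ker := by
    intro u hu
    obtain ⟨r, hr, hre⟩ := (mem_subgroupOf.1 hu : (u : G) ∈ (R ⊓ f.ker).map H.subtype)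
    have hu' : u = ⟨r, hRL ⟨r, hr.1, rfl⟩⟩ := Subtype.ext hre.symm
    rw [MonoidHom.mem_ker, hu', hθR r hr.1, MonoidHom.mem_ker.1 hr.2, map_one]
  let θX : L ⧸ U →* SL(2, ZMod p) := QuotientGroup.lift U θ₀ hUk
  have hθX : Function.Surjective θX := fun A => by
    obtain ⟨m, rfl⟩ := hθs A
    exact ⟨QuotientGroup.mk m, rfl⟩
  have hρ : ∀ v : Fin 2 → ZMod p, ∃ r ∈ R, f r = Qd.mkQd 1 v := fun v => by
    have h1 : Qd.mkQd (1 : SL(2, ZMod p)) v ∈ R.map f := by
      rw [hRf, MonoidHom.mem_ker, Qd.block_mkQd]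
    obtain ⟨r, hr, e⟩ := h1
    exact ⟨r, hr, e⟩
  choose ρ hρR hρf using hρ
  have hmkadd : ∀ v w : Fin 2 → ZMod p,
      Qd.mkQd (1 : SL(2, ZMod p)) (v + w) = Qd.mkQd 1 v * Qd.mkQd 1 w := by
    intro v w
    refine Qd.ext_block_shift (by simp) ?_
    rw [Qd.shift_mul]
    simp [add_comm]
  have hmkeq : ∀ (r s : ↥H) (hr : r ∈ R) (hs : s ∈ R), f r = f s →
      (QuotientGroup.mk (⟨r, hRL ⟨r, hr, rfl⟩⟩ : L) : L ⧸ U) =
        QuotientGroup.mk (⟨s, hRL ⟨s, hs, rfl⟩⟩ : L) := fun r s hr hs he => by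
    refine QuotientGroup.eq.2 ?_
    rw [hU, mem_subgroupOf]
    exact ⟨r⁻¹ * s, mem_inf.2 ⟨mul_mem (Subgroup.inv_mem _ hr) hs, by
      rw [MonoidHom.mem_ker, map_mul, map_inv, he, inv_mul_cancel]⟩, rfl⟩
  let j : Multiplicative (Fin 2 → ZMod p) →* L ⧸ U :=
    MonoidHom.mk' (fun z => QuotientGroup.mk
      (⟨ρ (Multiplicative.toAdd z), hRL ⟨_, hρR _, rfl⟩⟩ : L)) fun z w =>
      hmkeq _ (ρ (Multiplicative.toAdd z) * ρ (Multiplicative.toAdd w)) (hρR _)
        (mul_mem (hρR _) (hρR _)) (by rw [map_mul f, hρf, hρf, hρf, toAdd_mul, hmkadd])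
  have hj : Function.Injective j := by
    intro z w hzw
    have h1 := QuotientGroup.eq.1 hzw
    rw [hU, mem_subgroupOf] at h1
    obtain ⟨r, hr, hre⟩ := h1
    have h2 : r = (ρ (Multiplicative.toAdd z))⁻¹ * ρ (Multiplicative.toAdd w) := Subtype.ext hre
    have h3 := MonoidHom.mem_ker.1 hr.2
    rw [h2, map_mul, map_inv, hρf, hρf, inv_mul_eq_one] at h3
    have h4 := congrArg Qd.shift h3
    rw [Qd.shift_mkQd, Qd.shift_mkQd] at h4
    exact Multiplicative.toAdd.injective h4
  obtain ⟨M, g, hg⟩ := CfsgLib.PLocal.exists_qd_section hp2 θX hθX j hj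
    (fun z => by
      show θ₀ ⟨ρ (Multiplicative.toAdd z), _⟩ = 1
      rw [hθR _ (hρR _), hρf, Qd.block_mkQd])
    (fun x z => by
      obtain ⟨m, rfl⟩ := QuotientGroup.mk_surjective x
      set r := ρ (Multiplicative.toAdd z) with hr
      set w := Multiplicative.toAdd (CfsgLib.PLocal.natAut (θX (m : L ⧸ U)) z) with hw
      have hfe : f (σ m * r * (σ m)⁻¹) = f (ρ w) := by
        rw [hρf, map_mul, map_mul, map_inv, hρf]
        refine Qd.ext_block_shift ?_ ?_
        · simp
        · rw [shift_conj (by rw [MonoidHom.mem_ker, Qd.block_mkQd]), Qd.shift_mkQd, Qd.shift_mkQd]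
          rfl
      refine Eq.trans ?_ (hmkeq _ _ (hRn.conj_mem r (hρR _) (σ m)) (hρR w) hfe)
      show (QuotientGroup.mk (m * ⟨r, _⟩ * m⁻¹ : L) : L ⧸ U) = _
      refine congrArg QuotientGroup.mk (Subtype.ext ?_)
      exact hσ m _ ⟨r, hρR _, rfl⟩)
  have hL := Involved.involves_of_surjective (QuotientGroup.mk' U) (QuotientGroup.mk'_surjective U)
    (Involved.involves_of_hom M g hg)
  exact Involved.involves_of_subgroup (H := L.subgroupOf _)
    (Involved.involves_of_surjective (subgroupOfEquivOfLe hLN).toMonoidHom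
      (subgroupOfEquivOfLe hLN).surjective hL)

/-- A `p`-element centralizing `R T`, `T` a Sylow subgroup of `C_G(R)`, lies in `R T`. -/
theorem mem_sup_of_centralizes {R T : Subgroup G} (hTC : T ≤ centralizer (R : Set G))
    (hTp : IsPGroup p T)
    (hTcard : Nat.card T = p ^ (Nat.card (centralizer (R : Set G))).factorization p)
    {x : G} (hx : IsPGroup p (zpowers x))
    (hc : x ∈ centralizer ((R ⊔ T : Subgroup G) : Set G)) : x ∈ R ⊔ T := by
  have hxT : zpowers x ≤ normalizer (T : Set G) := (zpowers_le.2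
    (centralizer_le (SetLike.coe_subset_coe.2 le_sup_right) hc)).trans
      (centralizer_le_normalizer _)
  have hX : IsPGroup p (zpowers x ⊔ T : Subgroup G) := IsPGroup.to_sup_of_normal_right' hx hTp hxT
  have hXC : zpowers x ⊔ T ≤ centralizer (R : Set G) :=
    sup_le (zpowers_le.2 (centralizer_le (SetLike.coe_subset_coe.2 le_sup_left) hc)) hTC
  have hle := card_le_sylowCard hXC hX
  rw [← hTcard] at hle
  have he := Subgroup.eq_of_le_of_card_ge (le_sup_right : T ≤ zpowers x ⊔ T) hle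
  exact mem_sup_right (he.ge (mem_sup_left (mem_zpowers x)))

/-- A group with a section `Qd(p)` has one in the normalizer of a fully normalized centric
subgroup. -/
theorem exists_centric_involves (hp2 : p ≠ 2) (P : Sylow p G) (h : Involves ↥(Cfsg.qd p) G) :
    ∃ Q : Subgroup G, (groupFusionSystem (P : Subgroup G)).IsFullyNormalized Q ∧
      (groupFusionSystem (P : Subgroup G)).IsCentric Q ∧
      Involves ↥(Cfsg.qd p) ↥(normalizer (Q : Set G)) := by
  obtain ⟨H, f, R, hf, hRn, hRp, hRf⟩ := exists_minimal_cover h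
  set R₀ := R.map H.subtype with hR₀
  set C := centralizer (R₀ : Set G) with hC
  obtain ⟨T₁⟩ : Nonempty (Sylow p C) := Sylow.nonempty
  set T := (T₁ : Subgroup C).map C.subtype with hT
  have hTC : T ≤ C := map_subtype_le _
  have hTp : IsPGroup p T := T₁.2.map _
  have hTcard : Nat.card T = p ^ (Nat.card C).factorization p := by
    rw [hT, card_map_of_injective C.subtype_injective]
    exact T₁.card_eq_multiplicity
  set Q₀ := R₀ ⊔ T with hQ₀
  have hQp : IsPGroup p Q₀ := IsPGroup.to_sup_of_normal_right' (hRp.map _) hTp fun r hr =>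
    centralizer_le_normalizer _ (mem_centralizer_iff.2 fun t ht =>
      (mem_centralizer_iff.1 (hTC ht) r hr).symm)
  have hinv := involves_normalizer_sup hp2 hf hRn hRf hTC hTp hTcard
  obtain ⟨S', hS'⟩ := hQp.exists_le_sylow
  obtain ⟨u, hu⟩ := MulAction.exists_smul_eq G S' P
  have hQP : Q₀.map (MulAut.conj u).toMonoidHom ≤ (P : Subgroup G) := by
    rw [← hu, Sylow.coe_subgroup_smul, Subgroup.pointwise_smul_def]
    exact Subgroup.map_mono hS'
  obtain ⟨v, hvP, hvN⟩ := exists_conj_normalizerSylow hQP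
  set e := MulAut.conj (v * u) with he
  have heq : (Q₀.map (MulAut.conj u).toMonoidHom).map (MulAut.conj v).toMonoidHom =
      Q₀.map e.toMonoidHom := by
    rw [Subgroup.map_map]
    congr 1
    ext x
    simp [he, mul_assoc]
  rw [heq] at hvP hvN
  refine ⟨Q₀.map e.toMonoidHom, (group_fullyNormalized_iff hvP).2 hvN, ⟨hvP, ?_⟩, ?_⟩
  · intro X hX
    obtain ⟨-, -, w, rfl⟩ := group_isConj_iff.1 hX
    have hQw : (Q₀.map e.toMonoidHom).map (MulAut.conj w).toMonoidHom =
        Q₀.map (MulAut.conj (w * (v * u))).toMonoidHom := by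
      rw [Subgroup.map_map]
      congr 1
      ext x
      simp [he, mul_assoc]
    rw [hQw]
    intro c hc
    obtain ⟨hcP, hcC⟩ := mem_inf.1 hc
    rw [← centralizer_map_conj] at hcC
    obtain ⟨d, hd, rfl⟩ := hcC
    refine mem_map_of_mem _ (mem_sup_of_centralizes hTC hTp hTcard ?_ hd)
    refine IsPGroup.of_card_dvd_pow (n := (Nat.card G).factorization p) ?_
    rw [Nat.card_zpowers, ← P.card_eq_multiplicity,
      ← orderOf_injective (MulAut.conj (w * (v * u))).toMonoidHom
        (MulAut.conj (w * (v * u))).injective d]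
    exact Subgroup.orderOf_dvd_natCard _ hcP
  · let e' := (normalizer (Q₀ : Set G)).equivMapOfInjective e.toMonoidHom e.injective
    have he' : normalizer ((Q₀.map e.toMonoidHom : Subgroup G) : Set G) =
        (normalizer (Q₀ : Set G)).map e.toMonoidHom := (normalizer_map_conj Q₀ (v * u)).symm
    exact Involved.involves_of_surjective (e'.trans (MulEquiv.subgroupCongr he'.symm)).symm.toMonoidHom
      (MulEquiv.surjective _) hinv

/-- The normalizer of a fully normalized subgroup realizes the normalizer system. -/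
theorem isRealizedBy_normalizer (P : Sylow p G) {Q : Subgroup G} (hQ : Q ≤ (P : Subgroup G))
    {E : FusionSystem (normalizerIn (P : Subgroup G) Q)}
    (hE : (groupFusionSystem (P : Subgroup G)).IsNormalizerSystem Q E) :
    E.IsRealizedBy (inclusion (inf_le_right :
      normalizerIn (P : Subgroup G) Q ≤ normalizer (Q : Set G))) := by
  refine ⟨inclusion_injective _, fun A hA φ hφ => ⟨fun h => ?_, ?_⟩⟩
  · rw [hE] at h
    obtain ⟨-, -, -, ψ, ⟨-, -, g, hg⟩, hψe, hψQ⟩ := h
    have hgN : g ∈ normalizer (Q : Set G) := by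
      refine mem_normalizer_fintype fun x hx => ?_
      rw [SetLike.mem_coe] at hx ⊢
      rw [← hg ⟨x, mem_sup_right hx⟩]
      exact hψQ.le ⟨⟨x, mem_sup_right hx⟩, hx, rfl⟩
    exact ⟨⟨g, hgN⟩, fun x => Subtype.ext ((hψe x).symm.trans (hg _))⟩
  · rintro ⟨g, hg⟩
    have hg' : ∀ x : A, φ x = (g : G) * x * (g : G)⁻¹ := fun x => congrArg Subtype.val (hg x)
    have hle : A ⊔ Q ≤ (P : Subgroup G).comap (MulAut.conj (g : G)).toMonoidHom :=
      sup_le (fun x hx => by
        show (g : G) * x * (g : G)⁻¹ ∈ (P : Subgroup G)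
        rw [← hg' ⟨x, hx⟩]
        exact (hφ ⟨x, hx⟩).1)
        fun x hx => hQ ((mem_normalizer_iff.1 g.2 x).1 hx)
    rw [hE]
    refine ⟨⟨hA.trans normalizerIn_le, fun x => (hφ x).1, g, hg'⟩, hA, hφ,
      conjHom (A ⊔ Q) g, group_conjHom_mem (sup_le (hA.trans normalizerIn_le) hQ) fun x hx => hle hx,
      fun x => (hg' x).symm, le_antisymm ?_ fun y hy => ?_⟩
    · rintro _ ⟨x, hx, rfl⟩
      exact (mem_normalizer_iff.1 g.2 x).1 (mem_subgroupOf.1 hx)
    · have hy' : (g : G)⁻¹ * y * g ∈ Q := (mem_normalizer_iff''.1 g.2 y).1 hy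
      refine ⟨⟨_, (le_sup_right : Q ≤ A ⊔ Q) hy'⟩, hy', ?_⟩
      show (g : G) * ((g : G)⁻¹ * y * g) * (g : G)⁻¹ = y
      group

/-- The quotient of `N_G(Q)` by a normal `p'`-subgroup is a model of the normalizer system of a fully
normalized centric subgroup `Q`. -/
theorem exists_normalizer_model (P : Sylow p G) {Q : Subgroup G}
    (hQn : (groupFusionSystem (P : Subgroup G)).IsFullyNormalized Q)
    (hQc : (groupFusionSystem (P : Subgroup G)).IsCentric Q)
    {E : FusionSystem (normalizerIn (P : Subgroup G) Q)}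
    (hE : (groupFusionSystem (P : Subgroup G)).IsNormalizerSystem Q E) :
    ∃ (K : Subgroup ↥(normalizer (Q : Set G))) (_ : K.Normal),
      (Nat.card K).Coprime p ∧
      ∃ ι : ↥(normalizerIn (P : Subgroup G) Q) →* ↥(normalizer (Q : Set G)) ⧸ K,
        E.IsModel p (↥(normalizer (Q : Set G)) ⧸ K) ι := by
  set ι₀ := inclusion (inf_le_right :
      normalizerIn (P : Subgroup G) Q ≤ normalizer (Q : Set G)) with hι₀
  have hreal := isRealizedBy_normalizer P hQn.1 hE
  have hrange : ι₀.range =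
      (normalizerIn (P : Subgroup G) Q).subgroupOf (normalizer (Q : Set G)) :=
    inclusion_range _
  obtain ⟨T, hT⟩ := (exists_sylow_iff (inf_le_right :
      normalizerIn (P : Subgroup G) Q ≤ normalizer (Q : Set G))).2
    ((group_fullyNormalized_iff hQn.1).1 hQn)
  replace hT : (T : Subgroup _) = ι₀.range := hT.trans hrange.symm
  set Qs := Q.subgroupOf (normalizer (Q : Set G)) with hQs
  haveI : Qs.Normal := normal_in_normalizer
  have hQN : Q ≤ normalizerIn (P : Subgroup G) Q := le_inf hQn.1 le_normalizer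
  have hQT : Qs ≤ T := by
    rw [hT, hrange]
    exact comap_mono hQN
  obtain ⟨K, hKn, hKp, hKc⟩ := exists_prime_normal_centralizer T hQT (by
    intro x hx
    obtain ⟨hxT, hxC⟩ := mem_inf.1 hx
    rw [hT, hrange, mem_subgroupOf] at hxT
    exact hQc.2 Q (isConj_refl hQn.1) ⟨hxT.1, mem_centralizer_iff.2 fun a ha =>
      congrArg Subtype.val (mem_centralizer_iff.1 hxC ⟨a, le_normalizer ha⟩ ha)⟩)
  haveI := hKn
  have hcop : (Nat.card K).Coprime p := CfsgLib.PCore.coprime_of_not_dvd_card hKp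
  refine ⟨K, hKn, hcop, (QuotientGroup.mk' K).comp ι₀, inferInstance,
    CfsgLib.FusionNormal.isRealizedBy_mk' hreal T hT K hcop,
    ⟨T.mapSurjective (QuotientGroup.mk'_surjective K), ?_⟩, ?_⟩
  · exact (congrArg (Subgroup.map (QuotientGroup.mk' K)) hT).trans (MonoidHom.map_range _ _)
  · haveI : (Qs.map (QuotientGroup.mk' K)).Normal :=
      (inferInstance : Qs.Normal).map _ (QuotientGroup.mk'_surjective K)
    have hle : Qs.map (QuotientGroup.mk' K) ≤ Cfsg.pCore p _ :=
      le_sSup ⟨inferInstance, (P.2.to_le hQn.1).comap_subtype.map _⟩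
    refine le_trans ?_ hle
    intro y hy
    obtain ⟨l, rfl⟩ := QuotientGroup.mk'_surjective K y
    have hl : l ∈ Qs ⊔ K := hKc l fun x hx => by
      have h1 := mem_centralizer_iff.1 hy _ (hle (mem_map_of_mem (QuotientGroup.mk' K) hx))
      rw [← QuotientGroup.eq_one_iff]
      show QuotientGroup.mk' K (l * x * l⁻¹ * x⁻¹) = 1
      rw [map_mul, map_mul, map_mul, map_inv, map_inv, ← h1]
      group
    have h2 : QuotientGroup.mk' K l ∈ (Qs ⊔ K).map (QuotientGroup.mk' K) := mem_map_of_mem _ hl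
    rwa [Subgroup.map_sup, (Subgroup.map_eq_bot_iff K).2 (by rw [QuotientGroup.ker_mk']),
      sup_bot_eq] at h2

/-- The system of a group is `Qd(p)`-free exactly when the group does not involve `Qd(p)`. -/
theorem isSectionFree_qd_iff (hp2 : p ≠ 2) (P : Sylow p G) :
    (groupFusionSystem (P : Subgroup G)).IsSectionFree p ↥(Cfsg.qd p) ↔
      ¬ Involves ↥(Cfsg.qd p) G := by
  constructor
  · intro hfree h
    obtain ⟨Q, hQn, hQc, hinv⟩ := exists_centric_involves hp2 P h
    obtain ⟨E, hE⟩ := exists_normalizerSystem (F := groupFusionSystem (P : Subgroup G)) hQn.1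
    obtain ⟨K, hK, hcop, ι, hι⟩ := exists_normalizer_model P hQn hQc hE
    exact hfree Q hQn hQc E hE _ ι hι (involves_quotient_of_coprime K hcop hinv)
  · intro h Q hQn hQc E hE L _ ι hL hinv
    obtain ⟨K, hK, -, ι', hι'⟩ := exists_normalizer_model P hQn hQc hE
    obtain ⟨φ, -⟩ := model_unique hι' hL
    exact h (Involved.involves_of_subgroup (Involved.involves_of_surjective (QuotientGroup.mk' K)
      (QuotientGroup.mk'_surjective K)
      (Involved.involves_of_surjective φ.toMonoidHom φ.surjective hinv)))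

end CfsgLib.Fusion.QdFree
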