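import Cfsg.Agent.Lib.Fusion.StableConstrained
import Cfsg.Agent.Lib.Fusion.Solvable
import Cfsg.Agent.Lib.Fusion.Normal
import Cfsg.Agent.Lib.Techniques.QdStable

/-!
The fusion system of a `Qd(p)`-free group, `p` odd, has a series of strongly closed subgroups with
abelian factors.
-/

set_option autoImplicit false
set_option linter.style.haveILetI false

namespace CfsgLib.Fusion

open Cfsg Cfsg.FusionSystem Subgroup CfsgLib.LocalEven

universe u

variable {p : ℕ} [Fact p.Prime]

theorem hasSeries_of_not_involves_qd (hp2 : p ≠ 2) {G : Type u} [Group G] [Finite G]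
    (hqd : ¬ Cfsg.Involves ↥(Cfsg.qd p) G) (P : Sylow p G) :
    CfsgLib.FusionSolvable.HasSeries (groupFusionSystem (P : Subgroup G)) ⊥ (P : Subgroup G) := by
  suffices H : ∀ (n : ℕ) (G : Type u) [Group G] [Finite G], Nat.card G < n →
      ¬ Cfsg.Involves ↥(Cfsg.qd p) G → ∀ P : Sylow p G,
      CfsgLib.FusionSolvable.HasSeries (groupFusionSystem (P : Subgroup G)) ⊥ (P : Subgroup G) from
    H _ G (Nat.lt_succ_self _) hqd P
  intro n
  induction n with
  | zero => intro G _ _ h; omega
  | succ n ih =>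
    intro G _ _ hn hqd P
    by_cases hP : (P : Subgroup G) = ⊥
    · rw [hP]
      exact CfsgLib.FusionSolvable.hasSeries_refl (stronglyClosed_bot _)
    obtain ⟨Q, hQn, hQc⟩ := exists_normal_centric_of_stable hp2 P
      (CfsgLib.Techniques.KInf.isNormalizerPStable_of_not_involves_qd hp2 hqd)
    have hQ : Q ≠ ⊥ := fun h => hP (le_bot_iff.1 (le_trans (fun x hx => mem_inf.2 ⟨hx, by
      rw [h, mem_centralizer_iff]; intro y hy
      rw [coe_bot, Set.mem_singleton_iff] at hy
      rw [hy, one_mul, mul_one]⟩) ((hQc.2 Q ⟨Q.subtype, ⟨hQc.1, fun x => hQc.1 x.2, 1,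
        fun x => by simp⟩, Q.range_subtype⟩).trans h.le)))
    set A := Q ⊓ centralizer (Q : Set G) with hA
    have hAQ : A ≤ Q := inf_le_left
    have hA1 : A ≠ ⊥ := by
      haveI : Nontrivial Q := (nontrivial_iff_ne_bot Q).2 hQ
      haveI := (P.2.to_le hQc.1).center_nontrivial
      obtain ⟨⟨z, hz⟩, hz1⟩ := exists_ne (1 : center Q)
      intro h
      refine hz1 (Subtype.ext (Subtype.ext ?_))
      refine mem_bot.1 (h.le (mem_inf.2 ⟨z.2, mem_centralizer_iff.2 fun y hy => ?_⟩))
      exact congrArg Subtype.val (mem_center_iff.1 hz ⟨y, hy⟩)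
    set X := normalizer (A : Set G) with hX
    have hnorm : normalizer (Q : Set G) ≤ X := fun g hg =>
      CfsgLib.Techniques.mem_normalizer_inf hg (CfsgLib.Techniques.normalizer_le_normalizer_centralizer Q hg)
    have hPX : (P : Subgroup G) ≤ X :=
      (StronglyClosed.le_normalizer (IsNormal.stronglyClosed hQn)).trans hnorm
    -- fusion is controlled by `X`
    have hctl : ∀ (R : Subgroup G) (φ : R →* G), φ ∈ (groupFusionSystem (P : Subgroup G)).Hom R →
        ∃ h ∈ X, ∀ x : R, φ x = h * (x : G) * h⁻¹ := by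
      intro R φ hφ
      obtain ⟨ψ, ⟨-, -, h, hh⟩, hψ, hψQ⟩ := hQn.2 R φ hφ
      refine ⟨h, hnorm (mem_normalizer_fintype fun x hx => ?_), fun x => (hψ x).symm.trans (hh _)⟩
      have h1 : ψ ⟨x, (le_sup_right : Q ≤ R ⊔ Q) hx⟩ ∈ (Q.subgroupOf (R ⊔ Q)).map ψ :=
        ⟨_, mem_subgroupOf.2 hx, rfl⟩
      rw [hψQ, hh] at h1
      exact h1
    set A' := A.subgroupOf X with hA'
    haveI : A'.Normal := normal_in_normalizer
    set π := QuotientGroup.mk' A' with hπ
    set P' := P.subtype hPX with hP'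
    have hPmem : ∀ x : X, x ∈ (P' : Subgroup X) ↔ (x : G) ∈ (P : Subgroup G) := fun x => by
      rw [hP', Sylow.coe_subtype]; exact mem_subgroupOf
    have hqd' : ¬ Cfsg.Involves ↥(Cfsg.qd p) (X ⧸ A') := fun h => hqd
      (Involved.involves_of_subgroup (Involved.involves_of_surjective π
        (QuotientGroup.mk'_surjective A') h))
    have hlt : Nat.card (X ⧸ A') < n := by
      have h1 := CfsgLib.Techniques.Fusion.card_quotient_lt A' (fun h => hA1 (by
        have := congrArg (Subgroup.map X.subtype) h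
        rwa [map_subgroupOf_eq_of_le ((hAQ.trans hQc.1).trans hPX), Subgroup.map_bot] at this))
      have h2 : Nat.card X ≤ Nat.card G := card_le_card_group X
      omega
    obtain ⟨m, T, h0, hm, hmono, hsc, hcomm⟩ := ih (X ⧸ A') hlt hqd'
      (P'.mapSurjective (QuotientGroup.mk'_surjective A'))
    rw [Sylow.coe_mapSurjective] at hm
    set U : ℕ → Subgroup G := fun i => ((T i).comap π ⊓ (P' : Subgroup X)).map X.subtype with hU
    have hA'P : A' ≤ (P' : Subgroup X) := fun x hx =>
      (hPmem x).2 (hQc.1 (hAQ (mem_subgroupOf.1 hx)))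
    have hU0 : U 0 = A := by
      show ((T 0).comap π ⊓ (P' : Subgroup X)).map X.subtype = A
      rw [h0, MonoidHom.comap_bot, QuotientGroup.ker_mk', inf_eq_left.2 hA'P,
        map_subgroupOf_eq_of_le ((hAQ.trans hQc.1).trans hPX)]
    have hUm : U m = P := by
      show ((T m).comap π ⊓ (P' : Subgroup X)).map X.subtype = _
      rw [hm, inf_eq_right.2 (le_comap_map _ _), hP', Sylow.coe_subtype,
        map_subgroupOf_eq_of_le hPX]
    have hUsc : ∀ i, (groupFusionSystem (P : Subgroup G)).StronglyClosed (U i) := by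
      refine fun i => ⟨?_, fun R hR φ hφ x => ?_⟩
      · rintro _ ⟨y, hy, rfl⟩
        exact (hPmem y).1 hy.2
      obtain ⟨h, hh, hφh⟩ := hctl R φ hφ
      obtain ⟨y, hy, hyx⟩ := hR x.2
      have hzP : ((⟨h, hh⟩ * y * ⟨h, hh⟩⁻¹ : X) : G) ∈ (P : Subgroup G) := by
        have h1 := hφ.2.1 x
        rw [hφh, ← hyx] at h1
        exact h1
      refine ⟨⟨h, hh⟩ * y * ⟨h, hh⟩⁻¹, mem_inf.2 ⟨?_, (hPmem _).2 hzP⟩, ?_⟩
      · have hyT : π y ∈ T i := hy.1
        show π (⟨h, hh⟩ * y * ⟨h, hh⟩⁻¹) ∈ T i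
        have hmem : conjHom (zpowers (π y)) (π ⟨h, hh⟩) ∈
            (groupFusionSystem ((P' : Subgroup X).map π)).Hom (zpowers (π y)) := by
          refine group_conjHom_mem (zpowers_le.2 (mem_map_of_mem π hy.2)) ?_
          rintro _ ⟨k, rfl⟩
          show π ⟨h, hh⟩ * π y ^ k * (π ⟨h, hh⟩)⁻¹ ∈ _
          rw [← conj_zpow, ← map_inv, ← map_mul, ← map_mul]
          exact zpow_mem (mem_map_of_mem π ((hPmem _).2 hzP)) k
        have h2 := (hsc i).2 (zpowers (π y)) (zpowers_le.2 hyT) _ hmem ⟨π y, mem_zpowers _⟩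
        rw [map_mul, map_mul, map_inv]
        exact h2
      · rw [hφh x, ← hyx]; rfl
    refine CfsgLib.FusionSolvable.hasSeries_step (stronglyClosed_bot _) (U := A) bot_le ?_ ?_
    · exact ((commutator_mono (le_refl A) hAQ).trans
        (commutator_eq_bot_iff_le_centralizer.2 inf_le_right).le)
    · refine ⟨m, U, hU0, hUm, fun i j hij => Subgroup.map_mono (inf_le_inf_right _
        (Subgroup.comap_mono (hmono hij))), hUsc, fun i => ?_⟩
      show ⁅U (i + 1), U (i + 1)⁆ ≤ U i
      rw [← map_commutator]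
      refine Subgroup.map_mono (le_inf ?_ ((commutator_mono inf_le_right inf_le_right).trans
        (commutator_le_self _)))
      refine map_le_iff_le_comap.1 ((map_commutator _ _ π).le.trans ?_)
      exact (commutator_mono ((Subgroup.map_mono inf_le_left).trans (map_comap_le _ _))
        ((Subgroup.map_mono inf_le_left).trans (map_comap_le _ _))).trans (hcomm i)

end CfsgLib.Fusion
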