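import Cfsg.Agent.Lib.Fusion.LocalSteps
import Cfsg.Agent.Lib.Fusion.QuadraticGroup

/-!
# `℧¹(Z(S))` and a functor with quadratic elements control fusion

A saturated system is generated by the maps fixing `℧¹(Z(S))` and the maps of `N_F(W(S))`.
-/

namespace CfsgLib.Fusion

open Cfsg Cfsg.FusionSystem CfsgLib.FusionFactor CfsgLib.FusionExtend

universe u

variable {Ω : Type u} [Group Ω] {S M : Subgroup Ω} {F : FusionSystem S} {p : ℕ}

/-- `℧¹(Z(S))`. -/
def powCentre (p : ℕ) (S : Subgroup Ω) : Subgroup Ω :=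
  powerClosure p 1 (S ⊓ Subgroup.centralizer (S : Set Ω))

theorem powCentre_le : powCentre p S ≤ S ⊓ Subgroup.centralizer (S : Set Ω) :=
  (Subgroup.closure_le _).mpr fun y ⟨_, hx, hy⟩ => hy ▸ Subgroup.pow_mem _ hx _

theorem powCentre_le_S : powCentre p S ≤ S := powCentre_le.trans inf_le_left

theorem powCentre_mono (hMS : M ≤ S) (hZ : S ⊓ Subgroup.centralizer (S : Set Ω) ≤ M) :
    powCentre p S ≤ powCentre p M :=
  (Subgroup.closure_le _).mpr fun _ ⟨x, hx, hy⟩ =>
    Subgroup.subset_closure ⟨x, ⟨hZ hx, Subgroup.centralizer_le hMS hx.2⟩, hy⟩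

theorem centralizerIn_powCentre : centralizerIn S (powCentre p S) = S :=
  le_antisymm centralizerIn_le fun _ hs => mem_centralizerIn.mpr ⟨hs, fun _ hq =>
    ((Subgroup.mem_centralizer_iff.mp (powCentre_le hq).2 _ hs)).symm⟩

/-- A map on a group containing `℧¹(Z(S))` and fixing it is a map of the centralizer system. -/
theorem mem_centralizerHom_powCentre {P R : Subgroup Ω} {φ : P →* Ω} {ψ : R →* Ω} (hψ : ψ ∈ F.Hom R)
    (hPR : P ≤ R) (hVR : powCentre p S ≤ R) (he : ∀ x : P, ψ ⟨x, hPR x.2⟩ = φ x)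
    (hfix : ∀ x : R, (x : Ω) ∈ powCentre p S → ψ x = x) : φ ∈ F.centralizerHom (powCentre p S) P := by
  have hφ : φ ∈ F.Hom P := restrict_of hPR hψ fun x => (he x).symm
  refine ⟨hφ, by rw [centralizerIn_powCentre]; exact le_S hφ,
    fun x => by rw [centralizerIn_powCentre]; exact apply_mem_S hφ x,
    _, restrict_mem (sup_le hPR hVR) hψ, fun x => he x, fun x => hfix ⟨x, hVR x.2⟩ x.2⟩

/-- The maps of `N` that lie in `E`. -/
def commonSystem (N : FusionSystem M) (E : FusionSystem S) (hMS : M ≤ S) : FusionSystem M where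
  Hom P := {φ | φ ∈ N.Hom P ∧ φ ∈ E.Hom P}
  le_of_mem h := N.le_of_mem h.1
  injective_of_mem h := N.injective_of_mem h.1
  conj_mem hP hg := ⟨N.conj_mem hP hg, E.conj_mem (hP.trans hMS) (hMS hg)⟩
  comp_mem := by
    rintro P R φ ψ ⟨hφ, hφ'⟩ ⟨hψ, hψ'⟩ h
    exact ⟨N.comp_mem hφ hψ h, E.comp_mem hφ' hψ' h⟩
  inv_mem := by
    rintro P φ ⟨hφ, hφ'⟩
    obtain ⟨ψ, hψ, hψe⟩ := N.inv_mem hφ
    refine ⟨ψ, ⟨hψ, ?_⟩, hψe⟩
    obtain ⟨ψ', hψ', hψ'e⟩ := E.inv_mem hφ'
    obtain rfl : ψ = ψ' := MonoidHom.ext fun ⟨y, x, hx⟩ => by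
      subst hx; exact (hψe x).trans (hψ'e x).symm
    exact hψ'

variable [Finite S] [Fact p.Prime]

/-- If every map congruent modulo `Q` to the identity acts on `Q` as an element of `S`, it fixes the
centre of `S`. -/
theorem fix_of_mod (hS : IsPGroup p S) (hF : F.IsSaturated p) {Q R : Subgroup Ω} (hQ : F.IsNormal Q)
    (h1 : ∀ P φ, φ ∈ F.Hom P → φ ∈ extHom F Q (autInducedBy S Q) S P)
    {Ω' : Type u} [Group Ω'] {θ : S →* Ω'} (hk : ∀ s : S, θ s = 1 ↔ (s : Ω) ∈ Q)
    {χ : R →* Ω} (hχ : χ ∈ F.Hom R) (hQR : Q ≤ R) {v : R} (hv : (v : Ω) ∈ S ⊓ Subgroup.centralizer (S : Set Ω))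
    (hmod : θ ⟨χ v, apply_mem_S hχ v⟩ = θ ⟨v, hv.1⟩) : χ v = v := by
  have hA := IsNormal.stronglyClosed hQ
  have hQS := hQ.1
  obtain ⟨D, hD⟩ : ∃ D, D = Q ⊔ Subgroup.zpowers (v : Ω) := ⟨_, rfl⟩
  have hQD : Q ≤ D := hD ▸ le_sup_left
  have hvD : (v : Ω) ∈ D := hD ▸ Subgroup.mem_sup_right (Subgroup.mem_zpowers _)
  have hDS : D ≤ S := hD ▸ sup_le hQS (Subgroup.zpowers_le.mpr hv.1)
  have hDR : D ≤ R := hD ▸ sup_le hQR (Subgroup.zpowers_le.mpr v.2)
  have := finite_of_le hDS
  have := finite_mulAut hDS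
  have hSn : normalizerIn S D = S := by
    refine le_antisymm normalizerIn_le fun s hs => ⟨hs, mem_normalizer_of_forall fun x hx => ?_⟩
    have hcv : MulAut.conj s (v : Ω) = v := by
      rw [MulAut.conj_apply, Subgroup.mem_centralizer_iff.mp hv.2 s hs, mul_inv_cancel_right]
    have hle : D.map (MulAut.conj s).toMonoidHom ≤ D := by
      rw [hD, Subgroup.map_sup, MonoidHom.map_zpowers]
      refine sup_le (le_trans ?_ le_sup_left) (le_trans (le_of_eq ?_) le_sup_right)
      · rintro _ ⟨q, hq, rfl⟩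
        exact (Subgroup.mem_normalizer_iff.mp (le_normalizer_of_isNormal hQ hs) q).mp hq
      · exact congrArg Subgroup.zpowers hcv
    exact hle ⟨x, hx, rfl⟩
  have hDn : F.IsFullyNormalized D := ⟨hDS, fun P _ => by
    rw [hSn]; exact Subgroup.card_le_of_le normalizerIn_le⟩
  obtain ⟨-, T, hT⟩ := (fullyNormalized_good hS hF hDn).1
  have hθD : ∀ x : D, ∀ (χ' : D →* Ω) (hχ' : χ' ∈ F.Hom D), θ ⟨χ' x, apply_mem_S hχ' x⟩ = θ ⟨x, hDS x.2⟩ →
      χ' x ∈ D := by
    intro x χ' hχ' e
    have h2 := D.mul_mem x.2 (hQD ((theta_eq_iff hk _ _).mp e.symm))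
    rwa [mul_inv_cancel_left] at h2
  let χ₀ := χ.comp (Subgroup.inclusion hDR)
  have hχ₀ : χ₀ ∈ F.Hom D := restrict_mem hDR hχ
  -- `χ₀` is congruent to the identity
  have hcong : ∀ x : D, θ ⟨χ₀ x, apply_mem_S hχ₀ x⟩ = θ ⟨x, hDS x.2⟩ := by
    let Eq' : Subgroup D :=
      { carrier := {x | θ ⟨χ₀ x, apply_mem_S hχ₀ x⟩ = θ ⟨x, hDS x.2⟩}
        one_mem' := congrArg θ (Subtype.ext (map_one χ₀))
        mul_mem' := fun {a b} ha hb => by
          have e1 : (⟨χ₀ (a * b), apply_mem_S hχ₀ _⟩ : S) =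
              ⟨χ₀ a, apply_mem_S hχ₀ a⟩ * ⟨χ₀ b, apply_mem_S hχ₀ b⟩ := Subtype.ext (map_mul χ₀ a b)
          show θ _ = θ _
          rw [e1, map_mul, ha, hb, ← map_mul]
          rfl
        inv_mem' := fun {a} ha => by
          have e1 : (⟨χ₀ a⁻¹, apply_mem_S hχ₀ _⟩ : S) = (⟨χ₀ a, apply_mem_S hχ₀ a⟩ : S)⁻¹ :=
            Subtype.ext (map_inv χ₀ a)
          show θ _ = θ _
          rw [e1, map_inv, ha, ← map_inv]
          rfl }
    have hle : D ≤ Eq'.map D.subtype := by
      conv_lhs => rw [hD]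
      refine sup_le (fun q hq => ⟨⟨q, hQD hq⟩, ?_, rfl⟩)
        (Subgroup.zpowers_le.mpr ⟨⟨v, hvD⟩, hmod, rfl⟩)
      exact ((hk _).mpr (StronglyClosed.apply_mem hA hχ₀ ⟨q, hQD hq⟩ hq)).trans ((hk _).mpr hq).symm
    intro x
    obtain ⟨y, hy, hyx⟩ := hle x.2
    rw [show x = y from Subtype.ext hyx.symm]
    exact hy
  have hr : χ₀.range = D := range_eq_of_card_le hχ₀ hDS (fun x => hθD x χ₀ hχ₀ (hcong x)) le_rfl
  obtain ⟨a, ha, hae⟩ := exists_aut hχ₀ hr
  let A : Subgroup (F.autGroup D) :=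
    { carrier := {b | ∀ x : D, θ ⟨((b : MulAut D) x : D), hDS (Subtype.prop _)⟩ = θ ⟨x, hDS x.2⟩}
      one_mem' := fun x => rfl
      mul_mem' := fun {b c} hb hc x => (hb _).trans (hc x)
      inv_mem' := fun {b} hb x => by
        have := hb ((b⁻¹ : F.autGroup D).1 x)
        rw [Subgroup.coe_inv, MulAut.apply_inv_self] at this
        exact this.symm }
  have hAn : A.Normal := ⟨fun b hb c x => by
    set y := ((c⁻¹ : F.autGroup D) : MulAut D) x with hy
    have hq : (y : Ω)⁻¹ * (((b : MulAut D) y : D) : Ω) ∈ Q := (theta_eq_iff hk _ _).mp (hb y).symm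
    have hxy : (c : MulAut D) y = x := by rw [hy, Subgroup.coe_inv, MulAut.apply_inv_self]
    refine ((theta_eq_iff hk _ _).mpr ?_).symm
    show (x : Ω)⁻¹ * (((c : MulAut D) ((b : MulAut D) y) : D) : Ω) ∈ Q
    rw [← hxy]
    have h2 := StronglyClosed.apply_mem hA ((mem_autGroup hDS).mp c.2) (y⁻¹ * (b : MulAut D) y) hq
    simpa using h2⟩
  have hAp : IsPGroup p A := by
    rintro ⟨b, hb⟩
    obtain ⟨k, hk'⟩ := exists_pow_eq_one_of_mod hS hk h1 hDS hQD b.2 1 fun x => by
      rw [hb x, map_one, one_mul, inv_one, mul_one]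
    exact ⟨k, Subtype.ext (Subtype.ext hk')⟩
  have haA : (⟨a, ha⟩ : F.autGroup D) ∈ A := fun x => by
    rw [← hcong x]
    exact congrArg θ (Subtype.ext (hae x))
  have haT : a ∈ autInducedBy S D := hT.le (CfsgLib.PCore.pCore_le_sylow T (CfsgLib.PCore.le_pCore hAn hAp haA))
  obtain ⟨s, hs, hse⟩ := mem_autInducedBy.mp haT
  have h3 := hse ⟨v, hvD⟩
  rw [hae] at h3
  refine h3.trans ?_
  show s * (v : Ω) * s⁻¹ = v
  rw [Subgroup.mem_centralizer_iff.mp hv.2 s hs, mul_inv_cancel_right]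

variable {W : ∀ (Q : Type u) [Group Q], Subgroup Q}

/-- `F` is generated by the maps fixing `℧¹(Z(S))` and the maps of `N_F(W(S))`. -/
theorem le_of_quadratic
    (hW1 : ∀ (Q : Type u) [Group Q] [Finite Q], IsPGroup p Q → Nontrivial Q → W Q ≠ ⊥)
    (hW2 : ∀ (Q R : Type u) [Group Q] [Group R] [Finite Q], IsPGroup p Q → ∀ φ : Q ≃* R,
      (W Q).map φ.toMonoidHom = W R)
    (hW : QuadraticFunctor p W) (hS : IsPGroup p S) (hF : F.IsSaturated p) (E : FusionSystem S)
    (hC : ∀ P φ, φ ∈ F.centralizerHom (powCentre p S) P → φ ∈ E.Hom P)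
    (hN : ∀ P φ, φ ∈ F.normalizerHom (charSub W S) P → φ ∈ E.Hom P) : F ≤ E := by
  suffices H : ∀ (n : ℕ) {Ω : Type u} [Group Ω] {S : Subgroup Ω} [Finite S] (F : FusionSystem S),
      sysSize F < n → IsPGroup p S → F.IsSaturated p → ∀ E : FusionSystem S,
      (∀ P φ, φ ∈ F.centralizerHom (powCentre p S) P → φ ∈ E.Hom P) →
      (∀ P φ, φ ∈ F.normalizerHom (charSub W S) P → φ ∈ E.Hom P) → F ≤ E from
    H _ F (Nat.lt_succ_self _) hS hF E hC hN
  intro n
  induction n with
  | zero => intro _ _ _ _ F h; omega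
  | succ n ih =>
    intro Ω _ S _ F hn hS hF E hC hN
    by_cases hS1 : S = ⊥
    · subst hS1
      intro P φ hφ
      have hP : P ≤ ⊥ := le_S hφ
      exact restrict_of le_rfl (subtype_mem hP) fun x => by
        rw [Subgroup.mem_bot.mp (apply_mem_S hφ x)]
        exact (Subgroup.mem_bot.mp (hP x.2)).symm
    set Z := S ⊓ Subgroup.centralizer (S : Set Ω) with hZ
    have hsmall : ∀ (M : Subgroup Ω) (G : FusionSystem M) (hMS : M ≤ S), Z ≤ M →
        (∀ P φ, φ ∈ G.Hom P → φ ∈ F.Hom P) → (∃ P φ, φ ∈ F.Hom P ∧ φ ∉ G.Hom P) → G.IsSaturated p →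
        (∀ P φ, φ ∈ F.normalizerHom (charSub W M) P → φ ∈ E.Hom P) →
        ∀ P φ, φ ∈ G.Hom P → φ ∈ E.Hom P := by
      intro M G hMS hZM hsub hne hG hWM P φ hφ
      have := finite_of_le hMS
      have := sysSize_lt_of_sub hsub hne
      refine (ih G (by omega) (hS.to_le hMS) hG (commonSystem G E hMS) (fun P φ h => ⟨h.1, ?_⟩)
        (fun P φ h => ⟨h.1, ?_⟩) P hφ).2
      · obtain ⟨-, -, -, ψ, hψ, hψe, hψV⟩ := h
        have hle := powCentre_mono (p := p) hMS hZM
        refine hC P φ (mem_centralizerHom_powCentre (hsub _ _ hψ) le_sup_left (hle.trans le_sup_right) hψe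
          fun x hx => hψV ⟨x, hle hx⟩)
      · obtain ⟨hφG, hP, hφv, ψ, hψ, hψe, hψW⟩ := h
        exact hWM P φ ⟨hsub _ _ hφG, hP.trans (inf_le_inf_right _ hMS),
          fun x => inf_le_inf_right _ hMS (hφv x), ψ, hsub _ _ hψ, hψe, hψW⟩
    refine le_of_steps hS hF hS1 E ?_ ?_ ?_ ?_
    · intro U hU hUn N hNsys hne hbig
      have := finite_of_le hUn.1
      have := finite_of_le (normalizerIn_le (S := S) (P := U))
      refine hsmall _ N normalizerIn_le (fun z hz => ⟨hz.1, mem_normalizer_of_forall fun x hx => ?_⟩)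
        (fun P φ h => ((hNsys P).le h).1) hne (normalizerSystem_saturated hS hF hUn hNsys) ?_
      · rw [← Subgroup.mem_centralizer_iff.mp hz.2 x (hUn.1 hx), mul_inv_cancel_right]; exact hx
      · by_cases hM : normalizerIn S U = S
        · rw [hM]; exact hN
        · refine hbig hM _ (charSub_ne_bot hW1 (hS.to_le normalizerIn_le) fun e => hU
            (le_bot_iff.mp ((le_normalizerIn hUn.1).trans e.le))) (charSub_le _) ?_
          have := finite_of_le (normalizerIn_le (S := S) (P := U))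
          exact inf_le_right.trans (charSub_le_normalizer hW2 (hS.to_le normalizerIn_le))
    · -- the normalizer of a normal centric subgroup
      intro T hTc hTn hTN P φ hφ
      obtain ⟨N, hNsys⟩ := exists_normalizerSystem (F := F) hTn.1
      have hφN : φ ∈ N.Hom P := (hNsys P).ge hφ
      clear hφ
      obtain ⟨L, _, ι, hL⟩ := exists_model_normalizer hS hF hTn hTc hNsys
      have hsub : ∀ P φ, φ ∈ N.Hom P → φ ∈ F.Hom P := fun P φ h => ((hNsys P).le h).1
      clear hNsys
      revert N ι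
      rw [hTN]
      intro N φN ι hL hsub
      have := hL.1
      obtain ⟨T₀, hT₀⟩ := hL.2.2.1
      have hWι : charSub W (T₀ : Subgroup L) = ((charSub W S).subgroupOf S).map ι := by
        rw [charSub_map hW2 hS ι hL.2.1.1, hT₀]
      let Good : L → Subgroup L → Prop := fun l A => ∀ (P : Subgroup Ω) (hP : P ≤ S) (φ : P →* Ω)
        (hφ : ∀ x : P, φ x ∈ S), (∀ x : P, ι ⟨x, hP x.2⟩ ∈ A) →
        (∀ x : P, ι ⟨φ x, hφ x⟩ = l * ι ⟨x, hP x.2⟩ * l⁻¹) → φ ∈ E.Hom P
      have hgood : ∀ (A : Subgroup L) (l : L), A ≤ T₀ → (∀ a ∈ A, l * a * l⁻¹ ∈ (T₀ : Subgroup L)) →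
          Good l A := by
        refine fusion_composed hW2 hW _ L T₀ Good (Nat.lt_succ_self _) hL.2.2.2 ?_ ?_ ?_
        · intro A l m _ hl hml hA1 hA2 P hP φ hφ hPA hφe
          obtain ⟨φ1, hφ1, hφ1e⟩ := realized_exists_map hL.2.1 hP l fun x => by
            rw [← hT₀]; exact hl _ (hPA x)
          have hR : φ1.range ≤ S := range_le_S hφ1
          obtain ⟨φ2, hφ2, hφ2e⟩ := realized_exists_map hL.2.1 hR m fun y => by
            obtain ⟨_, x, rfl⟩ := y
            rw [← hT₀, hφ1e]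
            exact hml _ (hPA x)
          have h1 := hA1 P hP φ1 (apply_mem_S hφ1) hPA fun x => hφ1e x _
          have h2 := hA2 φ1.range hR φ2 (apply_mem_S hφ2) (fun y => by
            obtain ⟨_, x, rfl⟩ := y
            exact ⟨_, hPA x, (hφ1e x _).symm⟩) fun y => hφ2e y _
          refine comp_of h1 h2 (fun x => ⟨x, rfl⟩) fun x => ?_
          refine congrArg Subtype.val (hL.2.1.1 (a₁ := ⟨φ x, hφ x⟩) (a₂ := ⟨_, apply_mem_S hφ2 _⟩) ?_)
          rw [hφe, hφ2e, hφ1e]
          group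
        · intro A l _ hl hfix P hP φ hφ hPA hφe
          have hPV : P ⊔ powCentre p S ≤ S := sup_le hP powCentre_le_S
          have hV : powCentre p S ≤
              (MonoidHom.eqLocus ((MulAut.conj l).toMonoidHom.comp ι) ι).map S.subtype := by
            refine (Subgroup.closure_le _).mpr ?_
            rintro _ ⟨z, hz, rfl⟩
            refine ⟨⟨z, hz.1⟩ ^ p, ?_, by simp⟩
            show l * ι (⟨z, hz.1⟩ ^ p) * l⁻¹ = ι (⟨z, hz.1⟩ ^ p)
            rw [map_pow]
            refine hfix _ (hT₀.ge ⟨_, rfl⟩) fun y hy => ?_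
            obtain ⟨s, rfl⟩ := hT₀.le hy
            rw [← map_mul, ← map_mul]
            exact congrArg ι (Subtype.ext (Subgroup.mem_centralizer_iff.mp hz.2 _ s.2))
          have hVfix : ∀ (v : S), (v : Ω) ∈ powCentre p S → l * ι v * l⁻¹ = ι v := fun v hv => by
            obtain ⟨w, hw, e⟩ := hV hv
            rw [show v = w from Subtype.ext e.symm]
            exact hw
          obtain ⟨ψ, hψ, hψe⟩ := realized_exists_map hL.2.1 hPV l fun x => by
            have hle : P ⊔ powCentre p S ≤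
                (ι.range.comap ((MulAut.conj l).toMonoidHom.comp ι)).map S.subtype := sup_le
              (fun y hy => ⟨⟨y, hP hy⟩, by
                show l * ι ⟨y, hP hy⟩ * l⁻¹ ∈ ι.range
                rw [← hT₀]; exact hl _ (hPA ⟨y, hy⟩), rfl⟩)
              (fun y hy => ⟨⟨y, powCentre_le_S hy⟩, by
                show l * ι ⟨y, powCentre_le_S hy⟩ * l⁻¹ ∈ ι.range
                rw [hVfix _ hy]; exact ⟨_, rfl⟩, rfl⟩)
            obtain ⟨w, hw, e⟩ := hle x.2
            rw [show (⟨x, hPV x.2⟩ : S) = w from Subtype.ext e.symm]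
            exact hw
          refine hC P φ (mem_centralizerHom_powCentre (hsub _ _ hψ) le_sup_left le_sup_right
            (fun x => congrArg Subtype.val (hL.2.1.1 (a₁ := ⟨_, apply_mem_S hψ _⟩) (a₂ := ⟨φ x, hφ x⟩)
              ((hψe _ _).trans (hφe x).symm))) fun x hx => congrArg Subtype.val
              (hL.2.1.1 (a₁ := ⟨_, apply_mem_S hψ _⟩) (a₂ := ⟨x, hPV x.2⟩) ((hψe _ _).trans (hVfix _ hx))))
        · intro A l _ hl hnorm P hP φ hφ hPA hφe
          rw [hWι] at hnorm
          have hX : charSub W S ≤ S := charSub_le S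
          have hPV : P ⊔ charSub W S ≤ S := sup_le hP hX
          obtain ⟨ψ, hψ, hψe⟩ := realized_exists_map hL.2.1 hPV l fun x => by
            have hle : P ⊔ charSub W S ≤
                (ι.range.comap ((MulAut.conj l).toMonoidHom.comp ι)).map S.subtype := sup_le
              (fun y hy => ⟨⟨y, hP hy⟩, by
                show l * ι ⟨y, hP hy⟩ * l⁻¹ ∈ ι.range
                rw [← hT₀]; exact hl _ (hPA ⟨y, hy⟩), rfl⟩)
              (fun y hy => ⟨⟨y, hX hy⟩, by
                show l * ι ⟨y, hX hy⟩ * l⁻¹ ∈ ι.range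
                exact Subgroup.map_le_range ι _
                  ((Subgroup.mem_normalizer_iff.mp hnorm _).mp ⟨⟨y, hX hy⟩, hy, rfl⟩), rfl⟩)
            obtain ⟨w, hw, e⟩ := hle x.2
            rw [show (⟨x, hPV x.2⟩ : S) = w from Subtype.ext e.symm]
            exact hw
          have hSn : normalizerIn S (charSub W S) = S :=
            inf_eq_left.mpr (Subgroup.le_normalizer.trans (charSub_le_normalizer hW2 hS))
          have hψN := mem_normalizerHom (V := charSub W S) (hsub _ _ hψ) le_sup_right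
            (hPV.trans hSn.ge) fun x hx => by
              obtain ⟨w, hw, e⟩ := (Subgroup.mem_normalizer_iff.mp hnorm _).mp ⟨⟨x, hPV x.2⟩, hx, rfl⟩
              have := hL.2.1.1 (e.trans (hψe x (apply_mem_S hψ x)).symm)
              have e2 : (w : Ω) = ψ x := congrArg Subtype.val this
              exact e2 ▸ hw
          refine restrict_of le_sup_left (hN _ _ hψN) fun x => ?_
          let x' : ↥(P ⊔ charSub W S) := ⟨x, Subgroup.mem_sup_left x.2⟩
          exact congrArg Subtype.val (hL.2.1.1 (a₁ := ⟨φ x, hφ x⟩) (a₂ := ⟨ψ x', apply_mem_S hψ x'⟩)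
            ((hφe x).trans (hψe x' _).symm))
      obtain ⟨l, hl⟩ := realized_conj hL.2.1 φN
      exact hgood ((P.subgroupOf S).map ι) l (by rw [hT₀]; exact Subgroup.map_le_range ι _)
        (by
          rintro _ ⟨y, hy, rfl⟩
          rw [hT₀]
          exact ⟨_, hl ⟨y, hy⟩⟩)
        P (le_S φN) φ (apply_mem_S φN) (fun x => ⟨_, x.2, rfl⟩) hl
    · intro Q hQ hQ1 hr hsat hne P φ hφ
      exact hsmall S (extSystem F hr.1 (autInducedBy S Q) S
        (isKNormalizer_autInducedBy (le_normalizer_of_isNormal hQ))) le_rfl inf_le_left (fun P φ h => h.1) hne hsat hN P φ hφ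
    · -- all maps act on `Q` as elements of `S`
      intro Q hQ hQ1 hQS h1 hbig
      have hA := IsNormal.stronglyClosed hQ
      have hQn : (Q.subgroupOf S).Normal :=
        (Subgroup.normal_subgroupOf_iff_le_normalizer hQ.1).mpr (le_normalizer_of_isNormal hQ)
      let θ : S →* S ⧸ Q.subgroupOf S := QuotientGroup.mk' _
      have hk : ∀ s : S, θ s = 1 ↔ (s : Ω) ∈ Q := fun s => QuotientGroup.eq_one_iff s
      have hE' := factorSystem_isFactorSystem (θ := θ) hk hA
      have : Finite θ.range := Finite.of_surjective _ θ.rangeRestrict_surjective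
      have hθp : IsPGroup p θ.range := hS.of_surjective _ θ.rangeRestrict_surjective
      have hlt := sysSize_factor_lt hE' hQ1
      let G := factorSystem F θ Q hk hA
      let E' : FusionSystem θ.range :=
        { Hom := fun P' => {φ' | φ' ∈ G.Hom P' ∧ ∃ φ : preimageAlong θ P' →* Ω,
            φ ∈ F.Hom _ ∧ φ ∈ E.Hom _ ∧ InducedAlong θ φ φ'}
          le_of_mem := fun h => G.le_of_mem h.1
          injective_of_mem := fun h => G.injective_of_mem h.1
          conj_mem := by
            intro P' g hP' hg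
            refine ⟨G.conj_mem hP' hg, ?_⟩
            obtain ⟨s, rfl⟩ := hg
            refine ⟨conjHom _ (s : Ω), F.conj_mem (preimageAlong_le P') s.2,
              E.conj_mem (preimageAlong_le P') s.2, preimageAlong_le P',
              fun x => S.mul_mem (S.mul_mem s.2 (preimageAlong_le P' x.2)) (S.inv_mem s.2),
              fun x => map_mem_of_mem_preimageAlong x.2 _, fun x => ?_⟩
            show θ s * θ ⟨x, _⟩ * (θ s)⁻¹ = _
            rw [← map_inv, ← map_mul, ← map_mul]
            rfl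
          comp_mem := by
            rintro P' R' φ' ψ' ⟨hφ', φ, hφ, hφE, hP, hφS, hm, e⟩ ⟨hψ', ψ, hψ, hψE, hR, hψS, hn, k⟩ hPR
            have hval : ∀ x : preimageAlong θ P', φ x ∈ preimageAlong θ R' := fun x =>
              mem_preimageAlong.mpr ⟨hφS x, by rw [← e x]; exact hPR _⟩
            refine ⟨G.comp_mem hφ' hψ' hPR, _, F.comp_mem hφ hψ hval, E.comp_mem hφE hψE hval, hP,
              fun x => hψS _, hm, fun x => ?_⟩
            refine Eq.trans (congrArg ψ' (Subtype.ext ?_)) (k ⟨φ x, hval x⟩)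
            exact e x
          inv_mem := by
            rintro P' φ' ⟨hφ', φ, hφ, hφE, hind⟩
            have hP' : P' ≤ θ.range := le_S hφ'
            have hr := mem_range_induced hk hA hP' hφ hind
            obtain ⟨ψ, hψ, -, hψi, -⟩ := exists_inv hφ hr
            obtain ⟨ψE, hψE, -, hψEi, -⟩ := exists_inv hφE hr
            obtain rfl : ψ = ψE := MonoidHom.ext fun y => by
              obtain ⟨x, hx⟩ := hr.ge y.2
              rw [show y = ⟨φ x, hr.le ⟨x, rfl⟩⟩ from Subtype.ext hx.symm, hψi, hψEi]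
            obtain ⟨hP, hφS, hm, e⟩ := hind
            have hR : φ'.range ≤ θ.range := by
              rintro _ ⟨y, rfl⟩; exact apply_mem_S hφ' y
            obtain ⟨χ, hχ⟩ := exists_induced hk hA hR hψ
            refine ⟨χ, ⟨⟨hR, ψ, hψ, hχ⟩, ψ, hψ, hψE, hχ⟩, fun y => ?_⟩
            obtain ⟨hQ', hψS, hn, k⟩ := hχ
            obtain ⟨x, hx, hxP, hxy⟩ := exists_preimage hP' y
            obtain rfl : y = ⟨θ ⟨x, hP hxP⟩, hm ⟨x, hxP⟩⟩ := Subtype.ext hxy.symm
            refine Eq.trans (congrArg χ (Subtype.ext (e ⟨x, hxP⟩)))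
              ((k ⟨_, hr.le ⟨⟨x, hxP⟩, rfl⟩⟩).trans (congrArg θ (Subtype.ext (hψi _ _)))) }
      have hVQ : ∀ v : S, (v : Ω) ∈ powCentre p S → θ v ∈ powCentre p θ.range := by
        intro v hv
        have hle : powCentre p S ≤ ((powCentre p θ.range).comap θ).map S.subtype := by
          refine (Subgroup.closure_le _).mpr ?_
          rintro _ ⟨z, hz, rfl⟩
          refine ⟨⟨z, hz.1⟩ ^ p ^ 1, Subgroup.subset_closure ⟨θ ⟨z, hz.1⟩, ⟨⟨_, rfl⟩, ?_⟩, map_pow θ _ _⟩, rfl⟩
          refine Subgroup.mem_centralizer_iff.mpr ?_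
          rintro _ ⟨s, rfl⟩
          rw [← map_mul, ← map_mul]
          exact congrArg θ (Subtype.ext (Subgroup.mem_centralizer_iff.mp hz.2 _ s.2))
        obtain ⟨w, hw, e⟩ := hle hv
        rw [show v = w from Subtype.ext e.symm]
        exact hw
      have hFix : ∀ (R : Subgroup Ω) (χ : R →* Ω) (hχ : χ ∈ F.Hom R), Q ≤ R →
          (∀ (x : R) (_ : (x : Ω) ∈ powCentre p S), θ ⟨χ x, apply_mem_S hχ x⟩ = θ ⟨x, le_S hχ x.2⟩) →
          ∀ x : R, (x : Ω) ∈ powCentre p S → χ x = x := fun R χ hχ hQR hmod x hx =>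
        fix_of_mod hS hF hQ h1 hk hχ hQR (v := x) (powCentre_le hx) (hmod x hx)
      have hX : ¬ preimageAlong θ (charSub W θ.range) ≤ Q := by
        intro hV
        refine charSub_ne_bot hW1 hθp (fun e => hQS (le_antisymm hQ.1 fun s hs => ?_))
          (le_bot_iff.mp fun y hy => ?_)
        · exact (hk ⟨s, hs⟩).mp (Subgroup.mem_bot.mp (e.le ⟨⟨s, hs⟩, rfl⟩))
        · obtain ⟨s, rfl⟩ := charSub_le _ hy
          exact Subgroup.mem_bot.mpr ((hk s).mpr (hV (mem_preimageAlong.mpr ⟨s.2, hy⟩)))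
      have hgen : G ≤ E' := by
        refine ih G (lt_of_lt_of_le hlt (Nat.le_of_lt_succ hn)) hθp (isSaturated_factor hS hF hA hE') E' ?_ ?_
        · rintro P' φ' ⟨hφ', -, -, ψ', hψ', hψ'e, hψ'V⟩
          refine ⟨hφ', ?_⟩
          obtain ⟨hle', ψ, hψ, hPS, hψS, hm, e⟩ := hψ'
          have hPP : preimageAlong θ P' ≤ preimageAlong θ (P' ⊔ powCentre p θ.range) := fun x hx =>
            mem_preimageAlong.mpr ⟨preimageAlong_le _ hx,
              Subgroup.mem_sup_left (map_mem_of_mem_preimageAlong hx _)⟩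
          have hVP : powCentre p S ≤ preimageAlong θ (P' ⊔ powCentre p θ.range) := fun x hx =>
            mem_preimageAlong.mpr ⟨powCentre_le_S hx, Subgroup.mem_sup_right (hVQ _ hx)⟩
          have hfix := hFix _ ψ hψ (kernel_le_preimageAlong hk hQ.1 _) fun x hx => by
            rw [← e x]
            exact hψ'V ⟨_, hVQ ⟨x, hPS x.2⟩ hx⟩
          refine ⟨ψ.comp (Subgroup.inclusion hPP), restrict_mem hPP hψ,
            hC _ _ (mem_centralizerHom_powCentre hψ hPP hVP (fun x => rfl) hfix),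
            preimageAlong_le _, fun x => hψS _, fun x => map_mem_of_mem_preimageAlong x.2 _, fun x => ?_⟩
          rw [← hψ'e]
          exact e ⟨x, hPP x.2⟩
        · rintro P' φ' ⟨hφ', hP', -, ψ', hψ', hψ'e, hψ'W⟩
          refine ⟨hφ', ?_⟩
          obtain ⟨hle', ψ, hψ, hPS, hψS, hm, e⟩ := hψ'
          have hPP : preimageAlong θ P' ≤ preimageAlong θ (P' ⊔ charSub W θ.range) := fun x hx =>
            mem_preimageAlong.mpr ⟨preimageAlong_le _ hx,
              Subgroup.mem_sup_left (map_mem_of_mem_preimageAlong hx _)⟩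
          have hXP : preimageAlong θ (charSub W θ.range) ≤ preimageAlong θ (P' ⊔ charSub W θ.range) :=
            fun x hx => mem_preimageAlong.mpr ⟨preimageAlong_le _ hx,
              Subgroup.mem_sup_right (map_mem_of_mem_preimageAlong hx _)⟩
          have hXn : S ≤ Subgroup.normalizer (preimageAlong θ (charSub W θ.range) : Set Ω) := by
            intro s hs
            have := finite_of_le (preimageAlong_le (θ := θ) (charSub W θ.range))
            refine mem_normalizer_of_forall fun x hx => mem_preimageAlong.mpr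
              ⟨S.mul_mem (S.mul_mem hs (preimageAlong_le _ hx)) (S.inv_mem hs), ?_⟩
            show θ (⟨s, hs⟩ * ⟨x, preimageAlong_le _ hx⟩ * (⟨s, hs⟩ : S)⁻¹) ∈ _
            rw [map_mul, map_mul, map_inv]
            exact (Subgroup.mem_normalizer_iff.mp
              ((Subgroup.le_normalizer.trans (charSub_le_normalizer hW2 hθp)) ⟨⟨s, hs⟩, rfl⟩) _).mp
              (map_mem_of_mem_preimageAlong hx _)
          have hψN := mem_normalizerHom (V := preimageAlong θ (charSub W θ.range)) hψ hXP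
            (fun x hx => ⟨hPS hx, hXn (hPS hx)⟩) fun x hx => mem_preimageAlong.mpr ⟨hψS x, by
              rw [← e x]
              exact hψ'W.le ⟨⟨_, hm x⟩, map_mem_of_mem_preimageAlong hx _, rfl⟩⟩
          have hψE := hbig _ (preimageAlong_le _) hXn hX _ _ hψN
          refine ⟨ψ.comp (Subgroup.inclusion hPP), restrict_mem hPP hψ, restrict_mem hPP hψE,
            preimageAlong_le _, fun x => hψS _, fun x => map_mem_of_mem_preimageAlong x.2 _, fun x => ?_⟩
          rw [← hψ'e]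
          exact e ⟨x, hPP x.2⟩
      refine alperin hS hF E fun R hR a ha => ?_
      have hQR : Q ≤ R := by
        rcases hR with rfl | hR
        · exact hQ.1
        · exact IsNormal.le_centric_radical hS hQ hR.1 (radical_of_essential hR hS)
      have hRS : R ≤ S := by
        rcases hR with rfl | hR
        · exact le_rfl
        · exact hR.1.1
      have hVR : powCentre p S ≤ R := by
        rcases hR with rfl | hR
        · exact powCentre_le_S
        · exact fun v hv => IsCentric.centralizerIn_le' hR.1 (mem_centralizerIn.mpr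
            ⟨powCentre_le_S hv, fun x hx => Subgroup.mem_centralizer_iff.mp (powCentre_le hv).2 x (hRS hx)⟩)
      have := finite_of_le hRS
      have hφ := (mem_autGroup hRS).mp ha
      obtain ⟨φ', hφ', hP0, hφS, hm0, e0⟩ := exists_map_induced hS hF hA hE' hφ
      obtain ⟨-, η, hη, hηE, hη0, hηS, hm1, e1⟩ := hgen _ hφ'
      have hRim : R ≤ preimageAlong θ (imageAlong θ R) := fun x hx =>
        mem_preimageAlong.mpr ⟨hRS hx, ⟨x, hRS hx⟩, hx, rfl⟩
      have hη₀ := restrict_mem hRim hη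
      have hη₀E := restrict_mem hRim hηE
      have hcmp : ∀ x : R, θ ⟨η ⟨x, hRim x.2⟩, apply_mem_S hη _⟩ = θ ⟨(a x : R), hRS (a x).2⟩ := fun x => by
        exact (e1 ⟨x, hRim x.2⟩).symm.trans (e0 x)
      have hr : (η.comp (Subgroup.inclusion hRim)).range = R := range_eq_of_card_le hη₀ hRS (fun x => by
        have h2 := R.mul_mem (a x).2 (hQR ((theta_eq_iff hk _ _).mp (hcmp x).symm))
        rwa [mul_inv_cancel_left] at h2) le_rfl
      obtain ⟨b, hb, hbe⟩ := exists_aut hη₀ hr
      obtain ⟨b', hb', hb'e⟩ := exists_aut hη₀E hr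
      obtain rfl : b = b' := MulEquiv.ext fun x => Subtype.ext ((hbe x).trans (hb'e x).symm)
      have hκ : b⁻¹ * a ∈ F.autGroup R := mul_mem (inv_mem hb) ha
      have hκmap := (mem_autGroup hRS).mp hκ
      suffices hκE : b⁻¹ * a ∈ E.autGroup R by
        have := mul_mem hb' hκE
        rwa [mul_inv_cancel_left] at this
      refine (mem_autGroup hRS).mpr (hC R _ (mem_centralizerHom_powCentre hκmap le_rfl hVR (fun x => rfl)
        (hFix R _ hκmap hQR fun x _ => ?_)))
      set y := (b⁻¹ * a) x with hy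
      have hby : b y = a x := by rw [hy, MulAut.mul_apply, MulAut.apply_inv_self]
      refine ((theta_eq_iff hk _ _).mpr ?_).symm
      show (x : Ω)⁻¹ * (y : Ω) ∈ Q
      refine (sc_apply_iff hA hη₀ (x⁻¹ * y)).mp ?_
      rw [map_mul, map_inv]
      have e5 : (⟨(a x : R), hRS (a x).2⟩ : S) = ⟨η ⟨y, hRim y.2⟩, apply_mem_S hη _⟩ :=
        Subtype.ext (show ((a x : R) : Ω) = η ⟨y, hRim y.2⟩ by rw [← hby]; exact hbe y)
      have h5 := (theta_eq_iff hk _ _).mp ((hcmp x).trans (congrArg θ e5))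
      exact h5

end CfsgLib.Fusion
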