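import Cfsg.Agent.Lib.Fusion.ModGroup
import Cfsg.Agent.Lib.Fusion.NormTrick

/-!
# Quadratic elements and elements fixed by a normal subsystem

`p` odd: if some element of `N_T(Q)` outside `Q` acts quadratically on `Z(Q)` and `y` is good at the larger
subgroups of `N_T(Q)` normalized by it, then `y` is good at `Q`.
-/

namespace CfsgLib.Fusion

open Cfsg Cfsg.FusionSystem CfsgLib.FusionNormal
open scoped IsMulCommutative

variable {Ω : Type*} [Group Ω] {S T : Subgroup Ω} {F : FusionSystem S} {E : FusionSystem T}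
variable {Q : Subgroup Ω} {y : Ω}
variable {p : ℕ} [Finite S] [Fact p.Prime]

theorem goodAt_of_quadratic (hS : IsPGroup p S) (hp2 : p ≠ 2) (hE : E.IsNormalIn F p)
    (hy : y ∈ centralizerIn S T) (hQn : E.IsFullyNormalized Q) (hQc : E.IsCentric Q) {t : Ω}
    (ht : t ∈ normalizerIn T Q) (htQ : t ∉ Q)
    (hquad : ∀ z ∈ Q, (∀ q ∈ Q, q * z = z * q) →
      t * (t * z * t⁻¹ * z⁻¹) * t⁻¹ = t * z * t⁻¹ * z⁻¹)
    (hup : ∀ P : Subgroup Ω, Q < P → P ≤ normalizerIn T Q →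
      normalizerIn T Q ≤ Subgroup.normalizer (P : Set Ω) → GoodAt F E y P) :
    GoodAt F E y Q := by
  have hEi := hE.1.2.2
  have hTS := hEi.2.1.1
  have hST := hS.to_le hTS
  haveI := finite_of_le hTS
  have hQT := hQn.1
  set B := Subgroup.zpowers y with hBdef
  have hB : B ≤ centralizerIn S T := Subgroup.zpowers_le.mpr hy
  have hDS : Q ⊔ B ≤ S := sup_le (hQT.trans hTS) (hB.trans centralizerIn_le)
  haveI := finite_of_le hDS
  have hEF : E.IsSubsystemOf F := hEi.1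
  let G := modGrp hEF hQT B
  haveI : Finite (MulAut ↥(Q ⊔ B)) := finite_mulAut hDS
  haveI : Finite G := inferInstance
  let A := Subgroup.center ↥(Q ⊔ B)
  have hyB : y ∈ Q ⊔ B := Subgroup.mem_sup_right (Subgroup.mem_zpowers y)
  have hcomm : ∀ x ∈ Q ⊔ B, x * y = y * x := by
    intro x hx
    have hle : Q ⊔ B ≤ Subgroup.centralizer ({y} : Set Ω) := sup_le
      (fun q hq => Subgroup.mem_centralizer_singleton_iff.mpr ((mem_centralizerIn.mp hy).2 q (hQT hq)))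
      (Subgroup.zpowers_le.mpr (Subgroup.mem_centralizer_singleton_iff.mpr rfl))
    exact Subgroup.mem_centralizer_singleton_iff.mp (hle hx)
  let y₀ : A := ⟨⟨y, hyB⟩, Subgroup.mem_center_iff.mpr fun x => Subtype.ext (hcomm x x.2)⟩
  let ρ : G →* MulAut A :=
    { toFun := fun g => Subgroup.centerCongr (g : MulAut ↥(Q ⊔ B))
      map_one' := MulEquiv.ext fun a => Subtype.ext rfl
      map_mul' := fun g h => MulEquiv.ext fun a => Subtype.ext rfl }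
  have hρ : ∀ (g : G) (a : A), ((ρ g a : A) : ↥(Q ⊔ B)) = (g : MulAut ↥(Q ⊔ B)) a := fun _ _ => rfl
  let V : Subgroup A := (Q.subgroupOf (Q ⊔ B)).subgroupOf A
  have hVQ : ∀ a : A, a ∈ V ↔ ((a : ↥(Q ⊔ B)) : Ω) ∈ Q := fun _ => Iff.rfl
  have hyV : ∀ g, ρ g y₀ * y₀⁻¹ ∈ V := fun g => by
    rw [mul_comm, hVQ]
    exact modGrp.disp_mem g ⟨y, hyB⟩
  have hkerV : ∀ g ∈ (modGrp.res : G →* E.autGroup Q).ker, ∀ a ∈ V, ρ g a = a := fun g hg a ha =>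
    Subtype.ext (modGrp.apply_ker hg ha)
  let U : Subgroup A :=
    { carrier := {a | ∃ τ ∈ (modGrp.res : G →* E.autGroup Q).ker, ρ τ y₀ = y₀ * a}
      one_mem' := ⟨1, Subgroup.one_mem _, by simp⟩
      mul_mem' := by
        rintro a b ⟨σ, hσ, ha⟩ ⟨τ, hτ, hb⟩
        refine ⟨σ * τ, Subgroup.mul_mem _ hσ hτ, ?_⟩
        have hbV : b ∈ V := by simpa [hb] using hyV τ
        rw [map_mul, MulAut.mul_apply, hb, map_mul, ha, hkerV σ hσ b hbV, mul_assoc]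
      inv_mem' := by
        rintro a ⟨σ, hσ, ha⟩
        have haV : a ∈ V := by simpa [ha] using hyV σ
        refine ⟨σ⁻¹, Subgroup.inv_mem _ hσ, ?_⟩
        apply (ρ σ).injective
        rw [← MulAut.mul_apply, ← map_mul, mul_inv_cancel, map_one, map_mul, ha, map_inv,
          hkerV σ hσ a haV, MulAut.one_apply, mul_inv_cancel_right] }
  have hU : ∀ g, ∀ u ∈ U, ρ g u ∈ U := by
    rintro g u ⟨τ, hτ, hu⟩
    refine ⟨g * τ * g⁻¹, Subgroup.Normal.conj_mem inferInstance τ hτ g, ?_⟩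
    obtain ⟨w, hw⟩ : ∃ w, w = y₀⁻¹ * ρ g⁻¹ y₀ := ⟨_, rfl⟩
    have hwV : w ∈ V := by rw [hw, mul_comm]; exact hyV g⁻¹
    have hgw : ρ g (y₀ * w) = y₀ := by
      rw [hw, mul_inv_cancel_left, ← MulAut.mul_apply, ← map_mul, mul_inv_cancel, map_one, MulAut.one_apply]
    rw [map_mul, map_mul, MulAut.mul_apply, MulAut.mul_apply, show ρ g⁻¹ y₀ = y₀ * w by rw [hw, mul_inv_cancel_left],
      map_mul, hu, hkerV τ hτ w hwV, mul_right_comm, map_mul, hgw]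
  let Sg : Set G := {g | ∀ v ∈ V, ρ g (ρ g v * v⁻¹) = ρ g v * v⁻¹}
  have hVinv : ∀ (g : G), ∀ v ∈ V, ρ g v ∈ V := fun g v hv => modGrp.apply_mem g hv
  have hSg : ∀ g a : G, a ∈ Sg → g * a * g⁻¹ ∈ Sg := by
    intro g a ha v hv
    obtain ⟨w, hw⟩ : ∃ w, ρ g⁻¹ v = w := ⟨_, rfl⟩
    have hwv : ρ g w = v := by
      rw [← hw, ← MulAut.mul_apply, ← map_mul, mul_inv_cancel, map_one, MulAut.one_apply]
    have hga : ∀ z, ρ (g * a * g⁻¹) (ρ g z) = ρ g (ρ a z) := fun z => by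
      rw [← MulAut.mul_apply, ← map_mul, inv_mul_cancel_right, map_mul, MulAut.mul_apply]
    rw [← hwv, hga, ← map_inv, ← map_mul, hga, ha w (hw ▸ hVinv g⁻¹ v hv)]
  obtain ⟨M, hM⟩ := modGrp.exists_sylow (hE := hEF) (hQ := hQT) hTS hB hS hE hQn hQc
  have hcnjy : ∀ {g : G} {s : Ω}, s ∈ T → (∀ x : ↥(Q ⊔ B), (((g : MulAut ↥(Q ⊔ B)) x : ↥(Q ⊔ B)) : Ω) = s * x * s⁻¹) →
      ρ g y₀ = y₀ := fun {g s} hs hg => by
    refine Subtype.ext (Subtype.ext ?_)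
    rw [hρ, hg]
    show s * y * s⁻¹ = y
    rw [(mem_centralizerIn.mp hy).2 s hs, mul_inv_cancel_right]
  have hsame : ∀ g k : G, modGrp.res g = modGrp.res k → ρ k y₀ = y₀ → ρ g y₀ * y₀⁻¹ ∈ U := by
    intro g k hgk hk
    have hτ : k⁻¹ * g ∈ (modGrp.res : G →* E.autGroup Q).ker := by
      rw [MonoidHom.mem_ker, map_mul, map_inv, hgk, inv_mul_cancel]
    have hu : ρ (k⁻¹ * g) y₀ * y₀⁻¹ ∈ U := ⟨_, hτ, by rw [mul_comm, inv_mul_cancel_right]⟩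
    have h := hU k _ hu
    rwa [map_mul (ρ k), map_inv (ρ k), hk, ← MulAut.mul_apply, ← map_mul, mul_inv_cancel_left] at h
  have hres : ∀ {g k : G}, (∀ x : ↥(Q ⊔ B), (x : Ω) ∈ Q →
      ((g : MulAut ↥(Q ⊔ B)) x : ↥(Q ⊔ B)) = (k : MulAut ↥(Q ⊔ B)) x) → modGrp.res g = modGrp.res k :=
    fun {g k} h => Subtype.ext (MulEquiv.ext fun x => Subtype.ext (by
      rw [modGrp.res_apply, modGrp.res_apply, h ⟨x, Subgroup.mem_sup_left x.2⟩ x.2]))
  have hM' : ∀ m ∈ (M : Subgroup G), ρ m y₀ * y₀⁻¹ ∈ U := by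
    intro m hm
    obtain ⟨s, hs, hse⟩ := (hM m).mp hm
    obtain ⟨k, hk⟩ := modGrp.exists_cnj (hE := hEF) (hQ := hQT) hTS hB hs
    exact hsame m k (hres fun x hx => Subtype.ext ((hse x hx).trans (hk x).symm)) (hcnjy hs.1 hk)
  -- the subgroup above `Q`
  set L := Subgroup.closure (Sg ∩ (M : Subgroup G)) with hL
  have hLM : L ≤ M := (Subgroup.closure_le _).mpr Set.inter_subset_right
  let P : Subgroup Ω :=
    { carrier := {s | s ∈ normalizerIn T Q ∧ ∃ l ∈ L, ∀ x : ↥(Q ⊔ B), (x : Ω) ∈ Q →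
        (((l : MulAut ↥(Q ⊔ B)) x : ↥(Q ⊔ B)) : Ω) = s * x * s⁻¹}
      one_mem' := ⟨Subgroup.one_mem _, 1, L.one_mem, fun x _ => by simp⟩
      mul_mem' := by
        rintro a b ⟨ha, l, hl, hle⟩ ⟨hb, m, hm, hme⟩
        refine ⟨Subgroup.mul_mem _ ha hb, l * m, L.mul_mem hl hm, fun x hx => ?_⟩
        have hmQ : (((m : MulAut ↥(Q ⊔ B)) x : ↥(Q ⊔ B)) : Ω) ∈ Q := modGrp.apply_mem m hx
        show (((l : MulAut ↥(Q ⊔ B)) ((m : MulAut ↥(Q ⊔ B)) x) : ↥(Q ⊔ B)) : Ω) = _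
        rw [hle _ hmQ, hme x hx]; group
      inv_mem' := by
        rintro a ⟨ha, l, hl, hle⟩
        refine ⟨Subgroup.inv_mem _ ha, l⁻¹, L.inv_mem hl, fun x hx => ?_⟩
        obtain ⟨z, hz⟩ : ∃ z : ↥(Q ⊔ B), z = ⟨a⁻¹ * x * a⁻¹⁻¹, Subgroup.mem_sup_left
            (conj_mem_of_normalizer (Subgroup.inv_mem _ ha.2) hx)⟩ := ⟨_, rfl⟩
        have hzQ : (z : Ω) ∈ Q := by rw [hz]; exact conj_mem_of_normalizer (Subgroup.inv_mem _ ha.2) hx
        have h1 : (l : MulAut ↥(Q ⊔ B)) z = x := Subtype.ext (by rw [hle z hzQ, hz]; simp [mul_assoc])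
        rw [Subgroup.coe_inv, ← h1, MulAut.inv_apply_self, h1, hz] }
  have hcnjM : ∀ {g : G} {s : Ω}, s ∈ normalizerIn T Q →
      (∀ x : ↥(Q ⊔ B), (((g : MulAut ↥(Q ⊔ B)) x : ↥(Q ⊔ B)) : Ω) = s * x * s⁻¹) → g ∈ (M : Subgroup G) :=
    fun {g s} hs hg => (hM g).mpr ⟨s, hs, fun x _ => hg x⟩
  have hquadP : ∀ s ∈ normalizerIn T Q, (∀ z ∈ Q, (∀ q ∈ Q, q * z = z * q) →
      s * (s * z * s⁻¹ * z⁻¹) * s⁻¹ = s * z * s⁻¹ * z⁻¹) → s ∈ P := by
    intro s hs hsq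
    obtain ⟨k, hk⟩ := modGrp.exists_cnj (hE := hEF) (hQ := hQT) hTS hB hs
    refine ⟨hs, k, Subgroup.subset_closure ⟨fun v hv => ?_, hcnjM hs hk⟩, fun x _ => hk x⟩
    refine Subtype.ext (Subtype.ext ?_)
    simp only [hρ, hk, Subgroup.coe_mul, Subgroup.coe_inv]
    refine hsq _ hv fun q hq => ?_
    exact congrArg Subtype.val (Subgroup.mem_center_iff.mp v.2 ⟨q, Subgroup.mem_sup_left hq⟩)
  have hQP : Q < P := by
    refine lt_of_le_of_ne (fun q hq => hquadP q (le_normalizerIn hQT hq) fun z hz hc => ?_)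
      fun h => htQ (h ▸ hquadP t ht hquad)
    rw [hc q hq]; group
  have hPN : P ≤ normalizerIn T Q := fun s hs => hs.1
  haveI := finite_of_le (hPN.trans normalizerIn_le)
  have hNP : normalizerIn T Q ≤ Subgroup.normalizer (P : Set Ω) := by
    intro s hs
    refine mem_normalizer_of_forall fun u hu => ?_
    obtain ⟨hu, l, hl, hle⟩ := hu
    obtain ⟨k, hk⟩ := modGrp.exists_cnj (hE := hEF) (hQ := hQT) hTS hB hs
    have hkM := hcnjM hs hk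
    refine ⟨Subgroup.mul_mem _ (Subgroup.mul_mem _ hs hu) (Subgroup.inv_mem _ hs), k * l * k⁻¹, ?_, fun x hx => ?_⟩
    · have hmap : L.map (MulAut.conj k).toMonoidHom ≤ L := by
        rw [hL, MonoidHom.map_closure, Subgroup.closure_le]
        rintro _ ⟨a, ⟨ha, haM⟩, rfl⟩
        exact Subgroup.subset_closure ⟨hSg k a ha, (M : Subgroup G).mul_mem ((M : Subgroup G).mul_mem hkM haM)
          ((M : Subgroup G).inv_mem hkM)⟩
      exact hmap ⟨l, hl, rfl⟩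
    · obtain ⟨z, hz⟩ : ∃ z : ↥(Q ⊔ B), z = ((k⁻¹ : G) : MulAut ↥(Q ⊔ B)) x := ⟨_, rfl⟩
      have hzQ : (z : Ω) ∈ Q := hz ▸ modGrp.apply_mem k⁻¹ hx
      have hkz : (k : MulAut ↥(Q ⊔ B)) z = x := by rw [hz, Subgroup.coe_inv, MulAut.apply_inv_self]
      show (((k : MulAut ↥(Q ⊔ B)) ((l : MulAut ↥(Q ⊔ B)) (((k⁻¹ : G) : MulAut ↥(Q ⊔ B)) x)) : ↥(Q ⊔ B)) : Ω) = _
      rw [← hz, hk, hle z hzQ, ← hkz, hk]
      group
  have hgoodP := hup P hQP hPN hNP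
  have hN : ∀ g ∈ Subgroup.normalizer (L : Set G), ρ g y₀ * y₀⁻¹ ∈ U := by
    intro g hg
    obtain ⟨f, hf, hfr, hfe⟩ := exists_mapFn_of_aut hQT (modGrp.res g).2
    have hfe' : ∀ x : ↥(Q ⊔ B), (x : Ω) ∈ Q → f x = (((g : MulAut ↥(Q ⊔ B)) x : ↥(Q ⊔ B)) : Ω) := fun x hx =>
      (hfe ⟨x, hx⟩).trans (modGrp.res_apply g ⟨x, hx⟩)
    have hconj : ∀ s ∈ P, ∃ s' ∈ P, ∀ x ∈ Q, f (s * x * s⁻¹) = s' * f x * s'⁻¹ := by
      intro s hs
      obtain ⟨hs, l, hl, hle⟩ := hs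
      have hl' := (Subgroup.mem_normalizer_iff.mp hg l).mp hl
      obtain ⟨s', hs', hse⟩ := (hM _).mp (hLM hl')
      refine ⟨s', ⟨hs', _, hl', hse⟩, fun x hx => ?_⟩
      have hxD : x ∈ Q ⊔ B := Subgroup.mem_sup_left hx
      have h1 := hle ⟨x, hxD⟩ hx
      have hcm : s * x * s⁻¹ ∈ Q := conj_mem_of_normalizer hs.2 hx
      rw [hfe' ⟨_, Subgroup.mem_sup_left hcm⟩ hcm, hfe' ⟨x, hxD⟩ hx, ← hse _ (modGrp.apply_mem g hx),
        show (⟨s * x * s⁻¹, Subgroup.mem_sup_left hcm⟩ : ↥(Q ⊔ B)) = (l : MulAut ↥(Q ⊔ B)) ⟨x, hxD⟩ from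
          Subtype.ext h1.symm]
      simp [MulAut.mul_apply]
    obtain ⟨η, hη, hηe⟩ := hf.exists_extension (fullyNormalized_good hST hE.1.1 hQn).2 hfr hQP.le hPN
      fun s hs => by obtain ⟨s', hs', h⟩ := hconj s hs; exact ⟨s', (hPN hs').1, h⟩
    have hηr : η '' P = (P : Set Ω) := by
      refine hη.image_eq_of_maps (hPN.trans normalizerIn_le) (fun s hs => ?_) le_rfl
      have hηQ : η '' Q = (Q : Set Ω) := (Set.image_congr hηe).trans hfr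
      obtain ⟨s', hs', hse⟩ := hconj s hs
      obtain ⟨hs'N, l, hl, hle⟩ := hs'
      refine ⟨hη.mem_normalizerIn hQP.le hηQ hs (hPN hs).2, l, hl, fun x hx => ?_⟩
      obtain ⟨x₀, hx₀, hxe⟩ := exists_of_image hfr hx
      rw [hle x hx, ← hxe, ← hse x₀ hx₀, ← hηe _ (conj_mem_of_normalizer (hPN hs).2 hx₀),
        hη.map_conj hs (hQP.le hx₀), hηe x₀ hx₀]
    obtain ⟨k, hk, hkP, hky⟩ := hgoodP η hη hηr
    obtain ⟨k', hk'⟩ := modGrp.exists_of_map (hE := hEF) (hQ := hQT) hTS hB hf hfr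
      (hk.mono (sup_le_sup_right hQP.le B)) (fun x hx => by rw [hkP x (hQP.le hx), hηe x hx]) (fun b hb => by
        rw [mapFn_fixed hk (Subgroup.mem_sup_right (Subgroup.mem_zpowers y)) hky b hb, inv_mul_cancel]
        exact Q.one_mem)
    refine hsame g k' (hres fun x hx => Subtype.ext ?_) (Subtype.ext (Subtype.ext ?_))
    · rw [hk' x, hkP x (hQP.le hx), hηe x hx, hfe' x hx]
    · rw [hρ, hk']; exact hky
  have hfix := NormTrick.fixed_mod M Sg ρ ((hS.to_le hDS).to_subgroup A) hp2 hU hSg (fun a ha => ha) y₀ hyV hM' hN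
  intro f hf hfr
  obtain ⟨α, hα, hαe⟩ := hf.exists_aut hfr
  obtain ⟨g, hg⟩ := modGrp.res_surjective (hE := hEF) (hQ := hQT) hTS hB hS hE hQc ⟨α, hα⟩
  obtain ⟨τ, hτ, hτy⟩ := hfix g
  have hτg : ρ τ y₀ = ρ g y₀ := by rw [hτy, mul_comm, inv_mul_cancel_right]
  obtain ⟨k, hkdef⟩ : ∃ k, k = τ⁻¹ * g := ⟨_, rfl⟩
  have hky : ρ k y₀ = y₀ := by
    rw [hkdef, map_mul, MulAut.mul_apply, ← hτg, ← MulAut.mul_apply, ← map_mul, inv_mul_cancel, map_one,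
      MulAut.one_apply]
  obtain ⟨h, hh, -, hhe⟩ := exists_mapFn_of_aut hDS k.2.1
  refine ⟨h, hh, fun x hx => ?_, ?_⟩
  · have hres' : modGrp.res k = modGrp.res g := by
      rw [hkdef, map_mul, map_inv, MonoidHom.mem_ker.mp hτ, inv_one, one_mul]
    rw [hhe ⟨x, Subgroup.mem_sup_left hx⟩, ← modGrp.res_apply k ⟨x, hx⟩, hres', hg]
    exact hαe ⟨x, hx⟩
  · rw [hhe ⟨y, hyB⟩]
    exact congrArg (fun a : A => ((a : ↥(Q ⊔ B)) : Ω)) hky

end CfsgLib.Fusion
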