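import Cfsg.Agent.Lib.Fusion.QuadraticControl
import Cfsg.Agent.Lib.Fusion.ThompsonInner
import Cfsg.Agent.Lib.PLocal.Replacement

/-!
# The Thompson subgroup has quadratic elements
-/

namespace CfsgLib.Fusion

open Cfsg Cfsg.FusionSystem
open scoped commutatorElement

universe u

variable {p : ℕ} [Fact p.Prime]

/-- If `J(P)` is not normal, some element of `P` outside `O_p` acts quadratically on `Z(O_p)`. -/
theorem quadraticFunctor_thompsonW : QuadraticFunctor.{u} p thompsonW := by
  intro G _ _ P _ hnor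
  rw [charSub_thompsonW, PLocal.thompsonSubgroupAOf_eq] at hnor
  set K := pCore p G with hK
  have : K.Normal := model_core_normal
  set Z := (Subgroup.center K).map K.subtype with hZdef
  have hZn : Z.Normal := by rw [hZdef]; infer_instance
  have hKP : K ≤ P := CfsgLib.PCore.pCore_le_sylow P
  have hZP : Z ≤ P := (Subgroup.map_subtype_le _).trans hKP
  obtain ⟨A, hA, hAK⟩ : ∃ A, PLocal.IsMaxElemIn 0 (P : Subgroup G) A ∧ ¬ A ≤ K := by
    by_contra h
    push Not at h
    apply hnor
    rw [← PLocal.thompson_eq_of_le hKP (PLocal.thompson_le_iff.mpr h), ← Subgroup.normalizer_eq_top_iff]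
    exact top_le_iff.mp ((Subgroup.normalizer_eq_top_iff.mpr inferInstance : Subgroup.normalizer (K : Set G) = ⊤).ge.trans
      (PLocal.normalizer_le_normalizer_thompson 0 K))
  by_cases hall : ∃ B, PLocal.IsMaxElemIn 0 (P : Subgroup G) B ∧ ¬ Z ≤ B
  · obtain ⟨B, hB, hZB⟩ := hall
    have hZab : Cfsg.IsElementaryAbelian 0 Z := PLocal.elemAb_zero_iff.mpr
      (PLocal.isMulCommutative_of_forall fun a ha b hb =>
        ((center_map_mem.mp hb).2 a (center_map_mem.mp ha).1))
    have hZZ : ⁅Z, Z⁆ = ⊥ := Subgroup.commutator_eq_bot_iff_le_centralizer.mpr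
      fun a ha b hb => PLocal.elemAb_commute hZab hb ha
    have hn : (P : Subgroup G) ≤ Subgroup.normalizer (Z : Set G) := by
      rw [Subgroup.normalizer_eq_top]; exact le_top
    obtain ⟨A', hA', -, hZA', hnZ⟩ := PLocal.exists_maxElemIn_normalized P.2 le_rfl Subgroup.le_normalizer
      hZP hn hB (hZZ.le.trans bot_le) (fun _ => hZab) (Or.inl rfl) hZB
    have hA'K : ¬ A' ≤ K := by
      intro hle
      have hsup := PLocal.elemAb_sup hA'.elem hZab fun a ha => Subgroup.mem_centralizer_iff.mpr fun z hz =>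
        ((center_map_mem.mp hz).2 a (hle ha)).symm
      exact hZA' ((le_sup_right : Z ≤ A' ⊔ Z).trans
        (hA'.eq_of_le (sup_le hA'.le hZP) hsup le_sup_left).ge)
    obtain ⟨g, hg, hgK⟩ := SetLike.not_le_iff_exists.mp hA'K
    refine ⟨g, hA'.le hg, hgK, Subgroup.commutator_eq_bot_iff_le_centralizer.mpr ?_⟩
    have hgA : Subgroup.zpowers g ≤ A' := Subgroup.zpowers_le.mpr hg
    refine ((Subgroup.commutator_mono le_rfl hgA).trans ?_).trans
      (show A' ≤ Subgroup.centralizer (Subgroup.zpowers g : Set G) from fun a ha b hb =>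
        PLocal.elemAb_commute hA'.elem (hgA hb) ha)
    exact Subgroup.le_normalizer_iff_commutator_le_right.mp hnZ
  · push Not at hall
    obtain ⟨g, hg, hgK⟩ := SetLike.not_le_iff_exists.mp hAK
    refine ⟨g, hA.le hg, hgK, ?_⟩
    have h0 : ⁅Z, Subgroup.zpowers g⁆ = ⊥ := Subgroup.commutator_eq_bot_iff_le_centralizer.mpr fun z hz b hb =>
      PLocal.elemAb_commute hA.elem (Subgroup.zpowers_le.mpr hg hb) (hall A hA hz)
    rw [h0, Subgroup.commutator_bot_left]

variable {Ω : Type u} [Group Ω] {S : Subgroup Ω} {F : FusionSystem S} [Finite S]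

/-- `F` is generated by the maps fixing `℧¹(Z(S))` and the maps of `N_F(J(S))`. -/
theorem le_of_thompson (hS : IsPGroup p S) (hF : F.IsSaturated p) (E : FusionSystem S)
    (hC : ∀ P φ, φ ∈ F.centralizerHom (powCentre p S) P → φ ∈ E.Hom P)
    (hN : ∀ P φ, φ ∈ F.normalizerHom (thompsonSubgroupAOf S) P → φ ∈ E.Hom P) : F ≤ E :=
  le_of_quadratic (W := thompsonW) (fun Q _ _ => thompsonW_ne_bot Q) (fun Q R _ _ _ _ => thompsonW_equiv Q R)
    quadraticFunctor_thompsonW hS hF E hC hN

end CfsgLib.Fusion
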