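import Cfsg.Agent.Lib.Fusion.Aut
import Cfsg.Agent.Lib.Fusion.Saturated
import Cfsg.Agent.Lib.PCore.Basic

/-!
# Radicality is invariant under conjugation
-/

namespace CfsgLib.Fusion

open Cfsg Cfsg.FusionSystem

variable {Ω : Type*} [Group Ω] {S : Subgroup Ω} {F : FusionSystem S} {P Q : Subgroup Ω}

theorem map_inn_congr (e : P ≃* Q) : (Inn P).map (MulAut.congr e).toMonoidHom = Inn Q := by
  ext α
  constructor
  · rintro ⟨_, ⟨z, rfl⟩, rfl⟩
    exact ⟨e z, MulEquiv.ext fun x => by simp [MulAut.congr]⟩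
  · rintro ⟨w, rfl⟩
    exact ⟨MulAut.conj (e.symm w), ⟨_, rfl⟩, MulEquiv.ext fun x => by simp [MulAut.congr]⟩

theorem radical_of_conj [Finite S] {p : ℕ} (h : F.IsRadical p P) (hc : F.IsConj P Q) :
    F.IsRadical p Q := by
  obtain ⟨φ, hφ, hr⟩ := hc
  obtain ⟨e, he⟩ := exists_equiv hφ hr
  refine ⟨hr ▸ range_le_S hφ, ?_⟩
  have := finite_mulAut (le_S hφ)
  let f : F.autGroup P ≃* F.autGroup Q :=
    ((F.autGroup P).equivMapOfInjective (MulAut.congr e).toMonoidHom (MulAut.congr e).injective).trans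
      (MulEquiv.subgroupCongr (map_autGroup hφ he))
  have hf : (F.autGroup Q).subtype.comp f.toMonoidHom =
      (MulAut.congr e).toMonoidHom.comp (F.autGroup P).subtype := MonoidHom.ext fun _ => rfl
  rw [← CfsgLib.PCore.map_pCore_equiv f, Subgroup.map_map, hf, ← Subgroup.map_map, h.2, map_inn_congr]

end CfsgLib.Fusion
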