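import Cfsg.Agent.Lib.Fusion.Stabilizer
import Cfsg.Agent.Lib.Involutions.BaerSuzuki

/-!
# Two transvections of an abelian group that do not generate a `p`-group give an inversion
-/

namespace CfsgLib.Fusion.Transvection

variable {p : ℕ} [Fact p.Prime] {K : Type*} [CommGroup K]

theorem isPGroup_pair [Finite K] (hK : IsPGroup p K) {a b : MulAut K} {x c : K} (hax : a x = x) (hac : a c = c)
    (hbc : b c = c) (ha : ∀ e, e⁻¹ * a e ∈ Subgroup.zpowers x) (hb : ∀ e, e⁻¹ * b e ∈ Subgroup.zpowers c) :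
    IsPGroup p (Subgroup.closure ({a, b} : Set (MulAut K))) := by
  have : Finite (MulAut K) := Finite.of_injective (fun f : MulAut K => (f : K → K)) DFunLike.coe_injective
  let H : Subgroup K := MonoidHom.eqLocus a.toMonoidHom (MonoidHom.id K)
  have hcH : Subgroup.zpowers c ≤ H := Subgroup.zpowers_le.mpr hac
  have hxH : Subgroup.zpowers x ≤ H := Subgroup.zpowers_le.mpr hax
  let L : ℕ → Subgroup K := fun i => if i = 0 then ⊥ else if i = 1 then Subgroup.zpowers c else if i = 2 then H else ⊤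
  have hmono : ∀ i < 3, L i ≤ L (i + 1) := by
    intro i hi
    rcases (show i = 0 ∨ i = 1 ∨ i = 2 by omega) with rfl | rfl | rfl
    · exact bot_le
    · exact hcH
    · exact le_top
  let Γ : Submonoid (MulAut K) :=
    { carrier := {γ | ∀ i < 3, ∀ e ∈ L (i + 1), e⁻¹ * γ e ∈ L i}
      one_mem' := fun i _ e _ => by rw [MulAut.one_apply, inv_mul_cancel]; exact one_mem _
      mul_mem' := fun {γ δ} hγ hδ i hi e he => by
        have h1 := hδ i hi e he
        have h2 : δ e ∈ L (i + 1) := by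
          have := (L (i + 1)).mul_mem he (hmono i hi h1)
          rwa [mul_inv_cancel_left] at this
        have h3 := (L i).mul_mem h1 (hγ i hi _ h2)
        rwa [mul_assoc, mul_inv_cancel_left] at h3 }
  have hgen : ({a, b} : Set (MulAut K)) ⊆ Γ := by
    rintro γ hγ i hi e he
    rcases (show i = 0 ∨ i = 1 ∨ i = 2 by omega) with rfl | rfl | rfl
    · obtain ⟨n, rfl⟩ := Subgroup.mem_zpowers_iff.mp (show e ∈ Subgroup.zpowers c from he)
      show (c ^ n)⁻¹ * γ (c ^ n) ∈ (⊥ : Subgroup K)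
      rcases hγ with rfl | rfl
      · rw [map_zpow, hac, inv_mul_cancel]; exact one_mem _
      · rw [map_zpow, hbc, inv_mul_cancel]; exact one_mem _
    · show e⁻¹ * γ e ∈ Subgroup.zpowers c
      rcases hγ with rfl | rfl
      · rw [show γ e = e from he, inv_mul_cancel]; exact one_mem _
      · exact hb e
    · show e⁻¹ * γ e ∈ H
      rcases hγ with rfl | rfl
      · exact hxH (ha e)
      · exact hcH (hb e)
  rintro ⟨γ, hγ⟩
  have hγΓ : γ ∈ Γ := by
    rw [← Subgroup.mem_toSubmonoid, Subgroup.closure_toSubmonoid_of_finite] at hγ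
    exact Submonoid.closure_le.mpr hgen hγ
  obtain ⟨k, hk⟩ := exists_pow_eq_one_of_stabilizes hK L hmono (n := 3) (by simp [L]) (α := γ)
    ⟨0, fun e he => by
      have : e = 1 := Subgroup.mem_bot.mp he
      rw [this, map_one]⟩ hγΓ
  exact ⟨k, Subtype.ext hk⟩

/-- The transvection `a` with centre `⟨x⟩`, its conjugate `b = α⁻¹ a α` with centre `⟨α⁻¹ x⟩`: if neither fixes
the centre of the other, they generate an inversion of `⟨x⟩` commuting with `a`. -/
theorem exists_inversion [Finite K] (A : Subgroup (MulAut K)) {a α : MulAut K} (ha : a ∈ A) (hα : α ∈ A) {x : K}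
    (hax : a x = x) (hacom : ∀ e, e⁻¹ * a e ∈ Subgroup.zpowers x)
    (hox : ∀ u ∈ Subgroup.zpowers x, u ≠ 1 → Subgroup.zpowers u = Subgroup.zpowers x)
    (h1 : a (α⁻¹ x) ≠ α⁻¹ x) (h2 : a (α x) ≠ α x) :
    ∃ γ ∈ A, (∀ e, γ (a e) = a (γ e)) ∧ ∀ u ∈ Subgroup.zpowers x, γ u = u⁻¹ := by
  obtain ⟨y, hydef⟩ : ∃ y, y = α⁻¹ x := ⟨_, rfl⟩
  rw [← hydef] at h1
  have hαy : α y = x := by rw [hydef, MulAut.apply_inv_self]
  obtain ⟨z, hzdef⟩ : ∃ z, z = y⁻¹ * a y := ⟨_, rfl⟩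
  have hzmem : z ∈ Subgroup.zpowers x := hzdef ▸ hacom y
  have hz1 : z ≠ 1 := fun h => h1 (inv_mul_eq_one.mp (hzdef.symm.trans h)).symm
  have hzx := hox z hzmem hz1
  have hay : a y = y * z := by rw [hzdef, mul_inv_cancel_left]
  have haz : a z = z := by
    obtain ⟨i, hi⟩ := hzmem
    rw [← hi, map_zpow, hax]
  obtain ⟨b, hbdef⟩ : ∃ b, b = α⁻¹ * a * α := ⟨_, rfl⟩
  have hb : b ∈ A := hbdef ▸ A.mul_mem (A.mul_mem (A.inv_mem hα) ha) hα
  have hby : b y = y := by
    rw [hbdef]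
    show α⁻¹ (a (α y)) = y
    rw [hαy, hax, ← hαy, MulAut.inv_apply_self]
  have hbcom : ∀ e, e⁻¹ * b e ∈ Subgroup.zpowers y := fun e => by
    obtain ⟨i, hi⟩ := hacom (α e)
    refine ⟨i, ?_⟩
    have h : e⁻¹ * b e = α⁻¹ ((α e)⁻¹ * a (α e)) := by
      rw [map_mul, map_inv, MulAut.inv_apply_self, hbdef]; rfl
    rw [h, ← hi, map_zpow, hydef]
  have hbx : b x ≠ x := fun h => h2 <| by
    rw [hbdef] at h
    have := congrArg α h
    rwa [MulAut.mul_apply, MulAut.mul_apply, MulAut.apply_inv_self] at this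
  have hbz1 : z⁻¹ * b z ≠ 1 := fun h => hbx <| by
    obtain ⟨i, hi⟩ := hzx.ge (Subgroup.mem_zpowers x)
    rw [← hi, map_zpow, (inv_mul_eq_one.mp h).symm]
  obtain ⟨j, hj⟩ : ∃ j : ℕ, (z⁻¹ * b z) ^ j = y := by
    obtain ⟨i, hi⟩ := hbcom z
    have h : Subgroup.zpowers (α (z⁻¹ * b z)) = Subgroup.zpowers x := by
      refine hox _ ⟨i, ?_⟩ ((map_ne_one_iff α α.injective).mpr hbz1)
      rw [← hi, map_zpow, hαy]
    obtain ⟨j, hj⟩ := mem_powers_iff_mem_zpowers.mpr (h.ge (Subgroup.mem_zpowers x))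
    exact ⟨j, α.injective (by rw [map_pow, hαy]; exact hj)⟩
  have hbfix : ∀ u ∈ Subgroup.zpowers y, b u = u := by
    rintro _ ⟨i, rfl⟩
    rw [map_zpow, hby]
  have hbj : ∀ n : ℕ, (b ^ n) z = z * (z⁻¹ * b z) ^ n := by
    intro n
    induction n with
    | zero => simp
    | succ n ih =>
      rw [pow_succ', MulAut.mul_apply, ih, map_mul, map_pow, hbfix _ (hbcom z), pow_succ', ← mul_assoc,
        mul_inv_cancel_left]
  have hbfixn : ∀ (n : ℕ) (e : K), b e = e → (b ^ n) e = e := by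
    intro n e he
    induction n with
    | zero => simp
    | succ n ih => rw [pow_succ', MulAut.mul_apply, ih, he]
  obtain ⟨c, hcdef⟩ : ∃ c, c = (b ^ j)⁻¹ := ⟨_, rfl⟩
  have hcfix : ∀ e, b e = e → c e = e := fun e he => by
    conv_lhs => rw [← hbfixn j e he, hcdef]
    exact MulAut.inv_apply_self _ _ _
  have hcz : c z = z * y⁻¹ := by
    have h : (b ^ j) (z * y⁻¹) = z := by
      rw [map_mul, map_inv, hbfixn j y hby, hbj, hj, mul_inv_cancel_right]
    conv_lhs => rw [← h, hcdef]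
    exact MulAut.inv_apply_self _ _ _
  obtain ⟨γ, hγdef⟩ : ∃ γ, γ = (a * c * a) * (a * c * a) := ⟨_, rfl⟩
  have hc : c ∈ A := hcdef ▸ A.inv_mem (A.pow_mem hb j)
  have hγ : γ ∈ A := hγdef ▸ A.mul_mem (A.mul_mem (A.mul_mem ha hc) ha) (A.mul_mem (A.mul_mem ha hc) ha)
  have hδz : (a * c * a) z = y⁻¹ := by
    show a (c (a z)) = _
    rw [haz, hcz, map_mul, map_inv, haz, hay, mul_inv_rev, mul_inv_cancel_left]
  have hδy : (a * c * a) y = z := by
    show a (c (a y)) = _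
    rw [hay, map_mul, hcfix y hby, hcz, mul_left_comm, mul_inv_cancel, mul_one, haz]
  have hγy : γ y = y⁻¹ := by rw [hγdef, MulAut.mul_apply, hδy, hδz]
  have hγz : γ z = z⁻¹ := by rw [hγdef, MulAut.mul_apply, hδz, map_inv, hδy]
  refine ⟨γ, hγ, fun e => ?_, fun u hu => ?_⟩
  · obtain ⟨i, hi⟩ := hzx.ge (hacom e)
    obtain ⟨h, hh⟩ : ∃ h, h = e * (y ^ i)⁻¹ := ⟨_, rfl⟩
    have hha : a h = h := by
      rw [hh, map_mul, map_inv, map_zpow, hay, mul_zpow, show a e = e * z ^ i by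
        rw [show z ^ i = e⁻¹ * a e from hi, mul_inv_cancel_left], mul_inv_rev, mul_assoc,
        mul_inv_cancel_left]
    obtain ⟨k, hk⟩ : ∃ k : ℤ, (z⁻¹ * b z) ^ k = h⁻¹ * b h := by
      obtain ⟨m, hm⟩ := hbcom h
      exact ⟨j * m, by rw [zpow_mul, zpow_natCast, hj]; exact hm⟩
    obtain ⟨h', hh'⟩ : ∃ h', h' = h * (z ^ k)⁻¹ := ⟨_, rfl⟩
    have hh'b : b h' = h' := by
      have e1 : b h = h * (z⁻¹ * b z) ^ k := by rw [hk, mul_inv_cancel_left]
      rw [hh', map_mul, map_inv, map_zpow, e1, mul_zpow, inv_zpow]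
      calc h * ((z ^ k)⁻¹ * (b z) ^ k) * ((b z) ^ k)⁻¹ = h * (z ^ k)⁻¹ := by rw [← mul_assoc, mul_inv_cancel_right]
        _ = _ := rfl
    have hh'a : a h' = h' := by rw [hh', map_mul, map_inv, map_zpow, hha, haz]
    have hγh : γ h' = h' := by
      have h3 : (a * c * a) h' = h' := by
        show a (c (a h')) = _
        rw [hh'a, hcfix _ hh'b, hh'a]
      rw [hγdef, MulAut.mul_apply, h3, h3]
    have he : e = h' * z ^ k * y ^ i := by rw [hh', inv_mul_cancel_right, hh, inv_mul_cancel_right]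
    rw [he]
    simp only [map_mul, map_zpow, map_inv, hh'a, hγh, haz, hay, hγy, hγz, mul_inv, mul_zpow, inv_zpow]
  · obtain ⟨i, rfl⟩ := hzx.ge hu
    rw [map_zpow, hγz, inv_zpow]

theorem exists_inversion_of_sylow [Finite K] (hK : IsPGroup p K) (A : Subgroup (MulAut K))
    (T : Sylow p A) {a : MulAut K} (haA : a ∈ A) {x : K} (hTx : ∀ t ∈ T.toSubgroup, (t : MulAut K) x = x)
    (hax : a x = x) (hacom : ∀ e, e⁻¹ * a e ∈ Subgroup.zpowers x)
    (hox : ∀ u ∈ Subgroup.zpowers x, u ≠ 1 → Subgroup.zpowers u = Subgroup.zpowers x)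
    (hmove : ∃ β ∈ A, a (β x) ≠ β x) :
    ∃ γ ∈ A, (∀ e, γ (a e) = a (γ e)) ∧ ∀ u ∈ Subgroup.zpowers x, γ u = u⁻¹ := by
  by_contra hno
  have : Finite (MulAut K) := Finite.of_injective (fun f : MulAut K => (f : K → K)) DFunLike.coe_injective
  obtain ⟨N, hN, hNp, haN⟩ : ∃ N : Subgroup A, N.Normal ∧ IsPGroup p N ∧ (⟨a, haA⟩ : A) ∈ N := by
    refine CfsgLib.Involutions.exists_normal_isPGroup_of_mem fun g => ?_
    let g' : MulAut K := g
    have hbcom : ∀ e, e⁻¹ * (g' * a * g'⁻¹) e ∈ Subgroup.zpowers (g' x) := fun e => by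
      obtain ⟨i, hi⟩ := hacom (g'⁻¹ e)
      refine ⟨i, ?_⟩
      show (g' x) ^ i = e⁻¹ * g' (a (g'⁻¹ e))
      rw [← map_zpow, show x ^ i = (g'⁻¹ e)⁻¹ * a (g'⁻¹ e) from hi, map_mul, map_inv, MulAut.apply_inv_self]
    have hbc : (g' * a * g'⁻¹) (g' x) = g' x := by
      show g' (a (g'⁻¹ (g' x))) = g' x
      rw [MulAut.inv_apply_self, hax]
    have hp' : IsPGroup p (Subgroup.closure ({a, g' * a * g'⁻¹} : Set (MulAut K))) := by
      by_cases hc : a (g' x) = g' x
      · exact isPGroup_pair hK hax hc hbc hacom hbcom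
      · by_cases hc' : a (g'⁻¹ x) = g'⁻¹ x
        · rw [Set.pair_comm]
          refine isPGroup_pair hK hbc ?_ hax hbcom hacom
          show g' (a (g'⁻¹ x)) = x
          rw [hc', MulAut.apply_inv_self]
        · exact absurd (exists_inversion A haA g.2 hax hacom hox hc' hc) hno
    have hm : (Subgroup.closure ({⟨a, haA⟩, g * ⟨a, haA⟩ * g⁻¹} : Set A)).map A.subtype =
        Subgroup.closure ({a, g' * a * g'⁻¹} : Set (MulAut K)) := by
      rw [MonoidHom.map_closure, Set.image_pair]; rfl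
    rw [← hm] at hp'
    exact hp'.of_equiv (Subgroup.equivMapOfInjective _ A.subtype A.subtype_injective).symm
  obtain ⟨β, hβ, hβx⟩ := hmove
  have hNT : N ≤ T.toSubgroup := hNp.le_sylow_of_normal T
  have h := hN.conj_mem _ haN (⟨β, hβ⟩ : A)⁻¹
  have h' := hTx _ (hNT h)
  refine hβx ?_
  have h'' := congrArg β h'
  simp only [inv_inv, Subgroup.coe_mul, Subgroup.coe_inv, MulAut.mul_apply, MulAut.apply_inv_self] at h''
  exact h''

end CfsgLib.Fusion.Transvection
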