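import Cfsg.Agent.Lib.Fusion.Invariant
import Cfsg.Agent.Lib.Fusion.PIndex

/-!
# Subsystems of `p`-power index in an invariantly embedded system

Let `G ≤ F` be a system whose automorphism groups on the subgroups of a strongly closed `T` are carried
into one another by the maps of `F`. A saturated subsystem over `T` of `p`-power index in `G` is then
invariant in `F`.
-/

set_option autoImplicit false

namespace CfsgLib.Fusion

open Cfsg Cfsg.FusionSystem CfsgLib.FusionNormal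

/-- An element of a normal subgroup is a product of an element of its `p`-residual and one of a Sylow subgroup. -/
theorem exists_residual_mul_sylow {A : Type*} [Group A] [Finite A] {p : ℕ} [Fact p.Prime] (R : Sylow p A)
    (N : Subgroup A) [N.Normal] {e : A} (he : e ∈ N) :
    ∃ r ∈ (pResidual p N).map N.subtype, ∃ s ∈ (R : Subgroup A) ⊓ N, e = r * s := by
  obtain ⟨T, hT⟩ := exists_sylow_inf R N
  haveI := CfsgLib.Transfer.pResidual_normal (G := N) (p := p)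
  have htop : pResidual p N ⊔ T.toSubgroup = ⊤ :=
    CfsgLib.Transfer.eq_top_of_pResidual_le le_sup_left fun hd =>
      T.not_dvd_index (hd.trans (Subgroup.index_dvd_of_le le_sup_right))
  have hmem : (⟨e, he⟩ : N) ∈ pResidual p N ⊔ T.toSubgroup := htop ▸ Subgroup.mem_top _
  rw [Subgroup.mem_sup_of_normal_left] at hmem
  obtain ⟨a, ha, b, hb, hab⟩ := hmem
  exact ⟨a, ⟨a, ha, rfl⟩, b, hT.le hb, (congrArg Subtype.val hab).symm⟩

variable {Ω : Type*} [Group Ω] {S C T : Subgroup Ω} {F : FusionSystem S} {G : FusionSystem C}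
variable {E : FusionSystem T} {P Q : Subgroup Ω}

/-- The maps of `F` carry automorphism groups of `G` on subgroups of `T` into one another. -/
def AutInvariant (F : FusionSystem S) (G : FusionSystem C) (T : Subgroup Ω) : Prop :=
  ∀ (P R : Subgroup Ω) (θ : P →* Ω) (e : P ≃* R), P ≤ T → R ≤ T → θ ∈ F.Hom P →
    (∀ x : P, ((e x : R) : Ω) = θ x) → ∀ a ∈ G.autGroup P, MulAut.congr e a ∈ G.autGroup R

/-- Invariance under `Aut_F(T)`. -/
def InvariantUnder (F : FusionSystem S) (E : FusionSystem T) : Prop :=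
  ∀ (P : Subgroup Ω) (hPT : P ≤ T) (φ : P →* Ω), φ ∈ E.Hom P → ∀ α ∈ F.autGroup T,
    ∃ χ ∈ E.Hom ((P.subgroupOf T).map (T.subtype.comp α.toMonoidHom)),
      ∀ (x : P) (hφx : φ x ∈ T)
        (hαx : ((α ⟨x, hPT x.2⟩ : T) : Ω) ∈ (P.subgroupOf T).map (T.subtype.comp α.toMonoidHom)),
        χ ⟨(α ⟨x, hPT x.2⟩ : T), hαx⟩ = ((α ⟨φ x, hφx⟩ : T) : Ω)

/-- These maps form a system over `T`. -/
def invFrattiniSystem (hT : F.StronglyClosed T) (hinv : InvariantUnder F E) : FusionSystem T where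
  Hom := frattiniHom F E
  le_of_mem := by
    rintro P φ ⟨-, hP, α, -, φ₀, hφ₀, he⟩
    exact ⟨hP, fun x => by rw [he x (apply_mem_S hφ₀ x)]; exact Subtype.mem _⟩
  injective_of_mem h := F.injective_of_mem h.1
  conj_mem := fun {P g} hP hg =>
    ⟨F.conj_mem (hP.trans hT.1) (hT.1 hg), hP, 1, Subgroup.one_mem _, _, E.conj_mem hP hg, fun x _ => rfl⟩
  comp_mem := by
    rintro P Q φ ψ ⟨hφ, hP, α, hα, φ₀, hφ₀, hφe⟩ ⟨hψ, hQ, β, hβ, ψ₀, hψ₀, hψe⟩ hm
    obtain ⟨χ, hχ, hχe⟩ := hinv Q hQ ψ₀ hψ₀ α⁻¹ (Subgroup.inv_mem _ hα)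
    have hval : ∀ x : P, φ₀ x = ((α⁻¹ ⟨φ x, hQ (hm x)⟩ : T) : Ω) := fun x => by
      have e : (⟨φ x, hQ (hm x)⟩ : T) = α ⟨φ₀ x, apply_mem_S hφ₀ x⟩ := Subtype.ext (hφe x _)
      rw [e, MulAut.inv_apply_self]
    have hmem : ∀ x : P, φ₀ x ∈ (Q.subgroupOf T).map (T.subtype.comp (α⁻¹ : MulAut T).toMonoidHom) :=
      fun x => ⟨⟨φ x, hQ (hm x)⟩, hm x, (hval x).symm⟩
    obtain ⟨μ, hμ, hμe⟩ := exists_comp hφ₀ hχ hmem
    refine ⟨F.comp_mem hφ hψ hm, hP, β * α, Subgroup.mul_mem _ hβ hα, μ, hμ, fun x hx => ?_⟩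
    show ψ ⟨φ x, hm x⟩ = _
    rw [hψe _ (apply_mem_S hψ₀ _), MulAut.mul_apply]
    congr 2
    have h2 : μ x = ((α⁻¹ ⟨ψ₀ ⟨φ x, hm x⟩, apply_mem_S hψ₀ _⟩ : T) : Ω) := by
      rw [hμe, ← hχe ⟨φ x, hm x⟩ (apply_mem_S hψ₀ _) (hval x ▸ hmem x)]
      exact apply_eq_of_coe_eq (hval x)
    have h3 : (⟨μ x, hx⟩ : T) = α⁻¹ ⟨ψ₀ ⟨φ x, hm x⟩, apply_mem_S hψ₀ _⟩ := Subtype.ext h2
    rw [h3, MulAut.apply_inv_self]
  inv_mem := by
    rintro P φ ⟨hφ, hP, α, hα, φ₀, hφ₀, hφe⟩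
    obtain ⟨ψ, hψ, hψe⟩ := F.inv_mem hφ
    obtain ⟨ψ₀, hψ₀, hψ₀e⟩ := E.inv_mem hφ₀
    obtain ⟨χ, hχ, hχe⟩ := hinv _ (range_le_S hφ₀) ψ₀ hψ₀ α hα
    have hle : φ.range ≤ (φ₀.range.subgroupOf T).map (T.subtype.comp α.toMonoidHom) := by
      rintro _ ⟨x, rfl⟩
      exact ⟨⟨φ₀ x, apply_mem_S hφ₀ x⟩, ⟨x, rfl⟩, (hφe x _).symm⟩
    refine ⟨ψ, ⟨hψ, ?_, α⁻¹, Subgroup.inv_mem _ hα, _, restrict_mem hle hχ, ?_⟩, hψe⟩
    · rintro _ ⟨x, rfl⟩
      rw [hφe x (apply_mem_S hφ₀ x)]; exact Subtype.mem _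
    · rintro ⟨_, x, rfl⟩ hx
      rw [hψe]
      have hz : φ₀ x ∈ φ₀.range := ⟨x, rfl⟩
      have h1 : (χ.comp (Subgroup.inclusion hle)) ⟨φ x, x, rfl⟩ = ((α ⟨x, hP x.2⟩ : T) : Ω) := by
        refine Eq.trans (apply_eq_of_coe_eq (φ := χ)
          (y := ⟨((α ⟨φ₀ x, apply_mem_S hφ₀ x⟩ : T) : Ω), hφe x (apply_mem_S hφ₀ x) ▸ hle ⟨x, rfl⟩⟩)
          (hφe x (apply_mem_S hφ₀ x))) ?_
        refine Eq.trans (hχe ⟨φ₀ x, hz⟩ (apply_mem_S hψ₀ _) (hφe x (apply_mem_S hφ₀ x) ▸ hle ⟨x, rfl⟩)) ?_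
        congr 2
        exact Subtype.ext (hψ₀e x)
      have h2 : (⟨_, hx⟩ : T) = α ⟨x, hP x.2⟩ := Subtype.ext h1
      rw [h2, MulAut.inv_apply_self]

theorem le_invPart_of_relative {p : ℕ} [Fact p.Prime] [Finite S] (hS : IsPGroup p S) (hTS : T ≤ S)
    (hTC : T ≤ C) (htr : AutInvariant F G T) (hE : E.IsSaturated p) (hEi : E.HasPPowerIndexIn G p) :
    E ≤ invPart F E := by
  have := finite_of_le hTS
  refine alperin (hS.to_le hTS) hE _ fun P hP => ?_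
  obtain ⟨hPT, hPa⟩ : P ≤ T ∧ E.IsFullyAutomized p P := by
    rcases hP with rfl | hP
    · exact ⟨le_rfl, ((saturated_iff_top_and_receptive (hS.to_le hTS)).mp hE).1⟩
    · exact ⟨hP.1.1, (fullyNormalized_good (hS.to_le hTS) hE hP.2.1).1⟩
  intro α hα
  obtain ⟨a, haR, g, hg, b, rfl, hb⟩ := FullyAutomized.exists_mul hPa hα
  refine Subgroup.mul_mem _ ?_ ((mem_autGroup hPT).mpr (mem_of_conj hPT hg fun x => hb x))
  refine (mem_autGroup hPT).mpr ⟨(mem_autGroup hPT).mp a.2, fun β hβ hβT R hR => ?_⟩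
  obtain ⟨θ, hθ, hθe⟩ := hβ.mono hPT
  have hθr : θ.range = R := SetLike.coe_injective (by rw [← MapFn.image_eq_range hθe, hR])
  obtain ⟨e, he⟩ := exists_equiv hθ hθr
  have hRT : R ≤ T := fun y hy => by
    obtain ⟨x, hx, rfl⟩ := exists_of_image hR hy
    exact hβT x (hPT hx)
  obtain ⟨a', ha'R, ha'⟩ := residual_le_of_subsystem hEi.1 hPT haR
  let f : G.autGroup P →* G.autGroup R :=
    ((MulAut.congr e).toMonoidHom.comp (G.autGroup P).subtype).codRestrict _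
      fun a => htr P R θ e hPT hRT hθ he a a.2
  obtain ⟨χ, hχ, -, hχe⟩ := exists_mapFn_of_aut hRT
    (mem_autGroup_of_residual hEi hRT (CfsgLib.Transfer.map_pResidual_le f ⟨a', ha'R, rfl⟩))
  refine ⟨χ, hχ, fun x => ?_⟩
  show χ (β x) = β (((a : MulAut P) x : P) : Ω)
  rw [← hθe, ← hθe, ← he, ← he, hχe]
  show ((e ((a' : MulAut P) (e.symm (e x))) : R) : Ω) = _
  rw [MulEquiv.symm_apply_apply, ha']

theorem invariantUnder_of_relative {p : ℕ} [Fact p.Prime] [Finite S] (hS : IsPGroup p S)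
    (hT : F.StronglyClosed T) (hTC : T ≤ C) (htr : AutInvariant F G T) (hE : E.IsSaturated p)
    (hEi : E.HasPPowerIndexIn G p) : InvariantUnder F E := by
  intro P hPT φ hφ α hα
  obtain ⟨b, hb, hbr, hbe⟩ := exists_mapFn_of_aut hT.1 hα
  have hR : b '' P = (((P.subgroupOf T).map (T.subtype.comp α.toMonoidHom) : Subgroup Ω) : Set Ω) := by
    ext y
    constructor
    · rintro ⟨x, hx, rfl⟩
      exact ⟨⟨x, hPT hx⟩, hx, (hbe ⟨x, hPT hx⟩).symm⟩
    · rintro ⟨x, hx, rfl⟩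
      exact ⟨x, hx, hbe x⟩
  obtain ⟨-, h⟩ := le_invPart_of_relative hS hT.1 hTC htr hE hEi P hφ
  obtain ⟨g, ⟨χ, hχ, hχe⟩, hge⟩ := h b hb (fun x hx => mem_of_image hbr hx) _ hR
  refine ⟨χ, hχ, fun x hφx hαx => ?_⟩
  rw [hχe, ← hbe ⟨φ x, hφx⟩, ← hbe ⟨x, hPT x.2⟩, hge x]

variable [Finite S] {p : ℕ} [Fact p.Prime]

/-- Strong invariance gives the Frattini condition. -/
theorem frattini_of_relative (hS : IsPGroup p S) (hF : F.IsSaturated p) (hE : E.IsSubsystemOf F)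
    (hT : F.StronglyClosed T) (hinv : InvariantUnder F E) (hTC : T ≤ C)
    (htr : AutInvariant F G T) (hGF : G.IsSubsystemOf F) (hEi : E.HasPPowerIndexIn G p) (hP : P ≤ T) {φ : P →* Ω}
    (hφ : φ ∈ F.Hom P) : φ ∈ frattiniHom F E P := by
  suffices H : ∀ (n : ℕ) (P : Subgroup Ω), Nat.card T - Nat.card P < n → P ≤ T →
      F.Hom P ⊆ (invFrattiniSystem hT hinv).Hom P from H _ P (Nat.lt_succ_self _) hP hφ
  intro n
  induction n with
  | zero => intro P hn; omega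
  | succ n ih =>
  intro P hn hP φ hφ
  set D := invFrattiniSystem hT hinv
  have hPS := hP.trans hT.1
  have : Finite T := finite_of_le hT.1
  have hφT : ∀ x : P, φ x ∈ T := hT.2 P hP φ hφ
  by_cases hPT : P = T
  · subst hPT
    obtain ⟨α, hα, hαe⟩ := exists_aut hφ (range_eq_of_card_le hφ hT.1 hφT le_rfl)
    exact ⟨hφ, le_rfl, α, hα, _, subtype_mem le_rfl, fun x hx => (hαe x).symm⟩
  have hlt : P < T := lt_of_le_of_ne hP hPT
  obtain ⟨Q, hQc, hQn⟩ := exists_fullyNormalized (F := F) hPS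
  obtain ⟨hQa, hQr⟩ := fullyNormalized_good hS hF hQn
  have hcardQ : Nat.card Q = Nat.card P := IsConj.card_eq hQc
  have hQT : Q ≤ T := by
    obtain ⟨θ, hθ, rfl⟩ := hQc
    rintro _ ⟨x, rfl⟩; exact hT.2 P hP θ hθ x
  have hgrow : ∀ {A B : Subgroup Ω}, B ≤ T → A < B → Nat.card A = Nat.card P → F.Hom B ⊆ D.Hom B := by
    intro A B hB hAB hcard
    refine ih B ?_ hB
    have := finite_of_le (hB.trans hT.1)
    have h1 : Nat.card A < Nat.card B :=
      lt_of_not_ge fun hge => hAB.ne (eq_of_le_of_card_le hAB.le hge)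
    have h2 : Nat.card B ≤ Nat.card T := Subgroup.card_le_of_le hB
    omega
  have hstep : ∀ R : Subgroup Ω, R ≤ T → F.IsConj R Q →
      ∃ θ, θ ∈ D.Hom R ∧ θ ∈ F.Hom R ∧ θ.range = Q := by
    intro R hRT hR
    obtain ⟨χ, hχ, -, hχR⟩ := exists_normalizer_hom hS hQa hQr hR
    have hcardR : Nat.card R = Nat.card P := (IsConj.card_eq hR).symm.trans hcardQ
    have hRlt : R < T := lt_of_le_of_ne hRT fun he => hPT <| eq_of_le_of_card_le hP (by rw [← hcardR, he])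
    have hle : normalizerIn T R ≤ normalizerIn S R := inf_le_inf_right _ hT.1
    have hD := hgrow (normalizerIn_le (S := T)) (lt_normalizerIn hS hT.1 hRlt) hcardR (restrict_mem hle hχ)
    obtain ⟨θ, hθ, hθr, hθe⟩ := exists_restrict hχ ((le_normalizerIn hRT).trans hle) hχR
    exact ⟨θ, restrict_of (le_normalizerIn hRT) hD hθe, hθ, hθr⟩
  have hP'T : φ.range ≤ T := by rintro _ ⟨x, rfl⟩; exact hφT x
  obtain ⟨θ₁, hθ₁D, hθ₁, hθ₁r⟩ := hstep P hP hQc
  obtain ⟨θ₂, hθ₂D, hθ₂, hθ₂r⟩ := hstep φ.range hP'T (isConj_trans (isConj_symm ⟨φ, hφ, rfl⟩) hQc)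
  obtain ⟨θi, hθi, hθir, hθi₁, -⟩ := exists_inv hθ₁ hθ₁r
  obtain ⟨θj, hθjD, hθjr, hθj₁, -⟩ := exists_inv hθ₂D hθ₂r
  obtain ⟨μ, hμ, hμe⟩ := exists_comp hθi hφ fun y => hθir.le ⟨y, rfl⟩
  obtain ⟨ν, hν, hνe⟩ := exists_comp hμ hθ₂ fun y => by rw [hμe]; exact ⟨_, rfl⟩
  obtain ⟨α, hα, hαe⟩ := exists_aut hν (range_eq_of_card_le hν hQn.1 (fun y => by
    rw [hνe]; exact hθ₂r.le ⟨_, rfl⟩) le_rfl)
  -- `Aut_F(Q)` lies in `D`
  have hαD : α ∈ D.autGroup Q := by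
    have := finite_mulAut hQn.1
    obtain ⟨-, R, hR⟩ := hQa
    have hQC : Q ≤ C := hQT.trans hTC
    have hGle : G.autGroup Q ≤ F.autGroup Q := fun a ha =>
      (mem_autGroup hQn.1).mpr (hGF Q ((mem_autGroup hQC).mp ha))
    set N := (G.autGroup Q).subgroupOf (F.autGroup Q)
    haveI : N.Normal := by
      refine ⟨fun a ha b => ?_⟩
      exact htr Q Q _ (b : MulAut Q) hQT hQT ((mem_autGroup hQn.1).mp b.2) (fun x => rfl) _ ha
    obtain ⟨k, hk, e, he, hke⟩ := exists_mul_of_normal R N ⟨α, hα⟩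
    have hkD : (k : MulAut Q) ∈ D.autGroup Q := by
      obtain ⟨κ, hκ, hκr, hκe⟩ := exists_map_of_mem_autGroup hQn.1 k.2
      have hQlt : Q < T := lt_of_le_of_ne hQT fun he' => hPT <| eq_of_le_of_card_le hP (by rw [← hcardQ, he'])
      have hN : normalizerIn T Q ≤ extender S Q κ := by
        rintro g ⟨hgT, hgN⟩
        obtain ⟨c, hc, hce⟩ := exists_autInducedBy (K := T) hgT hgN
        have hcE : c ∈ G.autGroup Q := autInducedBy_le_autGroup hQC (autInducedBy_mono hTC Q hc)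
        have hcS : c ∈ autInducedBy S Q := autInducedBy_mono hT.1 Q hc
        have hm : (⟨c, autInducedBy_le_autGroup hQn.1 hcS⟩ : F.autGroup Q) ∈ R.toSubgroup ⊓ N :=
          ⟨hR.ge hcS, hcE⟩
        obtain ⟨s, hs, hse⟩ := mem_autInducedBy.mp (hR.le ((Subgroup.mem_normalizer_iff.mp hk _).mp hm).1)
        refine mem_extender.mpr ⟨hT.1 hgT, hgN, s, hs, fun x hx => ?_⟩
        rw [hκe, hκe, ← hse]
        simp [← hce x]
      obtain ⟨ρ, hρ, hρe⟩ := exists_extension hQr hκ hκr (le_normalizerIn hQT) hN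
      have hρD := hgrow (normalizerIn_le (S := T)) (lt_normalizerIn hS hT.1 hQlt) hcardQ hρ
      exact (mem_autGroup hQT).mpr (restrict_of (le_normalizerIn hQT) hρD fun x => ((hρe x).trans (hκe x)).symm)
    have heD : (e : MulAut Q) ∈ D.autGroup Q := by
      obtain ⟨r, hr, s, hs, hrs⟩ := exists_residual_mul_sylow R N he
      have hrE : (r : MulAut Q) ∈ D.autGroup Q := by
        have hf : ∀ x : N, ((x : F.autGroup Q) : MulAut Q) ∈ G.autGroup Q := fun x => x.2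
        let f : N →* G.autGroup Q :=
          ((F.autGroup Q).subtype.comp N.subtype).codRestrict _ hf
        obtain ⟨r₀, hr₀, rfl⟩ := hr
        have hE : (r₀ : MulAut Q) ∈ E.autGroup Q :=
          mem_autGroup_of_residual hEi hQT (CfsgLib.Transfer.map_pResidual_le f ⟨r₀, hr₀, rfl⟩)
        exact (mem_autGroup hQT).mpr ⟨(mem_autGroup hQn.1).mp (N.subtype r₀).2, hQT, 1, Subgroup.one_mem _, _,
          (mem_autGroup hQT).mp hE, fun x hx => rfl⟩
      have hsD : (s : MulAut Q) ∈ D.autGroup Q := by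
        obtain ⟨g, hg, hge⟩ := mem_autInducedBy.mp (hR.le hs.1 : (s : MulAut Q) ∈ autInducedBy S Q)
        obtain ⟨γ, hγ, hγe⟩ := exists_autInducedBy (P := T) hg (StronglyClosed.le_normalizer hT hg)
        exact (mem_autGroup hQT).mpr ⟨(mem_autGroup hQn.1).mp s.2, hQT, γ, autInducedBy_le_autGroup hT.1 hγ,
          Q.subtype, subtype_mem hQT, fun x hx => (hge x).trans (hγe ⟨x, hx⟩).symm⟩
      rw [hrs]
      exact Subgroup.mul_mem _ hrE hsD
    have hα' : α = (k : MulAut Q) * (e : MulAut Q) := congrArg Subtype.val hke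
    exact hα' ▸ Subgroup.mul_mem _ hkD heD
  obtain ⟨φ₁, hφ₁, hφ₁e⟩ := exists_comp hθ₁D ((mem_autGroup hQT).mp hαD) fun x => hθ₁r.le ⟨x, rfl⟩
  refine comp_of hφ₁ hθjD (fun x => by rw [hφ₁e]; exact Subtype.mem _) fun x => ?_
  have h1 : φ₁ x = θ₂ ⟨φ x, ⟨x, rfl⟩⟩ := by
    rw [hφ₁e, autMap_apply, hαe, hνe]
    refine apply_eq_of_coe_eq ?_
    show μ _ = φ x
    rw [hμe]
    exact apply_eq_of_coe_eq (hθi₁ x _)
  rw [eq_comm]
  exact (apply_eq_of_coe_eq (φ := θj) h1).trans (hθj₁ ⟨φ x, ⟨x, rfl⟩⟩ (hθ₂r.le ⟨_, rfl⟩))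

/-- A subsystem of `p`-power index in an invariantly embedded system is invariant. -/
theorem isWeaklyNormalIn_of_relative (hS : IsPGroup p S) (hF : F.IsSaturated p) (hT : F.StronglyClosed T)
    (hTC : T ≤ C) (htr : AutInvariant F G T) (hGF : G.IsSubsystemOf F) (hE : E.IsSaturated p)
    (hEi : E.HasPPowerIndexIn G p) : E.IsWeaklyNormalIn F p :=
  have hsub : E.IsSubsystemOf F := fun P _ hφ => hGF P (hEi.1 P hφ)
  have hinv := invariantUnder_of_relative hS hT hTC htr hE hEi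
  ⟨hE, hF, hsub, hT, hinv, fun _ hP _ hφ =>
    (frattini_of_relative hS hF hsub hT hinv hTC htr hGF hEi hP hφ).2.2⟩

end CfsgLib.Fusion
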