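import Cfsg.Agent.Lib.Fusion.ResidualLimit
import Cfsg.Agent.Lib.Fusion.PPrimeCharacter
import Cfsg.Agent.Lib.Fusion.Extend
import Cfsg.Agent.S5203
import Mathlib.GroupTheory.Nilpotent

/-!
# Descent to the automorphisms of a normal subsystem

For `E` weakly normal in `F` over `T` with `p`-solvable `Aut_F(T) / Aut_E(T)`, a chain of weakly
normal subsystems with the same residual limit ends at one with automorphism group `Aut_E(T)` on `T`.
-/

namespace CfsgLib.Fusion.ResLimit

open Cfsg Cfsg.FusionSystem CfsgLib.Fusion CfsgLib.FusionNormal CfsgLib.Fusion.PPrimeRes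
open scoped commutatorElement

universe u

variable {Ω : Type u} [Group Ω] {S T U : Subgroup Ω} {p : ℕ} [Fact p.Prime]

/-! ### Groups -/

/-- A normal subgroup below `A` with `p`- or `p'`-quotient. -/
theorem exists_intermediate {G : Type*} [Group G] {K A : Subgroup G} [K.Normal] [A.Normal]
    (hne : ¬ A ≤ K) (hs : IsPSolvable p (G ⧸ K)) :
    ∃ H : Subgroup G, H.Normal ∧ K ≤ H ∧ ¬ A ≤ H ∧
      ((∃ m, H.relIndex A = p ^ m) ∨ (H.relIndex A).Coprime p) := by
  obtain ⟨n, L, h0, hlast, hmono, hnorm, hidx⟩ := hs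
  let M : Fin (n + 1) → Subgroup G := fun i => (L i).comap (QuotientGroup.mk' K)
  have hM0 : M 0 = K := by
    show (L 0).comap _ = K
    rw [h0, MonoidHom.comap_bot, QuotientGroup.ker_mk']
  obtain ⟨i, hi₁, hi₂⟩ : ∃ i : Fin n, ¬ A ≤ M i.castSucc ∧ A ≤ M i.succ := by
    by_contra hall
    push Not at hall
    have h : ∀ i : Fin (n + 1), ¬ A ≤ M i := fun i =>
      Fin.induction (motive := fun i => ¬ A ≤ M i) (hM0 ▸ hne) (fun i hi => hall i hi) i
    exact h (Fin.last n) (by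
      show A ≤ (L _).comap _
      rw [hlast, Subgroup.comap_top]
      exact le_top)
  set N := M i.castSucc
  have hN : N.Normal := (hnorm _).comap _
  have hNM : N ≤ M i.succ := Subgroup.comap_mono (hmono (Fin.castSucc_le_succ i))
  have hKN : K ≤ N := fun x hx => by
    show QuotientGroup.mk' K x ∈ L _
    rw [(QuotientGroup.eq_one_iff x).mpr hx |> fun h => (show QuotientGroup.mk' K x = 1 from h)]
    exact Subgroup.one_mem _
  have hdvd : N.relIndex A ∣ (L i.castSucc).relIndex (L i.succ) := by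
    have h1 := Subgroup.relIndex_mul_relIndex (H := N) (K := A ⊔ N) (L := M i.succ) le_sup_right
      (sup_le hi₂ hNM)
    rw [Subgroup.relIndex_sup_right] at h1
    have h2 : N.relIndex (M i.succ) = (L i.castSucc).relIndex (L i.succ) := by
      show ((L i.castSucc).comap _).relIndex _ = _
      rw [Subgroup.relIndex_comap, Subgroup.map_comap_eq_self_of_surjective (QuotientGroup.mk'_surjective K)]
    exact h2 ▸ Dvd.intro _ h1
  refine ⟨N, hN, hKN, hi₁, ?_⟩
  rcases hidx i with ⟨m, hm⟩ | hc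
  · left
    obtain ⟨j, -, hj⟩ := (Nat.dvd_prime_pow (Fact.out : p.Prime)).mp (hm ▸ hdvd)
    exact ⟨j, hj⟩
  · exact .inr (Nat.Coprime.coprime_dvd_left hdvd hc)

/-- A proper normal subgroup of `p`-power index lies in a proper one with abelian quotient. -/
theorem exists_commutator_le {G : Type*} [Group G] [Finite G] {K : Subgroup G} [K.Normal]
    (hK : K ≠ ⊤) {m : ℕ} (hidx : K.index = p ^ m) :
    ∃ L : Subgroup G, K ≤ L ∧ commutator G ≤ L ∧ L ≠ ⊤ ∧ L.index ∣ p ^ m := by
  refine ⟨K ⊔ commutator G, le_sup_left, le_sup_right, fun htop => ?_,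
    hidx ▸ Subgroup.index_dvd_of_le le_sup_left⟩
  have hcard : Nat.card (G ⧸ K) = p ^ m := hidx ▸ (Subgroup.index_eq_card K).symm
  have := (IsPGroup.of_card hcard).isNilpotent
  have : Nontrivial (G ⧸ K) := by
    rw [← Finite.one_lt_card_iff_nontrivial, ← Subgroup.index_eq_card]
    exact Subgroup.one_lt_index_of_ne_top hK
  refine (Group.IsSolvable.commutator_lt_top_of_nontrivial (G := G ⧸ K)).ne ?_
  have h1 := congrArg (Subgroup.map (QuotientGroup.mk' K)) htop
  rw [Subgroup.map_sup, QuotientGroup.map_mk'_self, bot_sup_eq,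
    Subgroup.map_top_of_surjective _ (QuotientGroup.mk'_surjective K), commutator_def,
    Subgroup.map_commutator, Subgroup.map_top_of_surjective _ (QuotientGroup.mk'_surjective K)] at h1
  rw [commutator_def]
  exact h1

/-! ### The states -/

/-- A weakly normal subsystem containing `E` and `C_S(T)` with the residual limit of `F`. -/
structure State (p : ℕ) (F : FusionSystem S) (E : FusionSystem T) (X : FusionSystem U) : Prop where
  wn : X.IsWeaklyNormalIn F p
  base : T ⊔ centralizerIn S T ≤ U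
  sub : E.IsSubsystemOf X
  lim : ∀ {V W : Subgroup Ω} (A : FusionSystem V) (B : FusionSystem W), A.IsResidualLimitOf F p →
    B.IsResidualLimitOf X p → ∀ P, B.Hom P = A.Hom P

variable [Finite S] {F : FusionSystem S} {E : FusionSystem T} {X : FusionSystem U}

theorem State.sandwich (hS : IsPGroup p S) (h : State p F E X) {U' : Subgroup Ω}
    {X' : FusionSystem U'} (hX' : X'.IsWeaklyNormalIn X p)
    (hstep : ∀ (H : Subgroup Ω) (D D' : FusionSystem H), H = X.hyperfocalSubgroup p →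
      D.IsSaturated p → D.HasPPowerIndexIn X p → D.IsPPrimeResidual p D' → D'.IsSubsystemOf X')
    {V W : Subgroup Ω} (A : FusionSystem V) (B : FusionSystem W) (hA : A.IsResidualLimitOf F p)
    (hB : B.IsResidualLimitOf X' p) : ∀ P, B.Hom P = A.Hom P := by
  have hUS : U ≤ S := h.wn.2.2.2.1.1
  have := finite_of_le hUS
  obtain ⟨V₀, B₀, hB₀⟩ := exists_limit (hS.to_le hUS) h.wn.1
  exact fun P => (limit_eq_of_sandwich (hS.to_le hUS) hX' hstep hB₀ hB P).trans (h.lim A B₀ hA hB₀ P)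

/-- `E` is weakly normal in every state. -/
theorem State.weaklyNormal (hS : IsPGroup p S) (hE : E.IsWeaklyNormalIn F p) (h : State p F E X) :
    E.IsWeaklyNormalIn X p := by
  have hUS : U ≤ S := h.wn.2.2.2.1.1
  have := finite_of_le hUS
  exact weaklyNormal_of_le (hS.to_le hUS) hE h.wn.1 h.sub h.wn.2.2.1

/-- The step for a `p`-power index. -/
theorem step_pIndex (hS : IsPGroup p S) (hE : E.IsWeaklyNormalIn F p) (h : State p F E X)
    (H : Subgroup (X.autGroup T)) [H.Normal]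
    (hEH : ∀ a : X.autGroup T, (a : MulAut T) ∈ E.autGroup T → a ∈ H) (hH : H ≠ ⊤) {m : ℕ}
    (hidx : H.index = p ^ m) :
    ∃ (U' : Subgroup Ω) (X' : FusionSystem U'), State p F E X' ∧ X'.IsSubsystemOf X ∧
      X'.autGroup T ≠ X.autGroup T := by
  obtain ⟨hXs, hF, hXi⟩ := h.wn
  have hUS : U ≤ S := hXi.2.1.1
  have := finite_of_le hUS
  have hUp := hS.to_le hUS
  have hT : F.StronglyClosed T := hE.2.2.2.1
  have hTS : T ≤ S := hT.1
  have hTU : T ≤ U := le_sup_left.trans h.base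
  have := finite_of_le hTS
  have := finite_mulAut (S := S) hTS
  have hTX : X.StronglyClosed T := (h.weaklyNormal hS hE).2.2.2.1
  have hUn : U ≤ Subgroup.normalizer (T : Set Ω) := FusionExtend.sc_normalizer hTX
  obtain ⟨L, hHL, hcL, hL, hLidx⟩ := exists_commutator_le hH hidx
  -- conjugation on `T`
  let c : U →* X.autGroup T :=
    ((Subgroup.normalizerMonoidHom T).comp (Subgroup.inclusion hUn)).codRestrict _
      fun x => (mem_autGroup hTU).mpr (mem_of_conj hTU x.2 fun t => rfl)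
  have hce : ∀ (x : U) (t : T), ((((c x : X.autGroup T) : MulAut T) t : T) : Ω) =
      (x : Ω) * t * (x : Ω)⁻¹ := fun x t => rfl
  have hcT : ∀ x : U, (x : Ω) ∈ T → c x ∈ L := fun x hx => hHL (hEH _
    ((mem_autGroup le_rfl).mpr (mem_of_conj le_rfl hx fun t => hce x t)))
  have hcC : ∀ x : U, (x : Ω) ∈ centralizerIn S T → c x ∈ L := fun x hx => by
    have h1 : c x = 1 := Subtype.ext (MulEquiv.ext fun t => Subtype.ext (by
      rw [hce, ← (mem_centralizerIn.mp hx).2 t t.2, mul_inv_cancel_right]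
      rfl))
    rw [h1]
    exact L.one_mem
  set U₁ := (L.comap c).map U.subtype with hU₁
  -- the hyperfocal subgroup acts within `L`
  have hhyp : X.hyperfocalSubgroup p ≤ U₁ := by
    rw [FusionSystem.hyperfocalSubgroup, Subgroup.closure_le]
    rintro _ ⟨P, α, x, hP, -, rfl⟩
    set y : U := ⟨((α : MulAut P) x : P), hP (Subtype.mem _)⟩ with hy
    set x' : U := ⟨x, hP x.2⟩ with hx'
    refine ⟨x'⁻¹ * y, ?_, rfl⟩
    show c (x'⁻¹ * y) ∈ L
    obtain ⟨ψ, hψ, hψe⟩ :=
      FusionExtend.exists_congr_extension hUp hXs hTX ((mem_autGroup hP).mp α.2)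
    obtain ⟨f, hf, hfe⟩ := mapFn_of_hom hψ
    have hfT : MapFn X T f := hf.mono le_sup_right
    have hfr : f '' T = (T : Set Ω) := hfT.image_eq_of_maps hTU
      (fun t ht => map_mem_of_sc hTX hfT ht ht) le_rfl
    obtain ⟨γ, hγ, hγe⟩ := hfT.exists_aut hfr
    have hxm : (x : Ω) ∈ P ⊔ T := Subgroup.mem_sup_left x.2
    set z : U := ⟨f x, hf.mem_S hxm⟩ with hz
    have hzy : ((y⁻¹ * z : U) : Ω) ∈ T := by
      have h1 := hψe x
      rw [hfe] at h1
      exact h1
    have hcz : c z = ⟨γ, hγ⟩ * c x' * (⟨γ, hγ⟩ : X.autGroup T)⁻¹ := by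
      rw [eq_mul_inv_iff_mul_eq]
      refine Subtype.ext (MulEquiv.ext fun t => Subtype.ext ?_)
      have htm : (t : Ω) ∈ P ⊔ T := Subgroup.mem_sup_right t.2
      show (((c z : MulAut T) (γ t) : T) : Ω) = ((γ ((c x' : MulAut T) t) : T) : Ω)
      rw [hce, hγe, hγe, hce]
      exact (hf.map_conj hxm htm).symm
    have h2 : c (x'⁻¹ * y) = ⁅(c x')⁻¹, (⟨γ, hγ⟩ : X.autGroup T)⁆ * (c (y⁻¹ * z))⁻¹ := by
      rw [map_mul, map_mul, map_inv, map_inv, hcz, commutatorElement_def]
      group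
    rw [h2]
    exact L.mul_mem (hcL (Subgroup.commutator_mem_commutator (Subgroup.mem_top _) (Subgroup.mem_top _)))
      (L.inv_mem (hcT _ hzy))
  set U' := X.hyperfocalSubgroup p ⊔ (T ⊔ centralizerIn S T) with hU'
  have hU'U : U' ≤ U := sup_le (hyperfocal_le X p) h.base
  have hU'₁ : U' ≤ U₁ := sup_le hhyp (sup_le
    (fun t ht => ⟨⟨t, hTU ht⟩, hcT _ ht, rfl⟩)
    (fun t ht => ⟨⟨t, h.base (Subgroup.mem_sup_right ht)⟩, hcC _ ht, rfl⟩))
  have hkeep : ∀ a : Ω → Ω, MapFn F U a → a '' U = (U : Set Ω) → ∀ x ∈ U', a x ∈ U' := by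
    intro a ha har
    have haT : a '' T = (T : Set Ω) := (ha.mono hTU).image_eq_of_maps hTS
      (fun t ht => map_mem_of_sc hT ha (hTU ht) ht) le_rfl
    exact (ha.mono hU'U).maps_sup
      (fun x hx => Subgroup.mem_sup_left (hyperfocal_map_mem hXi ha har hx))
      ((ha.mono h.base).maps_sup
        (fun x hx => Subgroup.mem_sup_right (Subgroup.mem_sup_left (mem_of_image haT hx)))
        (fun x hx => Subgroup.mem_sup_right (Subgroup.mem_sup_right
          (ha.mem_centralizerIn hTU haT (h.base (Subgroup.mem_sup_right hx)) hx))))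
  have hU'n : (U'.subgroupOf U).Normal := ⟨fun x hx g => by
    have hg := mapFn_conj (F := F) hUS (hUS g.2)
    exact hkeep _ hg (hg.image_eq_of_maps hUS
      (fun y hy => U.mul_mem (U.mul_mem g.2 hy) (U.inv_mem g.2)) le_rfl) _ hx⟩
  obtain ⟨X', hX's, hX'i⟩ := exists_pIndex hUp hXs hU'U le_sup_left
  have := finite_of_le hU'U
  have hU'p := hUp.to_le hU'U
  have hn := (isNormalIn_of_pIndex hUp hXs hU'U hU'n hX's hX'i).1
  have hTU' : T ≤ U' := le_sup_left.trans le_sup_right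
  refine ⟨U', X', ⟨weaklyNormal_pIndex hS h.wn hU'n hX's hX'i hkeep, le_sup_right,
    sub_of_pIndex (hS.to_le hTS) hE.1 h.sub hX'i hTU',
    fun A B hA hB => h.sandwich hS hn (fun K D D' hK hD hDi hD' => ?_) A B hA hB⟩, hX'i.1, fun he => ?_⟩
  · subst hK
    have := finite_of_le (hyperfocal_le X p)
    exact fun P => (hD'.2.1.1 P).trans
      (sub_of_pIndex (hUp.to_le (hyperfocal_le X p)) hD hDi.1 hX'i le_sup_left P)
  -- `T` would have its Sylow group of automorphisms inside `L`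
  have hTn : X'.IsFullyNormalized T := by
    refine ⟨hTU', fun W hW => ?_⟩
    obtain ⟨φ, hφ, hr⟩ := hW
    have hWT : W ≤ T := fun y hy => by
      obtain ⟨x, rfl⟩ := hr.ge hy
      exact hTX.2 T le_rfl φ (hX'i.1 T hφ) x
    rw [eq_of_le_of_card_le hWT (IsConj.card_eq ⟨φ, hφ, hr⟩).ge]
  obtain ⟨-, R, hR⟩ := (fullyNormalized_good hU'p hX's hTn).1
  have hle : autInducedBy U' T ≤ L.map (X.autGroup T).subtype := by
    intro α hα
    obtain ⟨g, hg, hge⟩ := mem_autInducedBy.mp hα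
    obtain ⟨g', hg', rfl⟩ := hU'₁ hg
    exact ⟨c g', hg', MulEquiv.ext fun t => Subtype.ext ((hce g' t).trans (hge t).symm)⟩
  have hnd : ¬ p ∣ (autInducedBy U' T).relIndex (X'.autGroup T) := by
    rw [Subgroup.relIndex, ← hR]
    exact R.not_dvd_index
  rw [he] at hnd
  have hLd : L.index ∣ (autInducedBy U' T).relIndex (X.autGroup T) := by
    have h1 := Subgroup.relIndex_dvd_of_le_left (L := X.autGroup T) hle
    rwa [Subgroup.relIndex, Subgroup.subgroupOf,
      Subgroup.comap_map_eq_self_of_injective (X.autGroup T).subtype_injective] at h1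
  obtain ⟨j, -, hj⟩ := (Nat.dvd_prime_pow (Fact.out : p.Prime)).mp hLidx
  rcases Nat.eq_zero_or_pos j with rfl | hj0
  · exact hL (Subgroup.index_eq_one.mp (by rw [hj, pow_zero]))
  · exact hnd (((dvd_pow_self p hj0.ne').trans (hj ▸ dvd_rfl)).trans hLd)

/-- The step for an index prime to `p`. -/
theorem step_pPrime (hS : IsPGroup p S) (hE : E.IsWeaklyNormalIn F p) (h : State p F E X)
    (H : Subgroup (X.autGroup T)) [H.Normal]
    (hEH : ∀ a : X.autGroup T, (a : MulAut T) ∈ E.autGroup T → a ∈ H) (hH : H ≠ ⊤)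
    (hinv : ∀ g ∈ F.autGroup T, ∀ a ∈ H, ∀ b : X.autGroup T,
      (b : MulAut T) = g * (a : MulAut T) * g⁻¹ → b ∈ H)
    (hcop : H.index.Coprime p) :
    ∃ (U' : Subgroup Ω) (X' : FusionSystem U'), State p F E X' ∧ X'.IsSubsystemOf X ∧
      X'.autGroup T ≠ X.autGroup T := by
  obtain ⟨hXs, hF, hXi⟩ := h.wn
  have hUS : U ≤ S := hXi.2.1.1
  have := finite_of_le hUS
  have hUp := hS.to_le hUS
  have hT : F.StronglyClosed T := hE.2.2.2.1
  have hTU : T ≤ U := le_sup_left.trans h.base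
  let hs : PPrimeChar.Setup p X E (QuotientGroup.mk' H) :=
    ⟨hUp, hXs, h.weaklyNormal hS hE, by rw [← Subgroup.index_eq_card]; exact hcop,
      fun γ hγ => (QuotientGroup.eq_one_iff γ).mpr (hEH γ hγ)⟩
  have hr := PPrimeChar.res_le_G hs
  have hle : (PPrimeChar.charSub hs).IsSubsystemOf X := valSub_le
  have hn := (PPrimeChar.charSub_isNormalIn hs).1
  have hsub : E.IsSubsystemOf (PPrimeChar.charSub hs) := PPrimeChar.sub_charSub hs
  have hwn : (PPrimeChar.charSub hs).IsWeaklyNormalIn F p := by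
    refine weaklyNormal_trans hn h.wn fun a ha har =>
      ⟨fun x hx => mem_of_image har hx, fun P R f hf hR => ?_⟩
    obtain ⟨α, hαG, hv⟩ := mapFn_valSub.mp hf
    obtain ⟨hα, f₀, hf₀, he⟩ := hv
    obtain ⟨χ₀, hχ₀, hχ₀e⟩ := mapFn_transport (res_invariant hS h.wn) hf₀ ha har hR
    -- conjugate the value
    obtain ⟨b, hb, hbe⟩ := ha.exists_aut har
    obtain ⟨-, β, hβ, hβe⟩ := (PPrimeChar.mem_autGroup_charSub hs).mp
      ((mem_autGroup_valSub hr).mpr ⟨hαG, hα⟩)
    have haT : a '' T = (T : Set Ω) := (ha.mono hTU).image_eq_of_maps hT.1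
      (fun t ht => map_mem_of_sc hT ha (hTU ht) ht) le_rfl
    obtain ⟨g, hg, hge⟩ := (ha.mono hTU).exists_aut haT
    have hβ' : g * (β : MulAut T) * g⁻¹ ∈ X.autGroup T :=
      autGroup_conj_mem_of_strong (stronglyInvariant_of_invariant hXi) hTU hUS β.2 hg
    have hconj : b * α * b⁻¹ ∈ (PPrimeChar.charSub hs).autGroup U := by
      refine (PPrimeChar.mem_autGroup_charSub hs).mpr ⟨autGroup_conj_mem_of_strong
        (stronglyInvariant_of_invariant hXi) le_rfl hUS hα hb, ⟨_, hβ'⟩,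
        (QuotientGroup.eq_one_iff _).mpr (hinv g hg β ((QuotientGroup.eq_one_iff β).mp hβ) _ rfl),
        fun t => ?_⟩
      have hgi : (b⁻¹ : MulAut U) ⟨t, hTU t.2⟩ =
          ⟨((g⁻¹ : MulAut T) t : T), hTU (Subtype.mem _)⟩ := by
        rw [MulAut.inv_apply, MulEquiv.symm_apply_eq]
        refine Subtype.ext ?_
        rw [hbe]
        show (t : Ω) = a (((g⁻¹ : MulAut T) t : T) : Ω)
        rw [← hge, MulAut.apply_inv_self]
      show ((g ((β : MulAut T) (g⁻¹ t)) : T) : Ω) = ((b (α (b⁻¹ ⟨t, hTU t.2⟩)) : U) : Ω)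
      rw [hgi, hge, hbe, hβe]
    obtain ⟨k, hk, -, hke⟩ := exists_mapFn_of_aut le_rfl hconj
    have hχC : MapFn (PPrimeChar.charSub hs) R χ₀ :=
      mapFn_of_sub (show (res p X).IsSubsystemOf (PPrimeChar.charSub hs) from res_le_valSub) hχ₀
    refine ⟨k ∘ χ₀, hχC.comp hk fun y hy => hχC.mem_S hy, fun x hx => ?_⟩
    show k (χ₀ (a x)) = a (f x)
    have hx₀ : f₀ x ∈ U := hf₀.mem_S hx
    have hax : a (f₀ x) ∈ U := mem_of_image har hx₀
    have hbi : (b⁻¹ : MulAut U) ⟨a (f₀ x), hax⟩ = ⟨f₀ x, hx₀⟩ := by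
      rw [MulAut.inv_apply, MulEquiv.symm_apply_eq]
      exact Subtype.ext (hbe ⟨f₀ x, hx₀⟩).symm
    rw [hχ₀e x hx, hke ⟨a (f₀ x), hax⟩]
    show ((b (α (b⁻¹ ⟨a (f₀ x), hax⟩)) : U) : Ω) = a (f x)
    rw [hbi, hbe, he x hx, ev_coe α hx₀]
  refine ⟨U, PPrimeChar.charSub hs, ⟨hwn, h.base, hsub,
    fun A B hA hB => h.sandwich hS hn (fun K D D' hK hD hDi hD' => ?_) A B hA hB⟩, hle, fun he => ?_⟩
  · subst hK
    have hK := hyperfocal_le X p
    have := finite_of_le hK
    rw [eq_res (hUp.to_le hK) hD hD']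
    exact fun P => (res_sub_res hUp (isNormalIn_of_pIndex hUp hXs hK (hyperfocal_normal X) hD hDi).1 P).trans
      (res_le_valSub P)
  refine hH ((Subgroup.eq_top_iff' H).mpr fun γ => (QuotientGroup.eq_one_iff γ).mp ?_)
  exact PPrimeChar.one_of_top hs hn.1 valSub_le
    (fun a ha => ((mem_autGroup_valSub hr).mp ha).1) (γ := γ) (by rw [he]; exact γ.2)

/-- The descent. -/
theorem exists_descent (hS : IsPGroup p S) (hE : E.IsWeaklyNormalIn F p)
    [hn : ((E.autGroup T).subgroupOf (F.autGroup T)).Normal]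
    (hsolv : IsPSolvable p (↥(F.autGroup T) ⧸ (E.autGroup T).subgroupOf (F.autGroup T))) :
    ∃ (U : Subgroup Ω) (X : FusionSystem U), State p F E X ∧ X.autGroup T = E.autGroup T := by
  have hF := hE.2.1
  have hTS : T ≤ S := hE.2.2.2.1.1
  have := finite_mulAut (S := S) hTS
  suffices key : ∀ (n : ℕ) (U : Subgroup Ω) (X : FusionSystem U), State p F E X →
      Nat.card (X.autGroup T) < n →
      ∃ (U : Subgroup Ω) (X : FusionSystem U), State p F E X ∧ X.autGroup T = E.autGroup T from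
    key _ S F ⟨weaklyNormal_self hS hF, sup_le hTS centralizerIn_le, hE.2.2.1,
      fun A B hA hB => Cfsg.Agent.S5203.limit_unique hA B F hB inferInstance hS hF rfl fun _ => rfl⟩
      (Nat.lt_succ_self _)
  intro n
  induction n with
  | zero => intros; omega
  | succ n ih =>
  intro U X h hcard
  have hXi := h.wn.2.2
  have hTU : T ≤ U := le_sup_left.trans h.base
  have hUS : U ≤ S := hXi.2.1.1
  have hEX : E.autGroup T ≤ X.autGroup T := autGroup_le_of_sub hTU h.sub le_rfl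
  have hXF : X.autGroup T ≤ F.autGroup T := autGroup_le_of_sub hUS hXi.1 hTU
  by_cases he : X.autGroup T ≤ E.autGroup T
  · exact ⟨U, X, h, le_antisymm he hEX⟩
  set G := F.autGroup T
  set A := (X.autGroup T).subgroupOf G with hA
  have : A.Normal := ⟨fun a ha g => autGroup_conj_mem_of_strong
    (stronglyInvariant_of_invariant hXi) hTU hUS ha g.2⟩
  obtain ⟨H, hHn, hKH, hAH, hidx⟩ := exists_intermediate (K := (E.autGroup T).subgroupOf G) (A := A)
    (fun hle => he fun a ha => hle (x := ⟨a, hXF ha⟩) ha) hsolv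
  let H' : Subgroup (X.autGroup T) := H.comap (Subgroup.inclusion hXF)
  have : H'.Normal := hHn.comap _
  have hH' : H' ≠ ⊤ := fun htop => hAH fun a ha => by
    have h1 : (⟨a, ha⟩ : X.autGroup T) ∈ H' := htop ▸ Subgroup.mem_top _
    exact h1
  have hind : H'.index = H.relIndex A := by
    rw [← Subgroup.relIndex_top_right, Subgroup.relIndex_comap]
    congr 1
    ext a
    exact ⟨fun ⟨b, _, hb⟩ => hb ▸ b.2, fun ha => ⟨⟨a, ha⟩, Subgroup.mem_top _, rfl⟩⟩
  have hEH : ∀ a : X.autGroup T, (a : MulAut T) ∈ E.autGroup T → a ∈ H' := fun a ha => hKH ha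
  obtain ⟨U', X', h', hsub, hne⟩ : ∃ (U' : Subgroup Ω) (X' : FusionSystem U'), State p F E X' ∧
      X'.IsSubsystemOf X ∧ X'.autGroup T ≠ X.autGroup T := by
    rcases hidx with ⟨m, hm⟩ | hc
    · exact step_pIndex hS hE h H' hEH hH' (hind.trans hm)
    · refine step_pPrime hS hE h H' hEH hH' (fun g hg a ha b hb => ?_) (hind ▸ hc)
      show Subgroup.inclusion hXF b ∈ H
      rw [show Subgroup.inclusion hXF b = ⟨g, hg⟩ * Subgroup.inclusion hXF a * (⟨g, hg⟩ : G)⁻¹ from
        Subtype.ext hb]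
      exact hHn.conj_mem _ ha _
  refine ih U' X' h' ?_
  have hle : X'.autGroup T ≤ X.autGroup T :=
    autGroup_le_of_sub (base_le hsub) hsub (le_sup_left.trans h'.base)
  have : Nat.card (X'.autGroup T) < Nat.card (X.autGroup T) :=
    lt_of_not_ge fun hge => hne (eq_of_le_of_card_le hle hge)
  omega

/-- A state with automorphism group `Aut_E(T)` on `T` is over `T C_S(T)`. -/
theorem base_eq (hS : IsPGroup p S) (hE : E.IsWeaklyNormalIn F p) (h : State p F E X)
    (hAut : X.autGroup T = E.autGroup T) : U = T ⊔ centralizerIn S T := by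
  refine le_antisymm (fun x hx => ?_) h.base
  have hUS : U ≤ S := h.wn.2.2.2.1.1
  have hT : F.StronglyClosed T := hE.2.2.2.1
  have hTU : T ≤ U := le_sup_left.trans h.base
  have := finite_of_le hT.1
  have hTp : IsPGroup p T := hS.to_le hT.1
  have := finite_mulAut (S := S) hT.1
  -- conjugation by `x` is a `p`-element of `Aut_E(T)`, hence inner
  obtain ⟨α, hα, hαe⟩ := exists_autInducedBy (K := U) (P := T) hx
    (FusionExtend.sc_normalizer hT (hUS hx))
  have hαE : α ∈ E.autGroup T := hAut ▸ autInducedBy_le_autGroup hTU hα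
  obtain ⟨-, R, hR⟩ := ((saturated_iff_top_and_receptive hTp).mp hE.1).1
  have hinn : ((autInducedBy T T).subgroupOf (E.autGroup T)).Normal := by
    refine ⟨fun a ha g => ?_⟩
    obtain ⟨t, ht, hte⟩ := mem_autInducedBy.mp ha
    refine mem_autInducedBy.mpr ⟨((g : MulAut T) ⟨t, ht⟩ : T), Subtype.mem _, fun y => ?_⟩
    have h1 : (a : MulAut T) ((g : MulAut T)⁻¹ y) = ⟨t, ht⟩ * (g : MulAut T)⁻¹ y * ⟨t, ht⟩⁻¹ :=
      Subtype.ext (hte _)
    show (((g : MulAut T) ((a : MulAut T) ((g : MulAut T)⁻¹ y)) : T) : Ω) = _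
    rw [h1, map_mul, map_mul, map_inv, MulAut.apply_inv_self]
    rfl
  have hRn : R.toSubgroup.Normal := hR ▸ hinn
  have hαp : IsPGroup p (Subgroup.zpowers (⟨α, hαE⟩ : E.autGroup T)) := by
    obtain ⟨k, hk⟩ := IsPGroup.iff_orderOf.mp (isPGroup_autInducedBy (hS.to_le hUS) T) ⟨α, hα⟩
    refine IsPGroup.of_card (n := k) ?_
    rw [Nat.card_zpowers, ← Subgroup.orderOf_coe]
    exact (Subgroup.orderOf_coe (⟨α, hα⟩ : autInducedBy U T)).trans hk
  have hRe : Subgroup.zpowers (⟨α, hαE⟩ : E.autGroup T) ⊔ R.toSubgroup = R.toSubgroup :=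
    R.3 (hαp.to_sup_of_normal_right R.2) le_sup_right
  have hmem : (⟨α, hαE⟩ : E.autGroup T) ∈ R.toSubgroup :=
    hRe ▸ Subgroup.mem_sup_left (Subgroup.mem_zpowers _)
  obtain ⟨t, ht, hte⟩ := mem_autInducedBy.mp (hR.le hmem)
  have hc : t⁻¹ * x ∈ centralizerIn S T := by
    refine mem_centralizerIn.mpr ⟨S.mul_mem (S.inv_mem (hT.1 ht)) (hUS hx), fun y hy => ?_⟩
    have h1 : t * y * t⁻¹ = x * y * x⁻¹ := (hte ⟨y, hy⟩).symm.trans (hαe ⟨y, hy⟩)
    calc y * (t⁻¹ * x) = t⁻¹ * (t * y * t⁻¹) * x := by group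
      _ = t⁻¹ * x * y := by rw [h1]; group
  have h2 := Subgroup.mul_mem _ (Subgroup.mem_sup_left ht : t ∈ T ⊔ centralizerIn S T)
    (Subgroup.mem_sup_right hc)
  rwa [mul_inv_cancel_left] at h2

/-- A weakly normal subsystem over `T C_S(T)` is normal. -/
theorem isNormalIn_of_base {X : FusionSystem (T ⊔ centralizerIn S T)}
    (h : X.IsWeaklyNormalIn F p) : X.IsNormalIn F p := by
  refine CfsgLib.FusionTransport.isNormalIn_of_mapFn h fun a ha har => ?_
  set V := T ⊔ centralizerIn S T with hV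
  have hC : centralizerIn S V ≤ V := fun c hc => Subgroup.mem_sup_right
    (mem_centralizerIn.mpr ⟨hc.1, fun y hy => (mem_centralizerIn.mp hc).2 y (Subgroup.mem_sup_left hy)⟩)
  have haF := mapFn_of_sub h.2.2.1 ha
  refine ⟨a, by rwa [sup_eq_left.mpr hC], by rw [sup_eq_left.mpr hC]; exact har, fun _ _ => rfl,
    fun c hc => ?_⟩
  have hac := haF.mem_centralizerIn le_rfl har (hC hc) hc
  have h2 := Subgroup.mul_mem _ (Subgroup.inv_mem _ hc) hac
  exact ⟨hC h2, h2.2⟩

end CfsgLib.Fusion.ResLimit
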