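import Cfsg.Agent.Lib.Fusion.ResidualWeak
import Cfsg.Prelude.Def_FusionReduction

/-!
# Residual limits

Existence, and monotonicity on weakly normal subsystems.
-/

namespace CfsgLib.Fusion.ResLimit

open Cfsg Cfsg.FusionSystem CfsgLib.Fusion CfsgLib.FusionNormal CfsgLib.Fusion.PPrimeRes

universe u

variable {Ω : Type u} [Group Ω] {S T U H K : Subgroup Ω} {p : ℕ}

/-- Every residual limit passes through a step. -/
theorem exists_step {B : FusionSystem U} {Z : FusionSystem T} (hB : B.IsResidualLimitOf Z p) :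
    ∃ (H : Subgroup Ω) (D D' : FusionSystem H), H = Z.hyperfocalSubgroup p ∧ D.IsSaturated p ∧
      D.HasPPowerIndexIn Z p ∧ D.IsPPrimeResidual p D' ∧ B.IsResidualLimitOf D' p := by
  cases hB with
  | stable _ _ hhyp hres =>
    exact ⟨_, Z, Z, hhyp.symm, hres.1,
      ⟨fun _ => subset_rfl, hyperfocal_le _ p, fun P _ => Subgroup.map_subtype_le _⟩, hres,
      IsResidualLimitOf.stable Z p hhyp hres⟩
  | step _ _ D D' hD hD' hlim => exact ⟨_, D, D', rfl, hD.1, hD.2, hD', hlim⟩

/-- A residual limit is a subsystem. -/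
theorem limit_sub {B : FusionSystem U} {Z : FusionSystem T} (hB : B.IsResidualLimitOf Z p) :
    B.IsSubsystemOf Z := by
  induction hB with
  | stable Z p _ _ => exact fun _ => subset_rfl
  | step Z p D D' hD hD' _ ih => exact fun P => (ih P).trans ((hD'.2.1.1 P).trans (hD.2.1 P))

variable [Fact p.Prime]

/-- The step subsystem is weakly normal. -/
theorem step_wn [Finite T] (hT : IsPGroup p T) {Z : FusionSystem T} (hZs : Z.IsSaturated p)
    {D D' : FusionSystem H} (hH : H = Z.hyperfocalSubgroup p) (hD : D.IsSaturated p)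
    (hDi : D.HasPPowerIndexIn Z p) (hD' : D.IsPPrimeResidual p D') :
    D'.IsWeaklyNormalIn Z p := by
  subst hH
  have hHT := hyperfocal_le Z p
  have := finite_of_le hHT
  have h1 := (isNormalIn_of_pIndex hT hZs hHT (hyperfocal_normal Z) hD hDi).1
  rw [eq_res (hT.to_le hHT) hD hD']
  exact (res_isNormalIn hT h1).1

/-- One step is monotone on weakly normal subsystems. -/
theorem step_mono [Finite S] (hS : IsPGroup p S) {Y : FusionSystem S} {Z : FusionSystem T}
    (hZ : Z.IsWeaklyNormalIn Y p) {DY DY' : FusionSystem K} (hK : K = Y.hyperfocalSubgroup p)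
    (hDY : DY.IsSaturated p) (hDYi : DY.HasPPowerIndexIn Y p) (hDY' : DY.IsPPrimeResidual p DY')
    {DZ DZ' : FusionSystem H} (hH : H = Z.hyperfocalSubgroup p) (hDZ : DZ.IsSaturated p)
    (hDZi : DZ.HasPPowerIndexIn Z p) (hDZ' : DZ.IsPPrimeResidual p DZ') :
    DZ'.IsWeaklyNormalIn DY' p := by
  subst hK hH
  have hTS : T ≤ S := hZ.2.2.2.1.1
  have := finite_of_le hTS
  have hKS := hyperfocal_le Y p
  have := finite_of_le hKS
  have hHS := (hyperfocal_le Z p).trans hTS
  have := finite_of_le hHS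
  have hKp := hS.to_le hKS
  have h1 : DZ.IsWeaklyNormalIn Y p := weaklyNormal_pIndex hS hZ (hyperfocal_normal Z) hDZ hDZi
    fun a ha har x hx => hyperfocal_map_mem hZ.2.2 ha har hx
  have hsub : DZ.IsSubsystemOf DY := sub_of_pIndex (hS.to_le hHS) hDZ h1.2.2.1 hDYi
    (hyperfocal_mono hZ.2.2.1)
  have h2 := weaklyNormal_of_le hKp h1 hDY hsub hDYi.1
  rw [eq_res (hS.to_le hHS) hDZ hDZ', eq_res hKp hDY hDY']
  exact weaklyNormal_of_le hKp (res_isNormalIn hKp h2).1 (res_isSaturated hKp hDY)
    (res_sub_res hKp h2) (res_le p DY)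

omit [Fact p.Prime] in
/-- Residual limits of weakly normal subsystems of a stable system. -/
theorem limit_mono_stable {V : Subgroup Ω} {B : FusionSystem V} {Z : FusionSystem T}
    (hB : B.IsResidualLimitOf Z p) :
    ∀ [Fact p.Prime] {S : Subgroup Ω} (Y : FusionSystem S), Finite S → IsPGroup p S →
      Y.hyperfocalSubgroup p = S → Y.IsPPrimeResidual p Y → Z.IsWeaklyNormalIn Y p →
      B.IsSubsystemOf Y := by
  induction hB with
  | stable Z p _ _ => intro _ S Y _ _ _ _ hZ; exact hZ.2.2.1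
  | step Z p D D' hD hD' _ ih =>
    intro _ S Y hfin hS hhyp hY hZ
    exact ih Y hfin hS hhyp hY (step_mono hS hZ hhyp.symm hY.1
      ⟨fun _ => subset_rfl, hyperfocal_le _ p, fun P _ => Subgroup.map_subtype_le _⟩ hY rfl hD.1 hD.2
      hD')

omit [Fact p.Prime] in
/-- Residual limits are monotone on weakly normal subsystems. -/
theorem limit_mono {A : FusionSystem U} {Y : FusionSystem S} (hA : A.IsResidualLimitOf Y p) :
    ∀ [Fact p.Prime] {V T : Subgroup Ω} {B : FusionSystem V} {Z : FusionSystem T},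
      B.IsResidualLimitOf Z p → Finite S → IsPGroup p S → Z.IsWeaklyNormalIn Y p →
      B.IsSubsystemOf A := by
  induction hA with
  | stable Y p hhyp hY =>
    intro _ V T B Z hB hfin hS hZ
    exact limit_mono_stable hB Y hfin hS hhyp hY hZ
  | step Y p D D' hD hD' _ ih =>
    intro _ V T B Z hB hfin hS hZ
    obtain ⟨H, DZ, DZ', hH, hDZ, hDZi, hDZ', hB'⟩ := exists_step hB
    exact ih hB' (finite_of_le (hyperfocal_le Y p)) (hS.to_le (hyperfocal_le Y p))
      (step_mono hS hZ rfl hD.1 hD.2 hD' hH hDZ hDZi hDZ')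

/-- A weakly normal subsystem containing the first step has the same residual limit. -/
theorem limit_eq_of_sandwich [Finite S] (hS : IsPGroup p S) {X : FusionSystem S}
    {X' : FusionSystem T} (hX' : X'.IsWeaklyNormalIn X p)
    (hstep : ∀ (H : Subgroup Ω) (D D' : FusionSystem H), H = X.hyperfocalSubgroup p →
      D.IsSaturated p → D.HasPPowerIndexIn X p → D.IsPPrimeResidual p D' → D'.IsSubsystemOf X')
    {U V : Subgroup Ω} {A : FusionSystem U} {B : FusionSystem V} (hA : A.IsResidualLimitOf X p)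
    (hB : B.IsResidualLimitOf X' p) : ∀ P, B.Hom P = A.Hom P := by
  have hTS : T ≤ S := hX'.2.2.2.1.1
  have := finite_of_le hTS
  obtain ⟨H, D, D', hH, hD, hDi, hD', hA'⟩ := exists_step hA
  have h1 := step_wn hS hX'.2.1 hH hD hDi hD'
  have h2 := weaklyNormal_of_le (hS.to_le hTS) h1 hX'.1 (hstep H D D' hH hD hDi hD') hX'.2.2.1
  exact fun P => Set.Subset.antisymm (limit_mono hA hB inferInstance hS hX' P)
    (limit_mono hB hA' inferInstance (hS.to_le hTS) h2 P)

/-- A saturated system has a residual limit. -/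
theorem exists_limit [Finite S] (hS : IsPGroup p S) {X : FusionSystem S} (hX : X.IsSaturated p) :
    ∃ (U : Subgroup Ω) (A : FusionSystem U), A.IsResidualLimitOf X p := by
  suffices h : ∀ (n : ℕ) (S : Subgroup Ω) [Finite S] (X : FusionSystem S), Nat.card S < n →
      IsPGroup p S → X.IsPPrimeResidual p X →
      ∃ (U : Subgroup Ω) (A : FusionSystem U), A.IsResidualLimitOf X p by
    have hH := hyperfocal_le X p
    have := finite_of_le hH
    obtain ⟨D, hD, hDi⟩ := exists_pIndex hS hX hH le_rfl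
    have hres := res_isPPrimeResidual (hS.to_le hH) hD
    obtain ⟨U, A, hA⟩ := h _ _ (res p D) (Nat.lt_succ_self _) (hS.to_le hH) (pPrimeResidual_self hres)
    exact ⟨U, A, IsResidualLimitOf.step X p D (res p D) ⟨hD, hDi⟩ hres hA⟩
  intro n
  induction n with
  | zero => intros; omega
  | succ n ih =>
  intro S _ X hn hS hX
  by_cases hhyp : X.hyperfocalSubgroup p = S
  · exact ⟨S, X, IsResidualLimitOf.stable X p hhyp hX⟩
  have hH := hyperfocal_le X p
  have := finite_of_le hH
  obtain ⟨D, hD, hDi⟩ := exists_pIndex hS hX.1 hH le_rfl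
  have hres := res_isPPrimeResidual (hS.to_le hH) hD
  have hlt : Nat.card (X.hyperfocalSubgroup p) < Nat.card S :=
    lt_of_not_ge fun hge => hhyp (eq_of_le_of_card_le hH hge)
  obtain ⟨U, A, hA⟩ := ih _ (res p D) (by omega) (hS.to_le hH) (pPrimeResidual_self hres)
  exact ⟨U, A, IsResidualLimitOf.step X p D (res p D) ⟨hD, hDi⟩ hres hA⟩

end CfsgLib.Fusion.ResLimit
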