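import Cfsg.Agent.S5203
import Cfsg.Agent.Lib.Fusion.CentralizerFocal
import Cfsg.Agent.Lib.Fusion.NormalModT
import Cfsg.Agent.Lib.Fusion.Extend

/-!
# Residual limits of a normal subsystem with small centralizer

If `E` is normal in `F` over `T` with `C_S(E) ≤ T` and `F₀` is a saturated subsystem of `F` over `T C_S(T)`
containing `E` with `Aut_{F₀}(T) = Aut_E(T)`, then `E` is normal of `p`-power index in `F₀`. So the residual
limits of `F` and `E` agree as soon as those of `F` and `F₀` do.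
-/

namespace CfsgLib.Fusion

open Cfsg Cfsg.FusionSystem CfsgLib.FusionNormal

variable {Ω : Type*} [Group Ω] {S T : Subgroup Ω} {F : FusionSystem S} {E : FusionSystem T}
variable {F₀ : FusionSystem (T ⊔ centralizerIn S T)} {p : ℕ} [Finite S] [Fact p.Prime]

omit [Finite S] in
theorem centralizerIn_sup_eq (hTS : T ≤ S) :
    centralizerIn (T ⊔ centralizerIn S T) T = centralizerIn S T :=
  le_antisymm (fun _ hx => ⟨(sup_le hTS centralizerIn_le) hx.1, hx.2⟩)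
    fun _ hx => ⟨Subgroup.mem_sup_right hx, hx.2⟩

theorem isNormalIn_reduction (hS : IsPGroup p S) (hE : E.IsNormalIn F p)
    (hCE : ∀ Y : Subgroup Ω, Y ≤ centralizerIn S T →
      (∀ C : FusionSystem (centralizerIn S Y), F.IsCentralizerSystem Y C → E.IsSubsystemOf C) → Y ≤ T)
    (hsat : F₀.IsSaturated p) (hsub : F₀.IsSubsystemOf F) (hEsub : E.IsSubsystemOf F₀)
    (haut : F₀.autGroup T = E.autGroup T) :
    E.IsNormalIn F₀ p ∧ E.HasPPowerIndexIn F₀ p := by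
  obtain ⟨⟨hEs, hF, hEi⟩, hext⟩ := id hE
  have hT := hEi.2.1
  have hTS := hT.1
  have hUS : (T ⊔ centralizerIn S T) ≤ S := sup_le hTS centralizerIn_le
  haveI := finite_of_le hUS
  haveI := finite_of_le hTS
  have hS0 : IsPGroup p (T ⊔ centralizerIn S T : Subgroup Ω) := hS.to_le hUS
  have hTU : T ≤ (T ⊔ centralizerIn S T) := le_sup_left
  have hT0 : F₀.StronglyClosed T := ⟨hTU, fun P hP φ hφ x => hT.2 P hP φ (hsub P hφ) x⟩
  have hstrong : IsStronglyInvariant F₀ E := fun P Q hPQ hQT φ hφ hφQ ψ hψ =>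
    stronglyInvariant_of_invariant hEi P Q hPQ hQT φ hφ hφQ ψ (hsub Q hψ)
  have hfr : ∀ (P : Subgroup Ω), P ≤ T → ∀ φ ∈ F₀.Hom P, φ ∈ frattiniHom F₀ E P := fun P hP φ hφ =>
    frattini_of_strong hS0 hsat hEsub hT0 hstrong hP hφ
  have hinv : E.IsInvariantIn F₀ :=
    ⟨hEsub, hT0, invariance_of_strong hT0 hstrong, fun P hP φ hφ => (hfr P hP φ hφ).2.2⟩
  -- the maps on overgroups of `T` are trivial modulo `T`
  have hmod : ∀ (W : Subgroup Ω) (g : Ω → Ω), MapFn F₀ W g → T ≤ W → ∀ x ∈ W, x⁻¹ * g x ∈ T := by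
    intro W g hg hTW x hx
    have hgF : MapFn F W g := by obtain ⟨φ, hφ, he⟩ := hg; exact ⟨φ, hsub W hφ, he⟩
    have hgT := image_T hT0 hg hTW
    obtain ⟨α, hα, hαe⟩ := (hg.mono hTW).exists_aut hgT
    rw [haut] at hα
    obtain ⟨β, hβ, hβT, hβC⟩ := hext α hα
    obtain ⟨b, hb, hbr, hbe⟩ := exists_mapFn_of_aut hUS hβ
    obtain ⟨bi, hbi, hbir, hbi₁, hbi₂⟩ := hb.exists_inv hbr
    have hWU : W ≤ (T ⊔ centralizerIn S T) := hg.le_S
    have hbg : MapFn F W (bi ∘ g) := hgF.comp hbi fun z hz => hg.mem_S hz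
    have hbgT : ∀ t ∈ T, (bi ∘ g) t = t := fun t ht => by
      have h1 : b t = g t := (hbe ⟨t, hTU ht⟩).trans ((hβT ⟨t, ht⟩).trans (hαe ⟨t, ht⟩))
      show bi (g t) = t
      rw [← h1, hbi₁ t (hTU ht)]
    have hn : centralizerIn S T ≤ Subgroup.normalizer (T : Set Ω) := fun a ha =>
      Subgroup.centralizer_le_normalizer _ ha.2
    have hxU : x ∈ ((T ⊔ centralizerIn S T : Subgroup Ω) : Set Ω) := hWU hx
    rw [Subgroup.coe_mul_of_right_le_normalizer_left _ _ hn] at hxU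
    obtain ⟨t, ht, c, hc, rfl⟩ := Set.mem_mul.mp hxU
    have hcW : c ∈ W := by simpa using W.mul_mem (W.inv_mem (hTW ht)) hx
    have hu : c⁻¹ * (bi ∘ g) c ∈ T := mem_of_goodElt hE hCE
      (goodElt_focal hS hE (hbg.mono (sup_le hTW (Subgroup.zpowers_le.mpr hcW))) hbgT hc)
    obtain ⟨u, hudef⟩ : ∃ u, u = c⁻¹ * (bi ∘ g) c := ⟨_, rfl⟩
    rw [← hudef] at hu
    have hgc : g c = b c * b u := by
      rw [← hb.map_mul (Subgroup.mem_sup_right hc) (hTU hu), hudef, mul_inv_cancel_left]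
      exact (hbi₂ _ (hg.mem_S hcW)).symm
    have hbu : b u ∈ T := mapFn_mem hT hb (hTU hu) hu
    have hcb : c⁻¹ * b c ∈ T := by
      rw [hbe ⟨c, Subgroup.mem_sup_right hc⟩]
      exact (hβC ⟨c, Subgroup.mem_sup_right hc⟩ hc).1
    have hgt : g t ∈ T := mem_of_image hgT ht
    have hcomm : c⁻¹ * (t⁻¹ * g t) = (t⁻¹ * g t) * c⁻¹ :=
      ((mem_centralizerIn.mp ((centralizerIn S T).inv_mem hc)).2 _ (T.mul_mem (T.inv_mem ht) hgt)).symm
    rw [hg.map_mul (hTW ht) hcW, hgc]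
    have e : (t * c)⁻¹ * (g t * (b c * b u)) = c⁻¹ * (t⁻¹ * g t) * (b c * b u) := by group
    rw [e, hcomm]
    have e2 : t⁻¹ * g t * c⁻¹ * (b c * b u) = t⁻¹ * g t * (c⁻¹ * b c) * b u := by group
    rw [e2]
    exact T.mul_mem (T.mul_mem (T.mul_mem (T.inv_mem ht) hgt) hcb) hbu
  refine ⟨⟨⟨hEs, hsat, hinv⟩, fun α hα => ?_⟩, hEsub, ?_, fun P hP => ?_⟩
  · -- the extension condition
    obtain ⟨f, hf, hfr', hfe⟩ := exists_mapFn_of_aut le_rfl hα
    have hf0 : MapFn F₀ T f := by obtain ⟨φ, hφ, he⟩ := hf; exact ⟨φ, hEsub T hφ, he⟩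
    obtain ⟨g, hg, hgT, hgC⟩ := exists_top_extension hS0 hsat hT0 hf0
    have hD : T ⊔ centralizerIn (T ⊔ centralizerIn S T) T = (T ⊔ centralizerIn S T) := by rw [centralizerIn_sup_eq hTS]
    obtain ⟨γ, hγ, hγe⟩ := hg.exists_aut (hg.image_eq_of_maps (by rw [hD]) (hg.maps_sup
      (fun t ht => Subgroup.mem_sup_left (by rw [hgT t ht]; exact mem_of_image hfr' ht))
      fun c hc => Subgroup.mem_sup_right (hgC c hc)) le_rfl)
    refine ⟨γ, hγ, fun x => ?_, fun c hc => ?_⟩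
    · rw [hγe]; exact (hgT _ x.2).trans (hfe x)
    · rw [hγe]
      refine ⟨hmod _ g hg le_sup_left _ c.2, ?_⟩
      exact (Subgroup.mul_mem _ ((centralizerIn (T ⊔ centralizerIn S T) T).inv_mem hc) (hgC _ hc)).2
  · -- the hyperfocal subgroup
    refine (hyperfocal_le_focal F₀ p).trans ((Subgroup.closure_le _).mpr ?_)
    rintro _ ⟨P, φ, x, hφ, rfl⟩
    obtain ⟨ψ, hψ, hψe⟩ := CfsgLib.FusionExtend.exists_congr_extension hS0 hsat hT0 hφ
    obtain ⟨g, hg, hge⟩ := mapFn_of_hom hψ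
    have h1 := hmod _ g hg le_sup_right x (Subgroup.mem_sup_left x.2)
    have h2 := hψe x
    rw [hge] at h2
    have e : (x : Ω)⁻¹ * φ x = (x : Ω)⁻¹ * g x * ((φ x)⁻¹ * g x)⁻¹ := by group
    rw [SetLike.mem_coe, e]
    exact T.mul_mem h1 (T.inv_mem h2)
  · -- automorphisms
    refine (Subgroup.map_subtype_le _).trans fun a ha => ?_
    refine (mem_autGroup hP).mpr ?_
    obtain ⟨-, -, α, hα, φ₀, hφ₀, hφe⟩ := hfr P hP _ ((mem_autGroup (hP.trans hTU)).mp ha)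
    rw [haut] at hα
    have hαH := (mem_autGroup le_rfl).mp hα
    exact comp_of hφ₀ hαH (apply_mem_S hφ₀) fun x => hφe x (apply_mem_S hφ₀ x)

/-- Reduction of residual limits to a normal subsystem with small centralizer. -/
theorem residualLimit_eq_of_reduction (hS : IsPGroup p S) (hE : E.IsNormalIn F p)
    (hCE : ∀ Y : Subgroup Ω, Y ≤ centralizerIn S T →
      (∀ C : FusionSystem (centralizerIn S Y), F.IsCentralizerSystem Y C → E.IsSubsystemOf C) → Y ≤ T)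
    (hF₀ : F₀.IsNormalIn F p) (hEsub : E.IsSubsystemOf F₀) (haut : F₀.autGroup T = E.autGroup T)
    {U V W : Subgroup Ω} (Finf : FusionSystem U) (L : FusionSystem W) (hL : L.IsResidualLimitOf F₀ p)
    (hLF : ∀ P : Subgroup Ω, L.Hom P = Finf.Hom P) (Einf : FusionSystem V) (hEinf : Einf.IsResidualLimitOf E p) :
    ∀ P : Subgroup Ω, Finf.Hom P = Einf.Hom P := by
  obtain ⟨hn, hidx⟩ := isNormalIn_reduction hS hE hCE hF₀.1.1 hF₀.1.2.2.1 hEsub haut
  haveI := finite_of_le hF₀.1.2.2.2.1.1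
  intro P
  rw [← hLF P]
  exact Cfsg.Agent.S5203.result p (hS.to_le hF₀.1.2.2.2.1.1) F₀ hF₀.1.1 E hn hidx L hL Einf hEinf P

end CfsgLib.Fusion
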