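import Cfsg.Agent.Lib.Fusion.SolvConstrained
import Cfsg.Agent.Lib.Fusion.GroupHyperfocal
import Cfsg.Agent.Lib.Fusion.Realized
import Cfsg.Agent.Lib.FusionNormal.RealizedSimple
import Cfsg.Prelude.Def_FusionComponents

/-!
# Terminating residual series
-/

set_option autoImplicit false

namespace CfsgLib.FusionSolv

open Cfsg Cfsg.FusionSystem CfsgLib.Fusion CfsgLib.FusionNormal CfsgLib.FusionTransport

universe u

variable {Ω : Type u} [Group Ω] {S : Subgroup Ω} {F : FusionSystem S} {p : ℕ}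

/-- A realized system is carried to the fusion system of the group. -/
theorem exists_rel_of_realized {G : Type*} [Group G] {ι : S →* G} (hF : F.IsRealizedBy ι) :
    ∃ e : Emb S ι.range, Rel e F (groupFusionSystem ι.range) := by
  obtain ⟨e, he⟩ := exists_emb_of_hom ι hF.1
  refine ⟨e, ⟨le_rfl, e.img_self, fun {P k} hk => ?_, fun {Q k} hk => ?_⟩⟩
  · obtain ⟨φ, hφ, hφe⟩ := hk
    obtain ⟨g, hg⟩ := realized_conj hF hφ
    have hval : ∀ (y : G) (hy : y ∈ e.img P), g * y * g⁻¹ = e.f (φ ⟨e.g y, hy.2⟩) := by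
      intro y hy
      have h1 := hg ⟨e.g y, hy.2⟩
      rw [he, he] at h1
      rw [h1, e.fg y hy.1]
    refine ⟨conjHom _ g, group_conjHom_mem (e.img_le P) (fun y hy => ?_), fun y => ?_⟩
    · rw [hval y hy]
      exact e.f_mem _ (apply_mem_S hφ _)
    · show g * (y : G) * g⁻¹ = e.f (k (e.g y))
      rw [hval y y.2, hφe]
  · obtain ⟨φ, ⟨hQ, hφT, g, hg⟩, hφe⟩ := hk
    have hP : e.symm.img Q ≤ S := e.symm.img_le Q
    obtain ⟨ψ, hψ, hψe⟩ := realized_exists_map hF hP g fun x => by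
      rw [he, ← hg ⟨e.f x, x.2.2⟩]; exact hφT _
    refine ⟨ψ, hψ, fun x => ?_⟩
    have h1 := hψe x (apply_mem_S hψ x)
    rw [he, he] at h1
    show ψ x = e.g (k (e.f x))
    rw [← hφe ⟨e.f x, x.2.2⟩, hg]
    show ψ x = e.g (g * e.f x * g⁻¹)
    rw [← h1, e.gf _ (apply_mem_S hψ x)]

/-- A nontrivial `p`-solvable group cannot have both residuals equal to itself. -/
theorem eq_one_of_residuals [Fact p.Prime] {K : Type*} [Group K] [Finite K] (h : IsPSolvable p K)
    (h1 : pResidual p K = ⊤) (h2 : ∀ N : Subgroup K, N.Normal →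
      (∀ g : K, (∃ k : ℕ, orderOf g = p ^ k) → g ∈ N) → N = ⊤) : (⊥ : Subgroup K) = ⊤ := by
  obtain ⟨n, H, h0, hn, -, hN, hF⟩ := h
  suffices hi : ∀ i : Fin (n + 1), H i = ⊤ → H 0 = ⊤ by rw [← h0]; exact hi _ hn
  intro i
  induction i using Fin.induction with
  | zero => exact id
  | succ i ih =>
    intro hi
    refine ih ?_
    have := hN i.castSucc
    have hidx : (H i.castSucc).relIndex (H i.succ) = Nat.card (K ⧸ H i.castSucc) := by
      rw [hi, Subgroup.relIndex_top_right, Subgroup.index_eq_card]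
    rcases hF i with ⟨m, hm⟩ | hc
    · refine top_le_iff.mp ?_
      rw [← h1]
      exact CfsgLib.Transfer.pResidual_le_of_isPGroup_quotient _ (IsPGroup.of_card (hidx ▸ hm))
    · refine h2 _ this fun g ⟨k, hk⟩ => ?_
      have hd1 : orderOf (QuotientGroup.mk' (H i.castSucc) g) ∣ p ^ k := hk ▸ orderOf_map_dvd _ g
      have hd2 : orderOf (QuotientGroup.mk' (H i.castSucc) g) ∣ Nat.card (K ⧸ H i.castSucc) :=
        orderOf_dvd_natCard _
      exact (QuotientGroup.eq_one_iff g).mp (orderOf_eq_one_iff.mp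
        (Nat.eq_one_of_dvd_coprimes ((hidx ▸ hc).pow_right k) hd2 hd1))

variable [Finite S] [Fact p.Prime]

/-- A system with `p`-solvable models which is its own `p'`-residual has smaller hyperfocal subgroup. -/
theorem hyperfocal_ne (hS : IsPGroup p S) (h : Solv F p)
    (hres : ∀ D : FusionSystem S, D.IsSaturated p → D.HasPrimeToPIndexIn F p → F.IsSubsystemOf D)
    (hne : S ≠ ⊥) : F.hyperfocalSubgroup p ≠ S := by
  obtain ⟨H, _, ι, hH⟩ := exists_model_of_constrained hS h.1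
  have hsol : IsPSolvable p H := (isPSolvable_model_iff hH).mpr h.2
  obtain ⟨hfin, hreal, ⟨T, hT⟩, -⟩ := hH
  set K : Subgroup H := Subgroup.closure {g : H | ∃ k : ℕ, orderOf g = p ^ k} with hK
  have hKn : K.Normal := pElements_normal
  have hTK : ∀ s : S, ι s ∈ K := fun s => by
    obtain ⟨k, hk⟩ := T.2 ⟨ι s, hT.ge ⟨s, rfl⟩⟩
    obtain ⟨j, -, hj⟩ := (Nat.dvd_prime_pow Fact.out).mp
      (orderOf_dvd_of_pow_eq_one (congrArg Subtype.val hk))
    exact Subgroup.subset_closure ⟨j, hj⟩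
  have hidx : (K.comap ι).map S.subtype = S := by
    rw [show K.comap ι = ⊤ from top_le_iff.mp fun s _ => hTK s, ← MonoidHom.range_eq_map,
      Subgroup.range_subtype]
  have hval : ∀ (P : Subgroup Ω) (φ : P →* Ω), φ ∈ F.Hom P → ∃ g ∈ K, ∀ (x : P) (hx : φ x ∈ S)
      (hx' : (x : Ω) ∈ S), ι ⟨φ x, hx⟩ = g * ι ⟨x, hx'⟩ * g⁻¹ := by
    obtain ⟨D, hDn, hDK, hKD⟩ : ∃ D : FusionSystem S, D.IsNormalIn F p ∧
        (∀ (P : Subgroup Ω) (φ : P →* Ω), φ ∈ D.Hom P → ∃ g ∈ K, ∀ (x : P) (hx : φ x ∈ S)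
          (hx' : (x : Ω) ∈ S), ι ⟨φ x, hx⟩ = g * ι ⟨x, hx'⟩ * g⁻¹) ∧
        ∀ (P : Subgroup Ω) (φ : P →* Ω), φ ∈ F.Hom P → (∃ g ∈ K, ∀ (x : P) (hx : φ x ∈ S)
          (hx' : (x : Ω) ∈ S), ι ⟨φ x, hx⟩ = g * ι ⟨x, hx'⟩ * g⁻¹) → φ ∈ D.Hom P := by
      have h0 : ∃ D : FusionSystem ((K.comap ι).map S.subtype), D.IsNormalIn F p ∧
          (∀ (P : Subgroup Ω) (φ : P →* Ω), φ ∈ D.Hom P → ∃ g ∈ K, ∀ (x : P) (hx : φ x ∈ S)
            (hx' : (x : Ω) ∈ S), ι ⟨φ x, hx⟩ = g * ι ⟨x, hx'⟩ * g⁻¹) ∧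
          ∀ (P : Subgroup Ω) (φ : P →* Ω), φ ∈ F.Hom P → (∃ g ∈ K, ∀ (x : P) (hx : φ x ∈ S)
            (hx' : (x : Ω) ∈ S), ι ⟨φ x, hx⟩ = g * ι ⟨x, hx'⟩ * g⁻¹) → φ ∈ D.Hom P := by
        refine ⟨_, realizedSub_isNormalIn hreal T hT K, ?_, ?_⟩
        · rintro P φ ⟨hP, hv, -, g, hg, hge⟩
          exact ⟨g, hg, fun x _ _ => hge x⟩
        · rintro P φ hφ ⟨g, hg, hge⟩
          exact ⟨hidx.symm ▸ le_S hφ, fun x => hidx.symm ▸ apply_mem_S hφ x, F.injective_of_mem hφ,
            g, hg, fun x => hge x _ _⟩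
      rwa [hidx] at h0
    have hDi : D.HasPrimeToPIndexIn F p := by
      refine ⟨hDn.1.2.2.1, fun P hP => ?_⟩
      rw [Subgroup.map_le_iff_le_comap, Subgroup.closure_le]
      rintro α ⟨k, hk⟩
      have hαm := (mem_autGroup hP).mp α.2
      obtain ⟨g, hg⟩ := realized_conj hreal hαm
      -- the `p`-part of `g` induces the same automorphism
      have hp : p.Prime := Fact.out
      obtain ⟨a, m, hm, hord⟩ := Nat.exists_eq_pow_mul_and_not_dvd (orderOf_pos g).ne' p hp.ne_one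
      have hm0 : m ≠ 0 := by rintro rfl; exact hm (dvd_zero p)
      obtain ⟨c, hc1, hc2⟩ := Nat.chineseRemainder
        ((Nat.Coprime.pow_right k (hp.coprime_iff_not_dvd.mpr hm).symm).symm) 1 0
      obtain ⟨d, rfl⟩ := Nat.modEq_zero_iff_dvd.mp hc2
      have hpow : ∀ (n : ℕ) (z : P), ι ⟨((((α : MulAut P)) ^ n) z : P), hP (Subtype.mem _)⟩ =
          g ^ n * ι ⟨z, hP z.2⟩ * (g ^ n)⁻¹ := by
        intro n
        induction n with
        | zero => intro z; simp
        | succ n ihn =>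
          intro z
          have h1 := hg (((α : MulAut P) ^ n) z)
          refine Eq.trans (congrArg ι (Subtype.ext ?_)) (h1.trans ?_)
          · rw [pow_succ', MulAut.mul_apply]; rfl
          · rw [ihn z, pow_succ']; group
      refine (mem_autGroup hP).mpr (hKD P (P.subtype.comp (α : MulAut P).toMonoidHom) hαm ⟨g ^ (m * d), ?_, fun x hx hx' => ?_⟩)
      · rw [pow_mul]
        refine Subgroup.pow_mem _
          (Subgroup.subset_closure (show g ^ m ∈ {g : H | ∃ k : ℕ, orderOf g = p ^ k} from ⟨a, ?_⟩)) _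
        rw [orderOf_pow_of_dvd hm0 (hord ▸ dvd_mul_left m _), hord,
          Nat.mul_div_cancel _ (Nat.pos_of_ne_zero hm0)]
      · have hac : (α : MulAut P) ^ (m * d) = α := by
          have h1 : α ^ (m * d) = α ^ 1 := pow_eq_pow_iff_modEq.mpr (by rw [hk]; exact hc1)
          rw [pow_one] at h1
          exact congrArg Subtype.val h1
        have h1 := hpow (m * d) x
        rw [hac] at h1
        exact h1
    exact fun P φ hφ => hDK P φ (hres D hDn.1.1 hDi P hφ)
  intro hhyp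
  let ι' : S →* K := ι.codRestrict K hTK
  have hreal' : F.IsRealizedBy ι' := by
    refine ⟨fun a b e => hreal.1 (congrArg Subtype.val e), fun P hP φ hφ => ⟨fun hm => ?_, ?_⟩⟩
    · obtain ⟨g, hg, hge⟩ := hval P φ hm
      exact ⟨⟨g, hg⟩, fun x => Subtype.ext (hge x _ _)⟩
    · rintro ⟨g, hg⟩
      exact (hreal.2 P hP φ hφ).mpr ⟨g, fun x => congrArg Subtype.val (hg x)⟩
  have hTle : (T : Subgroup H) ≤ K := fun z hz => by
    obtain ⟨s, rfl⟩ := hT.le hz; exact hTK s
  set T' := T.subtype hTle with hT'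
  have hT'r : (T' : Subgroup K) = ι'.range := by
    rw [hT', Sylow.coe_subtype, hT]
    ext z
    exact ⟨fun ⟨s, hs⟩ => ⟨s, Subtype.ext hs⟩, fun ⟨s, hs⟩ => ⟨s, congrArg Subtype.val hs⟩⟩
  obtain ⟨e, he⟩ := exists_rel_of_realized hreal'
  have h1 := he.hyperfocal hhyp
  rw [← hT'r, hyperfocal_group T', inf_eq_left] at h1
  have h2 : pResidual p K = ⊤ :=
    top_le_iff.mp ((CfsgLib.Transfer.sylow_sup_pResidual T').ge.trans (sup_le h1 le_rfl))
  have h3 : ∀ N : Subgroup K, N.Normal → (∀ g : K, (∃ k : ℕ, orderOf g = p ^ k) → g ∈ N) → N = ⊤ := by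
    intro N _ hN
    have hle : K ≤ N.map K.subtype := by
      refine (Subgroup.closure_le _).mpr fun g ⟨k, hk⟩ => ?_
      exact ⟨⟨g, Subgroup.subset_closure ⟨k, hk⟩⟩, hN _ ⟨k, by rw [Subgroup.orderOf_mk]; exact hk⟩, rfl⟩
    refine top_le_iff.mp fun z _ => ?_
    obtain ⟨w, hw, hwz⟩ := hle z.2
    exact (Subtype.ext hwz : w = z) ▸ hw
  have h4 := eq_one_of_residuals (PCore.isPSolvable_subgroup hsol K) h2 h3
  refine hne (eq_bot_iff.mpr fun x hx => ?_)
  have h5 : ι' ⟨x, hx⟩ ∈ (⊥ : Subgroup K) := h4 ▸ Subgroup.mem_top _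
  rw [Subgroup.mem_bot] at h5
  exact congrArg (fun s : S => (s : Ω)) (hreal'.1 (h5.trans (map_one ι').symm))

/-- The residual series of a constrained system with `p`-solvable models terminates. -/
theorem terminating_of_solv (hS : IsPGroup p S) (h : Solv F p) : F.HasTerminatingResidualSeries p := by
  suffices hh : ∀ (n : ℕ) (S : Subgroup Ω) [Finite S] (F : FusionSystem S), Nat.card S < n →
      IsPGroup p S → Solv F p → F.HasTerminatingResidualSeries p from
    hh _ S F (Nat.lt_succ_self _) hS h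
  intro n
  induction n with
  | zero => intros; omega
  | succ n ih =>
  intro S _ F hn hS h
  by_cases hbot : S = ⊥
  · exact .trivial F p hbot
  have hF := h.1.1
  have hR := PPrimeRes.res_isPPrimeResidual (F := F) hS hF
  set E := PPrimeRes.res p F with hE
  have hEn := (PPrimeRes.res_isNormalIn (F := F) (E := F) hS (isWeaklyNormalIn_self hF)).1
  have hSE : Solv E p := h.of_weaklyNormal hS hEn
  have hEres : ∀ D : FusionSystem S, D.IsSaturated p → D.HasPrimeToPIndexIn E p → E.IsSubsystemOf D := by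
    intro D hD hDi
    refine hR.2.2 D hD ⟨fun P => (hDi.1 P).trans (hR.2.1.1 P), fun P hP => ?_⟩
    rw [Subgroup.map_le_iff_le_comap, Subgroup.closure_le]
    rintro α ⟨k, hk⟩
    have hαE : (α : MulAut P) ∈ E.autGroup P :=
      hR.2.1.2 P hP ⟨α, Subgroup.subset_closure ⟨k, hk⟩, rfl⟩
    exact hDi.2 P hP ⟨⟨(α : MulAut P), hαE⟩,
      Subgroup.subset_closure ⟨k, by rw [Subgroup.orderOf_mk, Subgroup.orderOf_coe]; exact hk⟩, rfl⟩
  have hTS : E.hyperfocalSubgroup p ≤ S := hyperfocal_le E p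
  have hlt := hyperfocal_ne hS hSE hEres hbot
  obtain ⟨D, hDs, hDi⟩ := exists_pIndex hS hR.1 hTS le_rfl
  have hTn : ((E.hyperfocalSubgroup p).subgroupOf S).Normal :=
    ⟨fun n hn g => hyperfocal_conj_mem g.2 hn⟩
  have hSD : Solv D p := hSE.of_weaklyNormal hS (isNormalIn_of_pIndex hS hR.1 hTS hTn hDs hDi).1
  have := finite_of_le hTS
  have hc : Nat.card (E.hyperfocalSubgroup p) < Nat.card S :=
    lt_of_not_ge fun hge => hlt (eq_of_le_of_card_le hTS hge)
  exact .step F E p D hR ⟨hDs, hDi⟩ (ih _ D (by omega) (hS.to_le hTS) hSD)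

omit [Finite S] [Fact p.Prime] in
/-- A system with terminating residual series is constrained with `p`-solvable models. -/
theorem solv_of_terminating (h : F.HasTerminatingResidualSeries p) (hp : Fact p.Prime)
    (hfin : Finite S) (hS : IsPGroup p S) (hF : F.IsSaturated p) : Solv F p := by
  induction h with
  | trivial F p hbot =>
    have := hp
    have := hfin
    exact solv_of_bot hF hbot
  | @step S F E p D hE hD hrec ih =>
    have := hp
    have := hfin
    have hTS : E.hyperfocalSubgroup p ≤ S := hyperfocal_le E p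
    have hSD := ih hp (finite_of_le hTS) (hS.to_le hTS) hD.1
    have hTn : ((E.hyperfocalSubgroup p).subgroupOf S).Normal :=
      ⟨fun n hn g => hyperfocal_conj_mem g.2 hn⟩
    have hSE := solv_of_pIndex hS hE.1 hTS hTn hD hSD
    have hR := PPrimeRes.res_isPPrimeResidual (F := F) hS hF
    obtain rfl : E = PPrimeRes.res p F :=
      le_antisymm' (hE.2.2 _ hR.1 hR.2.1) (hR.2.2 E hE.1 hE.2.1)
    exact solv_of_primeToP hS hF
      (PPrimeRes.res_isNormalIn (F := F) (E := F) hS (isWeaklyNormalIn_self hF)) hE.2.1 hSE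

/-- `Solv` in terms of models. -/
theorem solv_iff_models (hS : IsPGroup p S) :
    Solv F p ↔ (F.IsConstrained p ∧ ∀ (G : Type u) [Group G] (ι : S →* G),
      F.IsModel p G ι → IsPSolvable p G) := by
  constructor
  · exact fun h => ⟨h.1, fun G _ ι hG => (isPSolvable_model_iff hG).mpr h.2⟩
  · rintro ⟨hc, h⟩
    obtain ⟨L, _, ι, hL⟩ := exists_model_of_constrained hS hc
    exact ⟨hc, (isPSolvable_model_iff hL).mp (h L ι hL)⟩

end CfsgLib.FusionSolv
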