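import Cfsg.Agent.Lib.Fusion.Extend
import Cfsg.Agent.Lib.Fusion.Group

/-!
Invariant subsystems over `S`, climbing from centric subgroups, and a simplicity criterion for
the fusion system of a group.
-/

set_option autoImplicit false

namespace CfsgLib.FusionSimple

open Cfsg Cfsg.FusionSystem CfsgLib.Fusion CfsgLib.FusionExtend

variable {Ω : Type*} [Group Ω] {S : Subgroup Ω} {F E : FusionSystem S}

theorem autGroup_mono {T : Subgroup Ω} {D : FusionSystem T} (h : D.IsSubsystemOf F) (P : Subgroup Ω) :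
    D.autGroup P ≤ F.autGroup P :=
  Subgroup.closure_mono fun _ hα => h P hα

theorem isConj_mono {T : Subgroup Ω} {D : FusionSystem T} (h : D.IsSubsystemOf F) {P Q : Subgroup Ω}
    (hc : D.IsConj P Q) : F.IsConj P Q := by
  obtain ⟨φ, hφ, hr⟩ := hc
  exact ⟨φ, h P hφ, hr⟩

/-- A centric subgroup is fully centralized in every subsystem over `S`. -/
theorem fullyCentralized_of_centric [Finite S] (hEF : E.IsSubsystemOf F) {P : Subgroup Ω}
    (hP : F.IsCentric P) : E.IsFullyCentralized P := by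
  refine ⟨hP.1, fun Q hQ => ?_⟩
  have hQF := isConj_mono hEF hQ
  obtain ⟨φ, hφ, hr⟩ := isConj_symm hQ
  have hCQ := hP.2 Q hQF
  refine card_le_of_map (restrict_mem hCQ hφ) centralizerIn_le fun x => ?_
  refine mem_centralizerIn'.mpr ⟨apply_mem_S hφ _, fun y => ?_⟩
  obtain ⟨z, hz⟩ := hr.ge y.2
  have h1 := (mem_centralizerIn'.mp x.2).2 z
  rw [← hz]
  show φ ⟨x, _⟩ * φ z * (φ ⟨x, _⟩)⁻¹ = φ z
  rw [← map_inv, ← map_mul, ← map_mul]
  exact apply_eq_of_coe_eq h1

theorem isCentric_of_conj {P Q : Subgroup Ω} (hP : F.IsCentric P) (h : F.IsConj P Q) : F.IsCentric Q :=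
  ⟨IsConj.le_right h, fun R hR => hP.2 R (isConj_trans h hR)⟩

theorem isCentric_of_le {P Q : Subgroup Ω} (hP : F.IsCentric P) (hPQ : P ≤ Q) (hQ : Q ≤ S) :
    F.IsCentric Q := by
  refine ⟨hQ, ?_⟩
  rintro Q' ⟨φ, hφ, rfl⟩
  refine (fun g hg => ?_)
  have hle : (P.subgroupOf Q).map φ ≤ φ.range := Subgroup.map_le_range _ _
  refine hle (hP.2 _ (isConj_map hφ hPQ) ⟨hg.1, fun y hy => hg.2 y (hle hy)⟩)

/-- A map of a saturated system fixing a centric normal subgroup pointwise and inducing a map onto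
its own source is conjugation by an element of that subgroup. -/
theorem exists_conj_of_fix [Finite S] {p : ℕ} [Fact p.Prime] (hS : IsPGroup p S)
    (hF : F.IsSaturated p) {R P : Subgroup Ω} (hR : F.IsCentric R) (hRP : R ≤ P)
    (hnorm : P ≤ Subgroup.normalizer (R : Set Ω)) {κ : MulAut P} (hκ : κ ∈ F.autGroup P)
    (hfix : ∀ x : P, (x : Ω) ∈ R → κ x = x)
    (hmod : ∀ x : P, (x : Ω)⁻¹ * ((κ x : P) : Ω) ∈ R) :
    ∃ z ∈ R, ∀ x : P, ((κ x : P) : Ω) = z * (x : Ω) * z⁻¹ := by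
  by_cases hP : P ≤ S
  swap
  · rw [autGroup_eq_bot_of_not_le hP, Subgroup.mem_bot] at hκ
    exact ⟨1, R.one_mem, fun x => by simp [hκ]⟩
  have := finite_of_le hP
  have := finite_mulAut hP
  obtain ⟨e, he⟩ := (hS.to_le hP).exists_card_eq
  have hκp : IsPGroup p (Subgroup.zpowers κ) := by
    have hpow : ∀ (m : ℕ) (x : P), (κ ^ m) x = x * (x⁻¹ * κ x) ^ m := by
      intro m x
      induction m with
      | zero => simp
      | succ m ihm =>
        have hy : κ (x⁻¹ * κ x) = x⁻¹ * κ x := hfix _ (hmod x)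
        rw [pow_succ', MulAut.mul_apply, ihm, map_mul, map_pow, hy]
        rw [show (x⁻¹ * κ x) ^ (m + 1) = (x⁻¹ * κ x) * (x⁻¹ * κ x) ^ m from pow_succ' _ _,
          ← mul_assoc x, mul_inv_cancel_left]
    have h1 : κ ^ p ^ e = 1 := MulEquiv.ext fun x => by
      rw [hpow, ← he, pow_card_eq_one', mul_one]; rfl
    have h2 : orderOf κ ∣ p ^ e := orderOf_dvd_of_pow_eq_one h1
    obtain ⟨k, -, hk⟩ := (Nat.dvd_prime_pow Fact.out).mp h2
    exact IsPGroup.of_card (n := k) (by rw [Nat.card_zpowers, hk])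
  obtain ⟨Q, hQ, hQn⟩ := exists_fullyNormalized (F := F) hP
  have hQa := (fullyNormalized_good hS hF hQn).1
  obtain ⟨χ, hχ, hχr⟩ := hQ
  obtain ⟨ε, hε⟩ := exists_equiv hχ hχr
  obtain ⟨α, hα, hαA⟩ := FullyAutomized.exists_conj hQa
    (A := (Subgroup.zpowers κ).map (MulAut.congr ε).toMonoidHom)
    ((Subgroup.map_mono (Subgroup.zpowers_le.mpr hκ)).trans (map_autGroup hχ hε).le) (hκp.map _)
  obtain ⟨s, hs, hse⟩ := mem_autInducedBy.mp (hαA _ ⟨κ, Subgroup.mem_zpowers κ, rfl⟩)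
  obtain ⟨a, ha, -, hae⟩ := exists_map_of_mem_autGroup hQa.1 hα
  obtain ⟨η, hη, hηe⟩ := exists_comp hχ ha fun x => hχr.le ⟨x, rfl⟩
  have hη' : ∀ x : P, η x = ((α (ε x) : Q) : Ω) := fun x => by
    rw [hηe, hae]
    exact congrArg (fun z : Q => ((α z : Q) : Ω)) (Subtype.ext (hε x).symm)
  have hκη : ∀ x : P, η (κ x) = s * η x * s⁻¹ := fun x => by
    rw [hη', hη', ← hse]
    simp [MulAut.congr]
  -- `s` centralizes the image of `R`
  have hsC : s ∈ centralizerIn S ((R.subgroupOf P).map η) := by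
    refine mem_centralizerIn'.mpr ⟨hs, fun y => ?_⟩
    obtain ⟨x, hx, hxy⟩ := y.2
    rw [← hxy, ← hκη, hfix x hx]
  obtain ⟨z, hz, rfl⟩ := hR.2 _ (isConj_map hη hRP) hsC
  refine ⟨z, hz, fun x => ?_⟩
  have h1 : η (κ x) = η (z * x * z⁻¹) := by rw [hκη, map_mul, map_mul, map_inv]
  exact congrArg Subtype.val (F.injective_of_mem hη h1)

/-- A map of `F` whose restriction to a centric subgroup lies in the saturated subsystem `E`
over `S` lies in `E`. -/
theorem mem_of_restrict_centric [Finite S] {p : ℕ} [Fact p.Prime] (hS : IsPGroup p S)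
    (hF : F.IsSaturated p) (hEF : E.IsSubsystemOf F) (hE : E.IsSaturated p) :
    ∀ (n : ℕ) {P R : Subgroup Ω} {φ : P →* Ω}, Nat.card P - Nat.card R < n → F.IsCentric R →
      φ ∈ F.Hom P → ∀ hRP : R ≤ P, φ.comp (Subgroup.inclusion hRP) ∈ E.Hom R → φ ∈ E.Hom P := by
  intro n
  induction n with
  | zero => intro P R φ h; omega
  | succ n ih =>
  intro P R φ hn hR hφ hRP hres
  have hP := le_S hφ
  have := finite_of_le hP
  by_cases hPR : R = P
  · subst hPR
    exact restrict_of le_rfl hres fun x => rfl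
  set N := normalizerIn P R with hN
  have hlt : R < N := lt_normalizerIn hS hP (lt_of_le_of_ne hRP hPR)
  have hNP : N ≤ P := normalizerIn_le
  have hcard : Nat.card R < Nat.card N := by
    have := finite_of_le (hNP.trans hP)
    exact lt_of_not_ge fun hle => hlt.ne (eq_of_le_of_card_le hlt.le hle)
  have hcard' : Nat.card N ≤ Nat.card P := Subgroup.card_le_of_le hNP
  have hNC : F.IsCentric N := isCentric_of_le hR hlt.le (hNP.trans hP)
  refine ih (P := P) (R := N) (by omega) hNC hφ hNP ?_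
  -- the step from `R` to `N`
  set φN := φ.comp (Subgroup.inclusion hNP) with hφN
  have hφNm : φN ∈ F.Hom N := restrict_mem hNP hφ
  set R' := (R.subgroupOf P).map φ with hR'
  have hR'r : (φ.comp (Subgroup.inclusion hRP)).range = R' := by
    ext y
    constructor
    · rintro ⟨x, rfl⟩; exact ⟨⟨x, hRP x.2⟩, x.2, rfl⟩
    · rintro ⟨x, hx, rfl⟩; exact ⟨⟨x, hx⟩, rfl⟩
  have hR'C : F.IsCentric R' := isCentric_of_conj hR (isConj_map hφ hRP)
  have hR'rec := receptive_of_fullyCentralized hS hE (fullyCentralized_of_centric hEF hR'C)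
  have hext : N ≤ extender S R (φ.comp (Subgroup.inclusion hRP)) := fun g hg =>
    mem_extender.mpr ⟨hP (hNP hg), hg.2, φ ⟨g, hNP hg⟩, apply_mem_S hφ _, fun x hx => by
      show φ ⟨g * x * g⁻¹, _⟩ = φ ⟨g, hNP hg⟩ * φ ⟨x, _⟩ * (φ ⟨g, hNP hg⟩)⁻¹
      rw [← map_inv, ← map_mul, ← map_mul]
      exact apply_eq_of_coe_eq rfl⟩
  obtain ⟨ψ, hψ, hψe⟩ := exists_extension hR'rec hres hR'r hlt.le hext
  have hψF := hEF N hψ
  -- `φ` and `ψ` differ by elements of the image of `R`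
  have hdiff : ∀ g : N, (ψ g)⁻¹ * φN g ∈ R' := by
    intro g
    refine hR'C.2 R' (isConj_refl hR'C.1) (mem_centralizerIn'.mpr
      ⟨S.mul_mem (S.inv_mem (apply_mem_S hψ g)) (apply_mem_S hφNm g), fun y => ?_⟩)
    obtain ⟨x, hx⟩ := hR'r.ge y.2
    have hm := (Subgroup.mem_normalizer_iff.mp g.2.2 x).mp x.2
    have h1 := extension_conj hlt.le hψe g x hm
    have h2 := extension_conj (φ := φ.comp (Subgroup.inclusion hRP)) hlt.le (ψ := φN) (fun _ => rfl) g x hm
    rw [h1] at h2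
    rw [← hx]
    calc (ψ g)⁻¹ * φN g * _ * ((ψ g)⁻¹ * φN g)⁻¹
        = (ψ g)⁻¹ * (φN g * φ.comp (Subgroup.inclusion hRP) x * (φN g)⁻¹) * ψ g := by group
      _ = _ := by rw [← h2]; group
  have hrange : ∀ g : N, φN g ∈ ψ.range := by
    intro g
    obtain ⟨x, hx⟩ := hR'r.ge (hdiff g)
    refine ⟨g * ⟨x, hlt.le x.2⟩, ?_⟩
    rw [map_mul, hψe, hx, mul_inv_cancel_left]
  obtain ⟨ψi, hψi, hψir, hψi₁, hψi₂⟩ := exists_inv hψF (rfl : ψ.range = ψ.range)
  obtain ⟨k, hk, hke⟩ := exists_comp hφNm hψi hrange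
  have hkr : k.range = N := range_eq_of_card_le hk (hNP.trans hP)
    (fun g => by rw [hke]; exact hψir.le ⟨_, rfl⟩) le_rfl
  obtain ⟨κ, hκ, hκe⟩ := exists_aut hk hkr
  have hψκ : ∀ g : N, ψ (κ g) = φN g := fun g => by
    have h1 : ((κ g : N) : Ω) = ψi ⟨φN g, hrange g⟩ := (hκe g).trans (hke g)
    exact (apply_eq_of_coe_eq h1).trans (hψi₂ ⟨φN g, hrange g⟩ (h1 ▸ Subtype.mem _))
  have hfix : ∀ g : N, (g : Ω) ∈ R → κ g = g := fun g hg => by
    refine F.injective_of_mem hψF ?_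
    rw [hψκ]
    exact (hψe ⟨g, hg⟩).symm
  have hmod : ∀ g : N, (g : Ω)⁻¹ * ((κ g : N) : Ω) ∈ R := fun g => by
    obtain ⟨x, hx⟩ := hR'r.ge (hdiff g)
    have h1 : ψ (g⁻¹ * κ g) = ψ ⟨x, hlt.le x.2⟩ := by
      rw [map_mul, map_inv, hψκ, hψe, hx]
    have h2 := congrArg Subtype.val (F.injective_of_mem hψF h1)
    rw [show ((g : Ω)⁻¹ * ((κ g : N) : Ω)) = (x : Ω) from h2]
    exact x.2
  obtain ⟨z, hz, hze⟩ := exists_conj_of_fix hS hF hR hlt.le (fun g hg => hg.2) hκ hfix hmod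
  refine comp_of (E.conj_mem (hNP.trans hP) (hR.1 hz)) hψ
    (fun g => by rw [conjHom_apply, ← hze g]; exact (κ g).2) fun g => ?_
  exact (hψκ g).symm.trans (apply_eq_of_coe_eq (hze g))

/-- In an invariant subsystem over `S` the automorphism groups are normal in those of `F`. -/
theorem autGroup_normal_of_invariant (hE : E.IsInvariantIn F) {R : Subgroup Ω} (hR : R ≤ S)
    {β γ : MulAut R} (hβ : β ∈ F.autGroup R) (hγ : γ ∈ E.autGroup R) :
    β * γ * β⁻¹ ∈ E.autGroup R := by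
  obtain ⟨b, hb, hbr, hbe⟩ := exists_map_of_mem_autGroup hR hβ
  obtain ⟨α, hα, φ₀, hφ₀, hαφ⟩ := hE.2.2.2 R hR b hb
  set R' := φ₀.range
  obtain ⟨ε, hε⟩ := exists_equiv hφ₀ (rfl : φ₀.range = R')
  have hR' : R' ≤ S := range_le_S hφ₀
  have hγ' : MulAut.congr ε γ ∈ E.autGroup R' := autGroup_congr_mem hφ₀ hε hγ
  obtain ⟨g, hg, hgr, hge⟩ := exists_map_of_mem_autGroup hR' hγ'
  obtain ⟨χ, hχ, hχe⟩ := hE.2.2.1 R' hR' g hg α hα
  have himg : ∀ y : R, ∃ hm : φ₀ y ∈ S, ((β y : R) : Ω) = ((α ⟨φ₀ y, hm⟩ : S) : Ω) := fun y =>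
    ⟨apply_mem_S hφ₀ y, (hbe y).symm.trans (hαφ y _)⟩
  have hA : (R'.subgroupOf S).map (S.subtype.comp α.toMonoidHom) = R := by
    apply le_antisymm
    · rintro _ ⟨⟨w, hw⟩, ⟨y, hy⟩, rfl⟩
      obtain ⟨hm, e⟩ := himg y
      have : ((α ⟨w, hw⟩ : S) : Ω) = ((β y : R) : Ω) := by
        rw [e]; exact congrArg (fun v : S => ((α v : S) : Ω)) (Subtype.ext hy.symm)
      show ((α ⟨w, hw⟩ : S) : Ω) ∈ R
      rw [this]; exact Subtype.mem _
    · intro x hx
      obtain ⟨y, hy⟩ := β.surjective ⟨x, hx⟩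
      obtain ⟨hm, e⟩ := himg y
      refine ⟨⟨φ₀ y, hm⟩, ⟨y, rfl⟩, ?_⟩
      show ((α ⟨φ₀ y, hm⟩ : S) : Ω) = x
      rw [← e, hy]
  obtain ⟨χR, hχR, hχRe⟩ : ∃ χR ∈ E.Hom R, ∀ x : R, χR x = χ ⟨x, hA.ge x.2⟩ :=
    ⟨_, restrict_mem hA.ge hχ, fun _ => rfl⟩
  refine (mem_autGroup hR).mpr (restrict_of le_rfl hχR fun x => ?_)
  obtain ⟨y, rfl⟩ := β.surjective x
  show (((β * γ * β⁻¹) (β y) : R) : Ω) = χR ⟨(β y : R), _⟩
  simp only [MulAut.mul_apply, MulAut.inv_apply_self]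
  obtain ⟨hm, e⟩ := himg y
  obtain ⟨hm', e'⟩ := himg (γ y)
  have hgy : g ⟨φ₀ y, ⟨y, rfl⟩⟩ = φ₀ (γ y) := by
    rw [hge]
    show ((ε (γ (ε.symm ⟨φ₀ y, _⟩)) : R') : Ω) = _
    rw [hε]
    refine congrArg φ₀ (congrArg γ ?_)
    rw [MulEquiv.symm_apply_eq]
    exact Subtype.ext (hε y).symm
  have hm'' : g ⟨φ₀ y, ⟨y, rfl⟩⟩ ∈ S := apply_mem_S hg _
  have h1 := hχe ⟨φ₀ y, ⟨y, rfl⟩⟩ hm'' (hA.ge (e ▸ Subtype.mem (β y)))
  rw [hχRe, e']
  refine Eq.trans ?_ ((apply_eq_of_coe_eq e).trans h1).symm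
  exact congrArg (fun v : S => ((α v : S) : Ω)) (Subtype.ext hgy.symm)

/-- A weakly normal subsystem over `S` contains the `p`-elements of the automorphism group of every
fully normalized subgroup. -/
theorem pElement_mem_of_invariant [Finite S] {p : ℕ} [Fact p.Prime] (hS : IsPGroup p S)
    (hF : F.IsSaturated p) (hE : E.IsInvariantIn F) {R : Subgroup Ω} (hR : F.IsFullyNormalized R)
    {β : MulAut R} (hβ : β ∈ F.autGroup R) {k : ℕ} (hk : β ^ p ^ k = 1) : β ∈ E.autGroup R := by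
  have hRS := hR.1
  have := finite_mulAut hRS
  obtain ⟨j, -, hj⟩ := (Nat.dvd_prime_pow Fact.out).mp (orderOf_dvd_of_pow_eq_one hk)
  have hp : IsPGroup p (Subgroup.zpowers β) := IsPGroup.of_card (n := j) (by rw [Nat.card_zpowers, hj])
  obtain ⟨α, hα, hαA⟩ := FullyAutomized.exists_conj (fullyNormalized_good hS hF hR).1
    (Subgroup.zpowers_le.mpr hβ) hp
  have h1 := autGroup_normal_of_invariant hE hRS ((F.autGroup R).inv_mem hα)
    (autInducedBy_le_autGroup (F := E) hRS (hαA β (Subgroup.mem_zpowers β)))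
  simpa [mul_assoc] using h1

/-- The simplicity criterion for the fusion system of a group: no proper nontrivial strongly
closed subgroup, and the automizer of `S` is generated by what the subgroups generated by the
`p`-elements of the normalizers of fully normalized centric subgroups induce. -/
theorem group_isSimple {G : Type*} [Group G] [Finite G] {p : ℕ} [Fact p.Prime] (S : Sylow p G)
    (hS1 : (S : Subgroup G) ≠ ⊥)
    (ha : ∀ T : Subgroup G, (groupFusionSystem (S : Subgroup G)).StronglyClosed T →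
      T = ⊥ ∨ T = (S : Subgroup G))
    (hb : ∀ E : FusionSystem (S : Subgroup G), (∀ R : Subgroup G,
        (groupFusionSystem (S : Subgroup G)).IsFullyNormalized R →
        (groupFusionSystem (S : Subgroup G)).IsCentric R →
          autInducedBy (Subgroup.closure {g : G | g ∈ Subgroup.normalizer (R : Set G) ∧
            ∃ k : ℕ, orderOf g = p ^ k}) (S : Subgroup G) ≤ E.autGroup (S : Subgroup G)) →
        autInducedBy ⊤ (S : Subgroup G) ≤ E.autGroup (S : Subgroup G)) :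
    (groupFusionSystem (S : Subgroup G)).IsSimple p := by
  set F := groupFusionSystem (S : Subgroup G) with hFdef
  have hF : F.IsSaturated p := group_saturated S
  have hS : IsPGroup p (S : Subgroup G) := S.2
  refine ⟨hF, hS1, fun T E hE => ?_⟩
  obtain ⟨⟨hEs, -, hEi⟩, -⟩ := hE
  refine (ha T hEi.2.1).imp id fun hT => ⟨hT, ?_⟩
  subst hT
  have hEF := hEi.1
  have haut : autInducedBy ⊤ (S : Subgroup G) ≤ E.autGroup (S : Subgroup G) := by
    refine hb E fun R hRn hRc => ?_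
    intro α hα
    obtain ⟨g, hg, hge⟩ := mem_autInducedBy.mp hα
    have hRS := hRn.1
    -- `g` acts on `R` as an element of `E`
    have key : ∀ h ∈ Subgroup.closure {g : G | g ∈ Subgroup.normalizer (R : Set G) ∧
        ∃ k : ℕ, orderOf g = p ^ k},
        ∃ hN : h ∈ Subgroup.normalizer (R : Set G), R.normalizerMonoidHom ⟨h, hN⟩ ∈ E.autGroup R := by
      intro h hh
      induction hh using Subgroup.closure_induction with
      | mem x hx =>
        obtain ⟨hxN, k, hk⟩ := hx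
        refine ⟨hxN, pElement_mem_of_invariant hS hF hEi hRn ?_ (k := k) ?_⟩
        · refine (mem_autGroup hRS).mpr ⟨hRS, fun y => hRS (Subtype.mem _), x, fun y => rfl⟩
        · rw [← map_pow]
          have : (⟨x, hxN⟩ : Subgroup.normalizer (R : Set G)) ^ p ^ k = 1 :=
            Subtype.ext (by rw [SubgroupClass.coe_pow, ← hk]; exact pow_orderOf_eq_one x)
          rw [this, map_one]
      | one => exact ⟨Subgroup.one_mem _, by
          rw [show (⟨1, Subgroup.one_mem _⟩ : Subgroup.normalizer (R : Set G)) = 1 from rfl, map_one]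
          exact one_mem _⟩
      | mul a b _ _ ha hb =>
        obtain ⟨ha₁, ha₂⟩ := ha
        obtain ⟨hb₁, hb₂⟩ := hb
        refine ⟨Subgroup.mul_mem _ ha₁ hb₁, ?_⟩
        have := mul_mem ha₂ hb₂
        rwa [← map_mul] at this
      | inv a _ ha =>
        obtain ⟨ha₁, ha₂⟩ := ha
        refine ⟨Subgroup.inv_mem _ ha₁, ?_⟩
        have := inv_mem ha₂
        rwa [← map_inv] at this
    obtain ⟨hgN, hgE⟩ := key g hg
    obtain ⟨f, hf, -, hfe⟩ := exists_map_of_mem_autGroup hRS hgE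
    refine (mem_autGroup le_rfl).mpr ?_
    refine mem_of_restrict_centric hS hF hEF hEs _ (Nat.lt_succ_self _) hRc
      (P := (S : Subgroup G)) ?_ hRS (restrict_of le_rfl hf fun x => ?_)
    · exact ⟨le_rfl, fun y => Subtype.mem _, g, hge⟩
    · exact (hge ⟨x, hRS x.2⟩).trans (hfe x).symm
  intro P
  refine Set.Subset.antisymm (hEF P) fun φ hφ => ?_
  obtain ⟨α, hα, φ₀, hφ₀, he⟩ := hEi.2.2.2 P (le_S hφ) φ hφ
  have hα' : α ∈ E.autGroup (S : Subgroup G) := by
    refine haut (mem_autInducedBy.mpr ?_)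
    obtain ⟨-, -, g, hg⟩ := (mem_autGroup (le_refl _)).mp hα
    exact ⟨g, Subgroup.mem_top _, hg⟩
  exact comp_of hφ₀ ((mem_autGroup le_rfl).mp hα') (apply_mem_S hφ₀) fun x => he x _

end CfsgLib.FusionSimple
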