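import Cfsg.Agent.Lib.Fusion.Simple

/-!
A second form of the simplicity criterion for the fusion system of a group: the `p`-elements of the
normalizer of an arbitrary subgroup of the Sylow subgroup act through the invariant subsystem.
-/

set_option autoImplicit false

namespace CfsgLib.FusionSimple

open Cfsg Cfsg.FusionSystem CfsgLib.Fusion

variable {Ω : Type*} [Group Ω] {S : Subgroup Ω} {F E : FusionSystem S}

/-- An invariant saturated subsystem over `S` contains the `p`-elements of all automorphism groups. -/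
theorem pElement_mem_all [Finite S] {p : ℕ} [Fact p.Prime] (hS : IsPGroup p S) (hF : F.IsSaturated p)
    (hE : E.IsInvariantIn F) {R : Subgroup Ω} (hR : R ≤ S) {β : MulAut R} (hβ : β ∈ F.autGroup R)
    {k : ℕ} (hk : β ^ p ^ k = 1) : β ∈ E.autGroup R := by
  obtain ⟨R', hR', hR'n⟩ := exists_fullyNormalized (F := F) hR
  obtain ⟨φ, hφ, hφr⟩ := hR'
  obtain ⟨α, hα, φ₀, hφ₀, he⟩ := hE.2.2.2 R hR φ hφ
  set R₀ := φ₀.range with hR₀
  have hR₀S : R₀ ≤ S := range_le_S hφ₀
  have hφ₀F : φ₀ ∈ F.Hom R := hE.1 R hφ₀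
  have himg : ∀ g (hg : g ∈ S), g ∈ R₀ ↔ ((α ⟨g, hg⟩ : S) : Ω) ∈ R' := by
    intro g hg
    constructor
    · rintro ⟨x, rfl⟩
      rw [← hφr]
      exact ⟨x, he x hg⟩
    · intro h
      rw [← hφr] at h
      obtain ⟨x, hx⟩ := h
      refine ⟨x, ?_⟩
      have h1 : α ⟨φ₀ x, apply_mem_S hφ₀ x⟩ = α ⟨g, hg⟩ := Subtype.ext ((he x _).symm.trans hx)
      exact congrArg Subtype.val (α.injective h1)
  -- the image in `R₀` is again fully normalized
  have hR₀n : F.IsFullyNormalized R₀ := by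
    refine ⟨hR₀S, fun Q hQ => ?_⟩
    have hQ' : F.IsConj R' Q :=
      isConj_trans (isConj_symm ⟨φ, hφ, hφr⟩) (isConj_trans ⟨φ₀, hφ₀F, rfl⟩ hQ)
    refine (hR'n.2 Q hQ').trans (le_of_eq ?_)
    refine Nat.card_congr
      ⟨fun g => ⟨((α.symm ⟨g, g.2.1⟩ : S) : Ω), ?_⟩, fun g => ⟨((α ⟨g, g.2.1⟩ : S) : Ω), ?_⟩, ?_, ?_⟩
    · refine ⟨(α.symm ⟨g, g.2.1⟩).2, Subgroup.mem_normalizer_iff.mpr fun y => ?_⟩
      set w := α.symm ⟨(g : Ω), g.2.1⟩ with hw
      have hαw : α w = ⟨(g : Ω), g.2.1⟩ := α.apply_symm_apply _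
      constructor
      · intro hy
        have hyS := hR₀S hy
        have hm : (w : Ω) * y * (w : Ω)⁻¹ ∈ S := S.mul_mem (S.mul_mem w.2 hyS) (S.inv_mem w.2)
        rw [himg _ hm, show (⟨_, hm⟩ : S) = w * ⟨y, hyS⟩ * w⁻¹ from rfl, map_mul, map_mul, map_inv, hαw]
        exact (Subgroup.mem_normalizer_iff.mp g.2.2 _).mp ((himg y hyS).mp hy)
      · intro hy
        have hyS : y ∈ S := by
          have h1 := hR₀S hy
          have := S.mul_mem (S.mul_mem (S.inv_mem w.2) h1) w.2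
          simpa [mul_assoc] using this
        have hm : (w : Ω) * y * (w : Ω)⁻¹ ∈ S := hR₀S hy
        rw [himg _ hm, show (⟨_, hm⟩ : S) = w * ⟨y, hyS⟩ * w⁻¹ from rfl, map_mul, map_mul, map_inv,
          hαw] at hy
        exact (himg y hyS).mpr ((Subgroup.mem_normalizer_iff.mp g.2.2 _).mpr hy)
    · refine ⟨(α ⟨g, g.2.1⟩).2, Subgroup.mem_normalizer_iff.mpr fun y => ?_⟩
      set w := α ⟨(g : Ω), g.2.1⟩ with hw
      constructor
      · intro hy
        have hR'S : R' ≤ S := hR'n.1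
        obtain ⟨v, hv⟩ := α.surjective ⟨y, hR'S hy⟩
        have hy' : ((α v : S) : Ω) ∈ R' := by rw [hv]; exact hy
        have h1 := (Subgroup.mem_normalizer_iff.mp g.2.2 _).mp ((himg v v.2).mpr hy')
        have hm : (g : Ω) * (v : Ω) * (g : Ω)⁻¹ ∈ S := hR₀S h1
        rw [himg _ hm, show (⟨_, hm⟩ : S) = ⟨(g : Ω), g.2.1⟩ * v * ⟨(g : Ω), g.2.1⟩⁻¹ from rfl,
          map_mul, map_mul, map_inv, hv] at h1
        exact h1
      · intro hy
        have hyS : y ∈ S := by
          have h1 := hR'n.1 hy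
          have := S.mul_mem (S.mul_mem (S.inv_mem w.2) h1) w.2
          simpa [mul_assoc] using this
        obtain ⟨v, hv⟩ := α.surjective ⟨y, hyS⟩
        have hm : (g : Ω) * (v : Ω) * (g : Ω)⁻¹ ∈ S := S.mul_mem (S.mul_mem g.2.1 v.2) (S.inv_mem g.2.1)
        have h1 : (g : Ω) * (v : Ω) * (g : Ω)⁻¹ ∈ R₀ := by
          rw [himg _ hm, show (⟨_, hm⟩ : S) = ⟨(g : Ω), g.2.1⟩ * v * ⟨(g : Ω), g.2.1⟩⁻¹ from rfl,
            map_mul, map_mul, map_inv, hv]
          exact hy
        have h2 := (himg v v.2).mp ((Subgroup.mem_normalizer_iff.mp g.2.2 _).mpr h1)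
        rw [hv] at h2
        exact h2
    · intro g; apply Subtype.ext; simp
    · intro g; apply Subtype.ext; simp
  obtain ⟨ε, hε⟩ := exists_equiv hφ₀ (rfl : φ₀.range = R₀)
  have h1 : MulAut.congr ε β ∈ F.autGroup R₀ := autGroup_congr_mem hφ₀F hε hβ
  have h2 : MulAut.congr ε β ∈ E.autGroup R₀ := by
    refine pElement_mem_of_invariant hS hF hE hR₀n h1 (k := k) ?_
    rw [← map_pow, hk, map_one]
  rw [← map_autGroup hφ₀ hε] at h2
  obtain ⟨γ, hγ, hγe⟩ := h2
  rwa [← (MulAut.congr ε).injective hγe]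

/-- Conjugation by an element on a subgroup lies in the automorphism group of a system. -/
def InAut {G : Type*} [Group G] {T : Subgroup G} (D : FusionSystem T) (R : Subgroup G) (x : G) : Prop :=
  ∃ hx : x ∈ Subgroup.normalizer (R : Set G), R.normalizerMonoidHom ⟨x, hx⟩ ∈ D.autGroup R

/-- The elements acting on `R` through the system. -/
def inAutSubgroup {G : Type*} [Group G] {T : Subgroup G} (D : FusionSystem T) (R : Subgroup G) :
    Subgroup G :=
  ((D.autGroup R).comap R.normalizerMonoidHom).map (Subgroup.normalizer (R : Set G)).subtype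

theorem mem_inAutSubgroup {G : Type*} [Group G] {T : Subgroup G} {D : FusionSystem T} {R : Subgroup G}
    {x : G} : x ∈ inAutSubgroup D R ↔ InAut D R x := by
  constructor
  · rintro ⟨y, hy, rfl⟩; exact ⟨y.2, hy⟩
  · rintro ⟨hx, hm⟩; exact ⟨⟨x, hx⟩, hm, rfl⟩

/-- The simplicity criterion in terms of the `p`-elements normalizing arbitrary subgroups. -/
theorem group_isSimple' {G : Type*} [Group G] [Finite G] {p : ℕ} [Fact p.Prime] (S : Sylow p G)
    (hS1 : (S : Subgroup G) ≠ ⊥)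
    (ha : ∀ T : Subgroup G, (groupFusionSystem (S : Subgroup G)).StronglyClosed T →
      T = ⊥ ∨ T = (S : Subgroup G))
    (hb : ∀ E : FusionSystem (S : Subgroup G), E.IsSubsystemOf (groupFusionSystem (S : Subgroup G)) →
      E.IsSaturated p →
      (∀ R : Subgroup G, R ≤ (S : Subgroup G) → ∀ x ∈ Subgroup.normalizer (R : Set G),
        (∃ k : ℕ, x ^ p ^ k = 1) → InAut E R x) →
      ∀ g ∈ Subgroup.normalizer ((S : Subgroup G) : Set G), InAut E (S : Subgroup G) g) :
    (groupFusionSystem (S : Subgroup G)).IsSimple p := by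
  set F := groupFusionSystem (S : Subgroup G) with hFdef
  have hF : F.IsSaturated p := group_saturated S
  have hS : IsPGroup p (S : Subgroup G) := S.2
  refine ⟨hF, hS1, fun T E hE => ?_⟩
  obtain ⟨⟨hEs, -, hEi⟩, -⟩ := hE
  refine (ha T hEi.2.1).imp id fun hT => ⟨hT, ?_⟩
  subst hT
  have hp := hb E hEi.1 hEs fun R hR x hx ⟨k, hk⟩ => ⟨hx, pElement_mem_all hS hF hEi hR
    ((mem_autGroup hR).mpr ⟨hR, fun y => hR (Subtype.mem _), x, fun y => rfl⟩) (k := k) (by
      rw [← map_pow, show (⟨x, hx⟩ : Subgroup.normalizer (R : Set G)) ^ p ^ k = 1 from Subtype.ext hk,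
        map_one])⟩
  have haut : autInducedBy ⊤ (S : Subgroup G) ≤ E.autGroup (S : Subgroup G) := by
    intro α hα
    obtain ⟨g, -, hge⟩ := mem_autInducedBy.mp hα
    obtain ⟨hgN, hgE⟩ := hp g (mem_normalizer_of_aut hge)
    rwa [show α = (S : Subgroup G).normalizerMonoidHom ⟨g, hgN⟩ from MulEquiv.ext fun x => Subtype.ext (hge x)]
  intro P
  refine Set.Subset.antisymm (hEi.1 P) fun φ hφ => ?_
  obtain ⟨α, hα, φ₀, hφ₀, he⟩ := hEi.2.2.2 P (le_S hφ) φ hφ
  have hα' : α ∈ E.autGroup (S : Subgroup G) := by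
    refine haut (mem_autInducedBy.mpr ?_)
    obtain ⟨-, -, g, hg⟩ := (mem_autGroup (le_refl _)).mp hα
    exact ⟨g, Subgroup.mem_top _, hg⟩
  exact comp_of hφ₀ ((mem_autGroup le_rfl).mp hα') (apply_mem_S hφ₀) fun x => he x _

/-- An element acting through the system on a centric subgroup acts through it on every overgroup
in `S` which it normalizes. -/
theorem inAut_of_centric {G : Type*} [Group G] [Finite G] {p : ℕ} [Fact p.Prime] {S : Sylow p G}
    {D : FusionSystem (S : Subgroup G)} (hDF : D.IsSubsystemOf (groupFusionSystem (S : Subgroup G)))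
    (hD : D.IsSaturated p) {R P : Subgroup G} (hR : (groupFusionSystem (S : Subgroup G)).IsCentric R)
    (hRP : R ≤ P) (hP : P ≤ (S : Subgroup G)) {g : G} (hg : g ∈ Subgroup.normalizer (P : Set G))
    (h : InAut D R g) : InAut D P g := by
  obtain ⟨hgR, hgE⟩ := h
  obtain ⟨f, hf, -, hfe⟩ := exists_map_of_mem_autGroup hR.1 hgE
  refine ⟨hg, (mem_autGroup hP).mpr ?_⟩
  refine mem_of_restrict_centric S.2 (group_saturated S) hDF hD _ (Nat.lt_succ_self _) hR ?_ hRP
    (restrict_of le_rfl hf fun x => ?_)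
  · exact ⟨hP, fun y => hP (Subtype.mem _), g, fun y => rfl⟩
  · exact (hfe x).symm

/-- An element acting through the system on a subgroup acts through it on a smaller subgroup which
it normalizes. -/
theorem inAut_of_le {G : Type*} [Group G] {S : Subgroup G} {D : FusionSystem S} {R P : Subgroup G}
    (hRP : R ≤ P) (hP : P ≤ S) {g : G} (hg : g ∈ Subgroup.normalizer (R : Set G))
    (h : InAut D P g) : InAut D R g := by
  obtain ⟨hgP, hgE⟩ := h
  obtain ⟨f, hf, -, hfe⟩ := exists_map_of_mem_autGroup hP hgE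
  exact ⟨hg, (mem_autGroup (hRP.trans hP)).mpr (restrict_of hRP hf fun x => (hfe ⟨x, hRP x.2⟩).symm)⟩

/-- A subgroup containing its centralizer is centric. -/
theorem group_isCentric_of_centralizer_le {G : Type*} [Group G] {S R : Subgroup G} (hR : R ≤ S)
    (hC : Subgroup.centralizer (R : Set G) ≤ R) : (groupFusionSystem S).IsCentric R := by
  refine ⟨hR, ?_⟩
  rintro Q ⟨φ, ⟨-, -, y, hy⟩, rfl⟩ c hc
  have hc' : y⁻¹ * c * y ∈ R := hC fun x hx => by
    have h1 := (mem_centralizerIn.mp hc).2 (φ ⟨x, hx⟩) ⟨_, rfl⟩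
    rw [hy] at h1
    calc x * (y⁻¹ * c * y) = y⁻¹ * ((y * x * y⁻¹) * c) * y := by group
      _ = y⁻¹ * (c * (y * x * y⁻¹)) * y := by rw [h1]
      _ = _ := by group
  exact ⟨⟨_, hc'⟩, by rw [hy]; group⟩

end CfsgLib.FusionSimple
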