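import Cfsg.Agent.Lib.Fusion.SimpleGroup
import Cfsg.Agent.Lib.Fusion.Solvable

/-!
The simplicity criterion for the `p`-fusion system of a quotient of a group of Lie type by a central
`p'`-subgroup: the normalizer of the Sylow subgroup is generated by that subgroup and by elements
lying in groups generated by the `p`-elements normalizing self-centralizing subgroups.
-/

set_option autoImplicit false

namespace CfsgLib.FusionLie

open Cfsg Cfsg.FusionSystem CfsgLib.Fusion CfsgLib.FusionSimple CfsgLib.FusionExtend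

variable {G : Type*} [Group G] [Finite G] {p : ℕ} [Fact p.Prime]

/-- A nontrivial strongly closed subgroup contains a nontrivial central element of the Sylow
subgroup. -/
theorem exists_central (S : Sylow p G) {T : Subgroup G}
    (hT : (groupFusionSystem (S : Subgroup G)).StronglyClosed T) (hne : T ≠ ⊥) :
    ∃ t ∈ T, t ≠ 1 ∧ ∀ y ∈ (S : Subgroup G), t * y = y * t := by
  have hTn : (T.subgroupOf (S : Subgroup G)).Normal := CfsgLib.FusionSolvable.normal_subgroupOf hT
  have : Nontrivial (T.subgroupOf (S : Subgroup G)) := by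
    rw [Subgroup.nontrivial_iff_ne_bot]
    intro h0
    refine hne (eq_bot_iff.mpr fun x hx => ?_)
    have : (⟨x, hT.1 hx⟩ : (S : Subgroup G)) ∈ T.subgroupOf (S : Subgroup G) := hx
    rw [h0, Subgroup.mem_bot] at this
    exact congrArg Subtype.val this
  obtain ⟨n', hn'⟩ := (S.2.to_subgroup (T.subgroupOf (S : Subgroup G))).exists_card_eq
  have hcard : p ∣ Nat.card (T.subgroupOf (S : Subgroup G)) := by
    rw [hn']
    refine dvd_pow_self p ?_
    intro h0
    rw [h0, pow_zero] at hn'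
    exact absurd hn' (Finite.one_lt_card).ne'
  have hfix : (1 : T.subgroupOf (S : Subgroup G)) ∈
      MulAction.fixedPoints (ConjAct (S : Subgroup G)) (T.subgroupOf (S : Subgroup G)) :=
    fun g => smul_one g
  obtain ⟨⟨⟨t, htS⟩, htT⟩, htfix, hne'⟩ := IsPGroup.exists_fixed_point_of_prime_dvd_card_of_fixed_point
    (p := p) (G := ConjAct (S : Subgroup G)) (S.2.of_equiv ConjAct.toConjAct)
    (T.subgroupOf (S : Subgroup G)) hcard hfix
  refine ⟨t, htT, fun h => hne' (Subtype.ext (Subtype.ext h.symm)), fun y hy => ?_⟩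
  have h1 := htfix (ConjAct.toConjAct ⟨y, hy⟩)
  have h2 : y * t * y⁻¹ = t :=
    congrArg (fun z : T.subgroupOf (S : Subgroup G) => ((z : (S : Subgroup G)) : G)) h1
  exact (mul_inv_eq_iff_eq_mul.mp h2).symm

omit [Finite G] [Fact p.Prime] in
/-- A strongly closed subgroup is closed under conjugation inside the Sylow subgroup. -/
theorem conj_mem {S : Subgroup G} {T : Subgroup G} (hT : (groupFusionSystem S).StronglyClosed T)
    {x g : G} (hx : x ∈ T) (hS : g * x * g⁻¹ ∈ S) : g * x * g⁻¹ ∈ T := by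
  refine hT.2 (Subgroup.zpowers x) (Subgroup.zpowers_le.mpr hx) (conjHom _ g)
    ⟨Subgroup.zpowers_le.mpr (hT.1 hx), fun y => ?_, g, fun y => rfl⟩ ⟨x, Subgroup.mem_zpowers x⟩
  obtain ⟨k, hk⟩ := Subgroup.mem_zpowers_iff.mp y.2
  rw [conjHom_apply, ← hk, ← conj_zpow]
  exact S.zpow_mem hS k

variable {H : Type*} [Group H] {π : H →* G}

omit [Finite G] [Fact p.Prime] in
/-- Elements of `p`-power order with the same image are equal. -/
theorem eq_of_map_eq (hker : ∀ z ∈ π.ker, z ∈ Subgroup.center H ∧ (z ^ p = 1 → z = 1)) {a b : H}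
    {k l : ℕ} (ha : a ^ p ^ k = 1) (hb : b ^ p ^ l = 1) (h : π a = π b) : a = b := by
  have hz : a * b⁻¹ ∈ π.ker := by rw [MonoidHom.mem_ker, map_mul, map_inv, h, mul_inv_cancel]
  set z := a * b⁻¹ with hzdef
  have hab : z * b = a := inv_mul_cancel_right a b
  have hcomm : Commute z b := ((Subgroup.mem_center_iff.mp (hker z hz).1) b).symm
  have hz1 : z ^ p ^ (k + l) = 1 := by
    have e : a ^ p ^ (k + l) = 1 := by rw [pow_add, pow_mul, ha, one_pow]
    rwa [← hab, hcomm.mul_pow, show b ^ p ^ (k + l) = 1 by rw [add_comm, pow_add, pow_mul, hb, one_pow],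
      mul_one] at e
  suffices ∀ n : ℕ, ∀ y ∈ π.ker, y ^ p ^ n = 1 → y = 1 by
    rw [← hab, this _ z hz hz1, one_mul]
  intro n
  induction n with
  | zero => intro y _ hy; simpa using hy
  | succ n ih =>
    intro y hy h1
    refine ih y hy ((hker _ (π.ker.pow_mem hy _)).2 ?_)
    rw [← pow_mul, ← pow_succ, h1]

omit [Finite G] in
/-- Conjugation is detected in the quotient. -/
theorem conj_eq_of_map_eq (hker : ∀ z ∈ π.ker, z ∈ Subgroup.center H ∧ (z ^ p = 1 → z = 1))
    {U : Subgroup H} (hU : IsPGroup p U) {g u v : H} (hu : u ∈ U) (hv : v ∈ U)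
    (h : π g * π u * (π g)⁻¹ = π v) : g * u * g⁻¹ = v := by
  obtain ⟨k, hk⟩ := hU ⟨u, hu⟩
  obtain ⟨l, hl⟩ := hU ⟨v, hv⟩
  refine eq_of_map_eq (p := p) hker (k := k) (l := l) ?_ (congrArg Subtype.val hl)
    (by rw [map_mul, map_mul, map_inv, h])
  rw [conj_pow, show u ^ p ^ k = 1 from congrArg Subtype.val hk, mul_one, mul_inv_cancel]

/-- The simplicity criterion. -/
theorem isSimple_of_lift (hπ : Function.Surjective π)
    (hker : ∀ z ∈ π.ker, z ∈ Subgroup.center H ∧ (z ^ p = 1 → z = 1))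
    (U : Subgroup H) (hUp : IsPGroup p U) (S : Sylow p G) (hS : (S : Subgroup G) = U.map π)
    (hS1 : (S : Subgroup G) ≠ ⊥)
    (ha : ∀ T : Subgroup G, (groupFusionSystem (S : Subgroup G)).StronglyClosed T → T ≠ ⊥ →
      U.map π ≤ T)
    (hgen : ∀ g : H, (∀ u ∈ U, g * u * g⁻¹ ∈ U) → g ∈ Subgroup.closure ((U : Set H) ∪
      {h : H | (∀ u ∈ U, h * u * h⁻¹ ∈ U) ∧ ∃ R : Subgroup H, R ≤ U ∧
        (∀ c : H, (∀ r ∈ R, c * r = r * c) → ∃ z ∈ π.ker, z * c ∈ R) ∧
        h ∈ Subgroup.closure {x : H | (∃ k : ℕ, x ^ p ^ k = 1) ∧ ∀ r ∈ R, x * r * x⁻¹ ∈ R}})) :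
    (groupFusionSystem (S : Subgroup G)).IsSimple p := by
  have hnorm : ∀ (R : Subgroup H) (x : H), (∀ r ∈ R, x * r * x⁻¹ ∈ R) →
      π x ∈ Subgroup.normalizer ((R.map π : Subgroup G) : Set G) := by
    intro R x hx
    refine mem_normalizer_of_forall ?_
    rintro _ ⟨r, hr, rfl⟩
    exact ⟨_, hx r hr, by rw [map_mul, map_mul, map_inv]⟩
  refine group_isSimple' S hS1 (fun T hT => ?_) (fun E hEF hE hp g hg => ?_)
  · by_cases hne : T = ⊥
    · exact Or.inl hne
    · exact Or.inr (le_antisymm hT.1 (hS.le.trans (ha T hT hne)))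
  · obtain ⟨g, rfl⟩ := hπ g
    have hgU : ∀ u ∈ U, g * u * g⁻¹ ∈ U := by
      intro u hu
      obtain ⟨v, hv, hve⟩ := hS.le ((Subgroup.mem_normalizer_iff.mp hg (π u)).mp (hS.ge ⟨u, hu, rfl⟩))
      rw [conj_eq_of_map_eq hker hUp hu hv hve.symm]
      exact hv
    suffices g ∈ (inAutSubgroup E (S : Subgroup G)).comap π from mem_inAutSubgroup.mp this
    refine (Subgroup.closure_le _).mpr ?_ (hgen g hgU)
    rintro h (hh | ⟨hhU, R, hRU, hRc, hhR⟩)
    · refine mem_inAutSubgroup.mpr (hp _ le_rfl _ (Subgroup.le_normalizer (hS.ge ⟨h, hh, rfl⟩)) ?_)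
      obtain ⟨k, hk⟩ := hUp ⟨h, hh⟩
      exact ⟨k, by rw [← map_pow, show h ^ p ^ k = 1 from congrArg Subtype.val hk, map_one]⟩
    · have hhS : π h ∈ Subgroup.normalizer ((S : Subgroup G) : Set G) := by
        rw [hS]; exact hnorm U h hhU
      have hRS : R.map π ≤ (S : Subgroup G) := (Subgroup.map_mono hRU).trans hS.ge
      have hR : (groupFusionSystem (S : Subgroup G)).IsCentric (R.map π) := by
        refine group_isCentric_of_centralizer_le hRS ?_
        intro c hc
        obtain ⟨c, rfl⟩ := hπ c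
        have hcR : ∀ r ∈ R, c * r = r * c := fun r hr => mul_inv_eq_iff_eq_mul.mp
          (conj_eq_of_map_eq hker hUp (hRU hr) (hRU hr)
            (by rw [mul_inv_eq_iff_eq_mul]; exact ((hc _ ⟨r, hr, rfl⟩)).symm))
        obtain ⟨z, hz, hzc⟩ := hRc c hcR
        exact ⟨z * c, hzc, by rw [map_mul, MonoidHom.mem_ker.mp hz, one_mul]⟩
      refine mem_inAutSubgroup.mpr (inAut_of_centric hEF hE hR hRS le_rfl hhS (mem_inAutSubgroup.mp ?_))
      show h ∈ (inAutSubgroup E (R.map π)).comap π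
      refine (Subgroup.closure_le _).mpr ?_ hhR
      rintro x ⟨⟨k, hk⟩, hx⟩
      exact mem_inAutSubgroup.mpr (hp _ hRS _ (hnorm R x hx) ⟨k, by rw [← map_pow, hk, map_one]⟩)

end CfsgLib.FusionLie
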