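import Cfsg.Agent.Lib.Fusion.UnitaryFlag

/-!
Centralizers of the radicals of the isotropic flag, torus elements of `SU_n(q)` as products of root
elements, and transitivity on isotropic vectors.
-/

set_option autoImplicit false
set_option linter.unusedSectionVars false

namespace CfsgLib.FusionPSU

open Matrix Cfsg CfsgLib.ClassicalGroups CfsgLib.AutPSU

variable {n r : ℕ} {F : Type*} [Field F] [Fintype F] {q : ℕ}

section hFsec
variable (hF : Fintype.card F = q ^ 2)
include hF

theorem eich_conj (g : SUG n F q) {v z : Vec n F} (hv : hh q v v = 0) (hz : hh q z v = 0) {a : F}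
    (ha : a + tau hF a + hh q z z = 0) :
    g * eich q v z a * g⁻¹ = eich q (mat g *ᵥ v) (mat g *ᵥ z) a := by
  refine mat_ext fun x => ?_
  rw [← mat_inv_mulVec g x]
  rw [eich_apply hF (by rw [h_mat, hv]) (by rw [h_mat, hz]) (by rw [h_mat]; exact ha), h_mat, h_mat]
  simp only [mat_mul, ← mulVec_mulVec, inv_mat_mulVec, eich_apply hF hv hz ha, mulVec_add, mulVec_smul]

theorem eich_tmat {v z : Vec n F} (hv : hh q v v = 0) (hz : hh q z v = 0) {a s : F}
    (ha : a + tau hF a + hh q z z = 0) (hs : tau hF s = -s) :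
    eich q v z a * tmat q v s = eich q v z (a + s) := by
  refine mat_ext fun x => ?_
  rw [eich_apply hF hv hz (by rw [map_add, hs]; linear_combination ha), mat_mul, ← mulVec_mulVec,
    tmat_apply hF hv hs, mulVec_add, mulVec_smul, eich_apply hF hv hz ha, eich_apply hF hv hz ha,
    hv, h_flip_zero hF hz]
  module

theorem eich_mul {v z z' : Vec n F} (hv : hh q v v = 0) (hz : hh q z v = 0) (hz' : hh q z' v = 0)
    {a a' : F} (ha : a + tau hF a + hh q z z = 0) (ha' : a' + tau hF a' + hh q z' z' = 0) :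
    eich q v z a * eich q v z' a' = eich q v (z + z') (a + a' - hh q z' z) := by
  have ha'' : a + a' - hh q z' z + tau hF (a + a' - hh q z' z) + hh q (z + z') (z + z') = 0 := by
    rw [map_sub, map_add, h_tau hF, h_add_left, h_add_right hF, h_add_right hF]
    linear_combination ha + ha'
  refine mat_ext fun x => ?_
  rw [eich_apply hF hv (by rw [h_add_left, hz, hz', add_zero]) ha'', mat_mul, ← mulVec_mulVec,
    eich_apply hF hv hz' ha', mulVec_add, mulVec_add, mulVec_smul, mulVec_smul,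
    eich_apply hF hv hz ha, eich_apply hF hv hz ha, eich_apply hF hv hz ha, hv, hz',
    h_flip_zero hF hz, h_add_right hF]
  module

theorem eich_line {v : Vec n F} (hv : hh q v v = 0) (c a : F) (ha : a + tau hF a = 0) :
    eich q v (c • v) a = tmat q v (a + c - tau hF c) := by
  have hcv : hh q (c • v) v = 0 := by rw [h_smul_left, hv, mul_zero]
  have hcc : hh q (c • v) (c • v) = 0 := by rw [h_smul_left, h_smul_right hF, hv, mul_zero, mul_zero]
  have hs : tau hF (a + c - tau hF c) = -(a + c - tau hF c) := by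
    rw [map_sub, map_add, tau_tau]; linear_combination ha
  refine mat_ext fun x => ?_
  rw [eich_apply hF hv hcv (by rw [hcc, add_zero]; exact ha), tmat_apply hF hv hs, h_smul_right hF]
  module

/-- A short root element as a product of three transvections. -/
theorem eich_eq_tmat {v z : Vec n F} (hv : hh q v v = 0) (hzz : hh q z z = 0) (hz : hh q z v = 0)
    {s : F} (hs : tau hF s = -s) :
    eich q v (s • z) 0 = tmat q (v + z) s * tmat q v (-s) * tmat q z (-s) := by
  have hvz := h_flip_zero hF hz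
  have h1 : hh q (v + z) (v + z) = 0 := by
    simp [h_add_left, h_add_right hF, hv, hzz, hz, hvz]
  have hs' : tau hF (-s) = -(-s) := by rw [map_neg, hs]
  refine mat_ext fun x => ?_
  rw [eich_apply hF hv (by rw [h_smul_left, hz, mul_zero])
    (by simp [h_smul_left, h_smul_right hF, hzz]), h_smul_right hF, hs, mat_mul, mat_mul,
    ← mulVec_mulVec, ← mulVec_mulVec, tmat_apply hF hzz hs', tmat_apply hF hv hs',
    tmat_apply hF h1 hs]
  simp only [h_add_left, h_add_right hF, h_smul_left, hv, hzz, hz, hvz, mul_zero, add_zero]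
  module

/-- Two elements of the radical of `v` agreeing on a partner of `v` are equal. -/
theorem isQ_ext {v u : Vec n F} (hv : hh q v v = 0) (huv : hh q u v = 1) {g g' : SUG n F q}
    (hg : IsQ v g) (hg' : IsQ v g') (h : mat g *ᵥ u = mat g' *ᵥ u) : g = g' := by
  have key : ∀ (k : SUG n F q), IsQ v k → ∀ y, hh q y v = 0 →
      mat k *ᵥ y = y + (hh q y u - hh q y (mat k *ᵥ u)) • v := by
    intro k hk y hy
    obtain ⟨c, hc⟩ := hk.2 y hy
    have h1 : hh q v (mat k *ᵥ u) = 1 := by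
      have h' := h_mat k v u
      rwa [hk.1, ← h_tau hF u v, huv, map_one] at h'
    have h2 := h_mat k y u
    rw [hc, h_add_left, h_smul_left, h1, mul_one] at h2
    rw [hc, ← h2]
    congr 2
    ring
  refine mat_ext fun x => ?_
  have hy : hh q (x - hh q x v • u) v = 0 := by
    rw [h_sub_left, h_smul_left, huv, mul_one, sub_self]
  have h1 := key g hg _ hy
  have h2 := key g' hg' _ hy
  rw [← h] at h2
  rw [← h2, mulVec_sub, mulVec_sub, mulVec_smul, mulVec_smul, h] at h1
  exact sub_left_inj.mp h1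

/-- A central translate with unipotent matrix. -/
theorem exists_center_smul {p : ℕ} [Fact p.Prime] [CharP F p] {g : SUG n F q} {c : F}
    (hc : c * tau hF c = 1) {k : ℕ} (hk : (c⁻¹ • mat g - 1) ^ k = 0) :
    ∃ z ∈ Subgroup.center (SUG n F q), mat (z * g) = c⁻¹ • mat g := by
  have hdet : (c⁻¹ • mat g).det = 1 := det_eq_one_of_pow_eq_zero (p := p) hk
  have hmem : (⟨c⁻¹ • mat g, hdet⟩ : Matrix.SpecialLinearGroup (Fin n) F) ∈ Cfsg.SU n F q := by
    intro u v
    show hh q ((c⁻¹ • mat g) *ᵥ u) ((c⁻¹ • mat g) *ᵥ v) = hh q u v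
    rw [smul_mulVec, smul_mulVec, h_smul_left, h_smul_right hF, h_mat, map_inv₀, ← mul_assoc,
      ← mul_inv, hc, inv_one, one_mul]
  set g' : SUG n F q := ⟨_, hmem⟩ with hg'
  have e := mk_eq_of_smul (g := g) (g' := g') (z := c⁻¹) rfl
  rw [QuotientGroup.eq] at e
  refine ⟨g' * g⁻¹, ?_, by rw [inv_mul_cancel_right]⟩
  have h2 := Subgroup.Normal.conj_mem (inferInstance : (Subgroup.center (SUG n F q)).Normal) _ e g
  rwa [mul_inv_cancel_left] at h2

theorem radQ_centralizer {p : ℕ} [Fact p.Prime] [CharP F p] {v u : Vec n F} (hv : hh q v v = 0)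
    (huv : hh q u v = 1) {g : SUG n F q} (hg : ∀ x ∈ radQ (q := q) v, g * x = x * g) :
    ∃ z ∈ Subgroup.center (SUG n F q), z * g ∈ radQ v := by
  obtain ⟨s, hs0, hs⟩ := exists_skew hF
  set c := hh q (mat g *ᵥ u) v with hcdef
  have hgv : mat g *ᵥ v = c • v := by
    have h1 := congrArg (fun M : SUG n F q => mat M *ᵥ u) (hg _ (isQ_tmat hF hv hs))
    simp only [mat_mul, ← mulVec_mulVec, tmat_apply hF hv hs, huv, mul_one, mulVec_add, mulVec_smul,
      add_right_inj, ← hcdef] at h1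
    rw [mul_smul] at h1
    exact smul_right_injective _ hs0 h1
  have hc : c * tau hF c = 1 := by
    have := h_mat g u v
    rw [hgv, h_smul_right hF, ← hcdef, huv] at this
    rw [mul_comm]; exact this
  have hc0 : c ≠ 0 := left_ne_zero_of_mul_eq_one hc
  have hperp : ∀ y, hh q y v = 0 → ∃ μ : F, mat g *ᵥ y = c • y + μ • v := by
    intro y hy
    obtain ⟨a, ha⟩ := exists_trace hF (b := -hh q y y) (by rw [map_neg, h_self_fixed hF])
    have hrel : a + tau hF a + hh q y y = 0 := by rw [ha]; ring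
    obtain ⟨hQ, hap⟩ := eich_spec hF hv hy hrel
    have h1 := congrArg (fun M : SUG n F q => mat M *ᵥ u) (hg _ hQ)
    simp only [mat_mul, ← mulVec_mulVec, hap, huv, mul_one, one_smul, mulVec_add, mulVec_smul, hgv,
      smul_smul, ← hcdef] at h1
    refine ⟨(a * c - hh q (mat g *ᵥ u) y) - (a - hh q u y) * c, ?_⟩
    linear_combination (norm := module) h1
  set A : Mat n F := c⁻¹ • mat g with hA
  have hA1 : ∀ x, A *ᵥ x = c⁻¹ • (mat g *ᵥ x) := fun x => smul_mulVec _ _ _
  have hAv : A *ᵥ v = v := by rw [hA1, hgv, smul_smul, inv_mul_cancel₀ hc0, one_smul]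
  have hAy : ∀ y, hh q y v = 0 → ∃ μ : F, A *ᵥ y = y + μ • v := fun y hy => by
    obtain ⟨μ, hμ⟩ := hperp y hy
    exact ⟨c⁻¹ * μ, by rw [hA1, hμ, smul_add, smul_smul, inv_mul_cancel₀ hc0, one_smul, smul_smul]⟩
  obtain ⟨z, hz, hze⟩ := exists_center_smul hF (p := p) (g := g) hc (k := 3) (by
    rw [← hA]
    apply Matrix.ext_of_mulVec_single
    intro j
    generalize (Pi.single j 1 : Vec n F) = x
    have e : ∀ y, (A - 1) *ᵥ y = A *ᵥ y - y := fun y => by rw [sub_mulVec, one_mulVec]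
    have h1 : hh q ((A - 1) *ᵥ x) v = 0 := by
      rw [e, h_sub_left, hA1, h_smul_left]
      have : hh q (mat g *ᵥ x) v = c * hh q x v := by
        have h' := h_mat g x v
        rw [hgv, h_smul_right hF] at h'
        rw [← h', ← mul_assoc, hc, one_mul]
      rw [this, ← mul_assoc, inv_mul_cancel₀ hc0, one_mul, sub_self]
    obtain ⟨μ, hμ⟩ := hAy _ h1
    rw [pow_succ', pow_two, ← mulVec_mulVec, ← mulVec_mulVec, e ((A - 1) *ᵥ x), hμ, add_sub_cancel_left,
      mulVec_smul, e, hAv, sub_self, smul_zero, zero_mulVec])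
  refine ⟨z, hz, ⟨by rw [hze]; exact hAv, fun y hy => ?_⟩⟩
  rw [hze]
  exact hAy y hy

theorem exists_su_isotropic (hn : 3 ≤ n) {u v : Vec n F} (hu : hh q u u = 0) (hu0 : u ≠ 0)
    (hv : hh q v v = 0) (hv0 : v ≠ 0) : ∃ g : SUG n F q, mat g *ᵥ u = v := by
  let τ : F →+* F := (tau hF).toRingHom
  have hτ : ∀ a, τ a = a ^ q := tau_apply hF
  have hne : τ ≠ RingHom.id F := by
    obtain ⟨a, ha⟩ := tau_ne hF
    exact fun e => ha (RingHom.congr_fun e a)
  have hB := CfsgLib.Unitary.hform_herm (n := n) hF hτ hne (tau_tau hF)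
  obtain ⟨g, hg, hgu⟩ := CfsgLib.Unitary.transitive_isotropic hB
    (by simpa using hn) hu0 hv0
    (by rw [CfsgLib.UnitaryEmbed.hermSesq_apply τ hτ]; exact hu)
    (by rw [CfsgLib.UnitaryEmbed.hermSesq_apply τ hτ]; exact hv)
  obtain ⟨A, hA⟩ := CfsgLib.Unitary.exists_suEquiv hτ (CfsgLib.Unitary.tGroup_isSIsom hB hg)
  exact ⟨A, by
    have := CfsgLib.Unitary.suEquiv_apply A u
    rw [hA, hgu] at this
    exact this.symm⟩

end hFsec

namespace Hyp

variable (H : Hyp q n r F)

/-- The pointwise stabilizer of the maximal isotropic subspace. -/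
def fixE : Subgroup (SUG n F q) where
  carrier := {g | ∀ i, mat g *ᵥ H.e i = H.e i}
  one_mem' := fun i => by rw [mat_one, one_mulVec]
  mul_mem' := fun {g h} hg hh' i => by rw [mat_mul, ← mulVec_mulVec, hh' i, hg i]
  inv_mem' := fun {g} hg i => by conv_lhs => rw [← hg i, inv_mat_mulVec]

theorem fixE_conj {x : SUG n F q} (hx : ∀ i, mat x *ᵥ H.e i ∈ H.esp r) :
    ∀ g ∈ H.fixE, x * g * x⁻¹ ∈ H.fixE := by
  intro g hg i
  have hall : ∀ (N : ℕ) (y : Vec n F), y ∈ H.esp r → mat (x ^ N) *ᵥ y ∈ H.esp r := by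
    intro N
    induction N with
    | zero => intro y hy; rwa [pow_zero, mat_one, one_mulVec]
    | succ N ih =>
      intro y hy
      rw [pow_succ, mat_mul, ← mulVec_mulVec]
      exact ih _ (H.mulVec_mem (fun j _ => hx j) hy)
  obtain ⟨k, hk⟩ : ∃ k : ℕ, x⁻¹ = x ^ k :=
    ⟨orderOf x - 1, inv_eq_of_mul_eq_one_right (by
      rw [← pow_succ', Nat.sub_add_cancel (orderOf_pos x), pow_orderOf_eq_one])⟩
  have hy := hall k _ (H.e_mem i.2)
  rw [← hk] at hy
  have hfix : mat g *ᵥ (mat x⁻¹ *ᵥ H.e i) = mat x⁻¹ *ᵥ H.e i := by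
    refine sub_eq_zero.mp ?_
    have : H.esp r ≤ LinearMap.ker (Matrix.toLin' (mat g) - LinearMap.id) := by
      refine Submodule.span_le.mpr ?_
      rintro _ ⟨j, -, rfl⟩
      simp [Matrix.toLin'_apply, hg j]
    simpa [Matrix.toLin'_apply] using this hy
  rw [mat_mul, mat_mul, ← mulVec_mulVec, ← mulVec_mulVec, hfix, mat_inv_mulVec]

section hFsec
variable (hF : Fintype.card F = q ^ 2)
include hF

theorem fixE_le : H.fixE ≤ H.uniU := fun g hg i => by
  rw [hg i, sub_self]; exact zero_mem _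

theorem fixE_centralizer {p : ℕ} [Fact p.Prime] [CharP F p] (hr : 2 ≤ r) {g : SUG n F q}
    (hg : ∀ x ∈ H.fixE, g * x = x * g) : ∃ z ∈ Subgroup.center (SUG n F q), z * g ∈ H.fixE := by
  obtain ⟨s, hs0, hs⟩ := exists_skew hF
  set c : Fin r → F := fun i => hh q (mat g *ᵥ H.f i) (H.e i) with hcdef
  have hge : ∀ i, mat g *ᵥ H.e i = c i • H.e i := by
    intro i
    have hmem : tmat q (H.e i) s ∈ H.fixE := fun k => by
      rw [tmat_apply hF (H.hee i i) hs, H.hee, mul_zero, zero_smul, add_zero]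
    have h1 := congrArg (fun M : SUG n F q => mat M *ᵥ H.f i) (hg _ hmem)
    simp only [mat_mul, ← mulVec_mulVec, tmat_apply hF (H.hee i i) hs, H.hfe hF, if_true, mul_one,
      mulVec_add, mulVec_smul, add_right_inj] at h1
    rw [mul_smul] at h1
    exact smul_right_injective _ hs0 h1
  have hi0 : ∀ i j, i ≠ j → c j = c i := by
    intro i j hij
    have hrel : (0 : F) + tau hF 0 + hh q (H.e j) (H.e j) = 0 := by simp [H.hee]
    have hap := eich_apply hF (H.hee i i) (H.hee j i) hrel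
    have hmem : eich q (H.e i) (H.e j) 0 ∈ H.fixE := fun k => by simp [hap, H.hee]
    have h1 := congrArg (fun M : SUG n F q => mat M *ᵥ H.f i) (hg _ hmem)
    simp only [mat_mul, ← mulVec_mulVec, hap, H.hfe hF, if_true, if_neg hij, mulVec_add, mulVec_smul,
      hge, zero_mul, zero_sub, neg_zero, zero_smul, add_zero, one_smul] at h1
    have h2 := congrArg (fun y => hh q y (H.f j)) h1
    simpa [h_add_left, h_smul_left, h_neg_left, H.hef, hij, hcdef] using h2
  set i0 : Fin r := ⟨0, by omega⟩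
  set d := c i0 with hddef
  have hall : ∀ i, c i = d := fun i => by
    by_cases h : i = i0
    · rw [h]
    · exact (hi0 i i0 h).symm
  have hd : d * tau hF d = 1 := by
    have := h_mat g (H.f i0) (H.e i0)
    rw [hge, h_smul_right hF, H.hfe hF, if_pos rfl] at this
    rw [mul_comm]; exact this
  have hd0 : d ≠ 0 := left_ne_zero_of_mul_eq_one hd
  obtain ⟨a, ha⟩ := exists_trace hF (b := -hh q H.w H.w) (by rw [map_neg, h_self_fixed hF])
  have hrel : a + tau hF a + hh q H.w H.w = 0 := by rw [ha]; ring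
  have hap := eich_apply hF (H.hee i0 i0) (H.hwe i0) hrel
  obtain ⟨μ, hgw⟩ : ∃ μ : F, mat g *ᵥ H.w = d • H.w + μ • H.e i0 := by
    have hmem : eich q (H.e i0) H.w a ∈ H.fixE := fun k => by simp [hap, H.hee, H.hew hF]
    have h1 := congrArg (fun M : SUG n F q => mat M *ᵥ H.f i0) (hg _ hmem)
    simp only [mat_mul, ← mulVec_mulVec, hap, H.hfe hF, if_true, H.hfw hF, mulVec_add, mulVec_smul,
      hge, one_smul, sub_zero, mul_one, smul_smul] at h1
    refine ⟨(a * d - hh q (mat g *ᵥ H.f i0) H.w) - a * c i0, ?_⟩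
    rw [hddef, hcdef] at *
    linear_combination (norm := module) h1
  set A : Mat n F := d⁻¹ • mat g with hA
  have hA1 : ∀ x, A *ᵥ x = d⁻¹ • (mat g *ᵥ x) := fun x => smul_mulVec _ _ _
  have hAe : ∀ i, A *ᵥ H.e i = H.e i := fun i => by
    rw [hA1, hge, hall, smul_smul, inv_mul_cancel₀ hd0, one_smul]
  have hAE : ∀ y ∈ H.esp r, A *ᵥ y - y = 0 := fun y hy => by
    have : H.esp r ≤ LinearMap.ker (Matrix.toLin' A - LinearMap.id) := by
      refine Submodule.span_le.mpr ?_
      rintro _ ⟨j, -, rfl⟩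
      simp [Matrix.toLin'_apply, hAe j]
    simpa [Matrix.toLin'_apply] using this hy
  obtain ⟨z, hz, hze⟩ := exists_center_smul hF (p := p) (g := g) hd (k := 3) (by
    rw [← hA]
    apply Matrix.ext_of_mulVec_single
    intro j
    generalize (Pi.single j 1 : Vec n F) = x
    have e : ∀ y, (A - 1) *ᵥ y = A *ᵥ y - y := fun y => by rw [sub_mulVec, one_mulVec]
    have h1 : ∀ i, hh q ((A - 1) *ᵥ x) (H.e i) = 0 := by
      intro i
      have h' := h_mat g x (H.e i)
      rw [hge, hall, h_smul_right hF] at h'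
      rw [e, h_sub_left, hA1, h_smul_left, ← h']
      have : d⁻¹ = tau hF d := inv_eq_of_mul_eq_one_right hd
      rw [this]; ring
    set y := (A - 1) *ᵥ x with hy
    obtain ⟨κ, hκ⟩ := H.dec y
    have h2 : (A - 1) *ᵥ y ∈ H.esp r := by
      have hsum : ∑ i, hh q y (H.f i) • H.e i ∈ H.esp r :=
        sum_mem fun i _ => Submodule.smul_mem _ _ (H.e_mem i.2)
      simp only [h1, zero_smul, Finset.sum_const_zero, add_zero] at hκ
      rw [hκ, mulVec_add, mulVec_smul, e, hAE _ hsum, e, hA1, hgw, smul_add, smul_smul, smul_smul,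
        inv_mul_cancel₀ hd0, one_smul, add_sub_cancel_left, zero_add, smul_smul]
      exact Submodule.smul_mem _ _ (H.e_mem i0.2)
    rw [pow_succ', pow_two, ← mulVec_mulVec, ← mulVec_mulVec, e ((A - 1) *ᵥ _), hAE _ h2, zero_mulVec])
  exact ⟨z, hz, fun i => by rw [hze]; exact hAe i⟩

/-- The element `x ↦ (σ a)⁻¹ y` as a product of two root elements. -/
theorem exists_weyl {x y : Vec n F} (hxx : hh q x x = 0) (hyy : hh q y y = 0) (hxy : hh q x y = 1)
    (hwx : hh q H.w x = 0) (hwy : hh q H.w y = 0) {a l : F} (ha : a ≠ 0)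
    (hl : a + tau hF a + l * tau hF l * hh q H.w H.w = 0) :
    ∃ g₁ g₂ : SUG n F q, IsQ x g₁ ∧ IsQ y g₂ ∧
      (∀ v, hh q v x = 0 → hh q v y = 0 → hh q v H.w = 0 →
        mat g₁ *ᵥ v = v ∧ mat g₂ *ᵥ v = v) ∧
      mat (g₁ * g₂) *ᵥ x = (tau hF a)⁻¹ • y := by
  have hta : tau hF a ≠ 0 := tau_ne_zero hF ha
  set b := (tau hF a)⁻¹ with hb
  set μ := -l * b with hμ
  have hz1 : hh q (l • H.w) x = 0 := by rw [h_smul_left, hwx, mul_zero]
  have hz2 : hh q (μ • H.w) y = 0 := by rw [h_smul_left, hwy, mul_zero]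
  have hr1 : a + tau hF a + hh q (l • H.w) (l • H.w) = 0 := by
    rw [h_smul_left, h_smul_right hF]; linear_combination hl
  have hr2 : b + tau hF b + hh q (μ • H.w) (μ • H.w) = 0 := by
    rw [h_smul_left, h_smul_right hF, hμ, hb, map_mul, map_neg, map_inv₀, tau_tau]
    field_simp
    linear_combination hl
  obtain ⟨hQ1, hap1⟩ := eich_spec hF hxx hz1 hr1
  obtain ⟨hQ2, hap2⟩ := eich_spec hF hyy hz2 hr2
  refine ⟨_, _, hQ1, hQ2, fun v h1 h2 h3 => ?_, ?_⟩
  · rw [hap1, hap2, h1, h2, h_smul_right hF, h_smul_right hF, h3]; simp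
  have hyx : hh q y x = 1 := by rw [← h_tau hF x y, hxy, map_one]
  have hxw := h_flip_zero hF hwx
  have hyw := h_flip_zero hF hwy
  rw [mat_mul, ← mulVec_mulVec, hap2, hap1]
  simp only [h_add_left, h_smul_left, h_smul_right hF, hxy, hyx, hxw, hyw, hxx, hwx, mul_zero,
    sub_zero, mul_one, one_mul, one_smul, add_zero, zero_add]
  match_scalars
  · linear_combination b * hl - mul_inv_cancel₀ hta + (0 : F) * hμ
  · rw [hμ]; ring
  · ring

end hFsec

end Hyp

end CfsgLib.FusionPSU
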