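import Cfsg.Agent.Lib.Fusion.SimpleLie
import Cfsg.Agent.Lib.Fusion.UnitaryTorus

/-!
The `p`-fusion system of `PSU_n(q)`, `n ≥ 4`, in characteristic `p` is simple.
-/

set_option autoImplicit false
set_option linter.unusedSectionVars false

namespace CfsgLib.FusionPSU

open Matrix Cfsg Cfsg.FusionSystem CfsgLib.ClassicalGroups CfsgLib.AutPSU

variable {n r : ℕ} {F : Type*} [Field F] [Fintype F] {q : ℕ}

section hFsec
variable (hF : Fintype.card F = q ^ 2)
include hF

/-- Conjugating a transvection. -/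
theorem tmat_conj (g : SUG n F q) {v : Vec n F} (hv : hh q v v = 0) {s : F} (hs : tau hF s = -s) :
    g * tmat q v s * g⁻¹ = tmat q (mat g *ᵥ v) s := by
  refine mat_ext fun x => ?_
  rw [← mat_inv_mulVec g x, tmat_apply hF (by rw [h_mat, hv]) hs, h_mat]
  simp only [mat_mul, ← mulVec_mulVec, inv_mat_mulVec, tmat_apply hF hv hs, mulVec_add, mulVec_smul]

end hFsec

namespace Hyp

variable (H : Hyp q n r F)

/-- The diagonal action on the isotropic subspace. -/
def IsT (c : Fin r → F) (g : SUG n F q) : Prop := ∀ k, mat g *ᵥ H.e k = c k • H.e k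

section hFsec
variable (hF : Fintype.card F = q ^ 2)
include hF

theorem isT_normalizes {c : Fin r → F} (hc : ∀ k, c k ≠ 0) {g : SUG n F q} (hg : H.IsT c g) :
    ∀ u ∈ H.uniU, g * u * g⁻¹ ∈ H.uniU := by
  intro u hu k
  have hinv : mat g⁻¹ *ᵥ H.e k = (c k)⁻¹ • H.e k := by
    have h := congrArg (mat g⁻¹ *ᵥ ·) (hg k)
    simp only [inv_mat_mulVec, mulVec_smul] at h
    calc mat g⁻¹ *ᵥ H.e k = (c k)⁻¹ • (c k • (mat g⁻¹ *ᵥ H.e k)) := by
          rw [smul_smul, inv_mul_cancel₀ (hc k), one_smul]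
      _ = _ := by rw [← h]
  have e : mat (g * u * g⁻¹) *ᵥ H.e k - H.e k =
      (c k)⁻¹ • (mat g *ᵥ (mat u *ᵥ H.e k - H.e k)) := by
    rw [mat_mul, mat_mul, ← mulVec_mulVec, ← mulVec_mulVec, hinv, mulVec_smul, mulVec_smul, mulVec_sub,
      hg k, smul_sub, smul_smul, inv_mul_cancel₀ (hc k), one_smul]
  rw [e]
  exact Submodule.smul_mem _ _ (H.mulVec_mem
    (fun j hj => by rw [hg j]; exact Submodule.smul_mem _ _ (H.e_mem hj)) (hu k))

/-- The torus element acting as `P` on one isotropic vector. -/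
theorem exists_single {p : ℕ} [Fact p.Prime] [CharP F p] {i j : Fin r} (hij : j ≠ i) {P : F}
    (hP : P ≠ 0) (hw : H.w = 0 → tau hF P = P) :
    ∃ g, H.IsT (Function.update (fun _ => 1) i P) g ∧
      g ∈ Subgroup.closure {x : SUG n F q | (∃ k : ℕ, x ^ p ^ k = 1) ∧
        ∀ y ∈ radQ (q := q) (H.e j), x * y * x⁻¹ ∈ radQ (H.e j)} := by
  have hli : ∀ a : F, (H.w ≠ 0 ∨ a + tau hF a = 0) →
      ∃ l : F, a + tau hF a + l * tau hF l * hh q H.w H.w = 0 := by
    intro a ha
    by_cases h0 : a + tau hF a = 0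
    · exact ⟨0, by rw [h0]; ring⟩
    have hν : hh q H.w H.w ≠ 0 := by
      rcases H.w_cases hF with h | h
      · exact absurd h (ha.resolve_right h0)
      · exact h
    obtain ⟨x, -, hx⟩ := exists_norm_eq hF (c := -(a + tau hF a) / hh q H.w H.w)
      (by rw [← tau_apply hF, map_div₀, map_neg, map_add, tau_tau, h_self_fixed hF,
        add_comm (tau hF a) a])
      (div_ne_zero (neg_ne_zero.mpr h0) hν)
    refine ⟨x, ?_⟩
    rw [show x * tau hF x = x ^ (q + 1) by rw [tau_apply]; exact (pow_succ' x q).symm, hx,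
      div_mul_cancel₀ _ hν]
    ring
  obtain ⟨a, a2, ha0, ha20, hla, hla2, hPe⟩ : ∃ a a2 : F, a ≠ 0 ∧ a2 ≠ 0 ∧
      (H.w ≠ 0 ∨ a + tau hF a = 0) ∧ (H.w ≠ 0 ∨ a2 + tau hF a2 = 0) ∧
      (tau hF a)⁻¹ * (tau hF a2)⁻¹ = P := by
    by_cases h0 : H.w = 0
    · obtain ⟨s, hs0, hs⟩ := exists_skew hF
      refine ⟨(P * s)⁻¹, s, inv_ne_zero (mul_ne_zero hP hs0), hs0, Or.inr ?_, Or.inr ?_, ?_⟩
      · rw [map_inv₀, map_mul, hs, hw h0, mul_neg, inv_neg, add_neg_cancel]
      · rw [hs, add_neg_cancel]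
      · rw [map_inv₀, inv_inv, map_mul, hs, hw h0]; field_simp
    · refine ⟨tau hF P⁻¹, 1, tau_ne_zero hF (inv_ne_zero hP), one_ne_zero, Or.inl h0, Or.inl h0, ?_⟩
      rw [tau_tau, inv_inv, map_one, inv_one, mul_one]
  obtain ⟨l, hl⟩ := hli a hla
  obtain ⟨l2, hl2⟩ := hli a2 hla2
  obtain ⟨g1, g2, hQ1, hQ2, hfix, hmap⟩ := H.exists_weyl hF (H.hee i i) (H.hff i i)
    (by rw [H.hef, if_pos rfl]) (H.hwe i) (H.hwf i) ha0 hl
  obtain ⟨g3, g4, hQ3, hQ4, hfix', hmap'⟩ := H.exists_weyl hF (H.hff i i) (H.hee i i)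
    (by rw [H.hfe hF, if_pos rfl]) (H.hwf i) (H.hwe i) ha20 hl2
  refine ⟨g3 * g4 * (g1 * g2), fun k => ?_, ?_⟩
  · by_cases hk : k = i
    · subst hk
      rw [Function.update_self, mat_mul (g3 * g4), ← mulVec_mulVec, hmap, mulVec_smul, hmap',
        smul_smul, hPe]
    · rw [Function.update_of_ne hk, one_smul]
      obtain ⟨f1, f2⟩ := hfix (H.e k) (H.hee k i) (by rw [H.hef, if_neg hk]) (H.hew hF k)
      obtain ⟨f3, f4⟩ := hfix' (H.e k) (by rw [H.hef, if_neg hk]) (H.hee k i) (H.hew hF k)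
      simp only [mat_mul, ← mulVec_mulVec, f1, f2, f3, f4]
  · have hpel : ∀ {v : Vec n F} {x : SUG n F q}, IsQ v x → mat x *ᵥ H.e j = H.e j →
        x ∈ Subgroup.closure {x : SUG n F q | (∃ k : ℕ, x ^ p ^ k = 1) ∧
          ∀ y ∈ radQ (q := q) (H.e j), x * y * x⁻¹ ∈ radQ (H.e j)} := by
      intro v x hx hxe
      obtain ⟨k, hk⟩ := isPGroup_radQ hF (p := p) (v := v) ⟨x, hx⟩
      exact Subgroup.subset_closure ⟨⟨k, congrArg Subtype.val hk⟩, fun y hy =>
        (Subgroup.mem_normalizer_iff.mp (radQ_normalized hF hxe) y).mp hy⟩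
    obtain ⟨f1, f2⟩ := hfix (H.e j) (H.hee j i) (by rw [H.hef, if_neg hij]) (H.hew hF j)
    obtain ⟨f3, f4⟩ := hfix' (H.e j) (by rw [H.hef, if_neg hij]) (H.hee j i) (H.hew hF j)
    exact mul_mem (mul_mem (hpel hQ3 f3) (hpel hQ4 f4)) (mul_mem (hpel hQ1 f1) (hpel hQ2 f2))

/-- The torus element acting as `a`, `a⁻¹` on two isotropic vectors. -/
theorem exists_pair {p : ℕ} [Fact p.Prime] [CharP F p] {i j : Fin r} (hij : i ≠ j) {a : F}
    (ha : a ≠ 0) :
    ∃ g, H.IsT (Function.update (Function.update (fun _ => 1) j a⁻¹) i a) g ∧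
      g ∈ Subgroup.closure {x : SUG n F q | (∃ k : ℕ, x ^ p ^ k = 1) ∧
        ∀ y ∈ H.fixE, x * y * x⁻¹ ∈ H.fixE} := by
  have key : ∀ {i j : Fin r}, i ≠ j → ∀ b : F, ∃ x : SUG n F q,
      (x ∈ Subgroup.closure {x : SUG n F q | (∃ k : ℕ, x ^ p ^ k = 1) ∧
        ∀ y ∈ H.fixE, x * y * x⁻¹ ∈ H.fixE}) ∧
      ∀ k, mat x *ᵥ H.e k = H.e k + (if k = j then b else 0) • H.e i := by
    intro i j hij b
    have hz : hh q ((-tau hF b) • H.f j) (H.e i) = 0 := by
      rw [h_smul_left, H.hfe hF, if_neg hij.symm, mul_zero]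
    have hr0 : (0 : F) + tau hF 0 + hh q ((-tau hF b) • H.f j) ((-tau hF b) • H.f j) = 0 := by
      rw [h_smul_left, h_smul_right hF, H.hff]; simp
    obtain ⟨hQ, hap⟩ := eich_spec hF (H.hee i i) hz hr0
    have hval : ∀ k, mat (eich q (H.e i) ((-tau hF b) • H.f j) 0) *ᵥ H.e k =
        H.e k + (if k = j then b else 0) • H.e i := by
      intro k
      rw [hap, H.hee, h_smul_right hF, H.hef, map_neg, tau_tau]
      by_cases hk : k = j <;> simp [hk]
    obtain ⟨k, hk⟩ := isPGroup_radQ hF (p := p) (v := H.e i) ⟨_, hQ⟩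
    refine ⟨_, Subgroup.subset_closure ⟨⟨k, congrArg Subtype.val hk⟩, H.fixE_conj fun k => ?_⟩, hval⟩
    rw [hval]
    exact add_mem (H.e_mem k.2) (Submodule.smul_mem _ _ (H.e_mem i.2))
  obtain ⟨X1, hX1, vX1⟩ := key hij a
  obtain ⟨Y1, hY1, vY1⟩ := key hij.symm (-a⁻¹)
  obtain ⟨X2, hX2, vX2⟩ := key hij (-1)
  obtain ⟨Y2, hY2, vY2⟩ := key hij.symm 1
  refine ⟨X1 * Y1 * X1 * (X2 * Y2 * X2), fun k => ?_,
    mul_mem (mul_mem (mul_mem hX1 hY1) hX1) (mul_mem (mul_mem hX2 hY2) hX2)⟩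
  simp only [mat_mul, ← mulVec_mulVec, vX1, vY1, vX2, vY2, mulVec_add, mulVec_smul]
  by_cases hki : k = i
  · subst hki
    simp only [hij, hij.symm, if_false, if_true, Function.update_self]
    match_scalars <;> field_simp <;> ring
  · by_cases hkj : k = j
    · subst hkj
      simp only [hij, hij.symm, if_false, if_true, Function.update_of_ne, ne_eq, not_false_eq_true,
        Function.update_self]
      match_scalars <;> field_simp <;> ring
    · simp [hki, hkj]

/-- The normalizer of the unipotent group. -/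
theorem normalizer_gen {p : ℕ} [Fact p.Prime] [CharP F p] {G : Type*} [Group G] {π : SUG n F q →* G}
    (hker : π.ker = Subgroup.center (SUG n F q)) (hr : 2 ≤ r) {g : SUG n F q}
    (hg : ∀ u ∈ H.uniU, g * u * g⁻¹ ∈ H.uniU) :
    g ∈ Subgroup.closure ((H.uniU : Set (SUG n F q)) ∪
      {h : SUG n F q | (∀ u ∈ H.uniU, h * u * h⁻¹ ∈ H.uniU) ∧ ∃ R : Subgroup (SUG n F q), R ≤ H.uniU ∧
        (∀ c : SUG n F q, (∀ x ∈ R, c * x = x * c) → ∃ z ∈ π.ker, z * c ∈ R) ∧
        h ∈ Subgroup.closure {x : SUG n F q | (∃ k : ℕ, x ^ p ^ k = 1) ∧ ∀ y ∈ R, x * y * x⁻¹ ∈ R}}) := by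
  classical
  set C := Subgroup.closure ((H.uniU : Set (SUG n F q)) ∪
      {h : SUG n F q | (∀ u ∈ H.uniU, h * u * h⁻¹ ∈ H.uniU) ∧ ∃ R : Subgroup (SUG n F q), R ≤ H.uniU ∧
        (∀ c : SUG n F q, (∀ x ∈ R, c * x = x * c) → ∃ z ∈ π.ker, z * c ∈ R) ∧
        h ∈ Subgroup.closure {x : SUG n F q | (∃ k : ℕ, x ^ p ^ k = 1) ∧ ∀ y ∈ R, x * y * x⁻¹ ∈ R}})
    with hC
  have hUC : H.uniU ≤ C := fun u hu => Subgroup.subset_closure (Or.inl hu)
  set l : Fin r := ⟨r - 1, by omega⟩ with hl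
  set z0 : Fin r := ⟨0, by omega⟩ with hz0
  have hzl : z0 ≠ l := fun e => by simp [z0, l, Fin.ext_iff] at e; omega
  have hsingle : ∀ P : F, P ≠ 0 → (H.w = 0 → tau hF P = P) →
      ∃ h ∈ C, H.IsT (Function.update (fun _ => 1) l P) h := by
    intro P hP hw
    obtain ⟨h, hT, hcl⟩ := H.exists_single hF (p := p) hzl hP hw
    refine ⟨h, Subgroup.subset_closure (Or.inr ⟨H.isT_normalizes hF (fun k => ?_) hT, radQ (H.e z0),
      fun x hx => H.isQ_e_mem hF rfl hx, fun c hc => ?_, hcl⟩), hT⟩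
    · rw [Function.update_apply]; split_ifs <;> first | exact hP | exact one_ne_zero
    · rw [hker]
      exact radQ_centralizer hF (p := p) (H.hee z0 z0) (u := H.f z0) (by rw [H.hfe hF, if_pos rfl]) hc
  have hpair : ∀ (i : Fin r) (a : F), i ≠ l → a ≠ 0 →
      ∃ h ∈ C, H.IsT (Function.update (Function.update (fun _ => 1) l a⁻¹) i a) h := by
    intro i a hi ha
    obtain ⟨h, hT, hcl⟩ := H.exists_pair hF (p := p) hi ha
    refine ⟨h, Subgroup.subset_closure (Or.inr ⟨H.isT_normalizes hF (fun k => ?_) hT, H.fixE,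
      H.fixE_le hF, fun c hc => ?_, hcl⟩), hT⟩
    · simp only [Function.update_apply]
      split_ifs <;> first | exact ha | exact inv_ne_zero ha | exact one_ne_zero
    · rw [hker]; exact H.fixE_centralizer hF (p := p) hr hc
  have hback : ∀ (x : SUG n F q), (∀ u ∈ H.uniU, x * u * x⁻¹ ∈ H.uniU) →
      ∀ u ∈ H.uniU, x⁻¹ * u * x ∈ H.uniU := by
    intro x hx u hu
    obtain ⟨k, hk⟩ : ∃ k : ℕ, x⁻¹ = x ^ k :=
      ⟨orderOf x - 1, inv_eq_of_mul_eq_one_right (by
        rw [← pow_succ', Nat.sub_add_cancel (orderOf_pos x), pow_orderOf_eq_one])⟩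
    have : ∀ N : ℕ, x ^ N * u * (x ^ N)⁻¹ ∈ H.uniU := by
      intro N
      induction N with
      | zero => simpa using hu
      | succ N ih => rw [pow_succ', _root_.mul_inv_rev]; simpa [mul_assoc] using hx _ ih
    have h1 := this k
    rwa [← hk, inv_inv] at h1
  obtain ⟨c, hc⟩ := H.exists_diag hF (hback g hg)
  have hflag := H.flag_of_normalizes hF (hback g hg)
  have hflag' := H.flag_of_normalizes hF (g := g⁻¹) (by simpa using hg)
  have hc0 : ∀ i, c i ≠ 0 := by
    intro i hi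
    have h1 := hc i
    rw [hi, zero_smul, sub_zero] at h1
    have h2 := H.mulVec_mem (g := mat g⁻¹) (fun j hj => H.esp_mono hj (hflag' j)) h1
    rw [inv_mat_mulVec] at h2
    have h3 := ((H.mem_esp_iff hF).mp h2).2.1 i le_rfl
    rw [H.hef, if_pos rfl] at h3
    exact one_ne_zero h3
  -- all diagonal entries but the last
  obtain ⟨h, hhC, d, hd, hh1, hhl⟩ : ∃ h ∈ C, ∃ d : F, d ≠ 0 ∧
      (∀ k, k ≠ l → mat h *ᵥ H.e k = c k • H.e k) ∧ mat h *ᵥ H.e l = d • H.e l := by
    suffices ∀ s : Finset (Fin r), l ∉ s → ∃ h ∈ C, ∃ d : F, d ≠ 0 ∧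
        (∀ k, k ≠ l → mat h *ᵥ H.e k = (if k ∈ s then c k else 1) • H.e k) ∧
          mat h *ᵥ H.e l = d • H.e l by
      obtain ⟨h, hhC, d, hd, h1, h2⟩ := this (Finset.univ.erase l) (Finset.notMem_erase _ _)
      exact ⟨h, hhC, d, hd, fun k hk => by rw [h1 k hk, if_pos (Finset.mem_erase.mpr ⟨hk, Finset.mem_univ _⟩)],
        h2⟩
    intro s
    induction s using Finset.induction_on with
    | empty =>
      intro _
      exact ⟨1, C.one_mem, 1, one_ne_zero, fun k _ => by simp [mat_one], by simp [mat_one]⟩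
    | insert i s hi ih =>
      intro hl'
      rw [Finset.mem_insert, not_or] at hl'
      obtain ⟨h, hhC, d, hd, h1, h2⟩ := ih hl'.2
      obtain ⟨t, htC, htT⟩ := hpair i (c i) (Ne.symm hl'.1) (hc0 i)
      refine ⟨t * h, mul_mem htC hhC, d * (c i)⁻¹, mul_ne_zero hd (inv_ne_zero (hc0 i)),
        fun k hk => ?_, ?_⟩
      · rw [mat_mul, ← mulVec_mulVec, h1 k hk, mulVec_smul, htT k, smul_smul]
        congr 1
        by_cases hki : k = i
        · subst hki; simp [hi]
        · simp [Function.update_of_ne hki, Function.update_of_ne hk, Finset.mem_insert, hki]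
      · rw [mat_mul, ← mulVec_mulVec, h2, mulVec_smul, htT l, smul_smul,
          Function.update_of_ne hl'.1, Function.update_self]
  -- the last entry
  suffices ∀ e k : ℕ, k + e = (l : ℕ) → ∀ g₁ : SUG n F q, g₁ ∈ H.fixK k →
      (∀ i, i ≠ l → mat g₁ *ᵥ H.e i - H.e i ∈ H.esp i) →
      mat g₁ *ᵥ H.e l - (c l * d⁻¹) • H.e l ∈ H.esp l → g₁ ∈ C by
    have hgh : ∀ i, ∀ x ∈ H.esp i, mat h⁻¹ *ᵥ x ∈ H.esp i := by
      intro i x hx
      refine H.mulVec_mem (fun j hj => ?_) hx
      by_cases hjl : j = l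
      · have := congrArg (mat h⁻¹ *ᵥ ·) hhl
        simp only [inv_mat_mulVec, mulVec_smul] at this
        have e : mat h⁻¹ *ᵥ H.e j = d⁻¹ • H.e j := by
          rw [hjl]
          calc mat h⁻¹ *ᵥ H.e l = d⁻¹ • (d • (mat h⁻¹ *ᵥ H.e l)) := by
                rw [smul_smul, inv_mul_cancel₀ hd, one_smul]
            _ = _ := by rw [← this]
        rw [e]; exact Submodule.smul_mem _ _ (H.e_mem hj)
      · have := congrArg (mat h⁻¹ *ᵥ ·) (hh1 j hjl)
        simp only [inv_mat_mulVec, mulVec_smul] at this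
        have e : mat h⁻¹ *ᵥ H.e j = (c j)⁻¹ • H.e j := by
          calc mat h⁻¹ *ᵥ H.e j = (c j)⁻¹ • (c j • (mat h⁻¹ *ᵥ H.e j)) := by
                rw [smul_smul, inv_mul_cancel₀ (hc0 j), one_smul]
            _ = _ := by rw [← this]
        rw [e]; exact Submodule.smul_mem _ _ (H.e_mem hj)
    have key := this l 0 (by omega) (h⁻¹ * g) (fun j hj => absurd hj (Nat.not_lt_zero _)) ?_ ?_
    · have h2 := mul_mem hhC key
      rwa [mul_inv_cancel_left] at h2
    · intro i hi
      have e : mat (h⁻¹ * g) *ᵥ H.e i - H.e i = mat h⁻¹ *ᵥ (mat g *ᵥ H.e i - c i • H.e i) := by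
        rw [mulVec_sub, ← hh1 i hi, inv_mat_mulVec, mat_mul, mulVec_mulVec]
      rw [e]; exact hgh i _ (hc i)
    · have e : mat (h⁻¹ * g) *ᵥ H.e l - (c l * d⁻¹) • H.e l =
          mat h⁻¹ *ᵥ (mat g *ᵥ H.e l - c l • H.e l) := by
        rw [mulVec_sub, mat_mul, mulVec_mulVec]
        congr 1
        rw [mul_smul, mulVec_smul]
        congr 1
        have := congrArg (mat h⁻¹ *ᵥ ·) hhl
        simp only [inv_mat_mulVec, mulVec_smul] at this
        calc d⁻¹ • H.e l = d⁻¹ • (d • (mat h⁻¹ *ᵥ H.e l)) := by rw [← this]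
          _ = _ := by rw [smul_smul, inv_mul_cancel₀ hd, one_smul]
      rw [e]; exact hgh l _ (hc l)
  intro e
  induction e with
  | zero =>
    intro k hk g₁ hg1 hgi hgl
    rw [add_zero] at hk
    subst hk
    set P := c l * d⁻¹ with hP
    obtain ⟨-, u, hu, hu', -, h1, h2, h3⟩ := H.step hF hg1 hgl
    have hP0 : P ≠ 0 := mul_ne_zero (hc0 l) (inv_ne_zero hd)
    have hlt : ∀ i, i ≠ l → (i : ℕ) < (l : ℕ) := fun i hi => by
      have := i.2
      have : (i : ℕ) ≠ r - 1 := fun e => hi (Fin.ext e)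
      show (i : ℕ) < r - 1
      omega
    obtain ⟨-, hfixed⟩ := H.det_cond hF (fun i hi => h3 i (hlt i hi)) h1 h2
    obtain ⟨t, htC, htT⟩ := hsingle P hP0 hfixed
    have hfix : t⁻¹ * (u⁻¹ * g₁) ∈ H.fixE := by
      intro i
      have e1 : mat (u⁻¹ * g₁) *ᵥ H.e i = mat t *ᵥ H.e i := by
        by_cases hi : i = l
        · subst hi; rw [h1, htT l, Function.update_self]
        · rw [(h3 i (hlt i hi)).1, htT i, Function.update_of_ne hi, one_smul]
      rw [mat_mul, ← mulVec_mulVec, e1, inv_mat_mulVec]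
    have h4 := mul_mem (hUC hu) (mul_mem htC (hUC (H.fixE_le hF hfix)))
    rwa [mul_inv_cancel_left, mul_inv_cancel_left] at h4
  | succ e ih =>
    intro k hk g₁ hg1 hgi hgl
    have hkr : k < r := by have := l.2; omega
    set K : Fin r := ⟨k, hkr⟩
    have hKl : K ≠ l := fun e' => by
      have h' := congrArg Fin.val e'
      simp only [K] at h'
      omega
    obtain ⟨-, u, hu, hu', -, h1, h2, h3⟩ := H.step hF (k := K) hg1 (P := 1)
      (by rw [one_smul]; exact hgi K hKl)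
    have hfix : u⁻¹ * g₁ ∈ H.fixK (k + 1) := fun j hj => by
      rcases Nat.lt_succ_iff_lt_or_eq.mp hj with h | h
      · exact h3 j h
      · rw [show j = K from Fin.ext h]; exact ⟨by rw [h1, one_smul], by rw [h2, map_one, inv_one, one_smul]⟩
    have hui : H.IsU u⁻¹ := H.uniU.inv_mem hu
    have hgen : ∀ (i : Fin r) (a : F), mat g₁ *ᵥ H.e i - a • H.e i ∈ H.esp i →
        mat (u⁻¹ * g₁) *ᵥ H.e i - a • H.e i ∈ H.esp i := by
      intro i a ha
      have e2 : mat (u⁻¹ * g₁) *ᵥ H.e i - a • H.e i =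
          mat u⁻¹ *ᵥ (mat g₁ *ᵥ H.e i - a • H.e i) + a • (mat u⁻¹ *ᵥ H.e i - H.e i) := by
        rw [mulVec_sub, mulVec_smul, mat_mul, mulVec_mulVec, smul_sub]; abel
      rw [e2]
      exact add_mem (H.isU_preserves hui ha) (Submodule.smul_mem _ _ (hui i))
    have h4 := mul_mem (hUC hu) (ih (k + 1) (by omega) _ hfix
      (fun i hi => by simpa using hgen i 1 (by simpa using hgi i hi)) (hgen l _ hgl))
    rwa [mul_inv_cancel_left] at h4

/-- A nontrivial strongly closed subgroup is everything. -/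
theorem closed_top {p : ℕ} [Fact p.Prime] [CharP F p] {G : Type*} [Group G] [Finite G]
    {π : SUG n F q →* G} (hn : 4 ≤ n) (hr : 2 ≤ r)
    (hker' : ∀ z ∈ π.ker, z ∈ Subgroup.center (SUG n F q) ∧ (z ^ p = 1 → z = 1))
    (S : Sylow p G) (hS : (S : Subgroup G) = H.uniU.map π) {T : Subgroup G}
    (hT : (groupFusionSystem (S : Subgroup G)).StronglyClosed T) (hTne : T ≠ ⊥) :
    H.uniU.map π ≤ T := by
  classical
  set i0 : Fin r := ⟨0, by omega⟩ with hi0
  set i1 : Fin r := ⟨1, by omega⟩ with hi1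
  have h01 : i0 ≠ i1 := by simp [i0, i1, Fin.ext_iff]
  set v := H.e i0 with hvdef
  set v1 := H.e i1 with hv1def
  have hv : hh q v v = 0 := H.hee _ _
  have hfv : hh q (H.f i0) v = 1 := by rw [hvdef, H.hfe hF, if_pos rfl]
  have hv0 : v ≠ 0 := fun e => by rw [e, h_zero_right hF] at hfv; exact zero_ne_one hfv
  have hUp : IsPGroup p H.uniU := H.isPGroup_uniU hF (by omega)
  have hTm : ∀ {x g : SUG n F q}, π x ∈ T → g * x * g⁻¹ ∈ H.uniU → π (g * x * g⁻¹) ∈ T := by
    intro x g hx hg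
    rw [map_mul, map_mul, map_inv]
    refine CfsgLib.FusionLie.conj_mem hT hx (hS.ge ⟨_, hg, ?_⟩)
    rw [map_mul, map_mul, map_inv]
  -- a transvection
  obtain ⟨s, hs, hs0, hsT⟩ : ∃ s : F, tau hF s = -s ∧ s ≠ 0 ∧ π (tmat q v s) ∈ T := by
    obtain ⟨t, htT, ht1, htc⟩ := CfsgLib.FusionLie.exists_central S hT hTne
    obtain ⟨x, hx, rfl⟩ := hS.le (hT.1 htT)
    have hxc : ∀ u, IsQ v u → Commute x u := fun u hu => by
      have huU := H.isQ_e_mem hF (i := i0) rfl hu
      exact (mul_inv_eq_iff_eq_mul.mp (CfsgLib.FusionLie.conj_eq_of_map_eq hker' hUp (g := x) huU huU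
        (by rw [htc (π u) (hS.ge ⟨u, huU, rfl⟩), mul_inv_cancel_right])))
    have hxv : mat x *ᵥ v = v := by
      refine sub_eq_zero.mp (H.eq_zero hF ?_ ?_ ?_) <;>
        obtain ⟨m1, m2, m3⟩ := (H.mem_esp_iff hF).mp (hx i0)
      · exact m1
      · exact fun i => m2 i (Nat.zero_le _)
      · exact m3
    obtain ⟨s, hs, he⟩ := eq_tmat_of_commute hF hv hv0 hxv hxc
    exact ⟨s, hs, fun h => ht1 (by rw [he, h, tmat_zero hF hv, map_one]), he ▸ htT⟩
  have hlong : ∀ {y : Vec n F}, y ∈ H.esp r → ∀ {t : F}, tau hF t = -t → π (tmat q y t) ∈ T := by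
    intro y hy t ht
    by_cases hy0 : y = 0
    · have : tmat q y t = 1 := mat_ext fun x => by
        rw [tmat_apply hF (by rw [hy0, h_zero_left]) ht, hy0, smul_zero, add_zero, mat_one, one_mulVec]
      rw [this, map_one]; exact T.one_mem
    have hyy : hh q y y = 0 :=
      H.esp_orth (fun j _ => h_flip_zero hF (((H.mem_esp_iff hF).mp hy).1 j)) hy
    by_cases ht0 : t = 0
    · rw [ht0, tmat_zero hF hyy, map_one]; exact T.one_mem
    obtain ⟨c, hc0, hc⟩ := exists_norm_eq hF (c := t / s)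
      (by rw [← tau_apply hF, map_div₀, ht, hs, neg_div_neg_eq]) (div_ne_zero ht0 hs0)
    have hts : s * (c * tau hF c) = t := by
      rw [tau_apply, ← pow_succ', hc, mul_div_cancel₀ _ hs0]
    obtain ⟨g, hg⟩ := exists_su_isotropic hF (by omega) hv hv0
      (v := c • y) (by rw [h_smul_left, h_smul_right hF, hyy, mul_zero, mul_zero])
      (smul_ne_zero hc0 hy0)
    have e : g * tmat q v s * g⁻¹ = tmat q y t := by
      rw [tmat_conj hF g hv hs, hg, tmat_smul hF hyy hs, hts]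
    rw [← e]
    exact hTm hsT (by rw [e]; exact H.tmat_mem hF hy ht)
  -- root elements along the first vector
  have hvE : v ∈ H.esp r := H.e_mem i0.2
  have hv1E : v1 ∈ H.esp r := H.e_mem i1.2
  let Zok : Vec n F → Prop := fun z => hh q z v = 0 ∧
    ∀ a, a + tau hF a + hh q z z = 0 → π (eich q v z a) ∈ T
  have hsome : ∀ {z : Vec n F} {a : F}, hh q z v = 0 → a + tau hF a + hh q z z = 0 →
      π (eich q v z a) ∈ T → Zok z := by
    intro z a hz ha hm
    refine ⟨hz, fun a' ha' => ?_⟩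
    have hd : tau hF (a' - a) = -(a' - a) := by rw [map_sub]; linear_combination ha' - ha
    have := T.mul_mem hm (hlong hvE hd)
    rwa [← map_mul, eich_tmat hF hv hz ha hd, add_sub_cancel] at this
  have Zline : ∀ c : F, Zok (c • v) := by
    intro c
    refine ⟨by rw [h_smul_left, hv, mul_zero], fun a ha => ?_⟩
    have ha' : a + tau hF a = 0 := by
      simpa [h_smul_left, h_smul_right hF, hv] using ha
    rw [eich_line hF hv c a ha']
    exact hlong hvE (by rw [map_sub, map_add, tau_tau]; linear_combination ha')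
  have Zadd : ∀ {z z' : Vec n F}, Zok z → Zok z' → Zok (z + z') := by
    intro z z' hz hz'
    obtain ⟨a, ha⟩ := exists_trace hF (b := -hh q z z) (by rw [map_neg, h_self_fixed hF])
    obtain ⟨a', ha'⟩ := exists_trace hF (b := -hh q z' z') (by rw [map_neg, h_self_fixed hF])
    have hra : a + tau hF a + hh q z z = 0 := by rw [ha]; ring
    have hra' : a' + tau hF a' + hh q z' z' = 0 := by rw [ha']; ring
    refine hsome (a := a + a' - hh q z' z) (by rw [h_add_left, hz.1, hz'.1, add_zero]) ?_ ?_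
    · rw [map_sub, map_add, h_tau hF, h_add_left, h_add_right hF, h_add_right hF]
      linear_combination hra + hra'
    · rw [← eich_mul hF hv hz.1 hz'.1 hra hra', map_mul]
      exact T.mul_mem (hz.2 a hra) (hz'.2 a' hra')
  have Zv1 : ∀ β : F, Zok (β • v1) := by
    intro β
    obtain ⟨t, ht0, ht⟩ := exists_skew hF
    have hz : hh q ((β / t) • v1) v = 0 := by rw [h_smul_left, H.hee, mul_zero]
    have hzz : hh q ((β / t) • v1) ((β / t) • v1) = 0 := by
      rw [h_smul_left, h_smul_right hF, H.hee, mul_zero, mul_zero]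
    have hm : π (eich q v (t • (β / t) • v1) 0) ∈ T := by
      rw [eich_eq_tmat hF hv hzz hz ht, map_mul, map_mul]
      have ht' : tau hF (-t) = -(-t) := by rw [map_neg, ht]
      exact T.mul_mem (T.mul_mem (hlong (add_mem hvE (Submodule.smul_mem _ _ hv1E)) ht) (hlong hvE ht'))
        (hlong (Submodule.smul_mem _ _ hv1E) ht')
    rw [smul_smul, mul_div_cancel₀ _ ht0] at hm
    exact hsome (by rw [h_smul_left, H.hee, mul_zero])
      (by simp [h_smul_left, h_smul_right hF, v1, H.hee]) hm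
  have Ziso : ∀ {z : Vec n F}, hh q z v = 0 → hh q z z = 0 → Zok z := by
    intro z hz hzz
    by_cases hline : ∃ c : F, z = c • v
    · obtain ⟨c, rfl⟩ := hline; exact Zline c
    push Not at hline
    have hv1v : hh q v1 v = 0 := H.hee _ _
    have hli1 : LinearIndependent F ![v, v1] := by
      rw [LinearIndependent.pair_iff]
      intro a b hab
      have e1 := congrArg (fun x => hh q x (H.f i0)) hab
      have e2 := congrArg (fun x => hh q x (H.f i1)) hab
      simp only [h_add_left, h_smul_left, h_zero_left, v, v1, H.hef, if_true, if_neg h01, if_neg h01.symm,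
        mul_zero, mul_one, add_zero, zero_add] at e1 e2
      exact ⟨e1, e2⟩
    have hli2 : LinearIndependent F ![v, z] := by
      rw [LinearIndependent.pair_iff]
      intro a b hab
      by_cases hb : b = 0
      · subst hb
        rw [zero_smul, add_zero, smul_eq_zero] at hab
        exact ⟨hab.resolve_right hv0, rfl⟩
      · refine absurd ?_ (hline (-b⁻¹ * a))
        calc z = b⁻¹ • (b • z) := by rw [smul_smul, inv_mul_cancel₀ hb, one_smul]
          _ = _ := by rw [eq_neg_of_add_eq_zero_right hab, smul_neg, smul_smul, neg_mul, neg_smul]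
    obtain ⟨A, hA⟩ := exists_gu_family hF ![v, v1] ![v, z] hli1 hli2 (by
      intro i j
      fin_cases i <;> fin_cases j <;>
        simp [v, v1, H.hee, hzz, hz, h_flip_zero hF hz] <;>
        first | exact (h_flip_zero hF hz).symm | exact hz.symm | exact hzz.symm | exact hz)
    have hA0 : (A.1 : Mat n F) *ᵥ v = v := hA 0
    have hA1 : (A.1 : Mat n F) *ᵥ v1 = z := hA 1
    set δ := (A.1 : Mat n F).det with hδ
    have hδn : δ * tau hF δ = 1 := by
      let τ : F →+* F := (tau hF).toRingHom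
      have := CfsgLib.UnitaryEmbed.gu_det_norm τ (fun a => tau_apply hF a) A
      rw [tau_apply, ← pow_succ', hδ]; exact this
    have hδ0 : δ ≠ 0 := left_ne_zero_of_mul_eq_one hδn
    obtain ⟨P, hP, hPe⟩ := exists_quot hF (δ := δ⁻¹) (by rw [map_inv₀, ← mul_inv, hδn, inv_one])
    have htP := tau_ne_zero hF hP
    set Q := (tau hF P)⁻¹ with hQ
    set M : Mat n F := (A.1 : Mat n F) * rk q v1 (H.f i1) (P - 1) * rk q (H.f i1) v1 (Q - 1) with hM
    have hv1f : hh q v1 (H.f i1) = 1 := by rw [H.hef, if_pos rfl]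
    have hfv1 : hh q (H.f i1) v1 = 1 := by rw [H.hfe hF, if_pos rfl]
    have hMdet : M.det = 1 := by
      rw [hM, Matrix.det_mul, Matrix.det_mul, det_rk, det_rk, hv1f, hfv1, ← hδ, mul_one, mul_one,
        add_sub_cancel, add_sub_cancel, hQ]
      have hPe' : δ * P = tau hF P := by
        calc δ * P = δ * (δ⁻¹ * tau hF P) := by rw [hPe]
          _ = tau hF P := by rw [mul_inv_cancel_left₀ hδ0]
      rw [hPe', mul_inv_cancel₀ htP]
    have hMv : ∀ x, M *ᵥ x = (A.1 : Mat n F) *ᵥ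
        (x + ((P - 1) * hh q x (H.f i1)) • v1 + ((Q - 1) * hh q x v1) • H.f i1) := by
      intro x
      rw [hM, ← mulVec_mulVec, ← mulVec_mulVec, rk_mulVec, rk_mulVec, h_add_left, h_smul_left, H.hff,
        mul_zero, add_zero]
      congr 1
      abel
    have hMpres : ∀ x y, hh q (M *ᵥ x) (M *ᵥ y) = hh q x y := by
      intro x y
      rw [hMv, hMv, h_gu]
      simp only [h_add_left, h_add_right hF, h_smul_left, h_smul_right hF, map_mul, map_sub, map_one,
        map_inv₀, v1, H.hee, H.hff, H.hef, H.hfe hF, if_true, h_tau hF, hQ, tau_tau]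
      field_simp
      ring
    let g : SUG n F q := ⟨⟨M, hMdet⟩, hMpres⟩
    have hgm : mat g = M := rfl
    have hgv : mat g *ᵥ v = v := by
      rw [hgm, hMv, H.hef, if_neg h01, H.hee]
      simpa using hA0
    have hg1 : mat g *ᵥ v1 = P • z := by
      rw [hgm, hMv, hv1f, H.hee, mul_zero, zero_smul, add_zero, mul_one,
        show v1 + (P - 1) • v1 = P • v1 by module, mulVec_smul, hA1]
    obtain ⟨a, ha⟩ := exists_trace hF (b := -hh q (P⁻¹ • v1) (P⁻¹ • v1)) (by rw [map_neg, h_self_fixed hF])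
    have hra : a + tau hF a + hh q (P⁻¹ • v1) (P⁻¹ • v1) = 0 := by rw [ha]; ring
    have hzl : hh q (P⁻¹ • v1) v = 0 := by rw [h_smul_left, hv1v, mul_zero]
    have hgz : mat g *ᵥ (P⁻¹ • v1) = z := by
      rw [mulVec_smul, hg1, smul_smul, inv_mul_cancel₀ hP, one_smul]
    have hza : a + tau hF a + hh q z z = 0 := by
      rw [← hgz, h_mat]; exact hra
    refine hsome hz hza ?_
    have e := eich_conj hF g hv hzl hra
    rw [hgv, hgz] at e
    rw [← e]
    exact hTm ((Zv1 P⁻¹).2 a hra) (by rw [e]; exact H.isQ_e_mem hF rfl (eich_spec hF hv hz hza).1)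
  have Zall : ∀ z : Vec n F, hh q z v = 0 → Zok z := by
    intro z hz
    obtain ⟨κ, hκ⟩ := H.dec z
    rw [hκ]
    have Zsum : ∀ (u : Fin r → Vec n F), (∀ i, Zok (u i)) → Zok (∑ i, u i) := by
      intro u hu
      refine Finset.sum_induction _ Zok (fun _ _ => Zadd) ?_ fun i _ => hu i
      simpa using Zline 0
    refine Zadd (Zadd (Zsum _ fun i => ?_) (Zsum _ fun i => ?_)) ?_
    · exact Ziso (by rw [h_smul_left, H.hee, mul_zero])
        (by rw [h_smul_left, h_smul_right hF, H.hee, mul_zero, mul_zero])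
    · refine Ziso ?_ (by rw [h_smul_left, h_smul_right hF, H.hff, mul_zero, mul_zero])
      by_cases hi : i = i0
      · rw [hi, h_smul_left, ← hvdef, hz, zero_mul]
      · rw [h_smul_left, H.hfe hF, if_neg hi, mul_zero]
    · obtain ⟨γ, hγ⟩ := exists_trace hF (b := -hh q (κ • H.w) (κ • H.w))
        (by rw [map_neg, h_self_fixed hF])
      have e : κ • H.w = (v1 + γ • H.f i1 + κ • H.w) + (-1 : F) • v1 + (-γ) • H.f i1 := by module
      rw [e]
      refine Zadd (Zadd (Ziso ?_ ?_) (Zv1 _)) (Ziso ?_ ?_)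
      · rw [h_add_left, h_add_left, h_smul_left, h_smul_left, H.hwe, H.hee, H.hfe hF, if_neg h01.symm]
        ring
      · simp only [h_add_left, h_add_right hF, h_smul_left, h_smul_right hF, v1, H.hee, H.hff, H.hef,
          H.hfe hF, if_true, H.hwe, H.hwf, H.hew hF, H.hfw hF]
        simp only [h_smul_left, h_smul_right hF] at hγ
        linear_combination hγ
      · rw [h_smul_left, H.hfe hF, if_neg h01.symm, mul_zero]
      · rw [h_smul_left, h_smul_right hF, H.hff, mul_zero, mul_zero]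
  have hrad : ∀ g : SUG n F q, IsQ v g → π g ∈ T := by
    intro g hg
    set y := mat g *ᵥ H.f i0 with hy
    set a := hh q y (H.f i0) with ha
    set z := y - H.f i0 - a • v with hz
    have hyv : hh q y v = 1 := by
      have h' := h_mat g (H.f i0) v
      rw [hg.1, hfv] at h'
      exact h'
    have hvy : hh q v y = 1 := by rw [← h_tau hF y v, hyv, map_one]
    have hvf : hh q v (H.f i0) = 1 := by rw [hvdef, H.hef, if_pos rfl]
    have hzv : hh q z v = 0 := by rw [hz, h_sub_left, h_sub_left, h_smul_left, hyv, hfv, hv]; ring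
    have hzf : hh q z (H.f i0) = 0 := by
      rw [hz, h_sub_left, h_sub_left, h_smul_left, H.hff, hvf, ← ha]; ring
    have hrel : a + tau hF a + hh q z z = 0 := by
      have hyy : hh q y y = 0 := by rw [hy, h_mat, H.hff]
      have hfy : hh q (H.f i0) y = tau hF a := by rw [ha, h_tau hF]
      have e0 : hh q z z = hh q (y - H.f i0 - a • v) (y - H.f i0 - a • v) := by rw [← hz]
      rw [e0]
      simp only [h_sub_left, h_sub_right hF, h_smul_left, h_smul_right hF, hyy, hfy, hvy, hyv, hv, hvf,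
        hfv, H.hff, ← ha]
      ring
    obtain ⟨hQ, hap⟩ := eich_spec hF hv hzv hrel
    have e : g = eich q v z a := isQ_ext hF hv hfv hg hQ (by
      rw [hap, hfv, h_flip_zero hF hzf, ← hy, hz]; module)
    rw [e]
    exact (Zall z hzv).2 a hrel
  rw [Subgroup.map_le_iff_le_comap]
  refine H.uniU_le hF (by omega) fun k u hu _ hQ => ?_
  obtain ⟨g, hg⟩ := exists_su_isotropic hF (by omega) hv hv0 (H.hee k k) (fun e => by
    have := H.hef k k
    rw [e, h_zero_left, if_pos rfl] at this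
    exact zero_ne_one this)
  have hg' : mat g⁻¹ *ᵥ H.e k = v := by rw [← hg, inv_mat_mulVec]
  have hQ' : IsQ v (g⁻¹ * u * g) := by
    refine ⟨by rw [mat_mul, mat_mul, ← mulVec_mulVec, ← mulVec_mulVec, hg, hQ.1, hg'], fun x hx => ?_⟩
    obtain ⟨c, hc⟩ := hQ.2 (mat g *ᵥ x) (by rw [← hg, h_mat, hx])
    exact ⟨c, by rw [mat_mul, mat_mul, ← mulVec_mulVec, ← mulVec_mulVec, hc, mulVec_add, mulVec_smul,
      inv_mat_mulVec, hg']⟩
  have e : g * (g⁻¹ * u * g) * g⁻¹ = u := by group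
  show π u ∈ T
  rw [← e]
  exact hTm (hrad _ hQ') (by rw [e]; exact hu)

end hFsec

end Hyp

theorem isSimple (hF : Fintype.card F = q ^ 2) {p : ℕ} [Fact p.Prime] [CharP F p] (hn : 4 ≤ n)
    {G : Type*} [Group G] [Finite G] (π : SUG n F q →* G) (hπ : Function.Surjective π)
    (hker : π.ker = Subgroup.center (SUG n F q)) (H : Hyp q n r F) (hr : 2 ≤ r)
    (S : Sylow p G) (hS : (S : Subgroup G) = H.uniU.map π) :
    (groupFusionSystem (S : Subgroup G)).IsSimple p := by
  have hker' : ∀ z ∈ π.ker, z ∈ Subgroup.center (SUG n F q) ∧ (z ^ p = 1 → z = 1) := by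
    intro z hz
    rw [hker] at hz
    refine ⟨hz, fun hzp => ?_⟩
    set i : Fin n := ⟨0, by omega⟩
    set ζ := mat z i i with hζdef
    have hzd : mat z = ζ • (1 : Mat n F) := by
      ext a b
      rw [Matrix.smul_apply, Matrix.one_apply]
      by_cases hab : a = b
      · subst hab
        rw [if_pos rfl, smul_eq_mul, mul_one]
        exact (center_SU_scalar hF ⟨z, hz⟩ a i).2
      · rw [if_neg hab, smul_zero]
        exact (center_SU_scalar hF ⟨z, hz⟩ a b).1 hab
    have hN : ∀ N : ℕ, mat (z ^ N) = ζ ^ N • (1 : Mat n F) := fun N => by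
      induction N with
      | zero => simp [mat_one]
      | succ N ih => rw [pow_succ, mat_mul, ih, hzd, Matrix.smul_mul, one_mul, smul_smul, pow_succ]
    have h1 := congrFun (congrFun (hN p) i) i
    rw [hzp] at h1
    have h2 : ζ ^ p = 1 := by simpa [mat_one] using h1.symm
    have h3 : ζ = 1 := (frobenius_inj F p) (by rw [frobenius_def, frobenius_def, h2, one_pow])
    apply mat_injective
    rw [hzd, h3, one_smul, mat_one]
  obtain ⟨s, hs0, hs⟩ := exists_skew hF
  set i0 : Fin r := ⟨0, by omega⟩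
  refine CfsgLib.FusionLie.isSimple_of_lift hπ hker' _ (H.isPGroup_uniU hF (by omega)) S hS (fun h => ?_)
    (fun T hT hTne => H.closed_top hF hn hr hker' S hS hT hTne)
    (fun g hg => H.normalizer_gen hF hker hr hg)
  have hm : tmat q (H.e i0) s ∈ H.uniU := H.tmat_mem hF (H.e_mem i0.2) hs
  have h1 := hS.ge ⟨_, hm, rfl⟩
  rw [h, Subgroup.mem_bot] at h1
  obtain ⟨k, hk⟩ := H.isPGroup_uniU hF (p := p) (by omega) ⟨_, hm⟩
  have h2 : tmat q (H.e i0) s = 1 := CfsgLib.FusionLie.eq_of_map_eq hker'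
    (congrArg Subtype.val hk) (l := 0) (one_pow _) (by rw [h1, map_one])
  have h3 := congrArg (fun g : SUG n F q => hh q (mat g *ᵥ H.f i0) (H.f i0)) h2
  simp [tmat_apply hF (H.hee i0 i0) hs, mat_one, h_add_left, h_smul_left, H.hfe hF, H.hef, H.hff] at h3
  exact hs0 h3

end CfsgLib.FusionPSU
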