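import Cfsg.Agent.Lib.Fusion.SimpleLie
import Cfsg.Agent.Lib.Fusion.SimplePSL
import Cfsg.Agent.Lib.AutPSp.Unipotent
import Cfsg.Agent.Lib.Sp.Torus

/-!
The `p`-fusion system of `PSp_{2m}` in characteristic `p` is simple.
-/

set_option autoImplicit false
set_option linter.unusedSectionVars false

namespace CfsgLib.FusionPSp

open Cfsg Cfsg.FusionSystem CfsgLib.Fusion CfsgLib.AutPSp CfsgLib.Sp Matrix

variable {m : ℕ} {F : Type*} [Field F]

/-- The Levi embedding. -/
noncomputable def levi : GL (Fin m) F →* SpG m F where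
  toFun A := ⟨fromBlocks A.1 0 0 ((A⁻¹).1)ᵀ, fromBlocks_mem
    (by rw [← transpose_mul, ← Units.val_mul, inv_mul_cancel, Units.val_one, transpose_one])
    (by simp [IsSymm])⟩
  map_one' := Subtype.ext (by simp [fromBlocks_one])
  map_mul' A B := Subtype.ext (by simp [fromBlocks_multiply, _root_.mul_inv_rev, transpose_mul])

theorem levi_coe (A : GL (Fin m) F) : (levi A).1 = fromBlocks A.1 0 0 ((A⁻¹).1)ᵀ := rfl

/-- The Siegel element. -/
def qEl (M : Matrix (Fin m) (Fin m) F) (h : M.IsSymm) : SpG m F :=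
  ⟨fromBlocks 1 M 0 1, fromBlocks_mem (by simp) (by simpa [IsSymm] using h)⟩

theorem qEl_coe (M : Matrix (Fin m) (Fin m) F) (h : M.IsSymm) :
    (qEl M h).1 = fromBlocks 1 M 0 1 := rfl

theorem qEl_mul {M N : Matrix (Fin m) (Fin m) F} (h : M.IsSymm) (h' : N.IsSymm) :
    qEl M h * qEl N h' = qEl (M + N) (h.add h') := by
  apply Subtype.ext
  simp [qEl, fromBlocks_multiply, add_comm]

theorem qEl_zero : qEl (0 : Matrix (Fin m) (Fin m) F) Matrix.isSymm_zero = 1 := by
  apply Subtype.ext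
  simp [qEl, fromBlocks_one]

theorem qEl_inv {M : Matrix (Fin m) (Fin m) F} (h : M.IsSymm) : (qEl M h)⁻¹ = qEl (-M) h.neg := by
  refine inv_eq_of_mul_eq_one_right ?_
  rw [qEl_mul, ← qEl_zero]
  congr 1
  exact add_neg_cancel M

theorem isSymm_congr (A : Matrix (Fin m) (Fin m) F) {M : Matrix (Fin m) (Fin m) F} (h : M.IsSymm) :
    (A * M * Aᵀ).IsSymm := by
  rw [IsSymm, transpose_mul, transpose_mul, transpose_transpose, h.eq, mul_assoc]

theorem levi_conj (A : GL (Fin m) F) {M : Matrix (Fin m) (Fin m) F} (h : M.IsSymm) :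
    levi A * qEl M h * (levi A)⁻¹ = qEl (A.1 * M * (A.1)ᵀ) (isSymm_congr _ h) := by
  rw [mul_inv_eq_iff_eq_mul]
  apply Subtype.ext
  simp only [Submonoid.coe_mul, levi_coe, qEl_coe, fromBlocks_multiply, mul_one, one_mul, mul_zero,
    zero_mul, add_zero, zero_add, mul_assoc, ← transpose_mul]
  rw [← Units.val_mul, inv_mul_cancel, Units.val_one, transpose_one, mul_one]

/-- The Siegel radical. -/
def radS (m : ℕ) (F : Type*) [Field F] : Subgroup (SpG m F) where
  carrier := {x | ∃ M h, x = qEl M h}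
  one_mem' := ⟨0, isSymm_zero, qEl_zero.symm⟩
  mul_mem' := by
    rintro _ _ ⟨M, h, rfl⟩ ⟨N, h', rfl⟩
    exact ⟨M + N, h.add h', qEl_mul h h'⟩
  inv_mem' := by
    rintro _ ⟨M, h, rfl⟩
    exact ⟨-M, h.neg, qEl_inv h⟩

/-- The diagonal units. -/
noncomputable def diagGL : (Fin m → Fˣ) →* GL (Fin m) F :=
  (Units.map (Matrix.diagonalRingHom (Fin m) F).toMonoidHom).comp MulEquiv.piUnits.symm.toMonoidHom

theorem diagGL_coe (t : Fin m → Fˣ) : (diagGL t).1 = diagonal fun i => (t i : F) := rfl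

theorem diagGL_inv_coe (t : Fin m → Fˣ) :
    ((diagGL t)⁻¹).1 = diagonal fun i => ((t i : F))⁻¹ := by
  rw [← map_inv, diagGL_coe]
  congr 1
  funext i
  exact Units.val_inv_eq_inv_val _

/-- The torus. -/
noncomputable def dEl : (Fin m → Fˣ) →* SpG m F := levi.comp diagGL

theorem dEl_coe (t : Fin m → Fˣ) :
    (dEl t).1 = fromBlocks (diagonal fun i => (t i : F)) 0 0 (diagonal fun i => ((t i : F))⁻¹) := by
  show (levi (diagGL t)).1 = _
  rw [levi_coe, diagGL_inv_coe, diagGL_coe, diagonal_transpose]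

theorem dEl_mulVec (t : Fin m → Fˣ) (v : Vec m F) :
    (dEl t).1 *ᵥ v = Sum.elim (fun i => (t i : F) * v (.inl i)) (fun i => ((t i : F))⁻¹ * v (.inr i)) := by
  rw [dEl_coe]
  ext (i | i) <;> simp [fromBlocks_mulVec, mulVec_diagonal]

theorem tmat_pow (v : Vec m F) (c : F) (k : ℕ) : tmat v c ^ k = tmat v (k • c) := by
  induction k with
  | zero => rw [pow_zero, zero_nsmul, tmat_zero]
  | succ k ih => rw [pow_succ, ih, tmat_mul, succ_nsmul]

theorem tmat_mulVec (v : Vec m F) (c : F) (x : Vec m F) :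
    (tmat v c).1 *ᵥ x = x + (c * sympForm m F x v) • v :=
  sympTransvection_mulVec v c x

/-- A long coroot as a product of six transvections. -/
theorem dEl_single (i : Fin m) (a : Fˣ) :
    tmat (ee i : Vec m F) (a : F) * tmat (ff i) ((a : F))⁻¹ * tmat (ee i) (a : F) *
      (tmat (ee i) (-1) * tmat (ff i) (-1) * tmat (ee i) (-1)) = dEl (Pi.mulSingle i a) := by
  apply Subtype.ext
  apply Matrix.ext_of_mulVec_single
  intro c
  generalize (Pi.single c 1 : Vec m F) = v
  have ha : (a : F) ≠ 0 := a.ne_zero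
  rw [dEl_mulVec]
  simp only [Submonoid.coe_mul, ← mulVec_mulVec, tmat_mulVec, form_ee_right, form_ff_right]
  ext (k | k) <;> simp only [Pi.add_apply, Pi.smul_apply, smul_eq_mul, Sum.elim_inl, Sum.elim_inr]
  all_goals by_cases hk : k = i
  all_goals first
    | (subst hk; simp [ee, ff, Pi.single_apply]; field_simp; ring)
    | simp [ee, ff, Pi.single_apply, hk]

/-- The symmetric matrix with two equal off-diagonal entries. -/
def symJ (i j : Fin m) (c : F) : Matrix (Fin m) (Fin m) F :=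
  Matrix.single i j c + Matrix.single j i c

theorem symJ_isSymm (i j : Fin m) (c : F) : (symJ i j c).IsSymm := by
  rw [IsSymm, symJ, transpose_add, transpose_single, transpose_single, add_comm]

theorem single_isSymm (i : Fin m) (c : F) : (Matrix.single i i c).IsSymm :=
  transpose_single _ _ _

theorem congr_transvection (i j : Fin m) (d : F) (M : Matrix (Fin m) (Fin m) F) :
    (1 + Matrix.single i j d) * M * (1 + Matrix.single i j d)ᵀ =
      M + Matrix.single i j d * M + M * Matrix.single j i d +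
        Matrix.single i j d * M * Matrix.single j i d := by
  rw [transpose_add, transpose_one, transpose_single]
  noncomm_ring

/-- The transvection in `GL`. -/
def trGL {i j : Fin m} (h : i ≠ j) (d : F) : GL (Fin m) F :=
  Matrix.SpecialLinearGroup.toGL (CfsgLib.FusionPSL.xEl h d)

theorem trGL_coe {i j : Fin m} (h : i ≠ j) (d : F) : (trGL h d).1 = 1 + Matrix.single i j d :=
  Matrix.SpecialLinearGroup.transvection_coe h d

theorem trGL_inv_coe {i j : Fin m} (h : i ≠ j) (d : F) :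
    ((trGL h d)⁻¹).1 = 1 + Matrix.single i j (-d) := by
  rw [trGL, ← map_inv, CfsgLib.FusionPSL.xEl_inv, ← trGL, trGL_coe]

/-- The monomial element exchanging `e_j` and `f_j`. -/
def flipEl (j : Fin m) : SpG m F :=
  ⟨monoMat 1 (fun k => (decide (k = j), 1)), monoMat_mem _ _⟩

theorem flipEl_mulVec (j : Fin m) (v : Vec m F) :
    (flipEl j).1 *ᵥ v = Sum.elim (fun k => if k = j then -v (.inr k) else v (.inl k))
      (fun k => if k = j then v (.inl k) else v (.inr k)) := by
  ext (k | k) <;>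
  · simp only [flipEl, monoMat, Matrix.mulVec, dotProduct, Matrix.of_apply, Fintype.sum_sum_type,
      Sum.elim_inl, Sum.elim_inr]
    rw [Finset.sum_eq_single k, Finset.sum_eq_single k]
    · by_cases hk : k = j <;> simp [monoCol, hk]
    all_goals first
      | (intro h; exact absurd (Finset.mem_univ _) h)
      | (intro l _ hl; by_cases hlj : l = j <;> simp [monoCol, hlj, Pi.single_apply, Ne.symm hl] <;>
          (intro h; exact absurd h (by subst hlj; exact Ne.symm hl)))

/-- A short root element of the radical is conjugate to one of the Levi factor. -/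
theorem flip_conj {i j : Fin m} (h : i ≠ j) (c : F) :
    flipEl j * qEl (symJ i j c) (symJ_isSymm i j c) * (flipEl j)⁻¹ = levi (trGL h (-c)) := by
  rw [mul_inv_eq_iff_eq_mul]
  apply Subtype.ext
  apply Matrix.ext_of_mulVec_single
  intro s
  generalize (Pi.single s 1 : Vec m F) = v
  simp only [Submonoid.coe_mul, ← mulVec_mulVec, flipEl_mulVec, qEl_coe, levi_coe, trGL_coe,
    trGL_inv_coe, neg_neg, transpose_add, transpose_one, transpose_single]
  ext (k | k) <;>
  · simp only [fromBlocks_mulVec, symJ, add_mulVec, one_mulVec, zero_mulVec, add_zero, zero_add,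
      Sum.elim_inl, Sum.elim_inr, Pi.add_apply, Matrix.single_mulVec_eq, Pi.smul_apply,
      Pi.single_apply, smul_eq_mul, Function.comp_apply]
    by_cases hk : k = j
    · subst hk; simp [h, Ne.symm h]; try ring
    · by_cases hk' : k = i
      · subst hk'; simp [h, Ne.symm h]
      · simp [hk, hk']

/-- The unipotent radical of the stabilizer of the first point. -/
def radP (z : Fin m) : Subgroup (SpG m F) where
  carrier := {g | g.1 *ᵥ (ee z : Vec m F) = ee z ∧
    ∀ v, sympForm m F v (ee z) = 0 → ∃ l : F, g.1 *ᵥ v = v + l • ee z}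
  one_mem' := ⟨by rw [Submonoid.coe_one, one_mulVec], fun v _ =>
    ⟨0, by rw [Submonoid.coe_one, one_mulVec, zero_smul, add_zero]⟩⟩
  mul_mem' := by
    rintro g h ⟨hg, hg'⟩ ⟨hh, hh'⟩
    refine ⟨by rw [Submonoid.coe_mul, ← mulVec_mulVec, hh, hg], fun v hv => ?_⟩
    obtain ⟨l, hl⟩ := hh' v hv
    obtain ⟨k, hk⟩ := hg' v hv
    refine ⟨k + l, ?_⟩
    rw [Submonoid.coe_mul, ← mulVec_mulVec, hl, mulVec_add, mulVec_smul, hg, hk, add_assoc, add_smul]
  inv_mem' := by
    rintro g ⟨hg, hg'⟩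
    have hcancel : ∀ x, (g⁻¹ : SpG m F).1 *ᵥ (g.1 *ᵥ x) = x := fun x => by
      rw [mulVec_mulVec, ← Submonoid.coe_mul, inv_mul_cancel, Submonoid.coe_one, one_mulVec]
    have hz : (g⁻¹ : SpG m F).1 *ᵥ (ee z : Vec m F) = ee z := by
      conv_lhs => rw [← hg]
      exact hcancel _
    refine ⟨hz, fun v hv => ?_⟩
    obtain ⟨l, hl⟩ := hg' v hv
    refine ⟨-l, ?_⟩
    have h1 := congrArg ((g⁻¹ : SpG m F).1 *ᵥ ·) hl
    simp only [hcancel, mulVec_add, mulVec_smul, hz] at h1
    rw [neg_smul, ← sub_eq_add_neg, eq_sub_iff_add_eq]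
    exact h1.symm

theorem radP_conj {z : Fin m} {x : SpG m F} (hx : x.1 *ᵥ (ee z : Vec m F) = ee z) :
    ∀ r ∈ radP (F := F) z, x * r * x⁻¹ ∈ radP z := by
  rintro r ⟨hr, hr'⟩
  have hcancel : ∀ y, x.1 *ᵥ ((x⁻¹ : SpG m F).1 *ᵥ y) = y := fun y => by
    rw [mulVec_mulVec, ← Submonoid.coe_mul, mul_inv_cancel, Submonoid.coe_one, one_mulVec]
  have hxi : (x⁻¹ : SpG m F).1 *ᵥ (ee z : Vec m F) = ee z := by
    conv_lhs => rw [← hx]
    rw [mulVec_mulVec, ← Submonoid.coe_mul, inv_mul_cancel, Submonoid.coe_one, one_mulVec]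
  refine ⟨by simp only [Submonoid.coe_mul, ← mulVec_mulVec, hxi, hr, hx], fun v hv => ?_⟩
  have hv' : sympForm m F ((x⁻¹ : SpG m F).1 *ᵥ v) (ee z) = 0 := by
    rw [← sympForm_mulVec x, hcancel, hx, hv]
  obtain ⟨l, hl⟩ := hr' _ hv'
  exact ⟨l, by simp only [Submonoid.coe_mul, ← mulVec_mulVec, hl, mulVec_add, mulVec_smul, hx, hcancel]⟩

/-- A central element with the given scalar. -/
theorem exists_central_smul {c : F} (hc : c * c = 1) :
    ∃ z ∈ Subgroup.center (SpG m F), z.1 = c • (1 : Mat m F) := by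
  have hmem : c • (1 : Mat m F) ∈ Matrix.symplecticGroup (Fin m) F := by
    rw [mem_symplecticGroup_iff]
    intro u v
    rw [smul_mulVec, smul_mulVec, one_mulVec, one_mulVec, form_smul_left, form_smul_right,
      ← mul_assoc, hc, one_mul]
  refine ⟨⟨_, hmem⟩, mem_center_iff.mpr ?_, rfl⟩
  rcases mul_self_eq_one_iff.mp hc with rfl | rfl <;> simp

theorem radS_centralizer (hm : 2 ≤ m) {g : SpG m F} (hg : ∀ r ∈ radS m F, g * r = r * g) :
    ∃ z ∈ Subgroup.center (SpG m F), z * g ∈ radS m F := by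
  have hcomm : ∀ (M : Matrix (Fin m) (Fin m) F) (h : M.IsSymm), M * g.1.toBlocks₂₁ = 0 ∧
      g.1.toBlocks₁₁ * M = M * g.1.toBlocks₂₂ := by
    intro M h
    have e := congrArg Subtype.val (hg _ ⟨M, h, rfl⟩)
    simp only [Submonoid.coe_mul, qEl_coe] at e
    rw [← fromBlocks_toBlocks g.1, fromBlocks_multiply, fromBlocks_multiply, fromBlocks_inj] at e
    simp only [one_mul, mul_one, mul_zero, zero_mul, add_zero, zero_add] at e
    obtain ⟨e1, e2, -, -⟩ := e
    exact ⟨(left_eq_add.mp e1), by rwa [add_comm g.1.toBlocks₁₂, add_left_inj] at e2⟩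
  obtain ⟨h21, h22⟩ := hcomm 1 isSymm_one
  rw [one_mul] at h21 h22
  rw [mul_one] at h22
  set A := g.1.toBlocks₁₁ with hA
  have hAM : ∀ (M : Matrix (Fin m) (Fin m) F), M.IsSymm → A * M = M * A := fun M h => by
    have := (hcomm M h).2
    rwa [← h22] at this
  set z : Fin m := ⟨0, by omega⟩
  have hdiag : ∀ i j, i ≠ j → A i j = 0 := fun i j hij => by
    have := congrFun (congrFun (hAM _ (single_isSymm j 1)) i) j
    simpa [hij] using this
  have heq : ∀ i, A i i = A z z := fun i => by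
    by_cases hiz : i = z
    · rw [hiz]
    have := congrFun (congrFun (hAM _ (symJ_isSymm i z 1)) i) z
    simpa [symJ, mul_add, add_mul, hiz, Ne.symm hiz] using this
  set c := A z z
  have hAc : A = c • 1 := by
    ext i j
    by_cases hij : i = j
    · subst hij; rw [heq]; simp
    · rw [hdiag i j hij]; simp [hij]
  have hge : g.1 = fromBlocks (c • 1) g.1.toBlocks₁₂ 0 (c • 1) := by
    conv_lhs => rw [← fromBlocks_toBlocks g.1, ← hA, h21, ← h22, hAc]
  have hgz : g.1 *ᵥ (ee z : Vec m F) = c • ee z := by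
    rw [hge]
    ext (i | i) <;> simp [ee, Pi.single_apply, Matrix.one_apply]
  have hc : c * c = 1 := by
    have := sympForm_mulVec g (ff z) (ee z)
    rw [hgz, form_smul_right, form_ee_right, form_ee_right, hge] at this
    simpa [fromBlocks_mulVec, smul_mulVec, ff] using this
  obtain ⟨ζ, hζ, hζe⟩ := exists_central_smul (m := m) hc
  refine ⟨ζ, hζ, ?_⟩
  have hval : (ζ * g).1 = fromBlocks 1 (c • g.1.toBlocks₁₂) 0 1 := by
    rw [Submonoid.coe_mul, hζe, smul_mul, one_mul]
    conv_lhs => rw [hge]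
    rw [fromBlocks_smul, smul_smul, hc, one_smul, smul_zero]
  refine ⟨c • g.1.toBlocks₁₂, ?_, Subtype.ext hval⟩
  have := (blocks_of_isUniS (x := ζ * g) ⟨by rw [hval, toBlocks_fromBlocks₂₁], by
    rw [hval, toBlocks_fromBlocks₁₁]; exact isUpperOne_one⟩).2
  rwa [hval, toBlocks_fromBlocks₂₂, toBlocks_fromBlocks₁₂, transpose_one, one_mul] at this

theorem radP_centralizer {z : Fin m} {g : SpG m F} (hg : ∀ r ∈ radP (F := F) z, g * r = r * g) :
    ∃ ζ ∈ Subgroup.center (SpG m F), ζ * g ∈ radP z := by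
  set e : Vec m F := ee z with he
  have hee : sympForm m F e e = 0 := sympForm_self e
  have hfe : sympForm m F (ff z) e = 1 := by simp [he, form_ee_right, ff]
  have hx : ∀ w, sympForm m F w e = 0 → tmat (e + w) 1 * tmat e (-1) * tmat w (-1) ∈ radP z ∧
      ∀ v, (tmat (e + w) 1 * tmat e (-1) * tmat w (-1)).1 *ᵥ v =
        v + sympForm m F v w • e + sympForm m F v e • w := by
    intro w hw
    have hw' : sympForm m F e w = 0 := by rw [sympForm_flip, hw, neg_zero]
    have hv : ∀ v, (tmat (e + w) 1 * tmat e (-1) * tmat w (-1)).1 *ᵥ v =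
        v + sympForm m F v w • e + sympForm m F v e • w := by
      intro v
      simp only [Submonoid.coe_mul, ← mulVec_mulVec, tmat_mulVec, form_add_left, form_smul_left,
        form_add_right, hee, hw, hw', sympForm_self]
      module
    refine ⟨⟨?_, fun v hve => ⟨sympForm m F v w, ?_⟩⟩, hv⟩
    · rw [hv]; simp [hw', hee, ← he]
    · rw [hv, hve, zero_smul, add_zero]
  have ht : tmat e (1 : F) ∈ radP z := by
    refine ⟨?_, fun v hv => ⟨0, ?_⟩⟩ <;> rw [tmat_mulVec]
    · simp [← he, hee]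
    · rw [← he] at *; simp [hv]
  set c := sympForm m F (g.1 *ᵥ ff z) e with hcdef
  have hge : g.1 *ᵥ e = c • e := by
    have h1 := congrArg (fun M : SpG m F => M.1 *ᵥ ff z) (hg _ ht)
    simpa only [Submonoid.coe_mul, ← mulVec_mulVec, tmat_mulVec, mulVec_add, mulVec_smul, hfe,
      one_mul, one_smul, add_right_inj, ← hcdef] using h1
  have hc : c * c = 1 := by
    have := sympForm_mulVec g (ff z) e
    rwa [hge, form_smul_right, ← hcdef, hfe] at this
  obtain ⟨ζ, hζ, hζe⟩ := exists_central_smul (m := m) hc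
  have hval : ∀ v, (ζ * g).1 *ᵥ v = c • (g.1 *ᵥ v) := fun v => by
    rw [Submonoid.coe_mul, hζe, smul_mul, one_mul, smul_mulVec]
  refine ⟨ζ, hζ, ?_, fun w hw => ?_⟩
  · rw [hval, ← he, hge, smul_smul, hc, one_smul]
  · rw [← he] at hw ⊢
    obtain ⟨hxm, hxv⟩ := hx w hw
    have h1 := congrArg (fun M : SpG m F => M.1 *ᵥ ff z) (hg _ hxm)
    simp only [Submonoid.coe_mul, ← mulVec_mulVec] at h1
    have h2 := hxv (ff z)
    have h3 := hxv (g.1 *ᵥ ff z)
    simp only [Submonoid.coe_mul, ← mulVec_mulVec] at h2 h3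
    rw [h2, h3, hfe, one_smul, ← hcdef, mulVec_add, mulVec_add, mulVec_smul, hge, add_assoc,
      add_assoc, add_right_inj] at h1
    refine ⟨c * (sympForm m F (g.1 *ᵥ ff z) w - sympForm m F (ff z) w * c), ?_⟩
    rw [hval, eq_sub_of_add_eq' h1, smul_sub, smul_add, smul_smul, smul_smul, smul_smul, hc, one_smul]
    module

variable [Fintype F]

theorem radS_le : radS m F ≤ uniS m F := by
  rintro _ ⟨M, h, rfl⟩
  refine ⟨?_, ?_⟩ <;> rw [qEl_coe]
  · exact toBlocks_fromBlocks₂₁ _ _ _ _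
  · rw [toBlocks_fromBlocks₁₁]; exact isUpperOne_one

theorem radP_le {z : Fin m} (h0 : ∀ i, z ≤ i) : radP z ≤ uniS m F := by
  rintro g ⟨hg, hg'⟩
  have hcol : ∀ j : Fin m, ∃ l : F, g.1 *ᵥ (ee j : Vec m F) = ee j + l • ee z := fun j =>
    hg' _ (by simp [form_ee_right, ee])
  refine ⟨?_, fun i j hji => ?_⟩
  · ext i j
    obtain ⟨l, hl⟩ := hcol j
    have := congrFun hl (.inr i)
    simpa [toBlocks₂₁, ee] using this
  · by_cases hiz : i = z
    · obtain rfl : j = i := le_antisymm hji (hiz ▸ h0 j)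
      have := congrFun hg (.inl j)
      rw [← hiz] at this
      simpa [toBlocks₁₁, ee] using this
    · obtain ⟨l, hl⟩ := hcol j
      have := congrFun hl (.inl i)
      simpa [toBlocks₁₁, ee, hiz, Pi.single_apply] using this

/-- The normalizer of the maximal unipotent subgroup consists of upper triangular elements. -/
theorem upper_of_normalizes {g : SpG m F} (hg : ∀ u ∈ uniS m F, g * u * g⁻¹ ∈ uniS m F) :
    g.1.toBlocks₂₁ = 0 ∧ ∀ i j : Fin m, j < i → g.1.toBlocks₁₁ i j = 0 := by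
  classical
  have hback : ∀ u ∈ uniS m F, g⁻¹ * u * g ∈ uniS m F := by
    intro u hu
    obtain ⟨k, hk⟩ : ∃ k : ℕ, g⁻¹ = g ^ k :=
      ⟨orderOf g - 1, inv_eq_of_mul_eq_one_right (by
        rw [← pow_succ', Nat.sub_add_cancel (orderOf_pos g), pow_orderOf_eq_one])⟩
    have : ∀ n : ℕ, g ^ n * u * (g ^ n)⁻¹ ∈ uniS m F := by
      intro n
      induction n with
      | zero => simpa using hu
      | succ n ih => rw [pow_succ', _root_.mul_inv_rev]; simpa [mul_assoc] using hg _ ih
    have h1 := this k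
    rwa [← hk, inv_inv] at h1
  suffices key : ∀ j : Fin m, (∀ i, (g.1 *ᵥ (ee j : Vec m F)) (.inr i) = 0) ∧
      ∀ i, j < i → (g.1 *ᵥ (ee j : Vec m F)) (.inl i) = 0 by
    refine ⟨?_, fun i j hji => ?_⟩
    · ext i j
      simpa [toBlocks₂₁, ee] using (key j).1 i
    · simpa [toBlocks₁₁, ee] using (key j).2 i hji
  intro j
  induction hj : (j : ℕ) using Nat.strong_induction_on generalizing j with
  | _ n ih =>
  subst hj
  set w := g.1 *ᵥ (ee j : Vec m F) with hw
  -- unipotent elements move `w` into the span of the earlier vectors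
  have hmove : ∀ u ∈ uniS m F, ∀ s : Fin m ⊕ Fin m, (∀ i, i < j → s ≠ .inl i) →
      (u.1 *ᵥ w) s = w s := by
    intro u hu s hs
    set v := g⁻¹ * u * g
    have e : u.1 *ᵥ w = g.1 *ᵥ (v.1 *ᵥ (ee j : Vec m F)) := by
      rw [hw, mulVec_mulVec, mulVec_mulVec, ← Submonoid.coe_mul, ← Submonoid.coe_mul,
        show g * v = u * g by simp [v, mul_assoc]]
    have hv : v.1 *ᵥ (ee j : Vec m F) = ee j + ∑ i ∈ Finset.univ.filter (· < j),
        v.1.toBlocks₁₁ i j • (ee i : Vec m F) := by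
      obtain ⟨h21, h11⟩ : IsUniS v := hback u hu
      ext (i | i)
      · simp only [Pi.add_apply, Finset.sum_apply, Pi.smul_apply, smul_eq_mul, ee, Pi.single_apply,
          Sum.inl.injEq, mul_ite, mul_one, mul_zero, Finset.sum_ite_eq, Finset.mem_filter,
          Finset.mem_univ, true_and]
        by_cases hij : i < j
        · simp [hij, hij.ne, toBlocks₁₁, ee]
        · have := h11 i j (not_lt.mp hij)
          simp only [toBlocks₁₁, of_apply] at this
          simp [hij, ee, this]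
      · have := congrFun (congrFun h21 i) j
        simp only [toBlocks₂₁, of_apply, Matrix.zero_apply] at this
        simp [ee, this, Finset.sum_apply]
    rw [e, hv, mulVec_add, mulVec_sum, ← hw, Pi.add_apply, Finset.sum_apply]
    refine add_eq_left.mpr (Finset.sum_eq_zero fun i hi => ?_)
    rw [Finset.mem_filter] at hi
    rw [mulVec_smul, Pi.smul_apply, smul_eq_mul]
    refine mul_eq_zero_of_right _ ?_
    rcases s with s | s
    · refine (ih i hi.2 i rfl).2 s (lt_of_le_of_ne ?_ ?_)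
      · exact hi.2.le.trans (not_lt.mp fun h => hs s h rfl)
      · exact fun h => hs s (h ▸ hi.2) rfl
    · exact (ih i hi.2 i rfl).1 s
  have hr : ∀ i, w (.inr i) = 0 := by
    intro i
    by_cases hij : i < j
    · have hu : qEl (symJ i j (1 : F)) (symJ_isSymm i j 1) ∈ uniS m F := radS_le ⟨_, _, rfl⟩
      have := hmove _ hu (.inl j) (fun k hk h => hk.ne' (Sum.inl_injective h))
      simpa [qEl_coe, fromBlocks_mulVec, symJ, add_mulVec, Matrix.single_mulVec_eq, Pi.single_apply,
        hij.ne'] using this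
    · have := hmove _ (tmat_ee_mem i 1) (.inl i) (fun k hk h => hij (Sum.inl_injective h ▸ hk))
      simpa [tmat_mulVec, form_ee_right, ee] using this
  refine ⟨hr, fun i hji => ?_⟩
  have hu : levi (trGL hji.ne (1 : F)) ∈ uniS m F := by
    refine ⟨?_, ?_⟩ <;> rw [levi_coe]
    · exact toBlocks_fromBlocks₂₁ _ _ _ _
    · rw [toBlocks_fromBlocks₁₁]
      intro r s hsr
      show (CfsgLib.FusionPSL.xEl hji.ne (1 : F)).1 r s = _
      rw [CfsgLib.FusionPSL.xEl_apply, if_neg (c := j = r ∧ i = s), add_zero]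
      rintro ⟨rfl, rfl⟩
      exact absurd hji (not_lt.mpr hsr)
  have := hmove _ hu (.inl j) (fun k hk h => hk.ne' (Sum.inl_injective h))
  simpa [levi_coe, trGL_coe, fromBlocks_mulVec, add_mulVec, Matrix.single_mulVec_eq,
    Pi.single_apply] using this

omit [Fintype F] in
theorem card_ne_two [Fintype F] (h : 3 ≤ Fintype.card F) : ∃ t : Fˣ, (t : F) ≠ 1 := by
  classical
  obtain ⟨a, -, ha⟩ := Finset.exists_mem_notMem_of_card_lt_card (s := ({0, 1} : Finset F))
    (t := Finset.univ) (lt_of_le_of_lt Finset.card_le_two (by rw [Finset.card_univ]; omega))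
  simp only [Finset.mem_insert, Finset.mem_singleton, not_or] at ha
  exact ⟨Units.mk0 a ha.1, ha.2⟩

omit [Fintype F] in
/-- An additive subgroup containing `a ≠ 0` and closed under multiplication by squares is full. -/
theorem eq_top_of_sq_closed [Finite F] (V : AddSubgroup F) {a : F} (ha : a ≠ 0) (hmem : a ∈ V)
    (hsq : ∀ x ∈ V, ∀ t : F, t ≠ 0 → t * t * x ∈ V) : V = ⊤ := by
  have hsq' : ∀ t : F, t * t * a ∈ V := fun t => by
    by_cases ht : t = 0
    · simpa [ht] using V.zero_mem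
    · exact hsq a hmem t ht
  rw [eq_top_iff]
  intro x _
  by_cases h2 : (2 : F) = 0
  · have : ringChar F = 2 := by
      have h := CharTwo.of_one_ne_zero_of_two_eq_zero (R := F) one_ne_zero h2
      exact ringChar.eq F 2
    obtain ⟨t, ht⟩ := FiniteField.isSquare_of_char_two this (x / a)
    have := hsq' t
    rwa [← ht, div_mul_cancel₀ _ ha] at this
  · set y := x / a / 2 with hy
    have h := V.sub_mem (V.sub_mem (hsq' (y + 1)) (hsq' y)) (hsq' 1)
    convert h using 1
    rw [hy]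
    field_simp
    ring

theorem qEl_mem {M : Matrix (Fin m) (Fin m) F} (h : M.IsSymm) : qEl M h ∈ uniS m F :=
  radS_le (x := qEl M h) ⟨M, h, rfl⟩

theorem uniS_eq {x : SpG m F} (hx : x ∈ uniS m F) :
    ∃ (A : Matrix.SpecialLinearGroup (Fin m) F) (M : Matrix (Fin m) (Fin m) F) (h : M.IsSymm),
      A ∈ CfsgLib.AutPSL.uni m F ∧ x = levi (Matrix.SpecialLinearGroup.toGL A) * qEl M h := by
  set A : Matrix.SpecialLinearGroup (Fin m) F := ⟨x.1.toBlocks₁₁, hx.2.det⟩
  refine ⟨A, _, (blocks_of_isUniS hx).2, hx.2, ?_⟩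
  have hl : levi (Matrix.SpecialLinearGroup.toGL A) ∈ uniS m F := by
    refine ⟨?_, ?_⟩ <;> rw [levi_coe]
    · exact toBlocks_fromBlocks₂₁ _ _ _ _
    · rw [toBlocks_fromBlocks₁₁]; exact hx.2
  have hmem := mul_mem hl (qEl_mem (blocks_of_isUniS hx).2)
  have key : (⟨x, hx⟩ : uniS m F) = ⟨_, hmem⟩ := by
    refine uniS_ext ?_ ?_
    · simp [levi_coe, qEl_coe, fromBlocks_multiply, A, Matrix.SpecialLinearGroup.toGL]
      try rfl
    · simp only [Submonoid.coe_mul, levi_coe, qEl_coe, fromBlocks_multiply, toBlocks_fromBlocks₂₂,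
        toBlocks_fromBlocks₁₂, mul_one, zero_mul, add_zero, zero_add, transpose_transpose]
      rw [← mul_assoc, ← Units.val_mul, inv_mul_cancel, Units.val_one, one_mul]
  exact congrArg (fun u : uniS m F => (u : SpG m F)) key

theorem centre_of_uniS {x : SpG m F} (hx : x ∈ uniS m F) (hc : ∀ u ∈ uniS m F, Commute x u)
    (hm : 2 ≤ m) :
    ∃ (a c : F) (h : (Matrix.single (⟨0, by omega⟩ : Fin m) (⟨0, by omega⟩ : Fin m) a +
        symJ (⟨0, by omega⟩ : Fin m) (⟨1, by omega⟩ : Fin m) c).IsSymm),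
      x = qEl _ h := by
  set z : Fin m := ⟨0, by omega⟩
  set o : Fin m := ⟨1, by omega⟩
  have hzo : z ≠ o := by simp [z, o, Fin.ext_iff]
  have h0 : ∀ i : Fin m, z ≤ i := fun i => by simp [z, Fin.le_def]
  obtain ⟨M, hxe, hMsymm, hM⟩ := central_blocks hx hc h0
  have hsym : ∀ i j, M i j = M j i := fun i j => congrFun (congrFun hMsymm j) i
  have hrow : ∀ l : Fin m, 2 ≤ (l : ℕ) → ∀ j, M l j = 0 := by
    intro l hl j
    rcases eq_or_ne j z with rfl | hj
    · exact (hM o l (by simp [o, Fin.lt_def]; omega)).1 _ hzo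
    · exact (hM z l (by simp [z, Fin.lt_def]; omega)).1 j hj
  have hoo : M o o = 0 := (hM z o (by simp [z, o, Fin.lt_def])).1 o hzo.symm
  refine ⟨M z z, M z o, (single_isSymm _ _).add (symJ_isSymm _ _ _), Subtype.ext ?_⟩
  rw [hxe, qEl_coe]
  congr 1
  ext i j
  have hcases : ∀ l : Fin m, l = z ∨ l = o ∨ 2 ≤ (l : ℕ) := fun l => by
    simp only [z, o, Fin.ext_iff]; omega
  rcases hcases i with rfl | rfl | hi
  · rcases hcases j with rfl | rfl | hj
    · simp [symJ, hzo, hzo.symm]
    · simp [symJ, hzo, hzo.symm]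
    · rw [hsym, hrow j hj]
      have h1 : z ≠ j := fun e => by rw [← e] at hj; simp [z] at hj
      have h2 : o ≠ j := fun e => by rw [← e] at hj; simp [o] at hj
      simp [symJ, h1, h2]
  · rcases hcases j with rfl | rfl | hj
    · rw [hsym]; simp [symJ, hzo, hzo.symm]
    · rw [hoo]; simp [symJ, hzo]
    · rw [hsym, hrow j hj]
      have h1 : z ≠ j := fun e => by rw [← e] at hj; simp [z] at hj
      have h2 : o ≠ j := fun e => by rw [← e] at hj; simp [o] at hj
      simp [symJ, h1, h2]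
  · rw [hrow i hi]
    have h1 : z ≠ i := fun e => by rw [← e] at hi; simp [z] at hi
    have h2 : o ≠ i := fun e => by rw [← e] at hi; simp [o] at hi
    simp [symJ, h1, h2]

theorem trGL_mem {i j : Fin m} (hij : i < j) (d : F) : levi (trGL hij.ne d) ∈ uniS m F := by
  refine ⟨?_, ?_⟩ <;> rw [levi_coe]
  · exact toBlocks_fromBlocks₂₁ _ _ _ _
  · rw [toBlocks_fromBlocks₁₁]
    intro r s hsr
    show (CfsgLib.FusionPSL.xEl hij.ne d).1 r s = _
    rw [CfsgLib.FusionPSL.xEl_apply, if_neg (c := i = r ∧ j = s), add_zero]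
    rintro ⟨rfl, rfl⟩
    exact absurd hij (not_lt.mpr hsr)

theorem trGL_pow {p : ℕ} [CharP F p] {i j : Fin m} (hij : i ≠ j) (d : F) :
    levi (trGL hij d) ^ p ^ 1 = 1 := by
  rw [pow_one, trGL, ← map_pow, ← map_pow, CfsgLib.FusionPSL.xEl_pow, nsmul_eq_mul,
    CharP.cast_eq_zero, zero_mul, CfsgLib.FusionPSL.xEl_zero, map_one, map_one]

omit [Fintype F] in
theorem congr_single {i j : Fin m} (h : i ≠ j) (d b : F) :
    (trGL h d).1 * Matrix.single j j b * (trGL h d).1ᵀ =
      Matrix.single j j b + symJ i j (d * b) + Matrix.single i i (d * b * d) := by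
  rw [trGL_coe, congr_transvection]
  simp only [Matrix.single_mul_single_same, symJ, mul_comm b d]
  abel

omit [Fintype F] in
theorem congr_diag (t : Fin m → Fˣ) (r s : Fin m) (x : F) :
    (diagGL t).1 * Matrix.single r s x * (diagGL t).1ᵀ = Matrix.single r s ((t r : F) * x * t s) := by
  rw [diagGL_coe, diagonal_transpose]
  ext a b
  simp only [Matrix.mul_diagonal, Matrix.diagonal_mul, Matrix.single_apply]
  by_cases h : r = a ∧ s = b
  · rw [if_pos h, if_pos h, h.1, h.2]
  · rw [if_neg h, if_neg h, mul_zero, zero_mul]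

/-- From a central element, a short root element. -/
theorem exists_short {z o : Fin m} (hz : (z : ℕ) = 0) (ho : (o : ℕ) = 1)
    (hex : m = 2 → 3 ≤ Fintype.card F) (W : AddSubgroup (Matrix (Fin m) (Fin m) F))
    (hW : ∀ (A : GL (Fin m) F) {M : Matrix (Fin m) (Fin m) F}, M ∈ W → A.1 * M * (A.1)ᵀ ∈ W)
    {a c : F} (hc : c ≠ 0) (h : Matrix.single z z a + symJ z o c ∈ W) :
    ∃ (k : Fin m) (c' : F), z < k ∧ c' ≠ 0 ∧ symJ z k c' ∈ W := by
  have hzo : z < o := by rw [Fin.lt_def]; omega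
  rcases Nat.lt_or_ge m 3 with h3 | h3
  · obtain ⟨t, ht⟩ := card_ne_two (hex (by have := o.2; omega))
    refine ⟨o, ((t : F) - 1) * c, hzo, mul_ne_zero (sub_ne_zero.mpr ht) hc, ?_⟩
    have h1 := W.sub_mem (hW (diagGL (Pi.mulSingle o t)) h) h
    convert h1 using 1
    simp only [symJ, mul_add, add_mul, congr_diag, Pi.mulSingle_eq_same,
      Pi.mulSingle_eq_of_ne hzo.ne, Units.val_one, one_mul, mul_one, sub_mul]
    rw [mul_comm c (t : F), sub_eq_add_neg ((t : F) * c), Matrix.single_add, Matrix.single_add,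
      ← Matrix.single_neg, ← Matrix.single_neg]
    abel
  · set k : Fin m := ⟨2, by omega⟩ with hk
    have hzk : z < k := by rw [Fin.lt_def]; show (z : ℕ) < 2; omega
    have hok : o < k := by rw [Fin.lt_def]; show (o : ℕ) < 2; omega
    refine ⟨k, c, hzk, hc, ?_⟩
    have h1 := W.sub_mem (hW (trGL hok.ne' (1 : F)) h) h
    convert h1 using 1
    rw [trGL_coe, congr_transvection]
    simp only [symJ, mul_add, add_mul, Matrix.single_mul_single_same, one_mul, mul_one, ne_eq,
      hzo.ne, hzo.ne', not_false_eq_true, Matrix.single_mul_single_of_ne, add_zero, zero_add,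
      zero_mul]
    abel

theorem all_symm (W : AddSubgroup (Matrix (Fin m) (Fin m) F))
    (hW : ∀ (A : GL (Fin m) F) {M : Matrix (Fin m) (Fin m) F}, M ∈ W → A.1 * M * (A.1)ᵀ ∈ W)
    {i₀ : Fin m} {a₀ : F} (ha₀ : a₀ ≠ 0) (hW₀ : Matrix.single i₀ i₀ a₀ ∈ W) :
    ∀ M : Matrix (Fin m) (Fin m) F, M.IsSymm → M ∈ W := by
  classical
  have hdiagW : ∀ (i : Fin m) (a : F), Matrix.single i i a ∈ W := by
    have hat : ∀ a : F, Matrix.single i₀ i₀ a ∈ W := by
      intro a
      let V : AddSubgroup F :=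
        AddSubgroup.comap (Matrix.singleAddMonoidHom i₀ i₀ : F →+ Matrix (Fin m) (Fin m) F) W
      have hV : V = ⊤ := eq_top_of_sq_closed V ha₀ hW₀ fun x hx t ht => by
        have h1 := hW (diagGL (Pi.mulSingle i₀ (Units.mk0 t ht))) hx
        show Matrix.single i₀ i₀ (t * t * x) ∈ W
        rw [show (Matrix.singleAddMonoidHom i₀ i₀ : F →+ Matrix (Fin m) (Fin m) F) x =
          Matrix.single i₀ i₀ x from rfl, congr_diag, Pi.mulSingle_eq_same, Units.val_mk0] at h1
        rwa [mul_right_comm]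
      exact hV.ge (AddSubgroup.mem_top a)
    intro i a
    by_cases hi : i = i₀
    · rw [hi]; exact hat a
    let P : GL (Fin m) F := ⟨(Equiv.swap i₀ i).permMatrix F, (Equiv.swap i₀ i).permMatrix F,
      by rw [← Matrix.permMatrix_mul, Equiv.swap_mul_self, Matrix.permMatrix_one],
      by rw [← Matrix.permMatrix_mul, Equiv.swap_mul_self, Matrix.permMatrix_one]⟩
    have h1 := hW P (hat a)
    convert h1 using 1
    show _ = (Equiv.swap i₀ i).permMatrix F * _ * ((Equiv.swap i₀ i).permMatrix F)ᵀ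
    rw [Matrix.transpose_permMatrix, Equiv.swap_inv, Equiv.Perm.permMatrix,
      PEquiv.toMatrix_toPEquiv_mul, PEquiv.mul_toMatrix_toPEquiv]
    ext r s
    simp only [Matrix.submatrix_apply, Matrix.single_apply, id, Equiv.symm_swap]
    have e : ∀ r, (i = r) ↔ (i₀ = Equiv.swap i₀ i r) := fun r => by
      constructor
      · rintro rfl; rw [Equiv.swap_apply_right]
      · intro h; rw [eq_comm, Equiv.apply_eq_iff_eq_symm_apply, Equiv.symm_swap, Equiv.swap_apply_left] at h
        exact h.symm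
    simp only [e r, e s]
  have hJW : ∀ i j : Fin m, i ≠ j → ∀ c : F, symJ i j c ∈ W := by
    intro i j hij c
    have h1 := W.sub_mem (W.sub_mem (hW (trGL hij (1 : F)) (hdiagW j c)) (hdiagW j c)) (hdiagW i c)
    convert h1 using 1
    rw [congr_single, one_mul, mul_one]
    abel
  have hsum : ∀ N : Matrix (Fin m) (Fin m) F, N + Nᵀ ∈ W := by
    intro N
    rw [Matrix.matrix_eq_sum_single N]
    simp only [transpose_sum, transpose_single, ← Finset.sum_add_distrib]
    refine W.sum_mem fun i _ => W.sum_mem fun j _ => ?_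
    by_cases hij : i = j
    · subst hij; exact W.add_mem (hdiagW i _) (hdiagW i _)
    · exact hJW i j hij _
  intro M hM
  set N : Matrix (Fin m) (Fin m) F := Matrix.of fun i j => if i < j then M i j else 0 with hN
  have e : M = N + Nᵀ + ∑ i, Matrix.single i i (M i i) := by
    ext r s
    simp only [Matrix.add_apply, transpose_apply, hN, Matrix.of_apply, Matrix.sum_apply,
      Matrix.single_apply]
    rcases lt_trichotomy r s with h | rfl | h
    · have : ∀ c, ¬(c = r ∧ c = s) := fun c e => h.ne (e.1.symm.trans e.2)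
      simp [h, h.not_gt, this]
    · simp
    · have : ∀ c, ¬(c = r ∧ c = s) := fun c e => h.ne' (e.1.symm.trans e.2)
      simp [h, h.not_gt, hM.apply r s, this]
  rw [e]
  exact W.add_mem (hsum N) (W.sum_mem fun i _ => hdiagW i _)

section Quot

variable {p : ℕ} [Fact p.Prime] [CharP F p] {G : Type*} [Group G] [Finite G] {π : SpG m F →* G}

theorem closed_top (hm : 2 ≤ m) (hex : m = 2 → 3 ≤ Fintype.card F)
    (hker' : ∀ z ∈ π.ker, z ∈ Subgroup.center (SpG m F) ∧ (z ^ p = 1 → z = 1)) (S : Sylow p G)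
    (hS : (S : Subgroup G) = (uniS m F).map π) {T : Subgroup G}
    (hT : (groupFusionSystem (S : Subgroup G)).StronglyClosed T) (hTne : T ≠ ⊥) :
    (uniS m F).map π ≤ T := by
  have hUp : IsPGroup p (uniS m F) := isPGroup_uniS
  have hTm : ∀ {x g : SpG m F}, π x ∈ T → g * x * g⁻¹ ∈ uniS m F → π (g * x * g⁻¹) ∈ T := by
    intro x g hx hg
    rw [map_mul, map_mul, map_inv]
    refine CfsgLib.FusionLie.conj_mem hT hx (hS.ge ⟨_, hg, ?_⟩)
    rw [map_mul, map_mul, map_inv]
  let W : AddSubgroup (Matrix (Fin m) (Fin m) F) :=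
    { carrier := {M | ∃ h : M.IsSymm, π (qEl M h) ∈ T}
      zero_mem' := ⟨isSymm_zero, by rw [qEl_zero, map_one]; exact T.one_mem⟩
      add_mem' := by
        rintro M N ⟨h, hM⟩ ⟨h', hN⟩
        exact ⟨h.add h', by rw [← qEl_mul h h', map_mul]; exact T.mul_mem hM hN⟩
      neg_mem' := by
        rintro M ⟨h, hM⟩
        exact ⟨h.neg, by rw [← qEl_inv h, map_inv]; exact T.inv_mem hM⟩ }
  have hW : ∀ (A : GL (Fin m) F) {M : Matrix (Fin m) (Fin m) F}, M ∈ W → A.1 * M * (A.1)ᵀ ∈ W := by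
    rintro A M ⟨h, hM⟩
    refine ⟨isSymm_congr _ h, ?_⟩
    rw [← levi_conj A h]
    exact hTm hM (by rw [levi_conj A h]; exact radS_le ⟨_, _, rfl⟩)
  have hlevi : ∀ {i j : Fin m} (hij : i < j) (c : F), symJ i j c ∈ W →
      π (levi (trGL hij.ne (-c))) ∈ T := by
    intro i j hij c ⟨h, hc⟩
    rw [← flip_conj hij.ne c]
    refine hTm hc ?_
    rw [flip_conj hij.ne c]
    exact trGL_mem hij _
  have hlong : ∃ (i : Fin m) (a : F), a ≠ 0 ∧ Matrix.single i i a ∈ W := by
    obtain ⟨t, htT, ht1, htc⟩ := CfsgLib.FusionLie.exists_central S hT hTne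
    obtain ⟨x, hx, rfl⟩ := hS.le (hT.1 htT)
    have hxc : ∀ u ∈ uniS m F, Commute x u := fun u hu => (mul_inv_eq_iff_eq_mul.mp
      (CfsgLib.FusionLie.conj_eq_of_map_eq hker' hUp (g := x) hu hu
        (by rw [htc (π u) (hS.ge ⟨u, hu, rfl⟩), mul_inv_cancel_right])))
    obtain ⟨a, c, h, rfl⟩ := centre_of_uniS hx hxc hm
    set z : Fin m := ⟨0, by omega⟩
    set o : Fin m := ⟨1, by omega⟩
    have hWm : Matrix.single z z a + symJ z o c ∈ W := ⟨h, htT⟩
    by_cases hc : c = 0
    · refine ⟨z, a, fun ha => ht1 ?_, by simpa [hc, symJ] using hWm⟩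
      have : qEl _ h = (1 : SpG m F) := by
        apply Subtype.ext
        simp [qEl_coe, ha, hc, symJ, fromBlocks_one]
      rw [this, map_one]
    obtain ⟨k, d, hzk, hd, hJ⟩ := exists_short (z := z) (o := o) rfl rfl hex W hW hc hWm
    refine ⟨z, -d * -1 * -d, by simpa using hd, ?_⟩
    -- commutator with a long root element
    set l := levi (trGL hzk.ne (-d)) with hl'
    set q := qEl (Matrix.single k k (-1 : F)) (single_isSymm k (-1)) with hq
    have hlU : l ∈ uniS m F := trGL_mem hzk _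
    have hl : π l ∈ T := hlevi hzk d hJ
    have hqU : q ∈ uniS m F := radS_le ⟨_, _, rfl⟩
    have h1 : π (l * (q * l⁻¹ * q⁻¹)) ∈ T := by
      rw [map_mul]
      exact T.mul_mem hl (hTm (by rw [map_inv]; exact T.inv_mem hl)
        (mul_mem (mul_mem hqU (inv_mem hlU)) (inv_mem hqU)))
    have e : l * (q * l⁻¹ * q⁻¹) = (l * q * l⁻¹) * q⁻¹ := by group
    rw [e, hl', hq, levi_conj, qEl_inv, qEl_mul] at h1
    have h2 : (trGL hzk.ne (-d)).1 * Matrix.single k k (-1) * (trGL hzk.ne (-d)).1ᵀ +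
        -Matrix.single k k (-1) ∈ W := ⟨_, h1⟩
    have h3 := W.sub_mem h2 hJ
    convert h3 using 1
    rw [congr_single, show (-d * -1 : F) = d by ring]
    abel
  obtain ⟨i₀, a₀, ha₀, hW₀⟩ := hlong
  have hallW := all_symm W hW ha₀ hW₀
  rw [Subgroup.map_le_iff_le_comap]
  intro x hx
  obtain ⟨A, M, h, hA, rfl⟩ := uniS_eq hx
  show π _ ∈ T
  rw [map_mul]
  refine T.mul_mem ?_ (hallW M h).choose_spec
  show A ∈ T.comap (π.comp (levi.comp Matrix.SpecialLinearGroup.toGL))
  refine CfsgLib.FusionPSL.uni_le (fun i j hij a => ?_) hA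
  have h1 := hlevi hij (-a) (hallW _ (symJ_isSymm i j _))
  rw [neg_neg] at h1
  exact h1

omit [Finite G] in
theorem dEl_normalizes (s : Fin m → Fˣ) : ∀ u ∈ uniS m F, dEl s * u * (dEl s)⁻¹ ∈ uniS m F := by
  intro u hu
  rw [← map_inv]
  refine ⟨?_, fun i j hji => ?_⟩
  · simp only [Submonoid.coe_mul, dEl_coe]
    rw [← fromBlocks_toBlocks u.1, hu.1, fromBlocks_multiply, fromBlocks_multiply,
      toBlocks_fromBlocks₂₁]
    simp
  · simp only [Submonoid.coe_mul, dEl_coe]
    rw [← fromBlocks_toBlocks u.1, fromBlocks_multiply, fromBlocks_multiply, toBlocks_fromBlocks₁₁]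
    simp only [mul_zero, add_zero, zero_mul, Matrix.mul_diagonal, Matrix.diagonal_mul,
      hu.2 i j hji, Pi.inv_apply, Units.val_inv_eq_inv_val]
    split_ifs with h
    · subst h; field_simp
    · ring

omit [Finite G] in
theorem normalizer_gen (hm : 2 ≤ m) (hker : π.ker = Subgroup.center (SpG m F)) {g : SpG m F}
    (hg : ∀ u ∈ uniS m F, g * u * g⁻¹ ∈ uniS m F) :
    g ∈ Subgroup.closure ((uniS m F : Set (SpG m F)) ∪
      {h : SpG m F | (∀ u ∈ uniS m F, h * u * h⁻¹ ∈ uniS m F) ∧ ∃ R : Subgroup (SpG m F), R ≤ uniS m F ∧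
        (∀ c : SpG m F, (∀ r ∈ R, c * r = r * c) → ∃ z ∈ π.ker, z * c ∈ R) ∧
        h ∈ Subgroup.closure {x : SpG m F | (∃ k : ℕ, x ^ p ^ k = 1) ∧ ∀ r ∈ R, x * r * x⁻¹ ∈ R}}) := by
  set C := Subgroup.closure ((uniS m F : Set (SpG m F)) ∪
    {h : SpG m F | (∀ u ∈ uniS m F, h * u * h⁻¹ ∈ uniS m F) ∧ ∃ R : Subgroup (SpG m F), R ≤ uniS m F ∧
      (∀ c : SpG m F, (∀ r ∈ R, c * r = r * c) → ∃ z ∈ π.ker, z * c ∈ R) ∧
      h ∈ Subgroup.closure {x : SpG m F | (∃ k : ℕ, x ^ p ^ k = 1) ∧ ∀ r ∈ R, x * r * x⁻¹ ∈ R}})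
  set z : Fin m := ⟨0, by omega⟩ with hz
  set o : Fin m := ⟨1, by omega⟩ with ho
  have hzo : z < o := by simp [z, o, Fin.lt_def]
  have h0 : ∀ i : Fin m, z ≤ i := fun i => by simp [z, Fin.le_def]
  have hpel : ∀ (v : Vec m F) (c : F), tmat v c ^ p ^ 1 = 1 := fun v c => by
    rw [pow_one, tmat_pow, nsmul_eq_mul, CharP.cast_eq_zero, zero_mul, tmat_zero]
  have hlong : ∀ i : Fin m, i ≠ z → ∀ a : Fˣ, dEl (Pi.mulSingle i a) ∈ C := by
    intro i hi a
    refine Subgroup.subset_closure (Or.inr ⟨dEl_normalizes _, radP z, radP_le h0,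
      fun c hc => by rw [hker]; exact radP_centralizer hc, ?_⟩)
    rw [← dEl_single]
    have hm' : ∀ (v : Vec m F) (b : F), sympForm m F (ee z) v = 0 →
        tmat v b ∈ Subgroup.closure {x : SpG m F | (∃ k : ℕ, x ^ p ^ k = 1) ∧
          ∀ r ∈ radP z, x * r * x⁻¹ ∈ radP z} := fun v b hv =>
      Subgroup.subset_closure ⟨⟨1, hpel v b⟩, radP_conj (by rw [tmat_mulVec, hv]; simp)⟩
    have he : sympForm m F (ee z : Vec m F) (ee i) = 0 := by simp [form_ee_right, ee]
    have hf : sympForm m F (ee z : Vec m F) (ff i) = 0 := by simp [form_ff_right, ee, hi]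
    exact mul_mem (mul_mem (mul_mem (hm' _ _ he) (hm' _ _ hf)) (hm' _ _ he))
      (mul_mem (mul_mem (hm' _ _ he) (hm' _ _ hf)) (hm' _ _ he))
  have hshort : ∀ a : Fˣ, dEl (Pi.mulSingle z a / Pi.mulSingle o a) ∈ C := by
    intro a
    refine Subgroup.subset_closure (Or.inr ⟨dEl_normalizes _, radS m F, radS_le,
      fun c hc => by rw [hker]; exact radS_centralizer hm hc, ?_⟩)
    have hx : ∀ {r s : Fin m} (hrs : r ≠ s) (b : F), levi (trGL hrs b) ∈ Subgroup.closure
        {x : SpG m F | (∃ k : ℕ, x ^ p ^ k = 1) ∧ ∀ r ∈ radS m F, x * r * x⁻¹ ∈ radS m F} := by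
      intro r s hrs b
      refine Subgroup.subset_closure ⟨⟨1, trGL_pow hrs b⟩, ?_⟩
      rintro _ ⟨M, h, rfl⟩
      exact ⟨_, _, levi_conj _ h⟩
    have key : Matrix.SpecialLinearGroup.toGL (CfsgLib.FusionPSL.torusEl hzo.ne (a : F)) =
        diagGL (Pi.mulSingle z a / Pi.mulSingle o a) := by
      apply Units.ext
      ext r s
      rw [diagGL_coe]
      show (CfsgLib.FusionPSL.torusEl hzo.ne (a : F)).1 r s = _
      rw [CfsgLib.FusionPSL.torusEl_apply hzo.ne a.ne_zero, Matrix.diagonal_apply]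
      by_cases hrs : r = s
      · subst hrs
        by_cases h1 : r = z
        · subst h1; simp [hzo.ne, div_eq_mul_inv]
        · by_cases h2 : r = o
          · subst h2; simp [hzo.ne', div_eq_mul_inv]
          · simp [h1, h2, div_eq_mul_inv]
      · simp [hrs]
    show levi (diagGL _) ∈ _
    rw [← key, CfsgLib.FusionPSL.torusEl]
    simp only [map_mul]
    exact mul_mem (mul_mem (mul_mem (hx _ _) (hx _ _)) (hx _ _))
      (mul_mem (mul_mem (hx _ _) (hx _ _)) (hx _ _))
  have hsingle : ∀ (i : Fin m) (a : Fˣ), dEl (Pi.mulSingle i a) ∈ C := by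
    intro i a
    by_cases hi : i = z
    · subst hi
      have := C.mul_mem (hshort a) (hlong o hzo.ne' a)
      rwa [← map_mul, div_mul_cancel] at this
    · exact hlong i hi a
  obtain ⟨h21, h11⟩ := upper_of_normalizes hg
  have hinv : (g⁻¹ : SpG m F).1.toBlocks₁₁ * g.1.toBlocks₁₁ = 1 := by
    have hcomm : (g⁻¹ * g : SpG m F).1.toBlocks₁₁ = 1 := by
      rw [inv_mul_cancel, Submonoid.coe_one, ← fromBlocks_one, toBlocks_fromBlocks₁₁]
    rw [← hcomm, Submonoid.coe_mul]
    conv_rhs => rw [← fromBlocks_toBlocks (g⁻¹ : SpG m F).1, ← fromBlocks_toBlocks g.1,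
      fromBlocks_multiply, toBlocks_fromBlocks₁₁, h21, mul_zero, add_zero]
  have hdne : ∀ i, g.1.toBlocks₁₁ i i ≠ 0 := fun i hi => by
    have h1 := congrArg Matrix.det hinv
    rw [Matrix.det_mul, Matrix.det_one, Matrix.det_of_isUpperTriangular
      (M := g.1.toBlocks₁₁) (fun r s h => h11 r s h),
      Finset.prod_eq_zero (f := fun r => g.1.toBlocks₁₁ r r) (Finset.mem_univ i) hi, mul_zero] at h1
    exact zero_ne_one h1
  set t : Fin m → Fˣ := fun i => Units.mk0 _ (hdne i) with ht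
  have hdC : dEl t ∈ C := by
    classical
    rw [← Finset.univ_prod_mulSingle t]
    have : ∀ s : Finset (Fin m), dEl (∏ i ∈ s, Pi.mulSingle i (t i)) ∈ C := by
      intro s
      induction s using Finset.induction_on with
      | empty => rw [Finset.prod_empty, map_one]; exact C.one_mem
      | insert i s hi ih => rw [Finset.prod_insert hi, map_mul]; exact C.mul_mem (hsingle i _) ih
    exact this _
  have hu : (dEl t)⁻¹ * g ∈ uniS m F := by
    rw [← map_inv]
    refine ⟨?_, fun i j hji => ?_⟩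
    · simp only [Submonoid.coe_mul, dEl_coe]
      rw [← fromBlocks_toBlocks g.1, h21, fromBlocks_multiply, toBlocks_fromBlocks₂₁]
      simp
    · simp only [Submonoid.coe_mul, dEl_coe]
      rw [← fromBlocks_toBlocks g.1, fromBlocks_multiply, toBlocks_fromBlocks₁₁, zero_mul, add_zero,
        Matrix.diagonal_mul, Pi.inv_apply, ht, Units.val_inv_eq_inv_val, Units.val_mk0]
      split_ifs with h
      · subst h; exact inv_mul_cancel₀ (hdne i)
      · rw [h11 i j (lt_of_le_of_ne hji (Ne.symm h)), mul_zero]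
  have := C.mul_mem hdC (Subgroup.subset_closure (Or.inl hu))
  rwa [mul_inv_cancel_left] at this

theorem isSimple (hm : 2 ≤ m)
    (hex : m = 2 → 3 ≤ Fintype.card F) (hπ : Function.Surjective π)
    (hker : π.ker = Subgroup.center (SpG m F))
    (S : Sylow p G) (hS : (S : Subgroup G) = (uniS m F).map π) :
    (groupFusionSystem (S : Subgroup G)).IsSimple p := by
  have hp : p.Prime := Fact.out
  have hker' : ∀ z ∈ π.ker, z ∈ Subgroup.center (SpG m F) ∧ (z ^ p = 1 → z = 1) := by
    intro z hz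
    rw [hker] at hz
    refine ⟨hz, fun hzp => Subtype.ext ?_⟩
    rcases mem_center_iff.mp hz with h | h
    · exact h
    · rw [Submonoid.coe_one, h]
      rcases hp.eq_two_or_odd' with rfl | hodd
      · have h2 : (2 : F) = 0 := by simpa using CharP.cast_eq_zero F 2
        ext i j
        rw [Matrix.neg_apply]
        linear_combination -((1 : Mat m F) i j) * h2
      · have h' := congrArg Subtype.val hzp
        rwa [SubmonoidClass.coe_pow, h, hodd.neg_one_pow, Submonoid.coe_one] at h'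
  set z : Fin m := ⟨0, by omega⟩ with hz
  have hne1 : π (tmat (ee z : Vec m F) 1) ≠ 1 := fun h => by
    have h1 : tmat (ee z : Vec m F) (1 : F) = 1 :=
      CfsgLib.FusionLie.eq_of_map_eq hker' (k := 1) (l := 0)
        (by rw [pow_one, tmat_pow, nsmul_eq_mul, CharP.cast_eq_zero, zero_mul, tmat_zero])
        (one_pow _) (by rw [h, map_one])
    have h2 := congrArg (fun M : SpG m F => (M.1 *ᵥ (ff z : Vec m F)) (.inl z)) h1
    simp only [tmat_mulVec, Submonoid.coe_one, one_mulVec] at h2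
    simp [form_ee_right, ee, ff] at h2
  refine CfsgLib.FusionLie.isSimple_of_lift hπ hker' _ isPGroup_uniS S hS (fun h => hne1 ?_)
    (fun T hT hTne => closed_top hm hex hker' S hS hT hTne) (fun g hg => normalizer_gen hm hker hg)
  have := hS.ge ⟨_, tmat_ee_mem z 1, rfl⟩
  rwa [h, Subgroup.mem_bot] at this

end Quot

end CfsgLib.FusionPSp
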