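import Cfsg.Agent.Lib.FusionNormal.Alperin
import Cfsg.Agent.Lib.PLocal.Replacement

/-!
# Abelian subgroups of largest order inside a finite subgroup

`abMax W` is the largest order of an abelian subgroup of `W` and `thJ W` the subgroup they generate.
-/

namespace CfsgLib.Fusion

open Cfsg Cfsg.FusionSystem CfsgLib.FusionNormal

variable {Ω : Type*} [Group Ω] {W V A : Subgroup Ω}

/-- The largest order of an abelian subgroup. -/
noncomputable def abMax (W : Subgroup Ω) : ℕ :=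
  sSup ((fun A : Subgroup Ω => Nat.card A) '' {A | A ≤ W ∧ ∀ a ∈ A, ∀ b ∈ A, a * b = b * a})

/-- An abelian subgroup of largest order. -/
def MaxAb (W A : Subgroup Ω) : Prop :=
  A ≤ W ∧ (∀ a ∈ A, ∀ b ∈ A, a * b = b * a) ∧ Nat.card A = abMax W

/-- The Thompson subgroup for abelian subgroups. -/
def thJ (W : Subgroup Ω) : Subgroup Ω := sSup {A | MaxAb W A}

theorem thJ_le : thJ W ≤ W := sSup_le fun _ hA => hA.1

theorem MaxAb.le_thJ (hA : MaxAb W A) : A ≤ thJ W := le_sSup hA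

theorem le_abMax [Finite W] (hA : A ≤ W) (hc : ∀ a ∈ A, ∀ b ∈ A, a * b = b * a) : Nat.card A ≤ abMax W := by
  refine le_csSup ⟨Nat.card W, ?_⟩ ⟨A, ⟨hA, hc⟩, rfl⟩
  rintro _ ⟨B, ⟨hB, -⟩, rfl⟩
  exact Subgroup.card_le_of_le hB

theorem exists_maxAb [Finite W] : ∃ A, MaxAb W A := by
  have hne : ((fun A : Subgroup Ω => Nat.card A) '' {A | A ≤ W ∧ ∀ a ∈ A, ∀ b ∈ A, a * b = b * a}).Nonempty :=
    ⟨_, ⊥, ⟨bot_le, fun a ha b hb => by simp [Subgroup.mem_bot.mp ha, Subgroup.mem_bot.mp hb]⟩, rfl⟩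
  have hb : BddAbove ((fun A : Subgroup Ω => Nat.card A) '' {A | A ≤ W ∧ ∀ a ∈ A, ∀ b ∈ A, a * b = b * a}) :=
    ⟨Nat.card W, by rintro _ ⟨B, ⟨hB, -⟩, rfl⟩; exact Subgroup.card_le_of_le hB⟩
  obtain ⟨A, ⟨hA, hc⟩, he⟩ := Nat.sSup_mem hne hb
  exact ⟨A, hA, hc, he⟩

/-- Adjoining a commuting element to an abelian subgroup. -/
theorem comm_sup_zpowers (hc : ∀ a ∈ A, ∀ b ∈ A, a * b = b * a) {x : Ω} (hx : ∀ a ∈ A, a * x = x * a) :
    ∀ a ∈ A ⊔ Subgroup.zpowers x, ∀ b ∈ A ⊔ Subgroup.zpowers x, a * b = b * a := by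
  have h1 : A ⊔ Subgroup.zpowers x ≤ Subgroup.centralizer (A : Set Ω) :=
    sup_le (fun a ha b hb => hc b hb a ha) (Subgroup.zpowers_le.mpr fun a ha => hx a ha)
  have h2 : A ⊔ Subgroup.zpowers x ≤ Subgroup.centralizer ((A ⊔ Subgroup.zpowers x : Subgroup Ω) : Set Ω) := by
    refine sup_le (Subgroup.le_centralizer_iff.mp h1) (Subgroup.zpowers_le.mpr ?_)
    have h3 : A ⊔ Subgroup.zpowers x ≤ Subgroup.centralizer ({x} : Set Ω) :=
      sup_le (fun a ha => Subgroup.mem_centralizer_singleton_iff.mpr (hx a ha))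
        (Subgroup.zpowers_le.mpr (Subgroup.mem_centralizer_singleton_iff.mpr rfl))
    exact fun a ha => Subgroup.mem_centralizer_singleton_iff.mp (h3 ha)
  exact fun a ha b hb => h2 hb a ha

/-- An element of `W` centralizing a member lies in it. -/
theorem MaxAb.mem_of_centralizes [Finite W] (hA : MaxAb W A) {x : Ω} (hx : x ∈ W)
    (hc : ∀ a ∈ A, a * x = x * a) : x ∈ A := by
  have hle : A ⊔ Subgroup.zpowers x ≤ W := sup_le hA.1 (Subgroup.zpowers_le.mpr hx)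
  have h : Nat.card (A ⊔ Subgroup.zpowers x : Subgroup Ω) ≤ Nat.card A :=
    hA.2.2.symm ▸ le_abMax hle (comm_sup_zpowers hA.2.1 hc)
  haveI : Finite ↥(A ⊔ Subgroup.zpowers x) :=
    Finite.of_injective (Subgroup.inclusion hle) (Subgroup.inclusion_injective hle)
  exact (Subgroup.eq_of_le_of_card_ge le_sup_left h).ge (Subgroup.mem_sup_right (Subgroup.mem_zpowers x))

theorem centralizerIn_thJ_le [Finite W] : centralizerIn W (thJ W) ≤ thJ W := fun x hx => by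
  obtain ⟨A, hA⟩ := exists_maxAb (W := W)
  exact hA.le_thJ (hA.mem_of_centralizes hx.1 fun a ha =>
    Subgroup.mem_centralizer_iff.mp hx.2 a (hA.le_thJ ha))

theorem abMax_mono [Finite V] (h : W ≤ V) : abMax W ≤ abMax V := by
  haveI : Finite W := Finite.of_injective (Subgroup.inclusion h) (Subgroup.inclusion_injective h)
  obtain ⟨A, hA, hc, he⟩ := exists_maxAb (W := W)
  exact he ▸ le_abMax (hA.trans h) hc

/-- An element outside `W` centralizing `thJ W` makes the abelian subgroups larger. -/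
theorem abMax_lt_of_centralizes [Finite V] (h : W ≤ V) {g : Ω} (hg : g ∈ V) (hgW : g ∉ thJ W)
    (hc : ∀ a ∈ thJ W, a * g = g * a) : abMax W < abMax V := by
  haveI : Finite W := Finite.of_injective (Subgroup.inclusion h) (Subgroup.inclusion_injective h)
  obtain ⟨A, hA⟩ := exists_maxAb (W := W)
  have hle : A ⊔ Subgroup.zpowers g ≤ V := sup_le (hA.1.trans h) (Subgroup.zpowers_le.mpr hg)
  haveI : Finite ↥(A ⊔ Subgroup.zpowers g) :=
    Finite.of_injective (Subgroup.inclusion hle) (Subgroup.inclusion_injective hle)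
  refine hA.2.2 ▸ lt_of_lt_of_le (lt_of_le_of_ne (Subgroup.card_le_of_le le_sup_left) fun he => hgW ?_)
    (le_abMax hle (comm_sup_zpowers hA.2.1 fun a ha => hc a (hA.le_thJ ha)))
  exact hA.le_thJ ((Subgroup.eq_of_le_of_card_ge (le_sup_left : A ≤ A ⊔ Subgroup.zpowers g) he.ge).ge
    (Subgroup.mem_sup_right (Subgroup.mem_zpowers g)))

theorem maxAb_iff_of_le [Finite V] (h : W ≤ V) (hJ : thJ V ≤ W) : MaxAb W A ↔ MaxAb V A := by
  haveI : Finite W := Finite.of_injective (Subgroup.inclusion h) (Subgroup.inclusion_injective h)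
  obtain ⟨A₀, hA₀⟩ := exists_maxAb (W := V)
  have he : abMax W = abMax V := le_antisymm (abMax_mono h)
    (hA₀.2.2 ▸ le_abMax (hA₀.le_thJ.trans hJ) hA₀.2.1)
  exact ⟨fun hA => ⟨hA.1.trans h, hA.2.1, he ▸ hA.2.2⟩, fun hA => ⟨hA.le_thJ.trans hJ, hA.2.1, he.symm ▸ hA.2.2⟩⟩

theorem thJ_eq_of_le [Finite V] (h : W ≤ V) (hJ : thJ V ≤ W) : thJ W = thJ V := by
  simp only [thJ, maxAb_iff_of_le h hJ]

theorem abMax_thJ [Finite W] : abMax (thJ W) = abMax W := by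
  obtain ⟨A, hA⟩ := exists_maxAb (W := W)
  exact (((maxAb_iff_of_le thJ_le le_rfl).mpr hA).2.2).symm.trans hA.2.2

variable {S : Subgroup Ω} {F : FusionSystem S} [Finite S] {f : Ω → Ω}

theorem exists_maxAb_image (hf : MapFn F W f) (hV : V ≤ S) (hm : ∀ x ∈ W, f x ∈ V) (hA : A ≤ W)
    (hc : ∀ a ∈ A, ∀ b ∈ A, a * b = b * a) :
    ∃ B : Subgroup Ω, f '' A = (B : Set Ω) ∧ B ≤ V ∧ Nat.card B = Nat.card A ∧
      ∀ a ∈ B, ∀ b ∈ B, a * b = b * a := by
  obtain ⟨B, -, hB⟩ := (hf.mono hA).exists_image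
  refine ⟨B, hB, fun y hy => ?_, (hf.mono hA).card_image hB, fun a ha b hb => ?_⟩
  · obtain ⟨x, hx, rfl⟩ := exists_of_image hB hy; exact hm x (hA hx)
  · obtain ⟨x, hx, rfl⟩ := exists_of_image hB ha
    obtain ⟨z, hz, rfl⟩ := exists_of_image hB hb
    rw [← hf.map_mul (hA hx) (hA hz), ← hf.map_mul (hA hz) (hA hx), hc x hx z hz]

theorem abMax_le_of_map (hf : MapFn F W f) (hV : V ≤ S) (hm : ∀ x ∈ W, f x ∈ V) : abMax W ≤ abMax V := by
  haveI := Fusion.finite_of_le hf.le_S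
  haveI := Fusion.finite_of_le hV
  obtain ⟨A, hA, hc, he⟩ := exists_maxAb (W := W)
  obtain ⟨B, -, hB, hcard, hBc⟩ := exists_maxAb_image hf hV hm hA hc
  exact he ▸ hcard ▸ le_abMax hB hBc

theorem abMax_eq_of_image (hf : MapFn F W f) (hr : f '' W = (V : Set Ω)) : abMax V = abMax W := by
  obtain ⟨g, hg, hgr, -, -⟩ := hf.exists_inv hr
  have hV : V ≤ S := fun y hy => by obtain ⟨x, hx, rfl⟩ := exists_of_image hr hy; exact hf.mem_S hx
  exact le_antisymm (abMax_le_of_map hg hf.le_S fun y hy => mem_of_image hgr hy)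
    (abMax_le_of_map hf hV fun x hx => mem_of_image hr hx)

theorem image_thJ (hf : MapFn F W f) (hr : f '' W = (V : Set Ω)) : f '' thJ W = (thJ V : Set Ω) := by
  have hV : V ≤ S := fun y hy => by obtain ⟨x, hx, rfl⟩ := exists_of_image hr hy; exact hf.mem_S hx
  have key : ∀ {W V : Subgroup Ω} {f : Ω → Ω}, MapFn F W f → f '' W = (V : Set Ω) → V ≤ S →
      ∀ x ∈ thJ W, f x ∈ thJ V := by
    intro W V f hf hr hV
    obtain ⟨φ, hφ, he⟩ := id hf
    have hle : thJ W ≤ ((thJ V).comap φ).map W.subtype := by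
      refine sSup_le fun A hA a ha => ?_
      obtain ⟨B, hB, hBV, hcard, hBc⟩ := exists_maxAb_image hf hV (fun x hx => mem_of_image hr hx) hA.1 hA.2.1
      refine ⟨⟨a, hA.1 ha⟩, ?_, rfl⟩
      show φ _ ∈ thJ V
      rw [he]
      exact MaxAb.le_thJ ⟨hBV, hBc, by rw [hcard, hA.2.2, abMax_eq_of_image hf hr]⟩ (mem_of_image hB ha)
    intro x hx
    obtain ⟨z, hz, rfl⟩ := hle hx
    show f (z : Ω) ∈ thJ V
    rw [← he]; exact hz
  obtain ⟨g, hg, hgr, hg₁, hg₂⟩ := hf.exists_inv hr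
  ext y
  constructor
  · rintro ⟨x, hx, rfl⟩; exact key hf hr hV x hx
  · intro hy
    exact ⟨g y, key hg hgr hf.le_S y hy, hg₂ y (thJ_le hy)⟩

omit [Finite S] in
/-- If `J(M) ⊄ Q` then an element of `M` outside `Q` acts quadratically on `Z(Q)`. -/
theorem exists_quadratic {M Q : Subgroup Ω} [Finite M] {p : ℕ} [Fact p.Prime] (hM : IsPGroup p M)
    (hp2 : p ≠ 2) (hQM : Q ≤ M) (hn : M ≤ Subgroup.normalizer (Q : Set Ω)) (hJ : ¬ thJ M ≤ Q) :
    ∃ t ∈ M, t ∉ Q ∧ ∀ z ∈ Q, (∀ q ∈ Q, q * z = z * q) →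
      t * (t * z * t⁻¹ * z⁻¹) * t⁻¹ = t * z * t⁻¹ * z⁻¹ := by
  obtain ⟨A, hA, hAQ⟩ : ∃ A, MaxAb M A ∧ ¬ A ≤ Q := by
    by_contra! h
    exact hJ (sSup_le h)
  by_cases hall : ∀ B, MaxAb M B → Q ⊓ Subgroup.centralizer (Q : Set Ω) ≤ B
  · obtain ⟨t, ht, htQ⟩ := SetLike.not_le_iff_exists.mp hAQ
    refine ⟨t, hA.1 ht, htQ, fun z hz hc => ?_⟩
    rw [show t * z = z * t from hA.2.1 t ht z (hall A hA ⟨hz, fun q hq => hc q hq⟩)]
    group
  push Not at hall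
  obtain ⟨B, hB, hZB⟩ := hall
  set Z := (Q ⊓ Subgroup.centralizer (Q : Set Ω)).subgroupOf M with hZ
  have hBmax : PLocal.IsMaxElemIn 0 (⊤ : Subgroup M) (B.subgroupOf M) := by
    refine ⟨le_top, PLocal.elemAb_zero_iff.mpr (PLocal.isMulCommutative_of_forall fun a ha b hb =>
      Subtype.ext (hB.2.1 _ ha _ hb)), fun D _ hD => ?_⟩
    rw [Nat.card_congr (Subgroup.subgroupOfEquivOfLe hB.1).toEquiv, hB.2.2,
      ← Subgroup.card_map_of_injective (K := D) M.subtype_injective]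
    refine le_abMax (Subgroup.map_subtype_le D) ?_
    rintro _ ⟨a, ha, rfl⟩ _ ⟨b, hb, rfl⟩
    exact congrArg Subtype.val (PLocal.elemAb_commute hD ha hb)
  haveI hZn : Z.Normal := ⟨fun z hz g => by
    obtain ⟨h1, h2⟩ := hz
    refine ⟨conj_mem_of_normalizer (hn g.2) h1, fun q hq => ?_⟩
    have hq' : (g : Ω)⁻¹ * q * (g : Ω) ∈ Q := (Subgroup.mem_normalizer_iff''.mp (hn g.2) q).mp hq
    have h3 : ((g : Ω)⁻¹ * q * g) * (z : Ω) = (z : Ω) * ((g : Ω)⁻¹ * q * g) := h2 _ hq'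
    show q * ((g : Ω) * (z : Ω) * (g : Ω)⁻¹) = (g : Ω) * (z : Ω) * (g : Ω)⁻¹ * q
    calc q * ((g : Ω) * (z : Ω) * (g : Ω)⁻¹) = g * ((g : Ω)⁻¹ * q * g * (z : Ω)) * (g : Ω)⁻¹ := by group
      _ = _ := by rw [h3]; group⟩
  have hZab : Cfsg.IsElementaryAbelian 0 Z := PLocal.elemAb_zero_iff.mpr
    (PLocal.isMulCommutative_of_forall fun a ha b hb => Subtype.ext (hb.2 _ ha.1))
  have hZnorm : (⊤ : Subgroup M) ≤ Subgroup.normalizer (Z : Set M) := by
    rw [Subgroup.normalizer_eq_top]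
  obtain ⟨A', hA', -, hZA', hnZ⟩ := PLocal.exists_maxElemIn_normalized (p := p) (hM.to_subgroup ⊤) le_rfl
    Subgroup.le_normalizer le_top hZnorm hBmax
    ((Subgroup.commutator_eq_bot_iff_le_centralizer.mpr fun a ha b hb =>
      PLocal.elemAb_commute hZab hb ha).le.trans bot_le)
    (fun h => absurd h hp2) (Or.inl rfl) (fun h => hZB fun z hz => by
      exact h (show (⟨z, hQM hz.1⟩ : M) ∈ Z from hz))
  have hA'Q : ¬ A' ≤ Q.subgroupOf M := fun hle => hZA' fun z hz =>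
    hA'.mem_of_centralizes (Subgroup.mem_top z) (pow_zero z) fun a ha => Subtype.ext (hz.2 _ (hle ha))
  obtain ⟨g, hg, hgQ⟩ := SetLike.not_le_iff_exists.mp hA'Q
  refine ⟨g, g.2, hgQ, fun z hz hc => ?_⟩
  have hzZ : (⟨z, hQM hz⟩ : M) ∈ Z := ⟨hz, fun q hq => hc q hq⟩
  have he : g * (⟨z, hQM hz⟩ * g⁻¹ * (⟨z, hQM hz⟩ : M)⁻¹) ∈ A' :=
    A'.mul_mem hg (conj_mem_of_normalizer (hnZ hzZ) (A'.inv_mem hg))
  have h := PLocal.elemAb_commute hA'.elem hg he
  have h' : (g : Ω) * ((g : Ω) * (z * (g : Ω)⁻¹ * z⁻¹)) = (g : Ω) * (z * (g : Ω)⁻¹ * z⁻¹) * (g : Ω) :=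
    congrArg Subtype.val h
  rw [show (g : Ω) * z * (g : Ω)⁻¹ * z⁻¹ = (g : Ω) * (z * (g : Ω)⁻¹ * z⁻¹) by group, h']
  group

end CfsgLib.Fusion
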