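import Cfsg.Agent.Lib.Fusion.BaseFix
import Cfsg.Agent.Lib.Fusion.QuadraticFix
import Cfsg.Agent.Lib.Fusion.ThompsonKey
import Cfsg.Agent.Lib.Fusion.LocalFree

/-!
# `C_S(T)` modulo `T` for a normal subsystem with small centralizer

`p` odd: every coset of `T` in `T C_S(T)` contains an element fixed by all maps of `E`.
-/

namespace CfsgLib.Fusion

open Cfsg Cfsg.FusionSystem CfsgLib.FusionNormal
open scoped commutatorElement

variable {Ω : Type*} [Group Ω] {S T : Subgroup Ω} {F : FusionSystem S} {E : FusionSystem T}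
variable {P Q R W : Subgroup Ω} {y : Ω} {p : ℕ}

/-- The first component of the induction key. -/
noncomputable def keyA (N : ℕ) (W : Subgroup Ω) : ℕ := abMax W * N + Nat.card W

/-- The induction key of a subgroup of `T`. -/
noncomputable def goodKey (T Q : Subgroup Ω) : ℕ :=
  keyA (Nat.card T + 1) (normalizerIn T Q) * (Nat.card T + 1) + Nat.card Q

theorem abMax_le_card [Finite W] : abMax W ≤ Nat.card W := by
  obtain ⟨A, hA⟩ := exists_maxAb (W := W)
  exact hA.2.2 ▸ Subgroup.card_le_of_le hA.1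

theorem keyA_mono [Finite Q] {N : ℕ} (h : P ≤ Q) : keyA N P ≤ keyA N Q :=
  Nat.add_le_add (Nat.mul_le_mul_right _ (abMax_mono h)) (Subgroup.card_le_of_le h)

theorem keyA_lt_of_lt [Finite Q] {N : ℕ} (h : P < Q) : keyA N P < keyA N Q :=
  Nat.add_lt_add_of_le_of_lt (Nat.mul_le_mul_right _ (abMax_mono h.le)) (card_lt_card le_rfl h)

theorem keyA_lt_of_abMax [Finite T] (hP : P ≤ T) (h : abMax P < abMax Q) :
    keyA (Nat.card T + 1) P < keyA (Nat.card T + 1) Q := by
  have h1 : Nat.card P ≤ Nat.card T := Subgroup.card_le_of_le hP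
  have h2 : (abMax P + 1) * (Nat.card T + 1) ≤ abMax Q * (Nat.card T + 1) := Nat.mul_le_mul_right _ h
  rw [Nat.succ_mul] at h2
  unfold keyA
  omega

theorem goodKey_lt [Finite T] (hQ : Q ≤ T)
    (h : keyA (Nat.card T + 1) (normalizerIn T Q) < keyA (Nat.card T + 1) (normalizerIn T R) ∨
      keyA (Nat.card T + 1) (normalizerIn T Q) ≤ keyA (Nat.card T + 1) (normalizerIn T R) ∧
        Nat.card Q < Nat.card R) : goodKey T Q < goodKey T R := by
  unfold goodKey
  have h1 : Nat.card Q ≤ Nat.card T := Subgroup.card_le_of_le hQ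
  rcases h with h | ⟨h, h'⟩
  · have h2 : (keyA (Nat.card T + 1) (normalizerIn T Q) + 1) * (Nat.card T + 1) ≤
        keyA (Nat.card T + 1) (normalizerIn T R) * (Nat.card T + 1) := Nat.mul_le_mul_right _ h
    rw [Nat.succ_mul] at h2
    omega
  · have := Nat.mul_le_mul_right (Nat.card T + 1) h
    omega

theorem keyA_le_of_map [Finite T] {N : ℕ} {f : Ω → Ω} (hf : MapFn E P f) (hQ : Q ≤ T)
    (hm : ∀ x ∈ P, f x ∈ Q) : keyA N P ≤ keyA N Q := by
  refine Nat.add_le_add (Nat.mul_le_mul_right _ (abMax_le_of_map hf hQ hm)) ?_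
  obtain ⟨φ, hφ, he⟩ := hf
  exact card_le_of_map hφ hQ fun x => by rw [he]; exact hm x x.2

/-- Alperin's theorem for a condition closed upwards. -/
theorem extFix_of_cond [Finite T] [Fact p.Prime] (hT : IsPGroup p T) (hEs : E.IsSaturated p)
    (cond : Subgroup Ω → Prop) (hup : ∀ P R : Subgroup Ω, P ≤ R → R ≤ T → cond P → cond R)
    (hconj : ∀ (P R : Subgroup Ω) (f : Ω → Ω), MapFn E P f → f '' P = (R : Set Ω) → cond P → cond R)
    (h : ∀ Q, E.IsFullyNormalized Q → cond Q → GoodAt F E y Q) :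
    ∀ P f, MapFn E P f → cond P → ExtFix F y P f := by
  refine alperin_induction hT hEs (fun P f => cond P → ExtFix F y P f) ?_ ?_ ?_ ?_ ?_
  · exact fun _ h e hc => (h hc).congr e
  · intro P R f hf h hR hc
    exact (h (hup R P hR hf.le_S hc)).mono hR
  · intro P R f g hf h hg h' hm hc
    obtain ⟨M, -, hM⟩ := hf.exists_image
    have hMR : M ≤ R := fun y hy => by obtain ⟨x, hx, rfl⟩ := exists_of_image hM hy; exact hm x hx
    exact (h hc).comp (h' (hup M R hMR hg.le_S (hconj P M f hf hM hc))) hm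
  · intro P R f g hf h hr hg hinv hc
    obtain ⟨k, hk, hkr, -, -⟩ := hf.exists_inv hr
    exact (h (hconj R P k hk hkr hc)).inv hr hinv
  · exact fun Q hQn _ _ _ a ha har hc => h Q hQn hc a ha har

/-- Good elements are moved along maps fixing them. -/
theorem goodAt_of_conj [Finite T] {θ : Ω → Ω} (hθ : MapFn E P θ) (hr : θ '' P = (R : Set Ω))
    (hθy : ExtFix F y P θ) (hR : GoodAt F E y R) : GoodAt F E y P := by
  intro f hf hfr
  obtain ⟨θi, hθi, hθir, hθi₁, -⟩ := hθ.exists_inv hr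
  have hm1 : ∀ x ∈ R, θi x ∈ P := fun x hx => mem_of_image hθir hx
  have hmid : MapFn E R (θ ∘ (f ∘ θi)) := (hθi.comp hf hm1).comp hθ fun x hx => mem_of_image hfr (hm1 x hx)
  have hmr : (θ ∘ (f ∘ θi)) '' R = (R : Set Ω) := image_comp (image_comp hθir hfr) hr
  have h1 := (hθy.comp (hR _ hmid hmr) fun x hx => mem_of_image hr hx).comp (hθy.inv hr hθi₁) fun x hx =>
    mem_of_image hmr (mem_of_image hr hx)
  refine h1.congr fun x hx => ?_
  show θi (θ (f (θi (θ x)))) = f x
  rw [hθi₁ x hx, hθi₁ _ (mem_of_image hfr hx)]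

theorem isCentric_thJ [Finite T] : E.IsCentric (thJ T) := by
  refine ⟨thJ_le, fun V hV => ?_⟩
  obtain ⟨f, hf, hfr⟩ := isConj_iff.mp hV
  haveI : Finite ↥(thJ T) := finite_of_le thJ_le
  have hVT : V ≤ T := IsConj.le_right hV
  haveI := finite_of_le hVT
  obtain ⟨A, hA⟩ := exists_maxAb (W := V)
  have hAT : MaxAb T A := ⟨hA.1.trans hVT, hA.2.1, by rw [hA.2.2, abMax_eq_of_image hf hfr, abMax_thJ]⟩
  intro x hx
  exact hA.1 (hAT.mem_of_centralizes hx.1 fun a ha => Subgroup.mem_centralizer_iff.mp hx.2 a (hA.1 ha))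

variable [Finite S] [Fact p.Prime]

/-- An element good at `J(T)` is good at every fully normalized subgroup. -/
theorem goodAt_of_thJ (hS : IsPGroup p S) (hp2 : p ≠ 2) (hE : E.IsNormalIn F p)
    (hy : y ∈ centralizerIn S T) (hbase : GoodAt F E y (thJ T)) :
    ∀ Q, E.IsFullyNormalized Q → GoodAt F E y Q := by
  have hEs := hE.1.1
  have hTS : T ≤ S := hE.1.2.2.2.1.1
  have hST := hS.to_le hTS
  haveI := finite_of_le hTS
  set N := Nat.card T + 1 with hN
  suffices h : ∀ (n : ℕ) (Q : Subgroup Ω), N * N * N + N * N + N - goodKey T Q < n → E.IsFullyNormalized Q →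
      GoodAt F E y Q from fun Q hQ => h _ Q (Nat.lt_succ_self _) hQ
  intro n
  induction n with
  | zero => intro Q h; omega
  | succ n ih =>
  intro Q hn hQn
  have hQT := hQn.1
  set M := normalizerIn T Q with hM
  have hMT : M ≤ T := normalizerIn_le
  haveI := finite_of_le hMT
  have hbig : ∀ R, E.IsFullyNormalized R → goodKey T Q < goodKey T R → GoodAt F E y R := by
    intro R hR hlt
    refine ih R ?_ hR
    have hb : goodKey T R < N * N * N + N * N + N := by
      haveI := finite_of_le (normalizerIn_le : normalizerIn T R ≤ T)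
      have h1 : Nat.card R < N := Nat.lt_succ_of_le (Subgroup.card_le_of_le hR.1)
      have h2 : Nat.card (normalizerIn T R) ≤ N := (Subgroup.card_le_of_le normalizerIn_le).trans (Nat.le_succ _)
      have h3 : abMax (normalizerIn T R) ≤ N := abMax_le_card.trans h2
      have h4 : keyA N (normalizerIn T R) ≤ N * N + N := Nat.add_le_add (Nat.mul_le_mul_right _ h3) h2
      have h5 := Nat.mul_le_mul_right N h4
      rw [Nat.add_mul] at h5
      show keyA N (normalizerIn T R) * N + Nat.card R < _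
      omega
    omega
  have hmaps : Q ≠ T → ∀ W f, MapFn E W f → keyA N M ≤ keyA N W → ExtFix F y W f := by
    intro hne
    refine extFix_of_cond hST hEs (fun W => keyA N M ≤ keyA N W) ?_ ?_ ?_
    · intro P R hPR hR h
      haveI := finite_of_le hR
      exact h.trans (keyA_mono hPR)
    · intro P R f hf hr h
      exact h.trans (keyA_le_of_map hf ((hf.isConj hr) |> IsConj.le_right) fun x hx => mem_of_image hr hx)
    · intro R hR hc
      refine hbig R hR (goodKey_lt hQT ?_)
      haveI := finite_of_le (normalizerIn_le : normalizerIn T R ≤ T)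
      rcases eq_or_ne R T with rfl | hRT
      · exact Or.inr ⟨hc.trans (keyA_mono (le_normalizerIn le_rfl)),
          card_lt_card le_rfl (lt_of_le_of_ne hQT hne)⟩
      · exact Or.inl (hc.trans_lt (keyA_lt_of_lt (Fusion.lt_normalizerIn hST le_rfl (lt_of_le_of_ne hR.1 hRT))))
  -- subgroups of larger key
  have habove : Q ≠ T → ∀ R, R ≤ T →
      (keyA N M < keyA N (normalizerIn T R) ∨
        keyA N M ≤ keyA N (normalizerIn T R) ∧ Nat.card Q < Nat.card R) → GoodAt F E y R := by
    intro hne R hRT h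
    obtain ⟨R', θ, hR', hθ, hθr, hθm⟩ := exists_fullyNormalized_mapFn hST hEs hRT
    have hθR := hθ.mono (le_normalizerIn hRT)
    have hle := keyA_le_of_map (N := N) hθ (normalizerIn_le : normalizerIn T R' ≤ T) hθm
    have hθy : ExtFix F y R θ :=
      (hmaps hne _ θ hθ (h.elim le_of_lt And.left)).mono (le_normalizerIn hRT)
    refine goodAt_of_conj hθR hθr hθy (hbig R' hR' (goodKey_lt hQT ?_))
    rcases h with h | ⟨h, h'⟩
    · exact Or.inl (h.trans_le hle)
    · exact Or.inr ⟨h.trans hle, (hθR.card_image hθr).symm ▸ h'⟩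
  by_cases hC : centralizerIn T Q ≤ Q
  swap
  · -- extend to `Q C_T(Q)`
    have hne : Q ≠ T := fun h => hC (h ▸ centralizerIn_le)
    intro f hf hfr
    set R := Q ⊔ centralizerIn T Q with hR
    have hRT : R ≤ T := sup_le hQT centralizerIn_le
    haveI := finite_of_le hRT
    have hMR : M ≤ Subgroup.normalizer (R : Set Ω) := fun s hs => by
      refine mem_normalizer_of_forall fun x hx => ?_
      have hle : R.map (MulAut.conj s).toMonoidHom ≤ R := by
        rw [hR, Subgroup.map_sup]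
        refine sup_le ?_ ?_
        · rintro _ ⟨q, hq, rfl⟩; exact Subgroup.mem_sup_left (conj_mem_of_normalizer hs.2 hq)
        · rintro _ ⟨z, hz, rfl⟩
          refine Subgroup.mem_sup_right (mem_centralizerIn.mpr ⟨T.mul_mem (T.mul_mem hs.1 hz.1) (T.inv_mem hs.1),
            fun q hq => ?_⟩)
          have hq' : s⁻¹ * q * s ∈ Q := (Subgroup.mem_normalizer_iff''.mp hs.2 q).mp hq
          show q * (s * z * s⁻¹) = s * z * s⁻¹ * q
          calc q * (s * z * s⁻¹) = s * (s⁻¹ * q * s * z) * s⁻¹ := by group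
            _ = s * (z * (s⁻¹ * q * s)) * s⁻¹ := by rw [(mem_centralizerIn.mp hz).2 _ hq']
            _ = _ := by group
      exact hle ⟨x, hx, rfl⟩
    obtain ⟨g, hg, hgQ⟩ := hf.extend_centralizer hST hEs
      (fullyCentralized_of_receptive (fullyNormalized_good hST hEs hQn).2) hfr
    have hgr : g '' R = (R : Set Ω) := by
      refine hg.image_eq_of_maps hRT (hg.maps_sup (fun x hx => ?_) fun x hx => ?_) le_rfl
      · rw [hgQ x hx]; exact Subgroup.mem_sup_left (mem_of_image hfr hx)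
      · refine Subgroup.mem_sup_right (hg.mem_centralizerIn le_sup_left ?_ (Subgroup.mem_sup_right hx) hx)
        exact (Set.image_congr hgQ).trans hfr
    haveI := finite_of_le (normalizerIn_le : normalizerIn T R ≤ T)
    refine (((habove hne R hRT (Or.inr ⟨keyA_mono (le_inf hMT hMR), card_lt_card le_rfl (lt_of_le_of_ne le_sup_left
      fun h => hC (le_sup_right.trans h.ge))⟩)) g hg hgr).mono le_sup_left).congr hgQ
  have hQc : E.IsCentric Q := isCentric_of_fullyNormalized hST hEs hQn hC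
  by_cases hJ : thJ M ≤ Q
  swap
  · -- quadratic elements
    have hne : Q ≠ T := fun h => hJ ((thJ_le.trans hMT).trans h.ge)
    obtain ⟨t, ht, htQ, hquad⟩ := exists_quadratic (hST.to_le hMT) hp2 (le_normalizerIn hQT) inf_le_right hJ
    refine goodAt_of_quadratic hS hp2 hE hy hQn hQc ht htQ hquad fun P hQP hPM hMP => ?_
    haveI := finite_of_le (normalizerIn_le : normalizerIn T P ≤ T)
    haveI := finite_of_le (hPM.trans hMT)
    exact habove hne P (hPM.trans hMT) (Or.inr ⟨keyA_mono (le_inf hMT hMP), card_lt_card le_rfl hQP⟩)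
  -- `X = J(M) ≤ Q`
  set X := thJ M with hX
  have hQM : Q ≤ M := le_normalizerIn hQT
  have hXQ : thJ Q = X := thJ_eq_of_le hQM hJ
  have hinv : ∀ f, MapFn E Q f → f '' Q = (Q : Set Ω) → f '' X = (X : Set Ω) := fun f hf hfr => by
    have h := image_thJ hf hfr
    rwa [hXQ] at h
  rcases eq_or_ne M T with hMe | hMne
  · exact goodAt_of_le hS hE hy hQn hJ (by rw [hX, hMe]; exact isCentric_thJ) hinv (by rw [hX, hMe]; exact hbase)
  have hne : Q ≠ T := fun h => hMne (le_antisymm hMT (h ▸ hQM))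
  have hXT : X ≤ T := thJ_le.trans hMT
  haveI := finite_of_le hXT
  haveI := finite_of_le (normalizerIn_le : normalizerIn T X ≤ T)
  -- `N_T(X) > M`
  have hMX : M < normalizerIn T X := by
    refine lt_of_lt_of_le (Fusion.lt_normalizerIn hST le_rfl (lt_of_le_of_ne hMT hMne)) fun s hs => ?_
    refine ⟨hs.1, mem_normalizer_of_forall fun x hx => ?_⟩
    have hr : (fun z => s * z * s⁻¹) '' M = (M : Set Ω) := (mapFn_conj (F := E) hMT hs.1).image_eq_of_maps hMT
      (fun z hz => conj_mem_of_normalizer hs.2 hz) le_rfl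
    exact mem_of_image (image_thJ (mapFn_conj (F := E) hMT hs.1) hr) hx
  obtain ⟨X', θ, hX', hθ, hθr, hθm⟩ := exists_fullyNormalized_mapFn hST hEs hXT
  have hkX : keyA N M < keyA N (normalizerIn T X) := keyA_lt_of_lt hMX
  have hkX' : keyA N M < keyA N (normalizerIn T X') :=
    hkX.trans_le (keyA_le_of_map hθ normalizerIn_le hθm)
  have hθy := hmaps hne _ θ hθ hkX.le
  have hθX := hθ.mono (le_normalizerIn hXT)
  by_cases hXC : centralizerIn T X' ≤ X'
  · have hX'c : E.IsCentric X' := isCentric_of_fullyNormalized hST hEs hX' hXC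
    exact goodAt_of_le hS hE hy hQn hJ (IsCentric.of_conj hX'c (isConj_symm (hθX.isConj hθr))) hinv
      (goodAt_of_conj hθX hθr (hθy.mono (le_normalizerIn hXT)) (hbig X' hX' (goodKey_lt hQT (Or.inl hkX'))))
  -- `C_T(X')` is not inside `X'`
  have hX'T := hX'.1
  haveI := finite_of_le hX'T
  have hJX' : thJ X' = X' := by
    refine SetLike.coe_injective ?_
    rw [← hθr, ← image_thJ hθX hθr, hX, thJ_eq_of_le thJ_le le_rfl]
  have habX' : abMax X' = abMax M := by rw [abMax_eq_of_image hθX hθr, hX, abMax_thJ]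
  have hQX : Q ≤ normalizerIn T X := hQM.trans hMX.le
  have hθQ := hθ.mono hQX
  obtain ⟨Q', hQ'T, hQ'⟩ := hθQ.exists_image
  refine goodAt_of_conj hθQ hQ' (hθy.mono hQX) fun f hf hfr => ?_
  obtain ⟨θi, hθi, hθir, hθi₁, hθi₂⟩ := hθQ.exists_inv hQ'
  have hX'Q : X' ≤ Q' := fun z hz => by
    obtain ⟨x, hx, rfl⟩ := exists_of_image hθr hz
    exact mem_of_image hQ' (hJ hx)
  have hQ'N : Q' ≤ normalizerIn T X' := fun z hz => by
    obtain ⟨x, hx, rfl⟩ := exists_of_image hQ' hz
    exact hθm x (hQX hx)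
  have hfX : f '' X' = (X' : Set Ω) := by
    haveI := finite_of_le hQ'T
    have h1 : θ '' thJ Q = (thJ Q' : Set Ω) := image_thJ hθQ hQ'
    rw [hXQ, hθr] at h1
    have h2 : f '' thJ Q' = (thJ Q' : Set Ω) := image_thJ hf hfr
    rwa [← SetLike.coe_injective h1] at h2
  let G : FusionSystem (normalizerIn T X') := extSystem E hX'T ⊤ _ isKNormalizer_top
  have hG : G.IsSaturated p :=
    normalizerSystem_saturated hST hEs hX' fun P => extHom_top E X' P
  have hGE : ∀ {P : Subgroup Ω} {g : Ω → Ω}, MapFn G P g → MapFn E P g := fun ⟨φ, hφ, he⟩ => ⟨φ, hφ.1, he⟩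
  have hfG : MapFn G Q' f := by
    obtain ⟨φ, hφ, he⟩ := id hf
    refine ⟨φ, ?_, he⟩
    show φ ∈ extHom E X' ⊤ (normalizerIn T X') Q'
    rw [extHom_top]
    refine ⟨hφ, hQ'N, fun x => ?_, ?_⟩
    · rw [he]; exact hQ'N (mem_of_image hfr x.2)
    obtain ⟨ψ, hψ, hψe⟩ := hf.mono (sup_le le_rfl hX'Q : Q' ⊔ X' ≤ Q')
    refine ⟨ψ, hψ, fun x => by rw [hψe, he]; rfl, SetLike.coe_injective ?_⟩
    rw [← hfX]
    ext z
    constructor
    · rintro ⟨x, hx, rfl⟩; exact ⟨x, hx, (hψe x).symm⟩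
    · rintro ⟨x, hx, rfl⟩; exact ⟨⟨x, Subgroup.mem_sup_right hx⟩, hx, hψe _⟩
  haveI := finite_of_le (normalizerIn_le : normalizerIn T X' ≤ T)
  have hNp : IsPGroup p (normalizerIn T X') := hST.to_le normalizerIn_le
  refine alperin_induction hNp hG (fun P g => ExtFix F y P g) (fun _ h e => h.congr e) (fun _ h hR => h.mono hR)
    (fun _ h _ h' hm => h.comp h' hm) (fun _ h hr _ hinv => h.inv hr hinv) ?_ Q' f hfG
  intro R hRn hRc hRr _ a ha har
  have hX'R : X' ≤ R := IsNormal.le_centric_radical hNp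
    (isNormal_extSystem hX'T isKNormalizer_top (le_normalizerIn hX'T)) hRc hRr
  have hRN : R ≤ normalizerIn T X' := hRn.1
  have hRT : R ≤ T := hRN.trans normalizerIn_le
  haveI := finite_of_le (normalizerIn_le : normalizerIn T R ≤ T)
  obtain ⟨g, hgC, hgX, hgN⟩ : ∃ g ∈ centralizerIn T X', g ∉ X' ∧ g ∈ normalizerIn T R := by
    by_cases hle : centralizerIn T X' ≤ R
    · obtain ⟨g, hg, hgX⟩ := SetLike.not_le_iff_exists.mp hXC
      exact ⟨g, hg, hgX, le_normalizerIn hRT (hle hg)⟩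
    · have hlt : R < R ⊔ centralizerIn T X' := lt_of_le_of_ne le_sup_left fun h => hle (le_sup_right.trans h.ge)
      have hWT : R ⊔ centralizerIn T X' ≤ T := sup_le hRT centralizerIn_le
      obtain ⟨s, ⟨hs, hsN⟩, hsR⟩ := SetLike.exists_of_lt (Fusion.lt_normalizerIn hST hWT hlt)
      have hn : R ≤ Subgroup.normalizer (centralizerIn T X' : Set Ω) := by
        haveI := finite_of_le (centralizerIn_le : centralizerIn T X' ≤ T)
        intro r hr
        refine mem_normalizer_of_forall fun z hz => mem_centralizerIn.mpr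
          ⟨T.mul_mem (T.mul_mem (hRT hr) hz.1) (T.inv_mem (hRT hr)), fun q hq => ?_⟩
        have hq' : r⁻¹ * q * r ∈ X' := (Subgroup.mem_normalizer_iff''.mp (hRN hr).2 q).mp hq
        calc q * (r * z * r⁻¹) = r * (r⁻¹ * q * r * z) * r⁻¹ := by group
          _ = r * (z * (r⁻¹ * q * r)) * r⁻¹ := by rw [(mem_centralizerIn.mp hz).2 _ hq']
          _ = _ := by group
      have hs' : s ∈ ((R ⊔ centralizerIn T X' : Subgroup Ω) : Set Ω) := hs
      rw [Subgroup.coe_mul_of_left_le_normalizer_right _ _ hn] at hs'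
      obtain ⟨r, hr, z, hz, rfl⟩ := Set.mem_mul.mp hs'
      refine ⟨z, hz, fun h => hsR (R.mul_mem hr (hX'R h)), hz.1, ?_⟩
      simpa using Subgroup.mul_mem _ (Subgroup.inv_mem _ (Subgroup.le_normalizer hr)) hsN
  have hlt : abMax M < abMax (normalizerIn T R) := habX' ▸
    abMax_lt_of_centralizes (hX'R.trans (le_normalizerIn hRT)) hgN (by rw [hJX']; exact hgX)
      fun x hx => (mem_centralizerIn.mp hgC).2 x (hJX' ▸ hx)
  exact habove hne R hRT (Or.inl (keyA_lt_of_abMax hMT hlt)) a (hGE ha) har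

/-- `p` odd: each coset of `T` in `T C_S(T)` contains an element fixed by all maps of `E`. -/
theorem exists_goodElt_mul (hS : IsPGroup p S) (hp2 : p ≠ 2) (hE : E.IsNormalIn F p) {c : Ω}
    (hc : c ∈ centralizerIn S T) : ∃ w ∈ T, GoodElt F E (c * w) := by
  have hT := hE.1.2.2.2.1
  have hTS := hT.1
  have hST := hS.to_le hTS
  haveI := finite_of_le hTS
  have hTn : S ≤ Subgroup.normalizer (T : Set Ω) := StronglyClosed.le_normalizer hT
  have hJS : S ≤ Subgroup.normalizer (thJ T : Set Ω) := fun s hs => by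
    haveI : Finite ↥(thJ T) := finite_of_le thJ_le
    refine mem_normalizer_of_forall fun x hx => ?_
    have hr : (fun z => s * z * s⁻¹) '' T = (T : Set Ω) := (mapFn_conj (F := F) hTS hs).image_eq_of_maps hTS
      (fun z hz => conj_mem_of_normalizer (hTn hs) hz) le_rfl
    exact mem_of_image (image_thJ (mapFn_conj (F := F) hTS hs) hr) hx
  haveI := finite_of_le (normalizerIn_le : normalizerIn T (thJ T) ≤ T)
  have hJn : E.IsFullyNormalized (thJ T) := ⟨thJ_le, fun R _ => Subgroup.card_le_of_le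
    (le_trans normalizerIn_le (le_inf le_rfl (hTS.trans hJS)))⟩
  obtain ⟨w, hw, hy, hgood⟩ := exists_goodAt_base hS hE isCentric_thJ hJn hJS hTn hc
  exact ⟨w, hw, hy, fun P f hf => extFix_of_cond hST hE.1.1 (fun _ => True) (fun _ _ _ _ _ => trivial)
    (fun _ _ _ _ _ _ => trivial) (fun Q hQ _ => goodAt_of_thJ hS hp2 hE hy hgood Q hQ) P f hf trivial⟩

/-- `T C_S(T) / T` is abelian. -/
theorem commutator_le_of_goodElt_mem (hS : IsPGroup p S) (hE : E.IsNormalIn F p)
    (hgood : ∀ c, GoodElt F E c → c ∈ T) : ⁅T ⊔ centralizerIn S T, T ⊔ centralizerIn S T⁆ ≤ T := by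
  haveI := finite_of_le hE.1.2.2.2.1.1
  rw [Subgroup.commutator_le]
  have hn : centralizerIn S T ≤ Subgroup.normalizer (T : Set Ω) := fun b hb =>
    Subgroup.centralizer_le_normalizer _ hb.2
  intro a ha b hb
  rw [← SetLike.mem_coe, Subgroup.coe_mul_of_right_le_normalizer_left _ _ hn] at ha hb
  obtain ⟨s, hs, c, hc, rfl⟩ := Set.mem_mul.mp ha
  obtain ⟨t, ht, d, hd, rfl⟩ := Set.mem_mul.mp hb
  have e1 : ∀ u ∈ T, ∀ v ∈ centralizerIn S T, Commute u v := fun u hu v hv => (mem_centralizerIn.mp hv).2 u hu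
  have h : ⁅s * c, t * d⁆ = s * t * s⁻¹ * t⁻¹ * (c * d * c⁻¹ * d⁻¹) := by
    rw [commutatorElement_def, mul_inv_rev, mul_inv_rev]
    calc s * c * (t * d) * (c⁻¹ * s⁻¹) * (d⁻¹ * t⁻¹)
        = s * (c * t) * d * c⁻¹ * (s⁻¹ * d⁻¹) * t⁻¹ := by group
      _ = s * t * c * d * c⁻¹ * d⁻¹ * (s⁻¹ * t⁻¹) := by
          rw [← (e1 t ht c hc).eq, (e1 _ (T.inv_mem hs) _ (Subgroup.inv_mem _ hd)).eq]; group
      _ = s * t * ((c * d * c⁻¹ * d⁻¹) * (s⁻¹ * t⁻¹)) := by group
      _ = _ := by
          rw [← (e1 _ (T.mul_mem (T.inv_mem hs) (T.inv_mem ht)) _ (Subgroup.mul_mem _ (Subgroup.mul_mem _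
            (Subgroup.mul_mem _ hc hd) (Subgroup.inv_mem _ hc)) (Subgroup.inv_mem _ hd))).eq]; group
  rw [h]
  exact T.mul_mem (T.mul_mem (T.mul_mem (T.mul_mem hs ht) (T.inv_mem hs)) (T.inv_mem ht))
    (hgood _ (fix_commutator hS hE hc hd))

end CfsgLib.Fusion
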