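import Cfsg.Agent.Lib.Fusion.ModelExists
import Cfsg.Agent.Lib.Fusion.PPrimeNormal
import Cfsg.Agent.Lib.Fusion.PIndexExist
import Cfsg.Agent.Lib.Fusion.Solvable
import Cfsg.Agent.Lib.Fusion.TransportNormal
import Cfsg.Agent.Lib.Fusion.ComponentImage
import Cfsg.Agent.Lib.FusionNormal.Constrained
import Cfsg.Agent.Lib.FusionNormal.PSolvableModel
import Cfsg.Agent.Lib.Transfer.Basic

/-!
# Constrained systems with `p`-solvable models

`Solv F p`: constrained, with `p`-solvable automizer of the core (equivalently, with `p`-solvable models).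
The property passes to weakly normal subsystems and back from the residual subsystems.
-/

set_option autoImplicit false

namespace CfsgLib.FusionSolv

open Cfsg Cfsg.FusionSystem CfsgLib.Fusion CfsgLib.FusionNormal CfsgLib.FusionTransport
open scoped commutatorElement

section group

variable {G : Type*} [Group G] {p : ℕ} [Fact p.Prime]

theorem pElements_normal :
    (Subgroup.closure {g : G | ∃ k : ℕ, orderOf g = p ^ k}).Normal := by
  have : (Subgroup.closure {g : G | ∃ k : ℕ, orderOf g = p ^ k}).Characteristic := by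
    refine Subgroup.characteristic_iff_map_le.mpr fun ϕ => ?_
    rw [MonoidHom.map_closure]
    refine Subgroup.closure_mono ?_
    rintro _ ⟨g, ⟨k, hk⟩, rfl⟩
    exact ⟨k, by rw [show ϕ.toMonoidHom g = ϕ g from rfl, MulEquiv.orderOf_eq]; exact hk⟩
  infer_instance

/-- A normal subgroup containing every element of `p`-power order has index prime to `p`. -/
theorem coprime_card_quotient [Finite G] (N : Subgroup G) [N.Normal]
    (h : ∀ g : G, (∃ k : ℕ, orderOf g = p ^ k) → g ∈ N) : (Nat.card (G ⧸ N)).Coprime p := by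
  have hp : p.Prime := Fact.out
  rw [Nat.coprime_comm, hp.coprime_iff_not_dvd]
  intro hd
  obtain ⟨x, hx⟩ := exists_prime_orderOf_dvd_card' p hd
  obtain ⟨g, rfl⟩ := QuotientGroup.mk'_surjective N x
  obtain ⟨k, m, hm, hord⟩ := Nat.exists_eq_pow_mul_and_not_dvd (orderOf_pos g).ne' p hp.ne_one
  have hm0 : m ≠ 0 := by rintro rfl; exact hm (dvd_zero p)
  have h1 : g ^ m ∈ N := h _ ⟨k, by
    rw [orderOf_pow_of_dvd hm0 (hord ▸ dvd_mul_left m _), hord,
      Nat.mul_div_cancel _ (Nat.pos_of_ne_zero hm0)]⟩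
  have h2 : QuotientGroup.mk' N g ^ m = 1 := by
    rw [← map_pow]; exact (QuotientGroup.eq_one_iff _).mpr h1
  exact hm (hx ▸ orderOf_dvd_of_pow_eq_one h2)

theorem isPSolvable_of_pElements [Finite G]
    (h : IsPSolvable p ↥(Subgroup.closure {g : G | ∃ k : ℕ, orderOf g = p ^ k})) : IsPSolvable p G := by
  have := pElements_normal (G := G) (p := p)
  refine PCore.isPSolvable_extension _ h (PCore.isPSolvable_of_coprime ?_)
  exact coprime_card_quotient _ fun g hg => Subgroup.subset_closure hg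

theorem isPSolvable_of_pResidual [Finite G] (h : IsPSolvable p ↥(pResidual p G)) : IsPSolvable p G := by
  have := CfsgLib.Transfer.pResidual_normal (G := G) (p := p)
  exact PCore.isPSolvable_extension _ h
    (PCore.isPSolvable_of_isPGroup (CfsgLib.Transfer.isPGroup_quotient_of_pResidual_le _ le_rfl))

end group

universe u

variable {Ω : Type u} [Group Ω] {S : Subgroup Ω} {F : FusionSystem S} {p : ℕ}

/-- Constrained, with `p`-solvable automizer of the core. -/
def Solv (F : FusionSystem S) (p : ℕ) : Prop :=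
  F.IsConstrained p ∧ IsPSolvable p ↥(F.autGroup F.core)

/-- Automizers in a system realized by a `p`-solvable group are `p`-solvable. -/
theorem autGroup_isPSolvable [Fact p.Prime] {G : Type*} [Group G] {ι : S →* G} (hF : F.IsRealizedBy ι)
    (h : IsPSolvable p G) {R : Subgroup Ω} (hR : R ≤ S) : IsPSolvable p ↥(F.autGroup R) := by
  let K : Subgroup (G × F.autGroup R) :=
    { carrier := {a | ∀ x : R, ι ⟨((a.2 : MulAut R) x : R), hR (Subtype.mem _)⟩ = a.1 * ι ⟨x, hR x.2⟩ * a.1⁻¹}
      one_mem' := fun x => by simp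
      mul_mem' := fun {a b} ha hb x => by
        show ι ⟨((((a.2 : MulAut R) * (b.2 : MulAut R)) x : R) : Ω), _⟩ = _
        rw [show ι ⟨((((a.2 : MulAut R) * (b.2 : MulAut R)) x : R) : Ω), hR (Subtype.mem _)⟩ =
          ι ⟨(((a.2 : MulAut R) ((b.2 : MulAut R) x) : R) : Ω), hR (Subtype.mem _)⟩ from rfl, ha, hb]
        simp [mul_assoc]
      inv_mem' := fun {a} ha x => by
        have h1 := ha (((a.2 : MulAut R))⁻¹ x)
        simp only [MulAut.apply_inv_self] at h1
        show ι ⟨((((a.2 : MulAut R))⁻¹ x : R) : Ω), _⟩ = a.1⁻¹ * ι ⟨x, hR x.2⟩ * a.1⁻¹⁻¹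
        rw [h1]; group }
  have hinj : Function.Injective ((MonoidHom.fst G (F.autGroup R)).comp K.subtype) := by
    rw [injective_iff_map_eq_one]
    rintro ⟨⟨g, α⟩, ha⟩ (rfl : g = 1)
    refine Subtype.ext (Prod.ext rfl (Subtype.ext (MulEquiv.ext fun x => Subtype.ext ?_)))
    have h1 := ha x
    simp only [one_mul, inv_one, mul_one] at h1
    exact congrArg (fun s : S => (s : Ω)) (hF.1 h1)
  refine PCore.isPSolvable_of_surjective ((MonoidHom.snd G (F.autGroup R)).comp K.subtype) (fun α => ?_)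
    (PCore.isPSolvable_of_injective _ hinj h)
  obtain ⟨g, hg⟩ := realized_conj hF ((mem_autGroup hR).mp α.2)
  exact ⟨⟨(g, α), hg⟩, rfl⟩

theorem autGroup_le_of_sub {T : Subgroup Ω} {E : FusionSystem T} (h : E.IsSubsystemOf F) {R : Subgroup Ω}
    (hR : R ≤ T) : E.autGroup R ≤ F.autGroup R := fun _ hα =>
  (mem_autGroup (le_S (h R (subtype_mem hR)))).mpr (h R ((mem_autGroup hR).mp hα))

theorem isWeaklyNormalIn_self (hF : F.IsSaturated p) : F.IsWeaklyNormalIn F p := by
  refine ⟨hF, hF, isInvariantIn_of_mapFn (fun _ => subset_rfl)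
    ⟨le_rfl, fun _ _ _ hφ x => apply_mem_S hφ x⟩ (fun P P' f a hf ha har hP' => ?_) fun P f hP hf => ?_⟩
  · obtain ⟨e, he, hg⟩ := exists_emb_of_mapFn (ha.mono hf.le_S) hP'
    refine ⟨_, (hg.comp hf fun y hy => e.g_mem y hy).comp ha fun y hy => hf.mem_S (e.g_mem y hy),
      fun x hx => ?_⟩
    show a (f (e.g (a x))) = a (f x)
    rw [← he x, e.gf x hx]
  · exact ⟨id, f, mapFn_id le_rfl, Set.image_id _, hf, fun _ _ => rfl⟩

variable [Finite S] [Fact p.Prime]

theorem Solv.autGroup (hS : IsPGroup p S) (h : Solv F p) {R : Subgroup Ω} (hR : R ≤ S) :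
    IsPSolvable p ↥(F.autGroup R) := by
  obtain ⟨L, _, ι, hL⟩ := exists_model_of_constrained hS h.1
  exact autGroup_isPSolvable hL.2.1 ((isPSolvable_model_iff hL).mpr h.2) hR

theorem solv_of_bot (hF : F.IsSaturated p) (hS : S = ⊥) : Solv F p := by
  subst hS
  have hn := FusionExt.isNormal_core F
  refine ⟨⟨hF, ⊥, stronglyClosed_bot' F, ⟨le_rfl, fun Q _ => inf_le_left.trans bot_le⟩⟩, ?_⟩
  have hfin : Finite (MulAut F.core) := finite_mulAut hn.1
  have h1 : ∀ α : F.autGroup F.core, α = 1 := fun α => Subtype.ext (MulEquiv.ext fun x => by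
    have hb : ∀ y : F.core, y = 1 := fun y => Subtype.ext (Subgroup.mem_bot.mp (hn.1 y.2))
    rw [hb ((α : MulAut F.core) x), hb x]; rfl)
  refine PCore.isPSolvable_of_isPGroup fun α => ⟨0, ?_⟩
  rw [h1 α, one_pow]
where
  stronglyClosed_bot' (F : FusionSystem (⊥ : Subgroup Ω)) : F.IsNormal ⊥ :=
    FusionExt.isNormal_bot F

/-- The property passes to weakly normal subsystems. -/
theorem Solv.of_weaklyNormal (hS : IsPGroup p S) (h : Solv F p) {T : Subgroup Ω} {E : FusionSystem T}
    (hE : E.IsWeaklyNormalIn F p) : Solv E p := by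
  have hTS := hE.2.2.2.1.1
  have : Finite T := finite_of_le hTS
  have hc := (FusionExt.isNormal_core E).1
  exact ⟨constrained_of_weaklyNormal hS h.1 hE,
    PCore.isPSolvable_of_injective (Subgroup.inclusion (autGroup_le_of_sub hE.2.2.1 hc))
      (Subgroup.inclusion_injective _) (h.autGroup hS (hc.trans hTS))⟩

theorem rel_isNormal {Ω' : Type*} [Group Ω'] {T : Subgroup Ω} {T' : Subgroup Ω'} {e : Emb T T'}
    {U : Subgroup Ω} {X : FusionSystem U} {U' : Subgroup Ω'} {X' : FusionSystem U'} (hX : Rel e X X')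
    {Z : Subgroup Ω} (hZ : X.IsNormal Z) : X'.IsNormal (e.img Z) := by
  refine isNormal_of_mapFn (hX.eq ▸ e.img_mono hZ.1) fun P f hf => ?_
  have hPT : P ≤ T' := hf.le_S.trans hX.le'
  have hZT : Z ≤ T := hZ.1.trans hX.le
  obtain ⟨g, hg, hgP, hgZ⟩ := isNormal_mapFn hZ (hX.bwd hf)
  have h1 := hX.fwd hg
  rw [e.img_sup (e.symm.img_le P) hZT, e.img_symm hPT] at h1
  refine ⟨_, h1, fun x hx => ?_, Rel.image_fwd hZT hZT hgZ⟩
  show e.f (g (e.g x)) = f x
  rw [hgP (e.g x) (e.symm.f_mem_img hPT hx)]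
  show e.f (e.g (f (e.f (e.g x)))) = f x
  rw [e.fg x (hPT hx), e.fg _ (hX.le' (hf.mem_S hx))]

/-- The core of an invariant subsystem is invariant. -/
theorem image_core {T : Subgroup Ω} {E : FusionSystem T} (hE : E.IsInvariantIn F) {a : Ω → Ω}
    (ha : MapFn F T a) (har : a '' T = (T : Set Ω)) : a '' E.core = (E.core : Set Ω) := by
  have : Finite T := finite_of_le hE.2.1.1
  obtain ⟨e, he, hg⟩ := exists_emb_of_mapFn ha har
  have hc := FusionExt.isNormal_core E
  have hle : e.img E.core ≤ E.core :=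
    le_sSup (rel_isNormal (rel_invariant hE (ha.congr fun x _ => (he x).symm) hg) hc)
  refine (ha.mono hc.1).image_eq_of_maps (hc.1.trans hE.2.1.1) (fun x hx => ?_) le_rfl
  rw [← he]
  exact hle (e.f_mem_img hc.1 hx)

theorem centralizerIn_le_core (hS : IsPGroup p S) (hF : F.IsConstrained p) :
    centralizerIn S F.core ≤ F.core :=
  (isCentric_core hF).2 _ ⟨F.core.subtype, subtype_mem (FusionExt.isNormal_core F).1, Subgroup.range_subtype _⟩

theorem isCentric_of_normal {R : Subgroup Ω} (hR : F.IsNormal R) (h : centralizerIn S R ≤ R) :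
    F.IsCentric R := by
  refine ⟨hR.1, fun W hW => ?_⟩
  obtain ⟨φ, hφ, rfl⟩ := hW
  have := finite_of_le hR.1
  rw [range_eq_of_card_le hφ hR.1 (fun x => StronglyClosed.apply_mem (IsNormal.stronglyClosed hR) hφ x x.2)
    le_rfl]
  exact h

/-- Back from the `p'`-residual. -/
theorem solv_of_primeToP (hS : IsPGroup p S) (hF : F.IsSaturated p) {E : FusionSystem S}
    (hE : E.IsNormalIn F p) (hEi : E.HasPrimeToPIndexIn F p) (h : Solv E p) : Solv F p := by
  have hinv := hE.1.2.2
  have hc := FusionExt.isNormal_core E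
  have hR : F.IsNormal E.core := by
    refine isNormal_of_mapFn hc.1 fun P f hf => ?_
    obtain ⟨a, f₀, ha, har, hf₀, he⟩ := mapFn_frattini hinv hf.le_S hf
    obtain ⟨g, hg, hgP, hgC⟩ := isNormal_mapFn hc hf₀
    refine ⟨a ∘ g, (mapFn_of_sub hinv.1 hg).comp ha fun x hx => hg.mem_S hx, fun x hx => ?_, ?_⟩
    · show a (g x) = f x
      rw [hgP x hx, he x hx]
    · rw [Set.image_comp, hgC, image_core hinv ha har]
  refine ⟨⟨hF, E.core, hR, isCentric_of_normal hR (centralizerIn_le_core hS h.1)⟩, ?_⟩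
  have hcF := (FusionExt.isNormal_core F).1
  have : Finite (MulAut F.core) := finite_mulAut hcF
  refine isPSolvable_of_pElements ?_
  refine PCore.isPSolvable_of_injective
    (((F.autGroup F.core).subtype.comp (Subgroup.subtype _)).codRestrict (E.autGroup F.core)
      fun a => hEi.2 F.core hcF ⟨_, a.2, rfl⟩) ?_ (h.autGroup hS hcF)
  intro a b hab
  exact Subtype.ext (Subtype.ext (congrArg Subtype.val hab :))

/-- The preimage in `S` of the upper central series of `S/T`. -/
theorem exists_layers (hS : IsPGroup p S) {T : Subgroup Ω} (hTS : T ≤ S)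
    (hTn : (T.subgroupOf S).Normal) :
    ∃ (n : ℕ) (L : ℕ → Subgroup Ω), L 0 = T ∧ L n = S ∧ Monotone L ∧ (∀ i, L i ≤ S) ∧
      (∀ i, ((L i).subgroupOf S).Normal) ∧ ∀ i, ⁅S, L (i + 1)⁆ ≤ L i := by
  have : Group.IsNilpotent (S ⧸ T.subgroupOf S) := (hS.to_quotient _).isNilpotent
  obtain ⟨n, hn⟩ := Group.IsNilpotent.nilpotent' (G := S ⧸ T.subgroupOf S)
  set π := QuotientGroup.mk' (T.subgroupOf S) with hπ
  refine ⟨n, fun i => ((Subgroup.upperCentralSeries (S ⧸ T.subgroupOf S) i).comap π).map S.subtype,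
    ?_, ?_, ?_, fun i => Subgroup.map_subtype_le _, fun i => ?_, fun i => ?_⟩
  · simp only [Subgroup.upperCentralSeries_zero, MonoidHom.comap_bot, hπ, QuotientGroup.ker_mk']
    exact Subgroup.map_subgroupOf_eq_of_le hTS
  · simp only [hn, Subgroup.comap_top, ← MonoidHom.range_eq_map, Subgroup.range_subtype]
  · exact fun i j hij =>
      Subgroup.map_mono (Subgroup.comap_mono (Subgroup.upperCentralSeries_mono _ hij))
  · rw [Subgroup.subgroupOf, Subgroup.comap_map_eq_self_of_injective S.subtype_injective]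
    exact Subgroup.Normal.comap inferInstance π
  · rw [Subgroup.commutator_le]
    rintro s hs _ ⟨z, hz, rfl⟩
    have h1 := Subgroup.mem_upperCentralSeries_succ_iff.mp hz (π ⟨s, hs⟩)
    refine ⟨⁅z, (⟨s, hs⟩ : S)⁆⁻¹, Subgroup.inv_mem _ ?_, ?_⟩
    · rw [Subgroup.mem_comap, map_commutatorElement]
      exact h1
    · simp [commutatorElement_def, mul_assoc]

/-- Back from the `p`-residual. -/
theorem solv_of_pIndex (hS : IsPGroup p S) (hF : F.IsSaturated p) {T : Subgroup Ω}
    {D : FusionSystem T} (hTS : T ≤ S) (hTn : (T.subgroupOf S).Normal)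
    (hD : D.IsSaturated p ∧ D.HasPPowerIndexIn F p) (h : Solv D p) : Solv F p := by
  have hTsc : F.StronglyClosed T := stronglyClosed_of_hyperfocal_le hS hF hTS hTn hD.2.2.1
  have : Finite T := finite_of_le hTS
  have hTp : IsPGroup p T := hS.to_le hTS
  have hinv := (isNormalIn_of_pIndex hS hF hTS hTn hD.1 hD.2).1.2.2
  set Q := D.core with hQ
  have hQn : D.IsNormal Q := FusionExt.isNormal_core D
  have hQT : Q ≤ T := hQn.1
  have hQS : Q ≤ S := hQT.trans hTS
  have : Finite Q := finite_of_le hQS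
  have hQF : F.IsNormal Q := by
    refine (isNormal_iff_maps_extend hS hF hQS).mpr fun P hPQ φ hφ => ?_
    obtain ⟨-, s, hs, f₀, hf₀, he⟩ :=
      le_conjPart hS hF hD.1 hD.2 hTsc P hφ
    obtain ⟨g, hg, hgP, hgQ⟩ := isNormal_mapFn hQn hf₀
    have hg' : MapFn F Q g := mapFn_of_sub hD.2.1 (hg.mono le_sup_right)
    have ha : MapFn F T fun x => s * x * s⁻¹ := mapFn_conj hTS hs
    have har : (fun x => s * x * s⁻¹) '' (T : Set Ω) = (T : Set Ω) :=
      ha.image_eq_of_maps hTS (fun x hx => conj_mem_of_subgroupOf_normal hTS hTn hs hx) le_rfl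
    have hk : MapFn F Q fun x => s * g x * s⁻¹ := hg'.conj_comp hs
    have hkr : (fun x => s * g x * s⁻¹) '' (Q : Set Ω) = (Q : Set Ω) := by
      conv_rhs => rw [← image_core hinv ha har, ← hgQ, Set.image_image]
    obtain ⟨α, hα, hαe⟩ := hk.exists_aut hkr
    refine ⟨α, hα, fun x => ?_⟩
    rw [hαe]
    show s * g x * s⁻¹ = φ x
    have hxm : (x : Ω) ∈ P ⊓ T := ⟨x.2, hQT (hPQ x.2)⟩
    rw [hgP x hxm, he x hxm.2]
  have hQc : centralizerIn T Q ≤ Q := centralizerIn_le_core hTp h.1
  set C := centralizerIn S Q with hCdef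
  have hCsc : F.StronglyClosed C := FusionSolvable.sc_centralizerIn hQF
  obtain ⟨n, L, hL0, hLn, hLmono, hLS, hLn', hLc⟩ := exists_layers hS hTS hTn
  have hLsc : ∀ i, F.StronglyClosed (L i) := fun i =>
    stronglyClosed_of_hyperfocal_le hS hF (hLS i) (hLn' i)
      (hD.2.2.1.trans (hL0 ▸ hLmono (Nat.zero_le i)))
  have hCn : F.IsNormal C := by
    let M : ℕ → Subgroup Ω := fun i => if i = 0 then ⊥ else C ⊓ L (i - 1)
    refine isNormal_of_series hS hF (n + 1) M rfl ?_ ?_ (fun i _ => ?_) fun i hi => ?_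
    · show (if n + 1 = 0 then (⊥ : Subgroup Ω) else C ⊓ L (n + 1 - 1)) = C
      rw [if_neg (by omega), Nat.add_sub_cancel, hLn]
      exact inf_eq_left.mpr centralizerIn_le
    · intro i j hij
      show (if i = 0 then (⊥ : Subgroup Ω) else C ⊓ L (i - 1)) ≤ _
      split
      · exact bot_le
      · show _ ≤ (if j = 0 then (⊥ : Subgroup Ω) else C ⊓ L (j - 1))
        rw [if_neg (by omega)]
        exact inf_le_inf_left _ (hLmono (by omega))
    · show F.StronglyClosed (if i = 0 then (⊥ : Subgroup Ω) else C ⊓ L (i - 1))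
      split
      · exact stronglyClosed_bot F
      · exact FusionSolvable.sc_inf hCsc (hLsc _)
    · show ⁅C, (if i + 1 = 0 then (⊥ : Subgroup Ω) else C ⊓ L (i + 1 - 1))⁆ ≤
        (if i = 0 then (⊥ : Subgroup Ω) else C ⊓ L (i - 1))
      rw [if_neg (by omega), Nat.add_sub_cancel, Subgroup.commutator_le]
      intro c hc z hz
      rcases i with _ | i
      · rw [if_pos rfl, Subgroup.mem_bot, commutatorElement_eq_one_iff_mul_comm]
        have hzQ : z ∈ Q := hQc (mem_centralizerIn.mpr ⟨hL0 ▸ hz.2, (mem_centralizerIn.mp hz.1).2⟩)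
        exact ((mem_centralizerIn.mp hc).2 z hzQ).symm
      · rw [if_neg (by omega), Nat.add_sub_cancel]
        refine ⟨?_, hLc i (Subgroup.commutator_mem_commutator (mem_centralizerIn.mp hc).1 hz.2)⟩
        rw [commutatorElement_def]
        exact C.mul_mem (C.mul_mem (C.mul_mem hc hz.1) (C.inv_mem hc)) (C.inv_mem hz.1)
  have hR : F.IsNormal (Q ⊔ C) := FusionExt.isNormal_sup F hQF hCn
  refine ⟨⟨hF, _, hR, isCentric_of_normal hR ?_⟩, ?_⟩
  · exact (centralizerIn_antitone' le_sup_left).trans le_sup_right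
  set R := F.core
  have hRS : R ≤ S := (FusionExt.isNormal_core F).1
  have : Finite R := finite_of_le hRS
  have : Finite (MulAut R) := finite_mulAut hRS
  refine isPSolvable_of_pResidual ?_
  set A := F.autGroup R
  have hmem : ∀ a : pResidual p A, interAut hTsc hRS (a : A) ∈ D.autGroup (R ⊓ T) := fun a => by
    obtain ⟨b, hb, hbe⟩ := exists_residual_restrict hTsc hRS a.2
    have : interAut hTsc hRS (a : A) = (b : MulAut ↥(R ⊓ T)) :=
      MulEquiv.ext fun x => Subtype.ext (hbe x).symm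
    rw [this]
    exact mem_autGroup_of_residual hD.2 inf_le_right hb
  let f : pResidual p A →* D.autGroup (R ⊓ T) :=
    MonoidHom.mk' (fun a => ⟨interAut hTsc hRS (a : A), hmem a⟩)
      fun a b => Subtype.ext (MulEquiv.ext fun x => Subtype.ext rfl)
  have hker : IsPGroup p f.ker := by
    intro a
    have h0 : ∀ x : R, (x : Ω) ∈ T → ((a : A) : MulAut R) x = x := fun x hx => by
      have h1 := DFunLike.congr_fun (congrArg Subtype.val (MonoidHom.mem_ker.mp a.2)) ⟨x, x.2, hx⟩
      exact Subtype.ext (congrArg (fun y : ↥(R ⊓ T) => (y : Ω)) h1 :)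
    obtain ⟨k, hk⟩ := exists_pow_eq_one_of_stabilizes (hS.to_le hRS) (n := 1)
      (fun i => if i = 0 then T.subgroupOf R else ⊤) (α := ((a : A) : MulAut R))
      (fun i hi => by simp [show i = 0 by omega]) (by simp)
      ⟨0, fun x hx => by rw [pow_zero, pow_one]; exact h0 x (Subgroup.mem_subgroupOf.mp (by simpa using hx))⟩
      (fun i hi x _ => by
        obtain rfl : i = 0 := by omega
        rw [if_pos rfl, Subgroup.mem_subgroupOf]
        exact hD.2.2.1 (mem_hyperfocal hRS (a : pResidual p A).2 x))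
    exact ⟨k, Subtype.ext (Subtype.ext (Subtype.ext hk))⟩
  have hD' : IsPSolvable p ↥(D.autGroup (R ⊓ T)) := h.autGroup hTp inf_le_right
  refine PCore.isPSolvable_extension f.ker (PCore.isPSolvable_of_isPGroup hker) ?_
  exact PCore.isPSolvable_of_equiv (QuotientGroup.quotientKerEquivRange f).symm
    (PCore.isPSolvable_subgroup hD' f.range)
where
  centralizerIn_antitone' {A B : Subgroup Ω} (h : A ≤ B) : centralizerIn S B ≤ centralizerIn S A :=
    fun _ hx => mem_centralizerIn.mpr
      ⟨(mem_centralizerIn.mp hx).1, fun y hy => (mem_centralizerIn.mp hx).2 y (h hy)⟩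

end CfsgLib.FusionSolv
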