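import Cfsg.Agent.Lib.Fusion.Group
import Cfsg.Agent.Lib.PLocal.PStableQuot
import Cfsg.Agent.Lib.PLocal5.Quadratic
import Cfsg.Prelude.Def_LocalEven

/-!
Normalizer `p`-stability of a group and `p`-stability of its fusion system.
-/

set_option autoImplicit false

open scoped commutatorElement

namespace CfsgLib.Fusion

open Cfsg Cfsg.FusionSystem Subgroup

variable {G : Type*} [Group G] [Finite G] {p : ℕ} [Fact p.Prime]

/-- Quadratic action in terms of elements. -/
theorem quadratic_iff_elements {Q : Subgroup G} {g : G} :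
    ⁅⁅Q, zpowers g⁆, zpowers g⁆ = ⊥ ↔
      ∀ a ∈ Q, Commute g (a⁻¹ * (g * a * g⁻¹)) := by
  constructor
  · intro h a ha
    have h1 := CfsgLib.Quadratic.quadratic_commute h (inv_mem ha) (mem_zpowers g) (mem_zpowers g)
    rw [commutatorElement_def, inv_inv] at h1
    have e : a⁻¹ * g * a * g⁻¹ = a⁻¹ * (g * a * g⁻¹) := by group
    rw [e] at h1
    exact h1
  · intro h
    rw [commutator_eq_bot_iff_le_centralizer, Subgroup.commutator_le]
    intro x hx s hs
    rw [mem_centralizer_iff]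
    obtain ⟨i, rfl⟩ : ∃ i : ℕ, g ^ i = s := by
      rw [← mem_powers_iff_mem_zpowers] at hs; exact hs
    set y := x⁻¹⁻¹ * (g * x⁻¹ * g⁻¹) with hy
    have hgy : Commute g y := h x⁻¹ (inv_mem hx)
    have hy2 : g * x⁻¹ * g⁻¹ = x⁻¹ * y := by simp only [hy]; group
    have hpw : ∀ i : ℕ, g ^ i * x⁻¹ * (g ^ i)⁻¹ = x⁻¹ * y ^ i := by
      intro i
      induction i with
      | zero => simp
      | succ i ih =>
        calc g ^ (i + 1) * x⁻¹ * (g ^ (i + 1))⁻¹
            = g * (g ^ i * x⁻¹ * (g ^ i)⁻¹) * g⁻¹ := by rw [pow_succ']; group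
          _ = (g * x⁻¹ * g⁻¹) * (g * y ^ i * g⁻¹) := by rw [ih]; group
          _ = x⁻¹ * y ^ (i + 1) := by
            rw [(hgy.pow_right i).eq, mul_inv_cancel_right, hy2, pow_succ', mul_assoc]
    have hxi : ⁅x, g ^ i⁆ = y ^ i := by
      calc ⁅x, g ^ i⁆ = x * (g ^ i * x⁻¹ * (g ^ i)⁻¹) := by rw [commutatorElement_def]; group
        _ = y ^ i := by rw [hpw i, mul_inv_cancel_left]
    rw [hxi]
    rintro _ ⟨q, rfl⟩
    exact ((hgy.pow_right i).zpow_left q).eq

/-- The action of `N(Q)` on `Q`, into the automizer. -/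
noncomputable def toAutGroup (P : Subgroup G) {Q : Subgroup G} (hQP : Q ≤ P) :
    normalizer (Q : Set G) →* ↥((groupFusionSystem P).autGroup Q) :=
  Q.normalizerMonoidHom.codRestrict _ fun n => by
    rw [autGroup_group hQP, mem_autInducedBy]
    exact ⟨n, mem_top _, fun _ => rfl⟩

theorem toAutGroup_surjective (P : Subgroup G) {Q : Subgroup G} (hQP : Q ≤ P) :
    Function.Surjective (toAutGroup P hQP) := by
  rintro ⟨α, hα⟩
  rw [autGroup_group hQP, mem_autInducedBy] at hα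
  obtain ⟨g, -, hg⟩ := hα
  have hgN : g ∈ normalizer (Q : Set G) := by
    refine mem_normalizer_fintype fun x hx => ?_
    have := hg ⟨x, hx⟩
    exact this ▸ (α ⟨x, hx⟩).2
  exact ⟨⟨g, hgN⟩, Subtype.ext (MulEquiv.ext fun x => Subtype.ext (hg x).symm)⟩

theorem mk_mem_iff_toAutGroup (P : Subgroup G) {Q : Subgroup G} (hQP : Q ≤ P)
    (x : normalizer (Q : Set G)) :
    QuotientGroup.mk' ((centralizer (Q : Set G)).subgroupOf (normalizer (Q : Set G))) x ∈
        Cfsg.pCore p _ ↔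
      toAutGroup P hQP x ∈ Cfsg.pCore p ↥((groupFusionSystem P).autGroup Q) := by
  rw [CfsgLib.PLocal.mk_mem_pCore_iff_of_surjective (toAutGroup P hQP) (toAutGroup_surjective P hQP)
    ⊥ ((centralizer (Q : Set G)).subgroupOf (normalizer (Q : Set G))) ?_ x]
  · set e := (QuotientGroup.quotientBot (G := ↥((groupFusionSystem P).autGroup Q))).symm
    constructor
    · intro h
      rw [← CfsgLib.PCore.map_pCore_equiv (p := p) e] at h
      obtain ⟨y, hy, hye⟩ := h
      exact (e.injective (hye : e y = e (toAutGroup P hQP x))) ▸ hy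
    · intro h
      rw [← CfsgLib.PCore.map_pCore_equiv (p := p) e]
      exact ⟨_, h, rfl⟩
  · ext n
    rw [Subgroup.mem_comap, mem_bot, mem_subgroupOf]
    constructor
    · intro h
      refine mem_centralizer_iff.2 fun a ha => ?_
      have h1 := congrArg (fun α : ↥((groupFusionSystem P).autGroup Q) => (((α : MulAut Q) ⟨a, ha⟩ : Q) : G)) h
      have h2 : (n : G) * a * (n : G)⁻¹ = a := h1
      exact (mul_inv_eq_iff_eq_mul.1 h2).symm
    · intro h
      refine Subtype.ext (MulEquiv.ext fun a => Subtype.ext ?_)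
      show (n : G) * (a : G) * (n : G)⁻¹ = a
      rw [← mem_centralizer_iff.1 h a a.2, mul_inv_cancel_right]

/-- The fusion form of `p`-stability. -/
def IsFusionPStable (p : ℕ) (P : Subgroup G) : Prop :=
  ∀ Q : Subgroup G, (groupFusionSystem P).IsFullyNormalized Q → ∀ χ : MulAut ↥Q,
    χ ∈ (groupFusionSystem P).autGroup Q →
    (∀ a : ↥Q, (χ a⁻¹) * a * (χ a⁻¹) * (χ (χ a)) = 1) →
    χ ∈ ((Cfsg.pCore p ↥((groupFusionSystem P).autGroup Q)).map
      ((groupFusionSystem P).autGroup Q).subtype : Subgroup (MulAut ↥Q))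

theorem quadratic_iff_aut {P Q : Subgroup G} (hQP : Q ≤ P) (n : normalizer (Q : Set G)) :
    ⁅⁅Q, zpowers (n : G)⁆, zpowers (n : G)⁆ = ⊥ ↔
      ∀ a : ↥Q, ((toAutGroup P hQP n : MulAut Q) a⁻¹) * a * ((toAutGroup P hQP n : MulAut Q) a⁻¹) *
        ((toAutGroup P hQP n : MulAut Q) ((toAutGroup P hQP n : MulAut Q) a)) = 1 := by
  rw [quadratic_iff_elements]
  have key : ∀ g x : G, (g * x⁻¹ * g⁻¹) * x * (g * x⁻¹ * g⁻¹) * (g * (g * x * g⁻¹) * g⁻¹) =
      (g * x⁻¹ * g⁻¹ * x) * (g * (x⁻¹ * (g * x * g⁻¹)) * g⁻¹) := fun g x => by group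
  constructor
  · intro h a
    refine Subtype.ext ?_
    show (n : G) * (a : G)⁻¹ * (n : G)⁻¹ * a * ((n : G) * (a : G)⁻¹ * (n : G)⁻¹) *
      ((n : G) * ((n : G) * a * (n : G)⁻¹) * (n : G)⁻¹) = 1
    rw [key, (h a a.2).eq, mul_inv_cancel_right]
    group
  · intro h x hx
    have h1 : (n : G) * x⁻¹ * (n : G)⁻¹ * x * ((n : G) * x⁻¹ * (n : G)⁻¹) *
      ((n : G) * ((n : G) * x * (n : G)⁻¹) * (n : G)⁻¹) = 1 := congrArg Subtype.val (h ⟨x, hx⟩)
    rw [key, mul_eq_one_iff_inv_eq] at h1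
    refine mul_inv_eq_iff_eq_mul.1 (h1.symm.trans ?_)
    group

/-- A group is normalizer `p`-stable iff its fusion system is `p`-stable. -/
theorem isNormalizerPStable_iff (P : Sylow p G) :
    Cfsg.IsNormalizerPStable p G ↔ IsFusionPStable p (P : Subgroup G) := by
  constructor
  · intro h Q hQ χ hχ hquad
    obtain ⟨n, hn⟩ := toAutGroup_surjective (P : Subgroup G) hQ.1 ⟨χ, hχ⟩
    have hn' : (toAutGroup (P : Subgroup G) hQ.1 n : MulAut Q) = χ := congrArg Subtype.val hn
    have h1 := h Q (P.2.to_le hQ.1) n n.2 ((quadratic_iff_aut hQ.1 n).2 (by rw [hn']; exact hquad))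
    exact ⟨_, (mk_mem_iff_toAutGroup _ hQ.1 n).1 h1, hn'⟩
  · intro h R hR g hg hquad
    obtain ⟨S', hS'⟩ := hR.exists_le_sylow
    obtain ⟨u, hu⟩ := MulAction.exists_smul_eq G S' P
    have hR' : R.map (MulAut.conj u).toMonoidHom ≤ (P : Subgroup G) := by
      rw [← hu, Sylow.coe_subgroup_smul, Subgroup.pointwise_smul_def]
      exact Subgroup.map_mono hS'
    obtain ⟨Q, hQc, hQfn⟩ := exists_fullyNormalized (F := groupFusionSystem (P : Subgroup G)) hR'
    obtain ⟨-, -, v, hv⟩ := group_isConj_iff.1 hQc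
    set e := MulAut.conj (v * u) with he
    have hRQ : R.map e.toMonoidHom = Q := by
      rw [← hv, Subgroup.map_map]
      congr 1
      ext x
      simp [he, mul_assoc]
    have hN : (normalizer (R : Set G)).map e.toMonoidHom = normalizer (Q : Set G) :=
      hRQ ▸ normalizer_map_conj R (v * u)
    let f : normalizer (R : Set G) →* normalizer (Q : Set G) :=
      (e.toMonoidHom.comp (normalizer (R : Set G)).subtype).codRestrict _ fun x =>
        hN ▸ mem_map_of_mem e.toMonoidHom x.2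
    have hf : Function.Surjective f := by
      rintro ⟨y, hy⟩
      rw [← hN] at hy
      obtain ⟨x, hx, rfl⟩ := hy
      exact ⟨⟨x, hx⟩, rfl⟩
    have hq : ⁅⁅Q, zpowers ((f ⟨g, hg⟩ : normalizer (Q : Set G)) : G)⁆,
        zpowers ((f ⟨g, hg⟩ : normalizer (Q : Set G)) : G)⁆ = ⊥ := by
      show ⁅⁅Q, zpowers (e.toMonoidHom g)⁆, zpowers (e.toMonoidHom g)⁆ = ⊥
      rw [← hRQ, ← MonoidHom.map_zpowers, ← map_commutator, ← map_commutator, hquad, Subgroup.map_bot]
    obtain ⟨β, hβ, hβe⟩ := h Q hQfn _ (toAutGroup (P : Subgroup G) hQfn.1 (f ⟨g, hg⟩)).2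
      ((quadratic_iff_aut hQfn.1 _).1 hq)
    have h2 := (mk_mem_iff_toAutGroup (p := p) (P : Subgroup G) hQfn.1 (f ⟨g, hg⟩)).2
      ((Subtype.ext hβe : β = _) ▸ hβ)
    refine (CfsgLib.PLocal.mk_mem_pCore_iff_of_surjective f hf _
      ((centralizer (R : Set G)).subgroupOf (normalizer (R : Set G))) ?_ ⟨g, hg⟩).2 h2
    ext x
    rw [Subgroup.mem_comap, mem_subgroupOf, mem_subgroupOf]
    show e x ∈ centralizer (Q : Set G) ↔ _
    rw [show centralizer (Q : Set G) = (centralizer (R : Set G)).map e.toMonoidHom from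
      hRQ ▸ (centralizer_map_conj R (v * u)).symm]
    exact mem_map_iff_mem e.injective

end CfsgLib.Fusion
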