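import Cfsg.Agent.Lib.Fusion.StableBridge
import Cfsg.Agent.Lib.Techniques.StableCentric

/-!
The fusion system of a normalizer `p`-stable group is constrained, for odd `p`.
-/

set_option autoImplicit false

namespace CfsgLib.Fusion

open Cfsg Cfsg.FusionSystem Subgroup

variable {G : Type*} [Group G] [Finite G] {p : ℕ} [Fact p.Prime]

theorem exists_normal_centric_of_stable (hp2 : p ≠ 2) (P : Sylow p G)
    (hst : Cfsg.IsNormalizerPStable p G) :
    ∃ Q : Subgroup G, (groupFusionSystem (P : Subgroup G)).IsNormal Q ∧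
      (groupFusionSystem (P : Subgroup G)).IsCentric Q := by
  obtain ⟨Q, hQP, hPQ, hcen, hctl⟩ := CfsgLib.Techniques.exists_goodIn_of_stable hp2 hst P
  have hnormal : (groupFusionSystem (P : Subgroup G)).IsNormal Q := by
    refine ⟨hQP, fun A φ hφ => ?_⟩
    obtain ⟨hA, hφS, g, hg⟩ := hφ
    obtain ⟨h, hh, c, hc, e⟩ := hctl A hA g (mem_top g) (by
      rintro _ ⟨x, hx, rfl⟩
      have := hφS ⟨x, hx⟩
      rwa [hg] at this)
    have hhN := (mem_inf.1 hh).2
    have hagree : ∀ x ∈ A, h * x * h⁻¹ = g * x * g⁻¹ := fun x hx => by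
      have h1 := mem_centralizer_iff.1 (mem_inf.1 hc).2 x hx
      rw [e]
      calc h * x * h⁻¹ = h * (x * c) * c⁻¹ * h⁻¹ := by group
        _ = h * c * x * (h * c)⁻¹ := by rw [h1]; group
    have hle : A ⊔ Q ≤ (P : Subgroup G).comap (MulAut.conj h).toMonoidHom := by
      refine sup_le (fun x hx => ?_) fun x hx => hQP ((mem_normalizer_iff.1 hhN x).1 hx)
      show h * x * h⁻¹ ∈ (P : Subgroup G)
      rw [hagree x hx]
      have := hφS ⟨x, hx⟩
      rwa [hg] at this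
    refine ⟨conjHom (A ⊔ Q) h, group_conjHom_mem (sup_le hA hQP) fun x hx => hle hx,
      fun x => (hagree x x.2).trans (hg x).symm, ?_⟩
    refine le_antisymm ?_ fun y hy => ?_
    · rintro _ ⟨x, hx, rfl⟩
      exact (mem_normalizer_iff.1 hhN x).1 (mem_subgroupOf.1 hx)
    · have hy' : h⁻¹ * y * h ∈ Q := (mem_normalizer_iff''.1 hhN y).1 hy
      refine ⟨⟨_, (le_sup_right : Q ≤ A ⊔ Q) hy'⟩, hy', ?_⟩
      show h * (h⁻¹ * y * h) * h⁻¹ = y
      group
  refine ⟨Q, hnormal, hQP, fun R hR => ?_⟩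
  have hRQ : R = Q := by
    obtain ⟨φ, hφ, rfl⟩ := hR
    obtain ⟨ψ, -, hψ, hψQ⟩ := hnormal.2 Q φ hφ
    refine le_antisymm ?_ fun y hy => ?_
    · rintro _ ⟨x, rfl⟩
      rw [← hψ x]
      have : ψ (Subgroup.inclusion le_sup_left x) ∈ (Q.subgroupOf (Q ⊔ Q)).map ψ :=
        ⟨_, mem_subgroupOf.2 x.2, rfl⟩
      rwa [hψQ] at this
    · rw [← hψQ] at hy
      obtain ⟨x, hx, rfl⟩ := hy
      exact ⟨⟨x, hx⟩, (hψ ⟨x, hx⟩).symm⟩
  rw [hRQ]
  exact hcen

end CfsgLib.Fusion
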