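import Cfsg.Agent.Lib.Fusion.GroupNormalSub
import Cfsg.Agent.Lib.FusionNormal.Constrained
import Mathlib.GroupTheory.IsSubnormal

/-!
# Constrained fusion systems and subnormal subgroups
-/

namespace CfsgLib.Fusion

open Cfsg Cfsg.FusionSystem

variable {p : ℕ} [Fact p.Prime]

/-- Being constrained passes back along an injective homomorphism. -/
theorem constrained_of_injective {G G' : Type*} [Group G] [Group G'] [Finite G] (j : G →* G')
    (hj : Function.Injective j) (T : Sylow p G) {T' H' : Subgroup G'} (hH : j.range = H')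
    (hT : (T : Subgroup G).map j = T') (hTH : T' ≤ H')
    (h : (fusionSystemOfSubgroup H' T' hTH).IsConstrained p) :
    (groupFusionSystem (T : Subgroup G)).IsConstrained p := by
  obtain ⟨-, Q', hn, hc⟩ := h
  subst hH hT
  set Q := Q'.comap j with hQ
  have hQ' : Q.map j = Q' := Subgroup.map_comap_eq_self (hn.1.trans hTH)
  have hQT : Q ≤ (T : Subgroup G) := fun x hx => by
    obtain ⟨y, hy, hyx⟩ := hn.1 hx
    exact hj hyx ▸ hy
  have hmem : ∀ (P : Subgroup G) (g : G), P ≤ (T : Subgroup G) → (∀ x ∈ P, g * x * g⁻¹ ∈ (T : Subgroup G)) →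
      conjHom (P.map j) (j g) ∈ (fusionSystemOfSubgroup j.range ((T : Subgroup G).map j) hTH).Hom (P.map j) := by
    refine fun P g hP hg => ⟨Subgroup.map_mono hP, ?_, j g, ⟨g, rfl⟩, fun y => rfl⟩
    rintro ⟨_, x, hx, rfl⟩
    exact ⟨g * x * g⁻¹, hg x hx, by simp⟩
  refine ⟨group_saturated T, Q, ⟨hQT, fun P φ hφ => ?_⟩, hQT, fun W hW => ?_⟩
  · obtain ⟨hP, hφT, g, hg⟩ := hφ
    obtain ⟨ψ', hψ', hψe, hψQ⟩ := hn.2 _ _ (hmem P g hP fun x hx => hg ⟨x, hx⟩ ▸ hφT ⟨x, hx⟩)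
    obtain ⟨-, hψT, _, ⟨k, rfl⟩, hk⟩ := hψ'
    have hsup : ∀ x ∈ P ⊔ Q, j x ∈ P.map j ⊔ Q' := fun x hx => by
      rw [← hQ', ← Subgroup.map_sup]; exact ⟨x, hx, rfl⟩
    have hkT : ∀ x ∈ P ⊔ Q, k * x * k⁻¹ ∈ (T : Subgroup G) := by
      intro x hx
      have h1 := hψT ⟨j x, hsup x hx⟩
      rw [hk] at h1
      obtain ⟨y, hy, hye⟩ := h1
      have : y = k * x * k⁻¹ := hj (hye.trans (by simp))
      exact this ▸ hy
    refine ⟨conjHom _ k, group_conjHom_mem (sup_le hP hQT) hkT, fun x => hj ?_, ?_⟩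
    · have h1 := hψe ⟨j x, x, x.2, rfl⟩
      rw [hk] at h1
      simp only [conjHom_apply, Subgroup.coe_inclusion, map_mul, map_inv] at h1 ⊢
      rw [h1, hg, map_mul, map_mul, map_inv]
    · ext y
      rw [mem_map_subgroupOf]
      constructor
      · rintro ⟨x, hx, rfl⟩
        show j (k * (x : G) * k⁻¹) ∈ Q'
        rw [← hψQ]
        refine ⟨⟨j x, hsup x x.2⟩, hx, ?_⟩
        rw [hk]; simp
      · intro hy
        obtain ⟨w, hw, hwe⟩ := hψQ.ge (hy : j y ∈ Q')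
        obtain ⟨x, hx, hxw⟩ := hQ'.ge (hw : (w : G') ∈ Q')
        refine ⟨⟨x, Subgroup.mem_sup_right hx⟩, hx, hj ?_⟩
        rw [← hwe, hk, show ((w : G')) = j x from hxw.symm]
        simp
  · obtain ⟨φ, ⟨-, hφT, g, hg⟩, rfl⟩ := hW
    have h1 := hc.2 _ ⟨_, hQ' ▸ hmem Q g hQT fun x hx => hg ⟨x, hx⟩ ▸ hφT ⟨x, hx⟩, rfl⟩
    intro c hcc
    obtain ⟨hcT, hcC⟩ := mem_centralizerIn.mp hcc
    obtain ⟨⟨_, hw⟩, hwe⟩ := h1 (mem_centralizerIn.mpr ⟨⟨c, hcT, rfl⟩, by
      rintro _ ⟨⟨w, hw⟩, rfl⟩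
      obtain ⟨x, hx, rfl⟩ := hQ'.ge hw
      have h2 := congrArg j (hcC _ ⟨⟨x, hx⟩, rfl⟩)
      rw [hg] at h2
      simpa using h2⟩)
    obtain ⟨x, hx, hxe⟩ := hQ'.ge hw
    refine ⟨⟨x, hx⟩, hj ?_⟩
    rw [hg, ← hwe]
    simp [← hxe]

variable {G : Type*} [Group G] [Finite G]

/-- Subnormal subgroups of groups with constrained fusion have constrained fusion. -/
theorem constrained_of_subnormal (S : Sylow p G)
    (hF : (groupFusionSystem (S : Subgroup G)).IsConstrained p) {H : Subgroup G} (hH : H.IsSubnormal) :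
    ∃ U : Sylow p H, (U : Subgroup H) = (S : Subgroup G).subgroupOf H ∧
      (groupFusionSystem (U : Subgroup H)).IsConstrained p := by
  induction hH with
  | top =>
    obtain ⟨U, hU⟩ := exists_sylow_inf S (⊤ : Subgroup G)
    rw [inf_top_eq] at hU
    refine ⟨U, hU, constrained_of_injective _ Subtype.val_injective U (H' := ⊤) (T' := S)
      (Subgroup.range_subtype _) (by rw [hU, Subgroup.map_subgroupOf_eq_of_le le_top]) le_top ?_⟩
    have he : fusionSystemOfSubgroup (⊤ : Subgroup G) (S : Subgroup G) le_top =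
        groupFusionSystem (S : Subgroup G) := ext_hom fun P => by
      ext φ
      constructor
      · rintro ⟨hP, hφ, g, -, hg⟩; exact ⟨hP, hφ, g, hg⟩
      · rintro ⟨hP, hφ, g, hg⟩; exact ⟨hP, hφ, g, Subgroup.mem_top g, hg⟩
    rw [he]; exact hF
  | step H K hle hK hN ih =>
    obtain ⟨U, hU, hUc⟩ := ih
    haveI := hN
    obtain ⟨V, hV⟩ := exists_sylow_inf U (H.subgroupOf K)
    set W : Sylow p H := V.mapSurjective (f := (Subgroup.subgroupOfEquivOfLe hle).toMonoidHom)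
      (MulEquiv.surjective _) with hW
    have hWe : (W : Subgroup H) = (S : Subgroup G).subgroupOf H := by
      show V.toSubgroup.map _ = _
      rw [hV, hU]
      ext x
      constructor
      · rintro ⟨y, ⟨hy, -⟩, rfl⟩; exact hy
      · intro hx
        exact ⟨⟨⟨x, hle x.2⟩, x.2⟩, ⟨hx, x.2⟩, rfl⟩
    refine ⟨W, hWe, constrained_of_injective (Subgroup.inclusion hle) (Subgroup.inclusion_injective hle) W
      (H' := H.subgroupOf K) (by
        ext x
        exact ⟨fun ⟨y, hy⟩ => hy ▸ y.2, fun hx => ⟨⟨x, hx⟩, rfl⟩⟩) ?_ inf_le_right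
      (FusionNormal.constrained_of_weaklyNormal U.2 hUc (group_normal_subsystem U (H.subgroupOf K)).1)⟩
    rw [hWe, hU]
    ext x
    constructor
    · rintro ⟨y, hy, rfl⟩; exact ⟨hy, y.2⟩
    · rintro ⟨hx, hxH⟩; exact ⟨⟨x, hxH⟩, hx, rfl⟩

end CfsgLib.Fusion
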