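import Cfsg.Agent.Lib.Fusion.ThompsonInner

/-!
# A Frobenius criterion with characteristic subgroups
-/

namespace CfsgLib.Fusion

open Cfsg Cfsg.FusionSystem CfsgLib.FusionFactor

universe u

variable {Ω : Type u} [Group Ω] {S : Subgroup Ω} {F : FusionSystem S} {p : ℕ}

theorem center_subgroupOf (S : Subgroup Ω) :
    (S ⊓ Subgroup.centralizer (S : Set Ω)).subgroupOf S = Subgroup.center S := by
  rw [← charSub_centerW, charSub_subgroupOf]

variable [Finite S] [Fact p.Prime]

theorem characteristic_of_equiv {W : ∀ (Q : Type u) [Group Q], Subgroup Q}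
    (hW : ∀ (Q R : Type u) [Group Q] [Group R] (φ : Q ≃* R), (W Q).map φ.toMonoidHom = W R)
    (S : Subgroup Ω) : ((charSub W S).subgroupOf S).Characteristic := by
  rw [charSub_subgroupOf]
  exact Subgroup.characteristic_iff_map_eq.mpr fun φ => hW _ _ φ

/-- If the automorphism groups of all nontrivial characteristic subgroups are `p`-groups, `F` is inner. -/
theorem le_inner_of_char (hS : IsPGroup p S) (hF : F.IsSaturated p)
    (hfree : CentricFree F p (fun L _ => ThompsonGood p L))
    (h : ∀ Q : Subgroup Ω, Q ≤ S → Q ≠ ⊥ → (Q.subgroupOf S).Characteristic → IsPGroup p (F.autGroup Q)) :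
    F ≤ innerFusionSystem S := by
  suffices H : ∀ (n : ℕ) {Ω : Type u} [Group Ω] {S : Subgroup Ω} [Finite S] (F : FusionSystem S),
      sysSize F < n → IsPGroup p S → F.IsSaturated p → CentricFree F p (fun L _ => ThompsonGood p L) →
      (∀ Q : Subgroup Ω, Q ≤ S → Q ≠ ⊥ → (Q.subgroupOf S).Characteristic → IsPGroup p (F.autGroup Q)) →
      F ≤ innerFusionSystem S from H _ F (Nat.lt_succ_self _) hS hF hfree h
  intro n
  induction n with
  | zero => intro _ _ _ _ F h; omega
  | succ n ih =>
    intro Ω _ S _ F hn hS hF hfree h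
    by_cases hS1 : S = ⊥
    · subst hS1
      intro P φ hφ
      exact ⟨le_S hφ, 1, one_mem _, fun x => by
        rw [Subgroup.mem_bot.mp (apply_mem_S hφ x), Subgroup.mem_bot.mp (le_S hφ x.2)]; group⟩
    -- a characteristic subgroup: either normal in `F` or with inner normalizer
    have key : ∀ (W : ∀ (Q : Type u) [Group Q], Subgroup Q),
        (∀ (Q R : Type u) [Group Q] [Group R] (φ : Q ≃* R), (W Q).map φ.toMonoidHom = W R) →
        ¬ F.IsNormal (charSub W S) →
        ∀ P φ, φ ∈ F.normalizerHom (charSub W S) P → φ ∈ (innerFusionSystem S).Hom P := by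
      intro W hW hnn P φ hφ
      have hSn : S ≤ Subgroup.normalizer (charSub W S : Set Ω) :=
        Subgroup.le_normalizer.trans (charSub_le_normalizer (fun Q R _ _ _ _ => hW Q R) hS)
      have hNX : normalizerIn S (charSub W S) = S := inf_eq_left.mpr hSn
      have hXn : F.IsFullyNormalized (charSub W S) := ⟨charSub_le S, fun R _ => by
        rw [hNX]; exact Subgroup.card_le_of_le normalizerIn_le⟩
      obtain ⟨N, hN⟩ := exists_normalizerSystem (F := F) hXn.1
      have main : ∀ (M : Subgroup Ω) (G : FusionSystem M), M = S → G.IsSaturated p →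
          CentricFree G p (fun L _ => ThompsonGood p L) → (∀ P φ, φ ∈ G.Hom P → φ ∈ F.Hom P) →
          (∃ P φ, φ ∈ F.Hom P ∧ φ ∉ G.Hom P) → ∀ P φ, φ ∈ G.Hom P → φ ∈ (innerFusionSystem S).Hom P := by
        rintro M G rfl hG hGf hsub hne P φ hφ
        have := sysSize_lt_of_sub hsub hne
        refine ih G (by omega) hS hG hGf (fun Q hQ hQ1 hQc => ?_) P hφ
        exact (h Q hQ hQ1 hQc).to_le ((Subgroup.closure_le _).mpr fun α hα => Subgroup.subset_closure (hsub _ _ hα))
      refine main _ N hNX (normalizerSystem_saturated hS hF hXn hN)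
        (centricFree_normalizerSystem (sectionClosed_thompsonGood p) hS hF hfree hXn hN)
        (fun P φ h => ((hN P).le h).1) ?_ P φ ((hN P).ge hφ)
      by_contra hall
      push Not at hall
      exact hnn ⟨charSub_le S, fun P φ hφ => by
        obtain ⟨-, -, -, ψ, hψ, hψe, hψU⟩ := (hN P).le (hall P φ hφ)
        exact ⟨ψ, hψ, hψe, hψU⟩⟩
    by_cases hJn : F.IsNormal (thompsonSubgroupAOf S)
    · have hJS : thompsonSubgroupAOf S ≤ S := Subgroup.map_subtype_le _
      set J := thompsonSubgroupAOf S with hJdef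
      have hJc : centralizerIn S J ≤ J := by
        intro c hc
        obtain ⟨A, hA⟩ := exists_maxAbelian ↥S
        have hcc : ∀ a ∈ A, a * (⟨c, hc.1⟩ : S) = ⟨c, hc.1⟩ * a := fun a ha =>
          Subtype.ext ((mem_centralizerIn.mp hc).2 _ ⟨a, le_sSup hA ha, rfl⟩)
        have : IsMulCommutative A := hA.1
        have hAc : A ⊔ Subgroup.zpowers (⟨c, hc.1⟩ : S) ≤
            Subgroup.centralizer ((A ⊔ Subgroup.zpowers (⟨c, hc.1⟩ : S) : Subgroup S) : Set S) := by
          have h1 : A ⊔ Subgroup.zpowers (⟨c, hc.1⟩ : S) ≤ Subgroup.centralizer (A : Set S) :=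
            sup_le (fun a ha b hb => setLike_mul_comm (S := Subgroup S) hb ha)
              (Subgroup.zpowers_le.mpr fun a ha => hcc a ha)
          have h2 : A ⊔ Subgroup.zpowers (⟨c, hc.1⟩ : S) ≤
              Subgroup.centralizer (Subgroup.zpowers (⟨c, hc.1⟩ : S) : Set S) :=
            sup_le (Subgroup.le_centralizer_iff.mp (le_sup_right.trans h1))
              (fun a ha b hb => setLike_mul_comm (S := Subgroup S) hb ha)
          exact sup_le (Subgroup.le_centralizer_iff.mp h1) (Subgroup.le_centralizer_iff.mp h2)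
        have hcomm : IsMulCommutative ↥(A ⊔ Subgroup.zpowers (⟨c, hc.1⟩ : S)) :=
          ⟨⟨fun x y => Subtype.ext (Subgroup.mem_centralizer_iff.mp (hAc y.2) x x.2)⟩⟩
        refine ⟨⟨c, hc.1⟩, le_sSup hA ?_, rfl⟩
        rw [Subgroup.eq_of_le_of_card_ge le_sup_left (hA.2 _ hcomm)]
        exact Subgroup.mem_sup_right (Subgroup.mem_zpowers _)
      have := finite_of_le hJS
      have hJcentric : F.IsCentric J := ⟨hJS, fun P hP => by
        obtain ⟨φ, hφ, rfl⟩ := hP
        rw [range_eq_of_card_le hφ hJS
          (fun q => (IsNormal.stronglyClosed hJn).2 J le_rfl _ hφ q) le_rfl]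
        exact hJc⟩
      have hSJ := le_normalizer_of_isNormal hJn
      have hNJ : normalizerIn S J = S := inf_eq_left.mpr hSJ
      have hJfn : F.IsFullyNormalized J := ⟨hJS, fun R _ => by
        rw [hNJ]; exact Subgroup.card_le_of_le normalizerIn_le⟩
      obtain ⟨N, hN⟩ := exists_normalizerSystem (F := F) hJS
      obtain ⟨L, _, ι, hL⟩ := exists_model_normalizer hS hF hJfn hJcentric hN
      have := hL.1
      have := finite_of_le (normalizerIn_le (S := S) (P := J))
      have hMp : IsPGroup p (normalizerIn S J) := hS.to_le normalizerIn_le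
      obtain ⟨hJN, hJNc⟩ := normal_centric_in_normalizerSystem hJS hJcentric hN
      obtain ⟨f, hf⟩ := exists_model_action hL hJN
      have hJ1 : J ≠ ⊥ := charSub_ne_bot (W := thompsonW) (fun Q _ _ => thompsonW_ne_bot Q) hS hS1
      have hApg := h J hJS hJ1 (characteristic_of_equiv thompsonW_equiv S)
      have hfr : IsPGroup p f.range :=
        (hApg.to_le (autGroup_normalizerSystem hJS hN).le).to_subgroup _
      have hfk : IsPGroup p f.ker := by
        refine ((hMp.to_subgroup (J.subgroupOf (normalizerIn S J))).map ι).to_le fun l hl => ?_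
        refine model_centralizer_le hMp hL hJN hJNc (Subgroup.mem_centralizer_iff.mpr ?_)
        rintro _ ⟨⟨r, hrT⟩, hr, rfl⟩
        have h := hf l ⟨r, hr⟩
        rw [show ((f l : N.autGroup J) : MulAut J) = 1 from congrArg Subtype.val (MonoidHom.mem_ker.mp hl)] at h
        exact (mul_inv_eq_iff_eq_mul.mp h.symm).symm
      have hLp : IsPGroup p (⊤ : Subgroup L) := by
        rw [← Subgroup.comap_top f.rangeRestrict]
        refine IsPGroup.comap_of_ker_isPGroup ?_ _ ?_
        · exact hfr.to_subgroup ⊤
        · rw [MonoidHom.ker_rangeRestrict]; exact hfk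
      obtain ⟨T₀, hT₀⟩ := hL.2.2.1
      intro P φ hφ
      obtain ⟨ψ, hψ, hψe, hψJ⟩ := hJn.2 P φ hφ
      have hφN : φ ∈ N.Hom P := (hN P).ge
        ⟨hφ, hNJ.symm ▸ le_S hφ, fun x => hNJ.symm ▸ apply_mem_S hφ x, ψ, hψ, hψe, hψJ⟩
      obtain ⟨l, hl⟩ := realized_conj hL.2.1 hφN
      obtain ⟨⟨s, hsT⟩, hs⟩ : l ∈ ι.range := by
        rw [← hT₀, ← T₀.is_maximal' hLp le_top]; exact Subgroup.mem_top l
      refine ⟨le_S hφ, s, normalizerIn_le hsT, fun x => ?_⟩
      have h := hl x
      rw [← hs, ← map_inv, ← map_mul, ← map_mul] at h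
      exact congrArg Subtype.val (hL.2.1.1 h)
    · set Z := S ⊓ Subgroup.centralizer (S : Set Ω) with hZdef
      have hZS : Z ≤ S := inf_le_left
      by_cases hZn : F.IsNormal Z
      · have hZ1 : Z ≠ ⊥ := by
          rw [hZdef, ← charSub_centerW]
          exact charSub_ne_bot (fun Q _ _ => centerW_ne_bot Q) hS hS1
        have hZch : (Z.subgroupOf S).Characteristic := by
          rw [hZdef, center_subgroupOf]; infer_instance
        have hZp := h Z hZS hZ1 hZch
        have := finite_of_le hZS
        have hSn := le_normalizer_of_isNormal hZn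
        have hZfn : F.IsFullyNormalized Z := ⟨hZS, fun R _ => by
          rw [show normalizerIn S Z = S from inf_eq_left.mpr hSn]; exact Subgroup.card_le_of_le normalizerIn_le⟩
        have haut : ∀ a ∈ F.autGroup Z, a ∈ autInducedBy S Z := by
          intro a ha
          obtain ⟨-, T, hT⟩ := (fullyNormalized_good hS hF hZfn).1
          have := finite_mulAut hZS
          refine hT.le (show (⟨a, ha⟩ : F.autGroup Z) ∈ (T : Subgroup (F.autGroup Z)) from ?_)
          rw [← T.is_maximal' (hZp.to_subgroup ⊤) le_top]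
          exact Subgroup.mem_top _
        have hne : ∀ P φ, φ ∈ F.Hom P → φ ∈ extHom F Z (autInducedBy S Z) S P := by
          intro P φ hφ
          obtain ⟨ψ, hψ, hψe, hψZ⟩ := hZn.2 P φ hφ
          obtain ⟨χ, hχ, hχr, hχe⟩ := exists_restrict hψ le_sup_right hψZ
          obtain ⟨κ, hκ, hκe⟩ := exists_aut hχ hχr
          exact ⟨hφ, le_S hφ, apply_mem_S hφ, ψ, hψ, hψe, κ, haut κ hκ, fun x => ((hκe x).trans (hχe x)).symm⟩
        have hQn : (Z.subgroupOf S).Normal :=
          (Subgroup.normal_subgroupOf_iff_le_normalizer hZS).mpr hSn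
        let θ : S →* S ⧸ Z.subgroupOf S := QuotientGroup.mk' _
        have hk : ∀ s : S, θ s = 1 ↔ (s : Ω) ∈ Z := fun s => QuotientGroup.eq_one_iff s
        have hA := IsNormal.stronglyClosed hZn
        have hE' := factorSystem_isFactorSystem (θ := θ) hk hA
        have : Finite θ.range := Finite.of_surjective _ θ.rangeRestrict_surjective
        have hθp : IsPGroup p θ.range := hS.of_surjective _ θ.rangeRestrict_surjective
        have hlt := sysSize_factor_lt hE' hZ1
        refine le_inner_of_quotient hS hF hZn hne hE' (ih (factorSystem F θ Z hk hA) (by omega) hθp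
          (isSaturated_factor hS hF hA hE')
          (centricFree_factor (sectionClosed_thompsonGood p).quot hS hF hZn hE' hfree) ?_)
        intro Q' hQ' hQ'1 hQ'c
        have hVS : preimageAlong θ Q' ≤ S := preimageAlong_le _
        have := finite_of_le hVS
        have hV1 : preimageAlong θ Q' ≠ ⊥ := fun e =>
          hZ1 (le_bot_iff.mp ((kernel_le_preimageAlong hk hZS Q').trans e.le))
        have hVc : ((preimageAlong θ Q').subgroupOf S).Characteristic := by
          have hsub : (preimageAlong θ Q').subgroupOf S = Q'.comap θ :=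
            Subgroup.comap_map_eq_self_of_injective S.subtype_injective _
          rw [hsub, Subgroup.characteristic_iff_map_le]
          rintro α _ ⟨s, hs, rfl⟩
          let g := θ.rangeRestrict.liftOfSurjective θ.rangeRestrict_surjective
            ⟨θ.rangeRestrict.comp α.toMonoidHom, fun x hx => by
              rw [MonoidHom.mem_ker] at hx ⊢
              have hxZ : x ∈ Z.subgroupOf S := (hk x).mp (congrArg Subtype.val hx)
              have hα : α x ∈ Z.subgroupOf S := by
                rw [← Subgroup.characteristic_iff_map_eq.mp hZch α]; exact ⟨x, hxZ, rfl⟩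
              exact Subtype.ext ((hk (α x)).mpr hα)⟩
          have hg : ∀ x, g (θ.rangeRestrict x) = θ.rangeRestrict (α x) := fun x =>
            MonoidHom.liftOfRightInverse_comp_apply _ _ _ _ x
          have hgs : Function.Surjective g := fun y => by
            obtain ⟨x, rfl⟩ := θ.rangeRestrict_surjective y
            exact ⟨θ.rangeRestrict (α.symm x), by rw [hg, α.apply_symm_apply]⟩
          have hgb : Function.Bijective g := ⟨Finite.injective_iff_surjective.mpr hgs, hgs⟩
          have hm : g (θ.rangeRestrict s) ∈ Q'.subgroupOf θ.range := by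
            rw [← Subgroup.characteristic_iff_map_eq.mp hQ'c (MulEquiv.ofBijective g hgb)]
            exact ⟨_, hs, rfl⟩
          rw [hg] at hm
          exact hm
        have hVp := h _ hVS hV1 hVc
        rintro ⟨a, ha⟩
        obtain ⟨ψ, hψ, hP, hψS, hm, e⟩ :=
          ((hE'.2.2.2 _ _).mp ((mem_autGroup hQ').mp ha)).2
        obtain ⟨b, hb, hbe⟩ := exists_aut hψ (range_eq_of_card_le hψ hVS (fun x => by
          refine mem_preimageAlong.mpr ⟨hψS x, ?_⟩
          rw [← e x]
          exact Subtype.prop _) le_rfl)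
        obtain ⟨k, hk'⟩ := hVp ⟨b, hb⟩
        have hiter : ∀ (j : ℕ) (x : preimageAlong θ Q'),
            (((a ^ j) ⟨θ ⟨x, hP x.2⟩, hm x⟩ : Q') : S ⧸ Z.subgroupOf S) =
              θ ⟨(((b ^ j) x : preimageAlong θ Q') : Ω), hP ((b ^ j) x).2⟩ := by
          intro j
          induction j with
          | zero => intro x; rfl
          | succ j ihj =>
            intro x
            have hj : (a ^ j) ⟨θ ⟨x, hP x.2⟩, hm x⟩ =
                ⟨θ ⟨(((b ^ j) x : preimageAlong θ Q') : Ω), hP ((b ^ j) x).2⟩, hm ((b ^ j) x)⟩ :=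
              Subtype.ext (ihj x)
            rw [pow_succ', pow_succ', MulAut.mul_apply, hj]
            exact (e ((b ^ j) x)).trans (congrArg θ (Subtype.ext (hbe _).symm))
        refine ⟨k, Subtype.ext (MulEquiv.ext fun y => Subtype.ext ?_)⟩
        obtain ⟨x, hxS, hxP, hxe⟩ := exists_preimage hQ' y
        rw [show y = ⟨θ ⟨x, hP hxP⟩, hm ⟨x, hxP⟩⟩ from Subtype.ext hxe.symm]
        have hb1 : b ^ p ^ k = 1 := congrArg Subtype.val hk'
        have h2 := hiter (p ^ k) ⟨x, hxP⟩
        rw [hb1] at h2
        exact h2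
      · refine le_inner_thompson hS hF hfree (fun P φ hφ => ?_) (key thompsonW thompsonW_equiv hJn)
        have hk' := key centerW centerW_equiv (by rw [charSub_centerW]; exact hZn) P φ
        rw [charSub_centerW] at hk'
        exact hk' (locHom_subset_normalizer (X := Z) false hφ)

end CfsgLib.Fusion
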