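import Cfsg.Agent.Lib.Fusion.Transfer
import Mathlib.GroupTheory.Index

/-!
# The transfer of Thompson type for fusion systems
-/

namespace CfsgLib.Fusion.ThompsonTransfer

open Cfsg Cfsg.FusionSystem CfsgLib.Fusion CfsgLib.Fusion.Marks CfsgLib.Fusion.Twist MulAction

universe u

variable {Ω : Type u} [Group Ω] {S : Subgroup Ω} {F : FusionSystem S}

theorem hyperfocal_le_focal (F : FusionSystem S) (p : ℕ) :
    F.hyperfocalSubgroup p ≤ F.focalSubgroup := by
  rw [FusionSystem.hyperfocalSubgroup, Subgroup.closure_le]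
  rintro _ ⟨P, α, x, hP, -, rfl⟩
  exact Subgroup.subset_closure ⟨P, _, x, (mem_autGroup hP).mp α.2, rfl⟩

theorem zpowers_map_range {x y : Ω} {φ : Subgroup.zpowers x →* Ω}
    (h : φ ⟨x, Subgroup.mem_zpowers x⟩ = y) : φ.range = Subgroup.zpowers y := by
  apply le_antisymm
  · rintro _ ⟨⟨z, n, rfl⟩, rfl⟩
    refine ⟨n, ?_⟩
    show y ^ n = φ _
    rw [← h, ← map_zpow]
    exact apply_eq_of_coe_eq (by rw [Subgroup.coe_zpow])
  · rw [Subgroup.zpowers_le]; exact ⟨_, h⟩

/-- `C_S(x) = N_S(⟨x⟩)` for an involution. -/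
theorem normalizerIn_zpowers {x : Ω} (hx : orderOf x = 2) :
    normalizerIn S (Subgroup.zpowers x) = centralizerIn S (Subgroup.zpowers x) := by
  refine le_antisymm (fun g hg => ⟨hg.1, ?_⟩) centralizerIn_le_normalizerIn
  have hm : g * x * g⁻¹ ∈ Subgroup.zpowers x :=
    (Subgroup.mem_normalizer_iff.mp hg.2 x).mp (Subgroup.mem_zpowers x)
  have hx2 : x ^ (2 : ℤ) = 1 := by
    rw [show (2 : ℤ) = ((2 : ℕ) : ℤ) from rfl, zpow_natCast, ← hx, pow_orderOf_eq_one]
  have he : g * x * g⁻¹ = x := by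
    obtain ⟨n, hn⟩ := hm
    have hn' : g * x * g⁻¹ = x ^ n := hn.symm
    rcases Int.even_or_odd n with ⟨k, rfl⟩ | ⟨k, rfl⟩
    · rw [← two_mul, zpow_mul, hx2, one_zpow, mul_inv_eq_one, mul_eq_left] at hn'
      rw [hn'] at hx; simp at hx
    · rw [zpow_add_one, zpow_mul, hx2, one_zpow, one_mul] at hn'
      exact hn'
  refine Subgroup.mem_centralizer_iff.mpr ?_
  rintro _ ⟨n, rfl⟩
  exact ((Commute.zpow_right (show Commute g x from mul_inv_eq_iff_eq_mul.mp he) n).eq).symm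

variable [Finite S] {p : ℕ} (B : StableBiset F p)

/-- For a set `D` of conjugates of `j`, the incidence count. -/
theorem incidence_count (j : S) (D : Set S) (hD : ∀ b c : S, c ∈ D → b * c * b⁻¹ ∈ D)
    (hDc : ∀ c ∈ D, F.IsConjElt (j : Ω) (c : Ω)) :
    {o : B.Orb | B.perm j o = o ∧ B.coeff j o ∈ D}.ncard * Nat.card S =
      mark (diag S (Subgroup.zpowers (j : Ω))) B.X * D.ncard := by
  set m := mark (diag S (Subgroup.zpowers (j : Ω))) B.X
  have hE : ∀ c ∈ D, Nat.card {x : B.X // ((j, c) : ↥S × ↥S) • x = x} = m := by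
    intro c hc
    obtain ⟨φ, hφ, hφj⟩ := hDc c hc
    have hz : Subgroup.zpowers (j : Ω) ≤ S := le_S hφ
    rw [show m = mark (twist S (Subgroup.zpowers (j : Ω)).subtype φ) B.X from
      (B.stable _ _ _ (subtype_mem hz) hφ).symm]
    refine Nat.card_congr (Equiv.subtypeEquivRight fun x => ⟨fun hx k hk => ?_, fun hx => ?_⟩)
    · obtain ⟨⟨y, n, rfl⟩, hy₁, hy₂⟩ := hk
      have : k = ((j, c) : ↥S × ↥S) ^ n := by
        refine Prod.ext (Subtype.ext ?_) (Subtype.ext ?_)
        · rw [hy₁]; simp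
        · rw [hy₂, show ((((j, c) : ↥S × ↥S) ^ n).2 : S) = c ^ n from rfl, Subgroup.coe_zpow, ← hφj,
            ← map_zpow]
          exact apply_eq_of_coe_eq (by rw [Subgroup.coe_zpow])
      rw [this]
      exact (MulAction.mem_stabilizer_iff.mp (zpow_mem (show ((j, c) : ↥S × ↥S) ∈ stabilizer (↥S × ↥S) x from hx) n))
    · exact hx (j, c) ⟨⟨j, Subgroup.mem_zpowers _⟩, rfl, hφj.symm⟩
  have e1 : Nat.card (Σ c : D, {x : B.X // ((j, (c : S)) : ↥S × ↥S) • x = x}) = m * D.ncard := by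
    have : Fintype D := Fintype.ofFinite D
    rw [Nat.card_sigma, Finset.sum_congr rfl (fun (c : {c : S // c ∈ D}) _ => hE c.1 c.2), Finset.sum_const, Finset.card_univ,
      smul_eq_mul, ← Nat.card_eq_fintype_card, Nat.card_coe_set_eq, mul_comm]
  rw [← e1, ← Nat.card_coe_set_eq, ← Nat.card_prod]
  have hmap : ∀ q : {o : B.Orb | B.perm j o = o ∧ B.coeff j o ∈ D} × S,
      ((j, q.2 * B.coeff j q.1.1 * q.2⁻¹) : ↥S × ↥S) • ((1, q.2) : ↥S × ↥S) • B.pt q.1.1 =
        ((1, q.2) : ↥S × ↥S) • B.pt q.1.1 := by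
    rintro ⟨⟨o, ho, -⟩, b⟩
    simp only [smul_smul, Prod.mk_mul_mk, mul_one, inv_mul_cancel_right]
    conv_rhs => arg 2; rw [← ho, ← B.coeff_spec]
    rw [smul_smul, Prod.mk_mul_mk, one_mul]
  refine Nat.card_congr (Equiv.ofBijective
    (fun q => ⟨⟨q.2 * B.coeff j q.1.1 * q.2⁻¹, hD _ _ q.1.2.2⟩, ⟨_, hmap q⟩⟩) ⟨?_, ?_⟩)
  · rintro ⟨⟨o, ho⟩, b⟩ ⟨⟨o', ho'⟩, b'⟩ h
    have h2 : ((1, b) : ↥S × ↥S) • B.pt o = ((1, b') : ↥S × ↥S) • B.pt o' :=
      congrArg (fun z : Σ c : D, {x : B.X // ((j, (c : S)) : ↥S × ↥S) • x = x} => z.2.1) h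
    have ho2 : o = o' := by simpa [StableBiset.orb_smul] using congrArg B.orb h2
    subst ho2
    exact Prod.ext rfl (B.right_injective h2)
  · rintro ⟨⟨c, hc⟩, x, hx⟩
    obtain ⟨b, hb⟩ := B.exists_right x
    have h1 : ((j, b * c * b⁻¹) : ↥S × ↥S) • B.pt (B.orb x) = B.pt (B.orb x) := by
      rw [← hb, smul_smul, Prod.mk_mul_mk, inv_mul_cancel_right, mul_one]
      conv_rhs => rw [← hx, smul_smul, Prod.mk_mul_mk, one_mul]
    obtain ⟨hp1, hp2⟩ := B.coeff_eq h1
    refine ⟨⟨⟨B.orb x, hp1, by rw [hp2]; exact hD b c hc⟩, b⁻¹⟩, ?_⟩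
    have hcc : b⁻¹ * B.coeff j (B.orb x) * b⁻¹⁻¹ = c := by rw [hp2]; simp [mul_assoc]
    refine Sigma.subtype_ext (Subtype.ext hcc) ?_
    show ((1, b⁻¹) : ↥S × ↥S) • B.pt (B.orb x) = x
    rw [← hb, smul_smul, Prod.mk_mul_mk, one_mul, inv_mul_cancel, Prod.mk_one_one, one_smul]

/-- `|C_S(j)|` divides the mark of the diagonal of `⟨j⟩`. -/
theorem card_centralizer_dvd_mark (j : S) :
    Nat.card (centralizerIn S (Subgroup.zpowers (j : Ω))) ∣
      mark (diag S (Subgroup.zpowers (j : Ω))) B.X := by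
  set C := centralizerIn S (Subgroup.zpowers (j : Ω))
  let E := fixSet (diag S (Subgroup.zpowers (j : Ω))) B.X
  have hinv : ∀ (g : C) (x : B.X), x ∈ E →
      ((1, ⟨(g : Ω), g.2.1⟩) : ↥S × ↥S) • x ∈ E := by
    intro g x hx k hk
    have hcomm : k * ((1, ⟨(g : Ω), g.2.1⟩) : ↥S × ↥S) = (1, ⟨(g : Ω), g.2.1⟩) * k := by
      obtain ⟨y, -, hy₂⟩ := hk
      refine Prod.ext (by simp) (Subtype.ext ?_)
      show (k.2 : Ω) * (g : Ω) = (g : Ω) * (k.2 : Ω)
      rw [hy₂]
      exact Subgroup.mem_centralizer_iff.mp g.2.2 _ y.2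
    rw [← mul_smul, hcomm, mul_smul, hx k hk]
  let act : MulAction C E :=
    { smul := fun g x => ⟨_, hinv g x x.2⟩
      one_smul := fun x => Subtype.ext (show ((1, _) : ↥S × ↥S) • (x : B.X) = x by
        conv_rhs => rw [← one_smul (↥S × ↥S) (x : B.X)]
        rfl)
      mul_smul := fun g g' x => Subtype.ext (show ((1, _) : ↥S × ↥S) • (x : B.X) = _ from by
        show _ = ((1, ⟨(g : Ω), g.2.1⟩) : ↥S × ↥S) • ((1, ⟨(g' : Ω), g'.2.1⟩) : ↥S × ↥S) • (x : B.X)
        rw [smul_smul, Prod.mk_mul_mk, one_mul]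
        rfl) }
  have hfree : ∀ x : E, stabilizer C x = ⊥ := by
    intro x
    rw [eq_bot_iff]
    intro g hg
    have h := B.eq_one_of_fix (congrArg Subtype.val hg)
    exact Subgroup.mem_bot.mpr (Subtype.ext (congrArg (fun s : S => (s : Ω)) h))
  have := finite_of_le (centralizerIn_le (S := S) (P := Subgroup.zpowers (j : Ω)))
  have e := MulAction.selfEquivSigmaOrbitsQuotientStabilizer C E
  have hm : mark (diag S (Subgroup.zpowers (j : Ω))) B.X = Nat.card E := rfl
  rw [hm, Nat.card_congr e]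
  have : Fintype (MulAction.orbitRel.Quotient C E) := Fintype.ofFinite _
  rw [Nat.card_sigma]
  refine Finset.dvd_sum fun o _ => ?_
  rw [hfree]
  exact dvd_of_eq (Nat.card_congr (QuotientGroup.quotientBot (G := C)).toEquiv).symm

/-- A union of classes of conjugates with smaller centralizers. -/
theorem two_mul_card_dvd (hS : IsPGroup 2 S) (j : S) (D : Set S)
    (hD : ∀ b c : S, c ∈ D → b * c * b⁻¹ ∈ D)
    (hlt : ∀ c ∈ D, Nat.card (centralizerIn S (Subgroup.zpowers (c : Ω))) <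
      Nat.card (centralizerIn S (Subgroup.zpowers (j : Ω)))) :
    2 * Nat.card S ∣ Nat.card (centralizerIn S (Subgroup.zpowers (j : Ω))) * D.ncard := by
  let act : MulAction (ConjAct S) D :=
    { smul := fun g c => ⟨ConjAct.ofConjAct g * c * (ConjAct.ofConjAct g)⁻¹, hD _ _ c.2⟩
      one_smul := fun c => Subtype.ext (show (1 : S) * c * (1 : S)⁻¹ = c by simp)
      mul_smul := fun g g' c => Subtype.ext (show (ConjAct.ofConjAct g * ConjAct.ofConjAct g') * c * _⁻¹ =
        ConjAct.ofConjAct g * (ConjAct.ofConjAct g' * c * (ConjAct.ofConjAct g')⁻¹) * _ by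
          simp [mul_assoc]) }
  have : Finite D := Subtype.finite
  rw [← Nat.card_coe_set_eq, Nat.card_congr (MulAction.selfEquivSigmaOrbitsQuotientStabilizer (ConjAct S) D)]
  have : Fintype (MulAction.orbitRel.Quotient (ConjAct S) D) := Fintype.ofFinite _
  have : Finite (ConjAct S) := Finite.of_equiv S ConjAct.toConjAct.toEquiv
  rw [Nat.card_sigma, Finset.mul_sum]
  refine Finset.dvd_sum fun o _ => ?_
  set c : D := o.out
  have hst : Nat.card (stabilizer (ConjAct S) c) = Nat.card (centralizerIn S (Subgroup.zpowers ((c : S) : Ω))) := by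
    refine Nat.card_congr ⟨fun g => ⟨((ConjAct.ofConjAct (g : ConjAct S) : S) : Ω),
      (ConjAct.ofConjAct (g : ConjAct S)).2, ?_⟩,
      fun g => ⟨ConjAct.toConjAct ⟨(g : Ω), g.2.1⟩, ?_⟩, fun _ => rfl, fun _ => rfl⟩
    · refine Subgroup.mem_centralizer_iff.mpr ?_
      rintro _ ⟨n, rfl⟩
      have h : ConjAct.ofConjAct (g : ConjAct S) * (c : S) * (ConjAct.ofConjAct (g : ConjAct S))⁻¹ = c :=
        congrArg Subtype.val g.2
      have h2 : Commute ((ConjAct.ofConjAct (g : ConjAct S) : S) : Ω) ((c : S) : Ω) :=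
        congrArg Subtype.val (mul_inv_eq_iff_eq_mul.mp h)
      exact ((h2.zpow_right n).eq).symm
    · refine Subtype.ext (Subtype.ext ?_)
      show (g : Ω) * ((c : S) : Ω) * (g : Ω)⁻¹ = _
      rw [← Subgroup.mem_centralizer_iff.mp g.2.2 _ (Subgroup.mem_zpowers _), mul_inv_cancel_right]
  have := finite_of_le (centralizerIn_le (S := S) (P := Subgroup.zpowers ((c : S) : Ω)))
  have := finite_of_le (centralizerIn_le (S := S) (P := Subgroup.zpowers (j : Ω)))
  obtain ⟨a, ha⟩ := IsPGroup.iff_card.mp (hS.to_le (centralizerIn_le (S := S) (P := Subgroup.zpowers ((c : S) : Ω))))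
  obtain ⟨b, hb⟩ := IsPGroup.iff_card.mp (hS.to_le (centralizerIn_le (S := S) (P := Subgroup.zpowers (j : Ω))))
  have hab : a < b := by
    have := hlt c c.2
    rw [ha, hb] at this
    exact (Nat.pow_lt_pow_iff_right (by norm_num)).mp this
  have hidx := (stabilizer (ConjAct S) c).card_mul_index
  rw [hst, ha, Subgroup.index, show Nat.card (ConjAct S) = Nat.card S from
    Nat.card_congr ConjAct.ofConjAct.toEquiv] at hidx
  rw [hb, ← hidx, ← mul_assoc]
  exact Nat.mul_dvd_mul_right (by rw [← pow_succ']; exact Nat.pow_dvd_pow 2 hab) _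

/-- An involution all of whose fully normalized conjugates avoid a subgroup of index two lies
outside the focal subgroup. -/
theorem not_mem_focal (hS : IsPGroup 2 S) (hF : F.IsSaturated 2) (T : Subgroup Ω)
    (hT : T.relIndex S = 2) (i : Ω) (hi : i ∈ S) (hi2 : orderOf i = 2)
    (h : ∀ j : Ω, F.IsConjElt i j → F.IsFullyNormalized (Subgroup.zpowers j) → j ∉ T) :
    i ∉ F.focalSubgroup := by
  classical
  have : Fact (Nat.Prime 2) := ⟨Nat.prime_two⟩
  obtain ⟨B⟩ := exists_biset hS hF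
  have hT2 : (T.subgroupOf S).index = 2 := hT
  let χ : S →* ℤˣ :=
    { toFun := fun a => if (a : Ω) ∈ T then 1 else -1
      map_one' := by simp [T.one_mem]
      map_mul' := fun a b => by
        have := Subgroup.mul_mem_iff_of_index_two hT2 (a := a) (b := b)
        simp only [Subgroup.mem_subgroupOf, Subgroup.coe_mul] at this
        by_cases ha : (a : Ω) ∈ T <;> by_cases hb : (b : Ω) ∈ T <;> simp [this, ha, hb] }
  obtain ⟨Q, ⟨φ, hφ, hφQ⟩, hQn⟩ := exists_fullyNormalized (F := F) ((Subgroup.zpowers_le).mpr hi)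
  set j : S := ⟨φ ⟨i, Subgroup.mem_zpowers i⟩, apply_mem_S hφ _⟩ with hj
  have hQj : Q = Subgroup.zpowers (j : Ω) := by rw [← hφQ, zpowers_map_range rfl]
  subst hQj
  have hj2 : orderOf (j : Ω) = 2 := by
    show orderOf (φ ⟨i, Subgroup.mem_zpowers i⟩) = 2
    rw [orderOf_injective φ (F.injective_of_mem hφ), ← hi2, ← Subgroup.orderOf_coe]
  intro hmem
  have hker := B.focalSubgroup_subgroupOf_le_ker χ (x := ⟨i, hi⟩) hmem
  rw [MonoidHom.mem_ker, ← B.transfer_stable χ hφ ⟨i, Subgroup.mem_zpowers i⟩] at hker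
  have : Fintype B.Orb := Fintype.ofFinite _
  change B.transfer χ j = 1 at hker
  rw [B.transfer_apply] at hker
  have hjj : j * j = 1 := by
    apply Subtype.ext
    rw [Subgroup.coe_mul, Subgroup.coe_one, ← pow_two, ← hj2, pow_orderOf_eq_one]
  have hinv : Function.Involutive (B.perm j) := fun o => by
    rw [← (B.perm_mul j j o).1, hjj, (B.perm_one o).1]
  have hpair : ∀ o, χ (B.coeff j (B.perm j o)) * χ (B.coeff j o) = 1 := fun o => by
    rw [← map_mul, ← (B.perm_mul j j o).2, hjj, (B.perm_one o).2, map_one]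
  rw [← Finset.prod_filter_mul_prod_filter_not Finset.univ (fun o => B.perm j o = o)] at hker
  have hmove : ∏ o ∈ Finset.univ.filter (fun o => ¬ B.perm j o = o), χ (B.coeff j o) = 1 := by
    refine Finset.prod_involution (fun o _ => B.perm j o) (fun o _ => ?_) (fun o ho _ => (Finset.mem_filter.mp ho).2)
      (fun o ho => ?_) (fun o _ => hinv o)
    · rw [mul_comm]; exact hpair o
    · simp only [Finset.mem_filter, Finset.mem_univ, true_and, hinv o] at ho ⊢
      exact fun he => ho he.symm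
  rw [hmove, mul_one] at hker
  -- conjugates inside `T`
  let D : Set S := {c | F.IsConjElt (j : Ω) (c : Ω) ∧ (c : Ω) ∈ T}
  have hij : ∀ {c : Ω}, F.IsConjElt (j : Ω) c → F.IsConjElt i c := by
    rintro c ⟨φ', hφ', hc⟩
    obtain ⟨χ', hχ', hχe⟩ := exists_comp hφ hφ' fun x => hφQ.le ⟨x, rfl⟩
    exact ⟨χ', hχ', by rw [hχe]; exact hc⟩
  have hTn : (T.subgroupOf S).Normal := Subgroup.normal_of_index_eq_two hT2
  have hD : ∀ b c : S, c ∈ D → b * c * b⁻¹ ∈ D := by
    rintro b c ⟨⟨φ', hφ', hc⟩, hcT⟩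
    obtain ⟨χ', hχ', hχe⟩ := exists_conj_comp hφ' b.2
    exact ⟨⟨χ', hχ', by rw [hχe, hc]; rfl⟩, hTn.conj_mem c hcT b⟩
  have hfixT : ∀ o, B.perm j o = o → F.IsConjElt (j : Ω) (B.coeff j o : Ω) := by
    intro o ho
    have hs := B.coeff_spec j o
    rw [ho] at hs
    obtain ⟨P, ψ, hψ, φ', hφ', he⟩ := B.isTw_stab (B.pt o)
    obtain ⟨x, hx₁, hx₂⟩ := he.le hs
    obtain ⟨ψ', hψ', hψ'r, hψ₁, -⟩ := exists_inv hψ rfl
    obtain ⟨μ, hμ, hμe⟩ := exists_comp hψ' hφ' fun y => hψ'r.le ⟨y, rfl⟩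
    have hle : Subgroup.zpowers (j : Ω) ≤ ψ.range := (Subgroup.zpowers_le).mpr ⟨x, hx₁.symm⟩
    refine ⟨_, restrict_mem hle hμ, ?_⟩
    show μ _ = _
    rw [hμe, hx₂]
    exact congrArg φ' (Subtype.ext ((apply_eq_of_coe_eq (show (j : Ω) = ψ x from hx₁)).trans (hψ₁ x ⟨x, rfl⟩)))
  have hlt : ∀ c ∈ D, Nat.card (centralizerIn S (Subgroup.zpowers (c : Ω))) <
      Nat.card (centralizerIn S (Subgroup.zpowers (j : Ω))) := by
    rintro c ⟨hc, hcT⟩
    obtain ⟨φ', hφ', hce⟩ := hc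
    have hc2 : orderOf (c : Ω) = 2 := by
      rw [← hce, orderOf_injective φ' (F.injective_of_mem hφ'), ← hj2, ← Subgroup.orderOf_coe]
    have hconj : F.IsConj (Subgroup.zpowers (j : Ω)) (Subgroup.zpowers (c : Ω)) :=
      ⟨φ', hφ', zpowers_map_range hce⟩
    rw [← normalizerIn_zpowers hc2, ← normalizerIn_zpowers hj2]
    refine lt_of_le_of_ne (hQn.2 _ hconj) fun he => h c (hij ⟨φ', hφ', hce⟩) ⟨(Subgroup.zpowers_le).mpr c.2, ?_⟩ hcT
    intro R hR
    rw [he]; exact hQn.2 R (isConj_trans hconj hR)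
  have hcount := incidence_count B j D hD fun c hc => hc.1
  have h2 : 2 ∣ {o : B.Orb | B.perm j o = o ∧ B.coeff j o ∈ D}.ncard := by
    obtain ⟨q, hq⟩ := card_centralizer_dvd_mark B j
    have h3 : 2 * Nat.card S ∣ mark (diag S (Subgroup.zpowers (j : Ω))) B.X * D.ncard := by
      rw [hq, mul_comm _ q, mul_assoc]
      exact Dvd.dvd.mul_left (two_mul_card_dvd hS j D hD hlt) q
    rw [← hcount] at h3
    exact Nat.dvd_of_mul_dvd_mul_right Nat.card_pos h3
  -- parity
  set Fx := Finset.univ.filter (fun o => B.perm j o = o)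
  have hFx : Odd Fx.card := by
    have hodd : ¬ 2 ∣ Fintype.card B.Orb := Nat.card_eq_fintype_card (α := B.Orb) ▸ B.not_dvd_card_orb
    rw [← Finset.card_univ, ← Finset.card_filter_add_card_filter_not (fun o => B.perm j o = o),
      Nat.dvd_add_left (even_iff_two_dvd.mp ?_)] at hodd
    · exact Nat.not_even_iff_odd.mp fun he => hodd (even_iff_two_dvd.mp he)
    · have hp : ∀ (s : Finset B.Orb), (∀ o ∈ s, B.perm j o ∈ s) → (∀ o ∈ s, B.perm j o ≠ o) → Even s.card := by
        intro s h₁ h₂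
        have := Finset.prod_involution (s := s) (f := fun _ : B.Orb => (-1 : ℤˣ)) (fun o _ => B.perm j o)
          (by intros; simp) (fun o ho _ => h₂ o ho) h₁ (fun o _ => hinv o)
        rw [Finset.prod_const] at this
        rcases Nat.even_or_odd s.card with he | ho
        · exact he
        · rw [Odd.neg_one_pow ho] at this; exact absurd this (by decide)
      refine hp _ (fun o ho => ?_) (fun o ho => (Finset.mem_filter.mp ho).2)
      simp only [Finset.mem_filter, Finset.mem_univ, true_and, hinv o] at ho ⊢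
      exact fun he => ho he.symm
  have hprod : ∏ o ∈ Fx, χ (B.coeff j o) = (-1) ^ (Fx.filter fun o => (B.coeff j o : Ω) ∉ T).card := by
    rw [← Finset.prod_const (-1 : ℤˣ)]
    conv_rhs => rw [Finset.prod_filter]
    refine Finset.prod_congr rfl fun o _ => ?_
    show (if _ then _ else _) = if _ then _ else _
    split_ifs with h1 <;> simp
  have hbad : Even (Fx.filter fun o => (B.coeff j o : Ω) ∈ T).card := by
    refine even_iff_two_dvd.mpr ?_
    refine h2.trans (dvd_of_eq ?_)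
    rw [← Set.ncard_coe_finset]
    congr 1
    ext o
    simp only [Fx, Finset.coe_filter, Finset.mem_filter, Finset.mem_univ, true_and, D, Set.mem_ofPred_eq]
    exact ⟨fun ⟨ho, _, hT⟩ => ⟨ho, hT⟩, fun ⟨ho, hT⟩ => ⟨ho, hfixT o ho, hT⟩⟩
  have hgood : Odd (Fx.filter fun o => (B.coeff j o : Ω) ∉ T).card := by
    rw [← Finset.card_filter_add_card_filter_not (s := Fx) (fun o => (B.coeff j o : Ω) ∈ T), Nat.odd_add'] at hFx
    exact hFx.mpr hbad
  rw [hprod, hgood.neg_one_pow] at hker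
  exact absurd hker (by decide)

end CfsgLib.Fusion.ThompsonTransfer
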