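import Cfsg.Agent.Lib.Fusion.ExtSaturated
import Cfsg.Agent.Lib.Fusion.Hyperfocal
import Cfsg.Agent.Lib.Fusion.Alperin
import Cfsg.Agent.Lib.Fusion.Normal
import Cfsg.Agent.Lib.FusionNormal.Tate

/-!
# Systems with a normal subgroup between `S'` and `Φ(S)`

If `Aut_F(S) = Inn(S)` and `S' ≤ Q ≤ Φ(S)` with `Q` normal in `F`, then every map is trivial modulo
`Q`, so by Tate's theorem the system is inner.
-/

namespace CfsgLib.Fusion

open Cfsg Cfsg.FusionSystem
open scoped commutatorElement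

universe u

variable {Ω : Type u} [Group Ω] {S : Subgroup Ω} {F : FusionSystem S} {Q : Subgroup Ω}

theorem inv_mul_conj_mem_of_derived_le (h1 : (commutator ↥S).map S.subtype ≤ Q) {g x : Ω} (hg : g ∈ S)
    (hx : x ∈ S) : x⁻¹ * (g * x * g⁻¹) ∈ Q := by
  refine h1 ⟨⁅(⟨x, hx⟩ : S)⁻¹, ⟨g, hg⟩⁆, Subgroup.commutator_mem_commutator (Subgroup.mem_top _)
    (Subgroup.mem_top _), ?_⟩
  simp [commutatorElement_def, mul_assoc]

theorem le_normalizer_of_derived_le [Finite S] (h1 : (commutator ↥S).map S.subtype ≤ Q) {P : Subgroup Ω}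
    (hP : P ≤ S) (hQP : Q ≤ P) : S ≤ Subgroup.normalizer (P : Set Ω) := fun g hg => by
  have := finite_of_le hP
  refine mem_normalizer_of_forall fun x hx => ?_
  simpa using P.mul_mem hx (hQP (inv_mul_conj_mem_of_derived_le h1 hg (hP hx)))

variable [Finite S] {p : ℕ} [Fact p.Prime]

/-- All maps are trivial modulo `Q`. -/
theorem inv_mul_mem_of_derived_le (hS : IsPGroup p S) (hF : F.IsSaturated p) (hQ : F.IsNormal Q)
    (h1 : (commutator ↥S).map S.subtype ≤ Q) (hA : F.autGroup S ≤ Inn S) {P : Subgroup Ω} {φ : P →* Ω}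
    (hφ : φ ∈ F.Hom P) (x : P) : (x : Ω)⁻¹ * φ x ∈ Q := by
  have hQc := IsNormal.stronglyClosed hQ
  refine rel_of_mem hS hF (r := fun a b => a⁻¹ * b ∈ Q)
    ⟨fun a => by simp [Q.one_mem], fun {a b} h => by simpa using Q.inv_mem h,
      fun {a b c} h h' => by simpa [mul_assoc] using Q.mul_mem h h'⟩
    (fun g hg x hx => inv_mul_conj_mem_of_derived_le h1 hg hx) ?_ hφ x
  intro R hR hRS hRa α hα y
  have hQR : Q ≤ R := by
    rcases hR with rfl | hR
    · exact hQ.1
    · exact IsNormal.le_centric_radical hS hQ hR.1 (radical_of_essential hR hS)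
  have hnorm := le_normalizer_of_derived_le h1 hRS hQR
  have hfn : F.IsFullyNormalized R :=
    ⟨hRS, fun W _ => by
      have := finite_of_le (normalizerIn_le : normalizerIn S R ≤ S)
      exact Subgroup.card_le_of_le (le_inf normalizerIn_le (normalizerIn_le.trans hnorm))⟩
  obtain ⟨hRaut, hRr⟩ := fullyNormalized_good hS hF hfn
  have := finite_mulAut hRS
  let K : Subgroup (F.autGroup R) :=
    { carrier := {a | ∀ z : R, (z : Ω)⁻¹ * (((a : MulAut R) z : R) : Ω) ∈ Q}
      one_mem' := fun z => by simp [Q.one_mem]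
      mul_mem' := fun {a b} ha hb z => by
        have := Q.mul_mem (hb z) (ha ((b : MulAut R) z))
        simpa [mul_assoc] using this
      inv_mem' := fun {a} ha z => by
        have := Q.inv_mem (ha ((a : MulAut R)⁻¹ z))
        rw [MulAut.apply_inv_self] at this
        simpa using this }
  have hKn : K.Normal := ⟨fun a ha b z => by
    obtain ⟨w, rfl⟩ := (b : MulAut R).surjective z
    have h2 := StronglyClosed.aut_mem hQc hRS b.2 (w⁻¹ * (a : MulAut R) w) (ha w)
    simpa using h2⟩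
  obtain ⟨-, T, hT⟩ := hRaut
  have hTK : (T : Subgroup (F.autGroup R)) ≤ K := fun a ha z => by
    obtain ⟨g, hg, hge⟩ := mem_autInducedBy.mp (Subgroup.mem_subgroupOf.mp (hT.le ha))
    rw [hge]; exact inv_mul_conj_mem_of_derived_le h1 hg (hRS z.2)
  suffices h : (⟨α, hα⟩ : F.autGroup R) ∈ K from h y
  have hle : Subgroup.normalizer ((T : Subgroup (F.autGroup R)) : Set (F.autGroup R)) ≤ K := by
    intro k hk z
    obtain ⟨κ, hκ, hκr, hκe⟩ := exists_map_of_mem_autGroup hRS k.2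
    have hN : S ≤ extender S R κ := fun g hg => by
      obtain ⟨c, hc, hce⟩ := exists_autInducedBy (K := S) hg (hnorm hg)
      have hm : (⟨c, autInducedBy_le_autGroup hRS hc⟩ : F.autGroup R) ∈ (T : Subgroup (F.autGroup R)) :=
        hT.ge hc
      obtain ⟨s, hs, hse⟩ := mem_autInducedBy.mp (hT.le ((Subgroup.mem_normalizer_iff.mp hk _).mp hm))
      refine mem_extender.mpr ⟨hg, hnorm hg, s, hs, fun x hx => ?_⟩
      rw [hκe, hκe, ← hse]
      simp [← hce x]
    obtain ⟨ψ, hψ, hψe⟩ := exists_extension hRr hκ hκr hRS hN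
    obtain ⟨b, hb, hbe⟩ := exists_aut hψ (range_eq_of_card_le hψ le_rfl (apply_mem_S hψ) le_rfl)
    obtain ⟨g, hg⟩ := mem_inn.mp (hA hb)
    have h3 : (((k : MulAut R) z : R) : Ω) = (g : Ω) * z * (g : Ω)⁻¹ := by
      rw [← hκe, ← hψe, ← hbe, hg]; rfl
    rw [h3]
    exact inv_mul_conj_mem_of_derived_le h1 g.2 (hRS z.2)
  have htop : Subgroup.normalizer ((T : Subgroup (F.autGroup R)) : Set (F.autGroup R)) ⊔ K = ⊤ :=
    Sylow.normalizer_sup_eq_top' T hTK
  exact (htop.ge.trans (sup_le hle le_rfl)) (Subgroup.mem_top _)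

/-- Such a system is inner. -/
theorem le_inner_of_derived_le (hS : IsPGroup p S) (hF : F.IsSaturated p) (hQ : F.IsNormal Q)
    (h1 : (commutator ↥S).map S.subtype ≤ Q) (h2 : Q ≤ (frattini ↥S).map S.subtype)
    (hA : F.autGroup S ≤ Inn S) : F ≤ innerFusionSystem S := by
  have hle : F.hyperfocalSubgroup p ≤ Q := by
    rw [FusionSystem.hyperfocalSubgroup, Subgroup.closure_le]
    rintro z ⟨P, α, x, hP, -, rfl⟩
    exact inv_mul_mem_of_derived_le hS hF hQ h1 hA ((mem_autGroup hP).mp α.2) x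
  have hbot : (F.hyperfocalSubgroup p).subgroupOf S = ⊥ := by
    refine FusionNormal.hyperfocal_eq_of_le_frattini hS hF bot_le fun x hx => ?_
    obtain ⟨y, hy, hye⟩ := h2 (hle hx)
    exact Subgroup.mem_sup_left (Subgroup.mem_sup_left (Subtype.ext hye ▸ hy))
  refine alperin hS hF _ fun P hP α hα => ?_
  obtain ⟨hPS, hPa⟩ : P ≤ S ∧ F.IsFullyAutomized p P := by
    rcases hP with rfl | hP
    · exact ⟨le_rfl, ((saturated_iff_top_and_receptive hS).mp hF).1⟩
    · exact ⟨hP.1.1, (fullyNormalized_good hS hF hP.2.1).1⟩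
  obtain ⟨a, ha, g, hg, b, rfl, hb⟩ := FullyAutomized.exists_mul hPa hα
  refine (mem_autGroup hPS).mpr ⟨hPS, g, hg, fun x => ?_⟩
  have h3 := mem_hyperfocal hPS ha (b x)
  have h4 : (⟨_, hyperfocal_le F p h3⟩ : S) ∈ (F.hyperfocalSubgroup p).subgroupOf S := h3
  rw [hbot, Subgroup.mem_bot] at h4
  have h5 := inv_mul_eq_one.mp (congrArg Subtype.val h4)
  show ((((a : MulAut P) * b) x : P) : Ω) = _
  rw [MulAut.mul_apply, ← h5, hb]

/-- The normalizer system of `Q` between `S'` and `Φ(S)` is inner when that of `S` is. -/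
theorem normalizer_le_inner_of_derived_le (hS : IsPGroup p S) (hF : F.IsSaturated p)
    (h1 : (commutator ↥S).map S.subtype ≤ Q) (h2 : Q ≤ (frattini ↥S).map S.subtype)
    (hA : F.autGroup S ≤ Inn S) {S₀ : Subgroup Ω} (hS₀ : S₀ = S) {N : FusionSystem S₀}
    (hNs : N.IsSaturated p) (hN : ∀ P, N.Hom P = F.normalizerHom Q P) (P : Subgroup Ω) :
    N.Hom P = (innerFusionSystem S₀).Hom P := by
  subst hS₀
  refine Set.Subset.antisymm (le_inner_of_derived_le hS hNs ?_ h1 h2 ?_ P) (inner_le N P)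
  · refine ⟨h2.trans (Subgroup.map_subtype_le _), fun R φ hφ => ?_⟩
    rw [hN] at hφ
    obtain ⟨hφF, hR, hφm, ψ, hψ, hψe, hψQ⟩ := hφ
    have hnQ : S₀ ≤ normalizerIn S₀ Q :=
      le_inf le_rfl (le_normalizer_of_derived_le h1 (h2.trans (Subgroup.map_subtype_le _)) le_rfl)
    refine ⟨ψ, ?_, hψe, hψQ⟩
    rw [hN]
    have hle : R ⊔ Q ⊔ Q ≤ R ⊔ Q := sup_le le_rfl le_sup_right
    refine ⟨hψ, fun x hx => hnQ (le_S hψ hx), fun x => hnQ (apply_mem_S hψ x), _, restrict_mem hle hψ,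
      fun x => rfl, ?_⟩
    ext y
    constructor
    · rintro ⟨x, hx, rfl⟩
      exact hψQ.le ⟨_, hx, rfl⟩
    · intro hy
      obtain ⟨x, hx, rfl⟩ := hψQ.ge hy
      exact ⟨⟨x, Subgroup.mem_sup_left x.2⟩, hx, rfl⟩
  · intro α hα
    have h3 := (mem_autGroup le_rfl).mp hα
    rw [hN] at h3
    exact hA ((mem_autGroup le_rfl).mpr h3.1)

end CfsgLib.Fusion
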