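import Cfsg.Agent.Lib.Fusion.Saturated
import Cfsg.Agent.Lib.Fusion.Marks

/-!
# Twisted diagonal subgroups of `S × S`
-/

namespace CfsgLib.Fusion.Twist

open Cfsg Cfsg.FusionSystem CfsgLib.Fusion

variable {Ω : Type*} [Group Ω] {S : Subgroup Ω} {F : FusionSystem S} {P Q R A B : Subgroup Ω}

/-- The subgroup of `S × S` of pairs `(ψ x, φ x)`, `x ∈ P`. -/
def twist (S : Subgroup Ω) (ψ φ : P →* Ω) : Subgroup (↥S × ↥S) where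
  carrier := {g | ∃ x : P, (g.1 : Ω) = ψ x ∧ (g.2 : Ω) = φ x}
  one_mem' := ⟨1, by simp, by simp⟩
  mul_mem' := by
    rintro a b ⟨x, h₁, h₂⟩ ⟨y, h₃, h₄⟩
    exact ⟨x * y, by simp [h₁, h₃], by simp [h₂, h₄]⟩
  inv_mem' := by
    rintro a ⟨x, h₁, h₂⟩
    exact ⟨x⁻¹, by simp [h₁], by simp [h₂]⟩

theorem mem_twist {ψ φ : P →* Ω} {g : ↥S × ↥S} :
    g ∈ twist S ψ φ ↔ ∃ x : P, (g.1 : Ω) = ψ x ∧ (g.2 : Ω) = φ x := Iff.rfl

/-- The diagonal of `P`. -/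
abbrev diag (S P : Subgroup Ω) : Subgroup (↥S × ↥S) := twist S P.subtype P.subtype

/-- Twisted diagonals by maps of `F`. -/
def IsTw (F : FusionSystem S) (K : Subgroup (↥S × ↥S)) : Prop :=
  ∃ P, ∃ ψ ∈ F.Hom P, ∃ φ ∈ F.Hom P, K = twist S ψ φ

/-- The projection to the first coordinate. -/
def left (K : Subgroup (↥S × ↥S)) : Subgroup Ω :=
  K.map (S.subtype.comp (MonoidHom.fst ↥S ↥S))

theorem mem_left {K : Subgroup (↥S × ↥S)} {y : Ω} :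
    y ∈ left K ↔ ∃ g ∈ K, ((g.1 : S) : Ω) = y := Iff.rfl

theorem left_le (K : Subgroup (↥S × ↥S)) : left K ≤ S := by
  rintro _ ⟨g, -, rfl⟩; exact g.1.2

theorem mk_mem_twist {ψ φ : P →* Ω} (hψ : ψ ∈ F.Hom P) (hφ : φ ∈ F.Hom P) (x : P) :
    ((⟨ψ x, apply_mem_S hψ x⟩, ⟨φ x, apply_mem_S hφ x⟩) : ↥S × ↥S) ∈ twist S ψ φ := ⟨x, rfl, rfl⟩

theorem left_twist {ψ φ : P →* Ω} (hψ : ψ ∈ F.Hom P) (hφ : φ ∈ F.Hom P) :
    left (twist S ψ φ) = ψ.range := by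
  ext y
  constructor
  · rintro ⟨g, ⟨x, hx, -⟩, rfl⟩; exact ⟨x, hx.symm⟩
  · rintro ⟨x, rfl⟩; exact ⟨_, mk_mem_twist hψ hφ x, rfl⟩

theorem card_twist {ψ φ : P →* Ω} (hψ : ψ ∈ F.Hom P) (hφ : φ ∈ F.Hom P) :
    Nat.card (twist S ψ φ) = Nat.card P := by
  refine (Nat.card_congr (Equiv.ofBijective (fun x => ⟨_, mk_mem_twist hψ hφ x⟩) ⟨?_, ?_⟩)).symm
  · intro a b h
    exact F.injective_of_mem hψ (congrArg (fun g : twist S ψ φ => ((g.1.1 : S) : Ω)) h)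
  · rintro ⟨g, x, h₁, h₂⟩
    exact ⟨x, Subtype.ext (Prod.ext (Subtype.ext h₁.symm) (Subtype.ext h₂.symm))⟩

theorem isTw_diag (hP : P ≤ S) : IsTw F (diag S P) :=
  ⟨P, _, subtype_mem hP, _, subtype_mem hP, rfl⟩

theorem left_diag (hP : P ≤ S) : left (diag S P) = P := by
  have F := innerFusionSystem S
  rw [diag, left_twist (F := F) (subtype_mem hP) (subtype_mem hP), Subgroup.range_subtype]

theorem IsTw.card_left {K : Subgroup (↥S × ↥S)} (hK : IsTw F K) :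
    Nat.card (left K) = Nat.card K := by
  obtain ⟨P, ψ, hψ, φ, hφ, rfl⟩ := hK
  rw [left_twist hψ hφ, card_range hψ, card_twist hψ hφ]

/-- Every twisted diagonal is the graph of a map on its first projection. -/
theorem IsTw.exists_graph {K : Subgroup (↥S × ↥S)} (hK : IsTw F K) :
    ∃ χ ∈ F.Hom (left K), K = twist S (left K).subtype χ := by
  obtain ⟨P, ψ, hψ, φ, hφ, rfl⟩ := hK
  obtain ⟨ψ', hψ', hr, h₁, h₂⟩ := exists_inv hψ (left_twist hψ hφ).symm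
  obtain ⟨χ, hχ, hχe⟩ := exists_comp hψ' hφ fun y => hr.le ⟨y, rfl⟩
  refine ⟨χ, hχ, ?_⟩
  ext g
  constructor
  · rintro ⟨x, hx₁, hx₂⟩
    have hm : ψ x ∈ left (twist S ψ φ) := (left_twist hψ hφ).ge ⟨x, rfl⟩
    refine ⟨⟨ψ x, hm⟩, hx₁, ?_⟩
    rw [hx₂, hχe]
    exact apply_eq_of_coe_eq (h₁ x hm).symm
  · rintro ⟨y, hy₁, hy₂⟩
    exact ⟨⟨ψ' y, hr.le ⟨y, rfl⟩⟩, by rw [hy₁]; exact (h₂ y _).symm, by rw [hy₂, hχe]⟩

theorem IsTw.mono {K K' : Subgroup (↥S × ↥S)} (hK : IsTw F K) (h : K' ≤ K) : IsTw F K' := by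
  obtain ⟨χ, hχ, hKe⟩ := hK.exists_graph
  have hl : left K' ≤ left K := Subgroup.map_mono h
  refine ⟨left K', _, subtype_mem (left_le K'), _, restrict_mem hl hχ, ?_⟩
  ext g
  constructor
  · intro hg
    have hgK := h hg
    rw [hKe] at hgK
    obtain ⟨y, hy₁, hy₂⟩ := hgK
    refine ⟨⟨g.1, g, hg, rfl⟩, rfl, ?_⟩
    rw [hy₂]
    exact apply_eq_of_coe_eq hy₁.symm
  · rintro ⟨y, hy₁, hy₂⟩
    obtain ⟨g', hg', hg'y⟩ := y.2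
    have hg'K := h hg'
    rw [hKe] at hg'K
    obtain ⟨z, hz₁, hz₂⟩ := hg'K
    have e : g = g' := by
      refine Prod.ext (Subtype.ext (hy₁.trans hg'y.symm)) (Subtype.ext ?_)
      have hyz : (y : Ω) = z := Eq.trans hg'y.symm hz₁
      rw [hy₂, hz₂]
      exact congrArg χ (Subtype.ext hyz)
    exact e ▸ hg'

theorem IsTw.map_conj {K : Subgroup (↥S × ↥S)} (hK : IsTw F K) (g : ↥S × ↥S) :
    IsTw F (K.map (MulAut.conj g).toMonoidHom) ∧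
      F.IsConj (left K) (left (K.map (MulAut.conj g).toMonoidHom)) := by
  obtain ⟨P, ψ, hψ, φ, hφ, rfl⟩ := hK
  obtain ⟨ψ', hψ', hψe⟩ := exists_conj_comp hψ g.1.2
  obtain ⟨φ', hφ', hφe⟩ := exists_conj_comp hφ g.2.2
  have e : (twist S ψ φ).map (MulAut.conj g).toMonoidHom = twist S ψ' φ' := by
    ext k
    constructor
    · rintro ⟨k, ⟨x, h₁, h₂⟩, rfl⟩
      refine ⟨x, ?_, ?_⟩
      · rw [hψe, ← h₁]; rfl
      · rw [hφe, ← h₂]; rfl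
    · rintro ⟨x, h₁, h₂⟩
      refine ⟨_, mk_mem_twist hψ hφ x, Prod.ext (Subtype.ext ?_) (Subtype.ext ?_)⟩
      · rw [h₁, hψe]; rfl
      · rw [h₂, hφe]; rfl
  rw [e, left_twist hψ hφ, left_twist hψ' hφ']
  exact ⟨⟨P, ψ', hψ', φ', hφ', rfl⟩,
    isConj_trans (isConj_symm ⟨ψ, hψ, rfl⟩) ⟨ψ', hψ', rfl⟩⟩

/-- Transport of twisted diagonals along two homomorphisms into `S × S` that differ componentwise by
maps of `F`. -/
theorem isTw_transport {N : Type*} [Group N] {f g : N →* ↥S × ↥S} {α : A →* Ω} {β : B →* Ω}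
    (hα : α ∈ F.Hom A) (hβ : β ∈ F.Hom B)
    (h : ∀ n : N, ∃ (ha : ((f n).1 : Ω) ∈ A) (hb : ((f n).2 : Ω) ∈ B),
      ((g n).1 : Ω) = α ⟨_, ha⟩ ∧ ((g n).2 : Ω) = β ⟨_, hb⟩) (L : Subgroup N) :
    (IsTw F (L.map f) → IsTw F (L.map g) ∧ F.IsConj (left (L.map f)) (left (L.map g))) ∧
      (IsTw F (L.map g) → IsTw F (L.map f)) := by
  constructor
  · rintro ⟨P, ψ, hψ, φ, hφ, e⟩
    have hA : ∀ x : P, ψ x ∈ A := fun x => by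
      obtain ⟨n, -, hn⟩ := e.ge (mk_mem_twist hψ hφ x)
      obtain ⟨ha, -⟩ := h n
      rwa [hn] at ha
    have hB : ∀ x : P, φ x ∈ B := fun x => by
      obtain ⟨n, -, hn⟩ := e.ge (mk_mem_twist hψ hφ x)
      obtain ⟨-, hb, -⟩ := h n
      rwa [hn] at hb
    obtain ⟨ψ', hψ', hψe⟩ := exists_comp hψ hα hA
    obtain ⟨φ', hφ', hφe⟩ := exists_comp hφ hβ hB
    have e' : L.map g = twist S ψ' φ' := by
      ext k
      constructor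
      · rintro ⟨n, hn, rfl⟩
        obtain ⟨x, hx₁, hx₂⟩ := e.le ⟨n, hn, rfl⟩
        obtain ⟨ha, hb, h₁, h₂⟩ := h n
        exact ⟨x, by rw [h₁, hψe]; exact apply_eq_of_coe_eq hx₁,
          by rw [h₂, hφe]; exact apply_eq_of_coe_eq hx₂⟩
      · rintro ⟨x, hk₁, hk₂⟩
        obtain ⟨n, hn, hnx⟩ := e.ge (mk_mem_twist hψ hφ x)
        obtain ⟨ha, hb, h₁, h₂⟩ := h n
        refine ⟨n, hn, Prod.ext (Subtype.ext ?_) (Subtype.ext ?_)⟩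
        · rw [h₁, hk₁, hψe]; exact apply_eq_of_coe_eq (congrArg (fun k : ↥S × ↥S => (k.1 : Ω)) hnx)
        · rw [h₂, hk₂, hφe]; exact apply_eq_of_coe_eq (congrArg (fun k : ↥S × ↥S => (k.2 : Ω)) hnx)
    rw [e', e, left_twist hψ hφ, left_twist hψ' hφ']
    exact ⟨⟨P, ψ', hψ', φ', hφ', rfl⟩,
      isConj_trans (isConj_symm ⟨ψ, hψ, rfl⟩) ⟨ψ', hψ', rfl⟩⟩
  · rintro ⟨P, ψ, hψ, φ, hφ, e⟩
    obtain ⟨α', hα', -, hα₁, -⟩ := exists_inv hα rfl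
    obtain ⟨β', hβ', -, hβ₁, -⟩ := exists_inv hβ rfl
    have hA : ∀ x : P, ψ x ∈ α.range := fun x => by
      obtain ⟨n, -, hn⟩ := e.ge (mk_mem_twist hψ hφ x)
      obtain ⟨ha, hb, h₁, -⟩ := h n
      rw [hn] at h₁; exact ⟨_, h₁.symm⟩
    have hB : ∀ x : P, φ x ∈ β.range := fun x => by
      obtain ⟨n, -, hn⟩ := e.ge (mk_mem_twist hψ hφ x)
      obtain ⟨ha, hb, -, h₂⟩ := h n
      rw [hn] at h₂; exact ⟨_, h₂.symm⟩
    obtain ⟨ψ', hψ', hψe⟩ := exists_comp hψ hα' hA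
    obtain ⟨φ', hφ', hφe⟩ := exists_comp hφ hβ' hB
    refine ⟨P, ψ', hψ', φ', hφ', ?_⟩
    ext k
    constructor
    · rintro ⟨n, hn, rfl⟩
      obtain ⟨x, hx₁, hx₂⟩ := e.le ⟨n, hn, rfl⟩
      obtain ⟨ha, hb, h₁, h₂⟩ := h n
      refine ⟨x, ?_, ?_⟩
      · rw [hψe]
        exact (hα₁ ⟨_, ha⟩ ⟨_, rfl⟩).symm.trans (apply_eq_of_coe_eq (h₁.symm.trans hx₁))
      · rw [hφe]
        exact (hβ₁ ⟨_, hb⟩ ⟨_, rfl⟩).symm.trans (apply_eq_of_coe_eq (h₂.symm.trans hx₂))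
    · rintro ⟨x, hk₁, hk₂⟩
      obtain ⟨n, hn, hnx⟩ := e.ge (mk_mem_twist hψ hφ x)
      obtain ⟨ha, hb, h₁, h₂⟩ := h n
      refine ⟨n, hn, Prod.ext (Subtype.ext ?_) (Subtype.ext ?_)⟩
      · rw [hk₁, hψe]
        exact (hα₁ ⟨_, ha⟩ ⟨_, rfl⟩).symm.trans (apply_eq_of_coe_eq (h₁.symm.trans (congrArg (fun k : ↥S × ↥S => (k.1 : Ω)) hnx)))
      · rw [hk₂, hφe]
        exact (hβ₁ ⟨_, hb⟩ ⟨_, rfl⟩).symm.trans (apply_eq_of_coe_eq (h₂.symm.trans (congrArg (fun k : ↥S × ↥S => (k.2 : Ω)) hnx)))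

end CfsgLib.Fusion.Twist
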