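import Cfsg.Agent.Lib.Fusion.Transfer
import Mathlib.GroupTheory.PGroup

/-!
# The transfer value of a twisting of a stable biset

A bijection of the biset commuting with the right action has a value in `A`, multiplicatively. If
`A` has exponent `p` and no conjugate of `P` has a centralizer seen by `h`, the bijections commuting
with `P` have trivial value; hence every map with such a source has a well-defined value.
-/

namespace CfsgLib.Fusion.StableBiset

open Cfsg Cfsg.FusionSystem CfsgLib.Fusion CfsgLib.Fusion.Marks CfsgLib.Fusion.Twist MulAction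

universe u

variable {Ω : Type u} [Group Ω] {S : Subgroup Ω} {F : FusionSystem S} {p : ℕ} (B : StableBiset F p)
variable {A : Type*} [CommGroup A] (h : S →* A) {P Q : Subgroup Ω}

/-- Commutes with the right action. -/
def RightEquiv (e : B.X ≃ B.X) : Prop :=
  ∀ (b : S) (x : B.X), e (((1, b) : ↥S × ↥S) • x) = ((1, b) : ↥S × ↥S) • e x

/-- Carries the left action of `q ∈ P` to that of `φ q` and commutes with the right action. -/
def Twists (φ : P →* Ω) (e : B.X ≃ B.X) : Prop :=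
  ∀ (q : P) (a a' : S), (a : Ω) = q → (a' : Ω) = φ q → ∀ (b : S) (x : B.X),
    e (((a, b) : ↥S × ↥S) • x) = ((a', b) : ↥S × ↥S) • e x

variable {B}

theorem Twists.rightEquiv {φ : P →* Ω} {e : B.X ≃ B.X} (he : B.Twists φ e) : B.RightEquiv e :=
  fun b x => he 1 1 1 rfl (map_one φ).symm b x

theorem Twists.restrict {φ : P →* Ω} {e : B.X ≃ B.X} (he : B.Twists φ e) {R : Subgroup Ω} (hR : R ≤ P)
    {χ : R →* Ω} (hχ : ∀ x : R, χ x = φ ⟨x, hR x.2⟩) : B.Twists χ e :=
  fun q a a' ha ha' => he ⟨q, hR q.2⟩ a a' ha (ha'.trans (hχ q))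

theorem Twists.comp {φ : P →* Ω} {ψ : Q →* Ω} (hφ : φ ∈ F.Hom P) {e e' : B.X ≃ B.X}
    (he : B.Twists φ e) (he' : B.Twists ψ e') (hm : ∀ x : P, φ x ∈ Q) {χ : P →* Ω}
    (hχ : ∀ x : P, χ x = ψ ⟨φ x, hm x⟩) : B.Twists χ (e.trans e') := fun q a a' ha ha' b x => by
  rw [Equiv.trans_apply, Equiv.trans_apply, he q a ⟨φ q, apply_mem_S hφ q⟩ ha rfl b x]
  exact he' ⟨φ q, hm q⟩ _ a' rfl (ha'.trans (hχ q)) b _

theorem Twists.symm {φ : P →* Ω} (hφ : φ ∈ F.Hom P) {e : B.X ≃ B.X} (he : B.Twists φ e)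
    {ψ : φ.range →* Ω} (hψ : ∀ x : P, ψ ⟨φ x, x, rfl⟩ = x) : B.Twists ψ e.symm := by
  rintro ⟨_, q, rfl⟩ a a' ha ha' b x
  rw [hψ] at ha'
  rw [Equiv.symm_apply_eq, he q a' a ha' ha b, Equiv.apply_symm_apply]

theorem RightEquiv.trans {e e' : B.X ≃ B.X} (he : B.RightEquiv e) (he' : B.RightEquiv e') :
    B.RightEquiv (e.trans e') := fun b x => by simp [he b x, he' b (e x)]

theorem RightEquiv.symm {e : B.X ≃ B.X} (he : B.RightEquiv e) : B.RightEquiv e.symm := fun b x => by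
  rw [Equiv.symm_apply_eq, he, Equiv.apply_symm_apply]

variable (B)

/-- The bijection given by left multiplication. -/
def leftE (a : S) : B.X ≃ B.X := MulAction.toPerm ((a, 1) : ↥S × ↥S)

theorem twists_leftE {φ : P →* Ω} {s : S} (hs : ∀ x : P, φ x = (s : Ω) * x * (s : Ω)⁻¹) :
    B.Twists φ (B.leftE s) := by
  intro q a a' ha ha' b x
  have h1 : s * a = a' * s := Subtype.ext (by
    rw [Subgroup.coe_mul, Subgroup.coe_mul, ha, ha', hs, inv_mul_cancel_right])
  show ((s, 1) : ↥S × ↥S) • ((a, b) : ↥S × ↥S) • x = ((a', b) : ↥S × ↥S) • ((s, 1) : ↥S × ↥S) • x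
  rw [smul_smul, smul_smul, Prod.mk_mul_mk, Prod.mk_mul_mk, one_mul, mul_one, h1]

theorem exists_twists [Finite S] {φ : P →* Ω} (hφ : φ ∈ F.Hom P) : ∃ e, B.Twists φ e := by
  obtain ⟨e, he⟩ := B.exists_equiv hφ
  refine ⟨e, fun q a a' ha ha' b x => ?_⟩
  rw [show a = ⟨q, le_S hφ q.2⟩ from Subtype.ext ha, show a' = ⟨φ q, apply_mem_S hφ q⟩ from Subtype.ext ha']
  exact he q b x

/-- The correcting element of `e` at an orbit. -/
noncomputable def corr (e : B.X ≃ B.X) (o : B.Orb) : S := (B.exists_right (e (B.pt o))).choose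

/-- The orbit to which `e` sends an orbit. -/
noncomputable def image (e : B.X ≃ B.X) (o : B.Orb) : B.Orb := B.orb (e (B.pt o))

theorem corr_spec (e : B.X ≃ B.X) (o : B.Orb) :
    ((1, B.corr e o) : ↥S × ↥S) • e (B.pt o) = B.pt (B.image e o) :=
  (B.exists_right _).choose_spec

theorem corr_eq {e : B.X ≃ B.X} {b : S} {o o' : B.Orb}
    (hb : ((1, b) : ↥S × ↥S) • e (B.pt o) = B.pt o') : B.image e o = o' ∧ B.corr e o = b := by
  have h1 : B.image e o = o' := by
    rw [← B.orb_pt o', ← hb, orb_smul]; rfl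
  refine ⟨h1, B.right_injective (x := e (B.pt o)) ?_⟩
  rw [corr_spec, hb, h1]

theorem image_bijective {e : B.X ≃ B.X} (he : B.RightEquiv e) : Function.Bijective (B.image e) := by
  rw [← Finite.surjective_iff_bijective]
  intro o'
  obtain ⟨b, hb⟩ := B.exists_right (e.symm (B.pt o'))
  refine ⟨B.orb (e.symm (B.pt o')), ?_⟩
  show B.orb (e (B.pt _)) = o'
  rw [← hb, he, orb_smul, e.apply_symm_apply, orb_pt]

/-- The value of a bijection commuting with the right action. -/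
noncomputable def val (e : B.X ≃ B.X) : A :=
  letI := Fintype.ofFinite B.Orb
  ∏ o, h (B.corr e o)

theorem val_eq [Fintype B.Orb] (e : B.X ≃ B.X) : B.val h e = ∏ o, h (B.corr e o) := by
  show (letI := Fintype.ofFinite B.Orb; ∏ o, h (B.corr e o)) = _
  exact Finset.prod_congr (by ext; simp) fun _ _ => rfl

theorem val_trans {e e' : B.X ≃ B.X} (he : B.RightEquiv e) (he' : B.RightEquiv e') :
    B.val h (e.trans e') = B.val h e' * B.val h e := by
  let _ := Fintype.ofFinite B.Orb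
  have key : ∀ o, h (B.corr (e.trans e') o) = h (B.corr e' (B.image e o)) * h (B.corr e o) := by
    intro o
    rw [← map_mul]
    refine congrArg h (B.corr_eq (o' := B.image e' (B.image e o)) ?_).2
    rw [← B.corr_spec e' (B.image e o), ← B.corr_spec e o, he', smul_smul, Prod.mk_mul_mk, one_mul]
    rfl
  rw [val_eq, val_eq, val_eq]
  simp only [key, Finset.prod_mul_distrib]
  congr 1
  exact (Equiv.ofBijective _ (B.image_bijective he)).prod_comp fun o => h (B.corr e' o)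

theorem val_refl : B.val h (Equiv.refl B.X) = 1 := by
  let _ := Fintype.ofFinite B.Orb
  rw [val_eq]
  refine Finset.prod_eq_one fun o _ => ?_
  rw [(B.corr_eq (e := Equiv.refl B.X) (b := 1) (o' := o)
    (by show ((1, 1) : ↥S × ↥S) • _ = _; rw [Prod.mk_one_one, one_smul]; rfl)).2, map_one]

theorem val_symm {e : B.X ≃ B.X} (he : B.RightEquiv e) : B.val h e.symm = (B.val h e)⁻¹ := by
  rw [eq_inv_iff_mul_eq_one, ← B.val_trans h he he.symm, Equiv.self_trans_symm, val_refl]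

theorem val_leftE [Finite S]
    (hh : ∀ (P : Subgroup Ω) (φ : P →* Ω) (hφ : φ ∈ F.Hom P) (x : P),
      h ⟨φ x, apply_mem_S hφ x⟩ = h ⟨x, le_S hφ x.2⟩) (a : S) :
    B.val h (B.leftE a) = h a ^ Nat.card B.Orb := by
  rw [← B.transfer_eq_pow h hh a]
  let _ := Fintype.ofFinite B.Orb
  rw [val_eq, transfer_apply]
  refine Finset.prod_congr rfl fun o _ => congrArg h (B.corr_eq (o' := B.perm a o) ?_).2
  show ((1, B.coeff a o) : ↥S × ↥S) • ((a, 1) : ↥S × ↥S) • B.pt o = _
  rw [← smul_split, coeff_spec]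

/-- An invariant function on a set acted on by a `p`-group, trivial at fixed points, with values of
exponent `p`, has trivial product. -/
theorem prod_eq_one_of_invariant [Fact p.Prime] {P : Type*} [Group P] (hP : IsPGroup p P) {α : Type*}
    [Fintype α] [MulAction P α] (hA : ∀ a : A, a ^ p = 1) (f : α → A)
    (hf : ∀ (g : P) (x : α), f (g • x) = f x) (hfix : ∀ x : α, (∀ g : P, g • x = x) → f x = 1) :
    ∏ x, f x = 1 := by
  classical
  rw [← Finset.prod_fiberwise_of_maps_to (t := Finset.univ.image f)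
    (fun x _ => Finset.mem_image_of_mem f (Finset.mem_univ x)) f]
  refine Finset.prod_eq_one fun a _ => ?_
  rw [Finset.prod_eq_pow_card (b := a) fun x hx => (Finset.mem_filter.mp hx).2]
  by_cases ha : a = 1
  · rw [ha, one_pow]
  let sm : MulAction P {x : α // f x = a} :=
    { smul := fun g x => ⟨g • x.1, (hf g x.1).trans x.2⟩
      one_smul := fun x => Subtype.ext (one_smul P x.1)
      mul_smul := fun g g' x => Subtype.ext (mul_smul g g' x.1) }
  have hd : p ∣ Nat.card {x : α // f x = a} := by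
    have h1 := hP.card_modEq_card_fixedPoints {x : α // f x = a}
    have h2 : IsEmpty (MulAction.fixedPoints P {x : α // f x = a}) :=
      ⟨fun x => ha (x.1.2.symm.trans (hfix _ fun g => congrArg Subtype.val (x.2 g)))⟩
    rw [Nat.card_of_isEmpty (α := MulAction.fixedPoints P {x : α // f x = a})] at h1
    exact Nat.modEq_zero_iff_dvd.mp h1
  rw [Nat.card_eq_fintype_card, Fintype.card_subtype] at hd
  obtain ⟨k, hk⟩ := hd
  rw [hk, pow_mul, hA, one_pow]

theorem comm_calc (c D E : A) : (c⁻¹ * D)⁻¹ * E * (D * E⁻¹) = c := by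
  rw [mul_comm D E⁻¹, mul_assoc, mul_inv_cancel_left, mul_inv_rev, inv_inv, mul_comm D⁻¹,
    inv_mul_cancel_right]

theorem exists_map_of_fixed (hP : P ≤ S) {o : B.Orb} (hfix : ∀ a : S, (a : Ω) ∈ P → B.perm a o = o) :
    ∃ χ ∈ F.Hom P, ∀ (a : S) (ha : (a : Ω) ∈ P), ((B.coeff a o : S) : Ω) = χ ⟨a, ha⟩ := by
  obtain ⟨χ, hχ, hK⟩ := (B.isTw_stab (B.pt o)).exists_graph
  have hmem : ∀ a : S, (a : Ω) ∈ P →
      ((a, B.coeff a o) : ↥S × ↥S) ∈ stabilizer (↥S × ↥S) (B.pt o) := fun a ha => by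
    rw [mem_stabilizer_iff, coeff_spec, hfix a ha]
  have hle : P ≤ left (stabilizer (↥S × ↥S) (B.pt o)) := fun x hx =>
    mem_left.mpr ⟨_, hmem ⟨x, hP hx⟩ hx, rfl⟩
  refine ⟨_, restrict_mem hle hχ, fun a ha => ?_⟩
  obtain ⟨y, hy₁, hy₂⟩ := hK.le (hmem a ha)
  refine hy₂.trans (apply_eq_of_coe_eq ?_)
  exact hy₁.symm

set_option maxHeartbeats 400000 in
/-- Bijections commuting with `P` have trivial value if `h` kills the centralizers of all conjugates
of `P`. -/
theorem val_eq_one [Finite S] [Fact p.Prime] (hS : IsPGroup p S) (hA : ∀ a : A, a ^ p = 1)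
    (hh : ∀ (P : Subgroup Ω) (φ : P →* Ω) (hφ : φ ∈ F.Hom P) (x : P),
      h ⟨φ x, apply_mem_S hφ x⟩ = h ⟨x, le_S hφ x.2⟩)
    (hP : P ≤ S) (hC : ∀ R, F.IsConj P R → ∀ c : S, (c : Ω) ∈ centralizerIn S R → h c = 1)
    {e : B.X ≃ B.X} (he : B.Twists P.subtype e) : B.val h e = 1 := by
  classical
  let _ := Fintype.ofFinite B.Orb
  have hre := he.rightEquiv
  have hcomm : ∀ (q : P) (b : S) (x : B.X),
      e (((⟨q, hP q.2⟩ : S), b) • x) = ((⟨q, hP q.2⟩ : S), b) • e x := fun q b x => he q _ _ rfl rfl b x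
  -- the action on orbits
  let actO : MulAction P B.Orb :=
    { smul := fun q o => B.perm ⟨q, hP q.2⟩ o
      one_smul := fun o => (B.perm_one o).1
      mul_smul := fun q q' o => (B.perm_mul ⟨q, hP q.2⟩ ⟨q', hP q'.2⟩ o).1 }
  have himg : ∀ (q : P) (o : B.Orb),
      B.perm ⟨q, hP q.2⟩ (B.image e o) = B.image e (B.perm ⟨q, hP q.2⟩ o) ∧
        B.coeff ⟨q, hP q.2⟩ (B.image e o) =
          B.corr e (B.perm ⟨q, hP q.2⟩ o) * B.coeff ⟨q, hP q.2⟩ o * (B.corr e o)⁻¹ := by
    intro q o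
    refine B.coeff_eq ?_
    rw [← B.corr_spec e o, ← B.corr_spec e (B.perm ⟨q, hP q.2⟩ o), ← B.coeff_spec ⟨q, hP q.2⟩ o,
      hcomm, smul_smul, smul_smul, Prod.mk_mul_mk, Prod.mk_mul_mk, mul_one, one_mul, inv_mul_cancel_right]
  set Fix : B.Orb → Prop := fun o => ∀ q : P, B.perm ⟨q, hP q.2⟩ o = o with hFixdef
  have hπ := B.image_bijective hre
  have hFix : ∀ o, Fix (B.image e o) ↔ Fix o := fun o =>
    ⟨fun hf q => hπ.1 (by rw [← (himg q o).1]; exact hf q), fun hf q => by rw [(himg q o).1, hf q]⟩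
  -- non-fixed orbits: a cocycle on the biset
  let f : ↥P × ↥S →* ↥S × ↥S := (Subgroup.inclusion hP).prodMap (MonoidHom.id S)
  let d : ↥P × ↥S →* A :=
    { toFun := fun g => h (Subgroup.inclusion hP g.1) * (h g.2)⁻¹
      map_one' := by simp
      map_mul' := fun g g' => by
        show h (Subgroup.inclusion hP (g.1 * g'.1)) * (h (g.2 * g'.2))⁻¹ = _
        rw [map_mul, map_mul, map_mul, mul_inv_rev, mul_comm (h g'.2)⁻¹, mul_mul_mul_comm] }
  let actX : MulAction (↥P × ↥S) B.X := MulAction.compHom B.X f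
  let base : B.X → B.X := fun x => (Quotient.mk (MulAction.orbitRel (↥P × ↥S) B.X) x).out
  have hbase : ∀ x, ∃ g : ↥P × ↥S, g • base x = x := by
    intro x
    have : base x ∈ orbit (↥P × ↥S) x := Quotient.mk_out (s := MulAction.orbitRel (↥P × ↥S) B.X) x
    obtain ⟨g, hg⟩ := this
    exact ⟨g⁻¹, by rw [← hg]; simp⟩
  choose gg hgg using hbase
  have hstab : ∀ (x : B.X) (g : ↥P × ↥S), g • x = x → d g = 1 := by
    intro x g hg
    obtain ⟨Y, ψ, hψ, φ, hφ, heq⟩ := B.isTw_stab x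
    obtain ⟨y, hy₁, hy₂⟩ := heq.le (show f g ∈ stabilizer (↥S × ↥S) x from hg)
    show h (Subgroup.inclusion hP g.1) * (h g.2)⁻¹ = 1
    rw [mul_inv_eq_one, show Subgroup.inclusion hP g.1 = ⟨ψ y, apply_mem_S hψ y⟩ from Subtype.ext hy₁,
      show g.2 = ⟨φ y, apply_mem_S hφ y⟩ from Subtype.ext hy₂, hh Y ψ hψ y, hh Y φ hφ y]
  have hg : ∀ (g : ↥P × ↥S) (x : B.X), d (gg (g • x)) = d g * d (gg x) := by
    intro g x
    have hb : base (g • x) = base x :=
      congrArg Quotient.out (Quotient.sound (s := MulAction.orbitRel (↥P × ↥S) B.X) ⟨g, rfl⟩)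
    have h1 : ((gg (g • x))⁻¹ * (g * gg x)) • base x = base x := by
      rw [mul_smul, mul_smul, hgg, inv_smul_eq_iff, ← hb, hgg]
    have h2 := hstab _ _ h1
    rw [map_mul, map_inv, inv_mul_eq_one, map_mul] at h2
    exact h2
  have heg : ∀ (g : ↥P × ↥S) (x : B.X), e (g • x) = g • e x := fun g x => hcomm g.1 g.2 x
  set ε : B.Orb → A := fun o => d (gg (e (B.pt o))) * (d (gg (B.pt o)))⁻¹ with hεdef
  have hε : ∀ (q : P) (o : B.Orb), ε (B.perm ⟨q, hP q.2⟩ o) = ε o := by
    intro q o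
    have h1 : B.pt (B.perm ⟨q, hP q.2⟩ o) = ((q, B.coeff ⟨q, hP q.2⟩ o) : ↥P × ↥S) • B.pt o :=
      (B.coeff_spec _ o).symm
    simp only [hεdef]
    rw [h1, heg, hg, hg, mul_inv_rev, mul_assoc, mul_comm (d (gg (B.pt o)))⁻¹, ← mul_assoc,
      ← mul_assoc, mul_right_comm (d _) (d (gg (e (B.pt o)))) (d _)⁻¹, mul_inv_cancel, one_mul]
  -- fixed orbits: the type of an orbit
  let FO := {o : B.Orb // Fix o}
  let st : Setoid FO :=
    { r := fun o o' => ∃ s : S, ∀ a : S, (a : Ω) ∈ P → B.coeff a o'.1 = s * B.coeff a o.1 * s⁻¹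
      iseqv :=
        { refl := fun o => ⟨1, fun a _ => by simp⟩
          symm := fun {o o'} ⟨s, hs⟩ => ⟨s⁻¹, fun a ha => by rw [hs a ha]; group⟩
          trans := fun {o o' o''} ⟨s, hs⟩ ⟨t, ht⟩ => ⟨t * s, fun a ha => by rw [ht a ha, hs a ha]; group⟩ } }
  have hrep : ∀ o : FO, ∃ s : S, ∀ a : S, (a : Ω) ∈ P →
      B.coeff a o.1 = s * B.coeff a (Quotient.mk st o).out.1 * s⁻¹ := fun o => Quotient.mk_out (s := st) o
  choose v hv using hrep
  have htype : ∀ (o : B.Orb) (ho : Fix o),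
      h (B.corr e o) = h (v ⟨B.image e o, (hFix o).mpr ho⟩) * (h (v ⟨o, ho⟩))⁻¹ := by
    intro o ho
    set o' : FO := ⟨o, ho⟩
    set o'' : FO := ⟨B.image e o, (hFix o).mpr ho⟩
    have hrel : ∀ a : S, (a : Ω) ∈ P → B.coeff a o''.1 = B.corr e o * B.coeff a o'.1 * (B.corr e o)⁻¹ := by
      intro a ha
      have := (himg ⟨a, ha⟩ o).2
      rwa [ho ⟨a, ha⟩] at this
    have hcls : Quotient.mk st o' = Quotient.mk st o'' := Quotient.sound ⟨_, hrel⟩
    have hv'' := hv o''
    rw [← hcls] at hv''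
    obtain ⟨χ, hχ, hχe⟩ := B.exists_map_of_fixed hP
      (o := (Quotient.mk st o').out.1) fun a ha => (Quotient.mk st o').out.2 ⟨a, ha⟩
    have hw : (((v o'')⁻¹ * B.corr e o * v o' : S) : Ω) ∈ centralizerIn S χ.range := by
      refine ⟨Subtype.mem _, Subgroup.mem_centralizer_iff.mpr ?_⟩
      rintro _ ⟨x, rfl⟩
      have h1 := hrel ⟨x, hP x.2⟩ x.2
      rw [hv'' _ x.2, hv o' _ x.2] at h1
      have h2 : B.coeff ⟨x, hP x.2⟩ (Quotient.mk st o').out.1 * ((v o'')⁻¹ * B.corr e o * v o') =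
          (v o'')⁻¹ * B.corr e o * v o' * B.coeff ⟨x, hP x.2⟩ (Quotient.mk st o').out.1 := by
        have h3 := congrArg (fun y => (v o'')⁻¹ * y * (B.corr e o * v o')) h1
        simp only [mul_assoc, inv_mul_cancel_left] at h3
        simp only [mul_assoc]
        simpa using h3
      have h4 := congrArg (Subtype.val) h2
      rw [Subgroup.coe_mul, Subgroup.coe_mul _ _ (B.coeff _ _)] at h4
      rw [← hχe ⟨x, hP x.2⟩ x.2]
      exact h4
    have h5 := hC _ ⟨χ, hχ, rfl⟩ _ hw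
    rw [map_mul, map_mul, map_inv] at h5
    rw [eq_mul_inv_iff_mul_eq]
    rw [mul_assoc, inv_mul_eq_one] at h5
    exact h5.symm
  let g : B.Orb → A := fun o => if ho : Fix o then h (v ⟨o, ho⟩) else (d (gg (B.pt o)))⁻¹
  let f' : B.Orb → A := fun o => if Fix o then 1 else ε o
  have key : ∀ o, h (B.corr e o) = g (B.image e o) * (g o)⁻¹ * f' o := by
    intro o
    by_cases ho : Fix o
    · simp only [g, f', dif_pos ho, dif_pos ((hFix o).mpr ho), if_pos ho, mul_one]
      exact htype o ho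
    · simp only [g, f', dif_neg ho, dif_neg (mt (hFix o).mp ho), if_neg ho, hεdef, inv_inv]
      have h1 : B.pt (B.image e o) = ((1, B.corr e o) : ↥P × ↥S) • e (B.pt o) := by
        rw [← B.corr_spec e o]
        show _ = f (1, B.corr e o) • e (B.pt o)
        rfl
      rw [h1, hg, show d (1, B.corr e o) = (h (B.corr e o))⁻¹ from by simp [d]]
      exact (comm_calc _ _ _).symm
  rw [val_eq]
  simp only [key, Finset.prod_mul_distrib, Finset.prod_inv_distrib]
  rw [show ∏ o, g (B.image e o) = ∏ o, g o from (Equiv.ofBijective _ hπ).prod_comp g, mul_inv_cancel,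
    one_mul]
  refine prod_eq_one_of_invariant (P := P) (hS.to_le hP) hA f' (fun q o => ?_) fun o ho => ?_
  · show f' (B.perm _ o) = f' o
    by_cases ho : Fix o
    · rw [ho q]
    · have hn : ¬ Fix (B.perm ⟨q, hP q.2⟩ o) := fun hf => ho fun r => by
        have h1 : (q⁻¹ : P) • B.perm ⟨q, hP q.2⟩ o = B.perm ⟨q, hP q.2⟩ o := hf q⁻¹
        have h2 : (q⁻¹ : P) • B.perm ⟨q, hP q.2⟩ o = o := inv_smul_smul q o
        rw [← h2, h1]; exact hf r
      simp only [f', if_neg ho, if_neg hn]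
      exact hε q o
  · have : Fix o := ho
    simp only [f', if_pos this]

end CfsgLib.Fusion.StableBiset
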