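import Cfsg.Agent.Lib.LocalEven.YoshidaWreath

/-!
# Products of a cocycle over the moved points

For a `p`-group without a quotient `Z_p ≀ Z_p`, the product of a cocycle at an element `x` reduces to
the product over the global fixed points, provided the cocycle dies on the proper powers of `x`.
-/

set_option autoImplicit false

namespace CfsgLib.YoshidaCocycle

variable {p : ℕ} [hp : Fact p.Prime] {S : Type*} [Group S] {Y : Type*} [MulAction S Y]
  {c : S → Y → Multiplicative (ZMod p)}

theorem coc_one (hc : ∀ a b y, c (a * b) y = c a (b • y) * c b y) (y : Y) : c 1 y = 1 := by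
  have h := hc 1 1 y
  rw [mul_one, one_smul] at h
  exact left_eq_mul.mp h

theorem coc_pow (hc : ∀ a b y, c (a * b) y = c a (b • y) * c b y) (x : S) (n : ℕ) (y : Y) :
    c (x ^ n) y = ∏ i ∈ Finset.range n, c x (x ^ i • y) := by
  induction n with
  | zero => rw [pow_zero, coc_one hc, Finset.range_zero, Finset.prod_empty]
  | succ n ih => rw [pow_succ', hc, ih, Finset.prod_range_succ, mul_comm]

/-- The product over the points moved by the group is trivial. -/
theorem prod_moved_eq_one [Finite S] [Fintype Y] (hS : IsPGroup p S)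
    (hno : ¬ ∃ (P : Sylow p (Equiv.Perm (Fin (p ^ 2))))
      (f : S →* ↥(P : Subgroup (Equiv.Perm (Fin (p ^ 2))))), Function.Surjective f)
    (hc : ∀ a b y, c (a * b) y = c a (b • y) * c b y) (x : S)
    (hmin : ∀ (y : Y) (n : ℕ), p ∣ n → x ^ n • y = y → c (x ^ n) y = 1)
    [DecidablePred fun y : Y => ∀ s : S, s • y = y] :
    ∏ y ∈ Finset.univ.filter (fun y : Y => ¬ ∀ s : S, s • y = y), c x y = 1 := by
  classical
  let q : Y → MulAction.orbitRel.Quotient S Y := Quotient.mk''
  rw [← Finset.prod_fiberwise_of_maps_to (g := q)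
    (t := (Finset.univ.filter (fun y : Y => ¬ ∀ s : S, s • y = y)).image q)
    fun ω hω => Finset.mem_image_of_mem _ hω]
  refine Finset.prod_eq_one fun o ho => ?_
  obtain ⟨ω₀, hω₀, rfl⟩ := Finset.mem_image.mp ho
  have hmove : ¬ ∀ s : S, s • ω₀ = ω₀ := (Finset.mem_filter.mp hω₀).2
  set O := (Finset.univ.filter (fun y : Y => ¬ ∀ s : S, s • y = y)).filter (fun y => q y = q ω₀) with hOdef
  have hmemO : ∀ ω, ω ∈ O ↔ ∃ s : S, s • ω₀ = ω := by
    intro ω
    rw [hOdef, Finset.mem_filter, Finset.mem_filter]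
    constructor
    · rintro ⟨-, h⟩
      obtain ⟨s, hs⟩ := Quotient.eq''.mp h
      exact ⟨s, hs⟩
    · rintro ⟨s, rfl⟩
      refine ⟨⟨Finset.mem_univ _, fun h => hmove fun t => ?_⟩, Quotient.eq''.mpr ⟨s, rfl⟩⟩
      have h1 : s • ω₀ = ω₀ := by
        have := h s⁻¹
        rw [inv_smul_smul] at this
        exact this.symm
      have := h t
      rwa [h1] at this
  -- a maximal subgroup over the stabiliser
  have hSt : MulAction.stabilizer S ω₀ ≠ ⊤ := fun h => hmove fun s =>
    MulAction.mem_stabilizer_iff.mp (h.symm ▸ Subgroup.mem_top s)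
  obtain ⟨R, hRco, hStR⟩ := (eq_top_or_exists_le_coatom _).resolve_left hSt
  haveI hRn : R.Normal := by
    haveI := hS.isNilpotent
    exact Subgroup.NormalizerCondition.normal_of_coatom R Group.normalizerCondition_of_isNilpotent hRco
  have hRidx : R.index = p := by
    obtain ⟨k, hk⟩ := IsPGroup.index hS R
    have hk0 : k ≠ 0 := fun h => hRco.1 (Subgroup.index_eq_one.mp (by rw [hk, h, pow_zero]))
    haveI : Nontrivial (S ⧸ R) :=
      not_subsingleton_iff_nontrivial.mp fun h => hRco.1 (QuotientGroup.subsingleton_iff.mp h)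
    haveI : IsSimpleGroup (S ⧸ R) := by
      refine ⟨fun H _ => ?_⟩
      rcases hRco.le_iff.mp (show R ≤ H.comap (QuotientGroup.mk' R) from fun r hr => by
        rw [Subgroup.mem_comap, QuotientGroup.mk'_apply, (QuotientGroup.eq_one_iff r).mpr hr]
        exact H.one_mem) with h | h
      · exact Or.inr (by rw [← Subgroup.map_comap_eq_self_of_surjective (QuotientGroup.mk'_surjective R) H, h,
          Subgroup.map_top_of_surjective _ (QuotientGroup.mk'_surjective R)])
      · exact Or.inl (by rw [← Subgroup.map_comap_eq_self_of_surjective (QuotientGroup.mk'_surjective R) H, h,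
          QuotientGroup.map_mk'_self])
    haveI := (IsPGroup.to_quotient hS R).isNilpotent
    have hprime : (Nat.card (S ⧸ R)).Prime := by
      letI : CommGroup (S ⧸ R) :=
        { (inferInstance : Group (S ⧸ R)) with
          mul_comm := fun a b => by
            have hc : Subgroup.center (S ⧸ R) = ⊤ := by
              rcases (inferInstance : (Subgroup.center (S ⧸ R)).Normal).eq_bot_or_eq_top with h | h
              · haveI := (IsPGroup.to_quotient hS R).center_nontrivial
                exact absurd h (Subgroup.nontrivial_iff_ne_bot _ |>.mp inferInstance)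
              · exact h
            exact Subgroup.mem_center_iff.mp (hc ▸ Subgroup.mem_top b) a }
      exact IsSimpleGroup.prime_card
    rw [← Subgroup.index_eq_card, hk] at hprime
    have hk1 : k = 1 := by by_contra h; exact Nat.Prime.not_prime_pow' h hprime
    rw [hk, hk1, pow_one]
  have hcard : Nat.card (S ⧸ R) = p := by rw [← Subgroup.index_eq_card, hRidx]
  have hordR : ∀ t : S, t ∉ R → orderOf (t : S ⧸ R) = p := by
    intro t ht
    rcases (Nat.dvd_prime hp.out).mp (hcard ▸ orderOf_dvd_natCard (t : S ⧸ R)) with h | h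
    · exact absurd ((QuotientGroup.eq_one_iff t).mp (orderOf_eq_one_iff.mp h)) ht
    · exact h
  by_cases hxR : x ∈ R
  · -- `x` lies in `R`
    set O₀ := O.filter (fun ω => ∃ r ∈ R, r • ω₀ = ω) with hO₀
    have hinv : ∀ r ∈ R, ∀ ω ∈ O₀, r • ω ∈ O₀ := by
      intro r hr ω hω
      rw [hO₀, Finset.mem_filter] at hω ⊢
      obtain ⟨-, r', hr', rfl⟩ := hω
      exact ⟨(hmemO _).mpr ⟨r * r', mul_smul _ _ _⟩, r * r', R.mul_mem hr hr', mul_smul _ _ _⟩
    have himg : ∀ r ∈ R, ∀ g : Y → Multiplicative (ZMod p), ∏ ω ∈ O₀, g (r • ω) = ∏ ω ∈ O₀, g ω :=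
      fun r hr g => Finset.prod_bij' (fun ω _ => r • ω) (fun ω _ => r⁻¹ • ω) (fun ω hω => hinv r hr ω hω)
        (fun ω hω => hinv _ (R.inv_mem hr) ω hω) (fun ω _ => inv_smul_smul _ _) (fun ω _ => smul_inv_smul _ _)
        (fun ω _ => rfl)
    let ψ : ↥R →* Multiplicative (ZMod p) :=
      { toFun := fun r => ∏ ω ∈ O₀, c r ω
        map_one' := Finset.prod_eq_one fun ω _ => coc_one hc ω
        map_mul' := fun a b => by
          simp only [Subgroup.coe_mul, hc, Finset.prod_mul_distrib]
          congr 1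
          exact himg b b.2 _ }
    obtain ⟨s, hsR⟩ : ∃ s : S, s ∉ R := by
      by_contra h; push Not at h; exact hRco.1 (top_le_iff.mp fun t _ => h t)
    have hunion : O = (Finset.range p).biUnion (fun i => O₀.image (fun ω => s ^ i • ω)) := by
      ext ω
      rw [Finset.mem_biUnion]
      constructor
      · intro hω
        obtain ⟨t, ht⟩ := (hmemO ω).mp hω
        have hs1 : (s : S ⧸ R) ≠ 1 := fun h => hsR ((QuotientGroup.eq_one_iff s).mp h)
        obtain ⟨i, hi⟩ : ∃ i : ℕ, (s : S ⧸ R) ^ i = (t : S ⧸ R) := by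
          have := mem_zpowers_of_prime_card hcard hs1 (g' := (t : S ⧸ R))
          rwa [← mem_powers_iff_mem_zpowers, Submonoid.mem_powers_iff] at this
        have hi' : (s : S ⧸ R) ^ (i % p) = (t : S ⧸ R) := by
          rw [← hi, ← hcard, pow_mod_natCard]
        rw [← QuotientGroup.mk_pow, QuotientGroup.eq] at hi'
        refine ⟨i % p, Finset.mem_range.mpr (Nat.mod_lt _ hp.out.pos), Finset.mem_image.mpr
          ⟨((s ^ (i % p))⁻¹ * t) • ω₀, ?_, ?_⟩⟩
        · rw [hO₀, Finset.mem_filter]
          exact ⟨(hmemO _).mpr ⟨_, rfl⟩, _, hi', rfl⟩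
        · rw [← mul_smul, mul_inv_cancel_left, ht]
      · rintro ⟨i, -, hi⟩
        obtain ⟨ω', hω', rfl⟩ := Finset.mem_image.mp hi
        obtain ⟨t, rfl⟩ := (hmemO ω').mp (Finset.mem_filter.mp hω').1
        exact (hmemO _).mpr ⟨s ^ i * t, mul_smul _ _ _⟩
    have hdisj : ((Finset.range p : Finset ℕ) : Set ℕ).PairwiseDisjoint
        (fun i => O₀.image (fun ω => s ^ i • ω)) := by
      intro i hi j hj hij
      rw [Function.onFun, Finset.disjoint_left]
      intro ω h1 h2
      obtain ⟨a, ha, rfl⟩ := Finset.mem_image.mp h1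
      obtain ⟨b, hb, hab⟩ := Finset.mem_image.mp h2
      obtain ⟨-, r, hr, rfl⟩ := Finset.mem_filter.mp ha
      obtain ⟨-, r', hr', rfl⟩ := Finset.mem_filter.mp hb
      refine hij ?_
      have hst : (s ^ i * r)⁻¹ * (s ^ j * r') ∈ MulAction.stabilizer S ω₀ := by
        rw [MulAction.mem_stabilizer_iff, mul_smul, inv_smul_eq_iff, mul_smul, mul_smul]
        exact hab
      have hR1 : (s ^ i)⁻¹ * s ^ j ∈ R := by
        have := R.mul_mem (R.mul_mem hr (hStR hst)) (R.inv_mem hr')
        simpa [mul_assoc] using this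
      rw [← QuotientGroup.eq, QuotientGroup.mk_pow, QuotientGroup.mk_pow, pow_eq_pow_iff_modEq,
        hordR s hsR] at hR1
      exact Nat.ModEq.eq_of_lt_of_lt hR1 (Finset.mem_range.mp hi) (Finset.mem_range.mp hj)
    rw [hunion, Finset.prod_biUnion hdisj]
    by_contra hne
    refine hno (CfsgLib.Yoshida.exists_surjective hS R hRidx ψ (x := ⟨x, hxR⟩) hsR ?_)
    intro h1
    refine hne (Eq.trans ?_ h1)
    refine Finset.prod_congr rfl fun i _ => ?_
    rw [Finset.prod_image fun a _ b _ h => MulAction.injective (s ^ i) h]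
    set g := s ^ i
    have hy : g⁻¹ * x * g ∈ R := by simpa using hRn.conj_mem _ hxR g⁻¹
    have h2 : ∀ ω, c x (g • ω) * c g ω = c g ((g⁻¹ * x * g) • ω) * c (g⁻¹ * x * g) ω := by
      intro ω
      rw [← hc, ← hc]
      congr 1
      group
    have h3 := Finset.prod_congr (rfl : O₀ = O₀) fun ω _ => h2 ω
    rw [Finset.prod_mul_distrib, Finset.prod_mul_distrib, himg _ hy (c g), mul_comm] at h3
    rw [mul_left_cancel h3]
    show _ = ∏ ω ∈ O₀, c _ ω
    rw [MulAut.conjNormal_apply, inv_inv]
  · -- `x` lies outside `R`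
    let qx : Y → MulAction.orbitRel.Quotient (Subgroup.zpowers x) Y := Quotient.mk''
    rw [← Finset.prod_fiberwise_of_maps_to (g := qx) (t := O.image qx)
      fun ω hω => Finset.mem_image_of_mem _ hω]
    refine Finset.prod_eq_one fun o' ho' => ?_
    obtain ⟨ω, hω, rfl⟩ := Finset.mem_image.mp ho'
    set n := Function.minimalPeriod (x • ·) ω with hn
    have hxp : IsOfFinOrder x := isOfFinOrder_of_finite x
    have hnpos : 0 < n := by
      refine Function.IsPeriodicPt.minimalPeriod_pos (n := orderOf x) (orderOf_pos x) ?_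
      show (x • ·)^[orderOf x] ω = ω
      simp [smul_iterate, pow_orderOf_eq_one]
    have hfib : (O.filter fun ω' => qx ω' = qx ω) = (Finset.range n).image (fun i => x ^ i • ω) := by
      ext ω'
      rw [Finset.mem_filter, Finset.mem_image]
      constructor
      · rintro ⟨-, h⟩
        obtain ⟨⟨_, ⟨z, rfl⟩⟩, hz⟩ := Quotient.eq''.mp h
        obtain ⟨i, hi⟩ : ∃ i : ℕ, x ^ i = x ^ z := by
          have : x ^ z ∈ Submonoid.powers x := hxp.mem_powers_iff_mem_zpowers.mpr ⟨z, rfl⟩
          exact this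
        refine ⟨i % n, Finset.mem_range.mpr (Nat.mod_lt _ hnpos), ?_⟩
        rw [hn, MulAction.pow_smul_mod_minimalPeriod, hi]
        exact hz
      · rintro ⟨i, -, rfl⟩
        obtain ⟨s, rfl⟩ := (hmemO ω).mp hω
        exact ⟨(hmemO _).mpr ⟨x ^ i * s, mul_smul _ _ _⟩,
          Quotient.eq''.mpr ⟨⟨x ^ i, Subgroup.pow_mem _ (Subgroup.mem_zpowers x) i⟩, rfl⟩⟩
    rw [hfib, Finset.prod_image fun i hi j hj h => ?_]
    swap
    · have h' : (x • ·)^[i] ω = (x • ·)^[j] ω := by rw [smul_iterate, smul_iterate]; exact h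
      exact (Function.iterate_eq_iterate_iff_of_lt_minimalPeriod (Finset.mem_range.mp hi) (Finset.mem_range.mp hj)).mp h'
    rw [← coc_pow hc]
    have hxn : x ^ n • ω = ω := by
      have := Function.isPeriodicPt_minimalPeriod (x • ·) ω
      rw [Function.IsPeriodicPt, Function.IsFixedPt, smul_iterate] at this
      exact this
    refine hmin ω n ?_ hxn
    obtain ⟨t, ht⟩ := (hmemO ω).mp hω
    have hst : t⁻¹ * x ^ n * t ∈ MulAction.stabilizer S ω₀ := by
      rw [MulAction.mem_stabilizer_iff, mul_smul, mul_smul, ht, hxn, ← ht, inv_smul_smul]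
    have hR1 := hRn.conj_mem _ (hStR hst) t
    have hR2 : x ^ n ∈ R := by simpa [mul_assoc] using hR1
    rw [← QuotientGroup.eq_one_iff, QuotientGroup.mk_pow] at hR2
    exact hordR x hxR ▸ orderOf_dvd_of_pow_eq_one hR2

end CfsgLib.YoshidaCocycle
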