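import Cfsg.Agent.Lib.Fusion.Transfer
import Cfsg.Agent.Lib.Fusion.YoshidaCocycle
import Mathlib.GroupTheory.PGroup

/-!
# Yoshida's transfer theorem for fusion systems
-/

set_option autoImplicit false

namespace CfsgLib.Fusion.YoshidaTransfer

open Cfsg Cfsg.FusionSystem CfsgLib.Fusion CfsgLib.Fusion.Marks CfsgLib.Fusion.Twist MulAction

universe u

variable {Ω : Type u} [Group Ω] {S : Subgroup Ω} {F : FusionSystem S} {p : ℕ} [hp : Fact p.Prime]
  (B : StableBiset F p)

/-- The action of `S` on the right orbits. -/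
@[reducible] noncomputable def orbAct : MulAction S B.Orb where
  smul a o := B.perm a o
  one_smul o := (B.perm_one o).1
  mul_smul a b o := (B.perm_mul a b o).1

/-- A correcting element over a fixed orbit is a conjugate. -/
theorem coeff_conj {a : S} {o : B.Orb} (h : B.perm a o = o) :
    orderOf (B.coeff a o) = orderOf a := by
  have hs := B.coeff_spec a o
  rw [h] at hs
  obtain ⟨P, ψ, hψ, φ, hφ, he⟩ := B.isTw_stab (B.pt o)
  obtain ⟨y, hy₁, hy₂⟩ := he.le hs
  rw [← Subgroup.orderOf_coe (B.coeff a o), ← Subgroup.orderOf_coe a]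
  change orderOf ((B.coeff a o : S) : Ω) = _
  have e₁ : (a : Ω) = ψ y := hy₁
  have e₂ : ((B.coeff a o : S) : Ω) = φ y := hy₂
  rw [e₁, e₂, orderOf_injective ψ (F.injective_of_mem hψ), orderOf_injective φ (F.injective_of_mem hφ)]

/-- A homomorphism invariant under the maps with source `S` does not see the correcting elements of
a global fixed orbit. -/
theorem coeff_fixed [Finite S] {A : Type*} [CommGroup A] (h : S →* A)
    (hh : ∀ (φ : S →* Ω) (hφ : φ ∈ F.Hom S) (x : S), h ⟨φ x, apply_mem_S hφ x⟩ = h x)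
    {o : B.Orb} (hfix : ∀ s : S, B.perm s o = o) (x : S) : h (B.coeff x o) = h x := by
  have hstab : ∀ a : S, ((a, B.coeff a o) : ↥S × ↥S) ∈ stabilizer (↥S × ↥S) (B.pt o) := fun a => by
    have hs := B.coeff_spec a o
    rw [hfix a] at hs
    exact hs
  obtain ⟨P, ψ, hψ, φ, hφ, he⟩ := B.isTw_stab (B.pt o)
  have hP : P = S := by
    have := finite_of_le (le_S hψ)
    refine eq_of_le_of_card_le (le_S hψ) ?_
    rw [← card_range hψ]
    have : Finite ψ.range := finite_of_le (range_le_S hψ)
    refine Nat.card_le_card_of_injective (fun a : S => (⟨(a : Ω), ?_⟩ : ψ.range)) fun a b hab =>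
      Subtype.ext (congrArg (fun z : ψ.range => (z : Ω)) hab)
    obtain ⟨y, hy₁, -⟩ := he.le (hstab a)
    exact ⟨y, hy₁.symm⟩
  subst hP
  obtain ⟨y, hy₁, hy₂⟩ := he.le (hstab x)
  rw [show x = ⟨ψ y, apply_mem_S hψ y⟩ from Subtype.ext hy₁] at *
  rw [show B.coeff ⟨ψ y, apply_mem_S hψ y⟩ o = ⟨φ y, apply_mem_S hφ y⟩ from Subtype.ext hy₂,
    hh φ hφ y, hh ψ hψ y]

/-- Without a wreath quotient, the transfer of an invariant character is nontrivial. -/
theorem transfer_ne_one [Finite S] (hS : IsPGroup p S)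
    (hno : ¬ ∃ (W : Sylow p (Equiv.Perm (Fin (p ^ 2))))
      (f : ↥S →* ↥(W : Subgroup (Equiv.Perm (Fin (p ^ 2))))), Function.Surjective f)
    (lam : S →* Multiplicative (ZMod p))
    (hh : ∀ (φ : S →* Ω) (hφ : φ ∈ F.Hom S) (x : S), lam ⟨φ x, apply_mem_S hφ x⟩ = lam x)
    (hne : lam ≠ 1) : B.transfer lam ≠ 1 := by
  classical
  letI := orbAct B
  letI := Fintype.ofFinite B.Orb
  have hex : ∃ n, ∃ y : S, lam y ≠ 1 ∧ orderOf y = n := by
    obtain ⟨y, hy⟩ : ∃ y, lam y ≠ 1 := by
      by_contra h; push Not at h; exact hne (MonoidHom.ext h)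
    exact ⟨_, y, hy, rfl⟩
  obtain ⟨x, hxlam, hxord⟩ := Nat.find_spec hex
  have hx1 : x ≠ 1 := fun h => hxlam (by rw [h, map_one])
  have hmin : ∀ (y : B.Orb) (n : ℕ), p ∣ n → x ^ n • y = y → lam (B.coeff (x ^ n) y) = 1 := by
    intro y n hn hy
    by_contra hcon
    have hle := Nat.find_min' hex ⟨_, hcon, rfl⟩
    rw [coeff_conj B hy, ← hxord] at hle
    obtain ⟨d, rfl⟩ := hn
    rw [pow_mul] at hle
    have h1 : orderOf ((x ^ p) ^ d) ≤ orderOf (x ^ p) :=
      Nat.le_of_dvd (orderOf_pos _) (orderOf_pow_dvd d)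
    obtain ⟨k, hk⟩ := IsPGroup.iff_orderOf.mp hS x
    have hdvd : p ∣ orderOf x := by
      rcases k with _ | k
      · exact absurd (orderOf_eq_one_iff.mp (by rw [hk, pow_zero])) hx1
      · exact hk ▸ dvd_pow_self p k.succ_ne_zero
    have h2 : orderOf (x ^ p) = orderOf x / p := orderOf_pow_of_dvd hp.out.ne_zero hdvd
    have h3 : orderOf x / p < orderOf x := Nat.div_lt_self (orderOf_pos x) hp.out.one_lt
    omega
  intro h1
  have h2 : B.transfer lam x = 1 := by rw [h1]; rfl
  rw [B.transfer_apply,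
    ← Finset.prod_filter_mul_prod_filter_not Finset.univ (fun o => ∀ s : S, s • o = o),
    CfsgLib.YoshidaCocycle.prod_moved_eq_one (c := fun a o => lam (B.coeff a o)) hS hno
      (fun a b o => by
        show lam (B.coeff (a * b) o) = _
        rw [(B.perm_mul a b o).2, map_mul]
        rfl) x hmin,
    mul_one] at h2
  have hf : ∀ o ∈ Finset.univ.filter (fun o : B.Orb => ∀ s : S, s • o = o),
      lam (B.coeff x o) = lam x := fun o ho => coeff_fixed B lam hh (Finset.mem_filter.mp ho).2 x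
  rw [Finset.prod_congr rfl hf, Finset.prod_const] at h2
  have hk : ¬ p ∣ (Finset.univ.filter fun o : B.Orb => ∀ s : S, s • o = o).card := by
    intro hd
    refine B.not_dvd_card_orb ?_
    have hmod := hS.card_modEq_card_fixedPoints B.Orb
    have he : Nat.card (fixedPoints S B.Orb) = (Finset.univ.filter fun o : B.Orb => ∀ s : S, s • o = o).card := by
      rw [Nat.card_coe_set_eq, ← Set.ncard_coe_finset]
      congr 1
      ext o
      simp [MulAction.mem_fixedPoints]
    rw [he] at hmod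
    exact (Nat.ModEq.dvd_iff hmod dvd_rfl).mpr hd
  have hord : orderOf (lam x) = p := by
    have h := orderOf_dvd_natCard (lam x)
    rw [show Nat.card (Multiplicative (ZMod p)) = p from Nat.card_zmod p] at h
    rcases (Nat.dvd_prime hp.out).mp h with h | h
    · exact absurd (orderOf_eq_one_iff.mp h) hxlam
    · exact h
  have h5 := orderOf_dvd_of_pow_eq_one h2
  rw [hord] at h5
  exact hk h5

theorem exists_wreath {Ω : Type*} [Group Ω] {S : Subgroup Ω} [Finite S] (p : ℕ) [Fact p.Prime]
    (hS : IsPGroup p S) (F : FusionSystem S) (hF : F.IsSaturated p)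
    (N : FusionSystem (normalizerIn S S)) (hN : F.IsNormalizerSystem S N)
    (hne : N.focalSubgroup ≠ F.focalSubgroup) :
    ∃ (W : Sylow p (Equiv.Perm (Fin (p ^ 2)))) (f : ↥S →* ↥(W : Subgroup (Equiv.Perm (Fin (p ^ 2))))),
      Function.Surjective f := by
  by_contra hno
  apply hne
  obtain ⟨B⟩ := exists_biset hS hF
  have hsub : ∀ (P : Subgroup Ω), N.Hom P ⊆ F.Hom P := fun P φ hφ => ((hN P).le hφ).1
  have hNF : N.focalSubgroup ≤ F.focalSubgroup := by
    rw [FusionSystem.focalSubgroup, FusionSystem.focalSubgroup, Subgroup.closure_le]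
    rintro _ ⟨P, φ, x, hφ, rfl⟩
    exact Subgroup.subset_closure ⟨P, φ, x, hsub P hφ, rfl⟩
  have hnorm : normalizerIn S S = S := le_antisymm inf_le_left (le_inf le_rfl Subgroup.le_normalizer)
  have hfoc : ∀ (φ : S →* Ω), φ ∈ F.Hom S → ∀ x : S, (x : Ω)⁻¹ * φ x ∈ N.focalSubgroup := by
    intro φ hφ x
    refine Subgroup.subset_closure ⟨S, φ, x, (hN S).ge ⟨hφ, hnorm.ge, fun y => hnorm.ge (apply_mem_S hφ y), ?_⟩, rfl⟩
    let ι : ↥(S ⊔ S) →* ↥S := Subgroup.inclusion (sup_le le_rfl le_rfl)
    refine ⟨φ.comp ι, restrict_of (sup_le le_rfl le_rfl) hφ fun z => rfl, fun y => ?_, ?_⟩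
    · exact apply_eq_of_coe_eq rfl
    · have hfin : Finite (S ⊔ S : Subgroup Ω) := finite_of_le (sup_le le_rfl le_rfl)
      apply eq_of_le_of_card_le
      · rintro _ ⟨z, -, rfl⟩
        exact apply_mem_S hφ (ι z)
      · have : Finite ((S.subgroupOf (S ⊔ S)).map (φ.comp ι)) :=
          Finite.of_surjective (fun z : S.subgroupOf (S ⊔ S) =>
            (⟨_, z, z.2, rfl⟩ : (S.subgroupOf (S ⊔ S)).map (φ.comp ι))) fun w => by
              obtain ⟨z, hz, hz'⟩ := w.2
              exact ⟨⟨z, hz⟩, Subtype.ext hz'⟩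
        refine Nat.card_le_card_of_injective (α := S)
          (fun y => ⟨φ y, ⟨(y : Ω), le_sup_left (b := S) y.2⟩, y.2, apply_eq_of_coe_eq rfl⟩) fun a b hab =>
          F.injective_of_mem hφ (congrArg Subtype.val hab)
  set K := N.focalSubgroup.subgroupOf S with hK
  have hcomm : ∀ a b : S, a * b * a⁻¹ * b⁻¹ ∈ K := by
    intro a b
    have h := hfoc _ (F.conj_mem (le_refl S) a.2) b⁻¹
    rw [hK, Subgroup.mem_subgroupOf]
    have e : ((b⁻¹ : S) : Ω)⁻¹ * (conjHom S (a : Ω)) b⁻¹ = ((b * a * b⁻¹ * a⁻¹ : S) : Ω) := by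
      show _ * ((a : Ω) * _ * (a : Ω)⁻¹) = _
      simp [mul_assoc]
    rw [e] at h
    have h2 := N.focalSubgroup.inv_mem h
    rwa [show ((b * a * b⁻¹ * a⁻¹ : S) : Ω)⁻¹ = ((a * b * a⁻¹ * b⁻¹ : S) : Ω) by simp [mul_assoc]] at h2
  haveI hKn : K.Normal := ⟨fun n hn g => by
    have := K.mul_mem (hcomm g n) hn
    simpa using this⟩
  letI : CommGroup (S ⧸ K) :=
    { (inferInstance : Group (S ⧸ K)) with
      mul_comm := fun u v => by
        induction u using QuotientGroup.induction_on with
        | H a =>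
          induction v using QuotientGroup.induction_on with
          | H b =>
            rw [← QuotientGroup.mk_mul, ← QuotientGroup.mk_mul, QuotientGroup.eq]
            have := hcomm b⁻¹ a⁻¹
            simpa [mul_assoc] using this }
  let π : S →* S ⧸ K := QuotientGroup.mk' K
  have hπinv : ∀ (φ : S →* Ω) (hφ : φ ∈ F.Hom S) (x : S), π ⟨φ x, apply_mem_S hφ x⟩ = π x := by
    intro φ hφ x
    refine (QuotientGroup.eq.mpr ?_).symm
    rw [hK, Subgroup.mem_subgroupOf]
    exact hfoc φ hφ x
  let v := B.transfer π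
  have hvtop : v.range = ⊤ := by
    by_contra hlt
    obtain ⟨M, hM, hvM⟩ := (eq_top_or_exists_le_coatom v.range).resolve_left hlt
    have hAp : IsPGroup p (S ⧸ K) := hS.to_quotient K
    haveI : M.Normal := ⟨fun n hn g => by rwa [mul_comm g n, mul_inv_cancel_right]⟩
    have hMp : Nat.card ((S ⧸ K) ⧸ M) = p := by
      haveI : Nontrivial ((S ⧸ K) ⧸ M) :=
        not_subsingleton_iff_nontrivial.mp fun h => hM.1 (QuotientGroup.subsingleton_iff.mp h)
      haveI : IsSimpleGroup ((S ⧸ K) ⧸ M) := by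
        refine ⟨fun H _ => ?_⟩
        rcases hM.le_iff.mp (show M ≤ H.comap (QuotientGroup.mk' M) from fun r hr => by
          rw [Subgroup.mem_comap, QuotientGroup.mk'_apply, (QuotientGroup.eq_one_iff r).mpr hr]
          exact H.one_mem) with h | h
        · exact Or.inr (by rw [← Subgroup.map_comap_eq_self_of_surjective (QuotientGroup.mk'_surjective M) H, h,
            Subgroup.map_top_of_surjective _ (QuotientGroup.mk'_surjective M)])
        · exact Or.inl (by rw [← Subgroup.map_comap_eq_self_of_surjective (QuotientGroup.mk'_surjective M) H, h,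
            QuotientGroup.map_mk'_self])
      obtain ⟨k, hk⟩ := IsPGroup.index hAp M
      have hprime : (Nat.card ((S ⧸ K) ⧸ M)).Prime := IsSimpleGroup.prime_card
      rw [← Subgroup.index_eq_card, hk] at hprime ⊢
      have hk1 : k = 1 := by by_contra h; exact Nat.Prime.not_prime_pow' h hprime
      rw [hk1, pow_one]
    let e : ((S ⧸ K) ⧸ M) ≃* Multiplicative (ZMod p) := mulEquivOfPrimeCardEq hMp (by simp)
    let χ : S ⧸ K →* Multiplicative (ZMod p) := e.toMonoidHom.comp (QuotientGroup.mk' M)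
    have hχ : ∀ u, χ u = 1 ↔ u ∈ M := fun u =>
      ⟨fun h => (QuotientGroup.eq_one_iff u).mp (e.injective (h.trans (map_one e).symm)),
        fun h => by
          show e (u : (S ⧸ K) ⧸ M) = 1
          rw [(QuotientGroup.eq_one_iff u).mpr h, map_one]⟩
    refine transfer_ne_one B hS hno (χ.comp π) (fun φ hφ x => ?_) (fun h => hM.1 ?_) ?_
    · show χ (π _) = χ (π x)
      rw [hπinv φ hφ x]
    · refine top_le_iff.mp fun u _ => ?_
      obtain ⟨s, rfl⟩ := QuotientGroup.mk'_surjective K u
      exact (hχ _).mp (DFunLike.congr_fun h s)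
    · refine MonoidHom.ext fun a => ?_
      let _ := Fintype.ofFinite B.Orb
      have hm : χ (v a) = 1 := (hχ _).mpr (hvM ⟨a, rfl⟩)
      change χ (B.transfer π a) = 1 at hm
      rw [B.transfer_apply, map_prod] at hm
      rw [B.transfer_apply]
      exact hm
  have hle : F.focalSubgroup.subgroupOf S ≤ v.ker := B.focalSubgroup_subgroupOf_le_ker π
  have hKle : K ≤ F.focalSubgroup.subgroupOf S := fun x hx => hNF hx
  have hidx : v.ker.index = K.index := by
    rw [Subgroup.index_ker, hvtop, Subgroup.card_top, Subgroup.index_eq_card]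
  have hKF : K = F.focalSubgroup.subgroupOf S := by
    refine le_antisymm hKle fun x hx => ?_
    have h1 : K ≤ v.ker := hKle.trans hle
    have h2 := Subgroup.relIndex_mul_index h1
    have h3 : 0 < K.index := Nat.pos_of_ne_zero Subgroup.index_ne_zero_of_finite
    rw [hidx] at h2
    have h4 : K.relIndex v.ker = 1 := by
      have := Nat.mul_right_cancel h3 (h2.trans (one_mul _).symm)
      exact this
    exact Subgroup.relIndex_eq_one.mp h4 (hle hx)
  have h1 : N.focalSubgroup ≤ S := hNF.trans (StableBiset.focalSubgroup_le F)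
  refine le_antisymm hNF fun y hy => ?_
  exact hKF.ge (x := ⟨y, StableBiset.focalSubgroup_le F hy⟩) hy

end CfsgLib.Fusion.YoshidaTransfer
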