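import Cfsg.Prelude.Def_CaseTheorems
import Cfsg.Agent.Lib.Fusion.Group
import Cfsg.Agent.Lib.Fusion.Ext
import Cfsg.Agent.Lib.FusionNormal.TransferCentral
import Cfsg.Agent.Lib.PCore.Basic
import Mathlib.GroupTheory.SchurZassenhaus

/-!
# The centre of the 2-fusion system, given Glauberman's theorem for involutions
-/

namespace CfsgLib.Fusion

open Cfsg Cfsg.FusionSystem

universe u

/-- Glauberman's theorem for involutions (statement S0215), as an input. -/
def ZStarForInvolutions : Prop :=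
  ∀ (G : Type u) [Group G] [Finite G] (P : Sylow 2 G) (u : G), orderOf u = 2 → u ∈ P →
    (∀ g : G, g * u * g⁻¹ ∈ P → g * u * g⁻¹ = u) →
    ∃ N : Subgroup G, N.Normal ∧ Odd (Nat.card N) ∧ ∀ g : G, (u * g * u⁻¹ * g⁻¹) ∈ N

variable {G : Type u} [Group G] [Finite G]

/-- Every power of `x` is the only one of its conjugates in `S`. -/
def PowersIsolated (S : Sylow 2 G) (x : G) : Prop :=
  x ∈ (S : Subgroup G) ∧ ∀ (k : ℕ) (g : G), g * x ^ k * g⁻¹ ∈ (S : Subgroup G) → g * x ^ k * g⁻¹ = x ^ k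

theorem PowersIsolated.pow {S : Sylow 2 G} {x : G} (hx : PowersIsolated S x) (m : ℕ) :
    PowersIsolated S (x ^ m) :=
  ⟨(S : Subgroup G).pow_mem hx.1 m, fun k g hg => by rw [← pow_mul] at hg ⊢; exact hx.2 _ g hg⟩

/-- Isolation passes to quotients by a subgroup that fixes it. -/
theorem PowersIsolated.map {S : Sylow 2 G} {x : G} (hx : PowersIsolated S x) (N : Subgroup G) [N.Normal] :
    PowersIsolated (S.mapSurjective (QuotientGroup.mk'_surjective N)) (QuotientGroup.mk' N x) := by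
  refine ⟨⟨x, hx.1, rfl⟩, fun k g hg => ?_⟩
  obtain ⟨g, rfl⟩ := QuotientGroup.mk'_surjective N g
  rw [← map_pow, ← map_inv, ← map_mul, ← map_mul] at hg
  have hsup : g * x ^ k * g⁻¹ ∈ (S : Subgroup G) ⊔ N := by
    obtain ⟨s, hs, hse⟩ := hg
    have hm : s⁻¹ * (g * x ^ k * g⁻¹) ∈ N :=
      (QuotientGroup.eq).mp hse
    have := Subgroup.mul_mem ((S : Subgroup G) ⊔ N) (Subgroup.mem_sup_left hs) (Subgroup.mem_sup_right hm)
    rwa [mul_inv_cancel_left] at this
  obtain ⟨c, hc, hcX⟩ := exists_conj_into (p := 2) (K := (S : Subgroup G) ⊔ N)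
    (X := Subgroup.zpowers (g * x ^ k * g⁻¹)) (Y := (S : Subgroup G)) (Subgroup.zpowers_le.mpr hsup)
    (by
      have h1 : IsPGroup 2 (Subgroup.zpowers (x ^ k)) :=
        S.2.to_le (Subgroup.zpowers_le.mpr ((S : Subgroup G).pow_mem hx.1 k))
      have h2 := h1.map (MulAut.conj g).toMonoidHom
      rwa [MonoidHom.map_zpowers] at h2)
    le_sup_left (by
      refine le_antisymm (card_le_sylowCard le_sup_left S.2) ?_
      rw [S.card_eq_multiplicity]
      exact Nat.pow_le_pow_right (by norm_num)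
        ((Nat.factorization_le_iff_dvd Nat.card_pos.ne' Nat.card_pos.ne').mpr
          (Subgroup.card_subgroup_dvd_card _) 2))
  have h3 := hx.2 k (c * g) (by
    have := hcX _ (Subgroup.mem_zpowers _)
    simpa [mul_assoc] using this)
  rw [Subgroup.mem_sup_of_normal_right] at hc
  obtain ⟨s, hs, o, ho, rfl⟩ := hc
  -- `s` centralizes the isolated element
  have hsx : s⁻¹ * x ^ k * s⁻¹⁻¹ = x ^ k := hx.2 k s⁻¹ ((S : Subgroup G).mul_mem ((S : Subgroup G).mul_mem
    ((S : Subgroup G).inv_mem hs) ((S : Subgroup G).pow_mem hx.1 k)) ((S : Subgroup G).inv_mem ((S : Subgroup G).inv_mem hs)))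
  have e : o * (g * x ^ k * g⁻¹) * o⁻¹ = x ^ k := by
    calc o * (g * x ^ k * g⁻¹) * o⁻¹ = s⁻¹ * (s * o * g * x ^ k * (s * o * g)⁻¹) * s⁻¹⁻¹ := by group
      _ = x ^ k := by rw [h3, hsx]
  have ho' : QuotientGroup.mk' N o = 1 := (QuotientGroup.eq_one_iff o).mpr ho
  have := congrArg (QuotientGroup.mk' N) e
  simp only [map_mul, map_inv, map_pow, ho', one_mul, inv_one, mul_one] at this
  simpa [map_mul, map_inv, map_pow] using this

theorem coprime_of_odd {n : ℕ} (h : Odd n) : n.Coprime 2 := Nat.coprime_two_right.mpr h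

/-- With trivial odd core, isolated elements are central. -/
theorem mem_center_of_powersIsolated (hZ : ZStarForInvolutions.{u}) :
    ∀ (n : ℕ) (G : Type u) [Group G] [Finite G] (S : Sylow 2 G) (x : G), PowersIsolated S x →
      x ^ 2 ^ n = 1 → pPrimeCore 2 G = ⊥ → x ∈ Subgroup.center G := by
  intro n
  induction n with
  | zero =>
    intro G _ _ S x _ hx _
    rw [pow_zero, pow_one] at hx
    rw [hx]; exact Subgroup.one_mem _
  | succ n ih =>
  intro G _ _ S x hx hord hO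
  set u := x ^ 2 ^ n with hu
  by_cases hu1 : u = 1
  · exact ih G S x hx hu1 hO
  have hu2 : orderOf u = 2 := orderOf_eq_prime (by rw [hu, ← pow_mul, ← pow_succ]; exact hord) hu1
  have hui := hx.pow (2 ^ n)
  obtain ⟨N, hN, hNodd, hNc⟩ := hZ G S u hu2 hui.1
    fun g hg => by simpa [hu] using hui.2 1 g (by rw [pow_one, ← hu]; exact hg)
  have hNb : N = ⊥ := le_bot_iff.mp (hO ▸ CfsgLib.PCore.le_pPrimeCore hN (coprime_of_odd hNodd))
  have huc : u ∈ Subgroup.center G := Subgroup.mem_center_iff.mpr fun g => by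
    have h1 : u * g * u⁻¹ * g⁻¹ = 1 := Subgroup.mem_bot.mp (hNb ▸ hNc g)
    rw [mul_inv_eq_one, mul_inv_eq_iff_eq_mul] at h1
    exact h1.symm
  set U := Subgroup.zpowers u with hU
  have hUc : U ≤ Subgroup.center G := Subgroup.zpowers_le.mpr huc
  haveI : U.Normal := ⟨fun y hy g => by
    rw [(Subgroup.mem_center_iff.mp (hUc hy) g), mul_inv_cancel_right]; exact hy⟩
  have hUcard : Nat.card U = 2 := by rw [hU, Nat.card_zpowers, hu2]
  set π := QuotientGroup.mk' U
  -- the quotient has trivial odd core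
  have hO' : pPrimeCore 2 (G ⧸ U) = ⊥ := by
    set M := (pPrimeCore 2 (G ⧸ U)).comap π
    haveI hMn : M.Normal := (pPrimeCore_normal 2 (G ⧸ U)).comap π
    have hUM : U ≤ M := fun y hy => by
      refine Subgroup.mem_comap.mpr ?_
      rw [show π y = 1 from (QuotientGroup.eq_one_iff y).mpr hy]; exact Subgroup.one_mem _
    have hMcard : Nat.card M = 2 * Nat.card (pPrimeCore 2 (G ⧸ U)) := by
      rw [CfsgLib.PCore.card_comap_mk', hUcard]
    have hidx : (U.subgroupOf M).index = Nat.card (pPrimeCore 2 (G ⧸ U)) := by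
      have h1 := (U.subgroupOf M).card_mul_index
      rw [Nat.card_congr (Subgroup.subgroupOfEquivOfLe hUM).toEquiv, hUcard, hMcard] at h1
      exact Nat.eq_of_mul_eq_mul_left two_pos h1
    obtain ⟨C, hC⟩ := Subgroup.exists_right_complement'_of_coprime (N := U.subgroupOf M) (by
      rw [hidx, Nat.card_congr (Subgroup.subgroupOfEquivOfLe hUM).toEquiv, hUcard]
      exact CfsgLib.PCore.pPrimeCore_coprime.symm)
    have hCn : C.Normal := by
      refine ⟨fun c hc m => ?_⟩
      obtain ⟨⟨⟨a, ha⟩, ⟨b, hb⟩⟩, hab, -⟩ := (Subgroup.isComplement_iff_existsUnique.mp hC) m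
      have hac : a * (b * c * b⁻¹) * a⁻¹ = b * c * b⁻¹ := Subtype.ext (by
        have := Subgroup.mem_center_iff.mp (hUc (show (a : G) ∈ U from ha)) ((b * c * b⁻¹ : M) : G)
        simp only [Subgroup.coe_mul, Subgroup.coe_inv] at this ⊢
        rw [← this, mul_inv_cancel_right])
      have e : m * c * m⁻¹ = a * (b * c * b⁻¹) * a⁻¹ := by
        rw [show m = a * b from hab.symm]; group
      rw [e, hac]
      exact C.mul_mem (C.mul_mem hb hc) (C.inv_mem hb)
    have hCcard : (Nat.card C).Coprime 2 := by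
      have h1 : (U.subgroupOf M).index = Nat.card C := hC.symm.index_eq_card
      rw [← h1, hidx]; exact CfsgLib.PCore.pPrimeCore_coprime
    have hCb : C = ⊥ := by
      have h1 : C.map M.subtype ≤ pPrimeCore 2 G :=
        (Subgroup.map_mono (CfsgLib.PCore.le_pPrimeCore hCn hCcard)).trans
          (by rw [CfsgLib.PCore.map_pPrimeCore_subtype_of_normal]; exact inf_le_right)
      rw [hO, le_bot_iff, Subgroup.map_eq_bot_iff_of_injective _ M.subtype_injective] at h1
      exact h1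
    have h2 : Nat.card (pPrimeCore 2 (G ⧸ U)) = 1 := by
      rw [← hidx, hC.symm.index_eq_card, hCb, Subgroup.card_bot]
    exact Subgroup.card_eq_one.mp h2
  have hxq := ih (G ⧸ U) _ (π x) (hx.map U)
    (by rw [← map_pow]; exact (QuotientGroup.eq_one_iff _).mpr (Subgroup.mem_zpowers u)) hO'
  have hcomm : ∀ g : G, g * x * g⁻¹ * x⁻¹ ∈ U := fun g => by
    rw [← QuotientGroup.eq_one_iff, ← QuotientGroup.mk'_apply, map_mul, map_mul, map_mul, map_inv, map_inv,
      Subgroup.mem_center_iff.mp hxq (π g), mul_inv_cancel_right, mul_inv_cancel]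
  let f : G →* U :=
    { toFun := fun g => ⟨g * x * g⁻¹ * x⁻¹, hcomm g⟩
      map_one' := Subtype.ext (by simp)
      map_mul' := fun a b => Subtype.ext (by
        have hb := Subgroup.mem_center_iff.mp (hUc (hcomm b)) a
        calc a * b * x * (a * b)⁻¹ * x⁻¹ = a * (b * x * b⁻¹ * x⁻¹) * (x * a⁻¹ * x⁻¹) := by group
          _ = (b * x * b⁻¹ * x⁻¹) * a * (x * a⁻¹ * x⁻¹) := by rw [hb]
          _ = (b * x * b⁻¹ * x⁻¹) * (a * x * a⁻¹ * x⁻¹) := by group
          _ = (a * x * a⁻¹ * x⁻¹) * (b * x * b⁻¹ * x⁻¹) :=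
            (Subgroup.mem_center_iff.mp (hUc (hcomm b)) _).symm) }
  have hSker : (S : Subgroup G) ≤ f.ker := fun s hs => by
    refine Subtype.ext ?_
    show s * x * s⁻¹ * x⁻¹ = 1
    have := hx.2 1 s (by rw [pow_one]; exact
      (S : Subgroup G).mul_mem ((S : Subgroup G).mul_mem hs hx.1) ((S : Subgroup G).inv_mem hs))
    rw [pow_one] at this
    rw [this, mul_inv_cancel]
  have hidx : f.ker.index = 1 := by
    refine Nat.eq_one_of_dvd_coprimes (coprime_of_odd ?_) (Subgroup.index_dvd_of_le hSker)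
      (by rw [Subgroup.index_ker, ← hUcard]; exact Subgroup.card_subgroup_dvd_card _)
    exact Nat.not_even_iff_odd.mp fun h => S.not_dvd_index (even_iff_two_dvd.mp h)
  refine Subgroup.mem_center_iff.mpr fun g => ?_
  have h1 : g ∈ f.ker := by rw [Subgroup.index_eq_one.mp hidx]; exact Subgroup.mem_top g
  have h2 : g * x * g⁻¹ * x⁻¹ = 1 := congrArg Subtype.val (MonoidHom.mem_ker.mp h1)
  rw [mul_inv_eq_one, mul_inv_eq_iff_eq_mul] at h2
  exact h2

/-- The centre of the 2-fusion system consists of the elements of `S` central modulo `O(G)`. -/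
theorem center_eq_zstar (hZ : ZStarForInvolutions.{u}) (S : Sylow 2 G) :
    (groupFusionSystem (S : Subgroup G)).center =
      (S : Subgroup G) ⊓ (Subgroup.center (G ⧸ oddCore G)).comap (QuotientGroup.mk' (oddCore G)) := by
  set F := groupFusionSystem (S : Subgroup G)
  set O := oddCore G with hO
  set π := QuotientGroup.mk' O
  have hOodd : (Nat.card O).Coprime 2 := CfsgLib.PCore.pPrimeCore_coprime
  have hSO : (S : Subgroup G) ⊓ O = ⊥ := CfsgLib.PCore.inf_eq_bot_of_isPGroup_coprime S.2 hOodd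
  apply le_antisymm
  · intro x hx
    have hcs := (FusionExt.isCentral_center F).1
    have hfix : ∀ y ∈ F.center, ∀ g : G, g * y * g⁻¹ ∈ (S : Subgroup G) → g * y * g⁻¹ = y := by
      intro y hy g hg
      exact FusionNormal.center_fixed (φ := conjHom (Subgroup.zpowers y) g)
        (group_conjHom_mem (Subgroup.zpowers_le.mpr (hcs hy)) fun z hz => by
          obtain ⟨j, rfl⟩ := Subgroup.mem_zpowers_iff.mp hz
          rw [← conj_zpow]; exact (S : Subgroup G).zpow_mem hg j) ⟨y, Subgroup.mem_zpowers y⟩ hy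
    refine ⟨hcs hx, ?_⟩
    have hxi : PowersIsolated S x := ⟨hcs hx, fun k => hfix _ (F.center.pow_mem hx k)⟩
    obtain ⟨n, hn⟩ := S.2 ⟨x, hcs hx⟩
    exact mem_center_of_powersIsolated hZ n (G ⧸ O) _ (π x) (hxi.map O)
      (by rw [← map_pow, show x ^ 2 ^ n = 1 from congrArg Subtype.val hn, map_one])
      CfsgLib.PCore.pPrimeCore_quotient_pPrimeCore
  set Q := (S : Subgroup G) ⊓ (Subgroup.center (G ⧸ O)).comap π with hQ
  have hmod : ∀ x ∈ Q, ∀ g : G, π (g * x * g⁻¹) = π x := fun x hx g => by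
    rw [map_mul, map_mul, map_inv, Subgroup.mem_center_iff.mp hx.2 (π g), mul_inv_cancel_right]
  have heq : ∀ x ∈ Q, ∀ y ∈ Q, π x = π y → x = y := fun x hx y hy h => by
    have h1 : x⁻¹ * y ∈ (S : Subgroup G) ⊓ O :=
      ⟨(S : Subgroup G).mul_mem ((S : Subgroup G).inv_mem hx.1) hy.1, (QuotientGroup.eq).mp h⟩
    rw [hSO, Subgroup.mem_bot] at h1
    exact (inv_mul_eq_one.mp h1)
  refine le_sSup ⟨inf_le_left, fun P φ hφ => ?_⟩
  obtain ⟨hP, hφS, g, hg⟩ := hφ
  -- `Q` is central in `S`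
  have hQS : ∀ x ∈ Q, ∀ s ∈ (S : Subgroup G), s * x * s⁻¹ = x := fun x hx s hs => by
    refine heq _ ⟨(S : Subgroup G).mul_mem ((S : Subgroup G).mul_mem hs hx.1) ((S : Subgroup G).inv_mem hs),
      Subgroup.mem_comap.mpr ((hmod x hx s).symm ▸ Subgroup.mem_comap.mp hx.2)⟩ x hx (hmod x hx s)
  set P' := P.map (MulAut.conj g).toMonoidHom
  set W := Subgroup.centralizer (P' : Set G) ⊓ (Q ⊔ O)
  have hQW : Q ≤ W := by
    refine le_inf (fun x hx => ?_) le_sup_left
    rintro _ ⟨y, hy, rfl⟩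
    exact (mul_inv_eq_iff_eq_mul.mp (hQS x hx _ (show g * y * g⁻¹ ∈ (S : Subgroup G) by
      rw [← hg ⟨y, hy⟩]; exact hφS _)))
  have hgQW : Q.map (MulAut.conj g).toMonoidHom ≤ W := by
    rintro _ ⟨x, hx, rfl⟩
    refine ⟨?_, ?_⟩
    · rintro _ ⟨y, hy, rfl⟩
      have h1 := mul_inv_eq_iff_eq_mul.mp (hQS x hx y (hP hy))
      show g * y * g⁻¹ * (g * x * g⁻¹) = g * x * g⁻¹ * (g * y * g⁻¹)
      calc g * y * g⁻¹ * (g * x * g⁻¹) = g * (y * x) * g⁻¹ := by group
        _ = g * (x * y) * g⁻¹ := by rw [h1]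
        _ = _ := by group
    · have h1 : x⁻¹ * (g * x * g⁻¹) ∈ O := (QuotientGroup.eq).mp (hmod x hx g).symm
      have := Subgroup.mul_mem (Q ⊔ O) (Subgroup.mem_sup_left hx) (Subgroup.mem_sup_right h1)
      rwa [mul_inv_cancel_left] at this
  have hQp : IsPGroup 2 Q := S.2.to_le inf_le_left
  have hcard : Nat.card Q = 2 ^ (Nat.card W).factorization 2 := by
    refine le_antisymm (card_le_sylowCard hQW hQp) ?_
    have h1 : Nat.card W ∣ Nat.card O * Nat.card Q := by
      refine (Subgroup.card_dvd_of_le (inf_le_right : W ≤ Q ⊔ O)).trans ?_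
      rw [sup_comm]
      haveI : O.Normal := pPrimeCore_normal 2 G
      exact CfsgLib.PCore.card_sup_dvd_mul O Q
    have h2 := (Nat.factorization_le_iff_dvd Nat.card_pos.ne'
      (Nat.mul_ne_zero Nat.card_pos.ne' Nat.card_pos.ne')).mpr h1 2
    obtain ⟨m, hm⟩ := IsPGroup.iff_card.mp hQp
    rw [Nat.factorization_mul Nat.card_pos.ne' Nat.card_pos.ne', Finsupp.add_apply, hm,
      Nat.Prime.factorization_pow Nat.prime_two, Finsupp.single_eq_same,
      Nat.factorization_eq_zero_of_not_dvd (n := Nat.card O) (fun hd => by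
        have := Nat.eq_one_of_dvd_coprimes hOodd hd dvd_rfl
        omega), zero_add] at h2
    rw [hm]
    exact Nat.pow_le_pow_right two_pos h2
  obtain ⟨c, hc, hcQ⟩ := exists_conj_into (p := 2) hgQW (hQp.map _) hQW hcard
  have hfixQ : ∀ x ∈ Q, c * g * x * (c * g)⁻¹ = x := fun x hx => by
    refine heq _ ?_ x hx (hmod x hx _)
    have h1 := hcQ (g * x * g⁻¹) ⟨x, hx, rfl⟩
    rwa [show c * (g * x * g⁻¹) * c⁻¹ = c * g * x * (c * g)⁻¹ by group] at h1
  have hfixP : ∀ x : P, c * g * (x : G) * (c * g)⁻¹ = φ x := fun x => by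
    have h1 := Subgroup.mem_centralizer_iff.mp hc.1 (g * x * g⁻¹) ⟨x, x.2, rfl⟩
    rw [hg]
    calc c * g * (x : G) * (c * g)⁻¹ = c * (g * x * g⁻¹) * c⁻¹ := by group
      _ = g * x * g⁻¹ := by rw [← h1, mul_inv_cancel_right]
  refine ⟨conjHom _ (c * g), group_conjHom_mem (sup_le hP inf_le_left) ?_, fun x => hfixP x,
    fun x => hfixQ x x.2⟩
  have hle : P ⊔ Q ≤ (S : Subgroup G).comap (MulAut.conj (c * g)).toMonoidHom :=
    sup_le (fun x hx => by show c * g * x * (c * g)⁻¹ ∈ (S : Subgroup G); rw [hfixP ⟨x, hx⟩]; exact hφS _)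
      (fun x hx => by show c * g * x * (c * g)⁻¹ ∈ (S : Subgroup G); rw [hfixQ x hx]; exact hx.1)
  exact fun x hx => hle hx

end CfsgLib.Fusion
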